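import Cfsg.Agent.Lib.Char.ZStar

/-!
# Consequences of Glauberman's theorem for quaternion Sylow 2-subgroups
-/

set_option autoImplicit false
set_option linter.unusedSectionVars false

namespace Cfsg.Agent.Char

open Cfsg QuaternionGroup

universe u

variable {G : Type u} [Group G] [Finite G]

/-- The square roots of one in a quaternion group. -/
theorem quat_invol {N : ℕ} [NeZero N] {p q : QuaternionGroup N} (hp : p * p = 1) (hp1 : p ≠ 1)
    (hq : q * q = 1) (hq1 : q ≠ 1) : p = q := by
  have key : ∀ r : QuaternionGroup N, r * r = 1 → r ≠ 1 →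
      ∃ i : ZMod (2 * N), r = .a i ∧ i.val = N := by
    intro r hr hr1
    rcases r with i | i
    · refine ⟨i, rfl, ?_⟩
      rw [a_mul_a, ← a_zero, QuaternionGroup.a.injEq] at hr
      have hi : i.val ≠ 0 := fun e => hr1 (by rw [(ZMod.val_eq_zero i).mp e]; rfl)
      by_contra hne
      rcases lt_or_ge (i.val + i.val) (2 * N) with h | h
      · have := ZMod.val_add_of_lt h
        rw [hr, ZMod.val_zero] at this
        omega
      · have := ZMod.val_add_val_of_le h
        rw [hr, ZMod.val_zero] at this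
        omega
    · have h := QuaternionGroup.orderOf_xa i
      have : orderOf (QuaternionGroup.xa i) ∣ 2 := orderOf_dvd_of_pow_eq_one (by rw [pow_two, hr])
      rw [h] at this
      norm_num at this
  obtain ⟨i, rfl, hi⟩ := key p hp hp1
  obtain ⟨j, rfl, hj⟩ := key q hq hq1
  rw [ZMod.val_injective _ (hi.trans hj.symm)]

/-- The centre of a quaternion group. -/
theorem quat_center {N : ℕ} (hN : 2 ≤ N) {q : QuaternionGroup N}
    (h : ∀ r, q * r = r * q) : q * q = 1 := by
  rcases q with i | i
  · have h1 := h (.xa 0)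
    rw [a_mul_xa, xa_mul_a, QuaternionGroup.xa.injEq, zero_sub, zero_add] at h1
    rw [a_mul_a, ← a_zero, QuaternionGroup.a.injEq]
    nth_rewrite 1 [← h1]
    exact neg_add_cancel i
  · have h1 := h (.a 1)
    rw [a_mul_xa, xa_mul_a, QuaternionGroup.xa.injEq] at h1
    have h2 : ((2 : ℕ) : ZMod (2 * N)) = 0 := by
      push_cast
      linear_combination h1
    rw [ZMod.natCast_eq_zero_iff] at h2
    have := Nat.le_of_dvd two_pos h2
    omega

/-- A quaternion Sylow 2-subgroup gives an isolated involution. -/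
theorem exists_oddInvol_of_quaternion (S : Sylow 2 G) (n : ℕ)
    (e : (S : Subgroup G) ≃* QuaternionGroup (2 ^ (n + 1))) :
    ∃ t ∈ (S : Subgroup G), OddInvol t ∧ ∀ g ∈ (S : Subgroup G), g * g = 1 → g = 1 ∨ g = t := by
  haveI : Fact (Nat.Prime 2) := ⟨Nat.prime_two⟩
  have hd : 2 ∣ Nat.card (S : Subgroup G) := by
    rw [Nat.card_congr e.toEquiv, Nat.card_eq_fintype_card, QuaternionGroup.card]
    omega
  obtain ⟨t, ht⟩ := exists_prime_orderOf_dvd_card' 2 hd
  have hun : ∀ g ∈ (S : Subgroup G), g * g = 1 → g = 1 ∨ g = t := by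
    intro g hg hgg
    by_cases hg1 : (⟨g, hg⟩ : (S : Subgroup G)) = 1
    · exact Or.inl (congrArg Subtype.val hg1)
    · refine Or.inr (congrArg Subtype.val (e.injective (quat_invol ?_ ?_ ?_ ?_) :
        (⟨g, hg⟩ : (S : Subgroup G)) = t))
      · rw [← map_mul, ← map_one e]
        exact congrArg e (Subtype.ext hgg)
      · simpa using hg1
      · rw [← map_mul, ← pow_two, orderOf_dvd_iff_pow_eq_one.mp ht.dvd, map_one]
      · rw [Ne, e.map_eq_one_iff]
        intro h
        rw [h, orderOf_one] at ht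
        exact absurd ht (by decide)
  have ho : orderOf (t : G) = 2 := by rw [Subgroup.orderOf_coe, ht]
  refine ⟨t, t.2, oddInvol_of_isolated_sylow ho t.2 fun g hg => ?_, hun⟩
  have h2 : orderOf (g * (t : G) * g⁻¹) = 2 :=
    (orderOf_injective (MulAut.conj g).toMonoidHom (MulAut.conj g).injective _).trans ho
  refine (hun _ hg (by rw [← pow_two]; exact orderOf_dvd_iff_pow_eq_one.mp h2.dvd)).resolve_left fun h => ?_
  rw [h, orderOf_one] at h2
  exact absurd h2 (by decide)

theorem card_center_of_quaternion (S : Sylow 2 G) (n : ℕ)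
    (e : (S : Subgroup G) ≃* QuaternionGroup (2 ^ (n + 1)))
    (hO : ∀ N : Subgroup G, N.Normal → Odd (Nat.card N) → N = ⊥) :
    Nat.card (Subgroup.center G) = 2 := by
  haveI : Fact (Nat.Prime 2) := ⟨Nat.prime_two⟩
  obtain ⟨t, htS, ht, hun⟩ := exists_oddInvol_of_quaternion S n e
  have hO' : oddCore G = ⊥ := hO _ inferInstance (card_oddCore_odd G)
  have htc : t ∈ Subgroup.center G :=
    Subgroup.mem_center_iff.mpr fun g => (zStar_central ht hO' g).symm
  suffices h : Subgroup.center G = Subgroup.zpowers t by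
    rw [h, Nat.card_zpowers, ht.orderOf_eq]
  refine le_antisymm (fun z hz => ?_) (Subgroup.zpowers_le.mpr htc)
  have hp : IsPGroup 2 (Subgroup.center G) := by
    rw [IsPGroup.iff_orderOf]
    intro c
    obtain ⟨k, m, hm, hkm⟩ :=
      Nat.exists_eq_two_pow_mul_odd (orderOf_pos (c : G)).ne'
    refine ⟨k, ?_⟩
    have hc : (c : G) ^ 2 ^ k ∈ Subgroup.center G := pow_mem c.2 _
    haveI : (Subgroup.zpowers ((c : G) ^ 2 ^ k)).Normal := ⟨fun w hw g => by
      have hw' : w ∈ Subgroup.center G := Subgroup.zpowers_le.mpr hc hw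
      rwa [Subgroup.mem_center_iff.mp hw' g, mul_inv_cancel_right]⟩
    have ho : orderOf ((c : G) ^ 2 ^ k) = m := by
      rw [orderOf_pow' _ (pow_ne_zero _ two_ne_zero), hkm, Nat.gcd_mul_right_left]
      exact Nat.mul_div_cancel_left _ (Nat.two_pow_pos k)
    have h1 := hO _ inferInstance (by rw [Nat.card_zpowers, ho]; exact hm)
    rw [Subgroup.zpowers_eq_bot, ← orderOf_eq_one_iff, ho] at h1
    rw [← Subgroup.orderOf_coe, hkm, h1, mul_one]
  obtain ⟨P, hP⟩ := hp.exists_le_sylow
  obtain ⟨g, hg⟩ := MulAction.exists_smul_eq G P S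
  have hzS : z ∈ (S : Subgroup G) := by
    rw [← hg]
    refine ⟨z, hP hz, ?_⟩
    show g * z * g⁻¹ = z
    rw [Subgroup.mem_center_iff.mp hz g, mul_inv_cancel_right]
  have h2 : (e ⟨z, hzS⟩) * (e ⟨z, hzS⟩) = 1 := by
    refine quat_center (by
      calc 2 = 2 ^ 1 := (pow_one 2).symm
        _ ≤ 2 ^ (n + 1) := Nat.pow_le_pow_right two_pos (by omega)) fun r => ?_
    obtain ⟨w, rfl⟩ := e.surjective r
    rw [← map_mul, ← map_mul]
    exact congrArg e (Subtype.ext (Subgroup.mem_center_iff.mp hz w).symm)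
  rw [← map_mul, e.map_eq_one_iff] at h2
  rcases hun z hzS (congrArg Subtype.val h2) with rfl | rfl
  · exact one_mem _
  · exact Subgroup.mem_zpowers _

/-- The subgroup generated by the involutions has Sylow 2-subgroups of order at most two. -/
theorem card_dvd_two_closure_involutions (S : Sylow 2 G) (n : ℕ)
    (e : (S : Subgroup G) ≃* QuaternionGroup (2 ^ (n + 1)))
    (P : Subgroup (Subgroup.closure {g : G | orderOf g = 2})) (hP : IsPGroup 2 P) :
    Nat.card P ∣ 2 := by
  haveI : Fact (Nat.Prime 2) := ⟨Nat.prime_two⟩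
  obtain ⟨t, htS, ht, hun⟩ := exists_oddInvol_of_quaternion S n e
  set π := QuotientGroup.mk' (oddCore G)
  have hmem : ∀ g : G, g * g = 1 → π g ∈ Subgroup.zpowers (π t) := by
    intro u hu
    by_cases hu1 : u = 1
    · rw [hu1, map_one]; exact one_mem _
    obtain ⟨R, hR⟩ := (IsPGroup.of_card (n := 1) (by
      rw [Nat.card_zpowers, orderOf_eq_prime (by rw [pow_two, hu]) hu1, pow_one]) :
        IsPGroup 2 (Subgroup.zpowers u)).exists_le_sylow
    obtain ⟨g, hg⟩ := MulAction.exists_smul_eq G R S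
    have huS : g * u * g⁻¹ ∈ (S : Subgroup G) := by
      rw [← hg]
      exact Subgroup.mem_map_of_mem _ (hR (Subgroup.mem_zpowers u))
    have hgu := (hun _ huS (by
      rw [show g * u * g⁻¹ * (g * u * g⁻¹) = g * (u * u) * g⁻¹ by group, hu, mul_one,
        mul_inv_cancel])).resolve_left fun e => hu1 (conj_eq_one_iff.mp e)
    have hz := zStar ht g⁻¹
    rw [← QuotientGroup.eq_one_iff (N := oddCore G)] at hz
    have hu' : u = g⁻¹ * t * g := by rw [← hgu]; group
    have h3 : π t * π g⁻¹ * (π t)⁻¹ * (π g⁻¹)⁻¹ = 1 := by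
      simpa [π, map_mul, map_inv] using hz
    rw [mul_inv_eq_one, mul_inv_eq_iff_eq_mul] at h3
    have : π u = π t := by
      rw [hu', map_mul, map_mul, ← h3, map_inv, inv_mul_cancel_right]
    rw [this]
    exact Subgroup.mem_zpowers _
  have hle : Subgroup.closure {g : G | orderOf g = 2} ≤ (Subgroup.zpowers (π t)).comap π := by
    rw [Subgroup.closure_le]
    intro g hg
    refine hmem g ?_
    rw [← pow_two, ← hg.out, pow_orderOf_eq_one]
  let f : P →* Subgroup.zpowers (π t) :=
    ((π.comp (Subgroup.closure {g : G | orderOf g = 2}).subtype).comp P.subtype).codRestrict _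
      fun w => hle w.1.2
  have hf : Function.Injective f := by
    rw [injective_iff_map_eq_one]
    intro w hw
    have h1 : ((w : Subgroup.closure {g : G | orderOf g = 2}) : G) ∈ oddCore G :=
      (QuotientGroup.eq_one_iff _).mp (congrArg Subtype.val hw)
    have h2 := Subgroup.orderOf_dvd_natCard _ h1
    rw [Subgroup.orderOf_coe, Subgroup.orderOf_coe] at h2
    obtain ⟨k, hk⟩ := IsPGroup.iff_orderOf.mp hP w
    rw [hk] at h2
    rw [← orderOf_eq_one_iff, hk]
    exact Nat.eq_one_of_dvd_coprimes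
      (Nat.Coprime.pow_left k (Nat.coprime_two_left.mpr (card_oddCore_odd G))) dvd_rfl h2
  refine (Subgroup.card_dvd_of_injective f hf).trans ?_
  rw [Nat.card_zpowers]
  exact (orderOf_map_dvd π t).trans ht.orderOf_eq.dvd

end Cfsg.Agent.Char
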