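import Cfsg.Agent.Lib.Char.SupportNormalP
import Cfsg.Agent.Lib.Fusion.PConstrained

/-!
# Constrained groups have one block; `p`-solvable groups are constrained
-/

set_option autoImplicit false
set_option linter.style.haveILetI false

namespace Cfsg.Agent.Char

open Cfsg

universe u

variable {G : Type u} [Group G] {p : ℕ}

/-- Hall-Higman: in a `p`-solvable group with trivial `p'`-core, `O_p` contains its centralizer. -/
theorem centralizer_pCore_le_of_pSolvable [Finite G] [Fact p.Prime] (hG : IsPSolvable p G)
    (h0 : pPrimeCore p G = ⊥) :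
    Subgroup.centralizer (pCore p G : Set G) ≤ pCore p G := by
  obtain ⟨n, H, hbot, hlast, hmono, hnorm, hstep⟩ := hG
  haveI : (pCore p G).Normal := Solv.pCore_normal p
  set C := Subgroup.centralizer (pCore p G : Set G) with hC
  haveI hCn : C.Normal := Subgroup.normal_centralizer
  suffices key : ∀ i : Fin (n + 1), H i ⊓ C ≤ pCore p G by
    simpa [hlast] using key (Fin.last n)
  intro i
  induction i using Fin.induction with
  | zero => rw [hbot, bot_inf_eq]; exact bot_le
  | succ i ih =>
    haveI := hnorm i.succ
    haveI := hnorm i.castSucc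
    set K := H i.succ ⊓ C with hK
    set A := H i.castSucc ⊓ C with hA
    haveI : K.Normal := inferInstanceAs ((H i.succ ⊓ C).Normal)
    haveI : A.Normal := inferInstanceAs ((H i.castSucc ⊓ C).Normal)
    have hAp : IsPGroup p A := (Fusion.isPGroup_pCore p G).to_le ih
    have hAK : A ≤ K := inf_le_inf_right _ (hmono (Fin.castSucc_lt_succ (i := i)).le)
    have hdvd : A.relIndex K ∣ (H i.castSucc).relIndex (H i.succ) := by
      have hle : H i.castSucc ≤ H i.succ := hmono (Fin.castSucc_lt_succ (i := i)).le
      have hAeq : A = H i.castSucc ⊓ K := by rw [hA, hK, ← inf_assoc, inf_eq_left.mpr hle]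
      rw [hAeq, Subgroup.inf_relIndex_right, ← Subgroup.relIndex_sup_right]
      exact ⟨_, (Subgroup.relIndex_mul_relIndex _ _ _ le_sup_right
        (sup_le inf_le_left hle)).symm⟩
    obtain ⟨a, ha⟩ := IsPGroup.iff_card.mp hAp
    have hcard : Nat.card A * A.relIndex K = Nat.card K := by
      rw [← Subgroup.relIndex_bot_left, Subgroup.relIndex_mul_relIndex _ _ _ bot_le hAK,
        Subgroup.relIndex_bot_left]
    have hKp : IsPGroup p K := by
      rcases hstep i with ⟨m, hm⟩ | hco
      · obtain ⟨k, -, hk⟩ := (Nat.dvd_prime_pow Fact.out).1 (hm ▸ hdvd)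
        exact IsPGroup.of_card (n := a + k) (by rw [← hcard, ha, hk, pow_add])
      · have hco' : (A.relIndex K).Coprime p := hco.coprime_dvd_left hdvd
        obtain ⟨P⟩ : Nonempty (Sylow p K) := inferInstance
        have hPA : ((P : Subgroup K).map K.subtype) ≤ A := by
          intro x hx
          obtain ⟨y, hy, rfl⟩ := hx
          obtain ⟨k, hk⟩ := P.isPGroup' ⟨y, hy⟩
          have hk' : (y : K) ^ p ^ k = 1 := by simpa using congrArg Subtype.val hk
          haveI : (A.subgroupOf K).Normal := inferInstance
          have h1 : (y : K ⧸ A.subgroupOf K) ^ A.relIndex K = 1 :=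
            pow_card_eq_one' (G := K ⧸ A.subgroupOf K)
          have h2 : (y : K ⧸ A.subgroupOf K) ^ p ^ k = 1 := by
            rw [← QuotientGroup.mk_pow, hk', QuotientGroup.mk_one]
          have h3 := pow_gcd_eq_one.mpr ⟨h1, h2⟩
          rwa [Nat.Coprime.gcd_eq_one (hco'.pow_right k), pow_one, QuotientGroup.eq_one_iff] at h3
        have hn : HasNormalPComplement p K := by
          refine Fusion.hnpc_of_normalizer_le_centralizer P fun c _ => ?_
          refine Subgroup.mem_centralizer_iff.2 fun y hy => Subtype.ext ?_
          exact Subgroup.mem_centralizer_iff.1 (c.2 : (c : G) ∈ K).2 _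
            (ih (hPA (Subgroup.mem_map_of_mem _ hy)))
        rw [Fusion.hnpc_iff] at hn
        have hres : (pResidual p K).map K.subtype = ⊥ := by
          haveI : ((pResidual p K).map K.subtype).Normal := inferInstance
          refine eq_bot_iff.2 (h0 ▸ Fusion.le_pPrimeCore ?_)
          rwa [Subgroup.card_map_of_injective K.subtype_injective]
        rw [Subgroup.map_eq_bot_iff_of_injective _ K.subtype_injective] at hres
        exact (Fusion.isPGroup_quotient_pResidual (p := p) (G := K)).of_equiv
          ((QuotientGroup.quotientMulEquivOfEq hres).trans QuotientGroup.quotientBot)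
    exact Fusion.le_pCore hKp

/-- A group with `C(O_p) ≤ O_p` has only one `p`-block. -/
theorem sameBlock_of_constrained [Finite G] {M : Ideal AlgInt} (hM : IsPModular p M)
    (hc : Subgroup.centralizer (pCore p G : Set G) ≤ pCore p G) (χ ψ : IrrCharacter G) :
    SameBlock M (χ : G → ℂ) (ψ : G → ℂ) := by
  classical
  haveI := Fact.mk hM.1
  haveI := Fintype.ofFinite G
  haveI : (pCore p G).Normal := Solv.pCore_normal p
  have hMp := pmod_prime hM
  have hp := hM.1
  have hδ : ∀ B : Set (IrrCharacter G), IsPBlock M B → blockCoeff B = delta := by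
    intro B hB
    have h0 : ∀ g : G, g ≠ 1 → blockCoeff B g = 0 := by
      intro g hg
      by_cases hgC : g ∈ Subgroup.centralizer (pCore p G : Set G)
      · have hd : p ∣ orderOf g := by
          obtain ⟨k, hk⟩ := Fusion.isPGroup_pCore p G ⟨g, hc hgC⟩
          have hk' : g ^ p ^ k = 1 := by simpa using congrArg Subtype.val hk
          obtain ⟨j, -, hj⟩ := (Nat.dvd_prime_pow hp).1 (orderOf_dvd_of_pow_eq_one hk')
          rcases j with _ | j
          · exact absurd (orderOf_eq_one_iff.mp (hj.trans (pow_zero p))) hg
          · exact ⟨p ^ j, by rw [hj, pow_succ']⟩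
        rw [blockCoeff, weak_orthogonality hM hB (by simp [hp.ne_one]) hd, mul_zero]
      · exact blockCoeff_eq_zero_of_not_centralizing hM (pCore p G)
          (Fusion.isPGroup_pCore p G) hB hgC
    have hB1 : blockCoeff B = fun g => blockCoeff B 1 * delta g := by
      funext g
      rw [delta_apply]
      by_cases hg : g = 1
      · subst hg; simp
      · rw [if_neg hg, mul_zero, h0 g hg]
    have hl := lam_blockCoeff B
    funext g
    rw [hB1, delta_apply]
    suffices blockCoeff B 1 = 1 by simp [this, delta_apply]
    obtain ⟨φ, hφ⟩ := block_nonempty hMp hB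
    have h2 := hl φ
    rw [if_pos hφ, hB1] at h2
    have h3 : lam (φ : G → ℂ) (fun g => blockCoeff B 1 * delta g) =
        blockCoeff B 1 * lam (φ : G → ℂ) delta := by
      simp only [lam, mul_assoc, ← Finset.mul_sum, mul_div_assoc]
    rwa [h3, lam_delta φ.2, mul_one] at h2
  have heq : blockOf M (χ : G → ℂ) = blockOf M (ψ : G → ℂ) :=
    blockCoeff_inj hMp (isPBlock_blockOf M χ) (isPBlock_blockOf M ψ)
      ((hδ _ (isPBlock_blockOf M χ)).trans (hδ _ (isPBlock_blockOf M ψ)).symm)
  exact block_sameBlock hMp (isPBlock_blockOf M χ) (self_mem_blockOf hMp χ)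
    (heq ▸ self_mem_blockOf hMp ψ)

end Cfsg.Agent.Char
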