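import Cfsg.Agent.Lib.Char.SibleyLink
import Cfsg.Prelude.Def_Transfer

/-!
Consequences of Sibley's coherence theorem.
-/

set_option linter.unusedSectionVars false
set_option linter.style.haveILetI false

open scoped ComplexConjugate commutatorElement
open Cfsg

namespace Cfsg.Agent.Char

universe u

variable {G : Type u} [Group G] [Fintype G]

theorem sylow_of_self_centralizing (p : ℕ) [Fact p.Prime] (K : Subgroup G) (hK : IsPGroup p K)
    (hK1 : K ≠ ⊥) (hC : ∀ k ∈ K, k ≠ 1 → Subgroup.centralizer ({k} : Set G) ≤ K) :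
    ∃ P : Sylow p G, (P : Subgroup G) = K := by
  obtain ⟨P, hP⟩ := hK.exists_le_sylow
  refine ⟨P, ?_⟩
  by_contra hne
  have hlt : K.subgroupOf (P : Subgroup G) < ⊤ := lt_top_iff_ne_top.2 fun h =>
    hne (le_antisymm (Subgroup.subgroupOf_eq_top.1 h) hP)
  haveI : Group.IsNilpotent (P : Subgroup G) := P.2.isNilpotent
  have hgrow := Group.normalizerCondition_of_isNilpotent (K.subgroupOf (P : Subgroup G)) hlt
  obtain ⟨y, hy, hyK⟩ := SetLike.exists_of_lt hgrow
  set M := Subgroup.normalizer ((K.subgroupOf (P : Subgroup G) : Subgroup (P : Subgroup G)) : Set (P : Subgroup G))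
  haveI : Group.IsNilpotent M := (P.2.to_subgroup M).isNilpotent
  have hne' : (K.subgroupOf (P : Subgroup G)).subgroupOf M ≠ ⊥ := by
    obtain ⟨k, hk, hk1⟩ := K.bot_or_exists_ne_one.resolve_left hK1
    intro h
    have hkM : (⟨k, hP hk⟩ : (P : Subgroup G)) ∈ M := Subgroup.le_normalizer (Subgroup.mem_subgroupOf.2 hk)
    have : (⟨⟨k, hP hk⟩, hkM⟩ : M) ∈ (K.subgroupOf (P : Subgroup G)).subgroupOf M :=
      Subgroup.mem_subgroupOf.2 (Subgroup.mem_subgroupOf.2 hk)
    rw [h, Subgroup.mem_bot] at this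
    exact hk1 (congrArg (fun t : M => ((t : (P : Subgroup G)) : G)) this)
  haveI : ((K.subgroupOf (P : Subgroup G)).subgroupOf M).Normal := Subgroup.normal_in_normalizer
  obtain ⟨z, hz, hz1⟩ := (((K.subgroupOf (P : Subgroup G)).subgroupOf M) ⊓ Subgroup.center M).bot_or_exists_ne_one.resolve_left
    (S0065.result _ hne')
  refine hyK (Subgroup.mem_subgroupOf.2 (hC _ (Subgroup.mem_subgroupOf.1 (Subgroup.mem_subgroupOf.1 hz.1))
    (fun e => hz1 (Subtype.ext (Subtype.ext e))) (Subgroup.mem_centralizer_singleton_iff.2 ?_)))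
  exact congrArg (fun t : M => ((t : (P : Subgroup G)) : G))
    (Subgroup.mem_center_iff.1 hz.2 ⟨y, hy⟩)

theorem card_tifnSet_one (K : Subgroup G) [Fintype ↥(Subgroup.normalizer (K : Set G))]
    (hC : ∀ k ∈ K, k ≠ 1 → Subgroup.centralizer ({k} : Set G) ≤ K)
    (hK1 : K ≠ ⊥) (hab : IsMulCommutative K)
    (hcard : Nat.card K = (K.subgroupOf (Subgroup.normalizer (K : Set G))).index + 1) :
    Nat.card (tifnSet K) = 1 ∧ ∃ p : ℕ, p.Prime ∧ IsElementaryAbelian p K := by
  classical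
  set N : Subgroup G := Subgroup.normalizer (K : Set G)
  set K0 := K.subgroupOf N with hK0
  haveI : K0.Normal := Subgroup.normal_in_normalizer
  haveI := Fintype.ofFinite K0
  have hC0 := tifn_centralizer K hC
  have hc := card_subgroupOf_normalizer K
  have hcomm : ∀ a ∈ K, ∀ b ∈ K, a * b = b * a := fun a ha b hb =>
    congrArg Subtype.val (hab.is_comm.comm (⟨a, ha⟩ : K) ⟨b, hb⟩)
  set e := K0.index with he
  have he0 : 0 < e := Nat.pos_of_ne_zero Subgroup.index_ne_zero_of_finite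
  constructor
  · obtain ⟨k, hk, hsum⟩ := chFin_sum_sq K0 hC0 ⊥ bot_le
    rw [Subgroup.relIndex_bot_left, hc, hcard, ← he] at hk
    have hk1 : k = 1 := Nat.eq_of_mul_eq_mul_left he0 (by omega)
    rw [Finset.sum_congr rfl (g := fun _ => e ^ 2) (fun χ hχ => by
      have hmem : χ ∈ tifnSet K := chSet_eq_tifnSet K ▸ mem_chFin.1 hχ
      have h1 := tifn_degree K hC hcomm hmem
      rw [char_one_eq_deg (irr_isCharacter hmem.1)] at h1
      rw [show deg χ = e by exact_mod_cast h1]), Finset.sum_const, smul_eq_mul, hk1, ← he,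
      mul_comm] at hsum
    have h2 : (chFin K0 ⊥).card = 1 := Nat.eq_of_mul_eq_mul_left (pow_pos he0 2) hsum
    rw [← chSet_eq_tifnSet K, ← chFin_coe, ← h2]
    exact Nat.card_eq_finsetCard _
  · obtain ⟨p, hp, hpd⟩ := Nat.exists_prime_and_dvd (n := Nat.card K) (fun h => hK1 (Subgroup.card_eq_one.1 h))
    haveI := Fact.mk hp
    obtain ⟨x, hx⟩ := exists_prime_orderOf_dvd_card' (G := K0) p (hc.symm ▸ hpd)
    refine ⟨p, hp, hab, fun a ha => ?_⟩
    rcases eq_or_ne a 1 with rfl | ha1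
    · rw [one_pow]
    have haN : a ∈ N := Subgroup.le_normalizer ha
    have hx1 : x ≠ 1 := fun h => hp.ne_one (by rw [← hx, h, orderOf_one])
    have hcent : Subgroup.centralizer ({(x : N)} : Set N) = K0 :=
      le_antisymm (hC0 _ x.2 (fun h => hx1 (Subtype.ext h))) fun y hy =>
        Subgroup.mem_centralizer_singleton_iff.2 (Subtype.ext
          (hcomm _ (Subgroup.mem_subgroupOf.1 hy) _ (Subgroup.mem_subgroupOf.1 x.2)))
    set C : Finset N := Finset.univ.filter fun y => IsConj (x : N) y with hCdef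
    set T : Finset N := Finset.univ.filter fun y => y ∈ K0 ∧ y ≠ 1 with hTdef
    have hsub : C ⊆ T := fun y hy => by
      obtain ⟨c, rfl⟩ := isConj_iff.1 (Finset.mem_filter.1 hy).2
      refine Finset.mem_filter.2 ⟨Finset.mem_univ _, Subgroup.Normal.conj_mem ‹K0.Normal› _ x.2 c,
        fun h => hx1 (Subtype.ext ?_)⟩
      exact conj_eq_one_iff.1 h
    have hCc : C.card = e := by
      have h := card_conjClass_mul_centralizer (x : N)
      rw [hcent, ← K0.card_mul_index, mul_comm (Nat.card K0)] at h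
      rw [hCdef, ← Fintype.card_subtype, ← Nat.card_eq_fintype_card]
      exact Nat.eq_of_mul_eq_mul_right Nat.card_pos h
    have hTc : T.card = e := by
      have e1 : T = (Finset.univ.filter fun y => y ∈ K0).erase 1 := by
        ext y; simp [hTdef, and_comm]
      rw [e1, Finset.card_erase_of_mem (by simp), ← Fintype.card_subtype, ← Nat.card_eq_fintype_card]
      show Nat.card K0 - 1 = e
      rw [hc, hcard, Nat.add_sub_cancel]
    have hCT := Finset.eq_of_subset_of_card_le hsub (by rw [hCc, hTc])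
    have hmem : (⟨a, haN⟩ : N) ∈ C := by
      rw [hCT]
      exact Finset.mem_filter.2 ⟨Finset.mem_univ _, Subgroup.mem_subgroupOf.2 ha,
        fun h => ha1 (congrArg Subtype.val h)⟩
    obtain ⟨c, hc'⟩ := isConj_iff.1 (Finset.mem_filter.1 hmem).2
    have hpow : (⟨a, haN⟩ : N) ^ p = 1 := by
      rw [← hc', conj_pow, ← SubmonoidClass.coe_pow, ← hx, pow_orderOf_eq_one, OneMemClass.coe_one,
        mul_one, mul_inv_cancel]
    exact congrArg Subtype.val hpow

theorem commutator_relIndex_eq (K : Subgroup G) :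
    (⁅K.subgroupOf (Subgroup.normalizer (K : Set G)), K.subgroupOf (Subgroup.normalizer (K : Set G))⁆.subgroupOf
      (K.subgroupOf (Subgroup.normalizer (K : Set G)))).index = (⁅K, K⁆.subgroupOf K).index := by
  set N : Subgroup G := Subgroup.normalizer (K : Set G)
  have hmap : (K.subgroupOf N).map N.subtype = K := by
    rw [Subgroup.subgroupOf_map_subtype, inf_eq_left]
    exact Subgroup.le_normalizer
  show ⁅K.subgroupOf N, K.subgroupOf N⁆.relIndex (K.subgroupOf N) = ⁅K, K⁆.relIndex K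
  rw [← Subgroup.relIndex_map_map_of_injective _ _ (Subgroup.subtype_injective N),
    Subgroup.map_commutator, hmap]

theorem comm_of_card_succ (K : Subgroup G) [Fintype ↥(Subgroup.normalizer (K : Set G))]
    (hC : ∀ k ∈ K, k ≠ 1 → Subgroup.centralizer ({k} : Set G) ≤ K)
    (hlt : K < Subgroup.normalizer (K : Set G)) (hK1 : K ≠ ⊥)
    (h : Nat.card (K.subgroupOf (Subgroup.normalizer (K : Set G))) =
      (K.subgroupOf (Subgroup.normalizer (K : Set G))).index + 1) : IsMulCommutative K := by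
  classical
  set N : Subgroup G := Subgroup.normalizer (K : Set G)
  set K0 := K.subgroupOf N with hK0
  haveI : K0.Normal := Subgroup.normal_in_normalizer
  haveI := Fintype.ofFinite K0
  have hC0 := tifn_centralizer K hC
  obtain ⟨hKtop, hKbot⟩ := normalizer_frob_data K hlt hK1
  haveI := frobKernel_nilpotent K0 hKtop hC0
  haveI : Nontrivial K0 := (Subgroup.nontrivial_iff_ne_bot K0).2 hKbot
  haveI : (⁅K0, K0⁆).Normal := Subgroup.commutator_normal K0 K0
  have hne : ⁅K0, K0⁆ ≠ K0 := fun e => by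
    have h1 : (commutator K0).map K0.subtype = (⊤ : Subgroup K0).map K0.subtype := by
      rw [Subgroup.map_subtype_commutator, e, ← MonoidHom.range_eq_map, Subgroup.range_subtype]
    exact (IsSolvable.commutator_lt_top_of_nontrivial K0).ne
      (Subgroup.map_injective (Subgroup.subtype_injective K0) h1)
  have hge := relIndex_ge K0 hC0 ⁅K0, K0⁆ K0 (Subgroup.commutator_le_right K0 K0) le_rfl hne
  have hmul := (⁅K0, K0⁆.subgroupOf K0).card_mul_index
  rw [← Subgroup.relIndex, h] at hmul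
  have hbot : ⁅K0, K0⁆.subgroupOf K0 = ⊥ := Subgroup.card_eq_one.1 (by
    have hpos : 0 < Nat.card (⁅K0, K0⁆.subgroupOf K0) := Nat.card_pos
    nlinarith)
  refine ⟨⟨fun a b => ?_⟩⟩
  have ha : (⟨(a : G), Subgroup.le_normalizer a.2⟩ : N) ∈ K0 := Subgroup.mem_subgroupOf.2 a.2
  have hb : (⟨(b : G), Subgroup.le_normalizer b.2⟩ : N) ∈ K0 := Subgroup.mem_subgroupOf.2 b.2
  have hab := Subgroup.commutator_mem_commutator ha hb
  have hmem : (⟨_, Subgroup.commutator_le_right K0 K0 hab⟩ : K0) ∈ ⁅K0, K0⁆.subgroupOf K0 :=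
    Subgroup.mem_subgroupOf.2 hab
  rw [hbot, Subgroup.mem_bot] at hmem
  exact Subtype.ext (commutatorElement_eq_one_iff_mul_comm.1
    (congrArg (fun t : K0 => ((t : N) : G)) hmem))

/-- The trichotomy for a TI subgroup with Frobenius normalizer. -/
theorem sibley_trichotomy (K : Subgroup G) (hK1 : K ≠ ⊥) (hTI : IsTISubset (K : Set G))
    (hlt : K < Subgroup.normalizer (K : Set G))
    (hC : ∀ k ∈ K, k ≠ 1 → Subgroup.centralizer ({k} : Set G) ≤ K)
    [Fintype ↥(Subgroup.normalizer (K : Set G))] :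
    (Nat.card (tifnSet K) = 1 ∧ Nat.card K = (K.subgroupOf (Subgroup.normalizer (K : Set G))).index + 1 ∧
        ∃ p : ℕ, p.Prime ∧ IsElementaryAbelian p K) ∨
      (Nat.card K = 2 ^ (Nat.card G).factorization 2 ∧
        (⁅K, K⁆.subgroupOf K).index < 4 * (K.subgroupOf (Subgroup.normalizer (K : Set G))).index ^ 2) ∨
      IsCoherent (tifnSet K) {1}ᶜ (fun α => indFun (Subgroup.normalizer (K : Set G)) α) := by
  classical
  set K0 := K.subgroupOf (Subgroup.normalizer (K : Set G)) with hK0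
  haveI : K0.Normal := Subgroup.normal_in_normalizer
  haveI := Fintype.ofFinite K0
  have hC0 := tifn_centralizer K hC
  obtain ⟨hKtop, hKbot⟩ := normalizer_frob_data K hlt hK1
  have hcK : Nat.card K0 = Nat.card K := card_subgroupOf_normalizer K
  by_cases hspec : IsMulCommutative K ∧ Nat.card K = K0.index + 1
  · obtain ⟨h1, h2⟩ := card_tifnSet_one K hC hK1 hspec.1 hspec.2
    exact Or.inl ⟨h1, hspec.2, h2⟩
  right
  obtain ⟨hiso, hone⟩ := tifn_isometry K hTI hC
  rw [← chSet_eq_tifnSet K, ← hK0] at hiso hone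
  rw [← chSet_eq_tifnSet K, ← hK0]
  have e0 : 1 < K0.index := by
    have h1 : K0.index ≠ 1 := fun h => hKtop (Subgroup.index_eq_one.1 h)
    have h2 : K0.index ≠ 0 := Subgroup.index_ne_zero_of_finite
    omega
  have hhandle : ∀ p : ℕ, p.Prime → (∃ m : ℕ, Nat.card K0 = p ^ m) → ¬ IsMulCommutative K →
      (p = 2 → (⁅K0, K0⁆.subgroupOf K0).index ≤ 4 * K0.index ^ 2 + 1) →
      (Nat.card K = 2 ^ (Nat.card G).factorization 2 ∧
          (⁅K, K⁆.subgroupOf K).index < 4 * K0.index ^ 2) ∨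
        IsCoherent (chSet K0 ⊥) {1}ᶜ (fun α => indFun (Subgroup.normalizer (K : Set G)) α) := by
    intro p hp ⟨m, hm⟩ hna hle
    haveI := Fact.mk hp
    obtain ⟨P, rfl⟩ := sylow_of_self_centralizing p K (IsPGroup.of_card (hcK ▸ hm)) hK1 hC
    by_cases hp2 : p = 2
    swap
    · exact Or.inr (sibley_core p hp2 P hTI hlt hC hna)
    subst hp2
    refine Or.inl ⟨P.card_eq_multiplicity, ?_⟩
    have hle' := hle rfl
    rw [← commutator_relIndex_eq, ← hK0]
    have hD : ⁅K0, K0⁆ ≤ K0 := Subgroup.commutator_le_right K0 K0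
    haveI : (⁅K0, K0⁆).Normal := Subgroup.commutator_normal K0 K0
    obtain ⟨k, hk, -⟩ := chFin_sum_sq K0 hC0 ⁅K0, K0⁆ hD
    rw [Subgroup.relIndex] at hk
    obtain ⟨i, -, hi⟩ := (Nat.dvd_prime_pow hp).1
      (hm ▸ (⁅K0, K0⁆.subgroupOf K0).index_dvd_card : (⁅K0, K0⁆.subgroupOf K0).index ∣ 2 ^ m)
    set x := (⁅K0, K0⁆.subgroupOf K0).index
    by_contra hge
    push Not at hge
    rcases (show x = 4 * K0.index ^ 2 ∨ x = 4 * K0.index ^ 2 + 1 by omega) with h | h
    · rw [h] at hk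
      have hd : K0.index ∣ 1 := (Nat.dvd_add_right (dvd_mul_right _ _)).1
        (hk ▸ (dvd_pow_self _ two_ne_zero).mul_left 4)
      exact absurd (Nat.dvd_one.1 hd) (by omega)
    · rcases Nat.eq_zero_or_pos i with h0 | h0
      · rw [h0, pow_zero] at hi
        nlinarith
      · have : 2 ∣ x := hi ▸ dvd_pow_self 2 h0.ne'
        omega
  have hne : Nat.card K0 ≠ K0.index + 1 := fun h =>
    hspec ⟨comm_of_card_succ K hC hlt hK1 h, by rw [← hcK]; exact h⟩
  rcases feit_coherence_core K0 hKbot hKtop hC0 hne _ hiso hone with h | ⟨p, hp, hpow, hna, hle⟩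
  · exact Or.inr h
  · refine hhandle p hp hpow (fun h => hna ⟨⟨fun a b => ?_⟩⟩) (fun _ => hle)
    exact Subtype.ext (Subtype.ext (congrArg (fun t : K => (t : G)) (h.is_comm.comm
      (⟨_, Subgroup.mem_subgroupOf.1 a.2⟩ : K) ⟨_, Subgroup.mem_subgroupOf.1 b.2⟩)))

theorem inducedIrrAbove_eq_chSet {N : Type u} [Group N] [Fintype N] (H : Subgroup N) [H.Normal]
    (hC : ∀ h ∈ H, h ≠ 1 → Subgroup.centralizer ({h} : Set N) ≤ H) :
    inducedIrrAbove H ⊥ = chSet H ⊥ := by
  classical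
  ext χ
  constructor
  · rintro ⟨θ, hθ, hne, -, rfl⟩
    obtain ⟨ξ, hξ, k, hk, hk'⟩ := nonconst_induced H hC ⟨θ, hθ⟩ hne
    rw [hξ] at hk'
    exact ⟨hξ ▸ ξ.2, ⟨k, hk, hk'⟩, fun d hd => by rw [Subgroup.mem_bot.1 hd]⟩
  · rintro ⟨hirr, hne, -⟩
    obtain ⟨θ, hθ, e⟩ := exists_induced_of_nonconst H hC ⟨χ, hirr⟩ hne
    refine ⟨θ, θ.2, hθ, fun a ha => ?_, e⟩
    rw [show a = 1 from Subtype.ext (Subgroup.mem_bot.1 ha)]

/-- A TI kernel contains the centralizers of its elements. -/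
theorem centralizer_le_of_ti_frobenius (H L W₁ : Subgroup G) (hHL : H ≤ L) (hW : W₁ ≤ L)
    (hHn : ∀ x ∈ L, ∀ h ∈ H, x * h * x⁻¹ ∈ H) (hsup : H ⊔ W₁ = L)
    (hfpf : ∀ w ∈ W₁, w ≠ 1 → ∀ h ∈ H, w * h = h * w → h = 1)
    (hTI : IsTISubset (H : Set G)) (hN : Subgroup.normalizer (H : Set G) = L) :
    ∀ k ∈ H, k ≠ 1 → Subgroup.centralizer ({k} : Set G) ≤ H := by
  haveI := Fintype.ofFinite L
  intro k hk hk1 x hx
  have hxk : x * k = k * x := Subgroup.mem_centralizer_singleton_iff.1 hx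
  have hxN : x ∈ L := by
    by_contra hxL
    refine hk1 (hTI x (by rwa [hN]) k hk ?_)
    rw [hxk, mul_inv_cancel_right]
    exact hk
  haveI : (H.subgroupOf L).Normal := ⟨fun n hn g => Subgroup.mem_subgroupOf.2
    (hHn _ g.2 _ (Subgroup.mem_subgroupOf.1 hn))⟩
  have htop : H.subgroupOf L ⊔ W₁.subgroupOf L = ⊤ := by
    rw [← Subgroup.subgroupOf_sup hHL hW, hsup, Subgroup.subgroupOf_self]
  have h := centralizer_le_kernel (H.subgroupOf L) (W₁.subgroupOf L) htop
    (fun w hw hw1 n hn e => Subtype.ext (hfpf _ (Subgroup.mem_subgroupOf.1 hw)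
      (fun h => hw1 (Subtype.ext h)) _ (Subgroup.mem_subgroupOf.1 hn) (congrArg Subtype.val e)))
    ⟨k, hHL hk⟩ (Subgroup.mem_subgroupOf.2 hk) (fun h => hk1 (congrArg Subtype.val h))
    (Subgroup.mem_centralizer_singleton_iff.2 (Subtype.ext hxk : (⟨x, hxN⟩ : L) * ⟨k, hHL hk⟩ = _ * _))
  exact Subgroup.mem_subgroupOf.1 h

end Cfsg.Agent.Char
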