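import Cfsg.Agent.Lib.Char.TIFN

/-!
Values of exceptional characters on a TI kernel.
-/

set_option linter.unusedSectionVars false

open scoped ComplexConjugate
open Cfsg

namespace Cfsg.Agent.Char

universe u

section Frobenius

variable {N : Type u} [Group N] [Fintype N] (K : Subgroup N) [K.Normal] [Fintype K]

/-- The irreducible characters that are not constant on `K`. -/
noncomputable def ncChars : Finset (IrrCharacter N) := by
  classical exact Finset.univ.filter fun χ => ∃ k ∈ K, (χ : N → ℂ) k ≠ (χ : N → ℂ) 1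

theorem mem_ncChars {χ : IrrCharacter N} :
    χ ∈ ncChars K ↔ ∃ k ∈ K, (χ : N → ℂ) k ≠ (χ : N → ℂ) 1 := by
  classical simp [ncChars]

theorem int_of_mul_degrees {r : ℂ} (hK : Nontrivial K)
    (h : ∀ θ : IrrCharacter K, (θ : K → ℂ) ≠ (fun _ => 1) → ∃ z : ℤ, r * (θ : K → ℂ) 1 = z) :
    ∃ z : ℤ, r = z := by
  classical
  choose! z hz using h
  set e : IrrCharacter K := ⟨fun _ => 1, isIrrCharacter_one⟩ with he
  have hne : ∀ θ : IrrCharacter K, θ ≠ e → (θ : K → ℂ) ≠ fun _ => 1 := fun θ h h' =>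
    h (Subtype.ext h')
  have hsum := sum_sq_deg (G := K)
  rw [← Finset.add_sum_erase _ _ (Finset.mem_univ e)] at hsum
  have hA : ((∑ θ ∈ Finset.univ.erase e, z θ * (deg (θ : K → ℂ) : ℤ) : ℤ) : ℂ) =
      r * ((Nat.card K : ℂ) - 1) := by
    rw [← hsum, he]
    push_cast
    rw [show ((1 : ℂ)) ^ 2 = 1 by norm_num, add_sub_cancel_left, Finset.mul_sum]
    refine Finset.sum_congr rfl fun θ hθ => ?_
    rw [← hz θ (hne θ (Finset.ne_of_mem_erase hθ)), char_one_eq_deg (irr_isCharacter θ.2)]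
    ring
  obtain ⟨θ, hθ⟩ : ∃ θ : IrrCharacter K, θ ≠ e := by
    by_contra hcon
    push Not at hcon
    have hempty : (Finset.univ : Finset (IrrCharacter K)).erase e = ∅ :=
      Finset.eq_empty_of_forall_notMem fun θ hθ => (Finset.ne_of_mem_erase hθ) (hcon θ)
    rw [hempty, Finset.sum_empty, add_zero, he] at hsum
    have h2 : Nat.card K = 1 := by
      have : ((1 : ℕ) : ℂ) = (Nat.card K : ℂ) := by push_cast; simpa using hsum
      exact_mod_cast this.symm
    exact absurd h2 (Finite.one_lt_card.ne')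
  obtain ⟨w, hw⟩ := deg_dvd_card θ.2
  refine ⟨z θ * w - ∑ θ ∈ Finset.univ.erase e, z θ * (deg (θ : K → ℂ) : ℤ), ?_⟩
  have h1 := hz θ (hne θ hθ)
  rw [char_one_eq_deg (irr_isCharacter θ.2)] at h1
  rw [Int.cast_sub, hA, Int.cast_mul, ← h1, hw]
  push_cast
  ring

theorem nonconst_induced (hC : ∀ n ∈ K, n ≠ 1 → Subgroup.centralizer ({n} : Set N) ≤ K)
    (θ : IrrCharacter K) (hθ : (θ : K → ℂ) ≠ fun _ => 1) :
    ∃ ξ : IrrCharacter N, (ξ : N → ℂ) = indFun K (θ : K → ℂ) ∧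
      ∃ k ∈ K, (ξ : N → ℂ) k ≠ (ξ : N → ℂ) 1 := by
  classical
  refine ⟨⟨_, isIrr_indFun_of_inertia K θ fun g hg => inertia_le_of_centralizer K hC θ hθ g hg⟩,
    rfl, ?_⟩
  by_contra hcon
  push Not at hcon
  set ξ : N → ℂ := indFun K (θ : K → ℂ) with hξ
  have hirr : IsIrrCharacter N ξ :=
    isIrr_indFun_of_inertia K θ fun g hg => inertia_le_of_centralizer K hC θ hθ g hg
  have h1 := irr_self hirr
  rw [hξ, frobenius K _ (isClassFunction_indFun K _), ← hξ] at h1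
  have h2 : (fun k : K => ξ k) = (ξ 1) • fun _ : K => (1 : ℂ) := funext fun k => by
    rw [Pi.smul_apply, smul_eq_mul, mul_one]
    exact hcon k k.2
  rw [h2, classInner_smul_right, irr_orth θ.2 isIrrCharacter_one, if_neg hθ, mul_zero] at h1
  exact one_ne_zero h1.symm

theorem sum_K_eq_zero (hC : ∀ n ∈ K, n ≠ 1 → Subgroup.centralizer ({n} : Set N) ≤ K)
    (χ : IrrCharacter N) (h : ∃ k ∈ K, (χ : N → ℂ) k ≠ (χ : N → ℂ) 1) :
    ∑ k : K, (χ : N → ℂ) k = 0 := by
  classical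
  have hne : (χ : N → ℂ) ≠ fun _ => 1 := by
    intro e
    obtain ⟨k, -, hk⟩ := h
    exact hk (by rw [e])
  have h1 := irr_orth χ.2 (isIrrCharacter_one (G := N))
  rw [if_neg hne] at h1
  simp only [classInner, map_one, mul_one, mul_eq_zero, inv_eq_zero, Nat.cast_eq_zero,
    Nat.card_pos.ne', false_or] at h1
  rw [← h1, ← Finset.sum_subtype (Finset.univ.filter fun x => x ∈ K) (by simp)
    (f := fun x => (χ : N → ℂ) x), Finset.sum_filter]
  refine Finset.sum_congr rfl fun x _ => ?_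
  split_ifs with hx
  · rfl
  · exact (vanish_of_nonconst K hC χ h hx).symm

theorem sum_sq_const (hC : ∀ n ∈ K, n ≠ 1 → Subgroup.centralizer ({n} : Set N) ≤ K) :
    ∑ χ : IrrCharacter N with χ ∉ ncChars K, (χ : N → ℂ) 1 ^ 2 =
      (K.index : ℂ) := by
  classical
  have hK : (Nat.card K : ℂ) ≠ 0 := Nat.cast_ne_zero.2 Nat.card_pos.ne'
  have h : ∑ k : K, ∑ χ : IrrCharacter N, (χ : N → ℂ) 1 * (χ : N → ℂ) k = (Nat.card N : ℂ) := by
    rw [Finset.sum_eq_single (1 : K) (fun k _ hk => by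
      rw [regular_sum]; exact if_neg fun e => hk (Subtype.ext (by simpa using e)))
      (fun h => absurd (Finset.mem_univ _) h), regular_sum]
    exact if_pos (OneMemClass.coe_one K)
  rw [Finset.sum_comm, ← Finset.sum_filter_add_sum_filter_not Finset.univ
    (fun χ : IrrCharacter N => χ ∈ ncChars K),
    Finset.sum_eq_zero (s := Finset.univ.filter
      (fun χ : IrrCharacter N => χ ∈ ncChars K)) (fun χ hχ => by
      rw [← Finset.mul_sum, sum_K_eq_zero K hC χ ((mem_ncChars K).1 (Finset.mem_filter.1 hχ).2), mul_zero]),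
    zero_add] at h
  refine mul_left_cancel₀ hK ?_
  rw [← Nat.cast_mul, Subgroup.card_mul_index, ← h, Finset.mul_sum]
  refine Finset.sum_congr rfl fun χ hχ => ?_
  have h2 := (Finset.mem_filter.1 hχ).2
  rw [mem_ncChars] at h2
  push Not at h2
  rw [Finset.sum_congr rfl fun (k : K) _ => by rw [h2 k k.2], Finset.sum_const, Finset.card_univ,
    nsmul_eq_mul, ← Nat.card_eq_fintype_card]
  ring

/-- The value on the kernel of a class function with prescribed coefficients. -/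
theorem value_on_kernel (hC : ∀ n ∈ K, n ≠ 1 → Subgroup.centralizer ({n} : Set N) ≤ K)
    {F : N → ℂ} (hF : IsGeneralizedCharacter N F) (η : IrrCharacter N → ℂ) (q : ℂ)
    (hq : ∀ χ : IrrCharacter N, (∃ k ∈ K, (χ : N → ℂ) k ≠ (χ : N → ℂ) 1) →
      classInner F (χ : N → ℂ) = η χ + q * (χ : N → ℂ) 1) :
    ∃ c : ℤ, ∀ k ∈ K, k ≠ 1 → F k =
      (∑ χ ∈ ncChars K, η χ * (χ : N → ℂ) k) -
        q * (K.index : ℂ) + c := by
  classical
  obtain ⟨z, hz, hzc⟩ := exists_int_coords hF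
  refine ⟨∑ χ : IrrCharacter N with χ ∉ ncChars K, z χ * (deg (χ : N → ℂ) : ℤ), fun k hk hk1 => ?_⟩
  have hreg : ∑ χ : IrrCharacter N, (χ : N → ℂ) 1 * (χ : N → ℂ) k = 0 := by
    rw [regular_sum, if_neg hk1]
  have hc : ∀ χ ∈ (Finset.univ.filter fun χ : IrrCharacter N => χ ∉ ncChars K), (χ : N → ℂ) k = (χ : N → ℂ) 1 := by
    intro χ hχ
    have h2 := (Finset.mem_filter.1 hχ).2
    rw [mem_ncChars] at h2
    push Not at h2
    exact h2 k hk
  rw [← Finset.sum_filter_add_sum_filter_not Finset.univ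
    (fun χ : IrrCharacter N => χ ∈ ncChars K),
    Finset.sum_congr (s₁ := Finset.univ.filter
      fun χ : IrrCharacter N => χ ∉ ncChars K) rfl
      (g := fun χ => (χ : N → ℂ) 1 ^ 2) (fun χ hχ => by rw [hc χ hχ, sq]),
    sum_sq_const K hC] at hreg
  rw [Finset.filter_univ_mem] at hreg
  conv_lhs => rw [hz]
  rw [Finset.sum_apply, ← Finset.sum_filter_add_sum_filter_not Finset.univ
    (fun χ : IrrCharacter N => χ ∈ ncChars K), Finset.filter_univ_mem]
  congr 1
  · rw [Finset.sum_congr rfl (g := fun χ => η χ * (χ : N → ℂ) k + q * ((χ : N → ℂ) 1 * (χ : N → ℂ) k))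
      fun χ hχ => by
        rw [Pi.smul_apply, smul_eq_mul, ← hzc χ, hq χ ((mem_ncChars K).1 hχ)]; ring,
      Finset.sum_add_distrib, ← Finset.mul_sum]
    linear_combination q * hreg
  · push_cast
    refine Finset.sum_congr rfl fun χ hχ => ?_
    rw [Pi.smul_apply, smul_eq_mul, hc χ hχ, char_one_eq_deg (irr_isCharacter χ.2)]

theorem exists_two_values (hC : ∀ n ∈ K, n ≠ 1 → Subgroup.centralizer ({n} : Set N) ≤ K)
    (χ ξ : IrrCharacter N) (hne : χ ≠ ξ) (hχ : ∃ k ∈ K, (χ : N → ℂ) k ≠ (χ : N → ℂ) 1)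
    (hξ : ∃ k ∈ K, (ξ : N → ℂ) k ≠ (ξ : N → ℂ) 1) :
    ∃ a ∈ K, ∃ b ∈ K, a ≠ 1 ∧ b ≠ 1 ∧ (χ : N → ℂ) a ≠ (χ : N → ℂ) b := by
  classical
  by_contra hcon
  push Not at hcon
  obtain ⟨a, ha, hav⟩ := hχ
  have ha1 : a ≠ 1 := fun e => hav (by rw [e])
  set v := (χ : N → ℂ) a with hv
  obtain ⟨θ, hθ, hθe⟩ := exists_induced_of_nonconst K hC ξ hξ
  have h1 : classInner (χ : N → ℂ) (ξ : N → ℂ) = 0 := by
    rw [irrC_orth, if_neg hne]
  rw [hθe, frobenius_right K _ (isClassFunction_character (irr_isCharacter χ.2))] at h1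
  have e : (fun k : K => (χ : N → ℂ) k) =
      v • (fun _ : K => (1 : ℂ)) + fun k : K => if k = 1 then (χ : N → ℂ) 1 - v else 0 := by
    funext k
    simp only [Pi.add_apply, Pi.smul_apply, smul_eq_mul, mul_one]
    split_ifs with hk
    · rw [hk, OneMemClass.coe_one, add_sub_cancel]
    · rw [add_zero]
      exact (hcon a ha k k.2 ha1 (fun h => hk (Subtype.ext h))).symm
  rw [e, classInner_add_left, classInner_smul_left, irr_orth isIrrCharacter_one θ.2,
    if_neg (Ne.symm hθ), mul_zero, zero_add] at h1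
  simp only [classInner, ite_mul, zero_mul, Finset.sum_ite_eq', Finset.mem_univ, if_true,
    conj_char_one (irr_isCharacter θ.2), mul_eq_zero, inv_eq_zero, Nat.cast_eq_zero,
    Nat.card_pos.ne', false_or, irr_one_ne_zero θ.2, or_false, sub_eq_zero] at h1
  exact hav h1.symm

end Frobenius

section TI

variable {G : Type u} [Group G] [Fintype G] (K : Subgroup G)
  [Fintype ↥(Subgroup.normalizer (K : Set G))]

theorem tifn_pair_mem {χ ξ : ↥(Subgroup.normalizer (K : Set G)) → ℂ} (hχ : χ ∈ tifnSet K)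
    (hξ : ξ ∈ tifnSet K) :
    ((deg χ : ℤ) : ℂ) • ξ - ((deg ξ : ℤ) : ℂ) • χ ∈ zspanOn (tifnSet K) {1}ᶜ := by
  refine mem_zspanOn_punctured (Submodule.sub_mem _ (mem_zspan_smul _ (mem_zspan_of_mem hξ))
    (mem_zspan_smul _ (mem_zspan_of_mem hχ))) ?_
  rw [Pi.sub_apply, Pi.smul_apply, Pi.smul_apply, char_one_eq_deg (irr_isCharacter hχ.1),
    char_one_eq_deg (irr_isCharacter hξ.1)]
  simp [mul_comm]

variable (star : (↥(Subgroup.normalizer (K : Set G)) → ℂ) → (G → ℂ))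
  (hstar : IsLinearIsometryOn (zspan (tifnSet K)) star)
  (hext : ∀ α ∈ zspanOn (tifnSet K) ({1}ᶜ : Set ↥(Subgroup.normalizer (K : Set G))),
    star α = indFun (Subgroup.normalizer (K : Set G)) α)
include hstar hext

theorem tifn_star_pair {χ ξ : ↥(Subgroup.normalizer (K : Set G)) → ℂ} (hχ : χ ∈ tifnSet K)
    (hξ : ξ ∈ tifnSet K) :
    indFun (Subgroup.normalizer (K : Set G)) (((deg χ : ℤ) : ℂ) • ξ - ((deg ξ : ℤ) : ℂ) • χ) =
      ((deg χ : ℤ) : ℂ) • star ξ - ((deg ξ : ℤ) : ℂ) • star χ := by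
  rw [← hext _ (tifn_pair_mem K hχ hξ), isometryOn_sub hstar (mem_zspan_smul _ (mem_zspan_of_mem hξ))
    (mem_zspan_smul _ (mem_zspan_of_mem hχ)), iso_smul hstar (mem_zspan_of_mem hξ),
    iso_smul hstar (mem_zspan_of_mem hχ)]

/-- Coefficients of the restriction of a character of `G`. -/
theorem tifn_coeff {χ₀ : ↥(Subgroup.normalizer (K : Set G)) → ℂ} (hχ₀ : χ₀ ∈ tifnSet K)
    {F : G → ℂ} (hF : IsClassFunction G F)
    {ξ : ↥(Subgroup.normalizer (K : Set G)) → ℂ} (hξ : ξ ∈ tifnSet K) :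
    (deg χ₀ : ℂ) * (classInner (fun x : ↥(Subgroup.normalizer (K : Set G)) => F x) ξ -
        classInner F (star ξ)) =
      (deg ξ : ℂ) * (classInner (fun x : ↥(Subgroup.normalizer (K : Set G)) => F x) χ₀ -
        classInner F (star χ₀)) := by
  have h := congrArg (classInner F) (tifn_star_pair K star hstar hext hχ₀ hξ)
  rw [frobenius_right _ _ hF] at h
  simp only [classInner_sub_right, classInner_smul_right, Int.cast_natCast, map_natCast] at h
  linear_combination h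

theorem tifn_restriction_constant
    (hTI : ∀ g : G, g ∉ Subgroup.normalizer (K : Set G) → ∀ k ∈ K, g * k * g⁻¹ ∈ K → k = 1)
    (hC : ∀ k ∈ K, k ≠ 1 → Subgroup.centralizer ({k} : Set G) ≤ K)
    (htwo : ∃ χ ∈ tifnSet K, ∃ ξ ∈ tifnSet K, χ ≠ ξ) :
    ∃ m : ℤ, ∀ χ ∈ tifnSet K, ∀ k : ↥(Subgroup.normalizer (K : Set G)), (k : G) ∈ K → k ≠ 1 →
      star χ k - χ k =
        (m : ℂ) * χ 1 / ((K.subgroupOf (Subgroup.normalizer (K : Set G))).index : ℂ) := by
  classical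
  haveI : (K.subgroupOf (Subgroup.normalizer (K : Set G))).Normal := Subgroup.normal_in_normalizer
  set K0 := K.subgroupOf (Subgroup.normalizer (K : Set G)) with hK0
  haveI := Fintype.ofFinite K0
  have hC0 := tifn_centralizer K hC
  rw [← hK0] at hC0
  obtain ⟨χ₀, hχ₀, -⟩ := htwo
  set χ₀' : IrrCharacter ↥(Subgroup.normalizer (K : Set G)) := ⟨χ₀, hχ₀.1⟩ with hχ₀'
  set F : ↥(Subgroup.normalizer (K : Set G)) → ℂ := fun x => star χ₀ x with hF
  obtain ⟨p, r', hp, hr', e⟩ := hstar.2.2.2 χ₀ (mem_zspan_of_mem hχ₀)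
  have hcl : IsClassFunction G (star χ₀) := by
    rw [e]
    intro g h
    simp only [Pi.sub_apply, isClassFunction_character hp g h, isClassFunction_character hr' g h]
  have hFgen : IsGeneralizedCharacter ↥(Subgroup.normalizer (K : Set G)) F :=
    ⟨fun x => p x, fun x => r' x, isCharacter_comp (Subgroup.normalizer (K : Set G)).subtype hp,
      isCharacter_comp (Subgroup.normalizer (K : Set G)).subtype hr', by rw [hF, e]; rfl⟩
  have hd0 : (deg χ₀ : ℂ) ≠ 0 := Nat.cast_ne_zero.2 (deg_pos hχ₀.1).ne'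
  set q : ℂ := (classInner F χ₀ - 1) / (deg χ₀ : ℂ) with hq
  have hd0' : (deg χ₀ : ℂ) * q = classInner F χ₀ - 1 := by
    rw [hq, mul_div_cancel₀ _ hd0]
  have hcoef : ∀ χ : IrrCharacter ↥(Subgroup.normalizer (K : Set G)),
      (∃ k ∈ K0, (χ : ↥(Subgroup.normalizer (K : Set G)) → ℂ) k ≠ (χ : ↥(Subgroup.normalizer (K : Set G)) → ℂ) 1) →
      classInner F (χ : ↥(Subgroup.normalizer (K : Set G)) → ℂ) = (if χ = χ₀' then 1 else 0) + q * (χ : ↥(Subgroup.normalizer (K : Set G)) → ℂ) 1 := by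
    intro χ hχ
    obtain ⟨k, hk, hne⟩ := hχ
    have hmem : (χ : ↥(Subgroup.normalizer (K : Set G)) → ℂ) ∈ tifnSet K :=
      ⟨χ.2, k, Subgroup.mem_subgroupOf.1 hk, hne⟩
    have h := tifn_coeff K star hstar hext hχ₀ hcl hmem
    rw [hstar.2.2.1 χ₀ (mem_zspan_of_mem hχ₀) _ (mem_zspan_of_mem hmem),
      hstar.2.2.1 χ₀ (mem_zspan_of_mem hχ₀) _ (mem_zspan_of_mem hχ₀), irr_self hχ₀.1,
      irr_orth hχ₀.1 χ.2] at h
    rw [char_one_eq_deg (irr_isCharacter χ.2)]
    refine mul_left_cancel₀ hd0 ?_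
    have hiff : (if χ₀ = (χ : ↥(Subgroup.normalizer (K : Set G)) → ℂ) then (1 : ℂ) else 0) =
        if χ = χ₀' then 1 else 0 := by
      rcases eq_or_ne χ χ₀' with h' | h'
      · rw [if_pos h', if_pos (by rw [h', hχ₀'])]
      · rw [if_neg h', if_neg fun e' => h' (Subtype.ext e'.symm)]
    rw [hiff] at h
    linear_combination h - (deg (χ : ↥(Subgroup.normalizer (K : Set G)) → ℂ) : ℂ) * hd0'
  obtain ⟨c, hc⟩ := value_on_kernel K0 hC0 hFgen (fun χ => if χ = χ₀' then 1 else 0) q hcoef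
  obtain ⟨k₀, hk₀, hk₀'⟩ := hχ₀.2
  haveI hK0nt : Nontrivial K0 := ⟨⟨⟨k₀, Subgroup.mem_subgroupOf.2 hk₀⟩, 1, fun h =>
    hk₀' (by rw [show k₀ = 1 from congrArg Subtype.val h])⟩⟩
  have hint : ∀ θ : IrrCharacter K0, (θ : K0 → ℂ) ≠ (fun _ => 1) →
      ∃ z : ℤ, q * (K0.index : ℂ) * (θ : K0 → ℂ) 1 = z := by
    intro θ hθ
    obtain ⟨ξ, hξe, hξ⟩ := nonconst_induced K0 hC0 θ hθ
    obtain ⟨z, -, hzc⟩ := exists_int_coords hFgen
    refine ⟨z ξ - (if ξ = χ₀' then 1 else 0), ?_⟩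
    have h := hcoef ξ hξ
    rw [hzc ξ, hξe, indFun_one] at h
    push_cast
    linear_combination -h
  obtain ⟨w, hw⟩ := int_of_mul_degrees K0 hK0nt hint
  have hval : ∀ k : ↥(Subgroup.normalizer (K : Set G)), (k : G) ∈ K → k ≠ 1 →
      star χ₀ k - χ₀ k = ((c - w : ℤ) : ℂ) := by
    intro k hk hk1
    have h := hc k (Subgroup.mem_subgroupOf.2 hk) hk1
    rw [Finset.sum_eq_single χ₀' (fun χ _ hne => by rw [if_neg hne, zero_mul])
      (fun h' => absurd ((mem_ncChars K0).2 ⟨k₀, Subgroup.mem_subgroupOf.2 hk₀, hk₀'⟩) h'),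
      if_pos rfl, one_mul, hw] at h
    simp only [hF, hχ₀'] at h
    rw [h]
    push_cast
    ring
  have hprop : ∀ χ ∈ tifnSet K, ∀ k : ↥(Subgroup.normalizer (K : Set G)), (k : G) ∈ K → k ≠ 1 →
      (deg χ₀ : ℂ) * (star χ k - χ k) = (deg χ : ℂ) * ((c - w : ℤ) : ℂ) := by
    intro χ hχ k hk hk1
    have hm := tifn_pair_mem K hχ₀ hχ
    obtain ⟨p', q', hp', hq', e'⟩ := (tifn_zspan K hC hm.1).1
    have hti := indFun_ti (K : Set G) hTI _ (show IsClassFunction _ _ by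
      rw [e']
      intro g h
      simp only [Pi.sub_apply, isClassFunction_character hp' g h, isClassFunction_character hq' g h])
      (tifn_zspan K hC hm.1).2 k hk hk1
    rw [tifn_star_pair K star hstar hext hχ₀ hχ] at hti
    simp only [Pi.sub_apply, Pi.smul_apply, smul_eq_mul, Int.cast_natCast] at hti
    rw [← hval k hk hk1]
    linear_combination hti
  have hidx : (K0.index : ℂ) ≠ 0 := Nat.cast_ne_zero.2 Subgroup.index_ne_zero_of_finite
  have hfac : ∀ θ : IrrCharacter K0, (θ : K0 → ℂ) ≠ (fun _ => 1) →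
      ∃ z : ℤ, ((c - w : ℤ) : ℂ) * (K0.index : ℂ) / (deg χ₀ : ℂ) * (θ : K0 → ℂ) 1 = z := by
    intro θ hθ
    obtain ⟨ξ, hξe, k, hk, hne⟩ := nonconst_induced K0 hC0 θ hθ
    have hmem : (ξ : ↥(Subgroup.normalizer (K : Set G)) → ℂ) ∈ tifnSet K :=
      ⟨ξ.2, k, Subgroup.mem_subgroupOf.1 hk, hne⟩
    have hm := tifn_pair_mem K hχ₀ hmem
    set F' : ↥(Subgroup.normalizer (K : Set G)) → ℂ := fun x => star (ξ : ↥(Subgroup.normalizer (K : Set G)) → ℂ) x with hF'
    obtain ⟨p', r'', hp', hr'', e'⟩ := hstar.2.2.2 _ (mem_zspan_of_mem hmem)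
    have hcl' : IsClassFunction G (star (ξ : ↥(Subgroup.normalizer (K : Set G)) → ℂ)) := by
      rw [e']
      intro g h
      simp only [Pi.sub_apply, isClassFunction_character hp' g h, isClassFunction_character hr'' g h]
    have hFgen' : IsGeneralizedCharacter ↥(Subgroup.normalizer (K : Set G)) F' :=
      ⟨fun x => p' x, fun x => r'' x, isCharacter_comp (Subgroup.normalizer (K : Set G)).subtype hp',
        isCharacter_comp (Subgroup.normalizer (K : Set G)).subtype hr'', by rw [hF', e']; rfl⟩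
    -- the same computation for `ξ`
    set dξ : ℂ := (deg (ξ : ↥(Subgroup.normalizer (K : Set G)) → ℂ) : ℂ) with hdξ
    have hdξ0 : dξ ≠ 0 := Nat.cast_ne_zero.2 (deg_pos ξ.2).ne'
    set q' : ℂ := (classInner F' (ξ : ↥(Subgroup.normalizer (K : Set G)) → ℂ) - 1) / dξ with hq'
    have hq'' : dξ * q' = classInner F' (ξ : ↥(Subgroup.normalizer (K : Set G)) → ℂ) - 1 := by rw [hq', mul_div_cancel₀ _ hdξ0]
    have hcoef' : ∀ χ : IrrCharacter ↥(Subgroup.normalizer (K : Set G)),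
        (∃ k ∈ K0, (χ : ↥(Subgroup.normalizer (K : Set G)) → ℂ) k ≠ (χ : ↥(Subgroup.normalizer (K : Set G)) → ℂ) 1) →
        classInner F' (χ : ↥(Subgroup.normalizer (K : Set G)) → ℂ) = (if χ = ξ then 1 else 0) + q' * (χ : ↥(Subgroup.normalizer (K : Set G)) → ℂ) 1 := by
      intro χ hχ
      obtain ⟨k', hk', hne'⟩ := hχ
      have hmem' : (χ : ↥(Subgroup.normalizer (K : Set G)) → ℂ) ∈ tifnSet K :=
        ⟨χ.2, k', Subgroup.mem_subgroupOf.1 hk', hne'⟩
      have h := tifn_coeff K star hstar hext hmem hcl' hmem'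
      rw [hstar.2.2.1 _ (mem_zspan_of_mem hmem) _ (mem_zspan_of_mem hmem'),
        hstar.2.2.1 _ (mem_zspan_of_mem hmem) _ (mem_zspan_of_mem hmem), irr_self ξ.2,
        irrC_orth] at h
      rw [char_one_eq_deg (irr_isCharacter χ.2)]
      refine mul_left_cancel₀ hdξ0 ?_
      have hiff : (if ξ = χ then (1 : ℂ) else 0) = if χ = ξ then 1 else 0 := by
        rcases eq_or_ne χ ξ with h' | h'
        · rw [if_pos h', if_pos h'.symm]
        · rw [if_neg h', if_neg (Ne.symm h')]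
      rw [hiff, ← hdξ] at h
      linear_combination h - (deg (χ : ↥(Subgroup.normalizer (K : Set G)) → ℂ) : ℂ) * hq''
    obtain ⟨c', hc'⟩ := value_on_kernel K0 hC0 hFgen' (fun χ => if χ = ξ then 1 else 0) q' hcoef'
    obtain ⟨w', hw'⟩ := int_of_mul_degrees K0 hK0nt (r := q' * (K0.index : ℂ)) (fun θ' hθ' => by
      obtain ⟨ζ, hζe, hζ⟩ := nonconst_induced K0 hC0 θ' hθ'
      obtain ⟨z, -, hzc⟩ := exists_int_coords hFgen'
      refine ⟨z ζ - (if ζ = ξ then 1 else 0), ?_⟩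
      have h := hcoef' ζ hζ
      rw [hzc ζ, hζe, indFun_one] at h
      push_cast
      linear_combination -h)
    have hk1 : k ≠ 1 := fun e => hne (by rw [e])
    have h := hc' k hk hk1
    rw [Finset.sum_eq_single ξ (fun χ _ hne => by rw [if_neg hne, zero_mul])
      (fun h' => absurd ((mem_ncChars K0).2 ⟨k, hk, hne⟩) h'),
      if_pos rfl, one_mul, hw'] at h
    refine ⟨c' - w', ?_⟩
    have hp'' := hprop _ hmem k (Subgroup.mem_subgroupOf.1 hk) hk1
    simp only [hF'] at h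
    rw [h] at hp''
    have hξ1 : dξ = (K0.index : ℂ) * (θ : K0 → ℂ) 1 := by
      rw [hdξ, ← char_one_eq_deg (irr_isCharacter ξ.2), hξe, indFun_one]
    rw [← hdξ, hξ1] at hp''
    rw [div_mul_eq_mul_div, div_eq_iff hd0]
    push_cast at hp'' ⊢
    linear_combination -hp''
  obtain ⟨m, hm⟩ := int_of_mul_degrees K0 hK0nt hfac
  refine ⟨m, fun χ hχ k hk hk1 => ?_⟩
  have h := hprop χ hχ k hk hk1
  rw [← hm, char_one_eq_deg (irr_isCharacter hχ.1)]
  field_simp
  linear_combination h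

theorem tifn_exceptional_iff
    (hTI : ∀ g : G, g ∉ Subgroup.normalizer (K : Set G) → ∀ k ∈ K, g * k * g⁻¹ ∈ K → k = 1)
    (hC : ∀ k ∈ K, k ≠ 1 → Subgroup.centralizer ({k} : Set G) ≤ K)
    (htwo : ∃ χ ∈ tifnSet K, ∃ ξ ∈ tifnSet K, χ ≠ ξ) (ψ : G → ℂ) (hψ : IsIrrCharacter G ψ) :
    (∃ χ ∈ tifnSet K, ψ = star χ ∨ ψ = -star χ) ↔
      ∃ a ∈ K, ∃ b ∈ K, a ≠ 1 ∧ b ≠ 1 ∧ ψ a ≠ ψ b := by
  classical
  haveI : (K.subgroupOf (Subgroup.normalizer (K : Set G))).Normal := Subgroup.normal_in_normalizer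
  set K0 := K.subgroupOf (Subgroup.normalizer (K : Set G)) with hK0
  haveI := Fintype.ofFinite K0
  have hC0 := tifn_centralizer K hC
  rw [← hK0] at hC0
  constructor
  · rintro ⟨χ, hχ, hor⟩
    obtain ⟨m, hm⟩ := tifn_restriction_constant K star hstar hext hTI hC htwo
    obtain ⟨ξ, hξ, hne⟩ : ∃ ξ ∈ tifnSet K, ξ ≠ χ := by
      obtain ⟨a, ha, b, hb, hab⟩ := htwo
      by_cases h : a = χ
      exacts [⟨b, hb, fun e => hab (h.trans e.symm)⟩, ⟨a, ha, h⟩]
    obtain ⟨k, hk, hk'⟩ := hχ.2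
    obtain ⟨l, hl, hl'⟩ := hξ.2
    obtain ⟨a, ha, b, hb, ha1, hb1, hab⟩ := exists_two_values K0 hC0 ⟨χ, hχ.1⟩ ⟨ξ, hξ.1⟩
      (fun e => hne (congrArg Subtype.val e).symm) ⟨k, Subgroup.mem_subgroupOf.2 hk, hk'⟩
      ⟨l, Subgroup.mem_subgroupOf.2 hl, hl'⟩
    have hcancel : star χ a ≠ star χ b := by
      intro e
      apply hab
      have h1 := hm χ hχ a (Subgroup.mem_subgroupOf.1 ha) ha1
      have h2 := hm χ hχ b (Subgroup.mem_subgroupOf.1 hb) hb1
      show χ a = χ b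
      linear_combination h2 - h1 + e
    refine ⟨a, Subgroup.mem_subgroupOf.1 ha, b, Subgroup.mem_subgroupOf.1 hb,
      fun e => ha1 (Subtype.ext e), fun e => hb1 (Subtype.ext e), ?_⟩
    rcases hor with rfl | rfl
    · exact hcancel
    · exact fun e => hcancel (neg_inj.1 e)
  · rintro ⟨a, ha, b, hb, ha1, hb1, hab⟩
    by_contra hcon
    push Not at hcon
    apply hab
    have hzero : ∀ χ ∈ tifnSet K, classInner ψ (star χ) = 0 := by
      intro χ hχ
      obtain ⟨e, μ, he, hμ⟩ := exists_sign_of_norm_one (hstar.2.2.2 χ (mem_zspan_of_mem hχ))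
        (by rw [hstar.2.2.1 χ (mem_zspan_of_mem hχ) χ (mem_zspan_of_mem hχ), irr_self hχ.1])
      rw [hμ, classInner_smul_right, irr_orth hψ μ.2, if_neg, mul_zero]
      intro e'
      obtain ⟨h1, h2⟩ := hcon χ hχ
      rcases he with rfl | rfl
      · exact h1 (by rw [hμ, e', Int.cast_one, one_smul])
      · exact h2 (by rw [hμ, e', Int.cast_neg, Int.cast_one, neg_one_smul, neg_neg])
    obtain ⟨χ₀, hχ₀, -⟩ := htwo
    set F : ↥(Subgroup.normalizer (K : Set G)) → ℂ := fun x => ψ x with hF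
    have hd0 : (deg χ₀ : ℂ) ≠ 0 := Nat.cast_ne_zero.2 (deg_pos hχ₀.1).ne'
    set q : ℂ := classInner F χ₀ / (deg χ₀ : ℂ) with hq
    have hcoef : ∀ χ : IrrCharacter ↥(Subgroup.normalizer (K : Set G)),
        (∃ k ∈ K0, (χ : ↥(Subgroup.normalizer (K : Set G)) → ℂ) k ≠ (χ : ↥(Subgroup.normalizer (K : Set G)) → ℂ) 1) →
        classInner F (χ : ↥(Subgroup.normalizer (K : Set G)) → ℂ) = 0 + q * (χ : ↥(Subgroup.normalizer (K : Set G)) → ℂ) 1 := by
      intro χ hχ
      obtain ⟨k, hk, hne⟩ := hχ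
      have hmem : (χ : ↥(Subgroup.normalizer (K : Set G)) → ℂ) ∈ tifnSet K :=
        ⟨χ.2, k, Subgroup.mem_subgroupOf.1 hk, hne⟩
      have h := tifn_coeff K star hstar hext hχ₀ (isClassFunction_character (irr_isCharacter hψ)) hmem
      rw [hzero _ hmem, hzero _ hχ₀, sub_zero, sub_zero] at h
      rw [char_one_eq_deg (irr_isCharacter χ.2), hq]
      field_simp
      linear_combination h
    obtain ⟨c, hc⟩ := value_on_kernel K0 hC0
      ⟨F, 0, isCharacter_comp (Subgroup.normalizer (K : Set G)).subtype (irr_isCharacter hψ),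
        isCharacter_zero, (sub_zero F).symm⟩ (fun _ => 0) q hcoef
    have hle : K ≤ Subgroup.normalizer (K : Set G) := Subgroup.le_normalizer
    have h1 := hc ⟨a, hle ha⟩ (Subgroup.mem_subgroupOf.2 ha) (fun e => ha1 (congrArg Subtype.val e))
    have h2 := hc ⟨b, hle hb⟩ (Subgroup.mem_subgroupOf.2 hb) (fun e => hb1 (congrArg Subtype.val e))
    simp only [zero_mul, Finset.sum_const_zero] at h1 h2
    exact h1.trans h2.symm

end TI

end Cfsg.Agent.Char
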