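import Cfsg.Agent.Lib.Char.Central

/-!
# Induced functions and characters
-/

set_option autoImplicit false

namespace Cfsg.Agent.Char

open Cfsg Module
open scoped ComplexConjugate

universe u

variable {G : Type u} [Group G]

theorem extendByZero_mem (H : Subgroup G) (θ : H → ℂ) {g : G} (hg : g ∈ H) :
    extendByZero H θ g = θ ⟨g, hg⟩ :=
  Subtype.val_injective.extend_apply θ 0 ⟨g, hg⟩

theorem extendByZero_not_mem (H : Subgroup G) (θ : H → ℂ) {g : G} (hg : g ∉ H) :
    extendByZero H θ g = 0 :=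
  Function.extend_apply' _ _ _ (fun ⟨h, hh⟩ => hg (hh ▸ h.2))

theorem sum_extendByZero_mul [Fintype G] (H : Subgroup G) [Fintype H] (θ : H → ℂ) (φ : G → ℂ) :
    ∑ g : G, extendByZero H θ g * φ g = ∑ h : H, θ h * φ h := by
  classical
  rw [← Finset.sum_subset (Finset.subset_univ ((Finset.univ : Finset H).map ⟨_, Subtype.val_injective⟩))
    (f := fun g => extendByZero H θ g * φ g), Finset.sum_map]
  · refine Finset.sum_congr rfl fun h _ => ?_
    simp [extendByZero_mem H θ h.2]
  · intro g _ hg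
    rw [extendByZero_not_mem, zero_mul]
    intro hgH
    exact hg (Finset.mem_map.mpr ⟨⟨g, hgH⟩, Finset.mem_univ _, rfl⟩)

variable [Fintype G]

theorem isClassFunction_indFun (H : Subgroup G) (θ : H → ℂ) :
    IsClassFunction G (indFun H θ) := by
  intro g k
  simp only [indFun]
  congr 1
  exact Fintype.sum_equiv (Equiv.mulLeft k⁻¹) _ _ fun x => by
    simp [mul_assoc]

theorem indFun_add (H : Subgroup G) (θ η : H → ℂ) :
    indFun H (θ + η) = indFun H θ + indFun H η := by
  funext g
  simp only [indFun, Pi.add_apply, ← mul_add, ← Finset.sum_add_distrib]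
  congr 1
  refine Finset.sum_congr rfl fun x _ => ?_
  by_cases h : x⁻¹ * g * x ∈ H
  · simp [extendByZero_mem H _ h]
  · simp [extendByZero_not_mem H _ h]

theorem indFun_smul (H : Subgroup G) (r : ℂ) (θ : H → ℂ) :
    indFun H (r • θ) = r • indFun H θ := by
  funext g
  simp only [indFun, Pi.smul_apply, smul_eq_mul, Finset.mul_sum]
  refine Finset.sum_congr rfl fun x _ => ?_
  by_cases h : x⁻¹ * g * x ∈ H
  · simp [extendByZero_mem H _ h, mul_left_comm]
  · simp [extendByZero_not_mem H _ h]

theorem indFun_zero (H : Subgroup G) : indFun H (0 : H → ℂ) = 0 := by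
  have := indFun_smul H 0 (0 : H → ℂ)
  rw [zero_smul, zero_smul] at this
  exact this

theorem indFun_sub (H : Subgroup G) (θ η : H → ℂ) :
    indFun H (θ - η) = indFun H θ - indFun H η := by
  rw [sub_eq_add_neg, indFun_add, ← neg_one_smul ℂ η, indFun_smul, neg_one_smul, sub_eq_add_neg]

theorem indFun_sum (H : Subgroup G) {ι : Type*} (s : Finset ι) (f : ι → H → ℂ) :
    indFun H (∑ i ∈ s, f i) = ∑ i ∈ s, indFun H (f i) := by
  classical
  induction s using Finset.induction_on with
  | empty => simp [indFun_zero]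
  | insert a s ha ih => rw [Finset.sum_insert ha, indFun_add, ih, Finset.sum_insert ha]

theorem frobenius (H : Subgroup G) [Fintype H] (θ : H → ℂ) {χ : G → ℂ}
    (hχ : IsClassFunction G χ) :
    classInner (indFun H θ) χ = classInner θ (fun h : H => χ h) := by
  simp only [classInner, indFun, Finset.mul_sum, Finset.sum_mul]
  rw [Finset.sum_comm]
  have key : ∀ x : G, ∑ g : G, (Nat.card G : ℂ)⁻¹ * ((Nat.card H : ℂ)⁻¹ *
      extendByZero H θ (x⁻¹ * g * x) * conj (χ g)) =
      (Nat.card G : ℂ)⁻¹ * ((Nat.card H : ℂ)⁻¹ * ∑ h : H, θ h * conj (χ h)) := by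
    intro x
    rw [← sum_extendByZero_mul H θ (fun g => conj (χ g)), Finset.mul_sum, Finset.mul_sum]
    refine Fintype.sum_equiv (MulAut.conj x⁻¹).toEquiv _ _ fun g => ?_
    have : χ (x⁻¹ * g * x⁻¹⁻¹) = χ g := hχ g x⁻¹
    simp only [inv_inv] at this
    rw [show (MulAut.conj x⁻¹).toEquiv g = x⁻¹ * g * x⁻¹⁻¹ from rfl, inv_inv, this, mul_assoc]
  rw [Finset.sum_congr rfl fun x _ => key x, Finset.sum_const, Finset.card_univ, nsmul_eq_mul,
    ← Nat.card_eq_fintype_card, ← mul_assoc, mul_inv_cancel₀ (by simp), one_mul, Finset.mul_sum]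

theorem frobenius_right (H : Subgroup G) [Fintype H] (θ : H → ℂ) {χ : G → ℂ}
    (hχ : IsClassFunction G χ) :
    classInner χ (indFun H θ) = classInner (fun h : H => χ h) θ := by
  rw [← classInner_symm, frobenius H θ hχ, classInner_symm]

theorem isCharacter_indFun (H : Subgroup G) {θ : H → ℂ} (hθ : IsCharacter H θ) :
    IsCharacter G (indFun H θ) := by
  have := Fintype.ofFinite H
  rw [classFun_expansion (isClassFunction_indFun H θ)]
  refine isCharacter_sum _ _ fun χ _ => ?_
  obtain ⟨n, hn⟩ := classInner_natCast hθ (isCharacter_comp H.subtype (irr_isCharacter χ.2))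
  rw [frobenius H θ (isClassFunction_character (irr_isCharacter χ.2))]
  rw [show classInner θ (fun h : H => (χ : G → ℂ) h) = (n : ℂ) from hn, Nat.cast_smul_eq_nsmul]
  exact isCharacter_nsmul (irr_isCharacter χ.2) n

theorem indFun_one (H : Subgroup G) (θ : H → ℂ) : indFun H θ 1 = (H.index : ℂ) * θ 1 := by
  simp only [indFun, mul_one, inv_mul_cancel]
  rw [extendByZero_mem H θ H.one_mem, Finset.sum_const, Finset.card_univ, nsmul_eq_mul,
    ← Nat.card_eq_fintype_card, ← H.index_mul_card]
  have : (Nat.card H : ℂ) ≠ 0 := Nat.cast_ne_zero.mpr Nat.card_pos.ne'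
  rw [show (⟨1, H.one_mem⟩ : H) = 1 from rfl]
  push_cast
  field_simp

theorem indFun_trans (H K : Subgroup G) [Fintype K] (hHK : H ≤ K) (θ : H → ℂ) :
    indFun K (indFun (H.subgroupOf K)
      (fun x => θ ⟨(x : K), Subgroup.mem_subgroupOf.mp x.2⟩)) = indFun H θ := by
  classical
  set θ' : H.subgroupOf K → ℂ :=
    fun x => θ ⟨(x : K), Subgroup.mem_subgroupOf.mp x.2⟩ with hθ'
  have hcard : Nat.card (H.subgroupOf K) = Nat.card H :=
    Nat.card_congr (Subgroup.subgroupOfEquivOfLe hHK).toEquiv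
  have hKne : (Nat.card K : ℂ) ≠ 0 := by simp
  funext g
  have hext : ∀ y : K, ∀ z : G, extendByZero K (indFun (H.subgroupOf K) θ') z =
      (Nat.card H : ℂ)⁻¹ * ∑ y : K, extendByZero H θ ((y : G)⁻¹ * z * y) := by
    intro _ z
    by_cases hz : z ∈ K
    · rw [extendByZero_mem K _ hz, indFun, hcard]
      congr 1
      refine Finset.sum_congr rfl fun y _ => ?_
      by_cases hy : (y : G)⁻¹ * z * y ∈ H
      · rw [extendByZero_mem H θ hy, extendByZero_mem (H.subgroupOf K) θ'
          (Subgroup.mem_subgroupOf.mpr (by simpa using hy))]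
        simp [hθ']
      · rw [extendByZero_not_mem H θ hy, extendByZero_not_mem (H.subgroupOf K) θ'
          (fun h => hy (by simpa using Subgroup.mem_subgroupOf.mp h))]
    · rw [extendByZero_not_mem K _ hz, Finset.sum_eq_zero fun y _ => ?_, mul_zero]
      refine extendByZero_not_mem H θ fun h => hz ?_
      have hmem := K.mul_mem (K.mul_mem y.2 (hHK h)) (K.inv_mem y.2)
      simpa [mul_assoc] using hmem
  show (Nat.card K : ℂ)⁻¹ * ∑ x : G, extendByZero K (indFun (H.subgroupOf K) θ') (x⁻¹ * g * x) =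
    (Nat.card H : ℂ)⁻¹ * ∑ x : G, extendByZero H θ (x⁻¹ * g * x)
  simp only [hext 1, ← Finset.mul_sum]
  rw [Finset.sum_comm, Finset.sum_congr rfl (g := fun _ => ∑ x : G, extendByZero H θ (x⁻¹ * g * x)),
    Finset.sum_const, Finset.card_univ, nsmul_eq_mul, ← Nat.card_eq_fintype_card (α := K)]
  · field_simp
  · intro y _
    exact Fintype.sum_equiv (Equiv.mulRight (y : G)) _ _ fun x => by simp [mul_assoc]

end Cfsg.Agent.Char
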