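import Cfsg.Agent.Lib.Char.Dade
import Cfsg.Agent.Lib.Char.Induction

/-!
# The Dade map sends generalized characters to generalized characters
-/

set_option autoImplicit false
set_option linter.unusedSectionVars false
set_option linter.style.haveILetI false

namespace Cfsg.Agent.Char

open Cfsg
open scoped ComplexConjugate Pointwise

universe u

variable {G : Type u} [Group G] {A : Set G} {L : Subgroup G} {H : G → Subgroup G}

theorem isGenChar_sub {X : Type u} [Group X] {θ η : X → ℂ} (h1 : IsGeneralizedCharacter X θ)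
    (h2 : IsGeneralizedCharacter X η) : IsGeneralizedCharacter X (θ - η) := by
  obtain ⟨a, b, ha, hb, rfl⟩ := h1
  obtain ⟨c, d, hc, hd, rfl⟩ := h2
  exact ⟨a + d, b + c, isCharacter_add ha hd, isCharacter_add hb hc, by abel⟩

theorem isGenChar_zero {X : Type u} [Group X] : IsGeneralizedCharacter X (0 : X → ℂ) :=
  ⟨0, 0, isCharacter_zero, isCharacter_zero, (sub_zero _).symm⟩

theorem isGenChar_neg_one_pow {X : Type u} [Group X] {θ : X → ℂ} (h : IsGeneralizedCharacter X θ)
    (k : ℕ) : IsGeneralizedCharacter X (((-1 : ℂ) ^ k) • θ) := by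
  rcases Nat.even_or_odd k with hk | hk
  · rwa [hk.neg_one_pow, one_smul]
  · rw [hk.neg_one_pow, neg_one_smul, ← zero_sub]
    exact isGenChar_sub isGenChar_zero h

theorem isGenChar_sum {X : Type u} [Group X] {ι : Type*} (s : Finset ι) (f : ι → X → ℂ)
    (h : ∀ i ∈ s, IsGeneralizedCharacter X (f i)) : IsGeneralizedCharacter X (∑ i ∈ s, f i) := by
  classical
  induction s using Finset.induction with
  | empty => exact isGenChar_zero
  | insert i s hi ih =>
    rw [Finset.sum_insert hi, ← sub_neg_eq_add, ← zero_sub]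
    exact isGenChar_sub (h i (Finset.mem_insert_self i s))
      (isGenChar_sub isGenChar_zero (ih fun j hj => h j (Finset.mem_insert_of_mem hj)))

/-- The finite nonempty subsets of `A`. -/
abbrev DadeIndex (A : Set G) : Type u := {B : Finset G // B.Nonempty ∧ ↑B ⊆ A}

/-- The action of `L` on the index set by conjugation. -/
@[reducible] noncomputable def dadeIndexAction (hD : DadeHypothesis A L H) :
    MulAction L (DadeIndex A) :=
  letI := Classical.decEq G
  { smul := fun l B => ⟨B.1.image (fun b => (l : G) * b * (l : G)⁻¹), B.2.1.image _, by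
      intro x hx
      obtain ⟨b, hb, rfl⟩ := Finset.mem_image.mp hx
      exact hD.conj_mem _ l.2 b (B.2.2 hb)⟩
    one_smul := fun B => Subtype.ext (by
      show B.1.image (fun b => ((1 : L) : G) * b * ((1 : L) : G)⁻¹) = B.1
      simp)
    mul_smul := fun l m B => Subtype.ext (by
      show B.1.image (fun b => ((l * m : L) : G) * b * ((l * m : L) : G)⁻¹) =
        (B.1.image (fun b => (m : G) * b * (m : G)⁻¹)).image (fun b => (l : G) * b * (l : G)⁻¹)
      rw [Finset.image_image]
      refine Finset.image_congr fun b _ => ?_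
      simp [mul_assoc]) }

theorem dadeIndexAction_mem (hD : DadeHypothesis A L H) (l : L) (B : DadeIndex A) (x : G) :
    letI := dadeIndexAction hD
    x ∈ (l • B).1 ↔ (l : G)⁻¹ * x * l ∈ B.1 := by
  letI := dadeIndexAction hD
  letI := Classical.decEq G
  change x ∈ B.1.image (fun b => (l : G) * b * (l : G)⁻¹) ↔ _
  rw [Finset.mem_image]
  constructor
  · rintro ⟨b, hb, rfl⟩
    rwa [show (l : G)⁻¹ * ((l : G) * b * (l : G)⁻¹) * l = b by group]
  · intro h
    exact ⟨_, h, by group⟩

/-- The intersection of the complements over an index set. -/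
def dadeInf (H : G → Subgroup G) (B : Finset G) : Subgroup G := ⨅ b ∈ B, H b

theorem mem_dadeInf {B : Finset G} {u : G} : u ∈ dadeInf H B ↔ ∀ b ∈ B, u ∈ H b := by
  simp [dadeInf]

/-- The stabilizer in `L` of an index set, in `G`. -/
noncomputable def dadeStab (hD : DadeHypothesis A L H) (B : DadeIndex A) : Subgroup G :=
  letI := dadeIndexAction hD
  (MulAction.stabilizer L B).map L.subtype

theorem mem_dadeStab {hD : DadeHypothesis A L H} {B : DadeIndex A} {n : G} :
    n ∈ dadeStab hD B ↔ n ∈ L ∧ ∀ x : G, x ∈ B.1 ↔ n⁻¹ * x * n ∈ B.1 := by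
  letI := dadeIndexAction hD
  constructor
  · rintro ⟨l, hl, rfl⟩
    refine ⟨l.2, fun x => ?_⟩
    have := dadeIndexAction_mem hD l B x
    rw [show l • B = B from hl] at this
    exact this
  · rintro ⟨hn, h⟩
    refine ⟨⟨n, hn⟩, ?_, rfl⟩
    show (⟨n, hn⟩ : L) • B = B
    exact Subtype.ext (Finset.ext fun x => (dadeIndexAction_mem hD _ B x).trans (h x).symm)

theorem dadeStab_normalizes [Finite G] (hD : DadeHypothesis A L H) {B : DadeIndex A} {n u : G}
    (hn : n ∈ dadeStab hD B) (hu : u ∈ dadeInf H B.1) : n * u * n⁻¹ ∈ dadeInf H B.1 := by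
  obtain ⟨hnL, hB⟩ := mem_dadeStab.mp hn
  refine mem_dadeInf.mpr fun b hb => ?_
  have hc := (hB b).mp hb
  have hA : n * (n⁻¹ * b * n) * n⁻¹ ∈ A := by
    rw [show n * (n⁻¹ * b * n) * n⁻¹ = b by group]
    exact B.2.2 hb
  have := dade_mem_H_conj hD (B.2.2 hc) hA (mem_dadeInf.mp hu _ hc)
  rwa [show n * (n⁻¹ * b * n) * n⁻¹ = b by group] at this

theorem dadeInf_inter_L (hD : DadeHypothesis A L H) {B : DadeIndex A} {u : G}
    (hu : u ∈ dadeInf H B.1) (huL : u ∈ L) : u = 1 := by
  obtain ⟨b, hb⟩ := B.2.1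
  have h : u ∈ H b ⊓ (L ⊓ Subgroup.centralizer ({b} : Set G)) :=
    ⟨mem_dadeInf.mp hu b hb, huL, hD.le_centralizer b (B.2.2 hb) (mem_dadeInf.mp hu b hb)⟩
  rwa [hD.inf_eq_bot b (B.2.2 hb), Subgroup.mem_bot] at h

variable [Fintype G]

theorem dade_decomp_unique (hD : DadeHypothesis A L H) {B : DadeIndex A} {h h' n n' : G}
    (hh : h ∈ dadeInf H B.1) (hh' : h' ∈ dadeInf H B.1) (hn : n ∈ dadeStab hD B)
    (hn' : n' ∈ dadeStab hD B) (e : h * n = h' * n') : h = h' ∧ n = n' := by
  have e2 : h'⁻¹ * h = n' * n⁻¹ := by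
    rw [eq_mul_inv_iff_mul_eq, mul_assoc, e, inv_mul_cancel_left]
  have h1 : h'⁻¹ * h = 1 := dadeInf_inter_L hD (mul_mem (inv_mem hh') hh)
    (e2 ▸ mul_mem (mem_dadeStab.mp hn').1 (inv_mem (mem_dadeStab.mp hn).1))
  rw [inv_mul_eq_one] at h1
  rw [h1] at e
  exact ⟨h1.symm, mul_left_cancel e⟩

theorem dade_decomp_exists (hD : DadeHypothesis A L H) (B : DadeIndex A) {m : G}
    (hm : m ∈ dadeInf H B.1 ⊔ dadeStab hD B) :
    ∃ h ∈ dadeInf H B.1, ∃ n ∈ dadeStab hD B, m = h * n := by
  have hnorm : dadeStab hD B ≤ Subgroup.normalizer ((dadeInf H B.1 : Subgroup G) : Set G) := by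
    intro n hn u
    refine ⟨fun hu => dadeStab_normalizes hD hn hu, fun hu => ?_⟩
    have := dadeStab_normalizes hD (inv_mem hn) hu
    rwa [show n⁻¹ * (n * u * n⁻¹) * n⁻¹⁻¹ = u by group] at this
  have hset := Subgroup.coe_mul_of_right_le_normalizer_left _ _ hnorm
  have hm' : m ∈ ((dadeInf H B.1 : Set G) * (dadeStab hD B : Set G) : Set G) :=
    hset ▸ (hm : m ∈ ((dadeInf H B.1 ⊔ dadeStab hD B : Subgroup G) : Set G))
  obtain ⟨h, hh, n, hn, rfl⟩ := hm'
  exact ⟨h, hh, n, hn, rfl⟩

/-- The projection onto the stabilizer. -/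
theorem exists_dadeProj (hD : DadeHypothesis A L H) (B : DadeIndex A) :
    ∃ π : ↥(dadeInf H B.1 ⊔ dadeStab hD B) →* L,
      ∀ (m : ↥(dadeInf H B.1 ⊔ dadeStab hD B)) (h n : G), h ∈ dadeInf H B.1 →
        n ∈ dadeStab hD B → (m : G) = h * n → (π m : G) = n := by
  choose hf hhf nf hnf hmf using fun m : ↥(dadeInf H B.1 ⊔ dadeStab hD B) =>
    dade_decomp_exists hD B m.2
  have huniq : ∀ (m : ↥(dadeInf H B.1 ⊔ dadeStab hD B)) (h n : G), h ∈ dadeInf H B.1 →
      n ∈ dadeStab hD B → (m : G) = h * n → nf m = n := fun m h n hh hn e =>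
    (dade_decomp_unique hD (hhf m) hh (hnf m) hn ((hmf m).symm.trans e)).2
  refine ⟨MonoidHom.mk' (fun m => ⟨nf m, (mem_dadeStab.mp (hnf m)).1⟩) fun a b => ?_, huniq⟩
  refine Subtype.ext (huniq _ (hf a * (nf a * hf b * (nf a)⁻¹)) _
    (mul_mem (hhf a) (dadeStab_normalizes hD (hnf a) (hhf b))) (mul_mem (hnf a) (hnf b)) ?_)
  push_cast
  rw [hmf a, hmf b]
  group

open Classical in
/-- The weight of a stabilizing element in the summand of an index set. -/
noncomputable def dadeWeight (H : G → Subgroup G) (B : Finset G) (n g : G) : ℂ :=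
  (Nat.card (dadeInf H B) : ℂ)⁻¹ *
    ∑ x : G, ((Finset.univ.filter fun h : G => h ∈ dadeInf H B ∧ h * n = x⁻¹ * g * x).card : ℂ)

open Classical in
theorem indFun_dadeProj (hD : DadeHypothesis A L H) [Fintype L] (B : DadeIndex A)
    (π : ↥(dadeInf H B.1 ⊔ dadeStab hD B) →* L)
    (hπ : ∀ (m : ↥(dadeInf H B.1 ⊔ dadeStab hD B)) (h n : G), h ∈ dadeInf H B.1 →
        n ∈ dadeStab hD B → (m : G) = h * n → (π m : G) = n)
    (α : L → ℂ) (g : G) :
    indFun (dadeInf H B.1 ⊔ dadeStab hD B) (fun m => α (π m)) g =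
      (Nat.card (dadeStab hD B) : ℂ)⁻¹ *
        ∑ n ∈ Finset.univ.filter (fun n : L => (n : G) ∈ dadeStab hD B), α n * dadeWeight H B.1 n g := by
  have hcard : Nat.card ↥(dadeInf H B.1 ⊔ dadeStab hD B) =
      Nat.card (dadeInf H B.1) * Nat.card (dadeStab hD B) := by
    rw [← Nat.card_prod]
    symm
    refine Nat.card_congr (Equiv.ofBijective (fun w : dadeInf H B.1 × dadeStab hD B =>
      (⟨(w.1 : G) * w.2, Subgroup.mul_mem_sup w.1.2 w.2.2⟩ :
        ↥(dadeInf H B.1 ⊔ dadeStab hD B))) ⟨fun a b e => ?_, fun m => ?_⟩)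
    · obtain ⟨e1, e2⟩ := dade_decomp_unique hD a.1.2 b.1.2 a.2.2 b.2.2 (congrArg Subtype.val e)
      exact Prod.ext (Subtype.ext e1) (Subtype.ext e2)
    · obtain ⟨h, hh, n, hn, e⟩ := dade_decomp_exists hD B m.2
      exact ⟨(⟨h, hh⟩, ⟨n, hn⟩), Subtype.ext e.symm⟩
  have hext : ∀ y : G, extendByZero (dadeInf H B.1 ⊔ dadeStab hD B) (fun m => α (π m)) y =
      ∑ n ∈ Finset.univ.filter (fun n : L => (n : G) ∈ dadeStab hD B),
        α n * ((Finset.univ.filter fun h : G => h ∈ dadeInf H B.1 ∧ h * n = y).card : ℂ) := by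
    intro y
    by_cases hy : y ∈ dadeInf H B.1 ⊔ dadeStab hD B
    · obtain ⟨h, hh, n, hn, rfl⟩ := dade_decomp_exists hD B hy
      have hπn : π ⟨h * n, hy⟩ = ⟨n, (mem_dadeStab.mp hn).1⟩ :=
        Subtype.ext (hπ ⟨h * n, hy⟩ h n hh hn rfl)
      rw [extendByZero_mem _ _ hy, hπn, Finset.sum_eq_single ⟨n, (mem_dadeStab.mp hn).1⟩]
      · have hs : (Finset.univ.filter fun k : G => k ∈ dadeInf H B.1 ∧ k * n = h * n) = {h} := by
          ext k
          simp only [Finset.mem_filter, Finset.mem_univ, true_and, Finset.mem_singleton,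
            mul_left_inj]
          exact ⟨fun hk => hk.2, fun hk => ⟨hk ▸ hh, hk⟩⟩
        rw [hs, Finset.card_singleton, Nat.cast_one, mul_one]
      · intro m hm hne
        rw [Finset.filter_false_of_mem, Finset.card_empty, Nat.cast_zero, mul_zero]
        rintro k - ⟨hk, e⟩
        exact hne (Subtype.ext (dade_decomp_unique hD hk hh (Finset.mem_filter.mp hm).2 hn e).2)
      · intro h'
        exact absurd (Finset.mem_filter.mpr ⟨Finset.mem_univ (⟨n, (mem_dadeStab.mp hn).1⟩ : L), hn⟩) h'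
    · rw [extendByZero_not_mem _ _ hy]
      refine (Finset.sum_eq_zero fun m hm => ?_).symm
      rw [Finset.filter_false_of_mem, Finset.card_empty, Nat.cast_zero, mul_zero]
      rintro k - ⟨hk, e⟩
      exact hy (e ▸ Subgroup.mul_mem_sup hk (Finset.mem_filter.mp hm).2)
  simp only [indFun, dadeWeight, hext, hcard, Finset.mul_sum]
  rw [Finset.sum_comm]
  refine Finset.sum_congr rfl fun n _ => Finset.sum_congr rfl fun x _ => ?_
  push_cast
  rw [mul_inv]
  ring

open Classical in
/-- The weight only depends on the centralized part. -/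
theorem dadeWeight_insert (hD : DadeHypothesis A L H) (B : DadeIndex A) {n : G}
    (hnA : n ∈ A) (hn : n ∈ dadeStab hD B) (g : G) :
    dadeWeight H B.1 n g = dadeWeight H (insert n B.1) n g := by
  classical
  set K := dadeInf H B.1 with hK
  set C := dadeInf H (insert n B.1) with hC
  have hCK : C ≤ K := fun u hu =>
    mem_dadeInf.mpr fun b hb => mem_dadeInf.mp hu b (Finset.mem_insert_of_mem hb)
  have hCn : ∀ {u : G}, u ∈ C → u ∈ H n := fun hu =>
    mem_dadeInf.mp hu n (Finset.mem_insert_self _ _)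
  have hCmem : ∀ {u : G}, u ∈ K → u * n = n * u → u ∈ C := by
    intro u hu hcomm
    refine mem_dadeInf.mpr fun b hb => ?_
    rcases Finset.mem_insert.mp hb with rfl | hb
    · obtain ⟨c, hc⟩ := B.2.1
      have h1 : orderOf u ∣ Nat.card (H c) := by
        rw [← Subgroup.orderOf_mk u (mem_dadeInf.mp hu c hc)]
        exact orderOf_dvd_natCard _
      have h2 : orderOf u ∣ Nat.card (H b) * Nat.card ↥(L ⊓ Subgroup.centralizer ({b} : Set G)) := by
        rw [dade_card_mul hD hnA,
          ← Subgroup.orderOf_mk u (Subgroup.mem_centralizer_singleton_iff.mpr hcomm)]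
        exact orderOf_dvd_natCard _
      have hcop := (hD.coprime c (B.2.2 hc) b hnA).coprime_dvd_left h1
      exact (dade_mem_H_iff hD hnA u).mpr ⟨Subgroup.mem_centralizer_singleton_iff.mpr hcomm,
        orderOf_dvd_iff_pow_eq_one.mp (hcop.dvd_of_dvd_mul_right h2)⟩
    · exact mem_dadeInf.mp hu b hb
  have hconj : ∀ {u : G}, u ∈ K → n * u * n⁻¹ ∈ K := fun hu => dadeStab_normalizes hD hn hu
  -- the twisted conjugation map
  let Φ : K × C → K := fun w => ⟨(w.1 : G)⁻¹ * w.2 * (n * w.1 * n⁻¹),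
    mul_mem (mul_mem (inv_mem w.1.2) (hCK w.2.2)) (hconj w.1.2)⟩
  have hΦ : ∀ w : K × C, (Φ w : G) * n = (w.1 : G)⁻¹ * ((w.2 : G) * n) * w.1 := fun w => by
    show (w.1 : G)⁻¹ * w.2 * (n * w.1 * n⁻¹) * n = _
    group
  have hfib : ∀ w : K × C,
      (Finset.univ.filter fun w' : K × C => Φ w' = Φ w).card = Fintype.card C := by
    intro w
    rw [← Fintype.card_subtype]
    refine Fintype.card_congr
      { toFun := fun w' => ⟨(w'.1.1 : G) * (w.1 : G)⁻¹, ?_⟩
        invFun := fun t => ⟨(⟨(t : G) * w.1, mul_mem (hCK t.2) w.1.2⟩,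
          ⟨(t : G) * w.2 * (t : G)⁻¹, mul_mem (mul_mem t.2 w.2.2) (inv_mem t.2)⟩), ?_⟩
        left_inv := fun w' => ?_
        right_inv := fun t => Subtype.ext (by simp) }
    · have e := congrArg (fun k : K => (k : G) * n) w'.2
      simp only [hΦ] at e
      refine hCmem (mul_mem w'.1.1.2 (inv_mem w.1.2)) ?_
      have e2 : (w'.1.1 : G) * (w.1 : G)⁻¹ * (n * w.2) * ((w'.1.1 : G) * (w.1 : G)⁻¹)⁻¹ =
          n * w'.1.2 := by
        rw [(dade_commute hD hnA (hCn w.2.2)).eq, (dade_commute hD hnA (hCn w'.1.2.2)).eq]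
        calc _ = (w'.1.1 : G) * ((w.1 : G)⁻¹ * ((w.2 : G) * n) * w.1) * (w'.1.1 : G)⁻¹ := by group
          _ = (w'.1.2 : G) * n := by rw [← e]; group
      have e3 := dade_conj_base hD hnA hnA (hCn w.2.2) (hCn w'.1.2.2) e2
      calc (w'.1.1 : G) * (w.1 : G)⁻¹ * n
          = (w'.1.1 : G) * (w.1 : G)⁻¹ * n * ((w'.1.1 : G) * (w.1 : G)⁻¹)⁻¹ *
              ((w'.1.1 : G) * (w.1 : G)⁻¹) := by group
        _ = n * ((w'.1.1 : G) * (w.1 : G)⁻¹) := by rw [e3]
    · apply Subtype.ext
      apply mul_right_cancel (b := n)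
      rw [hΦ, hΦ]
      have ht := (dade_commute hD hnA (hCn t.2)).eq
      calc ((t : G) * w.1)⁻¹ * ((t : G) * w.2 * (t : G)⁻¹ * n) * ((t : G) * w.1)
          = (w.1 : G)⁻¹ * w.2 * (t : G)⁻¹ * (n * t) * w.1 := by group
        _ = (w.1 : G)⁻¹ * ((w.2 : G) * n) * w.1 := by rw [ht]; group
    · obtain ⟨⟨k', c'⟩, hw'⟩ := w'
      have e := congrArg (fun k : K => (k : G) * n) hw'
      simp only [hΦ] at e
      have hmem : (k' : G) * (w.1 : G)⁻¹ * n = n * ((k' : G) * (w.1 : G)⁻¹) := by
        have e2 : (k' : G) * (w.1 : G)⁻¹ * (n * w.2) * ((k' : G) * (w.1 : G)⁻¹)⁻¹ =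
            n * c' := by
          rw [(dade_commute hD hnA (hCn w.2.2)).eq, (dade_commute hD hnA (hCn c'.2)).eq]
          calc _ = (k' : G) * ((w.1 : G)⁻¹ * ((w.2 : G) * n) * w.1) * (k' : G)⁻¹ := by group
            _ = (c' : G) * n := by rw [← e]; group
        have e3 := dade_conj_base hD hnA hnA (hCn w.2.2) (hCn c'.2) e2
        calc (k' : G) * (w.1 : G)⁻¹ * n
            = (k' : G) * (w.1 : G)⁻¹ * n * ((k' : G) * (w.1 : G)⁻¹)⁻¹ *
                ((k' : G) * (w.1 : G)⁻¹) := by group
          _ = n * ((k' : G) * (w.1 : G)⁻¹) := by rw [e3]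
      refine Subtype.ext (Prod.ext (Subtype.ext (inv_mul_cancel_right _ _)) (Subtype.ext ?_))
      show (k' : G) * (w.1 : G)⁻¹ * w.2 * ((k' : G) * (w.1 : G)⁻¹)⁻¹ = c'
      apply mul_right_cancel (b := n)
      calc (k' : G) * (w.1 : G)⁻¹ * w.2 * ((k' : G) * (w.1 : G)⁻¹)⁻¹ * n
          = (k' : G) * (w.1 : G)⁻¹ * w.2 * ((k' : G) * (w.1 : G)⁻¹)⁻¹ *
              (n * ((k' : G) * (w.1 : G)⁻¹)) * ((k' : G) * (w.1 : G)⁻¹)⁻¹ := by group
        _ = (k' : G) * ((w.1 : G)⁻¹ * ((w.2 : G) * n) * w.1) * (k' : G)⁻¹ := by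
            rw [← hmem]; group
        _ = (c' : G) * n := by rw [← e]; group
  have hcardK : ∀ k : K, (Finset.univ.filter fun w : K × C => Φ w = k).card = Fintype.card C := by
    have hle : ∀ k : K, (Finset.univ.filter fun w : K × C => Φ w = k).card ≤ Fintype.card C := by
      intro k
      by_cases hk : ∃ w, Φ w = k
      · obtain ⟨w, rfl⟩ := hk
        exact (hfib w).le
      · rw [Finset.filter_false_of_mem fun w _ hw => hk ⟨w, hw⟩]
        simp
    have htot : ∑ k : K, (Finset.univ.filter fun w : K × C => Φ w = k).card =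
        ∑ _k : K, Fintype.card C := by
      rw [← Finset.card_eq_sum_card_fiberwise (fun _ _ => Finset.mem_univ _), Finset.card_univ,
        Fintype.card_prod, Finset.sum_const, Finset.card_univ, smul_eq_mul]
    exact fun k => (Finset.sum_eq_sum_iff_of_le fun i _ => hle i).mp htot k (Finset.mem_univ k)
  have hsub : ∀ (S : Subgroup G) (y : G),
      (Finset.univ.filter fun h : G => h ∈ S ∧ h * n = y).card =
        (Finset.univ.filter fun h : S => (h : G) * n = y).card := by
    intro S y
    refine (Finset.card_bij (fun (h : S) _ => (h : G)) (fun h hh => ?_)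
      (fun a _ b _ e => Subtype.ext e) fun h hh => ?_).symm
    · exact Finset.mem_filter.mpr ⟨Finset.mem_univ _, h.2, (Finset.mem_filter.mp hh).2⟩
    · exact ⟨⟨h, (Finset.mem_filter.mp hh).2.1⟩,
        Finset.mem_filter.mpr ⟨Finset.mem_univ _, (Finset.mem_filter.mp hh).2.2⟩, rfl⟩
  have hmain : Fintype.card C * ∑ x : G,
        (Finset.univ.filter fun h : G => h ∈ K ∧ h * n = x⁻¹ * g * x).card =
      Fintype.card K * ∑ x : G,
        (Finset.univ.filter fun h : G => h ∈ C ∧ h * n = x⁻¹ * g * x).card := by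
    calc Fintype.card C * ∑ x : G,
          (Finset.univ.filter fun h : G => h ∈ K ∧ h * n = x⁻¹ * g * x).card
        = ∑ x : G, (Finset.univ.filter fun w : K × C => (Φ w : G) * n = x⁻¹ * g * x).card := by
          rw [Finset.mul_sum]
          refine Finset.sum_congr rfl fun x _ => ?_
          rw [hsub, Finset.card_eq_sum_card_fiberwise (s := Finset.univ.filter fun w : K × C =>
              (Φ w : G) * n = x⁻¹ * g * x) (f := Φ)
              (t := Finset.univ.filter fun h : K => (h : G) * n = x⁻¹ * g * x)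
              (fun w hw => by simpa using hw),
            Finset.sum_congr rfl (g := fun _ => Fintype.card C), Finset.sum_const, smul_eq_mul,
            mul_comm]
          intro k hk
          rw [Finset.filter_filter, ← hcardK k]
          congr 1
          ext w
          simp only [Finset.mem_filter, Finset.mem_univ, true_and, and_iff_right_iff_imp]
          rintro rfl
          exact (Finset.mem_filter.mp hk).2
      _ = ∑ x : G, ∑ k : K,
          (Finset.univ.filter fun c : C => (Φ (k, c) : G) * n = x⁻¹ * g * x).card := by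
          refine Finset.sum_congr rfl fun x _ => ?_
          simp only [Finset.card_filter]
          rw [Fintype.sum_prod_type]
      _ = ∑ k : K, ∑ x : G,
          (Finset.univ.filter fun c : C => (c : G) * n = x⁻¹ * g * x).card := by
          rw [Finset.sum_comm]
          refine Finset.sum_congr rfl fun k _ => ?_
          refine Fintype.sum_equiv (Equiv.mulRight ((k : G)⁻¹)) _ _ fun x => ?_
          simp only [Equiv.coe_mulRight]
          refine congrArg Finset.card (Finset.filter_congr fun c _ => ?_)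
          rw [hΦ]
          constructor <;> intro h
          · calc (c : G) * n = (k : G) * ((k : G)⁻¹ * ((c : G) * n) * k) * (k : G)⁻¹ := by group
              _ = (x * (k : G)⁻¹)⁻¹ * g * (x * (k : G)⁻¹) := by rw [h]; group
          · rw [h]; group
      _ = _ := by
          rw [Finset.sum_const, smul_eq_mul, Finset.card_univ]
          congr 1
          refine Finset.sum_congr rfl fun x _ => (hsub C _).symm
  rw [dadeWeight, dadeWeight, ← hK, ← hC, Nat.card_eq_fintype_card, Nat.card_eq_fintype_card]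
  have h1 : (Fintype.card C : ℂ) ≠ 0 := Nat.cast_ne_zero.mpr Fintype.card_ne_zero
  have h2 : (Fintype.card K : ℂ) ≠ 0 := Nat.cast_ne_zero.mpr Fintype.card_ne_zero
  have h3 := congrArg (Nat.cast : ℕ → ℂ) hmain
  push_cast at h3
  field_simp
  linear_combination h3


theorem dadeStab_card (hD : DadeHypothesis A L H) (B : DadeIndex A) :
    letI := dadeIndexAction hD
    Nat.card (dadeStab hD B) = Nat.card (MulAction.stabilizer L B) :=
  Subgroup.card_map_of_injective L.subtype_injective

theorem dadeInf_smul_iff (hD : DadeHypothesis A L H) (l : L) (B : DadeIndex A) (u : G) :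
    letI := dadeIndexAction hD
    u ∈ dadeInf H (l • B).1 ↔ (l : G)⁻¹ * u * l ∈ dadeInf H B.1 := by
  letI := dadeIndexAction hD
  simp only [mem_dadeInf]
  constructor
  · intro h b hb
    have hb' : (l : G) * b * (l : G)⁻¹ ∈ (l • B).1 := by
      rw [dadeIndexAction_mem hD]
      rwa [show (l : G)⁻¹ * ((l : G) * b * (l : G)⁻¹) * l = b by group]
    have h2 := dade_mem_H_conj hD (g := (l : G)⁻¹) ((l • B).2.2 hb')
      (by rw [show (l : G)⁻¹ * ((l : G) * b * (l : G)⁻¹) * (l : G)⁻¹⁻¹ = b by group]; exact B.2.2 hb)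
      (h _ hb')
    rwa [show (l : G)⁻¹ * ((l : G) * b * (l : G)⁻¹) * (l : G)⁻¹⁻¹ = b by group, inv_inv] at h2
  · intro h b hb
    have hb' := (dadeIndexAction_mem hD l B b).mp hb
    have h2 := dade_mem_H_conj hD (g := (l : G)) (B.2.2 hb')
      (by rw [show (l : G) * ((l : G)⁻¹ * b * l) * (l : G)⁻¹ = b by group]; exact (l • B).2.2 hb)
      (h _ hb')
    rwa [show (l : G) * ((l : G)⁻¹ * b * l) * (l : G)⁻¹ = b by group,
      show (l : G) * ((l : G)⁻¹ * u * l) * (l : G)⁻¹ = u by group] at h2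

theorem dadeStab_smul_iff (hD : DadeHypothesis A L H) (l : L) (B : DadeIndex A) (n : L) :
    letI := dadeIndexAction hD
    ((l * n * l⁻¹ : L) : G) ∈ dadeStab hD (l • B) ↔ (n : G) ∈ dadeStab hD B := by
  letI := dadeIndexAction hD
  have h : ∀ (m : L) (C : DadeIndex A), (m : G) ∈ dadeStab hD C ↔ m • C = C := by
    intro m C
    constructor
    · rintro ⟨m', hm', e⟩
      rw [← show m' = m from Subtype.ext e]
      exact hm'
    · exact fun hm => ⟨m, hm, rfl⟩
  rw [h, h]
  constructor
  · intro e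
    rw [mul_smul, mul_smul, inv_smul_smul] at e
    exact smul_left_cancel l e
  · intro e
    rw [mul_smul, mul_smul, inv_smul_smul, e]

open Classical in
/-- The inner sum of the Dade formula. -/
noncomputable def dadeTerm [Fintype L] (hD : DadeHypothesis A L H) (α : L → ℂ) (B : DadeIndex A)
    (g : G) : ℂ :=
  ∑ n ∈ Finset.univ.filter (fun n : L => (n : G) ∈ dadeStab hD B), α n * dadeWeight H B.1 n g

theorem dadeTerm_smul [Fintype L] (hD : DadeHypothesis A L H) {α : L → ℂ}
    (hα : IsClassFunction L α) (l : L) (B : DadeIndex A) (g : G) :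
    letI := dadeIndexAction hD
    dadeTerm hD α (l • B) g = dadeTerm hD α B g := by
  classical
  letI := dadeIndexAction hD
  symm
  refine Finset.sum_equiv (MulAut.conj l).toEquiv (fun n => ?_) fun n _ => ?_
  · simp only [Finset.mem_filter, Finset.mem_univ, true_and, MulEquiv.toEquiv_eq_coe,
      EquivLike.coe_coe, MulAut.conj_apply]
    exact (dadeStab_smul_iff hD l B n).symm
  simp only [MulEquiv.toEquiv_eq_coe, EquivLike.coe_coe, MulAut.conj_apply]
  rw [hα n l]
  congr 1
  rw [dadeWeight, dadeWeight]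
  have hc : Nat.card (dadeInf H (l • B).1) = Nat.card (dadeInf H B.1) := by
    refine Nat.card_congr (Equiv.subtypeEquiv (MulAut.conj (l : G)⁻¹).toEquiv fun u => ?_)
    simp only [MulEquiv.toEquiv_eq_coe, EquivLike.coe_coe, MulAut.conj_apply, inv_inv]
    exact dadeInf_smul_iff hD l B u
  rw [hc]
  congr 1
  refine Fintype.sum_equiv (Equiv.mulRight ((l : G)⁻¹)) _ _ fun x => ?_
  simp only [Equiv.coe_mulRight, Subgroup.coe_mul, InvMemClass.coe_inv]
  refine congrArg Nat.cast (Finset.card_equiv (MulAut.conj (l : G)).toEquiv fun h => ?_)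
  simp only [Finset.mem_filter, Finset.mem_univ, true_and, MulEquiv.toEquiv_eq_coe,
    EquivLike.coe_coe, MulAut.conj_apply]
  erw [Finset.mem_filter, dadeInf_smul_iff hD l B]
  simp only [Finset.mem_univ, true_and]
  rw [show (l : G)⁻¹ * ((l : G) * h * (l : G)⁻¹) * l = h by group]
  refine and_congr_right fun _ => ?_
  constructor <;> intro e
  · calc (l : G) * h * (l : G)⁻¹ * ((l : G) * n * (l : G)⁻¹) = (l : G) * (h * n) * (l : G)⁻¹ := by
          group
      _ = _ := by rw [e]; group
  · calc h * (n : G) = (l : G)⁻¹ * ((l : G) * h * (l : G)⁻¹ * ((l : G) * n * (l : G)⁻¹)) * l := by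
          group
      _ = _ := by rw [e]; group

open Classical in
/-- The weights of the singletons give the Dade map. -/
theorem sum_weight_singleton [Fintype L] (hD : DadeHypothesis A L H) {α : L → ℂ}
    (hα : IsClassFunction L α) (g : G) :
    ∑ n ∈ Finset.univ.filter (fun n : L => (n : G) ∈ A), α n * dadeWeight H {(n : G)} n g =
      (Nat.card L : ℂ) * dadeIsometry A L H α g := by
  have hinf : ∀ n : G, dadeInf H {n} = H n := fun n => by
    ext u
    simp [mem_dadeInf]
  by_cases hg : g ∈ dadeSet A H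
  · obtain ⟨a, ha, u, hu, y, e⟩ := hg
    rw [dadeIsometry_apply hD hα ha hu e, ← dade_weight_eq hD ha hu, Finset.sum_comm,
      Finset.sum_mul]
    have himg : (Finset.univ.filter fun n : L => (n : G) ∈ A).image (fun n : L => (n : G)) =
        Finset.univ.filter (· ∈ A) := by
      ext x
      simp only [Finset.mem_image, Finset.mem_filter, Finset.mem_univ, true_and]
      exact ⟨fun ⟨b, hb, h⟩ => h ▸ hb, fun hx => ⟨⟨x, hD.subset hx⟩, hx, rfl⟩⟩
    rw [← himg, Finset.sum_image Subtype.val_injective.injOn]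
    refine Finset.sum_congr rfl fun n hn => ?_
    have hnA : (n : G) ∈ A := (Finset.mem_filter.mp hn).2
    rw [dadeWeight, hinf, ← Finset.mul_sum]
    have hval : ∀ x h : G, h ∈ H (n : G) → h * n = x⁻¹ * g * x →
        α n = α ⟨a, hD.subset ha⟩ := by
      intro x h hh hx
      have h1 : (y * x) * ((n : G) * h) * (y * x)⁻¹ = a * u := by
        rw [(dade_commute hD hnA hh).eq, hx, ← e]
        group
      obtain ⟨l, hl, hle⟩ := dade_conj_in_L hD hnA ha hh hu h1
      rw [← hα n ⟨l, hl⟩]
      exact congrArg α (Subtype.ext hle)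
    have hsum : (∑ x : G,
          ((Finset.univ.filter fun v : G => v ∈ H (n : G) ∧ x * ((n : G) * v) * x⁻¹ = a * u).card : ℂ)) =
        ∑ x : G, ((Finset.univ.filter fun h : G => h ∈ H (n : G) ∧ h * n = x⁻¹ * g * x).card : ℂ) := by
      refine Fintype.sum_equiv (Equiv.mulLeft y⁻¹) _ _ fun x => ?_
      simp only [Equiv.coe_mulLeft]
      refine congrArg (fun s : Finset G => (s.card : ℂ)) (Finset.filter_congr fun v _ => ?_)
      refine and_congr_right fun hv => ?_
      rw [← (dade_commute hD hnA hv).eq]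
      constructor <;> intro h
      · calc (n : G) * v = x⁻¹ * (x * ((n : G) * v) * x⁻¹) * x := by group
          _ = _ := by rw [h, ← e]; group
      · rw [h, ← e]; group
    rw [hsum]
    by_cases hz : ∑ x : G,
        ((Finset.univ.filter fun h : G => h ∈ H (n : G) ∧ h * n = x⁻¹ * g * x).card : ℂ) = 0
    · simp [hz]
    · obtain ⟨x, -, hx⟩ := Finset.exists_ne_zero_of_sum_ne_zero hz
      obtain ⟨h, hh⟩ := Finset.card_ne_zero.mp (Nat.cast_ne_zero.mp hx)
      rw [hval x h (Finset.mem_filter.mp hh).2.1 (Finset.mem_filter.mp hh).2.2]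
      ring
  · rw [dadeIsometry_eq_zero hD hg, mul_zero]
    refine Finset.sum_eq_zero fun n hn => ?_
    have hnA : (n : G) ∈ A := (Finset.mem_filter.mp hn).2
    rw [dadeWeight, hinf, Finset.sum_eq_zero fun x _ => ?_, mul_zero, mul_zero]
    rw [Nat.cast_eq_zero, Finset.card_eq_zero, Finset.filter_eq_empty_iff]
    rintro h - ⟨hh, e⟩
    refine hg ⟨n, hnA, h, hh, x⁻¹, ?_⟩
    rw [(dade_commute hD hnA hh).eq, e]
    group

/-- The inclusion-exclusion formula. -/
theorem dade_formula [Fintype L] [Fintype (DadeIndex A)] (hD : DadeHypothesis A L H) {α : L → ℂ}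
    (hα : IsClassFunction L α) (hαA : ∀ x : L, (x : G) ∉ A → α x = 0) (g : G) :
    ∑ B : DadeIndex A, (-1 : ℂ) ^ (B.1.card + 1) * dadeTerm hD α B g =
      (Nat.card L : ℂ) * dadeIsometry A L H α g := by
  classical
  rw [← sum_weight_singleton hD hα g]
  simp only [dadeTerm, Finset.mul_sum]
  set F : DadeIndex A × L → ℂ := fun w =>
    (-1 : ℂ) ^ (w.1.1.card + 1) * (α w.2 * dadeWeight H w.1.1 w.2 g) with hF
  set P := (Finset.univ : Finset (DadeIndex A × L)).filter
    fun w => (w.2 : G) ∈ dadeStab hD w.1 ∧ (w.2 : G) ∈ A with hP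
  have h1 : ∑ B : DadeIndex A, ∑ n ∈ Finset.univ.filter (fun n : L => (n : G) ∈ dadeStab hD B),
      (-1 : ℂ) ^ (B.1.card + 1) * (α n * dadeWeight H B.1 n g) = ∑ w ∈ P, F w := by
    rw [hP, Finset.sum_filter, Fintype.sum_prod_type]
    refine Finset.sum_congr rfl fun B _ => ?_
    rw [Finset.sum_filter]
    refine Finset.sum_congr rfl fun n _ => ?_
    by_cases hA : (n : G) ∈ A
    · simp only [hA, and_true, hF]
    · simp [hA, hαA n hA, hF]
  rw [h1, ← Finset.sum_filter_add_sum_filter_not P (fun w => w.1.1 = {(w.2 : G)})]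
  have hzero : ∑ w ∈ P.filter (fun w => ¬ w.1.1 = {(w.2 : G)}), F w = 0 := by
    have hmk : ∀ w ∈ P.filter (fun w => ¬ w.1.1 = {(w.2 : G)}),
        (symmDiff w.1.1 {(w.2 : G)}).Nonempty ∧ ↑(symmDiff w.1.1 {(w.2 : G)}) ⊆ A := by
      intro w hw
      obtain ⟨hw1, hw2⟩ := Finset.mem_filter.mp hw
      constructor
      · rw [Finset.nonempty_iff_ne_empty]
        intro h
        exact hw2 (symmDiff_eq_bot.mp h)
      · intro x hx
        rcases Finset.mem_symmDiff.mp (Finset.mem_coe.mp hx) with ⟨h, -⟩ | ⟨h, -⟩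
        · exact w.1.2.2 h
        · rw [Finset.mem_singleton.mp h]
          exact (Finset.mem_filter.mp hw1).2.2
    refine Finset.sum_involution
      (fun w hw => (⟨symmDiff w.1.1 {(w.2 : G)}, hmk w hw⟩, w.2)) (fun w hw => ?_)
      (fun w hw _ => ?_) (fun w hw => ?_) (fun w hw => ?_)
    · have hA : (w.2 : G) ∈ A := (Finset.mem_filter.mp (Finset.mem_filter.mp hw).1).2.2
      have hs : (w.2 : G) ∈ dadeStab hD w.1 := (Finset.mem_filter.mp (Finset.mem_filter.mp hw).1).2.1
      simp only [hF]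
      by_cases hmem : (w.2 : G) ∈ w.1.1
      · have e : symmDiff w.1.1 {(w.2 : G)} = w.1.1.erase (w.2 : G) := by
          ext x
          simp only [Finset.mem_symmDiff, Finset.mem_singleton, Finset.mem_erase]
          grind
        have hs' : (w.2 : G) ∈ dadeStab hD ⟨_, hmk w hw⟩ := by
          refine mem_dadeStab.mpr ⟨w.2.2, fun x => ?_⟩
          simp only [Finset.mem_symmDiff, Finset.mem_singleton]
          rw [(mem_dadeStab.mp hs).2 x,
            show ((w.2 : G)⁻¹ * x * w.2 = w.2) ↔ x = w.2 from ⟨fun h => by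
              calc x = (w.2 : G) * ((w.2 : G)⁻¹ * x * w.2) * (w.2 : G)⁻¹ := by group
                _ = w.2 := by rw [h]; group, fun h => by rw [h]; group⟩]
        have hwt := dadeWeight_insert hD ⟨_, hmk w hw⟩ hA hs' g
        simp only [e] at hwt ⊢
        rw [Finset.insert_erase hmem] at hwt
        rw [hwt, ← Finset.card_erase_add_one hmem, pow_succ _ ((w.1.1.erase (w.2 : G)).card + 1)]
        ring
      · have e : symmDiff w.1.1 {(w.2 : G)} = insert (w.2 : G) w.1.1 := by
          ext x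
          simp only [Finset.mem_symmDiff, Finset.mem_singleton, Finset.mem_insert]
          grind
        simp only [e]
        rw [← dadeWeight_insert hD w.1 hA hs g, Finset.card_insert_of_notMem hmem,
          pow_succ _ (w.1.1.card + 1)]
        ring
    · intro h
      have h' : symmDiff w.1.1 {(w.2 : G)} = w.1.1 := congrArg (fun v => v.1.1) h
      have := symmDiff_eq_left.mp h'
      exact Finset.singleton_ne_empty _ this
    · obtain ⟨hw1, hw2⟩ := Finset.mem_filter.mp hw
      refine Finset.mem_filter.mpr ⟨Finset.mem_filter.mpr ⟨Finset.mem_univ _, ?_,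
        (Finset.mem_filter.mp hw1).2.2⟩, ?_⟩
      · refine mem_dadeStab.mpr ⟨w.2.2, fun x => ?_⟩
        simp only [Finset.mem_symmDiff, Finset.mem_singleton]
        rw [(mem_dadeStab.mp (Finset.mem_filter.mp hw1).2.1).2 x]
        have : ((w.2 : G)⁻¹ * x * w.2 = w.2) ↔ x = w.2 := by
          constructor
          · intro h
            calc x = (w.2 : G) * ((w.2 : G)⁻¹ * x * w.2) * (w.2 : G)⁻¹ := by group
              _ = w.2 := by rw [h]; group
          · intro h; rw [h]; group
        rw [this]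
      · intro h
        have h' : symmDiff w.1.1 {(w.2 : G)} = {(w.2 : G)} := h
        exact w.1.2.1.ne_empty (symmDiff_eq_right.mp h')
    · exact Prod.ext (Subtype.ext (symmDiff_symmDiff_cancel_right _ _)) rfl
  rw [hzero, add_zero]
  refine Finset.sum_bij (fun w _ => w.2) (fun w hw => ?_) (fun v hv w hw h => ?_)
    (fun n hn => ?_) (fun w hw => ?_)
  · exact Finset.mem_filter.mpr ⟨Finset.mem_univ _,
      (Finset.mem_filter.mp (Finset.mem_filter.mp hw).1).2.2⟩
  · refine Prod.ext (Subtype.ext ?_) h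
    rw [(Finset.mem_filter.mp hv).2, (Finset.mem_filter.mp hw).2, h]
  · have hnA : (n : G) ∈ A := (Finset.mem_filter.mp hn).2
    refine ⟨(⟨{(n : G)}, Finset.singleton_nonempty _, by simpa using hnA⟩, n),
      Finset.mem_filter.mpr ⟨Finset.mem_filter.mpr ⟨Finset.mem_univ _, ?_, hnA⟩, rfl⟩, rfl⟩
    refine mem_dadeStab.mpr ⟨n.2, fun x => ?_⟩
    simp only [Finset.mem_singleton]
    constructor
    · intro h; rw [h]; group
    · intro h
      calc x = (n : G) * ((n : G)⁻¹ * x * n) * (n : G)⁻¹ := by group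
        _ = n := by rw [h]; group
  · simp only [hF, (Finset.mem_filter.mp hw).2, Finset.card_singleton]
    norm_num

/-- The Dade map sends generalized characters to generalized characters. -/
theorem isGenChar_dadeIsometry [Fintype L] (hD : DadeHypothesis A L H) {α : L → ℂ}
    (hα : IsGeneralizedCharacter L α) (hαA : ∀ x : L, (x : G) ∉ A → α x = 0) :
    IsGeneralizedCharacter G (dadeIsometry A L H α) := by
  classical
  haveI := Fintype.ofFinite (DadeIndex A)
  letI := dadeIndexAction hD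
  obtain ⟨χ, ψ, hχ, hψ, rfl⟩ := hα
  have hcf : IsClassFunction L (χ - ψ) := fun g h => by
    simp only [Pi.sub_apply, isClassFunction_character hχ g h, isClassFunction_character hψ g h]
  choose π hπ using fun B : DadeIndex A => exists_dadeProj hD B
  set T : DadeIndex A → G → ℂ := fun B =>
    ((-1 : ℂ) ^ (B.1.card + 1)) • indFun (dadeInf H B.1 ⊔ dadeStab hD B)
      (fun m => (χ - ψ) (π B m)) with hT
  have hgen : ∀ B, IsGeneralizedCharacter G (T B) := fun B =>
    isGenChar_neg_one_pow ⟨_, _, isCharacter_indFun _ (isCharacter_comp (π B) hχ),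
      isCharacter_indFun _ (isCharacter_comp (π B) hψ),
      indFun_sub _ (χ ∘ π B) (ψ ∘ π B)⟩ _
  haveI : Fintype (Quotient (MulAction.orbitRel L (DadeIndex A))) := Fintype.ofFinite _
  suffices h : dadeIsometry A L H (χ - ψ) =
      ∑ ω : Quotient (MulAction.orbitRel L (DadeIndex A)), T ω.out by
    rw [h]
    exact isGenChar_sum _ _ fun ω _ => hgen _
  funext g
  have hL : (Nat.card L : ℂ) ≠ 0 := Nat.cast_ne_zero.mpr Nat.card_pos.ne'
  refine mul_left_cancel₀ hL ?_
  rw [← dade_formula hD hcf hαA g, Finset.sum_apply, Finset.mul_sum,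
    ← Finset.sum_fiberwise Finset.univ (fun B : DadeIndex A => (Quotient.mk'' B :
      Quotient (MulAction.orbitRel L (DadeIndex A))))]
  refine Finset.sum_congr rfl fun ω _ => ?_
  set R := ω.out with hR
  have hterm : ∀ B ∈ Finset.univ.filter (fun B : DadeIndex A => (Quotient.mk'' B :
      Quotient (MulAction.orbitRel L (DadeIndex A))) = ω),
      (-1 : ℂ) ^ (B.1.card + 1) * dadeTerm hD (χ - ψ) B g =
        (-1 : ℂ) ^ (R.1.card + 1) * dadeTerm hD (χ - ψ) R g := by
    intro B hB
    have hB' := (Finset.mem_filter.mp hB).2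
    rw [← Quotient.out_eq' ω, Quotient.eq''] at hB'
    obtain ⟨l, hl⟩ := MulAction.mem_orbit_iff.mp (MulAction.orbitRel_apply.mp hB')
    rw [← hl, dadeTerm_smul hD hcf l]
    congr 3
    change (R.1.image fun b => (l : G) * b * (l : G)⁻¹).card = _
    exact Finset.card_image_of_injective _ fun a b h => mul_left_cancel (mul_right_cancel h)
  have hfib : ((Finset.univ.filter (fun B : DadeIndex A => (Quotient.mk'' B :
      Quotient (MulAction.orbitRel L (DadeIndex A))) = ω)).card : ℂ) *
      (Nat.card (dadeStab hD R) : ℂ) = (Nat.card L : ℂ) := by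
    rw [dadeStab_card, ← Nat.cast_mul]
    congr 1
    have e : (Finset.univ.filter (fun B : DadeIndex A => (Quotient.mk'' B :
        Quotient (MulAction.orbitRel L (DadeIndex A))) = ω)).card = (MulAction.orbit L R).ncard := by
      rw [← Set.ncard_coe_finset]
      congr 1
      ext B
      rw [Finset.coe_filter, Set.mem_setOf_eq, ← MulAction.orbitRel_apply]
      simp only [Finset.mem_univ, true_and]
      rw [← Quotient.eq'', hR, Quotient.out_eq']
    rw [e, ← MulAction.index_stabilizer, Subgroup.index_mul_card]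
  rw [Finset.sum_congr rfl hterm, Finset.sum_const, nsmul_eq_mul, hT]
  simp only [Pi.smul_apply, smul_eq_mul]
  rw [indFun_dadeProj hD R (π R) (hπ R) (χ - ψ) g, ← hfib, dadeTerm]
  have hN : (Nat.card (dadeStab hD R) : ℂ) ≠ 0 := Nat.cast_ne_zero.mpr Nat.card_pos.ne'
  field_simp

end Cfsg.Agent.Char
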