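import Cfsg.Agent.Lib.Char.Coherence

/-!
# Feit's coherence criterion
-/

set_option autoImplicit false
set_option linter.unusedSectionVars false
set_option linter.style.haveILetI false

namespace Cfsg.Agent.Char

open Cfsg
open scoped ComplexConjugate

universe u v

variable {G : Type u} [Group G] [Fintype G] {L : Type v} [Group L] [Fintype L]

theorem mem_zspanOn_punctured {S : Set (L → ℂ)} {α : L → ℂ} (h : α ∈ zspan S) (h1 : α 1 = 0) :
    α ∈ zspanOn S {1}ᶜ :=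
  ⟨h, fun x hx => by rw [Set.notMem_compl_iff, Set.mem_singleton_iff] at hx; rw [hx, h1]⟩

theorem zspanOn_one {S : Set (L → ℂ)} {α : L → ℂ} (h : α ∈ zspanOn S {1}ᶜ) : α 1 = 0 :=
  h.2 1 (by simp)

theorem zspanOn_mono {S T : Set (L → ℂ)} {A : Set L} (h : S ⊆ T) {α : L → ℂ}
    (hα : α ∈ zspanOn S A) : α ∈ zspanOn T A :=
  ⟨Submodule.span_mono h hα.1, hα.2⟩

/-- Feit's criterion. -/
theorem feit_criterion (S₀ : Finset (L → ℂ)) (χ : L → ℂ) (hirr : ∀ ξ ∈ S₀, IsIrrCharacter L ξ)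
    (hχ : IsIrrCharacter L χ) (hχS : χ ∉ S₀) (d : (L → ℂ) → ℕ) (hdχ : χ 1 = (d χ : ℂ))
    (hd : ∀ ξ ∈ S₀, ξ 1 = (d ξ : ℂ)) (τ : (L → ℂ) → (G → ℂ))
    (hτ : IsLinearIsometryOn (zspanOn (insert χ (↑S₀ : Set (L → ℂ))) {1}ᶜ) τ)
    (hτ1 : ∀ α ∈ zspanOn (insert χ (↑S₀ : Set (L → ℂ))) {1}ᶜ, τ α 1 = 0)
    (hcoh : IsCoherent (↑S₀ : Set (L → ℂ)) {1}ᶜ τ) {ψ : L → ℂ} (hψ : ψ ∈ S₀) (hdvd : d ψ ∣ d χ)
    (hlt : 2 * d ψ * d χ < ∑ ξ ∈ S₀, d ξ ^ 2) :
    IsCoherent (insert χ (↑S₀ : Set (L → ℂ))) {1}ᶜ τ := by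
  classical
  obtain ⟨⟨α₀, hα₀, hα₀ne⟩, τ₁, hiso, hagree⟩ := hcoh
  obtain ⟨n, hn⟩ := hdvd
  set S : Set (L → ℂ) := insert χ (↑S₀ : Set (L → ℂ)) with hS
  have hsub : (↑S₀ : Set (L → ℂ)) ⊆ S := Set.subset_insert _ _
  have hdpos : ∀ ξ ∈ S₀, 0 < d ξ := fun ξ hξ => by
    rcases Nat.eq_zero_or_pos (d ξ) with h | h
    · exact absurd (by rw [hd ξ hξ, h, Nat.cast_zero]) (irr_one_ne_zero (hirr ξ hξ))
    · exact h
  have hdψ := hdpos ψ hψ
  have hnpos : 0 < n := by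
    rcases Nat.eq_zero_or_pos n with h | h
    · exact absurd (by rw [hdχ, hn, h, mul_zero, Nat.cast_zero]) (irr_one_ne_zero hχ)
    · exact h
  have hmS : ∀ ξ ∈ S₀, ξ ∈ zspan S := fun ξ hξ => mem_zspan_of_mem (hsub hξ)
  have hmS₀ : ∀ ξ ∈ S₀, ξ ∈ zspan (↑S₀ : Set (L → ℂ)) := fun ξ hξ => mem_zspan_of_mem hξ
  have horth : ∀ ξ ∈ S₀, ∀ η ∈ S₀, classInner ξ η = if ξ = η then 1 else 0 := fun ξ hξ η hη =>
    irr_orth (hirr ξ hξ) (hirr η hη)
  have hχorth : ∀ ξ ∈ S₀, classInner χ ξ = 0 ∧ classInner ξ χ = 0 := fun ξ hξ => by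
    have hne : χ ≠ ξ := fun h => hχS (h ▸ hξ)
    exact ⟨by rw [irr_orth hχ (hirr ξ hξ), if_neg hne],
      by rw [irr_orth (hirr ξ hξ) hχ, if_neg hne.symm]⟩
  set β : L → ℂ := χ - (n : ℤ) • ψ with hβ
  have hβm : β ∈ zspanOn S {1}ᶜ := by
    refine mem_zspanOn_punctured (Submodule.sub_mem _ (mem_zspan_of_mem (Set.mem_insert _ _))
      (Submodule.smul_mem _ _ (hmS ψ hψ))) ?_
    simp only [hβ, Pi.sub_apply, Pi.smul_apply, Pi.mul_apply, Pi.intCast_apply, Pi.natCast_apply, zsmul_eq_mul, hdχ, hd ψ hψ, hn, Int.cast_natCast,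
      Nat.cast_mul]
    ring
  set γ : (L → ℂ) → L → ℂ := fun ξ => (d ψ : ℤ) • ξ - (d ξ : ℤ) • ψ with hγ
  have hγm : ∀ ξ ∈ S₀, γ ξ ∈ zspanOn (↑S₀ : Set (L → ℂ)) {1}ᶜ := fun ξ hξ => by
    refine mem_zspanOn_punctured (Submodule.sub_mem _ (Submodule.smul_mem _ _ (hmS₀ ξ hξ))
      (Submodule.smul_mem _ _ (hmS₀ ψ hψ))) ?_
    simp only [hγ, Pi.sub_apply, Pi.smul_apply, Pi.mul_apply, Pi.intCast_apply, Pi.natCast_apply, zsmul_eq_mul, hd ψ hψ, hd ξ hξ, Int.cast_natCast]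
    ring
  have hz : ∀ (k : ℤ) (f : G → ℂ), k • f = (k : ℂ) • f := fun k f => (Int.cast_smul_eq_zsmul ℂ k f).symm
  have hzL : ∀ (k : ℤ) (f : L → ℂ), k • f = (k : ℂ) • f := fun k f => (Int.cast_smul_eq_zsmul ℂ k f).symm
  have hτγ : ∀ ξ ∈ S₀, τ (γ ξ) = ((d ψ : ℤ) : ℂ) • τ₁ ξ - ((d ξ : ℤ) : ℂ) • τ₁ ψ := by
    intro ξ hξ
    rw [← hagree _ (hγm ξ hξ), hγ, isometryOn_sub hiso (Submodule.smul_mem _ _ (hmS₀ ξ hξ))
      (Submodule.smul_mem _ _ (hmS₀ ψ hψ)), hiso.2.1 ξ (hmS₀ ξ hξ), hiso.2.1 ψ (hmS₀ ψ hψ), hz, hz]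
  set x := τ β with hx
  have hint : ∀ ξ ∈ S₀, ∃ z : ℤ, classInner x (τ₁ ξ) = z := fun ξ hξ =>
    classInner_gen_int (hτ.2.2.2 β hβm) (hiso.2.2.2 ξ (hmS₀ ξ hξ))
  choose! c hc using hint
  have hrel : ∀ ξ ∈ S₀, ξ ≠ ψ → (d ψ : ℤ) * c ξ - (d ξ : ℤ) * c ψ = (n : ℤ) * d ξ := by
    intro ξ hξ hne
    have h := hτ.2.2.1 β hβm (γ ξ) (zspanOn_mono hsub (hγm ξ hξ))
    rw [hτγ ξ hξ, classInner_sub_right, classInner_smul_right, classInner_smul_right, map_intCast,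
      map_intCast, hc ξ hξ, hc ψ hψ, hβ, hγ] at h
    simp only [hzL] at h
    simp only [classInner_sub_left, classInner_sub_right, classInner_smul_left,
      classInner_smul_right, map_intCast, (hχorth ξ hξ).1, (hχorth ψ hψ).1, horth ψ hψ ξ hξ,
      horth ψ hψ ψ hψ, if_neg (Ne.symm hne), if_pos] at h
    have e : (((d ψ : ℤ) * c ξ - (d ξ : ℤ) * c ψ : ℤ) : ℂ) = (((n : ℤ) * d ξ : ℤ) : ℂ) := by
      push_cast at h ⊢
      linear_combination h
    exact_mod_cast e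
  set a : ℤ := c ψ + n with ha
  have hall : ∀ ξ ∈ S₀, (d ψ : ℤ) * c ξ + (if ξ = ψ then (d ψ : ℤ) * n else 0) = d ξ * a := by
    intro ξ hξ
    by_cases h : ξ = ψ
    · rw [if_pos h, h, ha]; ring
    · rw [if_neg h, ha]
      linear_combination hrel ξ hξ h
  -- the remainder of the projection
  set P : G → ℂ := ∑ ξ ∈ S₀, (c ξ : ℂ) • τ₁ ξ with hP
  set r : G → ℂ := x - P with hr
  have horth' : ∀ ξ ∈ S₀, ∀ η ∈ S₀, classInner (τ₁ ξ) (τ₁ η) = if ξ = η then 1 else 0 :=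
    fun ξ hξ η hη => by rw [hiso.2.2.1 ξ (hmS₀ ξ hξ) η (hmS₀ η hη), horth ξ hξ η hη]
  have hPin : ∀ η ∈ S₀, classInner P (τ₁ η) = c η := fun η hη => by
    rw [hP, classInner_sum_left, Finset.sum_eq_single η]
    · rw [classInner_smul_left, horth' η hη η hη, if_pos rfl, mul_one]
    · intro ξ hξ hne
      rw [classInner_smul_left, horth' ξ hξ η hη, if_neg hne, mul_zero]
    · exact fun h => absurd hη h
  have hrorth : ∀ η ∈ S₀, classInner r (τ₁ η) = 0 := fun η hη => by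
    rw [hr, classInner_sub_left, hc η hη, hPin η hη, sub_self]
  have hxx : classInner x x = ((1 + (n : ℤ) ^ 2 : ℤ) : ℂ) := by
    rw [hx, hτ.2.2.1 β hβm β hβm, hβ, hzL]
    simp only [classInner_sub_left, classInner_sub_right, classInner_smul_left,
      classInner_smul_right, map_intCast, (hχorth ψ hψ).1, (hχorth ψ hψ).2, irr_self hχ,
      horth ψ hψ ψ hψ, if_pos]
    push_cast
    ring
  have hrr : classInner r r = ((1 + (n : ℤ) ^ 2 - ∑ ξ ∈ S₀, c ξ * c ξ : ℤ) : ℂ) := by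
    have h1 : classInner r P = 0 := by
      rw [hP, classInner_sum_right]
      refine Finset.sum_eq_zero fun ξ hξ => ?_
      rw [classInner_smul_right, hrorth ξ hξ, mul_zero]
    have h2 : classInner P x = ∑ ξ ∈ S₀, ((c ξ * c ξ : ℤ) : ℂ) := by
      rw [hP, classInner_sum_left]
      refine Finset.sum_congr rfl fun ξ hξ => ?_
      rw [classInner_smul_left, ← classInner_symm x, hc ξ hξ, map_intCast, Int.cast_mul]
    calc classInner r r = classInner r x - classInner r P := by rw [← classInner_sub_right]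
      _ = classInner x x - classInner P x := by rw [h1, sub_zero, hr, classInner_sub_left]
      _ = _ := by rw [hxx, h2]; push_cast; ring
  have hrnn : (0 : ℤ) ≤ 1 + (n : ℤ) ^ 2 - ∑ ξ ∈ S₀, c ξ * c ξ := by
    have h := congrArg Complex.re hrr
    rw [classInner_self_re, Complex.ofReal_re, Complex.intCast_re] at h
    have h0 : (0 : ℝ) ≤ ((1 + (n : ℤ) ^ 2 - ∑ ξ ∈ S₀, c ξ * c ξ : ℤ) : ℝ) := by
      rw [← h]
      exact mul_nonneg (inv_nonneg.mpr (Nat.cast_nonneg _))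
        (Finset.sum_nonneg fun g _ => sq_nonneg _)
    exact_mod_cast h0
  -- evaluate the sum of squares
  set T : ℤ := ∑ ξ ∈ S₀, (d ξ : ℤ) ^ 2 with hT
  have hTgt : 2 * (n : ℤ) * (d ψ : ℤ) ^ 2 < T := by
    have : ((2 * d ψ * d χ : ℕ) : ℤ) < ((∑ ξ ∈ S₀, d ξ ^ 2 : ℕ) : ℤ) := by exact_mod_cast hlt
    rw [hn] at this
    push_cast at this
    rw [hT]
    linear_combination this
  have hsum : (d ψ : ℤ) ^ 2 * ∑ ξ ∈ S₀, c ξ * c ξ =
      a ^ 2 * T - 2 * a * n * (d ψ : ℤ) ^ 2 + (n : ℤ) ^ 2 * (d ψ : ℤ) ^ 2 := by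
    have e : ∀ ξ ∈ S₀, (d ψ : ℤ) ^ 2 * (c ξ * c ξ) = a ^ 2 * (d ξ : ℤ) ^ 2 +
        (if ξ = ψ then (n : ℤ) ^ 2 * (d ψ : ℤ) ^ 2 - 2 * a * n * (d ψ : ℤ) ^ 2 else 0) := by
      intro ξ hξ
      have h := hall ξ hξ
      by_cases he : ξ = ψ
      · rw [if_pos he] at h ⊢
        rw [he] at h ⊢
        have h' : (d ψ : ℤ) * c ψ = d ψ * a - d ψ * n := by linear_combination h
        linear_combination ((d ψ : ℤ) * c ψ + (d ψ * a - d ψ * n)) * h'
      · rw [if_neg he, add_zero] at h ⊢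
        linear_combination ((d ψ : ℤ) * c ξ + d ξ * a) * h
    rw [Finset.mul_sum, Finset.sum_congr rfl e, Finset.sum_add_distrib, ← Finset.mul_sum,
      Finset.sum_ite_eq' S₀ ψ, if_pos hψ, ← hT]
    ring
  have hdψ' : (1 : ℤ) ≤ d ψ := by exact_mod_cast hdψ
  have hn' : (1 : ℤ) ≤ n := by exact_mod_cast hnpos
  have ha0 : a = 0 := by
    by_contra hne
    have hineq : a ^ 2 * T - 2 * a * n * (d ψ : ℤ) ^ 2 ≤ (d ψ : ℤ) ^ 2 := by
      nlinarith [mul_nonneg (sq_nonneg (d ψ : ℤ)) hrnn]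
    by_cases ha1 : a = 1
    · -- the projection would be everything, impossible by degrees
      have hr0 : 1 + (n : ℤ) ^ 2 - ∑ ξ ∈ S₀, c ξ * c ξ = 0 := by
        by_contra h0
        have hpos : 1 ≤ 1 + (n : ℤ) ^ 2 - ∑ ξ ∈ S₀, c ξ * c ξ := by omega
        rw [ha1] at hsum
        nlinarith [mul_le_mul_of_nonneg_left hpos (sq_nonneg (d ψ : ℤ))]
      have hxP : x = P := sub_eq_zero.mp (classInner_self_eq_zero (by rw [← hr, hrr, hr0, Int.cast_zero]))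
      have hdeg : ∀ ξ ∈ S₀, (d ψ : ℂ) * τ₁ ξ 1 = (d ξ : ℂ) * τ₁ ψ 1 := fun ξ hξ => by
        have h := hτ1 (γ ξ) (zspanOn_mono hsub (hγm ξ hξ))
        rw [hτγ ξ hξ] at h
        simp only [Pi.sub_apply, Pi.smul_apply, smul_eq_mul, Int.cast_natCast] at h
        linear_combination h
      have hP1 : (0 : ℂ) = ∑ ξ ∈ S₀, (c ξ : ℂ) * τ₁ ξ 1 := by
        rw [← hτ1 β hβm, ← hx, hxP, hP, Finset.sum_apply]
        rfl
      have hk : τ₁ ψ 1 ≠ 0 := by
        obtain ⟨e, μ, he, hμ⟩ := exists_sign_of_norm_one (hiso.2.2.2 ψ (hmS₀ ψ hψ))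
          (by rw [horth' ψ hψ ψ hψ, if_pos rfl])
        rw [hμ, Pi.smul_apply, smul_eq_mul]
        exact mul_ne_zero (by rcases he with h | h <;> simp [h]) (irr_one_ne_zero μ.2)
      have h2 : (((T - n * (d ψ : ℤ) ^ 2 : ℤ)) : ℂ) * τ₁ ψ 1 = 0 := by
        have e : ∀ ξ ∈ S₀, (d ψ : ℂ) ^ 2 * ((c ξ : ℂ) * τ₁ ξ 1) =
            (((d ξ : ℤ) ^ 2 - if ξ = ψ then (n : ℤ) * (d ψ : ℤ) ^ 2 else 0 : ℤ) : ℂ) * τ₁ ψ 1 := by
          intro ξ hξ
          have h := hall ξ hξ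
          rw [ha1, mul_one] at h
          have h' : (((d ψ : ℤ) * c ξ + (if ξ = ψ then (d ψ : ℤ) * n else 0) : ℤ) : ℂ) =
              ((d ξ : ℤ) : ℂ) := by rw [h]
          by_cases he : ξ = ψ
          · subst he
            simp only [if_pos] at h' ⊢
            push_cast at h' ⊢
            linear_combination (d ξ : ℂ) * τ₁ ξ 1 * h'
          · simp only [if_neg he] at h' ⊢
            push_cast at h' ⊢
            linear_combination (d ψ : ℂ) * (c ξ : ℂ) * hdeg ξ hξ + (d ξ : ℂ) * τ₁ ψ 1 * h'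
        have := congrArg (fun z : ℂ => (d ψ : ℂ) ^ 2 * z) hP1
        simp only [Finset.mul_sum, mul_zero] at this
        rw [Finset.sum_congr rfl e, ← Finset.sum_mul, ← Int.cast_sum, Finset.sum_sub_distrib,
          Finset.sum_ite_eq' S₀ ψ, if_pos hψ, ← hT] at this
        exact this.symm
      have h3 : T - n * (d ψ : ℤ) ^ 2 = 0 := by
        exact_mod_cast (mul_eq_zero.mp h2).resolve_right hk
      nlinarith
    · have : 2 ≤ a ^ 2 - a := by
        have : 2 ≤ a ∨ a ≤ -1 := by omega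
        rcases this with h | h <;> nlinarith
      have h2 : a ^ 2 * (2 * (n : ℤ) * (d ψ : ℤ) ^ 2) ≤ a ^ 2 * T :=
        mul_le_mul_of_nonneg_left hTgt.le (sq_nonneg a)
      have h3 : 4 * (d ψ : ℤ) ^ 2 ≤ 2 * (n : ℤ) * (a ^ 2 - a) * (d ψ : ℤ) ^ 2 := by
        refine mul_le_mul_of_nonneg_right ?_ (sq_nonneg _)
        nlinarith
      nlinarith
  rw [ha0] at hsum
  have hr1 : classInner r r = 1 := by
    have h : (d ψ : ℤ) ^ 2 * (∑ ξ ∈ S₀, c ξ * c ξ) = (d ψ : ℤ) ^ 2 * (n : ℤ) ^ 2 := by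
      linear_combination hsum
    rw [hrr, mul_left_cancel₀ (pow_ne_zero 2 (by omega)) h]
    norm_num
  have hrgen : IsGeneralizedCharacter G r := by
    have hPgen : IsGeneralizedCharacter G (τ₁ ((-(n : ℤ)) • ψ)) :=
      hiso.2.2.2 _ (Submodule.smul_mem _ _ (hmS₀ ψ hψ))
    have hPe : P = τ₁ ((-(n : ℤ)) • ψ) := by
      rw [hiso.2.1 ψ (hmS₀ ψ hψ), hz, hP, Finset.sum_eq_single ψ]
      · rw [show c ψ = -(n : ℤ) by omega]
      · intro ξ hξ hne
        have h := hall ξ hξ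
        rw [if_neg hne, add_zero, ha0, mul_zero] at h
        rw [(mul_eq_zero.mp h).resolve_left (by omega), Int.cast_zero, zero_smul]
      · exact fun h => absurd hψ h
    obtain ⟨p, q, hp, hq, e⟩ := hτ.2.2.2 β hβm
    obtain ⟨p', q', hp', hq', e'⟩ := hPgen
    refine ⟨p + q', q + p', isCharacter_add hp hq', isCharacter_add hq hp', ?_⟩
    rw [hr, hx, hPe, e, e']
    abel
  have hPψ : x = r + (-(n : ℂ)) • τ₁ ψ := by
    rw [hr, sub_add_eq_add_sub, eq_sub_iff_add_eq, add_right_inj, hP, Finset.sum_eq_single ψ]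
    · rw [show c ψ = -(n : ℤ) by omega, Int.cast_neg, Int.cast_natCast]
    · intro ξ hξ hne
      have h := hall ξ hξ
      rw [if_neg hne, add_zero, ha0, mul_zero] at h
      rw [(mul_eq_zero.mp h).resolve_left (by omega), Int.cast_zero, zero_smul]
    · exact fun h => absurd hψ h
  -- the extension
  have hcoef : ∀ α ∈ zspan (↑S₀ : Set (L → ℂ)), classInner α χ = 0 ∧ classInner χ α = 0 := by
    intro α hα
    induction hα using Submodule.span_induction with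
    | mem ξ hξ => exact ⟨(hχorth ξ hξ).2, (hχorth ξ hξ).1⟩
    | zero => exact ⟨classInner_zero_left χ, by rw [← classInner_symm, classInner_zero_left, map_zero]⟩
    | add f g _ _ hf hg =>
      exact ⟨by rw [classInner_add_left, hf.1, hg.1, add_zero],
        by rw [classInner_add_right, hf.2, hg.2, add_zero]⟩
    | smul k f _ hf =>
      exact ⟨by rw [hzL, classInner_smul_left, hf.1, mul_zero],
        by rw [hzL, classInner_smul_right, hf.2, mul_zero]⟩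
  have hrz : ∀ α ∈ zspan (↑S₀ : Set (L → ℂ)), classInner r (τ₁ α) = 0 := by
    intro α hα
    induction hα using Submodule.span_induction with
    | mem ξ hξ => exact hrorth ξ hξ
    | zero =>
      have : τ₁ 0 = 0 := by
        have := hiso.2.1 0 (Submodule.zero_mem _) 0
        rwa [zero_zsmul, zero_zsmul] at this
      rw [this, ← classInner_symm, classInner_zero_left, map_zero]
    | add f g hf' hg' hf hg =>
      rw [hiso.1 f hf' g hg', classInner_add_right, hf, hg, add_zero]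
    | smul k f hf' hf => rw [hiso.2.1 f hf' k, hz, classInner_smul_right, hf, mul_zero]
  set τ₂ : (L → ℂ) → (G → ℂ) :=
    fun α => τ₁ (α - classInner α χ • χ) + classInner α χ • r with hτ₂
  have hdec : ∀ α ∈ zspan S, ∃ k : ℤ, ∃ α' ∈ zspan (↑S₀ : Set (L → ℂ)),
      α = (k : ℂ) • χ + α' ∧ classInner α χ = k ∧ τ₂ α = τ₁ α' + (k : ℂ) • r := by
    intro α hα
    obtain ⟨k, α', hα', rfl⟩ := Submodule.mem_span_insert.mp hα
    have hcc : classInner (k • χ + α') χ = k := by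
      rw [classInner_add_left, hzL, classInner_smul_left, irr_self hχ, (hcoef α' hα').1, mul_one,
        add_zero]
    refine ⟨k, α', hα', by rw [hzL], hcc, ?_⟩
    simp only [hτ₂, hcc]
    rw [hzL k χ, add_sub_cancel_left]
  refine ⟨⟨α₀, zspanOn_mono hsub hα₀, hα₀ne⟩, τ₂, ⟨?_, ?_, ?_, ?_⟩, ?_⟩
  · intro α hα η hη
    obtain ⟨k, α', hα', e, hk, h1⟩ := hdec α hα
    obtain ⟨l, η', hη', e', hl, h2⟩ := hdec η hη
    simp only [hτ₂]
    rw [classInner_add_left, hk, hl]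
    have : α + η - ((k : ℂ) + l) • χ = α' + η' := by rw [e, e', add_smul]; abel
    rw [this, hiso.1 α' hα' η' hη', show α - (k : ℂ) • χ = α' by rw [e]; abel,
      show η - (l : ℂ) • χ = η' by rw [e']; abel, add_smul]
    abel
  · intro α hα m
    obtain ⟨k, α', hα', e, hk, h1⟩ := hdec α hα
    simp only [hτ₂]
    rw [hzL, classInner_smul_left, hk, show α - (k : ℂ) • χ = α' by rw [e]; abel,
      show (m : ℂ) • α - ((m : ℂ) * k) • χ = m • α' by rw [e, hzL, smul_add, smul_smul]; abel,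
      hiso.2.1 α' hα' m, hz, hz, smul_add, smul_smul]
  · intro α hα η hη
    obtain ⟨k, α', hα', e, -, h1⟩ := hdec α hα
    obtain ⟨l, η', hη', e', -, h2⟩ := hdec η hη
    rw [h1, h2, e, e']
    simp only [classInner_add_left, classInner_add_right, classInner_smul_left,
      classInner_smul_right, map_intCast, hiso.2.2.1 α' hα' η' hη', hrz η' hη',
      irr_self hχ, hr1, (hcoef η' hη').2, (hcoef α' hα').1]
    rw [← classInner_symm r (τ₁ α'), hrz α' hα', map_zero]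
    ring
  · intro α hα
    obtain ⟨k, α', hα', e, -, h1⟩ := hdec α hα
    rw [h1]
    obtain ⟨p, q, hp, hq, e1⟩ := hiso.2.2.2 α' hα'
    obtain ⟨z, hz', -⟩ := exists_int_coords hrgen
    have : IsGeneralizedCharacter G ((k : ℂ) • r) := by
      obtain ⟨p', q', hp', hq', e'⟩ := hrgen
      rcases Int.eq_nat_or_neg k with ⟨m, rfl | rfl⟩
      · exact ⟨m • p', m • q', isCharacter_nsmul hp' m, isCharacter_nsmul hq' m, by
          rw [e', Int.cast_natCast, Nat.cast_smul_eq_nsmul, smul_sub]⟩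
      · exact ⟨m • q', m • p', isCharacter_nsmul hq' m, isCharacter_nsmul hp' m, by
          rw [e', Int.cast_neg, Int.cast_natCast, neg_smul, Nat.cast_smul_eq_nsmul, smul_sub, neg_sub]⟩
    obtain ⟨p', q', hp', hq', e'⟩ := this
    exact ⟨p + p', q + q', isCharacter_add hp hp', isCharacter_add hq hq', by rw [e1, e']; abel⟩
  · intro α hα
    obtain ⟨k, α', hα', e, hk, h1⟩ := hdec α hα.1
    have hα'' : α' + ((k : ℤ) * n) • ψ ∈ zspanOn (↑S₀ : Set (L → ℂ)) {1}ᶜ := by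
      refine mem_zspanOn_punctured
        (Submodule.add_mem _ hα' (Submodule.smul_mem _ _ (hmS₀ ψ hψ))) ?_
      have h := zspanOn_one hα
      rw [e] at h
      simp only [Pi.add_apply, Pi.smul_apply, Pi.mul_apply, Pi.intCast_apply, Pi.natCast_apply, smul_eq_mul, zsmul_eq_mul, Int.cast_mul, Int.cast_natCast, hdχ, hn, hd ψ hψ] at h ⊢
      push_cast at h ⊢
      linear_combination h
    have heq : α = k • β + (α' + ((k : ℤ) * n) • ψ) := by
      rw [e, hβ, smul_sub, smul_smul, hzL k χ]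
      abel
    have hkβ : k • β ∈ zspanOn S {1}ᶜ := mem_zspanOn_punctured (Submodule.smul_mem _ _ hβm.1)
      (by rw [Pi.smul_apply, zspanOn_one hβm, smul_zero])
    conv_rhs => rw [heq]
    rw [hτ.1 _ hkβ _ (zspanOn_mono hsub hα''), hτ.2.1 β hβm k, ← hagree _ hα'',
      hiso.1 α' hα' _ (Submodule.smul_mem _ _ (hmS₀ ψ hψ)), hiso.2.1 ψ (hmS₀ ψ hψ), h1, ← hx, hz,
      hz, hPψ, smul_add, smul_smul]
    push_cast
    rw [neg_eq_neg_one_mul (n : ℂ), ← mul_assoc, mul_neg_one, neg_mul, neg_smul]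
    abel

end Cfsg.Agent.Char
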