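import Cfsg.Agent.Lib.Char.Coherence
import Cfsg.Agent.Lib.Char.FeitCriterion
import Cfsg.Agent.Lib.Char.DadeGen

/-!
Extending coherent isometries.
-/

set_option linter.unusedSectionVars false

open scoped ComplexConjugate
open Cfsg

namespace Cfsg.Agent.Char

universe u v

variable {G : Type u} [Group G] [Fintype G] {L : Type v} [Group L] [Fintype L]

theorem classInner_conjFun (a b : L → ℂ) :
    classInner (conjFun a) (conjFun b) = conj (classInner a b) := by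
  simp [classInner, conjFun, map_sum]

theorem conjFun_conjFun (a : L → ℂ) : conjFun (conjFun a) = a :=
  funext fun x => Complex.conj_conj _

theorem cohSys_norm {S : Set (L → ℂ)} {τ : (L → ℂ) → (G → ℂ)} {R : (L → ℂ) → Finset (G → ℂ)}
    (hS : IsCoherenceSystem S τ R) {χ : L → ℂ} (hχ : χ ∈ S) :
    ∃ n : ℕ, 0 < n ∧ classInner χ χ = n := by
  obtain ⟨n, hn⟩ := classInner_natCast (hS.isCharacter χ hχ) (hS.isCharacter χ hχ)
  refine ⟨n, Nat.pos_of_ne_zero fun h => ?_, hn⟩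
  rw [h, Nat.cast_zero] at hn
  have h0 := classInner_self_eq_zero hn
  exact hS.conj_ne χ hχ (by rw [h0]; funext x; simp [conjFun])

theorem char_deg_zero {χ : L → ℂ} (h : IsCharacter L χ) (h1 : χ 1 = 0) : χ = 0 := by
  classical
  obtain ⟨m, hm⟩ := exists_decomposition h
  have h2 := congrFun hm 1
  rw [h1] at h2
  simp only [Finset.sum_apply, Pi.smul_apply, nsmul_eq_mul, Pi.mul_apply, Pi.natCast_apply] at h2
  rw [Finset.sum_congr rfl fun θ _ => by rw [char_one_eq_deg (irr_isCharacter θ.2)]] at h2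
  have h3 : ∑ θ : IrrCharacter L, m θ * deg (θ : L → ℂ) = 0 := by exact_mod_cast h2.symm
  rw [hm]
  refine Finset.sum_eq_zero fun θ _ => ?_
  have h4 := Finset.sum_eq_zero_iff.1 h3 θ (Finset.mem_univ θ)
  rw [(mul_eq_zero.1 h4).resolve_right (deg_pos θ.2).ne', zero_smul]

theorem cohSys_deg {S : Set (L → ℂ)} {τ : (L → ℂ) → (G → ℂ)} {R : (L → ℂ) → Finset (G → ℂ)}
    (hS : IsCoherenceSystem S τ R) {χ : L → ℂ} (hχ : χ ∈ S) : χ 1 ≠ 0 := fun h =>
  hS.conj_ne χ hχ (by rw [char_deg_zero (hS.isCharacter χ hχ) h]; funext x; simp [conjFun])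

theorem orth_finite {S : Set (L → ℂ)} (horth : ∀ φ ∈ S, ∀ ψ ∈ S, φ ≠ ψ → classInner φ ψ = 0)
    (hnz : ∀ φ ∈ S, classInner φ φ ≠ 0) : S.Finite := by
  classical
  refine LinearIndependent.setFinite (R := ℂ) (M := L → ℂ) ?_
  rw [linearIndependent_iff']
  intro s g hg i hi
  have h := congrArg (fun f => classInner f (i : L → ℂ)) hg
  simp only [classInner_sum_left, classInner_zero_left, classInner_smul_left] at h
  rw [Finset.sum_eq_single i (fun j _ hne => by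
    rw [horth _ j.2 _ i.2 (fun e => hne (Subtype.ext e)), mul_zero]) (fun h' => absurd hi h')] at h
  exact (mul_eq_zero.1 h).resolve_right (hnz _ i.2)

theorem zspanOn_add {S : Set (L → ℂ)} {A : Set L} {a b : L → ℂ} (ha : a ∈ zspanOn S A)
    (hb : b ∈ zspanOn S A) : a + b ∈ zspanOn S A :=
  ⟨Submodule.add_mem _ ha.1 hb.1, fun x hx => by simp [ha.2 x hx, hb.2 x hx]⟩

theorem zspanOn_zero (S : Set (L → ℂ)) (A : Set L) : (0 : L → ℂ) ∈ zspanOn S A :=
  ⟨Submodule.zero_mem _, fun x _ => rfl⟩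

theorem zspanOn_smul {S : Set (L → ℂ)} {A : Set L} {a : L → ℂ} (k : ℤ) (ha : a ∈ zspanOn S A) :
    (k : ℂ) • a ∈ zspanOn S A := by
  rw [Int.cast_smul_eq_zsmul]
  exact ⟨Submodule.smul_mem _ _ ha.1, fun x hx => by simp [ha.2 x hx]⟩

theorem zspanOn_neg {S : Set (L → ℂ)} {A : Set L} {a : L → ℂ} (ha : a ∈ zspanOn S A) :
    -a ∈ zspanOn S A := by
  simpa using zspanOn_smul (-1) ha

theorem mem_zspan_smul {S : Set (L → ℂ)} {a : L → ℂ} (k : ℤ) (ha : a ∈ zspan S) :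
    (k : ℂ) • a ∈ zspan S := by
  rw [Int.cast_smul_eq_zsmul]
  exact Submodule.smul_mem _ _ ha

theorem iso_smul {E : Set (L → ℂ)} {τ : (L → ℂ) → (G → ℂ)} (h : IsLinearIsometryOn E τ)
    {a : L → ℂ} (ha : a ∈ E) (k : ℤ) : τ ((k : ℂ) • a) = (k : ℂ) • τ a := by
  rw [Int.cast_smul_eq_zsmul, Int.cast_smul_eq_zsmul, h.2.1 a ha k]

theorem iso_sub {S : Set (L → ℂ)} {A : Set L} {τ : (L → ℂ) → (G → ℂ)}
    (h : IsLinearIsometryOn (zspanOn S A) τ) {a b : L → ℂ} (ha : a ∈ zspanOn S A)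
    (hb : b ∈ zspanOn S A) : τ (a - b) = τ a - τ b := by
  have hb' : ((-1 : ℤ) : ℂ) • b ∈ zspanOn S A := zspanOn_smul _ hb
  have e : a - b = a + ((-1 : ℤ) : ℂ) • b := by simp [sub_eq_add_neg]
  rw [e, h.1 a ha _ hb', iso_smul h hb]
  simp [sub_eq_add_neg]

theorem iso_sum {S : Set (L → ℂ)} {A : Set L} {τ : (L → ℂ) → (G → ℂ)}
    (h : IsLinearIsometryOn (zspanOn S A) τ) {ι : Type*} (s : Finset ι) (f : ι → L → ℂ) (c : ι → ℤ)
    (hf : ∀ i ∈ s, f i ∈ zspanOn S A) :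
    (∑ i ∈ s, (c i : ℂ) • f i) ∈ zspanOn S A ∧
      τ (∑ i ∈ s, (c i : ℂ) • f i) = ∑ i ∈ s, (c i : ℂ) • τ (f i) := by
  classical
  induction s using Finset.induction_on with
  | empty =>
    refine ⟨by simpa using zspanOn_zero S A, ?_⟩
    have h0 := iso_smul h (zspanOn_zero S A) 0
    simpa using h0
  | insert i s hi ih =>
    obtain ⟨hm, he⟩ := ih fun j hj => hf j (Finset.mem_insert_of_mem hj)
    have hi' := hf i (Finset.mem_insert_self i s)
    rw [Finset.sum_insert hi, Finset.sum_insert hi]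
    exact ⟨zspanOn_add (zspanOn_smul _ hi') hm,
      by rw [h.1 _ (zspanOn_smul _ hi') _ hm, he, iso_smul h hi']⟩

theorem mem_zspan_coords (F : Finset (L → ℂ)) {v : L → ℂ} (hv : v ∈ zspan (↑F : Set (L → ℂ))) :
    ∃ c : (L → ℂ) → ℤ, v = ∑ φ ∈ F, (c φ : ℂ) • φ := by
  obtain ⟨f, -, hf⟩ := Submodule.mem_span_finset.1 hv
  refine ⟨f, ?_⟩
  rw [← hf]
  exact Finset.sum_congr rfl fun φ _ => (Int.cast_smul_eq_zsmul ℂ _ _).symm

theorem isGenChar_int_smul {a : G → ℂ} (ha : IsGeneralizedCharacter G a) (k : ℤ) :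
    IsGeneralizedCharacter G ((k : ℂ) • a) := by
  induction k with
  | zero => simpa using isGenChar_zero (X := G)
  | succ i hi =>
    rw [Int.cast_add, Int.cast_one, add_smul, one_smul]
    simpa [sub_neg_eq_add] using isGenChar_sub hi (isGenChar_sub isGenChar_zero ha)
  | pred i hi =>
    rw [Int.cast_sub, Int.cast_one, sub_smul, one_smul]
    exact isGenChar_sub hi ha

/-- Coherence from the images of an orthogonal basis. -/
theorem isCoherent_of_images (F : Finset (L → ℂ)) (τ : (L → ℂ) → (G → ℂ))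
    (horth : ∀ φ ∈ F, ∀ ψ ∈ F, φ ≠ ψ → classInner φ ψ = 0)
    (hnz : ∀ φ ∈ F, classInner φ φ ≠ 0) (f : (L → ℂ) → (G → ℂ))
    (hgen : ∀ φ ∈ F, IsGeneralizedCharacter G (f φ))
    (hinner : ∀ φ ∈ F, ∀ ψ ∈ F, classInner (f φ) (f ψ) = classInner φ ψ)
    (hne : ∃ α ∈ zspanOn (↑F : Set (L → ℂ)) {1}ᶜ, α ≠ 0)
    (hagree : ∀ c : (L → ℂ) → ℤ, (∑ φ ∈ F, (c φ : ℂ) * φ 1) = 0 →
      ∑ φ ∈ F, (c φ : ℂ) • f φ = τ (∑ φ ∈ F, (c φ : ℂ) • φ)) :
    IsCoherent (↑F : Set (L → ℂ)) {1}ᶜ τ := by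
  classical
  let T : (L → ℂ) → (G → ℂ) := fun v => ∑ φ ∈ F, (classInner v φ / classInner φ φ) • f φ
  have hT : ∀ c : (L → ℂ) → ℤ, T (∑ φ ∈ F, (c φ : ℂ) • φ) = ∑ φ ∈ F, (c φ : ℂ) • f φ := by
    intro c
    refine Finset.sum_congr rfl fun ψ hψ => ?_
    congr 1
    rw [classInner_sum_left, Finset.sum_eq_single ψ (fun φ hφ hne => by
      rw [classInner_smul_left, horth φ hφ ψ hψ hne, mul_zero]) (fun h => absurd hψ h),
      classInner_smul_left, mul_div_cancel_right₀ _ (hnz ψ hψ)]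
  refine ⟨hne, T, ⟨?_, ?_, ?_, ?_⟩, ?_⟩
  · intro a _ b _
    simp [T, classInner_add_left, add_div, add_smul, Finset.sum_add_distrib]
  · intro a _ n
    rw [← Int.cast_smul_eq_zsmul ℂ n a, ← Int.cast_smul_eq_zsmul ℂ n (T a)]
    simp [T, classInner_smul_left, mul_div_assoc, Finset.smul_sum, smul_smul]
  · intro a ha b hb
    obtain ⟨c, rfl⟩ := mem_zspan_coords F ha
    obtain ⟨e, rfl⟩ := mem_zspan_coords F hb
    rw [hT, hT, classInner_sum_left, classInner_sum_left]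
    refine Finset.sum_congr rfl fun φ hφ => ?_
    rw [classInner_sum_right, classInner_sum_right]
    refine Finset.sum_congr rfl fun ψ hψ => ?_
    simp only [classInner_smul_left, classInner_smul_right, hinner φ hφ ψ hψ]
  · intro a ha
    obtain ⟨c, rfl⟩ := mem_zspan_coords F ha
    rw [hT]
    exact isGenChar_sum _ _ fun φ hφ => isGenChar_int_smul (hgen φ hφ) _
  · intro a ha
    obtain ⟨c, rfl⟩ := mem_zspan_coords F ha.1
    rw [hT]
    refine hagree c ?_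
    have h1 := zspanOn_one ha
    simpa [Finset.sum_apply] using h1

/-- Orthogonal projection with real coefficients. -/
theorem pyth {ι : Type*} (s : Finset ι) (f : ι → G → ℂ) (b N : ι → ℝ) (x : G → ℂ)
    (hN : ∀ i ∈ s, N i ≠ 0)
    (hf : ∀ i ∈ s, ∀ j ∈ s, i ≠ j → classInner (f i) (f j) = 0)
    (hn : ∀ i ∈ s, classInner (f i) (f i) = (N i : ℂ))
    (hb : ∀ i ∈ s, classInner x (f i) = (b i : ℂ)) :
    classInner (x - ∑ i ∈ s, ((b i / N i : ℝ) : ℂ) • f i) (x - ∑ i ∈ s, ((b i / N i : ℝ) : ℂ) • f i) =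
      classInner x x - ∑ i ∈ s, ((b i ^ 2 / N i : ℝ) : ℂ) := by
  classical
  set P : G → ℂ := ∑ i ∈ s, ((b i / N i : ℝ) : ℂ) • f i with hP
  have h1 : classInner x P = ∑ i ∈ s, ((b i ^ 2 / N i : ℝ) : ℂ) := by
    rw [hP, classInner_sum_right]
    refine Finset.sum_congr rfl fun i hi => ?_
    rw [classInner_smul_right, hb i hi, Complex.conj_ofReal]
    push_cast
    ring
  have h2 : classInner P x = ∑ i ∈ s, ((b i ^ 2 / N i : ℝ) : ℂ) := by
    rw [← classInner_symm x P, h1, map_sum]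
    exact Finset.sum_congr rfl fun i _ => Complex.conj_ofReal _
  have h3 : classInner P P = ∑ i ∈ s, ((b i ^ 2 / N i : ℝ) : ℂ) := by
    rw [hP, classInner_sum_left]
    refine Finset.sum_congr rfl fun i hi => ?_
    rw [classInner_smul_left, classInner_sum_right, Finset.sum_eq_single i (fun j hj hne => by
      rw [classInner_smul_right, hf i hi j hj hne.symm, mul_zero]) (fun h => absurd hi h),
      classInner_smul_right, hn i hi, Complex.conj_ofReal]
    have := hN i hi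
    have : (N i : ℂ) ≠ 0 := by exact_mod_cast this
    push_cast
    field_simp
  rw [classInner_sub_left, classInner_sub_right, classInner_sub_right, h1, h2, h3]
  ring

theorem classInner_self_re_nonneg (a : G → ℂ) : 0 ≤ (classInner a a).re := by
  rw [classInner_self_re, Complex.ofReal_re]
  exact mul_nonneg (inv_nonneg.mpr (Nat.cast_nonneg _)) (Finset.sum_nonneg fun g _ => sq_nonneg _)

theorem eq_zero_of_re_zero {a : G → ℂ} (h : (classInner a a).re = 0) : a = 0 := by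
  refine classInner_self_eq_zero ?_
  rw [classInner_self_re, Complex.ofReal_re] at h
  rw [classInner_self_re, h, Complex.ofReal_zero]

/-- The projection to the span of a set of functions. -/
noncomputable def projR (R : Finset (G → ℂ)) (x : G → ℂ) : G → ℂ :=
  ∑ α ∈ R, classInner x α • α

theorem projR_orth {R R' : Finset (G → ℂ)} (h : ∀ α ∈ R, ∀ β ∈ R', classInner α β = 0)
    (x : G → ℂ) {β : G → ℂ} (hβ : β ∈ R') : classInner (projR R x) β = 0 := by
  rw [projR, classInner_sum_left]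
  exact Finset.sum_eq_zero fun α hα => by rw [classInner_smul_left, h α hα β hβ, mul_zero]

theorem inner_projR_eq_zero {R : Finset (G → ℂ)} (x : G → ℂ) {y : G → ℂ}
    (h : ∀ α ∈ R, classInner α y = 0) : classInner (projR R x) y = 0 := by
  rw [projR, classInner_sum_left]
  exact Finset.sum_eq_zero fun α hα => by rw [classInner_smul_left, h α hα, mul_zero]

/-- The facts used about a projection. -/
theorem projR_facts (R : Finset (G → ℂ))
    (horth : ∀ α ∈ R, ∀ β ∈ R, α ≠ β → classInner α β = 0)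
    (hone : ∀ α ∈ R, classInner α α = 1) (hvirt : ∀ α ∈ R, IsGeneralizedCharacter G α)
    {x : G → ℂ} (hx : IsGeneralizedCharacter G x) :
    ∃ N S : ℤ, classInner x (∑ α ∈ R, α) = S ∧ classInner (projR R x) (∑ α ∈ R, α) = S ∧
      classInner (projR R x) x = N ∧ classInner x (projR R x) = N ∧
      classInner (projR R x) (projR R x) = N ∧ |S| ≤ N ∧
      IsGeneralizedCharacter G (projR R x) := by
  classical
  have hint : ∀ α ∈ R, ∃ n : ℤ, classInner x α = n := fun α hα =>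
    classInner_gen_int hx (hvirt α hα)
  choose! c hc using hint
  have hP : projR R x = ∑ α ∈ R, (c α : ℂ) • α :=
    Finset.sum_congr rfl fun α hα => by rw [hc α hα]
  have hPin : ∀ β ∈ R, classInner (∑ α ∈ R, (c α : ℂ) • α) β = c β := fun β hβ => by
    rw [classInner_sum_left, Finset.sum_eq_single β (fun α hα hne => by
      rw [classInner_smul_left, horth α hα β hβ hne, mul_zero]) (fun h => absurd hβ h),
      classInner_smul_left, hone β hβ, mul_one]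
  refine ⟨∑ α ∈ R, c α * c α, ∑ α ∈ R, c α, ?_, ?_, ?_, ?_, ?_, ?_, ?_⟩
  · rw [classInner_sum_right, Int.cast_sum]
    exact Finset.sum_congr rfl hc
  · rw [hP, classInner_sum_right, Int.cast_sum]
    exact Finset.sum_congr rfl hPin
  · rw [hP, classInner_sum_left, Int.cast_sum]
    refine Finset.sum_congr rfl fun α hα => ?_
    rw [classInner_smul_left, ← classInner_symm x α, hc α hα, map_intCast, Int.cast_mul]
  · rw [hP, classInner_sum_right, Int.cast_sum]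
    refine Finset.sum_congr rfl fun α hα => ?_
    rw [classInner_smul_right, hc α hα, map_intCast, Int.cast_mul]
  · rw [hP]
    conv_lhs => arg 2; rw []
    rw [classInner_sum_right, Int.cast_sum]
    refine Finset.sum_congr rfl fun α hα => ?_
    rw [classInner_smul_right, hPin α hα, map_intCast, Int.cast_mul]
  · refine (Finset.abs_sum_le_sum_abs _ _).trans (Finset.sum_le_sum fun α _ => ?_)
    rcases eq_or_ne (c α) 0 with h | h
    · simp [h]
    · rw [← abs_mul_abs_self (c α)]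
      exact le_mul_of_one_le_left (abs_nonneg _) (Int.one_le_abs h)
  · rw [hP]
    exact isGenChar_sum _ _ fun α hα => isGenChar_int_smul (hvirt α hα) _

section System

variable {S : Set (L → ℂ)} {τ : (L → ℂ) → (G → ℂ)} {R : (L → ℂ) → Finset (G → ℂ)}

theorem cohSys_R_facts (hS : IsCoherenceSystem S τ R) {χ : L → ℂ} (hχ : χ ∈ S) {x : G → ℂ}
    (hx : IsGeneralizedCharacter G x) :
    ∃ N T : ℤ, classInner x (∑ α ∈ R χ, α) = T ∧ classInner (projR (R χ) x) (∑ α ∈ R χ, α) = T ∧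
      classInner (projR (R χ) x) x = N ∧ classInner x (projR (R χ) x) = N ∧
      classInner (projR (R χ) x) (projR (R χ) x) = N ∧ |T| ≤ N ∧
      IsGeneralizedCharacter G (projR (R χ) x) :=
  projR_facts _ (fun α hα β hβ hne => by rw [hS.orthonormal χ hχ α hα β hβ, if_neg hne])
    (fun α hα => by rw [hS.orthonormal χ hχ α hα α hα, if_pos rfl]) (hS.virtual χ hχ) hx

theorem cohSys_diff_mem {S' : Set (L → ℂ)} {a b : L → ℂ} (ha : a ∈ S') (hb : b ∈ S')
    (h : a 1 = b 1) : a - b ∈ zspanOn S' {1}ᶜ :=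
  mem_zspanOn_punctured (Submodule.sub_mem _ (mem_zspan_of_mem ha) (mem_zspan_of_mem hb))
    (by rw [Pi.sub_apply, h, sub_self])

theorem cohSys_conj_one (hS : IsCoherenceSystem S τ R) {χ : L → ℂ} (hχ : χ ∈ S) :
    conjFun χ 1 = χ 1 := conj_char_one (hS.isCharacter χ hχ)

theorem cohSys_disjoint' (hS : IsCoherenceSystem S τ R) {χ φ : L → ℂ} (hχ : χ ∈ S) (hφ : φ ∈ S)
    (h1 : φ ≠ χ) (h2 : φ ≠ conjFun χ) {α β : G → ℂ} (hα : α ∈ R φ) (hβ : β ∈ R χ) :
    classInner α β = 0 ∧ classInner β α = 0 := by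
  have h := hS.disjoint χ hχ φ hφ (hS.orthogonal φ hφ χ hχ h1)
    (hS.orthogonal φ hφ _ (hS.conj_mem χ hχ) h2) α hα β hβ
  exact ⟨h, by rw [← classInner_symm α β, h, map_zero]⟩

/-- Coherence when the degrees agree. -/
theorem coherent_constant_degree (hS : IsCoherenceSystem S τ R)
    (hdeg : ∀ φ ∈ S, ∀ ψ ∈ S, φ 1 = ψ 1) : IsCoherent S {1}ᶜ τ := by
  classical
  obtain ⟨χ, hχ⟩ := hS.nonempty
  have hχc := hS.conj_mem χ hχ
  have hnorm : ∀ φ ∈ S, classInner φ φ ≠ 0 := fun φ hφ => by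
    obtain ⟨n, hn, e⟩ := cohSys_norm hS hφ
    rw [e]
    exact_mod_cast hn.ne'
  have horth : ∀ φ ∈ S, ∀ ψ ∈ S, φ ≠ ψ → classInner φ ψ = 0 := fun φ hφ ψ hψ h =>
    hS.orthogonal φ hφ ψ hψ h
  have hfin := orth_finite horth hnorm
  obtain ⟨F, rfl⟩ : ∃ F : Finset (L → ℂ), (↑F : Set (L → ℂ)) = S :=
    ⟨hfin.toFinset, hfin.coe_toFinset⟩
  obtain ⟨n, hn0, hn⟩ := cohSys_norm hS hχ
  have hm : ∀ φ ∈ F, χ - φ ∈ zspanOn (↑F : Set (L → ℂ)) {1}ᶜ := fun φ hφ =>
    cohSys_diff_mem hχ hφ (hdeg χ hχ φ hφ)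
  have hgenx : ∀ φ ∈ F, IsGeneralizedCharacter G (τ (χ - φ)) := fun φ hφ =>
    hS.isometry.2.2.2 _ (hm φ hφ)
  have hiso : ∀ φ ∈ F, ∀ ψ ∈ F, φ ≠ χ → ψ ≠ χ →
      classInner (τ (χ - φ)) (τ (χ - ψ)) = n + classInner φ ψ := fun φ hφ ψ hψ h1 h2 => by
    rw [hS.isometry.2.2.1 _ (hm φ hφ) _ (hm ψ hψ), classInner_sub_left, classInner_sub_right,
      classInner_sub_right, hn, horth φ hφ χ hχ h1, horth χ hχ ψ hψ h2.symm]
    ring
  have hsum : ∀ φ ∈ F, φ ≠ χ → φ ≠ conjFun χ →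
      classInner (τ (χ - φ)) (∑ α ∈ R χ, α) = n := fun φ hφ h1 h2 => by
    rw [← hS.sum_eq χ hχ, hS.isometry.2.2.1 _ (hm φ hφ) _ (hm _ hχc), classInner_sub_left,
      classInner_sub_right, classInner_sub_right, hn, horth φ hφ χ hχ h1, horth φ hφ _ hχc h2,
      horth χ hχ _ hχc (hS.conj_ne χ hχ).symm]
    ring
  have hex : ∃ X : G → ℂ, IsGeneralizedCharacter G X ∧ classInner X X = n ∧
      ∀ φ ∈ F, φ ≠ χ → classInner X (τ (χ - φ)) = n := by
    by_cases hother : ∃ φ ∈ F, φ ≠ χ ∧ φ ≠ conjFun χ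
    · have split : ∀ φ ∈ F, φ ≠ χ → φ ≠ conjFun χ →
          classInner (projR (R χ) (τ (χ - φ))) (projR (R χ) (τ (χ - φ))) = n ∧
          τ (χ - φ) = projR (R χ) (τ (χ - φ)) + projR (R φ) (τ (χ - φ)) ∧
          classInner (projR (R χ) (τ (χ - φ))) (∑ α ∈ R χ, α) = n := by
        intro φ hφ h1 h2
        obtain ⟨m, -, hm'⟩ := cohSys_norm hS hφ
        have hφc := hS.conj_mem φ hφ
        obtain ⟨N, T, hT, hT', hPx, hxP, hPP, hTN, -⟩ := cohSys_R_facts hS hχ (hgenx φ hφ)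
        obtain ⟨N', T', hU, -, hQx, hxQ, hQQ, hUN, -⟩ := cohSys_R_facts hS hφ (hgenx φ hφ)
        have eT : T = n := by
          have := hT.symm.trans (hsum φ hφ h1 h2)
          exact_mod_cast this
        have eU : T' = -(m : ℤ) := by
          rw [← hS.sum_eq φ hφ, hS.isometry.2.2.1 _ (hm φ hφ) _
            (cohSys_diff_mem hφ hφc (cohSys_conj_one hS hφ).symm), classInner_sub_left,
            classInner_sub_right, classInner_sub_right, hm', horth φ hφ _ hφc (hS.conj_ne φ hφ).symm,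
            horth χ hχ φ hφ h1.symm, horth χ hχ _ hφc (fun e => h2 (by rw [e, conjFun_conjFun]))] at hU
          have : ((T' : ℤ) : ℂ) = ((-(m : ℤ) : ℤ) : ℂ) := by push_cast; rw [← hU]; ring
          exact_mod_cast this
        set x := τ (χ - φ) with hx
        have hQP : classInner (projR (R φ) x) (projR (R χ) x) = 0 :=
          inner_projR_eq_zero x fun α hα => by
            rw [projR, classInner_sum_right]
            exact Finset.sum_eq_zero fun β hβ => by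
              rw [classInner_smul_right, (cohSys_disjoint' hS hχ hφ h1 h2 hα hβ).1, mul_zero]
        have hPQ : classInner (projR (R χ) x) (projR (R φ) x) = 0 := by
          rw [← classInner_symm, hQP, map_zero]
        have hr : classInner (x - projR (R χ) x - projR (R φ) x) (x - projR (R χ) x - projR (R φ) x) =
            (((n : ℤ) + m - N - N' : ℤ) : ℂ) := by
          simp only [classInner_sub_left, classInner_sub_right, hPx, hxP, hPP, hQx, hxQ, hQQ, hPQ, hQP]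
          rw [hiso φ hφ φ hφ h1 h1, hm']
          push_cast
          ring
        have hnn := classInner_self_re_nonneg (x - projR (R χ) x - projR (R φ) x)
        rw [hr, Complex.intCast_re] at hnn
        have hnn' : (0 : ℤ) ≤ (n : ℤ) + m - N - N' := by exact_mod_cast hnn
        rw [eT, abs_of_nonneg (Int.natCast_nonneg n)] at hTN
        rw [eU, abs_neg, abs_of_nonneg (Int.natCast_nonneg m)] at hUN
        have eN : N = n := by omega
        have hz : (n : ℤ) + m - N - N' = 0 := by omega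
        refine ⟨by rw [hPP, eN, Int.cast_natCast], ?_, by rw [hT', eT, Int.cast_natCast]⟩
        rw [hz, Int.cast_zero] at hr
        have := classInner_self_eq_zero hr
        rw [sub_eq_zero, sub_eq_iff_eq_add] at this
        rw [add_comm]
        exact this
      obtain ⟨φ, hφ, h1, h2⟩ := hother
      obtain ⟨hPn, hdec, hPs⟩ := split φ hφ h1 h2
      obtain ⟨N, T, -, -, hPx, -, hPP, -, hPgen⟩ := cohSys_R_facts hS hχ (hgenx φ hφ)
      set P := projR (R χ) (τ (χ - φ)) with hP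
      refine ⟨P, hPgen, hPn, fun ψ hψ h3 => ?_⟩
      rcases eq_or_ne ψ (conjFun χ) with rfl | h4
      · rw [hS.sum_eq χ hχ, hPs]
      rcases eq_or_ne ψ φ with rfl | h5
      · rw [hPx, ← hPP, hPn]
      rcases eq_or_ne ψ (conjFun φ) with rfl | h6
      · have e : χ - conjFun φ = (χ - φ) + (φ - conjFun φ) := by abel
        rw [e, hS.isometry.1 _ (hm φ hφ) _ (cohSys_diff_mem hφ (hS.conj_mem φ hφ)
          (cohSys_conj_one hS hφ).symm), hS.sum_eq φ hφ, classInner_add_right, hPx, ← hPP, hPn]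
        rw [show classInner P (∑ α ∈ R φ, α) = 0 by
          rw [classInner_sum_right]
          exact Finset.sum_eq_zero fun β hβ => projR_orth
            (fun α hα β' hβ' => (cohSys_disjoint' hS hχ hφ h1 h2 hβ' hα).2) _ hβ]
        exact add_zero _
      obtain ⟨hP'n, hdec', -⟩ := split ψ hψ h3 h4
      have hh := hiso φ hφ ψ hψ h1 h3
      rw [horth φ hφ ψ hψ h5.symm, add_zero] at hh
      have z1 : classInner P (projR (R ψ) (τ (χ - ψ))) = 0 := inner_projR_eq_zero _ fun α hα => by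
        rw [projR, classInner_sum_right]
        exact Finset.sum_eq_zero fun β hβ => by
          rw [classInner_smul_right, (cohSys_disjoint' hS hχ hψ h3 h4 hβ hα).2, mul_zero]
      have z2 : classInner (projR (R φ) (τ (χ - φ))) (projR (R χ) (τ (χ - ψ))) = 0 :=
        inner_projR_eq_zero _ fun α hα => by
          rw [projR, classInner_sum_right]
          exact Finset.sum_eq_zero fun β hβ => by
            rw [classInner_smul_right, (cohSys_disjoint' hS hχ hφ h1 h2 hα hβ).1, mul_zero]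
      have z3 : classInner (projR (R φ) (τ (χ - φ))) (projR (R ψ) (τ (χ - ψ))) = 0 :=
        inner_projR_eq_zero _ fun α hα => by
          rw [projR, classInner_sum_right]
          exact Finset.sum_eq_zero fun β hβ => by
            rw [classInner_smul_right, (cohSys_disjoint' hS hψ hφ h5.symm
              (fun e => h6 (by rw [e, conjFun_conjFun])) hα hβ).1, mul_zero]
      rw [hdec, hdec', classInner_add_left, classInner_add_right, classInner_add_right, z1, z2, z3,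
        add_zero, add_zero, add_zero] at hh
      rw [hdec', classInner_add_right, z1, add_zero, hh]
    · push Not at hother
      have hnn : ((R χ).card : ℂ) = ((2 * n : ℕ) : ℂ) := by
        have h := hS.isometry.2.2.1 _ (hm _ hχc) _ (hm _ hχc)
        rw [hS.sum_eq χ hχ, classInner_sum_left] at h
        rw [Finset.sum_congr rfl fun α hα => by
          rw [classInner_sum_right, Finset.sum_congr rfl fun β hβ => hS.orthonormal χ hχ α hα β hβ,
            Finset.sum_ite_eq, if_pos hα]] at h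
        rw [Finset.sum_const, nsmul_eq_mul, mul_one] at h
        rw [h, classInner_sub_left, classInner_sub_right, classInner_sub_right, hn,
          classInner_conjFun, hn, horth χ hχ _ hχc (hS.conj_ne χ hχ).symm,
          horth _ hχc χ hχ (hS.conj_ne χ hχ), map_natCast]
        push_cast
        ring
      have hcard : (R χ).card = 2 * n := by exact_mod_cast hnn
      obtain ⟨E, hE, hEc⟩ := Finset.exists_subset_card_eq (s := R χ) (n := n) (by omega)
      have hin : ∀ Y : Finset (G → ℂ), Y ⊆ R χ → E ⊆ Y →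
          classInner (∑ α ∈ E, α) (∑ α ∈ Y, α) = n := fun Y hY hEY => by
        rw [classInner_sum_left, Finset.sum_congr rfl fun α hα => by
          rw [classInner_sum_right,
            Finset.sum_congr rfl fun β hβ => hS.orthonormal χ hχ α (hE hα) β (hY hβ),
            Finset.sum_ite_eq, if_pos (hEY hα)]]
        simp [hEc]
      refine ⟨∑ α ∈ E, α, isGenChar_sum _ _ fun α hα => hS.virtual χ hχ α (hE hα),
        hin E hE subset_rfl, fun φ hφ h1 => ?_⟩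
      rw [hother φ hφ h1, hS.sum_eq χ hχ, hin _ subset_rfl hE]
  obtain ⟨X, hXgen, hXX, hXx⟩ := hex
  have hτ0 : τ 0 = 0 := by
    have h0 := iso_smul hS.isometry (zspanOn_zero (↑F : Set (L → ℂ)) {1}ᶜ) 0
    simpa using h0
  refine isCoherent_of_images F τ horth hnorm (fun φ => X - τ (χ - φ))
    (fun φ hφ => isGenChar_sub hXgen (hgenx φ hφ)) ?_
    ⟨χ - conjFun χ, hm _ hχc, sub_ne_zero.2 (hS.conj_ne χ hχ).symm⟩ ?_
  · intro φ hφ ψ hψ
    have hx : ∀ φ ∈ F, φ ≠ χ → classInner (τ (χ - φ)) X = n := fun φ hφ h => by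
      rw [← classInner_symm, hXx φ hφ h, map_natCast]
    rcases eq_or_ne φ χ with rfl | h1 <;> rcases eq_or_ne ψ φ with e | h2
    · subst e
      simp only [sub_self, hτ0, sub_zero, hXX, hn]
    · simp only [sub_self, hτ0, sub_zero]
      rw [classInner_sub_right, hXX, hXx ψ hψ h2, horth φ hφ ψ hψ h2.symm]
      ring
    · subst e
      rw [classInner_sub_left, classInner_sub_right, classInner_sub_right, hXX, hXx _ hφ h1,
        hx _ hφ h1, hiso _ hφ _ hφ h1 h1]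
      ring
    · rcases eq_or_ne ψ χ with rfl | h3
      · simp only [sub_self, hτ0, sub_zero]
        rw [classInner_sub_left, hXX, hx φ hφ h1, horth φ hφ ψ hψ h1]
        ring
      · rw [classInner_sub_left, classInner_sub_right, classInner_sub_right, hXX, hXx ψ hψ h3,
          hx φ hφ h1, hiso φ hφ ψ hψ h1 h3]
        ring
  · intro c hc
    have hd := cohSys_deg hS hχ
    have hc0 : ∑ φ ∈ F, (c φ : ℂ) = 0 := by
      rw [Finset.sum_congr rfl fun φ hφ => by rw [hdeg φ hφ χ hχ], ← Finset.sum_mul] at hc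
      exact (mul_eq_zero.1 hc).resolve_right hd
    obtain ⟨-, he⟩ := iso_sum hS.isometry F (fun φ => χ - φ) (fun φ => -c φ) hm
    have e1 : ∑ φ ∈ F, (c φ : ℂ) • φ = ∑ φ ∈ F, ((-c φ : ℤ) : ℂ) • (χ - φ) := by
      simp only [Int.cast_neg, neg_smul, smul_sub, neg_sub]
      rw [Finset.sum_sub_distrib, Finset.sum_neg_distrib, Finset.sum_neg_distrib, ← Finset.sum_smul,
        hc0, zero_smul, neg_zero, zero_sub, neg_neg]
    rw [e1, he]
    simp only [Int.cast_neg, neg_smul, smul_sub]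
    rw [Finset.sum_sub_distrib, ← Finset.sum_smul, hc0, zero_smul, zero_sub, Finset.sum_neg_distrib]

/-- Adjoining a conjugate pair to a coherent set. -/
theorem coherent_extension (hS : IsCoherenceSystem S τ R) (d n : (L → ℂ) → ℕ)
    (hd : ∀ φ ∈ S, φ 1 = (d φ : ℂ)) (hn : ∀ φ ∈ S, classInner φ φ = (n φ : ℂ))
    (S₁ : Finset (L → ℂ)) (hS₁ : ↑S₁ ⊆ S) (hS₁c : ∀ φ ∈ S₁, conjFun φ ∈ S₁)
    (hcoh : IsCoherent (↑S₁ : Set (L → ℂ)) {1}ᶜ τ) (χ : L → ℂ) (hχ : χ ∈ S) (hχ₁ : χ ∉ S₁)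
    (hχ₂ : conjFun χ ∉ S₁) (χ₁ : L → ℂ) (hχ₁S : χ₁ ∈ S₁) (hdvd : d χ₁ ∣ d χ)
    (hineq : (2 * d χ * d χ₁ : ℝ) < ∑ φ ∈ S₁, ((d φ : ℝ) ^ 2 / (n φ : ℝ))) :
    IsCoherent (↑S₁ ∪ {χ, conjFun χ} : Set (L → ℂ)) {1}ᶜ τ := by
  classical
  have hψ0 := hS₁ hχ₁S
  have hnpos : ∀ φ ∈ S, 0 < n φ := fun φ hφ => by
    obtain ⟨m, hm, e⟩ := cohSys_norm hS hφ
    have : (n φ : ℂ) = (m : ℂ) := (hn φ hφ).symm.trans e
    rw [show n φ = m by exact_mod_cast this]
    exact hm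
  have hdpos : ∀ φ ∈ S, 0 < d φ := fun φ hφ => Nat.pos_of_ne_zero fun h =>
    cohSys_deg hS hφ (by rw [hd φ hφ, h, Nat.cast_zero])
  have horth := hS.orthogonal
  have hχc := hS.conj_mem χ hχ
  have hd1 := hdpos χ₁ hψ0
  obtain ⟨a, ha⟩ := hdvd
  have ha0 : 0 < a := Nat.pos_of_ne_zero fun h => by
    have := hdpos χ hχ; rw [ha, h] at this; simp at this
  have hdc : d (conjFun χ) = d χ := by
    have h := (hd _ hχc).symm.trans ((cohSys_conj_one hS hχ).trans (hd χ hχ))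
    exact_mod_cast h
  have hne : ∀ φ ∈ S₁, φ ≠ χ ∧ φ ≠ conjFun χ := fun φ hφ =>
    ⟨fun e => hχ₁ (e ▸ hφ), fun e => hχ₂ (e ▸ hφ)⟩
  obtain ⟨hne0, τ₁, hiso, hag⟩ := hcoh
  have hin : ∀ φ ∈ S₁, φ ∈ zspan (↑S₁ : Set (L → ℂ)) := fun φ hφ => mem_zspan_of_mem hφ
  have hinS : ∀ φ ∈ S₁, φ ∈ zspan S := fun φ hφ => mem_zspan_of_mem (hS₁ hφ)
  have hτ1in : ∀ φ ∈ S₁, ∀ ψ ∈ S₁, classInner (τ₁ φ) (τ₁ ψ) = classInner φ ψ :=
    fun φ hφ ψ hψ => hiso.2.2.1 φ (hin φ hφ) ψ (hin ψ hψ)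
  -- the images of the old characters lie in their own spans
  have hperp : ∀ φ ∈ S₁, ∀ β ∈ R χ, classInner β (τ₁ φ) = 0 := by
    intro φ hφ β hβ
    have hφS := hS₁ hφ
    have hgen := hiso.2.2.2 φ (hin φ hφ)
    obtain ⟨N, T, hT, -, hPx, hxP, hPP, hTN, -⟩ := cohSys_R_facts hS hφS hgen
    have hmem : φ - conjFun φ ∈ zspanOn (↑S₁ : Set (L → ℂ)) {1}ᶜ :=
      cohSys_diff_mem (S' := (↑S₁ : Set (L → ℂ))) hφ (hS₁c φ hφ) (cohSys_conj_one hS hφS).symm
    have eT : T = n φ := by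
      rw [← hS.sum_eq φ hφS, ← hag _ hmem, hiso.2.2.1 φ (hin φ hφ) _ hmem.1, classInner_sub_right,
        hn φ hφS, horth φ hφS _ (hS.conj_mem φ hφS) (hS.conj_ne φ hφS).symm, sub_zero] at hT
      exact_mod_cast hT.symm
    rw [eT, abs_of_nonneg (Int.natCast_nonneg _)] at hTN
    set y := τ₁ φ with hy
    have hr : classInner (y - projR (R φ) y) (y - projR (R φ) y) = (((n φ : ℤ) - N : ℤ) : ℂ) := by
      simp only [classInner_sub_left, classInner_sub_right, hPx, hxP, hPP]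
      rw [hτ1in φ hφ φ hφ, hn φ hφS]
      push_cast
      ring
    have hnn := classInner_self_re_nonneg (y - projR (R φ) y)
    rw [hr, Complex.intCast_re] at hnn
    have hnn' : (0 : ℤ) ≤ (n φ : ℤ) - N := by exact_mod_cast hnn
    rw [show (n φ : ℤ) - N = 0 by omega, Int.cast_zero] at hr
    rw [sub_eq_zero.1 (classInner_self_eq_zero hr), ← classInner_symm]
    rw [inner_projR_eq_zero y fun α hα =>
      (cohSys_disjoint' hS hχ hφS (hne φ hφ).1 (hne φ hφ).2 hα hβ).1, map_zero]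
  -- the new basic difference
  set v0 : L → ℂ := χ - ((a : ℤ) : ℂ) • χ₁ with hv0
  have hv0m : v0 ∈ zspanOn S {1}ᶜ := by
    refine mem_zspanOn_punctured
      (Submodule.sub_mem _ (mem_zspan_of_mem hχ) (mem_zspan_smul _ (hinS χ₁ hχ₁S))) ?_
    rw [hv0, Pi.sub_apply, Pi.smul_apply, hd χ hχ, hd χ₁ hψ0, ha, smul_eq_mul]
    push_cast
    ring
  set y := τ v0 with hy
  have hygen : IsGeneralizedCharacter G y := hS.isometry.2.2.2 _ hv0m
  have hccm : χ - conjFun χ ∈ zspanOn S {1}ᶜ :=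
    cohSys_diff_mem hχ hχc (cohSys_conj_one hS hχ).symm
  obtain ⟨N, T, hT, hT', hPy, hyP, hPP, hTN, hPgen⟩ := cohSys_R_facts hS hχ hygen
  have eT : T = n χ := by
    rw [← hS.sum_eq χ hχ, hS.isometry.2.2.1 _ hv0m _ hccm, hv0, classInner_sub_left,
      classInner_sub_right, classInner_sub_right, classInner_smul_left, classInner_smul_left,
      hn χ hχ, horth χ hχ _ hχc (hS.conj_ne χ hχ).symm, horth χ₁ hψ0 χ hχ (hne χ₁ hχ₁S).1,
      horth χ₁ hψ0 _ hχc (hne χ₁ hχ₁S).2] at hT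
    simp only [mul_zero, sub_zero] at hT
    exact_mod_cast hT.symm
  set P := projR (R χ) y with hP
  have hPperp : ∀ φ ∈ S₁, classInner P (τ₁ φ) = 0 := fun φ hφ =>
    inner_projR_eq_zero y fun β hβ => hperp φ hφ β hβ
  have hint : ∀ φ ∈ S₁, ∃ z : ℤ, classInner y (τ₁ φ) = z := fun φ hφ =>
    classInner_gen_int hygen (hiso.2.2.2 φ (hin φ hφ))
  choose! b hb using hint
  set K : ℤ := b χ₁ + a * n χ₁ with hK
  have hrel : ∀ φ ∈ S₁, (d χ₁ : ℝ) * b φ =
      d φ * K - if φ = χ₁ then (d χ₁ : ℝ) * a * n χ₁ else 0 := by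
    intro φ hφ
    rcases eq_or_ne φ χ₁ with rfl | h1
    · rw [if_pos rfl, hK]; push_cast; ring
    rw [if_neg h1, sub_zero]
    set g : L → ℂ := ((d χ₁ : ℤ) : ℂ) • φ - ((d φ : ℤ) : ℂ) • χ₁ with hg
    have hgm : g ∈ zspanOn (↑S₁ : Set (L → ℂ)) {1}ᶜ := by
      refine mem_zspanOn_punctured
        (Submodule.sub_mem _ (mem_zspan_smul _ (hin φ hφ)) (mem_zspan_smul _ (hin χ₁ hχ₁S))) ?_
      rw [hg, Pi.sub_apply, Pi.smul_apply, Pi.smul_apply, hd φ (hS₁ hφ), hd χ₁ hψ0]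
      simp [mul_comm]
    have h := hS.isometry.2.2.1 _ hv0m _ (zspanOn_mono hS₁ hgm)
    rw [← hy, ← hag _ hgm, hg, isometryOn_sub hiso (mem_zspan_smul _ (hin φ hφ))
      (mem_zspan_smul _ (hin χ₁ hχ₁S)), iso_smul hiso (hin φ hφ), iso_smul hiso (hin χ₁ hχ₁S)] at h
    simp only [hv0, classInner_sub_left, classInner_sub_right, classInner_smul_left,
      classInner_smul_right, hb φ hφ, hb χ₁ hχ₁S, map_intCast,
      horth χ hχ φ (hS₁ hφ) (hne φ hφ).1.symm, horth χ hχ χ₁ hψ0 (hne χ₁ hχ₁S).1.symm,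
      horth χ₁ hψ0 φ (hS₁ hφ) h1.symm, hn χ₁ hψ0] at h
    have e : (((d χ₁ : ℤ) * b φ : ℤ) : ℂ) = (((d φ : ℤ) * K : ℤ) : ℂ) := by
      rw [hK]
      push_cast at h ⊢
      linear_combination h
    have e' : (d χ₁ : ℤ) * b φ = (d φ : ℤ) * K := by exact_mod_cast e
    exact_mod_cast e'
  set Z : G → ℂ := ∑ φ ∈ S₁, (((b φ : ℝ) / (n φ : ℝ) : ℝ) : ℂ) • τ₁ φ with hZ
  have hyy : classInner y y = (((n χ : ℝ) + (a : ℝ) ^ 2 * n χ₁ : ℝ) : ℂ) := by
    rw [hy, hS.isometry.2.2.1 _ hv0m _ hv0m, hv0]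
    simp only [classInner_sub_left, classInner_sub_right, classInner_smul_left,
      classInner_smul_right, map_intCast, hn χ hχ, hn χ₁ hψ0,
      horth χ hχ χ₁ hψ0 (hne χ₁ hχ₁S).1.symm, horth χ₁ hψ0 χ hχ (hne χ₁ hχ₁S).1]
    push_cast
    ring
  have hyP2 : classInner (y - P) (y - P) = classInner y y - N := by
    simp only [classInner_sub_left, classInner_sub_right, hPy, hyP, hPP]
    ring
  have hpy := pyth S₁ τ₁ (fun φ => (b φ : ℝ)) (fun φ => (n φ : ℝ)) (y - P)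
    (fun φ hφ => by exact_mod_cast (hnpos φ (hS₁ hφ)).ne')
    (fun φ hφ ψ hψ h => by rw [hτ1in φ hφ ψ hψ, horth φ (hS₁ hφ) ψ (hS₁ hψ) h])
    (fun φ hφ => by rw [hτ1in φ hφ φ hφ, hn φ (hS₁ hφ), Complex.ofReal_natCast])
    (fun φ hφ => by rw [classInner_sub_left, hb φ hφ, hPperp φ hφ, sub_zero, Complex.ofReal_intCast])
  rw [← hZ] at hpy
  set W : ℝ := ∑ φ ∈ S₁, (b φ : ℝ) ^ 2 / (n φ : ℝ) with hW
  have hval : classInner (y - P - Z) (y - P - Z) =
      (((n χ : ℝ) + (a : ℝ) ^ 2 * n χ₁ - N - W : ℝ) : ℂ) := by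
    rw [hpy, hyP2, hyy, hW]
    push_cast
    ring
  have hnn := classInner_self_re_nonneg (y - P - Z)
  rw [hval, Complex.ofReal_re] at hnn
  rw [eT, abs_of_nonneg (Int.natCast_nonneg _)] at hTN
  have hTN' : (n χ : ℝ) ≤ (N : ℝ) := by exact_mod_cast hTN
  set Q : ℝ := ∑ φ ∈ S₁, (d φ : ℝ) ^ 2 / (n φ : ℝ) with hQ
  have hWQ : (d χ₁ : ℝ) ^ 2 * W =
      (K : ℝ) ^ 2 * Q - 2 * K * a * (d χ₁ : ℝ) ^ 2 + (a : ℝ) ^ 2 * n χ₁ * (d χ₁ : ℝ) ^ 2 := by
    have e : ∀ φ ∈ S₁, (d χ₁ : ℝ) ^ 2 * ((b φ : ℝ) ^ 2 / (n φ : ℝ)) =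
        (K : ℝ) ^ 2 * ((d φ : ℝ) ^ 2 / (n φ : ℝ)) + if φ = χ₁ then
          -2 * K * a * (d χ₁ : ℝ) ^ 2 + (a : ℝ) ^ 2 * n χ₁ * (d χ₁ : ℝ) ^ 2 else 0 := by
      intro φ hφ
      have h := hrel φ hφ
      have hnz : (n φ : ℝ) ≠ 0 := by exact_mod_cast (hnpos φ (hS₁ hφ)).ne'
      rcases eq_or_ne φ χ₁ with rfl | h1
      · rw [if_pos rfl] at h ⊢
        rw [← mul_div_assoc, ← mul_pow, h]
        field_simp
        ring
      · rw [if_neg h1, sub_zero] at h
        rw [if_neg h1, ← mul_div_assoc, ← mul_pow, h]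
        ring
    rw [hW, Finset.mul_sum, Finset.sum_congr rfl e, Finset.sum_add_distrib, Finset.sum_ite_eq' S₁ χ₁,
      if_pos hχ₁S, ← Finset.mul_sum]
    ring
  have hd1r : (1 : ℝ) ≤ d χ₁ := by exact_mod_cast hd1
  have har : (1 : ℝ) ≤ a := by exact_mod_cast ha0
  have hQgt : 2 * (a : ℝ) * (d χ₁ : ℝ) ^ 2 < Q := by
    rw [ha] at hineq
    push_cast at hineq
    linarith [hineq]
  have hK0 : K = 0 := by
    by_contra hne'
    have hK1 : (1 : ℝ) ≤ (K : ℝ) ^ 2 := by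
      have : (1 : ℤ) ≤ K ^ 2 := Int.add_one_le_iff.2 (pow_two_pos_of_ne_zero hne')
      exact_mod_cast this
    have h1 : W ≤ (a : ℝ) ^ 2 * n χ₁ := by linarith
    have h2 : (K : ℝ) ^ 2 * Q ≤ 2 * K * a * (d χ₁ : ℝ) ^ 2 := by nlinarith [sq_nonneg (d χ₁ : ℝ)]
    have h3 : (K : ℝ) ≤ (K : ℝ) ^ 2 := by
      have : K ≤ K ^ 2 := Int.le_self_sq K
      exact_mod_cast this
    have h4 : 0 < (a : ℝ) * (d χ₁ : ℝ) ^ 2 := by positivity
    nlinarith [mul_lt_mul_of_pos_left hQgt (show (0 : ℝ) < (K : ℝ) ^ 2 by linarith)]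
  have hWeq : W = (a : ℝ) ^ 2 * n χ₁ := by
    rw [hK0] at hWQ
    have hd2 : (d χ₁ : ℝ) ^ 2 ≠ 0 := by positivity
    refine mul_left_cancel₀ hd2 ?_
    rw [hWQ]; push_cast; ring
  have eN : N = n χ := by
    have : (N : ℝ) ≤ (n χ : ℝ) := by linarith
    have : N ≤ (n χ : ℤ) := by exact_mod_cast this
    omega
  have hyeq : y = P - ((a : ℤ) : ℂ) • τ₁ χ₁ := by
    have hr0 : y - P - Z = 0 := eq_zero_of_re_zero (by
      rw [hval, Complex.ofReal_re, hWeq, eN, Int.cast_natCast]; ring)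
    have hbz : ∀ φ ∈ S₁, φ ≠ χ₁ → b φ = 0 := fun φ hφ h1 => by
      have h := hrel φ hφ
      rw [if_neg h1, hK0, Int.cast_zero, mul_zero, sub_zero] at h
      exact_mod_cast (mul_eq_zero.1 h).resolve_left (by positivity)
    have hZe : Z = -(((a : ℤ) : ℂ) • τ₁ χ₁) := by
      rw [hZ, Finset.sum_eq_single χ₁ (fun φ hφ h1 => by simp [hbz φ hφ h1])
        (fun h => absurd hχ₁S h), ← neg_smul]
      congr 1
      have hb1 : (b χ₁ : ℝ) = -((a : ℝ) * n χ₁) := by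
        have : b χ₁ = -((a : ℤ) * n χ₁) := by omega
        exact_mod_cast this
      have hnz : (n χ₁ : ℝ) ≠ 0 := by exact_mod_cast (hnpos χ₁ hψ0).ne'
      rw [hb1, neg_div, mul_div_cancel_right₀ _ hnz]
      push_cast; ring
    rw [sub_sub, sub_eq_zero, hZe] at hr0
    rw [hr0, sub_eq_add_neg]
  have hPs : classInner P (∑ α ∈ R χ, α) = n χ := by rw [hT', eT, Int.cast_natCast]
  have hPn : classInner P P = n χ := by rw [hPP, eN, Int.cast_natCast]
  set f : (L → ℂ) → (G → ℂ) := fun φ =>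
    if φ = χ then P else if φ = conjFun χ then P - ∑ α ∈ R χ, α else τ₁ φ with hf
  have hf1 : f χ = P := if_pos rfl
  have hf2 : f (conjFun χ) = P - ∑ α ∈ R χ, α := by
    exact (if_neg (hS.conj_ne χ hχ)).trans (if_pos rfl)
  have hf3 : ∀ φ ∈ S₁, f φ = τ₁ φ := fun φ hφ => by
    simp only [hf]; rw [if_neg (hne φ hφ).1, if_neg (hne φ hφ).2]
  set F : Finset (L → ℂ) := insert χ (insert (conjFun χ) S₁) with hF
  have hFS : ∀ φ ∈ F, φ ∈ S := fun φ hφ => by
    simp only [hF, Finset.mem_insert] at hφ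
    rcases hφ with rfl | rfl | h
    exacts [hχ, hχc, hS₁ h]
  have hset : (↑S₁ ∪ {χ, conjFun χ} : Set (L → ℂ)) = (↑F : Set (L → ℂ)) := by
    ext φ
    simp only [hF, Set.mem_union, Set.mem_insert_iff, Set.mem_singleton_iff, Finset.coe_insert,
      Finset.mem_coe]
    tauto
  rw [hset]
  have hsR : classInner (∑ α ∈ R χ, α) (∑ α ∈ R χ, α) = 2 * (n χ : ℂ) := by
    rw [← hS.sum_eq χ hχ, hS.isometry.2.2.1 _ hccm _ hccm, classInner_sub_left,
      classInner_sub_right, classInner_sub_right, classInner_conjFun, hn χ hχ, map_natCast,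
      horth χ hχ _ hχc (hS.conj_ne χ hχ).symm, horth _ hχc χ hχ (hS.conj_ne χ hχ)]
    ring
  have hsperp : ∀ φ ∈ S₁, classInner (∑ α ∈ R χ, α) (τ₁ φ) = 0 := fun φ hφ => by
    rw [classInner_sum_left]
    exact Finset.sum_eq_zero fun α hα => hperp φ hφ α hα
  refine isCoherent_of_images F τ (fun φ hφ ψ hψ h => horth φ (hFS φ hφ) ψ (hFS ψ hψ) h)
    (fun φ hφ => by rw [hn φ (hFS φ hφ)]; exact_mod_cast (hnpos φ (hFS φ hφ)).ne') f ?_ ?_ ?_ ?_
  · intro φ hφ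
    simp only [hF, Finset.mem_insert] at hφ
    rcases hφ with rfl | rfl | h
    · rw [hf1]; exact hPgen
    · rw [hf2]; exact isGenChar_sub hPgen (isGenChar_sum _ _ (hS.virtual χ hχ))
    · rw [hf3 φ h]; exact hiso.2.2.2 φ (hin φ h)
  · have sym : ∀ φ ∈ S₁, classInner (τ₁ φ) P = 0 ∧ classInner (τ₁ φ) (∑ α ∈ R χ, α) = 0 :=
      fun φ hφ => ⟨by rw [← classInner_symm, hPperp φ hφ, map_zero],
        by rw [← classInner_symm, hsperp φ hφ, map_zero]⟩
    have hsP : classInner (∑ α ∈ R χ, α) P = n χ := by rw [← classInner_symm, hPs, map_natCast]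
    intro φ hφ ψ hψ
    simp only [hF, Finset.mem_insert] at hφ hψ
    rcases hφ with rfl | rfl | h <;> rcases hψ with rfl | rfl | h'
    · rw [hf1, hPn, hn _ hχ]
    · rw [hf1, hf2, classInner_sub_right, hPn, hPs, sub_self,
        horth _ hχ _ hχc (hS.conj_ne _ hχ).symm]
    · rw [hf1, hf3 _ h', hPperp _ h', horth _ hχ _ (hS₁ h') (hne _ h').1.symm]
    · rw [hf1, hf2, classInner_sub_left, hPn, hsP, sub_self, horth _ hχc _ hχ (hS.conj_ne _ hχ)]
    · rw [hf2, classInner_sub_left, classInner_sub_right, classInner_sub_right, hPn, hPs, hsP, hsR,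
        classInner_conjFun, hn _ hχ, map_natCast]
      ring
    · rw [hf2, hf3 _ h', classInner_sub_left, hPperp _ h', hsperp _ h', sub_self,
        horth _ hχc _ (hS₁ h') (hne _ h').2.symm]
    · rw [hf1, hf3 _ h, (sym _ h).1, horth _ (hS₁ h) _ hχ (hne _ h).1]
    · rw [hf2, hf3 _ h, classInner_sub_right, (sym _ h).1, (sym _ h).2, sub_self,
        horth _ (hS₁ h) _ hχc (hne _ h).2]
    · rw [hf3 _ h, hf3 _ h', hτ1in _ h _ h']
  · obtain ⟨α, hα, hα0⟩ := hne0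
    exact ⟨α, zspanOn_mono (fun φ hφ => by simp [hF, Finset.mem_coe.1 hφ]) hα, hα0⟩
  · intro c hc
    have hnotin : χ ∉ insert (conjFun χ) S₁ := by
      simp only [Finset.mem_insert, not_or]
      exact ⟨(hS.conj_ne χ hχ).symm, hχ₁⟩
    simp only [hF, Finset.sum_insert hnotin, Finset.sum_insert hχ₂] at hc ⊢
    rw [hf1, hf2, Finset.sum_congr rfl (g := fun φ => (c φ : ℂ) • τ₁ φ) fun φ hφ => by rw [hf3 φ hφ]]
    set k : ℤ := (c χ + c (conjFun χ)) * a with hk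
    set w : L → ℂ := ((k : ℤ) : ℂ) • χ₁ + ∑ φ ∈ S₁, (c φ : ℂ) • φ with hw
    have hwm : w ∈ zspanOn (↑S₁ : Set (L → ℂ)) {1}ᶜ := by
      refine mem_zspanOn_punctured (Submodule.add_mem _ (mem_zspan_smul _ (hin χ₁ hχ₁S))
        (Submodule.sum_mem _ fun φ hφ => mem_zspan_smul _ (hin φ hφ))) ?_
      simp only [hw, Pi.add_apply, Pi.smul_apply, Finset.sum_apply, smul_eq_mul]
      rw [hd χ hχ, cohSys_conj_one hS hχ, hd χ hχ, ha] at hc
      rw [hd χ₁ hψ0, hk]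
      push_cast at hc ⊢
      linear_combination hc
    have hτw : τ w = ((k : ℤ) : ℂ) • τ₁ χ₁ + ∑ φ ∈ S₁, (c φ : ℂ) • τ₁ φ := by
      rw [← hag w hwm, hw, hiso.1 _ (mem_zspan_smul _ (hin χ₁ hχ₁S)) _
        (Submodule.sum_mem _ fun φ hφ => mem_zspan_smul _ (hin φ hφ)), iso_smul hiso (hin χ₁ hχ₁S)]
      congr 1
      have key : ∀ s : Finset (L → ℂ), s ⊆ S₁ →
          τ₁ (∑ φ ∈ s, (c φ : ℂ) • φ) = ∑ φ ∈ s, (c φ : ℂ) • τ₁ φ := by
        intro s
        induction s using Finset.induction_on with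
        | empty =>
          intro _
          simpa using iso_smul hiso (hin χ₁ hχ₁S) 0
        | insert i s hi ih =>
          intro hs
          have hi' := hs (Finset.mem_insert_self i s)
          have hs' : s ⊆ S₁ := fun j hj => hs (Finset.mem_insert_of_mem hj)
          rw [Finset.sum_insert hi, Finset.sum_insert hi, hiso.1 _ (mem_zspan_smul _ (hin i hi')) _
            (Submodule.sum_mem _ fun φ hφ => mem_zspan_smul _ (hin φ (hs' hφ))),
            iso_smul hiso (hin i hi'), ih hs']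
      exact key S₁ subset_rfl
    have hrw : (c χ : ℂ) • χ + ((c (conjFun χ) : ℂ) • conjFun χ + ∑ φ ∈ S₁, (c φ : ℂ) • φ) =
        ((c χ + c (conjFun χ) : ℤ) : ℂ) • v0 + ((-c (conjFun χ) : ℤ) : ℂ) • (χ - conjFun χ) + w := by
      rw [hv0, hw, hk]
      funext x
      simp only [Pi.add_apply, Pi.sub_apply, Pi.smul_apply, smul_eq_mul]
      push_cast
      ring
    have hwS := zspanOn_mono hS₁ hwm
    rw [hrw, hS.isometry.1 _ (zspanOn_add (zspanOn_smul _ hv0m) (zspanOn_smul _ hccm)) _ hwS,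
      hS.isometry.1 _ (zspanOn_smul _ hv0m) _ (zspanOn_smul _ hccm), iso_smul hS.isometry hv0m,
      iso_smul hS.isometry hccm, ← hy, hyeq, hS.sum_eq χ hχ, hτw, hk]
    funext x
    simp only [Pi.add_apply, Pi.sub_apply, Pi.smul_apply, smul_eq_mul]
    push_cast
    ring

end System

/-- Two coherent parts of one isometry have orthogonal images. -/
theorem coherent_parts_orth (S X Y : Set (L → ℂ)) (hirr : ∀ ξ ∈ S, IsIrrCharacter L ξ)
    (hXS : X ⊆ S) (hYS : Y ⊆ S) (hXY : Disjoint X Y) (hX2 : ∃ a ∈ X, ∃ b ∈ X, a ≠ b)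
    (hY2 : ∃ a ∈ Y, ∃ b ∈ Y, a ≠ b) (α : (L → ℂ) → (G → ℂ))
    (hα : IsLinearIsometryOn (zspanOn S {1}ᶜ) α) (hα1 : ∀ θ ∈ zspanOn S {1}ᶜ, α θ 1 = 0)
    (σ τ : (L → ℂ) → (G → ℂ)) (hσ : IsLinearIsometryOn (zspan X) σ)
    (hσα : ∀ θ ∈ zspanOn X {1}ᶜ, σ θ = α θ) (hτ : IsLinearIsometryOn (zspan Y) τ)
    (hτα : ∀ θ ∈ zspanOn Y {1}ᶜ, τ θ = α θ) :
    ∀ χ ∈ X, ∀ η ∈ Y, classInner (σ χ) (τ η) = 0 := by
  classical
  have hd : ∀ ξ ∈ S, ∃ k : ℕ, 0 < k ∧ ξ 1 = k := fun ξ hξ =>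
    ⟨deg ξ, deg_pos (hirr ξ hξ), char_one_eq_deg (irr_isCharacter (hirr ξ hξ))⟩
  choose! d hd0 hd using hd
  have hor : ∀ a ∈ S, ∀ b ∈ S, classInner a b = if a = b then 1 else 0 :=
    fun a ha b hb => irr_orth (hirr a ha) (hirr b hb)
  -- a pair vanishing at the identity, with its image
  have pair : ∀ {T : Set (L → ℂ)} {ρ : (L → ℂ) → (G → ℂ)}, T ⊆ S →
      IsLinearIsometryOn (zspan T) ρ → (∀ θ ∈ zspanOn T {1}ᶜ, ρ θ = α θ) → ∀ a ∈ T, ∀ b ∈ T,
      ((d a : ℤ) : ℂ) • b - ((d b : ℤ) : ℂ) • a ∈ zspanOn T {1}ᶜ ∧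
      α (((d a : ℤ) : ℂ) • b - ((d b : ℤ) : ℂ) • a) =
        ((d a : ℤ) : ℂ) • ρ b - ((d b : ℤ) : ℂ) • ρ a := by
    intro T ρ hT hρ hag a ha b hb
    have hm : ((d a : ℤ) : ℂ) • b - ((d b : ℤ) : ℂ) • a ∈ zspanOn T {1}ᶜ := by
      refine mem_zspanOn_punctured (Submodule.sub_mem _ (mem_zspan_smul _ (mem_zspan_of_mem hb))
        (mem_zspan_smul _ (mem_zspan_of_mem ha))) ?_
      rw [Pi.sub_apply, Pi.smul_apply, Pi.smul_apply, hd a (hT ha), hd b (hT hb)]
      simp [mul_comm]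
    refine ⟨hm, ?_⟩
    rw [← hag _ hm, isometryOn_sub hρ (mem_zspan_smul _ (mem_zspan_of_mem hb))
      (mem_zspan_smul _ (mem_zspan_of_mem ha)), iso_smul hρ (mem_zspan_of_mem hb),
      iso_smul hρ (mem_zspan_of_mem ha)]
  intro χ hχ η hη
  by_contra hne
  obtain ⟨χ', hχ', hχne⟩ : ∃ c ∈ X, c ≠ χ := by
    obtain ⟨a, ha, b, hb, hab⟩ := hX2
    by_cases h : a = χ
    exacts [⟨b, hb, fun e => hab (h.trans e.symm)⟩, ⟨a, ha, h⟩]
  obtain ⟨η', hη', hηne⟩ : ∃ c ∈ Y, c ≠ η := by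
    obtain ⟨a, ha, b, hb, hab⟩ := hY2
    by_cases h : a = η
    exacts [⟨b, hb, fun e => hab (h.trans e.symm)⟩, ⟨a, ha, h⟩]
  obtain ⟨hmA, hA⟩ := pair hXS hσ hσα χ hχ χ' hχ'
  obtain ⟨hmB, hB⟩ := pair hYS hτ hτα η hη η' hη'
  have hσn : ∀ c ∈ X, classInner (σ c) (σ c) = 1 := fun c hc => by
    rw [hσ.2.2.1 c (mem_zspan_of_mem hc) c (mem_zspan_of_mem hc), irr_self (hirr c (hXS hc))]
  have hτn : ∀ c ∈ Y, classInner (τ c) (τ c) = 1 := fun c hc => by
    rw [hτ.2.2.1 c (mem_zspan_of_mem hc) c (mem_zspan_of_mem hc), irr_self (hirr c (hYS hc))]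
  obtain ⟨e1, μ, he1, hμ⟩ := exists_sign_of_norm_one (hσ.2.2.2 χ (mem_zspan_of_mem hχ)) (hσn χ hχ)
  obtain ⟨e2, μ', he2, hμ'⟩ := exists_sign_of_norm_one (hσ.2.2.2 χ' (mem_zspan_of_mem hχ')) (hσn χ' hχ')
  obtain ⟨e3, ν, he3, hν⟩ := exists_sign_of_norm_one (hτ.2.2.2 η (mem_zspan_of_mem hη)) (hτn η hη)
  obtain ⟨e4, ν', he4, hν'⟩ := exists_sign_of_norm_one (hτ.2.2.2 η' (mem_zspan_of_mem hη')) (hτn η' hη')
  have hnz : ∀ e : ℤ, (e = 1 ∨ e = -1) → (e : ℂ) ≠ 0 := fun e he => by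
    rcases he with h | h <;> simp [h]
  have hdn : ∀ c ∈ S, ((d c : ℤ) : ℂ) ≠ 0 := fun c hc => by exact_mod_cast (hd0 c hc).ne'
  have hμν : μ = ν := by
    by_contra h
    exact hne (by rw [hμ, hν, classInner_smul_left, classInner_smul_right, irrC_orth, if_neg h,
      mul_zero, mul_zero])
  have hμμ' : μ ≠ μ' := by
    intro h
    have h1 := hσ.2.2.1 χ (mem_zspan_of_mem hχ) χ' (mem_zspan_of_mem hχ')
    rw [hor χ (hXS hχ) χ' (hXS hχ'), if_neg hχne.symm, hμ, hμ', classInner_smul_left,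
      classInner_smul_right, irrC_orth, if_pos h, map_intCast, mul_one] at h1
    exact mul_ne_zero (hnz e1 he1) (hnz e2 he2) h1
  have hνν' : ν ≠ ν' := by
    intro h
    have h1 := hτ.2.2.1 η (mem_zspan_of_mem hη) η' (mem_zspan_of_mem hη')
    rw [hor η (hYS hη) η' (hYS hη'), if_neg hηne.symm, hν, hν', classInner_smul_left,
      classInner_smul_right, irrC_orth, if_pos h, map_intCast, mul_one] at h1
    exact mul_ne_zero (hnz e3 he3) (hnz e4 he4) h1
  have hXYne : ∀ a ∈ X, ∀ b ∈ Y, a ≠ b := fun a ha b hb e =>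
    Set.disjoint_left.1 hXY ha (e ▸ hb)
  have h0 := hα.2.2.1 _ (zspanOn_mono hXS hmA) _ (zspanOn_mono hYS hmB)
  rw [hA, hB, hμ, hμ', hν, hν'] at h0
  simp only [classInner_sub_left, classInner_sub_right, classInner_smul_left, classInner_smul_right,
    irrC_orth, map_intCast, hor _ (hXS hχ) _ (hYS hη), hor _ (hXS hχ) _ (hYS hη'),
    hor _ (hXS hχ') _ (hYS hη), hor _ (hXS hχ') _ (hYS hη'), if_neg (hXYne _ hχ _ hη),
    if_neg (hXYne _ hχ _ hη'), if_neg (hXYne _ hχ' _ hη), if_neg (hXYne _ hχ' _ hη')] at h0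
  have hμν' : μ ≠ ν' := hμν ▸ hνν'
  have hμ'ν : μ' ≠ ν := hμν ▸ hμμ'.symm
  rw [if_neg hμν', if_neg hμ'ν, if_pos hμν] at h0
  have hμ'ν' : μ' = ν' := by
    by_contra h
    rw [if_neg h] at h0
    have : ((d χ' : ℤ) : ℂ) * (d η' : ℤ) * ((e1 : ℂ) * e3) = 0 := by linear_combination h0
    exact mul_ne_zero (mul_ne_zero (hdn χ' (hXS hχ')) (hdn η' (hYS hη')))
      (mul_ne_zero (hnz e1 he1) (hnz e3 he3)) this
  rw [if_pos hμ'ν'] at h0
  have hA1 := hα1 _ (zspanOn_mono hXS hmA)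
  have hB1 := hα1 _ (zspanOn_mono hYS hmB)
  rw [hA, hμ, hμ'] at hA1
  rw [hB, hν, hν', ← hμν, ← hμ'ν'] at hB1
  simp only [Pi.sub_apply, Pi.smul_apply, smul_eq_mul] at hA1 hB1
  have hm0 := irr_one_ne_zero μ.2
  have hm1 := irr_one_ne_zero μ'.2
  -- proportional images cannot be orthogonal
  have hsum : ((μ : G → ℂ) 1 ^ 2 + (μ' : G → ℂ) 1 ^ 2) ≠ 0 := by
    rw [char_one_eq_deg (irr_isCharacter μ.2), char_one_eq_deg (irr_isCharacter μ'.2)]
    have : 0 < deg (μ : G → ℂ) ^ 2 + deg (μ' : G → ℂ) ^ 2 :=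
      Nat.add_pos_left (pow_pos (deg_pos μ.2) 2) _
    exact_mod_cast this.ne'
  have k : ((d χ : ℤ) : ℂ) * e2 * (((d η : ℤ) : ℂ) * e4) *
      ((μ : G → ℂ) 1 ^ 2 + (μ' : G → ℂ) 1 ^ 2) = 0 := by
    linear_combination (((d η : ℤ) : ℂ) * e4 * (μ' : G → ℂ) 1) * hA1 +
      (((d χ' : ℤ) : ℂ) * e1 * (μ : G → ℂ) 1) * hB1 + (μ : G → ℂ) 1 ^ 2 * h0
  exact mul_ne_zero (mul_ne_zero (mul_ne_zero (hdn χ (hXS hχ)) (hnz e2 he2))
    (mul_ne_zero (hdn η (hYS hη)) (hnz e4 he4))) hsum k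

/-- Gluing two coherent parts. -/
theorem coherent_union (S X Y : Set (L → ℂ)) (hirr : ∀ ξ ∈ S, IsIrrCharacter L ξ)
    (hXS : X ⊆ S) (hYS : Y ⊆ S) (hXY : Disjoint X Y) (hX2 : ∃ a ∈ X, ∃ b ∈ X, a ≠ b)
    (hY2 : ∃ a ∈ Y, ∃ b ∈ Y, a ≠ b) (α : (L → ℂ) → (G → ℂ))
    (hα : IsLinearIsometryOn (zspanOn S {1}ᶜ) α) (hα1 : ∀ θ ∈ zspanOn S {1}ᶜ, α θ 1 = 0)
    (σ τ : (L → ℂ) → (G → ℂ)) (hσ : IsLinearIsometryOn (zspan X) σ)
    (hσα : ∀ θ ∈ zspanOn X {1}ᶜ, σ θ = α θ) (hτ : IsLinearIsometryOn (zspan Y) τ)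
    (hτα : ∀ θ ∈ zspanOn Y {1}ᶜ, τ θ = α θ)
    (hbase : ∃ χ₀ ∈ X, ∃ η₀ ∈ Y, α (χ₀ 1 • η₀ - η₀ 1 • χ₀) = χ₀ 1 • τ η₀ - η₀ 1 • σ χ₀) :
    IsCoherent (X ∪ Y) {1}ᶜ α := by
  classical
  have hperp := coherent_parts_orth S X Y hirr hXS hYS hXY hX2 hY2 α hα hα1 σ τ hσ hσα hτ hτα
  have horth : ∀ φ ∈ S, ∀ ψ ∈ S, φ ≠ ψ → classInner φ ψ = 0 := fun a ha b hb h => by
    rw [irr_orth (hirr a ha) (hirr b hb), if_neg h]
  have hnz : ∀ φ ∈ S, classInner φ φ ≠ 0 := fun a ha => by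
    rw [irr_self (hirr a ha)]; exact one_ne_zero
  have hfX := orth_finite (fun a ha b hb => horth a (hXS ha) b (hXS hb)) (fun a ha => hnz a (hXS ha))
  have hfY := orth_finite (fun a ha b hb => horth a (hYS ha) b (hYS hb)) (fun a ha => hnz a (hYS ha))
  obtain ⟨A, rfl⟩ : ∃ A : Finset (L → ℂ), (↑A : Set (L → ℂ)) = X := ⟨hfX.toFinset, hfX.coe_toFinset⟩
  obtain ⟨B, rfl⟩ : ∃ B : Finset (L → ℂ), (↑B : Set (L → ℂ)) = Y := ⟨hfY.toFinset, hfY.coe_toFinset⟩
  have hAB : Disjoint A B := Finset.disjoint_coe.1 hXY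
  have hsub : ∀ φ ∈ A ∪ B, φ ∈ S := fun φ hφ =>
    (Finset.mem_union.1 hφ).elim (fun h => hXS h) (fun h => hYS h)
  rw [← Finset.coe_union]
  set f : (L → ℂ) → (G → ℂ) := fun φ => if φ ∈ A then σ φ else τ φ with hf
  have hfA : ∀ φ ∈ A, f φ = σ φ := fun φ h => if_pos h
  have hfB : ∀ φ ∈ B, f φ = τ φ := fun φ h => if_neg (Finset.disjoint_right.1 hAB h)
  refine isCoherent_of_images (A ∪ B) α (fun a ha b hb => horth a (hsub a ha) b (hsub b hb))
    (fun a ha => hnz a (hsub a ha)) f ?_ ?_ ?_ ?_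
  · intro φ hφ
    rcases Finset.mem_union.1 hφ with h | h
    · rw [hfA φ h]; exact hσ.2.2.2 φ (mem_zspan_of_mem (Finset.mem_coe.2 h))
    · rw [hfB φ h]; exact hτ.2.2.2 φ (mem_zspan_of_mem (Finset.mem_coe.2 h))
  · intro φ hφ ψ hψ
    rcases Finset.mem_union.1 hφ with h | h <;> rcases Finset.mem_union.1 hψ with h' | h'
    · rw [hfA φ h, hfA ψ h']
      exact hσ.2.2.1 φ (mem_zspan_of_mem (Finset.mem_coe.2 h)) ψ (mem_zspan_of_mem (Finset.mem_coe.2 h'))
    · rw [hfA φ h, hfB ψ h', hperp φ h ψ h', horth φ (hXS h) ψ (hYS h')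
        (fun e => Finset.disjoint_left.1 hAB h (e ▸ h'))]
    · rw [hfB φ h, hfA ψ h', ← classInner_symm, hperp ψ h' φ h, map_zero, horth φ (hYS h) ψ (hXS h')
        (fun e => Finset.disjoint_left.1 hAB h' (e ▸ h))]
    · rw [hfB φ h, hfB ψ h']
      exact hτ.2.2.1 φ (mem_zspan_of_mem (Finset.mem_coe.2 h)) ψ (mem_zspan_of_mem (Finset.mem_coe.2 h'))
  · obtain ⟨a, ha, b, hb, hab⟩ := hX2
    obtain ⟨k, hk, hka⟩ : ∃ k : ℕ, 0 < k ∧ a 1 = k :=
      ⟨deg a, deg_pos (hirr a (hXS ha)), char_one_eq_deg (irr_isCharacter (hirr a (hXS ha)))⟩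
    obtain ⟨l, hlb⟩ : ∃ l : ℕ, b 1 = l := charOne_eq_natCast (irr_isCharacter (hirr b (hXS hb)))
    refine ⟨((k : ℤ) : ℂ) • b - ((l : ℤ) : ℂ) • a, mem_zspanOn_punctured (Submodule.sub_mem _
      (mem_zspan_smul _ (mem_zspan_of_mem (Finset.mem_coe.2 (Finset.mem_union_left _ hb))))
      (mem_zspan_smul _ (mem_zspan_of_mem (Finset.mem_coe.2 (Finset.mem_union_left _ ha))))) ?_, ?_⟩
    · rw [Pi.sub_apply, Pi.smul_apply, Pi.smul_apply, hka, hlb]
      simp [mul_comm]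
    · intro h0
      have := congrArg (fun g => classInner g b) h0
      simp only [classInner_sub_left, classInner_smul_left, classInner_zero_left,
        horth a (hXS ha) b (hXS hb) hab, irr_self (hirr b (hXS hb))] at this
      simp [hk.ne'] at this
  · intro c hc
    obtain ⟨x0, hx0, y0, hy0, hb0⟩ := hbase
    obtain ⟨x, hx⟩ := charOne_eq_natCast (irr_isCharacter (hirr x0 (hXS hx0)))
    obtain ⟨y, hy⟩ := charOne_eq_natCast (irr_isCharacter (hirr y0 (hYS hy0)))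
    have hxn : (x : ℂ) ≠ 0 := hx ▸ irr_one_ne_zero (hirr x0 (hXS hx0))
    have hyn : (y : ℂ) ≠ 0 := hy ▸ irr_one_ne_zero (hirr y0 (hYS hy0))
    rw [hx, hy] at hb0
    rw [Finset.sum_union hAB] at hc ⊢
    rw [Finset.sum_union hAB,
      Finset.sum_congr (s₁ := A) rfl (g := fun φ => (c φ : ℂ) • σ φ) fun φ hφ => by rw [hfA φ hφ]]
    rw [Finset.sum_congr (s₁ := B) rfl (g := fun φ => (c φ : ℂ) • τ φ) fun φ hφ => by rw [hfB φ hφ]]
    have hint : ∀ φ ∈ A ∪ B, ∃ k : ℕ, φ 1 = k := fun φ hφ =>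
      charOne_eq_natCast (irr_isCharacter (hirr φ (hsub φ hφ)))
    choose! dd hdd using hint
    set s : ℤ := ∑ φ ∈ B, c φ * (dd φ : ℤ) with hs
    have hsC : (s : ℂ) = ∑ φ ∈ B, (c φ : ℂ) * φ 1 := by
      rw [hs]; push_cast
      exact Finset.sum_congr rfl fun φ hφ => by rw [hdd φ (Finset.mem_union_right _ hφ)]
    have hsum : ∀ {T : Finset (L → ℂ)} {ρ : (L → ℂ) → (G → ℂ)},
        IsLinearIsometryOn (zspan (↑T : Set (L → ℂ))) ρ → T.Nonempty →
        (∑ φ ∈ T, (c φ : ℂ) • φ) ∈ zspan (↑T : Set (L → ℂ)) ∧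
          ρ (∑ φ ∈ T, (c φ : ℂ) • φ) = ∑ φ ∈ T, (c φ : ℂ) • ρ φ := by
      intro T ρ hρ hT
      have key : ∀ u : Finset (L → ℂ), u ⊆ T →
          (∑ φ ∈ u, (c φ : ℂ) • φ) ∈ zspan (↑T : Set (L → ℂ)) ∧
          ρ (∑ φ ∈ u, (c φ : ℂ) • φ) = ∑ φ ∈ u, (c φ : ℂ) • ρ φ := by
        intro u
        induction u using Finset.induction_on with
        | empty =>
          intro _
          obtain ⟨t, ht⟩ := hT
          exact ⟨by rw [Finset.sum_empty]; exact Submodule.zero_mem _,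
            by simpa using iso_smul hρ (mem_zspan_of_mem (Finset.mem_coe.2 ht)) 0⟩
        | insert i u hi ih =>
          intro hu
          have hi' := mem_zspan_smul (c i)
            (mem_zspan_of_mem (Finset.mem_coe.2 (hu (Finset.mem_insert_self i u))))
          obtain ⟨hm, he⟩ := ih fun j hj => hu (Finset.mem_insert_of_mem hj)
          rw [Finset.sum_insert hi, Finset.sum_insert hi]
          exact ⟨Submodule.add_mem _ hi' hm, by
            rw [hρ.1 _ hi' _ hm, he,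
              iso_smul hρ (mem_zspan_of_mem (Finset.mem_coe.2 (hu (Finset.mem_insert_self i u))))]⟩
      exact key T subset_rfl
    obtain ⟨hAm, hAe⟩ := hsum hσ ⟨x0, Finset.mem_coe.1 hx0⟩
    obtain ⟨hBm, hBe⟩ := hsum hτ ⟨y0, Finset.mem_coe.1 hy0⟩
    set VA : L → ℂ := ∑ φ ∈ A, (c φ : ℂ) • φ with hVA
    set VB : L → ℂ := ∑ φ ∈ B, (c φ : ℂ) • φ with hVB
    have hVA1 : VA 1 = -(s : ℂ) := by
      rw [hVA, Finset.sum_apply, hsC]
      simp only [Pi.smul_apply, smul_eq_mul]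
      linear_combination hc
    have hVB1 : VB 1 = (s : ℂ) := by
      rw [hVB, Finset.sum_apply, hsC]
      simp only [Pi.smul_apply, smul_eq_mul]
    set m : ℤ := (x : ℤ) * y with hm
    have hx0s := mem_zspan_of_mem hx0
    have hy0s := mem_zspan_of_mem hy0
    set u1 : L → ℂ := (m : ℂ) • VA + ((s * y : ℤ) : ℂ) • x0 with hu1
    set u2 : L → ℂ := (m : ℂ) • VB + ((-(s * x) : ℤ) : ℂ) • y0 with hu2
    have h1m : u1 ∈ zspanOn (↑A : Set (L → ℂ)) {1}ᶜ := by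
      refine mem_zspanOn_punctured (Submodule.add_mem _ (mem_zspan_smul _ hAm) (mem_zspan_smul _ hx0s)) ?_
      rw [hu1, Pi.add_apply, Pi.smul_apply, Pi.smul_apply, smul_eq_mul, smul_eq_mul, hVA1, hx, hm]
      push_cast; ring
    have h2m : u2 ∈ zspanOn (↑B : Set (L → ℂ)) {1}ᶜ := by
      refine mem_zspanOn_punctured (Submodule.add_mem _ (mem_zspan_smul _ hBm) (mem_zspan_smul _ hy0s)) ?_
      rw [hu2, Pi.add_apply, Pi.smul_apply, Pi.smul_apply, smul_eq_mul, smul_eq_mul, hVB1, hy, hm]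
      push_cast; ring
    set θ : L → ℂ := ((x : ℤ) : ℂ) • y0 - ((y : ℤ) : ℂ) • x0 with hθ
    have hθm : θ ∈ zspanOn S {1}ᶜ := by
      refine mem_zspanOn_punctured (Submodule.sub_mem _ (mem_zspan_smul _ (mem_zspan_of_mem (hYS hy0)))
        (mem_zspan_smul _ (mem_zspan_of_mem (hXS hx0)))) ?_
      rw [hθ, Pi.sub_apply, Pi.smul_apply, Pi.smul_apply, hx, hy]
      simp [mul_comm]
    have hαθ : α θ = (x : ℂ) • τ y0 - (y : ℂ) • σ x0 := by
      rw [← hb0, hθ]; simp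
    have hV : VA + VB ∈ zspanOn S {1}ᶜ := mem_zspanOn_punctured
      (Submodule.add_mem _ (Submodule.span_mono hXS hAm) (Submodule.span_mono hYS hBm))
      (by rw [Pi.add_apply, hVA1, hVB1]; ring)
    have hdecomp : (m : ℂ) • (VA + VB) = u1 + u2 + ((s : ℤ) : ℂ) • θ := by
      rw [hu1, hu2, hθ]
      funext g
      simp only [Pi.add_apply, Pi.sub_apply, Pi.smul_apply, smul_eq_mul]
      push_cast
      ring
    have hu1S := zspanOn_mono hXS h1m
    have hu2S := zspanOn_mono hYS h2m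
    have key := congrArg α hdecomp
    rw [iso_smul hα hV, hα.1 _ (zspanOn_add hu1S hu2S) _ (zspanOn_smul _ hθm), hα.1 _ hu1S _ hu2S,
      iso_smul hα hθm, hαθ, ← hσα _ h1m, ← hτα _ h2m, hu1, hu2,
      hσ.1 _ (mem_zspan_smul _ hAm) _ (mem_zspan_smul _ hx0s),
      hτ.1 _ (mem_zspan_smul _ hBm) _ (mem_zspan_smul _ hy0s), iso_smul hσ hAm, iso_smul hσ hx0s,
      iso_smul hτ hBm, iso_smul hτ hy0s, hAe, hBe] at key
    funext g
    have hg := congrFun key g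
    simp only [Pi.add_apply, Pi.sub_apply, Pi.smul_apply, smul_eq_mul] at hg ⊢
    have hm0 : (m : ℂ) ≠ 0 := by rw [hm]; push_cast; exact mul_ne_zero hxn hyn
    refine mul_left_cancel₀ hm0 ?_
    rw [hg]
    push_cast
    ring

end Cfsg.Agent.Char
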