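import Cfsg.Agent.Lib.Char.Glauberman
import Cfsg.Agent.S1496

/-!
Brauer's permutation lemma, fixed classes under coprime conjugation, central multiplication.
-/

set_option autoImplicit false
open scoped ComplexConjugate

namespace Cfsg.Agent.Char
open Cfsg

universe u
variable {G : Type u} [Group G]

/-- Brauer's permutation lemma. -/
theorem card_fixed_irr_eq_card_fixed_classes [Fintype G] (α : MulAut G) :
    Nat.card {χ : IrrCharacter G // irrComp α χ = χ} =
      Nat.card {C : ConjClasses G // ConjClasses.map α.toMonoidHom C = C} := by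
  classical
  have h : (Nat.card {χ : IrrCharacter G // irrComp α χ = χ} : ℂ) =
      (Nat.card {C : ConjClasses G // ConjClasses.map α.toMonoidHom C = C} : ℂ) := by
    haveI := Fintype.ofFinite (ConjClasses G)
    have hL : (Nat.card {χ : IrrCharacter G // irrComp α χ = χ} : ℂ) =
        ∑ χ : IrrCharacter G, classInner (irrComp α χ : G → ℂ) (χ : G → ℂ) := by
      simp only [irrC_orth, Nat.card_eq_fintype_card, Fintype.card_subtype]
      rw [Finset.sum_boole]
    rw [hL]
    simp only [classInner, irrComp_apply]
    rw [← Finset.mul_sum, Finset.sum_comm]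
    simp only [second_orth]
    rw [← Finset.sum_fiberwise Finset.univ ConjClasses.mk, Finset.mul_sum]
    rw [Finset.sum_congr rfl (g := fun C : ConjClasses G =>
      if ConjClasses.map α.toMonoidHom C = C then (1 : ℂ) else 0)]
    · rw [Finset.sum_boole, Nat.card_eq_fintype_card, Fintype.card_subtype]
    · intro C _
      obtain ⟨n₀, rfl⟩ := ConjClasses.mk_surjective C
      have hmem : ∀ n ∈ Finset.univ.filter (fun n => ConjClasses.mk n = ConjClasses.mk n₀),
          (if IsConj (α n) n then (Nat.card G : ℂ) / Nat.card {x : G // IsConj n x} else 0) =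
          if ConjClasses.map α.toMonoidHom (ConjClasses.mk n₀) = ConjClasses.mk n₀ then
            (Nat.card G : ℂ) / Nat.card {x : G // IsConj n₀ x} else 0 := by
        intro n hn
        have hn' : IsConj n n₀ := ConjClasses.mk_eq_mk_iff_isConj.1 (Finset.mem_filter.1 hn).2
        have hc : Nat.card {x : G // IsConj n x} = Nat.card {x : G // IsConj n₀ x} :=
          Nat.card_congr (Equiv.subtypeEquivRight fun x => ⟨fun h => hn'.symm.trans h, fun h => hn'.trans h⟩)
        have hiff : IsConj (α n) n ↔
            ConjClasses.map α.toMonoidHom (ConjClasses.mk n₀) = ConjClasses.mk n₀ := by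
          rw [← ConjClasses.mk_eq_mk_iff_isConj, ← (Finset.mem_filter.1 hn).2]
          rfl
        simp only [hiff, hc]
      rw [Finset.sum_congr rfl hmem, Finset.sum_const, nsmul_eq_mul]
      have hcard : (Finset.univ.filter (fun n => ConjClasses.mk n = ConjClasses.mk n₀)).card =
          Nat.card {x : G // IsConj n₀ x} := by
        rw [Nat.card_eq_fintype_card, Fintype.card_subtype]
        congr 1
        ext x
        simp only [Finset.mem_filter, Finset.mem_univ, true_and, ConjClasses.mk_eq_mk_iff_isConj]
        exact ⟨IsConj.symm, IsConj.symm⟩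
      have h0 : (Nat.card {x : G // IsConj n₀ x} : ℂ) ≠ 0 := by
        exact_mod_cast card_conjClass_ne_zero n₀
      rw [hcard]
      split_ifs
      · field_simp
      · simp
  exact_mod_cast h

variable [Finite G]

/-- A class of a normal subgroup fixed by a coprime element contains a centralized element. -/
theorem exists_fixed_of_fixed_class (H : Subgroup G) [hN : H.Normal] (b : G)
    (hco : (orderOf b).Coprime (Nat.card H)) (n : H)
    (hfix : ConjClasses.map (MulAut.conjNormal b : MulAut H).toMonoidHom (ConjClasses.mk n) =
      ConjClasses.mk n) :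
    ∃ m : H, ConjClasses.mk m = ConjClasses.mk n ∧ b * m = (m : G) * b := by
  classical
  obtain ⟨h, hh⟩ := isConj_iff.1 (ConjClasses.mk_eq_mk_iff_isConj.1 hfix)
  have hh' : (h : G) * (b * n * b⁻¹) * (h : G)⁻¹ = n := by
    have := congrArg (fun t : H => (t : G)) hh
    simpa [MulAut.conjNormal_apply] using this
  have hb : b ∈ Subgroup.normalizer (H : Set G) := by
    rw [Subgroup.normalizer_eq_top]; trivial
  obtain ⟨y, hy, c, hc, hcb, he⟩ := Cfsg.Agent.S1496.result H b hb hco h h.2
  set m : H := ⟨y, hy⟩ * n * (⟨y, hy⟩ : H)⁻¹ with hm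
  refine ⟨m, ?_, ?_⟩
  · refine ConjClasses.mk_eq_mk_iff_isConj.2 (IsConj.symm ?_)
    exact isConj_iff.2 ⟨⟨y, hy⟩, rfl⟩
  · -- `c * b` commutes with `m`, and `b` is one of its powers
    have hcm : Commute (c * b) (m : G) := by
      have h1 : Commute ((h : G) * b) (n : G) := by
        calc (h : G) * b * n = (h : G) * (b * n * b⁻¹) * (h : G)⁻¹ * ((h : G) * b) := by group
          _ = _ := by rw [hh']
      rw [← he, hm]
      show Commute _ (y * (n : G) * y⁻¹)
      calc y * ((h : G) * b) * y⁻¹ * (y * n * y⁻¹) = y * ((h : G) * b * n) * y⁻¹ := by group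
        _ = y * (n * ((h : G) * b)) * y⁻¹ := by rw [h1.eq]
        _ = _ := by group
    obtain ⟨e, he1, he0⟩ := Nat.chineseRemainder hco 1 0
    have hpow : (c * b) ^ e = b := by
      rw [Commute.mul_pow hcb]
      have hc1 : c ^ e = 1 := by
        obtain ⟨k, rfl⟩ := Nat.modEq_zero_iff_dvd.1 he0
        rw [pow_mul]
        have : (⟨c, hc⟩ : H) ^ Nat.card H = 1 := pow_card_eq_one'
        have h2 : c ^ Nat.card H = 1 := by
          simpa only [SubgroupClass.coe_pow, OneMemClass.coe_one] using congrArg Subtype.val this
        rw [h2, one_pow]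
      rw [hc1, one_mul]
      conv_rhs => rw [← pow_one b]
      exact pow_eq_pow_iff_modEq.2 he1
    have := hcm.pow_left e
    rwa [hpow] at this

/-- Multiplication by a central element scales an irreducible character. -/
theorem char_central_mul {χ : G → ℂ} (hχ : IsIrrCharacter G χ) {z : G}
    (hz : z ∈ Subgroup.center G) (x : G) : χ (z * x) = χ z / χ 1 * χ x := by
  classical
  haveI := Fintype.ofFinite G
  have hf : IsClassFunction G (fun y : G => if y = z then (1 : ℂ) else 0) := fun a k => by
    have : k * a * k⁻¹ = z ↔ a = z := by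
      constructor
      · intro h
        have := congrArg (fun t => k⁻¹ * t * k) h
        simp only [mul_assoc, inv_mul_cancel, mul_one, inv_mul_cancel_left] at this
        rw [this, ← Subgroup.mem_center_iff.1 hz k, inv_mul_cancel_left]
      · rintro rfl
        rw [Subgroup.mem_center_iff.1 hz k, mul_inv_cancel_right]
    simp only [this]
  have e := sum_mul_shift hχ hf x
  simp only [ite_mul, one_mul, zero_mul, Finset.sum_ite_eq', Finset.mem_univ, if_true] at e
  rw [e]
  congr 1
  simp [lam]

end Cfsg.Agent.Char
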