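import Cfsg.Agent.Lib.Char.IndValue

/-!
# Restriction to normal subgroups and central characters
-/

set_option autoImplicit false

namespace Cfsg.Agent.Char

open Cfsg Module
open scoped ComplexConjugate

universe u

variable {G : Type u} [Group G] [Fintype G]

theorem sum_mul_shift {χ f : G → ℂ} (h : IsIrrCharacter G χ) (hf : IsClassFunction G f) (y : G) :
    ∑ x : G, f x * χ (x * y) = lam χ f * χ y := by
  obtain ⟨n, ρ, hρ, rfl⟩ := h
  have := hρ
  have e := congrArg (fun T : Module.End ℂ (Fin n → ℂ) => LinearMap.trace ℂ _ (T * ρ y))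
    (rep_sum_eq_lam ρ hf)
  simpa [Finset.sum_mul, smul_mul_assoc, ← map_mul, Representation.character,
    ← Module.End.one_eq_id] using e

theorem constituent_restrict_iff (N : Subgroup G) [N.Normal] [Fintype N] (χ : IrrCharacter G)
    (θ : IrrCharacter N) :
    classInner (fun n : N => (χ : G → ℂ) n) (θ : N → ℂ) ≠ 0 ↔
      ∀ n : N, centralChar (χ : G → ℂ) (n : G) = inducedCentralChar N (θ : N → ℂ) (n : G) := by
  classical
  have hχc := irr_isCharacter χ.2
  have hθc := irr_isCharacter θ.2
  constructor
  · intro hne g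
    set f : N → ℂ := fun h => if IsConj (g : G) (h : G) then 1 else 0 with hf
    have hfc : IsClassFunction N f := fun a k => by
      simp only [hf]
      refine if_congr ⟨fun h => h.trans (isConj_iff.mpr ⟨(k : G)⁻¹, ?_⟩), fun h =>
        h.trans (isConj_iff.mpr ⟨(k : G), ?_⟩)⟩ rfl rfl <;> simp [mul_assoc]
    have hlam : lam (θ : N → ℂ) f = inducedCentralChar N (θ : N → ℂ) (g : G) := by
      rw [inducedCentralChar, finsum_mem_eq_finite_toFinset_sum _ (Set.toFinite _), lam,
        Finset.sum_div]
      simp only [hf, ite_mul, one_mul, zero_mul, ite_div, zero_div, ← Finset.sum_filter]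
      refine Finset.sum_congr ?_ fun _ _ => rfl
      ext h; simp
    set ψ : N → ℂ := fun n => (χ : G → ℂ) n with hψ
    have hψc : IsCharacter N ψ := isCharacter_comp N.subtype hχc
    obtain ⟨m, hm⟩ := exists_decomposition hψc
    have hm' : ∀ y : N, ψ y = ∑ η : IrrCharacter N, (m η : ℂ) * (η : N → ℂ) y := fun y => by
      have := congrFun hm y
      simpa using this
    have h1 : ∀ y : N, ∑ h : N, f h * ψ (h * y) =
        centralChar (χ : G → ℂ) (g : G) * ψ y := by
      intro y
      rw [← omega_eq_centralChar, ← lam_classInd _ (isClassFunction_character hχc) (g : G)]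
      have hf' : IsClassFunction G (fun x => if IsConj (g : G) x then (1 : ℂ) else 0) := by
        intro a k
        refine if_congr ⟨fun h => h.trans (isConj_iff.mpr ⟨k⁻¹, ?_⟩), fun h =>
          h.trans (isConj_iff.mpr ⟨k, ?_⟩)⟩ rfl rfl <;> simp [mul_assoc]
      rw [hψ, ← sum_mul_shift χ.2 hf' (y : G)]
      simp only [ite_mul, one_mul, zero_mul, hf]
      rw [← Finset.sum_filter, ← Finset.sum_filter]
      refine Finset.sum_bij (fun h _ => (h : G)) (fun h hh => ?_) (fun a _ b _ => Subtype.ext)
        (fun x hx => ?_) (fun h _ => ?_)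
      · simpa using hh
      · simp only [Finset.mem_filter, Finset.mem_univ, true_and] at hx
        obtain ⟨c, hc⟩ := isConj_iff.mp hx
        exact ⟨⟨x, hc ▸ Subgroup.Normal.conj_mem ‹_› _ g.2 c⟩, by simpa using hx, rfl⟩
      · simp
    have h2 : ∑ η : IrrCharacter N, ((m η : ℂ) *
        (lam (η : N → ℂ) f - centralChar (χ : G → ℂ) (g : G))) • (η : N → ℂ) = 0 := by
      funext y
      have h3 : ∑ h : N, f h * ψ (h * y) =
          ∑ η : IrrCharacter N, (m η : ℂ) * (lam (η : N → ℂ) f * (η : N → ℂ) y) := by
        simp only [hm', Finset.mul_sum, ← sum_mul_shift (Subtype.prop _) hfc]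
        rw [Finset.sum_comm]
        exact Finset.sum_congr rfl fun η _ => Finset.sum_congr rfl fun h _ => by ring
      have := (h3.symm.trans (h1 y))
      rw [hm', Finset.mul_sum, ← sub_eq_zero, ← Finset.sum_sub_distrib] at this
      rw [Finset.sum_apply, Pi.zero_apply, ← this]
      exact Finset.sum_congr rfl fun η _ => by simp; ring
    have h4 := congrArg (fun F => classInner F (θ : N → ℂ)) h2
    simp only [classInner_sum_left, classInner_smul_left, irrC_orth, mul_ite, mul_one, mul_zero,
      Finset.sum_ite_eq', Finset.mem_univ, if_true] at h4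
    rw [show classInner (0 : N → ℂ) (θ : N → ℂ) = 0 by simp [classInner]] at h4
    rcases mul_eq_zero.mp h4 with h5 | h5
    · exact absurd ((decomposition_coeff m hm θ).trans h5) hne
    · rw [← hlam, sub_eq_zero.mp h5]
  · intro h
    have hI : IsCharacter G (indFun N (θ : N → ℂ)) := isCharacter_indFun N hθc
    set I := indFun N (θ : N → ℂ) with hIdef
    have hI1 : I 1 ≠ 0 := by
      rw [hIdef, indFun_one]
      exact mul_ne_zero (Nat.cast_ne_zero.mpr Subgroup.index_ne_zero_of_finite)
        (irr_one_ne_zero θ.2)
    have heq : (fun n : N => (χ : G → ℂ) n) =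
        ((χ : G → ℂ) 1 / I 1) • fun n : N => I n := by
      funext n
      have := h n
      rw [← centralChar_indFun, centralChar, centralChar, ← hIdef] at this
      have hidx : ((Subgroup.centralizer ({(n : G)} : Set G)).index : ℂ) ≠ 0 :=
        Nat.cast_ne_zero.mpr Subgroup.index_ne_zero_of_finite
      have h1 := irr_one_ne_zero χ.2
      simp only [Pi.smul_apply, smul_eq_mul]
      field_simp at this ⊢
      linear_combination this
    rw [heq, classInner_smul_left, ← frobenius_right N _ (isClassFunction_character hI)]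
    refine mul_ne_zero (div_ne_zero (irr_one_ne_zero χ.2) hI1) ?_
    intro h0
    exact hI1 (congrFun (classInner_self_eq_zero h0) 1)

end Cfsg.Agent.Char
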