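import Cfsg.Agent.Lib.Char.Linear
import Cfsg.Agent.Lib.Char.Restrict
import Cfsg.Agent.Lib.Char.PermLemma

/-!
Characters of quotients: inflation and deflation.
-/

set_option autoImplicit false
open scoped ComplexConjugate

namespace Cfsg.Agent.Char
open Cfsg

universe u
variable {G : Type u} [Group G] [Fintype G] (N : Subgroup G) [N.Normal] [Fintype (G ⧸ N)]

theorem sum_comp_mk (f : G ⧸ N → ℂ) :
    ∑ g : G, f (QuotientGroup.mk g) = (Nat.card N : ℂ) * ∑ q : G ⧸ N, f q := by
  classical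
  rw [Finset.mul_sum, ← Finset.sum_fiberwise Finset.univ (fun g : G => (QuotientGroup.mk g : G ⧸ N))]
  refine Finset.sum_congr rfl fun q _ => ?_
  rw [Finset.sum_congr rfl (g := fun _ => f q) (fun g hg => by rw [(Finset.mem_filter.1 hg).2]),
    Finset.sum_const, nsmul_eq_mul]
  congr 1
  obtain ⟨g₀, rfl⟩ := QuotientGroup.mk_surjective q
  rw [Nat.card_eq_fintype_card, Fintype.card_subtype]
  refine congrArg Nat.cast (Finset.card_equiv (Equiv.mulLeft g₀⁻¹) fun g => ?_)
  simp only [Finset.mem_filter, Finset.mem_univ, true_and, Equiv.coe_mulLeft]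
  rw [eq_comm, QuotientGroup.eq]

theorem classInner_inflate (a b : G ⧸ N → ℂ) :
    classInner (fun g : G => a (QuotientGroup.mk g)) (fun g : G => b (QuotientGroup.mk g)) =
      classInner a b := by
  have h := sum_comp_mk N (fun q => a q * conj (b q))
  simp only [classInner]
  rw [h, ← mul_assoc]
  congr 1
  rw [Subgroup.card_eq_card_quotient_mul_card_subgroup N, Nat.cast_mul, mul_inv, mul_assoc,
    inv_mul_cancel₀ (Nat.cast_ne_zero.2 Nat.card_pos.ne'), mul_one]

theorem isIrr_inflate {χ : G ⧸ N → ℂ} (h : IsIrrCharacter (G ⧸ N) χ) :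
    IsIrrCharacter G (fun g => χ (QuotientGroup.mk g)) :=
  isIrr_of_norm_one (isCharacter_comp (QuotientGroup.mk' N) (irr_isCharacter h))
    (by rw [classInner_inflate]; exact irr_self h)

theorem exists_deflate {χ : G → ℂ} (hχ : IsIrrCharacter G χ) (hker : ∀ n ∈ N, χ n = χ 1) :
    ∃ χ' : IrrCharacter (G ⧸ N), ∀ g : G, (χ' : G ⧸ N → ℂ) (QuotientGroup.mk g) = χ g := by
  obtain ⟨d, ρ, hirr, rfl⟩ := hχ
  have hρ : N ≤ MonoidHom.ker ρ := fun n hn => by
    rw [MonoidHom.mem_ker]
    exact (eq_id_iff ρ n).1 (by rw [hker n hn, Representation.char_one])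
  let ρ' : Representation ℂ (G ⧸ N) (Fin d → ℂ) := QuotientGroup.lift N ρ hρ
  have hval : ∀ g : G, ρ'.character (QuotientGroup.mk g) = ρ.character g := fun g => rfl
  refine ⟨⟨ρ'.character, isIrr_of_norm_one (isCharacter_character ρ') ?_⟩, hval⟩
  rw [← classInner_inflate N]
  simp only [hval]
  exact irr_self (isIrrCharacter_character ρ hirr)

/-- Irreducible characters of the quotient are those trivial on the subgroup. -/
noncomputable def inflateEquiv :
    IrrCharacter (G ⧸ N) ≃ {χ : IrrCharacter G // ∀ n ∈ N, (χ : G → ℂ) n = (χ : G → ℂ) 1} :=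
  Equiv.ofBijective
    (fun χ => ⟨⟨_, isIrr_inflate N χ.2⟩, fun n hn => by
      show (χ : G ⧸ N → ℂ) _ = (χ : G ⧸ N → ℂ) _
      rw [(QuotientGroup.eq_one_iff n).2 hn, QuotientGroup.mk_one]⟩)
    ⟨fun a b h => Subtype.ext (funext fun q => by
      obtain ⟨g, rfl⟩ := QuotientGroup.mk_surjective q
      exact congrFun (congrArg Subtype.val (congrArg Subtype.val h)) g),
    fun χ => by
      obtain ⟨χ', hχ'⟩ := exists_deflate N χ.1.2 χ.2
      exact ⟨χ', Subtype.ext (Subtype.ext (funext hχ'))⟩⟩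

theorem inflateEquiv_apply (χ : IrrCharacter (G ⧸ N)) (g : G) :
    ((inflateEquiv N χ).1 : G → ℂ) g = (χ : G ⧸ N → ℂ) (QuotientGroup.mk g) := rfl

end Cfsg.Agent.Char
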