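import Cfsg.Agent.Lib.Char.Central

/-!
# Linear characters and eigenvalue facts
-/

set_option autoImplicit false

open scoped commutatorElement

namespace Cfsg.Agent.Char

open Cfsg Module
open scoped ComplexConjugate

universe u

variable {G : Type u} [Group G] [Finite G]

/-- Homomorphisms to `ℂˣ` correspond to degree one irreducible characters. -/
noncomputable def linearEquiv :
    (G →* ℂˣ) ≃ {χ : IrrCharacter G // (χ : G → ℂ) 1 = 1} :=
  Equiv.ofBijective
    (fun l => ⟨⟨fun g => (l g : ℂ), isIrrCharacter_linear l⟩, by simp⟩)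
    ⟨fun l l' h => by
      ext g
      exact congrFun (congrArg (fun x => (x.1.1 : G → ℂ)) h) g,
    fun ⟨⟨χ, hχ⟩, h1⟩ => by
      obtain ⟨l, rfl⟩ := exists_hom_of_degree_one (irr_isCharacter hχ) h1
      exact ⟨l, rfl⟩⟩

theorem card_hom_units : Nat.card (G →* ℂˣ) = (commutator G).index := by
  let e : (G →* ℂˣ) ≃ (Abelianization G →* ℂˣ) := Abelianization.lift
  rw [Nat.card_congr e]
  haveI : NeZero (Monoid.exponent (Abelianization G)) :=
    ⟨Monoid.exponent_ne_zero_of_finite⟩
  rw [CommGroup.card_monoidHom_of_hasEnoughRootsOfUnity (Abelianization G) ℂ]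
  rfl

theorem card_linear :
    Nat.card {χ : IrrCharacter G // (χ : G → ℂ) 1 = 1} = (commutator G).index := by
  rw [← Nat.card_congr linearEquiv, card_hom_units]

theorem forall_linear_iff_comm :
    (∀ a b : G, a * b = b * a) ↔ ∀ χ : IrrCharacter G, (χ : G → ℂ) 1 = 1 := by
  classical
  have := Fintype.ofFinite G
  constructor
  · intro hc χ
    obtain ⟨χ, n, ρ, hρ, rfl⟩ := χ
    have := hρ
    have : IsMulCommutative G := ⟨⟨hc⟩⟩
    show ρ.character 1 = 1
    rw [Representation.char_one, Representation.IsIrreducible.finrank_eq_one_of_isMulCommutative ρ]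
    simp
  · intro h
    have h1 : Nat.card (IrrCharacter G) = (commutator G).index := by
      rw [← card_linear]
      exact Nat.card_congr (Equiv.subtypeUnivEquiv h).symm
    have h2 : (Nat.card G : ℂ) = Nat.card (IrrCharacter G) := by
      rw [← sum_sq_deg (G := G)]
      simp [h]
    have h3 : Nat.card G = (commutator G).index := by rw [← h1]; exact_mod_cast h2
    have h4 : commutator G = ⊥ := by
      rw [← Subgroup.card_eq_one]
      have := Subgroup.card_mul_index (commutator G)
      rw [← h3] at this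
      exact Nat.eq_of_mul_eq_mul_right (Nat.card_pos (α := G)) (by rw [one_mul]; exact this)
    intro a b
    have : ⁅a, b⁆ ∈ commutator G := by
      rw [commutator_def]
      exact Subgroup.commutator_mem_commutator (Subgroup.mem_top _) (Subgroup.mem_top _)
    rw [h4, Subgroup.mem_bot, commutatorElement_eq_one_iff_mul_comm] at this
    exact this

variable {V : Type*} [AddCommGroup V] [Module ℂ V] [FiniteDimensional ℂ V]

theorem eigen_data (ρ : Representation ℂ G V) (g : G) :
    ∃ (b : Basis (Fin (finrank ℂ V)) ℂ V) (μ : Fin (finrank ℂ V) → ℂ),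
      (∀ i, ‖μ i‖ = 1) ∧ (∀ i, ρ g (b i) = μ i • b i) ∧ ρ.character g = ∑ i, μ i := by
  have hN : orderOf g ≠ 0 := (orderOf_pos g).ne'
  have hT : ρ g ^ orderOf g = 1 := by rw [← map_pow, pow_orderOf_eq_one, map_one]
  obtain ⟨b, μ, hμ, hb⟩ := exists_eigenbasis_of_pow_eq_one (ρ g) _ hN hT
  exact ⟨b, μ, fun i => root_of_unity_norm hN (hμ i), hb, trace_of_eigenbasis b _ μ hb⟩

/-- If a sum of `n` complex numbers of norm one has norm `n`, they are all equal. -/
theorem eq_of_norm_sum_eq {ι : Type*} [Fintype ι] (μ : ι → ℂ) (h1 : ∀ i, ‖μ i‖ = 1)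
    (h : ‖∑ i, μ i‖ = Fintype.card ι) (i j : ι) : μ i = μ j := by
  classical
  set S := ∑ i, μ i with hS
  have hSne : S ≠ 0 := by
    intro h0
    rw [h0, norm_zero] at h
    have : 0 < Fintype.card ι := Fintype.card_pos_iff.mpr ⟨i⟩
    exact this.ne (by exact_mod_cast h)
  set w : ℂ := conj S / (‖S‖ : ℂ) with hw
  have hwn : ‖w‖ = 1 := by simp [hw, hSne]
  have hsum : ∑ i, (1 - (w * μ i).re) = 0 := by
    have e : w * S = (‖S‖ : ℂ) := by
      rw [hw, div_mul_eq_mul_div, Complex.conj_mul', pow_two, mul_div_assoc,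
        div_self (by simpa using hSne), mul_one]
    rw [Finset.sum_sub_distrib, ← Complex.re_sum, ← Finset.mul_sum, ← hS, e]
    simp [h]
  have hnn : ∀ k ∈ (Finset.univ : Finset ι), 0 ≤ 1 - (w * μ k).re := fun k _ => by
    have := Complex.re_le_norm (w * μ k)
    rw [norm_mul, hwn, h1, one_mul] at this
    linarith
  have hone : ∀ k, w * μ k = 1 := by
    intro k
    have h0 := (Finset.sum_eq_zero_iff_of_nonneg hnn).mp hsum k (Finset.mem_univ k)
    have hn : ‖w * μ k‖ = 1 := by rw [norm_mul, hwn, h1, one_mul]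
    have hre : (w * μ k).re = 1 := by linarith
    have hsq := Complex.sq_norm (w * μ k)
    rw [hn, Complex.normSq_apply, hre] at hsq
    exact Complex.ext hre (mul_self_eq_zero.mp (by simpa using (by linarith : (w * μ k).im * (w * μ k).im = 0)))
  have hw0 : w ≠ 0 := fun h0 => by simp [h0] at hwn
  exact mul_left_cancel₀ hw0 ((hone i).trans (hone j).symm)

theorem eq_scalar_iff (ρ : Representation ℂ G V) (g : G) :
    ‖ρ.character g‖ = (finrank ℂ V : ℝ) ↔ ∃ ω : ℂ, ρ g = ω • (LinearMap.id : V →ₗ[ℂ] V) := by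
  obtain ⟨b, μ, hn, hb, htr⟩ := eigen_data ρ g
  constructor
  · intro h
    rw [htr] at h
    have hall := eq_of_norm_sum_eq μ hn (by simpa using h)
    rcases isEmpty_or_nonempty (Fin (finrank ℂ V)) with he | ⟨⟨i0⟩⟩
    · exact ⟨0, b.ext fun i => isEmptyElim i⟩
    · exact ⟨μ i0, b.ext fun i => by simp [hb, hall i i0]⟩
  · rintro ⟨ω, hω⟩
    have hμ : ∀ i, μ i = ω := fun i =>
      smul_left_injective ℂ (b.ne_zero i) (by simpa [hω] using (hb i).symm)
    rw [htr]
    rcases isEmpty_or_nonempty (Fin (finrank ℂ V)) with he | ⟨⟨i0⟩⟩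
    · have : finrank ℂ V = 0 :=
        (Fintype.card_fin _).symm.trans (Fintype.card_eq_zero_iff.mpr he)
      simp [this]
    · have : ‖ω‖ = 1 := hμ i0 ▸ hn i0
      simp [hμ, this]

theorem eq_id_iff (ρ : Representation ℂ G V) (g : G) :
    ρ.character g = (finrank ℂ V : ℂ) ↔ ρ g = LinearMap.id := by
  obtain ⟨b, μ, hn, hb, htr⟩ := eigen_data ρ g
  constructor
  · intro h
    rw [htr] at h
    have hall := eq_of_norm_sum_eq μ hn (by rw [h]; simp)
    refine b.ext fun i => ?_
    have hs : ∑ k, μ k = (finrank ℂ V : ℂ) * μ i := by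
      rw [Finset.sum_congr rfl fun k _ => hall k i]
      simp
    rw [hs] at h
    have : μ i = 1 := by
      have : (finrank ℂ V : ℂ) ≠ 0 := Nat.cast_ne_zero.mpr (Fin.pos i).ne'
      exact mul_left_cancel₀ this (by rw [h, mul_one])
    simp [hb, this]
  · intro h
    simp [Representation.character, h]

end Cfsg.Agent.Char
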