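import Cfsg.Agent.Lib.Char.PermLemma

/-!
Real characters and real classes; groups of odd order.
-/

set_option autoImplicit false
open scoped ComplexConjugate

namespace Cfsg.Agent.Char
open Cfsg

universe u
variable {G : Type u} [Group G]

/-- The complex conjugate of an irreducible character. -/
noncomputable def irrConj [Fintype G] (χ : IrrCharacter G) : IrrCharacter G :=
  ⟨fun g => conj ((χ : G → ℂ) g), isIrr_of_norm_one (isCharacter_conj (irr_isCharacter χ.2)) (by
    have h := congrArg conj (irr_self χ.2)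
    simpa [classInner, map_sum, mul_comm] using h)⟩

@[simp] theorem irrConj_apply [Fintype G] (χ : IrrCharacter G) (g : G) :
    (irrConj χ : G → ℂ) g = conj ((χ : G → ℂ) g) := rfl

theorem irrConj_irrConj [Fintype G] (χ : IrrCharacter G) : irrConj (irrConj χ) = χ :=
  Subtype.ext (funext fun g => by simp)

theorem irrConj_eq_iff [Fintype G] (χ : IrrCharacter G) :
    irrConj χ = χ ↔ ∀ g : G, ((χ : G → ℂ) g).im = 0 := by
  rw [Subtype.ext_iff, funext_iff]
  simp [Complex.conj_eq_iff_im]

theorem card_real_irr_eq_card_real_classes [Fintype G] :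
    Nat.card {χ : IrrCharacter G // irrConj χ = χ} =
      Nat.card {C : ConjClasses G // ∀ g : G, ConjClasses.mk g = C → IsConj g g⁻¹} := by
  classical
  have h : (Nat.card {χ : IrrCharacter G // irrConj χ = χ} : ℂ) =
      (Nat.card {C : ConjClasses G // ∀ g : G, ConjClasses.mk g = C → IsConj g g⁻¹} : ℂ) := by
    haveI := Fintype.ofFinite (ConjClasses G)
    have hL : (Nat.card {χ : IrrCharacter G // irrConj χ = χ} : ℂ) =
        ∑ χ : IrrCharacter G, classInner (χ : G → ℂ) (irrConj χ : G → ℂ) := by
      simp only [irrC_orth, Nat.card_eq_fintype_card, Fintype.card_subtype, eq_comm]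
      rw [Finset.sum_boole]
    rw [hL]
    simp only [classInner, irrConj_apply, Complex.conj_conj]
    rw [← Finset.mul_sum, Finset.sum_comm]
    have hinner : ∀ n : G, ∑ χ : IrrCharacter G, (χ : G → ℂ) n * (χ : G → ℂ) n =
        if IsConj n n⁻¹ then ((Nat.card G : ℂ) / Nat.card {x : G // IsConj n⁻¹ x}) else 0 := by
      intro n
      rw [← second_orth n n⁻¹]
      refine Finset.sum_congr rfl fun χ _ => ?_
      rw [char_inv (irr_isCharacter χ.2), Complex.conj_conj]
    simp only [hinner]
    rw [← Finset.sum_fiberwise Finset.univ ConjClasses.mk, Finset.mul_sum]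
    rw [Finset.sum_congr rfl (g := fun C : ConjClasses G =>
      if (∀ g : G, ConjClasses.mk g = C → IsConj g g⁻¹) then (1 : ℂ) else 0)]
    · rw [Finset.sum_boole, Nat.card_eq_fintype_card, Fintype.card_subtype]
    · intro C _
      obtain ⟨n₀, rfl⟩ := ConjClasses.mk_surjective C
      have hinv : ∀ a b : G, IsConj a b → IsConj a⁻¹ b⁻¹ := by
        intro a b hab
        obtain ⟨c, rfl⟩ := isConj_iff.1 hab
        exact isConj_iff.2 ⟨c, by group⟩
      have hiff : (∀ g : G, ConjClasses.mk g = ConjClasses.mk n₀ → IsConj g g⁻¹) ↔ IsConj n₀ n₀⁻¹ :=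
        ⟨fun h => h n₀ rfl, fun h g hg => by
          have := ConjClasses.mk_eq_mk_iff_isConj.1 hg
          exact this.trans (h.trans (hinv _ _ this.symm))⟩
      have hmem : ∀ n ∈ Finset.univ.filter (fun n => ConjClasses.mk n = ConjClasses.mk n₀),
          (if IsConj n n⁻¹ then (Nat.card G : ℂ) / Nat.card {x : G // IsConj n⁻¹ x} else 0) =
          if IsConj n₀ n₀⁻¹ then
            (Nat.card G : ℂ) / Nat.card {x : G // IsConj n₀ x} else 0 := by
        intro n hn
        have hn' : IsConj n n₀ := ConjClasses.mk_eq_mk_iff_isConj.1 (Finset.mem_filter.1 hn).2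
        by_cases hc : IsConj n₀ n₀⁻¹
        · have hnn : IsConj n n⁻¹ := hn'.trans (hc.trans (hinv _ _ hn'.symm))
          rw [if_pos hc, if_pos hnn,
            Nat.card_congr (Equiv.subtypeEquivRight fun x =>
              (⟨fun h => (hn'.symm.trans hnn).trans h, fun h => (hnn.symm.trans hn').trans h⟩ :
                IsConj n⁻¹ x ↔ IsConj n₀ x))]
        · rw [if_neg hc, if_neg]
          exact fun h => hc (hn'.symm.trans (h.trans (hinv _ _ hn')))
      rw [Finset.sum_congr rfl hmem, Finset.sum_const, nsmul_eq_mul]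
      have hcard : (Finset.univ.filter (fun n => ConjClasses.mk n = ConjClasses.mk n₀)).card =
          Nat.card {x : G // IsConj n₀ x} := by
        rw [Nat.card_eq_fintype_card, Fintype.card_subtype]
        congr 1
        ext x
        simp only [Finset.mem_filter, Finset.mem_univ, true_and, ConjClasses.mk_eq_mk_iff_isConj]
        exact ⟨IsConj.symm, IsConj.symm⟩
      have h0 : (Nat.card {x : G // IsConj n₀ x} : ℂ) ≠ 0 := by
        exact_mod_cast card_conjClass_ne_zero n₀
      rw [hcard]
      simp only [hiff]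
      split_ifs
      · field_simp
      · simp
  exact_mod_cast h

variable [Finite G]

theorem eq_one_of_isConj_inv_odd (hodd : Odd (Nat.card G)) {g : G} (h : IsConj g g⁻¹) : g = 1 := by
  obtain ⟨x, hx⟩ := isConj_iff.1 h
  have hord : ∀ y : G, Odd (orderOf y) := fun y => hodd.of_dvd_nat (orderOf_dvd_natCard y)
  obtain ⟨m, hm⟩ := hord x
  have hit : ∀ n : ℕ, x ^ (2 * n + 1) * g * (x ^ (2 * n + 1))⁻¹ = g⁻¹ := by
    intro n
    induction n with
    | zero => simpa using hx
    | succ n ih =>
      have h' : x * g⁻¹ * x⁻¹ = g := by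
        have := congrArg Inv.inv hx
        simpa [mul_assoc] using this
      calc x ^ (2 * (n + 1) + 1) * g * (x ^ (2 * (n + 1) + 1))⁻¹
          = x * (x * (x ^ (2 * n + 1) * g * (x ^ (2 * n + 1))⁻¹) * x⁻¹) * x⁻¹ := by
            rw [show 2 * (n + 1) + 1 = (2 * n + 1) + 1 + 1 by ring, pow_succ', pow_succ' x (2 * n + 1)]
            group
        _ = g⁻¹ := by rw [ih, h', hx]
  have h2 := hit m
  rw [← hm, pow_orderOf_eq_one, one_mul, inv_one, mul_one] at h2
  have hg2 : g ^ 2 = 1 := by rw [sq]; exact eq_inv_iff_mul_eq_one.1 h2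
  have hd : orderOf g ∣ 2 := orderOf_dvd_of_pow_eq_one hg2
  obtain ⟨k, hk⟩ := hord g
  rcases (Nat.dvd_prime Nat.prime_two).1 hd with h | h
  · exact orderOf_eq_one_iff.1 h
  · omega

/-- In a group of odd order only the trivial irreducible character is real. -/
theorem irrConj_eq_self_iff_one [Fintype G] (hodd : Odd (Nat.card G)) (χ : IrrCharacter G)
    (h : irrConj χ = χ) : (χ : G → ℂ) = fun _ => 1 := by
  classical
  have hsub : Subsingleton {C : ConjClasses G // ∀ g : G, ConjClasses.mk g = C → IsConj g g⁻¹} := by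
    suffices hh : ∀ C : {C : ConjClasses G // ∀ g : G, ConjClasses.mk g = C → IsConj g g⁻¹},
        C.1 = ConjClasses.mk 1 from ⟨fun a b => Subtype.ext ((hh a).trans (hh b).symm)⟩
    rintro ⟨C, hC⟩
    obtain ⟨n, rfl⟩ := ConjClasses.mk_surjective C
    show ConjClasses.mk n = _
    rw [eq_one_of_isConj_inv_odd hodd (hC n rfl)]
  have h1 : Nat.card {C : ConjClasses G // ∀ g : G, ConjClasses.mk g = C → IsConj g g⁻¹} ≤ 1 :=
    Finite.card_le_one_iff_subsingleton.2 hsub
  rw [← card_real_irr_eq_card_real_classes, Finite.card_le_one_iff_subsingleton] at h1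
  let one : IrrCharacter G := ⟨_, isIrrCharacter_one⟩
  have := h1.elim ⟨χ, h⟩ ⟨one, Subtype.ext (funext fun g => by simp [one])⟩
  exact congrArg (fun t => ((t : IrrCharacter G) : G → ℂ)) (congrArg Subtype.val this)

end Cfsg.Agent.Char
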