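import Cfsg.Agent.Lib.Char.FrobCoherence
import Cfsg.Agent.Lib.Char.RealClass

/-!
Coherence of the characters that are nontrivial on a central subgroup.
-/

set_option linter.unusedSectionVars false
set_option linter.style.haveILetI false

open scoped ComplexConjugate commutatorElement
open Cfsg

namespace Cfsg.Agent.Char

universe u v

theorem even_sum_of_involution {X : Type*} [DecidableEq X] (s : Finset X) (g : X → X)
    (hg : ∀ x ∈ s, g x ∈ s) (hne : ∀ x ∈ s, g x ≠ x) (hgg : ∀ x ∈ s, g (g x) = x) (f : X → ℕ)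
    (hf : ∀ x ∈ s, f (g x) = f x) : 2 ∣ ∑ x ∈ s, f x := by
  induction s using Finset.strongInduction with
  | _ s ih =>
    rcases s.eq_empty_or_nonempty with rfl | ⟨x, hx⟩
    · simp
    set t := (s.erase x).erase (g x) with ht
    have hmemt : ∀ y, y ∈ t ↔ y ∈ s ∧ y ≠ x ∧ y ≠ g x := fun y => by
      simp only [ht, Finset.mem_erase]; tauto
    have hts : t ⊂ s := ⟨fun y hy => ((hmemt y).1 hy).1, fun h => ((hmemt x).1 (h hx)).2.1 rfl⟩
    have hgt : ∀ y ∈ t, g y ∈ t := fun y hy => by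
      obtain ⟨h1, h2, h3⟩ := (hmemt y).1 hy
      exact (hmemt _).2 ⟨hg y h1, fun h => h3 (by rw [← h, hgg y h1]),
        fun h => h2 (by rw [← hgg y h1, h, hgg x hx])⟩
    have h1 := Finset.add_sum_erase s f hx
    have hgx : g x ∈ s.erase x := Finset.mem_erase.2 ⟨hne x hx, hg x hx⟩
    have h2 := Finset.add_sum_erase (s.erase x) f hgx
    obtain ⟨c, hc⟩ := ih t hts hgt (fun y hy => hne y ((hmemt y).1 hy).1)
      (fun y hy => hgg y ((hmemt y).1 hy).1) (fun y hy => hf y ((hmemt y).1 hy).1)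
    refine ⟨f x + c, ?_⟩
    rw [hf x hx] at h2
    rw [← h1, ← h2, ← ht, hc]
    ring

variable {N : Type u} [Group N] [Fintype N] (H : Subgroup N) [H.Normal] [Fintype H]

theorem coprime_index_of_frob (hC : ∀ h ∈ H, h ≠ 1 → Subgroup.centralizer ({h} : Set N) ≤ H) :
    ∃ k : ℕ, Nat.card H = H.index * k + 1 ∧ Nat.Coprime H.index (Nat.card H) := by
  obtain ⟨k, hk, -⟩ := chFin_sum_sq H hC ⊥ bot_le
  rw [Subgroup.relIndex_bot_left] at hk
  refine ⟨k, hk, ?_⟩
  rw [hk, Nat.coprime_mul_left_add_right]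
  exact Nat.coprime_one_right _

theorem comm_of_even_index (hC : ∀ h ∈ H, h ≠ 1 → Subgroup.centralizer ({h} : Set N) ≤ H)
    (he : Even H.index) : ∀ a ∈ H, ∀ b ∈ H, a * b = b * a := by
  obtain ⟨k, hk, -⟩ := coprime_index_of_frob H hC
  have h2 : 2 ∣ Nat.card (N ⧸ H) := by
    rw [← Subgroup.index_eq_card]; exact he.two_dvd
  haveI := Fact.mk Nat.prime_two
  obtain ⟨y, hy⟩ := exists_prime_orderOf_dvd_card' (G := N ⧸ H) 2 h2
  obtain ⟨x, rfl⟩ := QuotientGroup.mk_surjective y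
  have hxH : x ∉ H := fun h => by
    rw [(QuotientGroup.eq_one_iff x).2 h, orderOf_one] at hy
    exact absurd hy (by norm_num)
  have hx2 : x * x ∈ H := by
    rw [← QuotientGroup.eq_one_iff, QuotientGroup.mk_mul, ← pow_two, ← hy, pow_orderOf_eq_one]
  have hxx : x * x = 1 := by
    by_contra h
    exact hxH (hC _ hx2 h (Subgroup.mem_centralizer_singleton_iff.2 (mul_assoc x x x).symm))
  let φ : H →* H := (MulAut.conjNormal x : MulAut H).toMonoidHom
  have hfree : MonoidHom.FixedPointFree φ := by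
    intro h hh
    by_contra h1
    refine hxH (hC _ h.2 (fun e => h1 (Subtype.ext e)) (Subgroup.mem_centralizer_singleton_iff.2 ?_))
    have := congrArg Subtype.val hh
    change x * (h : N) * x⁻¹ = h at this
    exact mul_inv_eq_iff_eq_mul.1 this
  have hinv : Function.Involutive φ := fun h => Subtype.ext (by
    show x * (x * (h : N) * x⁻¹) * x⁻¹ = h
    calc x * (x * (h : N) * x⁻¹) * x⁻¹ = (x * x) * h * (x * x)⁻¹ := by group
      _ = h := by rw [hxx]; simp)
  intro a ha b hb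
  exact congrArg Subtype.val (hfree.commute_all_of_involutive hinv ⟨a, ha⟩ ⟨b, hb⟩).eq

theorem conjFun_mem_chSet {D : Subgroup N} {χ : N → ℂ} (hχ : χ ∈ chSet H D) :
    conjFun χ ∈ chSet H D := by
  obtain ⟨h1, ⟨k, hk, hne⟩, h3⟩ := hχ
  refine ⟨(irrConj ⟨χ, h1⟩).2, ⟨k, hk, fun e => hne ((starRingEnd ℂ).injective e)⟩, fun d hd => ?_⟩
  show conj (χ d) = conj (χ 1)
  rw [h3 d hd]

theorem conjFun_ne_self (hodd : Odd (Nat.card N)) {D : Subgroup N} {χ : N → ℂ}
    (hχ : χ ∈ chSet H D) : conjFun χ ≠ χ := by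
  intro e
  obtain ⟨h1, ⟨k, hk, hne⟩, -⟩ := hχ
  have h2 := irrConj_eq_self_iff_one hodd ⟨χ, h1⟩ (Subtype.ext e)
  change χ = _ at h2
  exact hne (by rw [h2])

theorem deg_conjFun {χ : N → ℂ} : deg (conjFun χ) = deg χ := by
  simp [deg, conjFun]

/-- The characters of `chSet H ⊥` that are not constant on `Z`. -/
noncomputable def szFin (Z : Subgroup N) : Finset (N → ℂ) := by
  classical exact chFin H ⊥ \ chFin H Z

theorem mem_szFin {Z : Subgroup N} {χ : N → ℂ} :
    χ ∈ szFin H Z ↔ χ ∈ chSet H ⊥ ∧ χ ∉ chSet H Z := by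
  classical simp [szFin, mem_chFin]

theorem szFin_conj {Z : Subgroup N} {χ : N → ℂ} (h : χ ∈ szFin H Z) : conjFun χ ∈ szFin H Z := by
  rw [mem_szFin] at h ⊢
  exact ⟨conjFun_mem_chSet H h.1, fun h' => h.2 (by simpa [conjFun_conjFun] using conjFun_mem_chSet H h')⟩

theorem szFin_sum (hC : ∀ h ∈ H, h ≠ 1 → Subgroup.centralizer ({h} : Set N) ≤ H) {Z : Subgroup N}
    [Z.Normal] (hZH : Z ≤ H) :
    ∃ S : ℕ, ∑ χ ∈ szFin H Z, deg χ ^ 2 = H.index ^ 2 * S ∧
      H.index * S = Z.relIndex H * (Nat.card Z - 1) := by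
  classical
  obtain ⟨k₀, hk₀, hs₀⟩ := chFin_sum_sq H hC ⊥ bot_le
  obtain ⟨kZ, hkZ, hsZ⟩ := chFin_sum_sq H hC Z hZH
  rw [Subgroup.relIndex_bot_left] at hk₀
  have hsub : chFin H Z ⊆ chFin H ⊥ := fun χ hχ => by
    obtain ⟨a, b, -⟩ := mem_chFin.1 hχ
    exact mem_chFin.2 ⟨a, b, fun d hd => by rw [Subgroup.mem_bot.1 hd]⟩
  have h := Finset.sum_sdiff (f := fun χ => deg χ ^ 2) hsub
  rw [hs₀, hsZ] at h
  have hle : kZ ≤ k₀ := Nat.le_of_mul_le_mul_left (le_of_le_of_eq (Nat.le_add_left _ _) h)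
    (pow_pos (Nat.pos_of_ne_zero Subgroup.index_ne_zero_of_finite) 2)
  refine ⟨k₀ - kZ, ?_, ?_⟩
  · have e : szFin H Z = chFin H ⊥ \ chFin H Z := by simp [szFin]
    rw [e, Nat.mul_sub]
    omega
  · have h2 := Subgroup.relIndex_mul_relIndex ⊥ Z H bot_le hZH
    rw [Subgroup.relIndex_bot_left, Subgroup.relIndex_bot_left, hk₀, hkZ] at h2
    rw [hkZ, Nat.mul_sub_one, Nat.mul_sub, mul_comm (H.index * kZ + 1) (Nat.card Z), h2]
    omega

variable {G : Type v} [Group G] [Fintype G]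

/-- Degrees in `szFin` are powers of `p` whose squares divide `|H : Z|`. -/
theorem szFin_degree {p : ℕ} [Fact p.Prime] {n : ℕ} (hn : Nat.card H = p ^ n)
    (hC : ∀ h ∈ H, h ≠ 1 → Subgroup.centralizer ({h} : Set N) ≤ H) {Z : Subgroup N}
    (hZH : Z ≤ H) (hZc : ∀ z ∈ Z, ∀ h ∈ H, z * h = h * z) {χ : N → ℂ} (hχ : χ ∈ szFin H Z) :
    ∃ b : ℕ, deg χ = H.index * p ^ b ∧ p ^ (2 * b) ∣ Z.relIndex H := by
  classical
  have hχ' := ((mem_szFin H).1 hχ).1
  obtain ⟨θ, -, hdeg, -⟩ := chSet_induced H hC hχ'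
  obtain ⟨t, ht0, hdeg', ht⟩ := chSet_deg_sq_le H hC (M := ⊥) (E := Z) (fun z hz h hh => by
    rw [Subgroup.mem_bot, hZc z hz h hh]
    simp) hχ'
  obtain ⟨b, -, hb⟩ := (Nat.dvd_prime_pow Fact.out).1 (hn ▸ deg_dvd_card θ.2)
  have htb : t = p ^ b := by
    rw [hdeg, hb] at hdeg'
    exact (Nat.eq_of_mul_eq_mul_left (Nat.pos_of_ne_zero Subgroup.index_ne_zero_of_finite) hdeg').symm
  refine ⟨b, by rw [hdeg, hb], ?_⟩
  obtain ⟨a, -, ha⟩ := (Nat.dvd_prime_pow Fact.out).1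
    (hn ▸ (Z.subgroupOf H).index_dvd_card : Z.relIndex H ∣ p ^ n)
  rw [htb, ha, ← pow_mul] at ht
  rw [ha]
  exact pow_dvd_pow p (by
    have := (Nat.pow_le_pow_iff_right (Fact.out : p.Prime).one_lt).1 ht
    omega)

theorem coherent_central {p : ℕ} [Fact p.Prime] {n : ℕ} (hn : Nat.card H = p ^ n)
    (hC : ∀ h ∈ H, h ≠ 1 → Subgroup.centralizer ({h} : Set N) ≤ H) (hodd : Odd (Nat.card N))
    {Z : Subgroup N} [Z.Normal] (hZ1 : Z ≠ ⊥) (hZH : Z ≤ H) (hZc : ∀ z ∈ Z, ∀ h ∈ H, z * h = h * z)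
    (τ : (N → ℂ) → (G → ℂ)) (hτ : IsLinearIsometryOn (zspanOn (chSet H ⊥) {1}ᶜ) τ)
    (hτ1 : ∀ α ∈ zspanOn (chSet H ⊥) {1}ᶜ, τ α 1 = 0) :
    IsCoherent (↑(szFin H Z) : Set (N → ℂ)) {1}ᶜ τ := by
  classical
  set e := H.index with he
  have he0 : 0 < e := Nat.pos_of_ne_zero Subgroup.index_ne_zero_of_finite
  have hpos : 0 < p := (Fact.out : p.Prime).pos
  have hsub : ∀ F : Finset (N → ℂ), F ⊆ szFin H Z → (↑F : Set (N → ℂ)) ⊆ chSet H ⊥ :=
    fun F hF χ hχ => ((mem_szFin H).1 (hF hχ)).1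
  have hirr : ∀ χ ∈ szFin H Z, IsIrrCharacter N χ := fun χ hχ => ((mem_szFin H).1 hχ).1.1
  choose! b hb hbd using fun χ (hχ : χ ∈ szFin H Z) => szFin_degree H hn hC hZH hZc hχ
  obtain ⟨S, hS, heS⟩ := szFin_sum H hC hZH
  obtain ⟨-, -, hco⟩ := coprime_index_of_frob H hC
  rw [← he, hn] at hco
  set F : ℕ → Finset (N → ℂ) := fun B => (szFin H Z).filter fun χ => b χ ≤ B with hF
  have hFsub : ∀ B, F B ⊆ szFin H Z := fun B => Finset.filter_subset _ _
  have hbconj : ∀ χ ∈ szFin H Z, b (conjFun χ) = b χ := by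
    intro χ hχ
    have h := (hb _ (szFin_conj H hχ)).symm.trans (deg_conjFun.trans (hb χ hχ))
    exact Nat.pow_right_injective (Fact.out : p.Prime).two_le (Nat.eq_of_mul_eq_mul_left he0 h)
  have hFconj : ∀ B, ∀ χ ∈ F B, conjFun χ ∈ F B := fun B χ hχ => by
    obtain ⟨h1, h2⟩ := Finset.mem_filter.1 hχ
    exact Finset.mem_filter.2 ⟨szFin_conj H h1, by rw [hbconj χ h1]; exact h2⟩
  have hcoh : ∀ B, (F B).Nonempty → IsCoherent (↑(F B) : Set (N → ℂ)) {1}ᶜ τ := by
    intro B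
    -- the lower degrees
    have base : ∀ B, (F B).Nonempty → (∀ χ ∈ F B, b χ = B) →
        IsCoherent (↑(F B) : Set (N → ℂ)) {1}ᶜ τ := by
      intro B hne hall
      obtain ⟨χ, hχ⟩ := hne
      refine coherent_const_exceptional _ (fun ξ hξ => hirr ξ (hFsub B hξ)) ?_ (fun a ha c hc => ?_) τ
        (isometry_mono (hsub _ (hFsub B)) hτ) (fun α hα => hτ1 α (zspanOn_mono (hsub _ (hFsub B)) hα))
      · exact Finset.one_lt_card.2 ⟨χ, hχ, conjFun χ, hFconj B χ hχ,
          (conjFun_ne_self H hodd ((mem_szFin H).1 (hFsub B hχ)).1).symm⟩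
      · rw [char_one_eq_deg (irr_isCharacter (hirr a (hFsub B ha))),
          char_one_eq_deg (irr_isCharacter (hirr c (hFsub B hc))), hb a (hFsub B ha), hb c (hFsub B hc),
          hall a ha, hall c hc]
    induction B with
    | zero => exact fun hne => base 0 hne fun χ hχ => Nat.le_zero.1 (Finset.mem_filter.1 hχ).2
    | succ B ih =>
      intro hne
      rcases (F B).eq_empty_or_nonempty with hB | hB
      · refine base _ hne fun χ hχ => le_antisymm (Finset.mem_filter.1 hχ).2 ?_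
        by_contra hlt
        exact Finset.notMem_empty χ (hB ▸ Finset.mem_filter.2 ⟨hFsub _ hχ, by omega⟩)
      obtain ⟨ψ, hψ, hmin⟩ := Finset.exists_min_image (F B) b hB
      have hFF : F B ⊆ F (B + 1) := fun χ hχ => by
        obtain ⟨h1, h2⟩ := Finset.mem_filter.1 hχ
        exact Finset.mem_filter.2 ⟨h1, by omega⟩
      refine coherent_add_many (F B) (F (B + 1))
        (fun χ hχ => hirr χ ((Finset.mem_union.1 hχ).elim (fun h => hFsub B h) (fun h => hFsub _ h)))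
        hFF τ (isometry_mono (hsub _ (hFsub _)) hτ)
        (fun α hα => hτ1 α (zspanOn_mono (hsub _ (hFsub _)) hα)) (ih hB) hψ fun χ hχ hχB => ?_
      obtain ⟨hχs, hχb⟩ := Finset.mem_filter.1 hχ
      have hbB : b χ = B + 1 := by
        by_contra h
        exact hχB (Finset.mem_filter.2 ⟨hχs, by omega⟩)
      obtain ⟨hψs, hψb⟩ := Finset.mem_filter.1 hψ
      rw [hb ψ hψs, hb χ hχs, hbB]
      refine ⟨Nat.mul_dvd_mul_left e (pow_dvd_pow p (by omega)), ?_⟩
      -- the sum over the lower degrees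
      set L := ∑ ξ ∈ F B, p ^ (2 * b ξ) with hL
      have hLsum : ∑ ξ ∈ F B, deg ξ ^ 2 = e ^ 2 * L := by
        rw [hL, Finset.mul_sum]
        refine Finset.sum_congr rfl fun ξ hξ => ?_
        rw [hb ξ (hFsub B hξ), mul_pow, ← pow_mul, mul_comm (b ξ) 2]
      have hq : p ^ (2 * (B + 1)) ∣ L := by
        have hall : ∑ ξ ∈ szFin H Z, p ^ (2 * b ξ) = S := by
          refine Nat.eq_of_mul_eq_mul_left (pow_pos he0 2) ?_
          rw [← hS, Finset.mul_sum]
          refine Finset.sum_congr rfl fun ξ hξ => ?_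
          rw [hb ξ hξ, mul_pow, ← pow_mul, mul_comm (b ξ) 2]
        have hdS : p ^ (2 * (B + 1)) ∣ S := by
          have h1 : p ^ (2 * (B + 1)) ∣ e * S := by
            rw [heS, ← hbB]; exact (hbd χ hχs).mul_right _
          refine Nat.Coprime.dvd_of_dvd_mul_left ?_ h1
          rcases Nat.eq_zero_or_pos n with hn0 | hn0
          · exfalso
            rw [hn0, pow_zero] at hn
            obtain ⟨z, hz, hz1⟩ := Z.bot_or_exists_ne_one.resolve_left hZ1
            haveI := (Nat.card_eq_one_iff_unique.1 hn).1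
            exact hz1 (congrArg Subtype.val (Subsingleton.elim (⟨z, hZH hz⟩ : H) 1))
          · exact Nat.Coprime.pow_left _ (((Nat.coprime_pow_right_iff hn0 e p).1 hco).symm)
        rw [← hall, ← Finset.sum_sdiff (hFsub B), ← hL] at hdS
        refine (Nat.dvd_add_right (Finset.dvd_sum fun ξ hξ => ?_)).1 hdS
        obtain ⟨h1, h2⟩ := Finset.mem_sdiff.1 hξ
        refine pow_dvd_pow p ?_
        by_contra h
        exact h2 (Finset.mem_filter.2 ⟨h1, by omega⟩)
      have hL2 : 2 ∣ L := even_sum_of_involution (F B) conjFun (hFconj B)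
        (fun ξ hξ => conjFun_ne_self H hodd ((mem_szFin H).1 (hFsub B hξ)).1)
        (fun ξ _ => conjFun_conjFun ξ) _ (fun ξ hξ => by rw [hbconj ξ (hFsub B hξ)])
      have hLpos : 0 < L := Finset.sum_pos (fun ξ _ => pow_pos hpos _) hB
      have hp2 : Nat.Coprime 2 p := by
        refine (Nat.coprime_primes Nat.prime_two Fact.out).2 ?_
        rintro rfl
        rcases Nat.eq_zero_or_pos n with hn0 | hn0
        · rw [hn0, pow_zero] at hn
          obtain ⟨z, hz, hz1⟩ := Z.bot_or_exists_ne_one.resolve_left hZ1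
          haveI := (Nat.card_eq_one_iff_unique.1 hn).1
          exact hz1 (congrArg Subtype.val (Subsingleton.elim (⟨z, hZH hz⟩ : H) 1))
        · have hd : 2 ∣ Nat.card N :=
            ((dvd_pow_self 2 hn0.ne').trans (hn ▸ dvd_rfl)).trans H.card_subgroup_dvd_card
          exact absurd hd hodd.not_two_dvd_nat
      have h2q : 2 * p ^ (2 * (B + 1)) ≤ L :=
        Nat.le_of_dvd hLpos ((hp2.pow_right _).mul_dvd_of_dvd_of_dvd hL2 hq)
      have hlt : p ^ b ψ < p ^ (B + 1) :=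
        Nat.pow_lt_pow_right (Fact.out : p.Prime).one_lt (by omega)
      have hkey : 2 * (p ^ b ψ * p ^ (B + 1)) < L := by
        refine lt_of_lt_of_le ?_ h2q
        rw [two_mul (B + 1), pow_add _ (B + 1) (B + 1)]
        have := Nat.mul_lt_mul_of_pos_right hlt (pow_pos hpos (B + 1))
        nlinarith [this]
      rw [hLsum]
      calc 2 * (e * p ^ b ψ) * (e * p ^ (B + 1)) = e ^ 2 * (2 * (p ^ b ψ * p ^ (B + 1))) := by ring
        _ < e ^ 2 * L := Nat.mul_lt_mul_of_pos_left hkey (pow_pos he0 2)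
  have hne : (szFin H Z).Nonempty := by
    by_contra hemp
    rw [Finset.not_nonempty_iff_eq_empty] at hemp
    rw [hemp, Finset.sum_empty] at hS
    have hS0 : S = 0 := by
      rcases mul_eq_zero.1 hS.symm with h | h
      · exact absurd h (pow_pos he0 2).ne'
      · exact h
    rw [hS0, mul_zero] at heS
    rcases mul_eq_zero.1 heS.symm with h | h
    · exact Subgroup.index_ne_zero_of_finite h
    · have : 0 < Nat.card Z := Nat.card_pos
      exact hZ1 (Subgroup.card_eq_one.1 (by omega))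
  have hall : F ((szFin H Z).sup b) = szFin H Z :=
    Finset.filter_eq_self.2 fun χ hχ => Finset.le_sup hχ
  exact hall ▸ hcoh _ (by rw [hall]; exact hne)

end Cfsg.Agent.Char
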