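import Cfsg.Agent.Lib.Char.Clifford

/-!
Induction from normal subgroups.
-/

set_option autoImplicit false
open scoped ComplexConjugate

namespace Cfsg.Agent.Char
open Cfsg

universe u
variable {G : Type u} [Group G] [Fintype G] (N : Subgroup G) [N.Normal]

theorem indFun_normal_not_mem (θ : N → ℂ) {g : G} (hg : g ∉ N) : indFun N θ g = 0 := by
  rw [indFun]
  rw [Finset.sum_eq_zero fun x _ => ?_, mul_zero]
  refine extendByZero_not_mem N θ fun h => hg ?_
  simpa [mul_assoc] using (Subgroup.Normal.conj_mem ‹N.Normal› _ h x)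

theorem indFun_conj (θ : N → ℂ) (g : G) :
    indFun N (fun n => θ (MulAut.conjNormal g n)) = indFun N θ := by
  funext x
  by_cases hx : x ∈ N
  · have h1 := indFun_restrict_normal (N := N) (fun n => θ (MulAut.conjNormal g n)) ⟨x, hx⟩
    have h2 := indFun_restrict_normal (N := N) θ ⟨x, hx⟩
    simp only at h1 h2
    rw [h1, h2]
    congr 1
    refine Fintype.sum_equiv (Equiv.mulLeft g) _ _ fun a => ?_
    simp [map_mul]
  · rw [indFun_normal_not_mem N _ hx, indFun_normal_not_mem N _ hx]

open scoped Classical in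
theorem classInner_indFun_normal [Fintype N] (θ φ : IrrCharacter N) :
    classInner (indFun N (θ : N → ℂ)) (indFun N (φ : N → ℂ)) =
      (Nat.card N : ℂ)⁻¹ * Nat.card {g : G // irrComp (MulAut.conjNormal g) θ = φ} := by
  rw [frobenius_right N _ (isClassFunction_indFun N _)]
  simp only [indFun_restrict_normal]
  rw [show (fun n : N => (Nat.card N : ℂ)⁻¹ * ∑ g : G, (θ : N → ℂ) (MulAut.conjNormal g n)) =
      (Nat.card N : ℂ)⁻¹ • ∑ g : G, (irrComp (MulAut.conjNormal g) θ : N → ℂ) from
    funext fun n => by simp, classInner_smul_left, classInner_sum_left]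
  simp only [irrC_orth]
  rw [Finset.sum_boole]
  congr 1
  rw [Nat.card_eq_fintype_card (α := {g : G // _}), Fintype.card_subtype]

/-- A character of a normal subgroup with inertia group `N` induces irreducibly. -/
theorem isIrr_indFun_of_inertia [Fintype N] (θ : IrrCharacter N)
    (h : ∀ g : G, irrComp (MulAut.conjNormal g) θ = θ → g ∈ N) :
    IsIrrCharacter G (indFun N (θ : N → ℂ)) := by
  classical
  refine isIrr_of_norm_one (isCharacter_indFun N (irr_isCharacter θ.2)) ?_
  rw [classInner_indFun_normal N θ θ]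
  have hfix : ∀ g : G, g ∈ N → irrComp (MulAut.conjNormal g) θ = θ := by
    intro g hg
    apply Subtype.ext
    funext n
    rw [irrComp_apply]
    have e : MulAut.conjNormal g n = (⟨g, hg⟩ : N) * n * (⟨g, hg⟩ : N)⁻¹ :=
      Subtype.ext (by simp [MulAut.conjNormal_apply])
    rw [e, isClassFunction_character (irr_isCharacter θ.2)]
  rw [Nat.card_congr (Equiv.subtypeEquivRight fun g => ⟨h g, hfix g⟩)]
  exact inv_mul_cancel₀ (Nat.cast_ne_zero.2 Nat.card_pos.ne')

end Cfsg.Agent.Char
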