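import Cfsg.Agent.Lib.Char.ExtendSylow
import Mathlib

/-!
Extensions of characters along cyclic and coprime quotients.
-/

open scoped ComplexConjugate
open Cfsg Module

set_option autoImplicit false
set_option linter.style.haveILetI false
set_option linter.unusedSectionVars false

namespace Cfsg.Agent.Char

universe u
variable {G : Type u} [Group G] [Finite G] (N : Subgroup G) [hN : N.Normal]

theorem exists_extension_cyclic (hcyc : IsCyclic (G ⧸ N)) {θ : N → ℂ} (hθ : IsIrrCharacter N θ)
    (hinv : ∀ (g : G) (n : N), θ (MulAut.conjNormal g n) = θ n) :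
    ∃ χ : G → ℂ, IsIrrCharacter G χ ∧ ∀ n : N, χ n = θ n := by
  classical
  obtain ⟨d, σ, hσ, rfl⟩ := id hθ
  haveI := hσ
  have hd : d ≠ 0 := fun h0 => irr_one_ne_zero hθ (by simp [h0])
  haveI : Finite (projCover σ) := finite_projCover σ hd
  have hπ := coverProj_surjective σ hd hinv
  obtain ⟨ρ₀, hirr, hres⟩ := exists_extension_of_cover σ hd hinv fun c hcinv hc => by
    refine exists_linear_extension_of_ker _ c (eq_one_of_mem_commutator_of_isCyclic _ ?_ c hcinv)
    let f : projCover σ ⧸ N.comap (coverProj σ) →* G ⧸ N :=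
      QuotientGroup.map _ N (coverProj σ) le_rfl
    have hf : Function.Injective f := by
      rw [injective_iff_map_eq_one]
      intro x hx
      induction x using QuotientGroup.induction_on with | _ a =>
      exact (QuotientGroup.eq_one_iff a).2 (show coverProj σ a ∈ N from (QuotientGroup.eq_one_iff _).1 hx)
    haveI := hcyc
    exact isCyclic_of_injective f hf
  exact ⟨ρ₀.character, isIrrCharacter_character ρ₀ hirr, fun n => by
    simp only [Representation.character, hres n]⟩

theorem detChar_conj_inv {θ : N → ℂ} (hθ : IsCharacter N θ)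
    (hinv : ∀ (g : G) (n : N), θ (MulAut.conjNormal g n) = θ n) (g : G) (n : N) :
    detChar θ (MulAut.conjNormal g n) = detChar θ n := by
  obtain ⟨d, σ, rfl⟩ := hθ
  let σ' : Representation ℂ N (Fin d → ℂ) := σ.comp (MulAut.conjNormal g : MulAut N).toMonoidHom
  have h' : σ'.character = σ.character := funext fun m => hinv g m
  have h1 := detChar_eq σ' h'
  have h2 := congrFun (h1.symm.trans (detChar_eq σ rfl)) n
  rw [detChar_eq σ rfl]
  exact h2

theorem exists_extension_of_det_extension {θ : N → ℂ} (hθ : IsIrrCharacter N θ)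
    (hinv : ∀ (g : G) (n : N), θ (MulAut.conjNormal g n) = θ n) (d : ℕ) (hd : θ 1 = d)
    (hcop : N.index.Coprime d) (μ : G →* ℂˣ) (hμ : ∀ n : N, (μ (n : G) : ℂ) = detChar θ n) :
    ∃ χ : G → ℂ, IsIrrCharacter G χ ∧ ∀ n : N, χ n = θ n := by
  classical
  obtain ⟨d', σ, hσ, rfl⟩ := id hθ
  obtain rfl : d' = d := by exact_mod_cast (char_one_eq_dim σ rfl).symm.trans hd
  haveI := hσ
  have hd : d' ≠ 0 := fun h0 => irr_one_ne_zero hθ (by simp [h0])
  haveI : Finite (projCover σ) := finite_projCover σ hd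
  have hπ := coverProj_surjective σ hd hinv
  obtain ⟨ρ₀, hirr, hres⟩ := exists_extension_of_cover σ hd hinv fun c hcinv hc => by
    refine exists_linear_extension_of_ker _ c fun z hz => ?_
    have h1 : c z ^ (N.comap (coverProj σ)).index = 1 :=
      pow_index_eq_one_of_mem_commutator _ c hcinv z hz
    rw [Subgroup.index_comap_of_surjective _ hπ] at h1
    have h2 : μ (coverProj σ z.1) = 1 := by
      rw [← MonoidHom.comp_apply, ← Abelianization.lift_apply_of (μ.comp (coverProj σ)), hz, map_one]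
    have h3 : c z ^ d' = 1 := by
      have hdet := ((mem_projCover_iff σ _).1 z.1.2).2
      rw [hc z, LinearMap.det_smul, Module.finrank_fin_fun] at hdet
      have h4 := hμ ⟨coverProj σ z.1, z.2⟩
      rw [detChar_eq σ rfl] at h4
      rw [← show _ = LinearMap.det (σ ⟨coverProj σ z.1, z.2⟩) from h4, show μ ((⟨coverProj σ z.1, z.2⟩ : N) : G) = 1 from h2, Units.val_one, mul_one] at hdet
      exact Units.ext (by simpa using hdet)
    exact orderOf_eq_one_iff.1 (Nat.eq_one_of_dvd_coprimes hcop (orderOf_dvd_of_pow_eq_one h1)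
      (orderOf_dvd_of_pow_eq_one h3))
  exact ⟨ρ₀.character, isIrrCharacter_character ρ₀ hirr, fun n => by
    simp only [Representation.character, hres n]⟩

theorem detChar_restrict {χ : G → ℂ} (hχ : IsCharacter G χ) {θ : N → ℂ}
    (hres : ∀ n : N, χ n = θ n) (n : N) : detChar χ n = detChar θ n := by
  obtain ⟨d, ρ, rfl⟩ := hχ
  rw [detChar_eq ρ rfl, detChar_eq (ρ.comp N.subtype) (χ := θ) (funext hres)]
  rfl

/-- Two extensions of an irreducible character differ by a linear character of the quotient. -/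
theorem exists_twist {χ χ' : G → ℂ} (hχ : IsCharacter G χ) (hχ' : IsCharacter G χ') {θ : N → ℂ}
    (hθ : IsIrrCharacter N θ) (d : ℕ) (hd : θ 1 = d)
    (hres : ∀ n : N, χ n = θ n) (hres' : ∀ n : N, χ' n = θ n) :
    ∃ β : G →* ℂˣ, (∀ n : N, β (n : G) = 1) ∧ (χ' = fun g => (β g : ℂ) * χ g) ∧
      detChar χ' = fun g => (β g : ℂ) ^ d * detChar χ g := by
  classical
  obtain ⟨d₀, σ₀, hσ₀, rfl⟩ := id hθ
  obtain ⟨a, ρ, rfl⟩ := hχ
  obtain ⟨b, ρ', rfl⟩ := hχ'
  obtain rfl : a = d := by
    have := hres 1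
    rw [OneMemClass.coe_one, char_one_eq_dim ρ rfl, hd] at this
    exact_mod_cast this
  obtain rfl : b = a := by
    have := hres' 1
    rw [OneMemClass.coe_one, char_one_eq_dim ρ' rfl, hd] at this
    exact_mod_cast this
  obtain rfl : d₀ = b := by exact_mod_cast (char_one_eq_dim σ₀ rfl).symm.trans hd
  have hd0 : d₀ ≠ 0 := fun h0 => irr_one_ne_zero hθ (by simp [h0])
  haveI := hσ₀
  obtain ⟨e⟩ := equiv_of_character_eq (ρ.comp N.subtype) σ₀ (funext hres)
  obtain ⟨e'⟩ := equiv_of_character_eq (ρ'.comp N.subtype) σ₀ (funext hres')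
  let L := e.toLinearEquiv
  let L' := e'.toLinearEquiv
  let r := repTransport ρ L
  let r' := repTransport ρ' L'
  have hr : ∀ n : N, r (n : G) = σ₀ n := fun n => LinearMap.ext fun w => by
    rw [repTransport_apply]
    have := LinearMap.congr_fun (e.toIntertwiningMap.isIntertwining' n) (L.symm w)
    refine this.trans ?_
    show σ₀ n (L (L.symm w)) = σ₀ n w
    rw [L.apply_symm_apply]
  have hr' : ∀ n : N, r' (n : G) = σ₀ n := fun n => LinearMap.ext fun w => by
    rw [repTransport_apply]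
    have := LinearMap.congr_fun (e'.toIntertwiningMap.isIntertwining' n) (L'.symm w)
    refine this.trans ?_
    show σ₀ n (L' (L'.symm w)) = σ₀ n w
    rw [L'.apply_symm_apply]
  have hinv : ∀ g : G, r g * r g⁻¹ = 1 := fun g => by rw [← map_mul, mul_inv_cancel, map_one]
  have hs : ∀ g, ∃ a : ℂ, r' g * r g⁻¹ = a • LinearMap.id := fun g => schur_scalar σ₀ _ fun n => by
    show r' g * r g⁻¹ * σ₀ n = σ₀ n * (r' g * r g⁻¹)
    set m : N := MulAut.conjNormal g⁻¹ n with hm
    have e1 : (n : G) = g * (m : G) * g⁻¹ := by simp [hm, mul_assoc]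
    rw [← hr n, mul_assoc, ← map_mul, show g⁻¹ * (n : G) = (m : G) * g⁻¹ by rw [e1]; group, map_mul,
      ← mul_assoc, hr m, ← hr' m, ← map_mul, show g * (m : G) = (n : G) * g by rw [e1]; group, map_mul,
      hr' n, mul_assoc, ← hr n]
  choose β hβ using hs
  have hb : ∀ g, r' g = β g • r g := fun g => by
    have := congrArg (fun f => f * r g) (hβ g)
    simp only [mul_assoc, ← map_mul, inv_mul_cancel, map_one, mul_one] at this
    rw [this, ← Module.End.one_eq_id, smul_one_mul]
  have hru : ∀ g, IsUnit (r g) := fun g => IsUnit.of_mul_eq_one (r g⁻¹) (hinv g)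
  let B : G →* ℂ :=
    { toFun := β
      map_one' := scalar_unique hd0 _ _ _ (hru 1) (by rw [← hb, map_one, map_one, one_smul])
      map_mul' := fun x y => scalar_unique hd0 _ _ _ (hru (x * y)) (by
        rw [← hb, map_mul, hb, hb, smul_mul_smul_comm, map_mul]) }
  have hdet : ∀ g, LinearMap.det (r g) = LinearMap.det (ρ g) := fun g => by
    rw [show r g = L.toLinearMap ∘ₗ ρ g ∘ₗ L.symm.toLinearMap from rfl, LinearMap.det_conj]
  have hdet' : ∀ g, LinearMap.det (r' g) = LinearMap.det (ρ' g) := fun g => by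
    rw [show r' g = L'.toLinearMap ∘ₗ ρ' g ∘ₗ L'.symm.toLinearMap from rfl, LinearMap.det_conj]
  refine ⟨B.toHomUnits, fun n => Units.ext (scalar_unique hd0 _ _ _ (hru (n : G)) ?_), funext fun g => ?_, ?_⟩
  · show β n • r n = _
    rw [← hb, hr', Units.val_one, one_smul, hr]
  · show ρ'.character g = β g * ρ.character g
    have h1 : LinearMap.trace ℂ _ (r g) = ρ.character g := LinearMap.trace_conj' (ρ g) L
    have h2 : LinearMap.trace ℂ _ (r' g) = ρ'.character g := LinearMap.trace_conj' (ρ' g) L'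
    rw [← h1, ← h2, hb, map_smul, smul_eq_mul]
  · rw [detChar_eq ρ rfl, detChar_eq ρ' rfl]
    funext g
    show LinearMap.det (ρ' g) = β g ^ d₀ * LinearMap.det (ρ g)
    rw [← hdet, ← hdet', hb, LinearMap.det_smul, Module.finrank_fin_fun]

theorem isIrr_linear_mul {χ : G → ℂ} (hχ : IsIrrCharacter G χ) (β : G →* ℂˣ) :
    IsIrrCharacter G (fun g => (β g : ℂ) * χ g) := by
  haveI := Fintype.ofFinite G
  refine isIrr_of_norm_one (isCharacter_mul (isCharacter_linear β) (irr_isCharacter hχ)) ?_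
  have hn : ∀ g, (β g : ℂ) * conj (β g : ℂ) = 1 := fun g => by
    rw [← char_inv (isCharacter_linear β) g, ← Units.val_mul, ← map_mul, mul_inv_cancel, map_one,
      Units.val_one]
  rw [← irr_self hχ]
  simp only [classInner]
  congr 1
  refine Finset.sum_congr rfl fun g _ => ?_
  simp only [map_mul]
  linear_combination (χ g * conj (χ g)) * hn g

theorem extension_unique_of_det {θ : N → ℂ} (hθ : IsIrrCharacter N θ) (d : ℕ) (hd : θ 1 = d)
    (hcop : N.index.Coprime d) {χ χ' : G → ℂ} (hχ : IsCharacter G χ) (hχ' : IsCharacter G χ')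
    (hres : ∀ n : N, χ n = θ n) (hres' : ∀ n : N, χ' n = θ n) (hdet : detChar χ' = detChar χ) :
    χ' = χ := by
  obtain ⟨β, hβN, hβ, hβdet⟩ := exists_twist N hχ hχ' hθ d hd hres hres'
  obtain ⟨a, ρ, hρ⟩ := hχ
  have h1 : β ^ d = 1 := MonoidHom.ext fun g => Units.ext (by
    have h := congrFun (hdet.symm.trans hβdet) g
    rw [detChar_eq_hom ρ hρ] at h
    rw [MonoidHom.pow_apply, Units.val_pow_eq_pow_val, MonoidHom.one_apply, Units.val_one]
    exact mul_right_cancel₀ (Units.ne_zero (detHom ρ g)) (by rw [one_mul]; exact h.symm))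
  have h2 : orderOf β = 1 := Nat.eq_one_of_dvd_coprimes hcop
    (orderOf_dvd_of_pow_eq_one (hom_pow_index N hβN)) (orderOf_dvd_of_pow_eq_one h1)
  rw [hβ, orderOf_eq_one_iff.1 h2]
  funext g
  simp

theorem existsUnique_extension_det {θ : N → ℂ} (hθ : IsIrrCharacter N θ) (d : ℕ) (hd : θ 1 = d)
    (hcop : N.index.Coprime d) {η : G → ℂ} (hη : IsIrrCharacter G η) (hres : ∀ n : N, η n = θ n)
    (μ : G →* ℂˣ) (hμ : ∀ n : N, (μ (n : G) : ℂ) = detChar θ n) :
    ∃! χ : G → ℂ, IsIrrCharacter G χ ∧ (∀ n : N, χ n = θ n) ∧ detChar χ = fun g => (μ g : ℂ) := by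
  classical
  obtain ⟨a, ρ, hρ⟩ := irr_isCharacter hη
  let ν : G →* ℂˣ := μ * (detHom ρ)⁻¹
  have hν : ν ^ N.index = 1 := hom_pow_index N fun n => by
    rw [MonoidHom.mul_apply, MonoidHom.inv_apply, mul_inv_eq_one]
    apply Units.ext
    rw [hμ, ← detChar_restrict N (irr_isCharacter hη) hres, detChar_eq_hom ρ hρ]
  obtain ⟨k, hk1, hk0⟩ := Nat.chineseRemainder hcop 1 0
  obtain ⟨b, rfl⟩ := Nat.modEq_zero_iff_dvd.1 hk0
  have hνN : ∀ n : N, ν (n : G) = 1 := fun n => by
    rw [MonoidHom.mul_apply, MonoidHom.inv_apply, mul_inv_eq_one]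
    apply Units.ext
    rw [hμ, ← detChar_restrict N (irr_isCharacter hη) hres, detChar_eq_hom ρ hρ]
  let β : G →* ℂˣ := ν ^ b
  have hβN : ∀ n : N, β (n : G) = 1 := fun n => by rw [MonoidHom.pow_apply, hνN, one_pow]
  have hβd : ∀ g, β g ^ d = ν g := fun g => by
    rw [MonoidHom.pow_apply, ← pow_mul, mul_comm]
    conv_rhs => rw [← pow_one (ν g)]
    refine pow_eq_pow_iff_modEq.2 (Nat.ModEq.of_dvd ?_ hk1)
    exact orderOf_dvd_of_pow_eq_one (by rw [← MonoidHom.pow_apply, hν, MonoidHom.one_apply])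
  have hirr := isIrr_linear_mul hη β
  have hres₁ : ∀ n : N, (fun g => (β g : ℂ) * η g) n = θ n := fun n => by
    show (β (n : G) : ℂ) * η n = θ n
    rw [hβN, Units.val_one, one_mul, hres]
  obtain rfl : a = d := by
    have := hres 1
    rw [OneMemClass.coe_one, char_one_eq_dim ρ hρ, hd] at this
    exact_mod_cast this
  let ρ₁ : Representation ℂ G (Fin a → ℂ) :=
    { toFun := fun g => (β g : ℂ) • ρ g
      map_one' := by rw [map_one, Units.val_one, one_smul, map_one]
      map_mul' := fun x y => by rw [smul_mul_smul_comm, map_mul, map_mul, Units.val_mul] }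
  have hρ₁ : ρ₁.character = fun g => (β g : ℂ) * η g := funext fun g => by
    show LinearMap.trace ℂ _ ((β g : ℂ) • ρ g) = _
    rw [map_smul, smul_eq_mul, ← hρ]
    rfl
  have hdet : detChar (fun g => (β g : ℂ) * η g) = fun g => (μ g : ℂ) := by
    rw [detChar_eq ρ₁ hρ₁]
    funext g
    show LinearMap.det ((β g : ℂ) • ρ g) = _
    rw [LinearMap.det_smul, Module.finrank_fin_fun, ← Units.val_pow_eq_pow_val, hβd,
      ← detHom_apply, ← Units.val_mul, MonoidHom.mul_apply, MonoidHom.inv_apply, inv_mul_cancel_right]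
  refine ⟨fun g => (β g : ℂ) * η g, ⟨hirr, hres₁, hdet⟩, fun χ h => ?_⟩
  exact extension_unique_of_det N hθ a hd hcop (irr_isCharacter hirr) (irr_isCharacter h.1) hres₁ h.2.1
    (h.2.2.trans hdet.symm)

end Cfsg.Agent.Char
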