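import Cfsg.Agent.Lib.Char.Congr
import Cfsg.Agent.Lib.Char.Linear

/-!
# Traces of free `p`-group permutations on idempotent local-integral matrices
-/

set_option autoImplicit false

namespace Cfsg.Agent.Char

open Cfsg Matrix

universe u v

variable {M : Ideal AlgInt} {p : ℕ}

/-- Idempotent matrices over the local ring congruent modulo the local ideal have equal trace. -/
theorem trace_eq_of_congr_idem (hM : M.IsPrime) {n : Type*} [Fintype n] [DecidableEq n]
    {P Q : Matrix n n ℂ} (hP : P * P = P) (hQ : Q * Q = Q)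
    (hPr : ∀ i j, MemLocalRing M (P i j)) (hQr : ∀ i j, MemLocalRing M (Q i j))
    (h : ∀ i j, MemLocalIdeal M (P i j - Q i j)) : P.trace = Q.trace := by
  set X : Matrix n n ℂ := P * Q + (1 - P) * (1 - Q) with hX
  have hint : P * X = X * Q := by
    have h1 : P * (1 - P) = 0 := by rw [mul_sub, mul_one, hP, sub_self]
    have h2 : (1 - Q) * Q = 0 := by rw [sub_mul, one_mul, hQ, sub_self]
    rw [hX, mul_add, ← mul_assoc, hP, ← mul_assoc, h1, zero_mul, add_zero, add_mul, mul_assoc, hQ,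
      mul_assoc, h2, mul_zero, add_zero]
  let R := locRing hM
  let I : Ideal R :=
    { carrier := {x | MemLocalIdeal M (x : ℂ)}
      add_mem' := fun ha hb => memLI_add hM ha hb
      zero_mem' := memLI_zero hM
      smul_mem' := fun c x hx => memLI_mul_left hM c.2 hx }
  let P' : Matrix n n R := Matrix.of fun i j => ⟨P i j, hPr i j⟩
  let Q' : Matrix n n R := Matrix.of fun i j => ⟨Q i j, hQr i j⟩
  set X' : Matrix n n R := P' * Q' + (1 - P') * (1 - Q') with hX'
  have eP : P'.map R.subtype = P := rfl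
  have eQ : Q'.map R.subtype = Q := rfl
  have hPm : R.subtype.mapMatrix P' = P := eP
  have hQm : R.subtype.mapMatrix Q' = Q := eQ
  have hXm : R.subtype.mapMatrix X' = X := by
    rw [hX', map_add, map_mul, map_mul, map_sub, map_sub, map_one, hPm, hQm]
  have hq : (Ideal.Quotient.mk I).mapMatrix P' = (Ideal.Quotient.mk I).mapMatrix Q' := by
    ext i j
    exact Ideal.Quotient.eq.mpr (h i j)
  have hQQ : Q' * Q' = Q' := by
    apply Matrix.map_injective (f := R.subtype) Subtype.val_injective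
    show R.subtype.mapMatrix (Q' * Q') = R.subtype.mapMatrix Q'
    rw [map_mul, hQm, hQ]
  have hdet : Ideal.Quotient.mk I X'.det = 1 := by
    have e : (Ideal.Quotient.mk I).mapMatrix X' = 1 := by
      rw [hX', map_add, map_mul, map_mul, map_sub, map_sub, map_one, hq]
      have hA : (Ideal.Quotient.mk I).mapMatrix Q' * (Ideal.Quotient.mk I).mapMatrix Q' =
          (Ideal.Quotient.mk I).mapMatrix Q' :=
        (map_mul _ _ _).symm.trans (congrArg _ hQQ)
      rw [sub_mul, one_mul, mul_sub, mul_one, hA, sub_self, sub_zero, add_sub_cancel]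
    rw [RingHom.map_det, e, Matrix.det_one]
  have hne : X.det ≠ 0 := by
    intro h0
    rw [← hXm, ← RingHom.map_det] at h0
    rw [show X'.det = 0 from Subtype.val_injective h0, map_zero] at hdet
    have h1 : (1 : R) ∈ I := Ideal.Quotient.eq_zero_iff_mem.mp (by rw [map_one]; exact hdet.symm)
    exact memLI_one_iff hM h1
  have hu : IsUnit X.det := isUnit_iff_ne_zero.mpr hne
  calc P.trace = (P * X * X⁻¹).trace := by rw [Matrix.mul_nonsing_inv_cancel_right _ _ hu]
    _ = (X * Q * X⁻¹).trace := by rw [hint]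
    _ = (X⁻¹ * (X * Q)).trace := Matrix.trace_mul_comm _ _
    _ = Q.trace := by rw [Matrix.nonsing_inv_mul_cancel_left _ _ hu]

variable {H : Type v} [Group H] [Finite H]

theorem finite_hom_units (H : Type v) [Group H] [Finite H] : Finite (H →* ℂˣ) :=
  Nat.finite_of_card_ne_zero (by rw [card_hom_units]; exact Subgroup.index_ne_zero_of_finite)

theorem sum_hom_apply (hcomm : ∀ a b : H, a * b = b * a) [Fintype (H →* ℂˣ)] [DecidableEq H]
    (h : H) : ∑ θ : H →* ℂˣ, ((θ h : ℂˣ) : ℂ) = if h = 1 then (Nat.card H : ℂ) else 0 := by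
  split_ifs with h1
  · subst h1
    have e : Nat.card (H →* ℂˣ) = Nat.card H := by
      rw [card_hom_units]
      have : commutator H = ⊥ := by
        rw [commutator_def, Subgroup.commutator_eq_bot_iff_le_centralizer]
        exact fun a _ b _ => hcomm b a
      rw [this, Subgroup.index_bot]
    rw [Finset.sum_congr rfl (g := fun _ => (1 : ℂ)) (fun θ _ => by simp), Finset.sum_const,
      Finset.card_univ, nsmul_eq_mul, mul_one, ← Nat.card_eq_fintype_card, e]
  · letI : CommGroup H := { ‹Group H› with mul_comm := hcomm }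
    haveI : NeZero (Monoid.exponent H) := ⟨Monoid.exponent_ne_zero_of_finite⟩
    obtain ⟨θ0, hθ0⟩ := CommGroup.exists_apply_ne_one_of_hasEnoughRootsOfUnity H ℂ h1
    have hne : ((θ0 h : ℂˣ) : ℂ) ≠ 1 := fun e => hθ0 (Units.val_eq_one.mp e)
    have := Fintype.sum_equiv (Equiv.mulLeft θ0) (fun θ : H →* ℂˣ => ((θ0 * θ) h : ℂˣ).val)
      (fun θ => ((θ h : ℂˣ) : ℂ)) (fun θ => rfl)
    simp only [MonoidHom.mul_apply, Units.val_mul, ← Finset.mul_sum] at this
    exact (mul_left_eq_self₀.mp this).resolve_left hne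

variable {ι : Type*} [Fintype ι]

/-- An idempotent local-integral matrix commuting with a free `p`-group of permutations has zero
trace against each nontrivial element. -/
theorem freeTrace_eq_zero (hM : IsPModular p M) (hH : ∃ k, Nat.card H = p ^ k)
    (hcomm : ∀ a b : H, a * b = b * a) (σ : H →* Equiv.Perm ι)
    (hfree : ∀ h i, σ h i = i → h = 1) (F : Matrix ι ι ℂ) (hF : F * F = F)
    (hFr : ∀ i j, MemLocalRing M (F i j)) (hinv : ∀ h i j, F (σ h i) (σ h j) = F i j)
    {h0 : H} (h0ne : h0 ≠ 1) : ∑ i, F i (σ h0 i) = 0 := by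
  classical
  have hP := pmod_prime hM
  have := Fintype.ofFinite H
  have := finite_hom_units H
  have := Fintype.ofFinite (H →* ℂˣ)
  obtain ⟨k, hk⟩ := hH
  let S : Setoid ι :=
    { r := fun i j => ∃ h, σ h i = j
      iseqv := ⟨fun i => ⟨1, by simp⟩, fun {i j} ⟨h, e⟩ => ⟨h⁻¹, by rw [← e]; simp⟩,
        fun {a b c} ⟨h, e⟩ ⟨h', e'⟩ => ⟨h' * h, by simp [e, e']⟩⟩ }
  let R := Quotient S
  have hout : ∀ a : R, Quotient.mk S a.out = a := fun a => Quotient.out_eq a
  let e : R × H → ι := fun ah => σ ah.2 ah.1.out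
  have hbij : Function.Bijective e := by
    constructor
    · rintro ⟨a, h⟩ ⟨b, h'⟩ he
      simp only [e] at he
      have hab : a = b := by
        rw [← hout a, ← hout b]
        exact Quotient.sound ⟨h'⁻¹ * h, by simp [he]⟩
      subst hab
      have : h'⁻¹ * h = 1 := hfree _ a.out (by simp [he])
      rw [inv_mul_eq_one] at this
      rw [this]
    · intro i
      obtain ⟨h, hh⟩ : S (Quotient.mk S i).out i := Quotient.exact (hout _)
      exact ⟨(Quotient.mk S i, h), hh⟩
  have hre : ∀ f : ι → ℂ, ∑ i, f i = ∑ a : R, ∑ h : H, f (σ h a.out) := fun f => by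
    rw [← hbij.sum_comp f, Fintype.sum_prod_type]
  let Fx : (H →* ℂˣ) → Matrix R R ℂ := fun θ => Matrix.of fun a b =>
    ∑ h : H, ((θ h : ℂˣ) : ℂ) * F a.out (σ h b.out)
  have hidem : ∀ θ, Fx θ * Fx θ = Fx θ := by
    intro θ
    ext a c
    have hx : ∀ n : H, F a.out (σ n c.out) =
        ∑ b : R, ∑ h : H, F a.out (σ h b.out) * F (σ h b.out) (σ n c.out) := fun n => by
      conv_lhs => rw [← hF]
      rw [Matrix.mul_apply, hre]
    simp only [Fx, Matrix.mul_apply, Matrix.of_apply, hx, Finset.mul_sum, Finset.sum_mul]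
    calc _ = ∑ b : R, ∑ m : H, ∑ h : H, ((θ (h * m) : ℂˣ) : ℂ) *
          (F a.out (σ h b.out) * F (σ h b.out) (σ (h * m) c.out)) := by
          refine Finset.sum_congr rfl fun b _ => ?_
          refine Finset.sum_congr rfl fun m _ => Finset.sum_congr rfl fun h _ => ?_
          rw [map_mul σ h m, Equiv.Perm.mul_apply, hinv, map_mul, Units.val_mul]
          ring
      _ = ∑ b : R, ∑ h : H, ∑ n : H, ((θ n : ℂˣ) : ℂ) *
          (F a.out (σ h b.out) * F (σ h b.out) (σ n c.out)) := by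
          refine Finset.sum_congr rfl fun b _ => ?_
          rw [Finset.sum_comm]
          exact Finset.sum_congr rfl fun h _ => Fintype.sum_equiv (Equiv.mulLeft h) _ _ fun m => rfl
      _ = _ := by
          rw [Finset.sum_comm (γ := R)]
          simp only [Finset.sum_comm (γ := R)]
          exact Finset.sum_comm
  have hθint : ∀ (θ : H →* ℂˣ) h, IsIntegral ℤ ((θ h : ℂˣ) : ℂ) := fun θ h =>
    root_of_unity_isIntegral (Nat.card_pos (α := H)).ne'
      (by rw [← Units.val_pow_eq_pow_val, ← map_pow, pow_card_eq_one', map_one, Units.val_one])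
  have hθmem : ∀ (θ : H →* ℂˣ) h, MemLocalRing M ((θ h : ℂˣ) : ℂ) := fun θ h =>
    memLocalRing_of_isIntegral hP.ne_top (hθint θ h)
  have hθ1 : ∀ (θ : H →* ℂˣ) h, MemLocalIdeal M (((θ h : ℂˣ) : ℂ) - 1) := fun θ h => by
    let A : AlgInt := ⟨((θ h : ℂˣ) : ℂ), hθint θ h⟩
    have hA : A ^ p ^ k = 1 ^ p ^ k := Subtype.ext (by
      simp [A, ← hk, ← Units.val_pow_eq_pow_val, ← map_pow, pow_card_eq_one'])
    simpa [A] using (memLI_coe_iff hP _).mpr (algInt_eq_mod hM hA)
  have hFxr : ∀ θ a b, MemLocalRing M (Fx θ a b) := fun θ a b =>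
    memLR_sum hP _ _ fun h _ => memLR_mul hP (hθmem θ h) (hFr _ _)
  have htr : ∀ θ, (Fx θ).trace = (Fx 1).trace := fun θ =>
    trace_eq_of_congr_idem hP (hidem θ) (hidem 1) (hFxr θ) (hFxr 1) fun a b => by
      simp only [Fx, Matrix.of_apply, ← Finset.sum_sub_distrib, ← sub_mul]
      refine memLI_sum hP _ _ fun h _ => memLI_mul_right hP ?_ (hFr _ _)
      simpa using hθ1 θ h
  set c : H → ℂ := fun h => ∑ a : R, F a.out (σ h a.out) with hc
  have htrc : ∀ θ : H →* ℂˣ, (Fx θ).trace = ∑ h : H, ((θ h : ℂˣ) : ℂ) * c h := fun θ => by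
    simp only [Matrix.trace, Matrix.diag, Fx, Matrix.of_apply, hc, Finset.mul_sum]
    exact Finset.sum_comm
  have hc0 : c h0 = 0 := by
    have h1 : ∑ θ : H →* ℂˣ, ((θ h0⁻¹ : ℂˣ) : ℂ) * (Fx θ).trace = 0 := by
      simp only [htr, ← Finset.sum_mul, sum_hom_apply hcomm, inv_eq_one, h0ne, if_false, zero_mul]
    simp only [htrc, Finset.mul_sum] at h1
    rw [Finset.sum_comm] at h1
    simp only [← mul_assoc, ← Units.val_mul, ← map_mul, ← Finset.sum_mul, sum_hom_apply hcomm,
      ite_mul, zero_mul, inv_mul_eq_one] at h1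
    simpa [Nat.card_pos.ne', Finset.sum_ite_eq] using h1
  have key : ∀ a : R, ∀ h : H, F (σ h a.out) (σ h0 (σ h a.out)) = F a.out (σ h0 a.out) := by
    intro a h
    rw [← Equiv.Perm.mul_apply, ← map_mul, hcomm, map_mul, Equiv.Perm.mul_apply, hinv]
  rw [hre]
  simp only [key, Finset.sum_const, ← Finset.smul_sum]
  rw [show ∑ a : R, F a.out (σ h0 a.out) = c h0 from rfl, hc0, smul_zero]

variable {K : Type*} [Group K] [Finite K]

/-- The same with an additional commuting group of permutations of order prime to `p`. -/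
theorem twistedFreeTrace_eq_zero (hM : IsPModular p M) (hH : ∃ k, Nat.card H = p ^ k)
    (hcomm : ∀ a b : H, a * b = b * a) (σ : H →* Equiv.Perm ι)
    (hfree : ∀ h i, σ h i = i → h = 1) (hK : ¬ p ∣ Nat.card K)
    (hKcomm : ∀ a b : K, a * b = b * a) (τ : K →* Equiv.Perm ι)
    (hst : ∀ a h i, τ a (σ h i) = σ h (τ a i)) (F : Matrix ι ι ℂ) (hF : F * F = F)
    (hFr : ∀ i j, MemLocalRing M (F i j)) (hinv : ∀ h i j, F (σ h i) (σ h j) = F i j)
    (hinvK : ∀ a i j, F (τ a i) (τ a j) = F i j)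
    {h0 : H} (h0ne : h0 ≠ 1) (a0 : K) : ∑ i, F (τ a0 i) (σ h0 i) = 0 := by
  classical
  have hP := pmod_prime hM
  have := Fintype.ofFinite K
  have := finite_hom_units K
  have := Fintype.ofFinite (K →* ℂˣ)
  have hm : (Nat.card K : ℂ) ≠ 0 := Nat.cast_ne_zero.mpr Nat.card_pos.ne'
  let Fx : (K →* ℂˣ) → Matrix ι ι ℂ := fun θ => Matrix.of fun i j =>
    (Nat.card K : ℂ)⁻¹ * ∑ a : K, ((θ a : ℂˣ) : ℂ) * F (τ a i) j
  have hidem : ∀ θ, Fx θ * Fx θ = Fx θ := by
    intro θ
    ext i j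
    have hmove : ∀ (n : K) (x : ι), F (τ n x) j = F x (τ n⁻¹ j) := fun n x => by
      rw [← hinvK n x (τ n⁻¹ j), ← Equiv.Perm.mul_apply, ← map_mul, mul_inv_cancel, map_one,
        Equiv.Perm.one_apply]
    have key : ∀ a n : K, ∑ x : ι, F (τ a i) x * F (τ n x) j = F (τ (n * a) i) j := fun a n => by
      rw [Finset.sum_congr rfl fun x _ => by rw [hmove n x], ← Matrix.mul_apply, hF, ← hmove,
        map_mul, Equiv.Perm.mul_apply]
    simp only [Fx, Matrix.mul_apply, Matrix.of_apply]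
    have e1 : ∑ x, ((Nat.card K : ℂ)⁻¹ * ∑ a : K, ((θ a : ℂˣ) : ℂ) * F (τ a i) x) *
          ((Nat.card K : ℂ)⁻¹ * ∑ n : K, ((θ n : ℂˣ) : ℂ) * F (τ n x) j)
        = (Nat.card K : ℂ)⁻¹ * ((Nat.card K : ℂ)⁻¹ *
          ∑ a : K, ∑ n : K, ((θ (n * a) : ℂˣ) : ℂ) * ∑ x, F (τ a i) x * F (τ n x) j) := by
      have e2 : ∀ x, (∑ a : K, ((θ a : ℂˣ) : ℂ) * F (τ a i) x) *
          (∑ n : K, ((θ n : ℂˣ) : ℂ) * F (τ n x) j) = ∑ a : K, ∑ n : K,
            ((θ (n * a) : ℂˣ) : ℂ) * (F (τ a i) x * F (τ n x) j) := fun x => by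
        rw [Finset.sum_mul_sum]
        exact Finset.sum_congr rfl fun a _ => Finset.sum_congr rfl fun n _ => by
          rw [map_mul, Units.val_mul]; ring
      rw [Finset.sum_congr rfl fun x _ => by rw [mul_mul_mul_comm, e2 x, mul_assoc],
        ← Finset.mul_sum, ← Finset.mul_sum, Finset.sum_comm]
      congr 2
      refine Finset.sum_congr rfl fun a _ => ?_
      rw [Finset.sum_comm]
      exact Finset.sum_congr rfl fun n _ => (Finset.mul_sum _ _ _).symm
    have e3 : ∀ a : K, ∑ n : K, ((θ (n * a) : ℂˣ) : ℂ) * ∑ x, F (τ a i) x * F (τ n x) j =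
        ∑ b : K, ((θ b : ℂˣ) : ℂ) * F (τ b i) j := fun a => by
      simp only [key]
      exact Fintype.sum_equiv (Equiv.mulRight a) _ (fun b => ((θ b : ℂˣ) : ℂ) * F (τ b i) j) (fun n => rfl)
    rw [e1, Finset.sum_congr rfl fun a _ => e3 a, Finset.sum_const, Finset.card_univ,
      nsmul_eq_mul, ← Nat.card_eq_fintype_card]
    field_simp
  have hθmem : ∀ (θ : K →* ℂˣ) a, MemLocalRing M ((θ a : ℂˣ) : ℂ) := fun θ a =>
    memLocalRing_of_isIntegral hP.ne_top (root_of_unity_isIntegral (Nat.card_pos (α := K)).ne'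
      (by rw [← Units.val_pow_eq_pow_val, ← map_pow, pow_card_eq_one', map_one, Units.val_one]))
  have hz : ∀ θ, ∑ i, Fx θ i (σ h0 i) = 0 := fun θ =>
    freeTrace_eq_zero hM hH hcomm σ hfree (Fx θ) (hidem θ)
      (fun i j => memLR_mul hP (memLR_inv_natCast hM hK)
        (memLR_sum hP _ _ fun a _ => memLR_mul hP (hθmem θ a) (hFr _ _)))
      (fun h i j => by simp only [Fx, Matrix.of_apply, hst, hinv]) h0ne
  have h1 : ∑ θ : K →* ℂˣ, ((θ a0⁻¹ : ℂˣ) : ℂ) * ∑ i, Fx θ i (σ h0 i) = 0 := by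
    simp [hz]
  have e : ∀ i j, ∑ θ : K →* ℂˣ, ((θ a0⁻¹ : ℂˣ) : ℂ) * Fx θ i j = F (τ a0 i) j := fun i j => by
    simp only [Fx, Matrix.of_apply, Finset.mul_sum]
    rw [Finset.sum_comm]
    simp only [mul_left_comm _ (Nat.card K : ℂ)⁻¹, ← Finset.mul_sum, ← mul_assoc _ _ (F _ _),
      ← Units.val_mul, ← map_mul, ← Finset.sum_mul, sum_hom_apply hKcomm, ite_mul, zero_mul,
      inv_mul_eq_one]
    simp [Finset.sum_ite_eq, hm]
  simp only [Finset.mul_sum] at h1
  rw [Finset.sum_comm] at h1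
  simpa only [e] using h1

end Cfsg.Agent.Char
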