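import Cfsg.Agent.Lib.Char.Glauberman
import Cfsg.Agent.Lib.Char.Restrict

/-!
# Restriction of irreducible characters to normal subgroups (Clifford)
-/

set_option autoImplicit false

namespace Cfsg.Agent.Char

open Cfsg Module
open scoped ComplexConjugate

universe u

variable {G : Type u} [Group G] [Fintype G] (N : Subgroup G) [N.Normal] [Fintype N]

open scoped Classical in
/-- The conjugates of a character of a normal subgroup. -/
noncomputable def cliffOrbit (θ : IrrCharacter N) : Finset (IrrCharacter N) :=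
  Finset.univ.image fun g : G => irrComp (MulAut.conjNormal g) θ

variable {N}

theorem mem_cliffOrbit {θ ψ : IrrCharacter N} :
    ψ ∈ cliffOrbit N θ ↔ ∃ g : G, irrComp (MulAut.conjNormal g) θ = ψ := by
  classical
  simp [cliffOrbit]

theorem self_mem_cliffOrbit (θ : IrrCharacter N) : θ ∈ cliffOrbit N θ :=
  mem_cliffOrbit.mpr ⟨1, Subtype.ext (funext fun n => by rw [irrComp_apply, map_one]; rfl)⟩

omit [Fintype N] in
theorem indFun_restrict_normal (θ : N → ℂ) (n : N) :
    indFun N θ n = (Nat.card N : ℂ)⁻¹ * ∑ g : G, θ (MulAut.conjNormal g n) := by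
  rw [indFun]
  congr 1
  refine Fintype.sum_equiv (Equiv.inv G) _ _ fun g => ?_
  have hm : g⁻¹ * (n : G) * g ∈ N := by simpa using Subgroup.Normal.conj_mem ‹_› _ n.2 g⁻¹
  rw [extendByZero_mem N θ hm]
  exact congrArg θ (Subtype.ext (by simp [MulAut.conjNormal_apply]))

theorem classInner_restrict_conj {χ : G → ℂ} (hχ : IsClassFunction G χ) (θ : N → ℂ) (g : G) :
    classInner (fun n : N => χ n) (fun n => θ (MulAut.conjNormal g n)) =
      classInner (fun n : N => χ n) θ := by
  simp only [classInner]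
  congr 1
  refine Fintype.sum_equiv (MulAut.conjNormal g).toEquiv _ _ fun n => ?_
  show _ = χ (MulAut.conjNormal g n : N) * _
  rw [MulAut.conjNormal_apply, hχ]
  rfl

/-- The constituents of a restriction to a normal subgroup are conjugate. -/
theorem mem_cliffOrbit_of_constituent {χ : IrrCharacter G} {θ ψ : IrrCharacter N}
    (hθ : classInner (fun n : N => (χ : G → ℂ) n) (θ : N → ℂ) ≠ 0)
    (hψ : classInner (fun n : N => (χ : G → ℂ) n) (ψ : N → ℂ) ≠ 0) :
    ψ ∈ cliffOrbit N θ := by
  classical
  by_contra hno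
  have h1 := (constituent_restrict_iff N χ θ).mp hθ
  have h2 := (constituent_restrict_iff N χ ψ).mp hψ
  have hIθ1 : indFun N (θ : N → ℂ) 1 ≠ 0 := by
    rw [indFun_one]
    exact mul_ne_zero (Nat.cast_ne_zero.mpr Subgroup.index_ne_zero_of_finite) (irr_one_ne_zero θ.2)
  have hIψ1 : indFun N (ψ : N → ℂ) 1 ≠ 0 := by
    rw [indFun_one]
    exact mul_ne_zero (Nat.cast_ne_zero.mpr Subgroup.index_ne_zero_of_finite) (irr_one_ne_zero ψ.2)
  have heq : (fun n : N => indFun N (ψ : N → ℂ) n) =
      (indFun N (ψ : N → ℂ) 1 / indFun N (θ : N → ℂ) 1) • fun n : N => indFun N (θ : N → ℂ) n := by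
    funext n
    have e := (h2 n).symm.trans (h1 n)
    rw [← centralChar_indFun, ← centralChar_indFun, centralChar, centralChar] at e
    have hidx : ((Subgroup.centralizer ({(n : G)} : Set G)).index : ℂ) ≠ 0 :=
      Nat.cast_ne_zero.mpr Subgroup.index_ne_zero_of_finite
    simp only [Pi.smul_apply, smul_eq_mul]
    field_simp at e ⊢
    linear_combination e
  have hz : classInner (fun n : N => indFun N (θ : N → ℂ) n) (ψ : N → ℂ) = 0 := by
    simp only [indFun_restrict_normal]
    rw [show (fun n : N => (Nat.card N : ℂ)⁻¹ * ∑ g : G, (θ : N → ℂ) (MulAut.conjNormal g n)) =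
        (Nat.card N : ℂ)⁻¹ • ∑ g : G, (irrComp (MulAut.conjNormal g) θ : N → ℂ) from
      funext fun n => by simp, classInner_smul_left, classInner_sum_left]
    rw [Finset.sum_eq_zero fun g _ => ?_, mul_zero]
    rw [irrC_orth, if_neg]
    exact fun e => hno (mem_cliffOrbit.mpr ⟨g, e⟩)
  have h3 : classInner (indFun N (ψ : N → ℂ)) (indFun N (ψ : N → ℂ)) = 0 := by
    rw [frobenius_right N _ (isClassFunction_character (isCharacter_indFun N (irr_isCharacter ψ.2))),
      heq, classInner_smul_left, hz, mul_zero]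
  exact hIψ1 (congrFun (classInner_self_eq_zero h3) 1)

/-- Clifford's theorem. -/
theorem clifford_restrict (χ : IrrCharacter G) (θ : IrrCharacter N)
    (hθ : classInner (fun n : N => (χ : G → ℂ) n) (θ : N → ℂ) ≠ 0) :
    (fun n : N => (χ : G → ℂ) n) = classInner (fun n : N => (χ : G → ℂ) n) (θ : N → ℂ) •
      ∑ ψ ∈ cliffOrbit N θ, (ψ : N → ℂ) := by
  classical
  have hc : IsClassFunction N (fun n : N => (χ : G → ℂ) n) := fun a k => by
    simp [isClassFunction_character (irr_isCharacter χ.2) (a : G) k]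
  conv_lhs => rw [classFun_expansion hc]
  rw [Finset.smul_sum, ← Finset.sum_subset (Finset.subset_univ (cliffOrbit N θ))]
  · refine Finset.sum_congr rfl fun ψ hψ => ?_
    obtain ⟨g, rfl⟩ := mem_cliffOrbit.mp hψ
    congr 1
    exact classInner_restrict_conj (isClassFunction_character (irr_isCharacter χ.2)) _ g
  · intro ψ _ hψ
    by_cases h0 : classInner (fun n : N => (χ : G → ℂ) n) (ψ : N → ℂ) = 0
    · rw [h0, zero_smul]
    · exact absurd (mem_cliffOrbit_of_constituent hθ h0) hψ

end Cfsg.Agent.Char
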