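import Cfsg.Agent.Lib.Char.GlaubermanCount
import Cfsg.Agent.Lib.Char.Clifford

/-!
# Invariant constituents over invariant characters of normal subgroups
-/

set_option autoImplicit false

namespace Cfsg.Agent.Char

open Cfsg Module
open scoped ComplexConjugate

universe u v

/-- An action restricted to a stable subgroup. -/
def restrictAct {G : Type u} [Group G] {S : Type v} [Group S] (φ : S →* MulAut G) (H : Subgroup G)
    (hH : ∀ s, ∀ x ∈ H, φ s x ∈ H) : S →* MulAut H where
  toFun s :=
    { toFun := fun x => ⟨φ s x, hH s x x.2⟩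
      invFun := fun x => ⟨φ s⁻¹ x, hH s⁻¹ x x.2⟩
      left_inv := fun x => Subtype.ext (show φ s⁻¹ (φ s x) = x by
        rw [← MulAut.mul_apply, ← map_mul, inv_mul_cancel, map_one]; rfl)
      right_inv := fun x => Subtype.ext (show φ s (φ s⁻¹ x) = x by
        rw [← MulAut.mul_apply, ← map_mul, mul_inv_cancel, map_one]; rfl)
      map_mul' := fun a b => Subtype.ext (map_mul (φ s) _ _) }
  map_one' := MulEquiv.ext fun x => Subtype.ext (show φ 1 (x : G) = x by rw [map_one]; rfl)
  map_mul' s t := MulEquiv.ext fun x =>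
    Subtype.ext (show φ (s * t) (x : G) = φ s (φ t x) by rw [map_mul]; rfl)

section One

variable {G : Type u} [Group G] [Fintype G] {S : Type v} [Group S] {φ : S →* MulAut G}
  {C : Type u} [Group C] [Fintype C] {ι : C →* G} {M : Ideal AlgInt} {p : ℕ}

/-- The idempotents of correspondents agree on the fixed points modulo `M`. -/
theorem CoprimeFix.corr_idem (h : CoprimeFix M p φ ι) (β : IrrCharacter C) (c : C) :
    MemLocalIdeal M (idem (h.corr β : G → ℂ) (ι c) - idem (β : C → ℂ) c) := by
  classical
  have hP := pmod_prime h.pmod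
  have hi := isClassFunction_comp (isClassFunction_idem (irr_isCharacter (h.corr β).2)) ι
  rw [← Function.comp_apply (f := idem (h.corr β : G → ℂ)), classFun_eq_sum_idem hi,
    Finset.sum_apply, ← Finset.add_sum_erase _ _ (Finset.mem_univ β)]
  have a1 := memLI_mul_right hP (h.corr_glE β) (memLR_idem h.pmod h.coprimeC β c)
  have a2 : MemLocalIdeal M (∑ x ∈ Finset.univ.erase β,
      (lam (x : C → ℂ) (idem (h.corr β : G → ℂ) ∘ ι) • idem (x : C → ℂ)) c) :=
    memLI_sum hP _ _ fun x hx => memLI_mul_right hP (h.glE_eq_zero x (h.corr_inv β)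
      fun e => Finset.ne_of_mem_erase hx (h.corr_injective e).symm)
      (memLR_idem h.pmod h.coprimeC x c)
  refine (congrArg (MemLocalIdeal M) ?_).mp (memLI_add hP a1 a2)
  rw [glE, Pi.smul_apply, smul_eq_mul]
  ring

/-- The central element of the conjugates of a character of a normal subgroup. -/
noncomputable def overElt (N : Subgroup G) (θ : N → ℂ) : G → ℂ :=
  fun g => ∑ k : G, extendByZero N (idem θ) (k * g * k⁻¹)

theorem isClassFunction_overElt (N : Subgroup G) [Fintype N] (θ : N → ℂ) :
    IsClassFunction G (overElt N θ) := fun a k => by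
  refine Fintype.sum_equiv (Equiv.mulRight k) _ _ fun x => ?_
  congr 1
  simp only [Equiv.coe_mulRight]
  group

theorem lam_overElt (N : Subgroup G) [Fintype N] [N.Normal] (θ : IrrCharacter N)
    (χ : IrrCharacter G) :
    lam (χ : G → ℂ) (overElt N (θ : N → ℂ)) = (Nat.card G : ℂ) * (θ : N → ℂ) 1 *
      classInner (fun n : N => (χ : G → ℂ) n) (θ : N → ℂ) / (χ : G → ℂ) 1 := by
  classical
  have h1 : ∀ k : G, ∑ g : G, extendByZero N (idem (θ : N → ℂ)) (k * g * k⁻¹) * (χ : G → ℂ) g =
      ∑ n : N, idem (θ : N → ℂ) n * (χ : G → ℂ) n := by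
    intro k
    rw [← (Equiv.sum_comp (MulAut.conj k⁻¹).toEquiv (fun g =>
      extendByZero N (idem (θ : N → ℂ)) (k * g * k⁻¹) * (χ : G → ℂ) g))]
    have e : ∀ g : G, (MulAut.conj k⁻¹).toEquiv g = k⁻¹ * g * k := fun g => by simp
    simp only [e, show ∀ g : G, k * (k⁻¹ * g * k) * k⁻¹ = g from fun g => by group]
    have e2 : ∀ g : G, (χ : G → ℂ) (k⁻¹ * g * k) = (χ : G → ℂ) g := fun g => by
      simpa using isClassFunction_character (irr_isCharacter χ.2) g k⁻¹
    simp only [e2]
    rw [← Finset.sum_filter_of_ne (p := fun g => g ∈ N) (fun g _ hg => by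
      by_contra hgN
      exact hg (by simp [extendByZero, hgN]))]
    refine Eq.symm (Finset.sum_bij (fun (n : N) _ => (n : G)) (fun n _ => ?_)
      (fun a _ b _ h => Subtype.ext h) (fun g hg => ?_) fun n _ => ?_)
    · simp
    · exact ⟨⟨g, (Finset.mem_filter.mp hg).2⟩, Finset.mem_univ _, rfl⟩
    · rw [extendByZero_mem N _ n.2]
  simp only [lam, overElt, Finset.sum_mul]
  rw [Finset.sum_comm, Finset.sum_congr rfl fun k _ => h1 k, Finset.sum_const, Finset.card_univ,
    nsmul_eq_mul, ← Nat.card_eq_fintype_card]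
  congr 1
  rw [mul_assoc]
  congr 1
  simp only [classInner, idem, Finset.mul_sum]
  exact Finset.sum_congr rfl fun n _ => by ring

theorem exists_constituent_over (N : Subgroup G) [Fintype N] (θ : IrrCharacter N) :
    ∃ χ : IrrCharacter G, classInner (fun n : N => (χ : G → ℂ) n) (θ : N → ℂ) ≠ 0 := by
  classical
  by_contra hno
  push Not at hno
  have hI := isCharacter_indFun N (irr_isCharacter θ.2)
  have h1 : indFun N (θ : N → ℂ) = 0 := by
    rw [classFun_expansion (isClassFunction_character hI)]
    refine Finset.sum_eq_zero fun χ _ => ?_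
    rw [frobenius N _ (isClassFunction_character (irr_isCharacter χ.2)), ← classInner_symm,
      hno χ, map_zero, zero_smul]
  have h2 := congrFun h1 1
  rw [indFun_one] at h2
  exact mul_ne_zero (Nat.cast_ne_zero.mpr Subgroup.index_ne_zero_of_finite)
    (irr_one_ne_zero θ.2) h2

end One

theorem exists_invariant_over : ∀ (n : ℕ) (S : Type v) [Group S] [Finite S] (G : Type u) [Group G]
    [Fintype G] (φ : S →* MulAut G) (N : Subgroup G) [N.Normal] [Fintype N]
    (hN : ∀ s, ∀ x ∈ N, φ s x ∈ N) (θ : IrrCharacter N),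
    (∀ s x, (θ : N → ℂ) (restrictAct φ N hN s x) = (θ : N → ℂ) x) →
    Nat.card S = n → Group.IsSolvable S → (Nat.card G).Coprime (Nat.card S) →
    ∃ χ : IrrCharacter G, (∀ s g, (χ : G → ℂ) (φ s g) = (χ : G → ℂ) g) ∧
      classInner (fun x : N => (χ : G → ℂ) x) (θ : N → ℂ) ≠ 0 := by
  intro n
  induction n using Nat.strong_induction_on with
  | _ n ih =>
    intro S _ _ G _ _ φ N _ _ hN θ hθ hn hsol hco
    classical
    rcases subsingleton_or_nontrivial S with hS | hS
    · obtain ⟨χ, hχ⟩ := exists_constituent_over N θ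
      exact ⟨χ, fun s g => by rw [Subsingleton.elim s 1, map_one]; rfl, hχ⟩
    obtain ⟨T, hT, hTne, hmin⟩ := Solv.exists_minimal_normal (G := S)
    obtain ⟨-, q, hq, -, hTp⟩ := Solv.minimal_normal_elementaryAbelian T inferInstance hTne hmin
    obtain ⟨M, hM⟩ := exists_pModular hq
    have hP := pmod_prime hM
    haveI := Fact.mk hq
    have hqT : q ∣ Nat.card T := by
      haveI := (Subgroup.nontrivial_iff_ne_bot T).2 hTne
      obtain ⟨k, hk, e⟩ := hTp.nontrivial_iff_card.mp inferInstance
      rw [e]
      exact dvd_pow_self q hk.ne'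
    have hqG : ¬ q ∣ Nat.card G := fun h => hq.ne_one
      (Nat.eq_one_of_dvd_coprimes hco h (hqT.trans (Subgroup.card_subgroup_dvd_card T)))
    let C := fixSub φ T
    haveI : Fintype C := Fintype.ofFinite _
    have h : CoprimeFix M q (φ.comp T.subtype) C.subtype :=
      { pmod := hM, pgroup := hTp, coprime := hqG, inj := C.subtype_injective
        range := fun g => by
          rw [Subgroup.range_subtype]
          exact ⟨fun hg s => hg s s.2, fun hg x hx => hg ⟨x, hx⟩⟩ }
    let φN := restrictAct φ N hN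
    let D := N.subgroupOf C
    haveI : Fintype D := Fintype.ofFinite _
    let ιD : D →* N :=
      { toFun := fun d => ⟨((d : C) : G), d.2⟩
        map_one' := rfl
        map_mul' := fun _ _ => rfl }
    have hD : CoprimeFix M q (φN.comp T.subtype) ιD :=
      { pmod := hM, pgroup := hTp
        coprime := fun hd => hqG (hd.trans (Subgroup.card_subgroup_dvd_card N))
        inj := fun a b e => Subtype.ext (Subtype.ext (congrArg (fun z : N => (z : G)) e))
        range := fun x => by
          constructor
          · rintro ⟨d, rfl⟩ s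
            exact Subtype.ext ((d : C).2 s s.2)
          · intro hx
            exact ⟨⟨⟨(x : G), fun s hs => congrArg Subtype.val (hx ⟨s, hs⟩)⟩, x.2⟩, Subtype.ext rfl⟩ }
    obtain ⟨δ, hδ⟩ := hD.corr_surjective (χ := θ) fun s x => hθ s x
    let ψ₀ := restrictAct φ C fun s x hx => fixSub_stable φ s hx
    have hker : T ≤ ψ₀.ker := fun x hx =>
      MonoidHom.mem_ker.mpr (MulEquiv.ext fun c => Subtype.ext (c.2 x hx))
    let ψ : S ⧸ T →* MulAut C := QuotientGroup.lift T ψ₀ hker
    have hDst : ∀ q' : S ⧸ T, ∀ x ∈ D, ψ q' x ∈ D := by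
      intro q' x hx
      obtain ⟨s, rfl⟩ := QuotientGroup.mk_surjective q'
      exact Subgroup.mem_subgroupOf.mpr (hN s _ hx)
    have hnorm : ∀ s : S, ∀ x : T, ∃ y : T,
        ∀ g, φN s ((φN.comp T.subtype) x g) = (φN.comp T.subtype) y (φN s g) := fun s x => by
      refine ⟨⟨s * x * s⁻¹, hT.conj_mem x x.2 s⟩, fun g => ?_⟩
      show φN s (φN x g) = φN (s * x * s⁻¹) (φN s g)
      rw [← MulAut.mul_apply, ← map_mul, ← MulAut.mul_apply, ← map_mul]
      congr 1
      group
    have hδinv : ∀ q' x, (δ : D → ℂ) (restrictAct ψ D hDst q' x) = (δ : D → ℂ) x := by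
      intro q' x
      obtain ⟨s, rfl⟩ := QuotientGroup.mk_surjective q'
      let γ : MulAut D := restrictAct ψ D hDst (s : S ⧸ T)
      have e := hD.corr_comp (φN s) γ (fun d => Subtype.ext rfl) (hnorm s) δ
      rw [hδ, show irrComp (φN s) θ = θ from Subtype.ext (funext fun y => hθ s y), ← hδ] at e
      exact congrFun (congrArg Subtype.val (hD.corr_injective e)) x
    have hcoC : (Nat.card C).Coprime (Nat.card (S ⧸ T)) :=
      (hco.coprime_dvd_left (Subgroup.card_subgroup_dvd_card C)).coprime_dvd_right
        (Subgroup.card_quotient_dvd_card T)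
    obtain ⟨β, hβinv, hβ⟩ := ih _ (hn ▸ Solv.card_quotient_lt T hTne) (S ⧸ T) C ψ D hDst δ hδinv
      rfl (Group.isSolvable_of_surjective (QuotientGroup.mk'_surjective T)) hcoC
    refine ⟨h.corr β, fun s g => ?_, ?_⟩
    · have hn' : ∀ x : T, ∃ y : T,
          ∀ g, φ s ((φ.comp T.subtype) x g) = (φ.comp T.subtype) y (φ s g) := fun x => by
        refine ⟨⟨s * x * s⁻¹, hT.conj_mem x x.2 s⟩, fun g => ?_⟩
        show φ s (φ x g) = φ (s * x * s⁻¹) (φ s g)
        rw [← MulAut.mul_apply, ← map_mul, ← MulAut.mul_apply, ← map_mul]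
        congr 1
        group
      have e := h.corr_comp (φ s) (ψ₀ s) (fun c => rfl) hn' β
      rw [show irrComp (ψ₀ s) β = β from Subtype.ext (funext fun c => hβinv (s : S ⧸ T) c)] at e
      exact (congrFun (congrArg Subtype.val e) g).symm
    -- the central element
    set E := overElt N (θ : N → ℂ) with hE
    have hθi : ∀ (s : T) (g : G), extendByZero N (idem (θ : N → ℂ)) (φ s g) =
        extendByZero N (idem (θ : N → ℂ)) g := by
      intro s g
      by_cases hg : g ∈ N
      · rw [extendByZero_mem N _ hg, extendByZero_mem N _ (hN s g hg)]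
        show _ * ((θ : N → ℂ) 1 * conj ((θ : N → ℂ) (restrictAct φ N hN s ⟨g, hg⟩))) = _
        rw [hθ]
        rfl
      · have : φ s g ∉ N := fun h' => hg (by
          have := hN (s : S)⁻¹ _ h'
          rwa [← MulAut.mul_apply, ← map_mul, inv_mul_cancel, map_one] at this)
        simp [extendByZero, hg, this]
    have hEI : IsIntClassFun M E := by
      refine ⟨isClassFunction_overElt N _, fun g => memLR_sum hP _ _ fun k _ => ?_⟩
      by_cases hg : k * g * k⁻¹ ∈ N
      · rw [extendByZero_mem N _ hg]
        exact memLR_idem hM hD.coprime θ _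
      · simpa [extendByZero, hg] using memLR_zero hP
    have hEi : ∀ (s : T) g, E (φ s g) = E g := by
      intro s g
      refine (Fintype.sum_equiv (φ s).toEquiv _ _ fun k => ?_).symm
      rw [← hθi s (k * g * k⁻¹), map_mul, map_mul, map_inv]
      rfl
    set E' := overElt D (δ : D → ℂ) with hE'
    have hcongr : ∀ c : C, MemLocalIdeal M (E (C.subtype c) - E' c) := by
      intro c
      letI : MulAction T G := MulAction.compHom G (φ.comp T.subtype)
      have hfix : ∀ s : T, φ s (c : G) = c := fun s => c.2 s s.2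
      have h0 := sum_fixedPoints_congr hM hTp (fun k : G =>
        extendByZero N (idem (θ : N → ℂ)) (k * (c : G) * k⁻¹)) (fun k => by
          by_cases hg : k * (c : G) * k⁻¹ ∈ N
          · rw [extendByZero_mem N _ hg]
            exact memLR_idem hM hD.coprime θ _
          · simpa [extendByZero, hg] using memLR_zero hP) (fun s k => by
        show extendByZero N _ (φ s k * (c : G) * (φ s k)⁻¹) = _
        rw [← hθi s (k * (c : G) * k⁻¹), map_mul, map_mul, map_inv, hfix])
      have hr : Finset.univ.filter (· ∈ MulAction.fixedPoints T G) = Finset.univ.image C.subtype := by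
        ext y
        simp only [Finset.mem_filter, Finset.mem_univ, true_and, Finset.mem_image]
        exact ⟨fun hy => (h.range y).mpr hy, fun hy => (h.range y).mp hy⟩
      rw [hr, Finset.sum_image fun a _ b _ hab => C.subtype_injective hab] at h0
      refine memLI_trans hP h0 ?_
      rw [hE', overElt, ← Finset.sum_sub_distrib]
      refine memLI_sum hP _ _ fun d _ => ?_
      simp only [Subgroup.coe_subtype]
      by_cases hd : d * c * d⁻¹ ∈ D
      · rw [extendByZero_mem D _ hd,
          extendByZero_mem N _ (show (d : G) * c * (d : G)⁻¹ ∈ N from Subgroup.mem_subgroupOf.mp hd)]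
        have := hD.corr_idem δ ⟨d * c * d⁻¹, hd⟩
        rwa [hδ] at this
      · have hd' : ¬ (d : G) * c * (d : G)⁻¹ ∈ N := fun h' => hd (Subgroup.mem_subgroupOf.mpr h')
        simpa [extendByZero, hd, hd'] using memLI_zero hP
    have h1 := h.lam_corr hEI hEi β
    have h2 : MemLocalIdeal M (lam (β : C → ℂ) (E ∘ C.subtype) - lam (β : C → ℂ) E') := by
      rw [← lam_sub]
      refine memLI_lam hP β.2 (fun a k => ?_) hcongr
      simp only [Pi.sub_apply, Function.comp_apply, map_mul, map_inv]
      rw [hEI.1 _ _, hE', isClassFunction_overElt D (δ : D → ℂ) a k]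
    intro h0
    have h3 : lam (h.corr β : G → ℂ) E = 0 := by rw [hE, lam_overElt, h0]; simp
    rw [h3, sub_zero] at h1
    have h4 : MemLocalIdeal M (lam (β : C → ℂ) E') := memLI_congr hP (memLI_symm hP h2) h1
    rw [hE', lam_overElt] at h4
    -- the multiplicity is prime to `q`
    have hcl := congrFun (clifford_restrict β δ hβ) 1
    obtain ⟨e, he⟩ := classInner_natCast (isCharacter_comp D.subtype (irr_isCharacter β.2))
      (irr_isCharacter δ.2)
    rw [show classInner (fun n : D => (β : C → ℂ) n) (δ : D → ℂ) = (e : ℂ) from he] at hcl h4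
    simp only [OneMemClass.coe_one, Pi.smul_apply, Finset.sum_apply, smul_eq_mul] at hcl
    simp only [char_one_eq_deg (irr_isCharacter (Subtype.prop _)), ← Nat.cast_sum, ← Nat.cast_mul,
      Nat.cast_inj] at hcl
    have hb : ¬ q ∣ deg (β : C → ℂ) := fun h' => h.coprimeC (h'.trans (deg_dvd_card β.2))
    have hnum : MemLocalIdeal M (((Nat.card C * deg (δ : D → ℂ) * e : ℕ) : ℂ)) := by
      rw [char_one_eq_deg (irr_isCharacter δ.2), char_one_eq_deg (irr_isCharacter β.2)] at h4
      have h5 := memLI_mul_right hP h4 (memLR_natCast hP (deg (β : C → ℂ)))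
      rw [div_mul_cancel₀ _ (Nat.cast_ne_zero.mpr (deg_pos β.2).ne')] at h5
      push_cast
      exact h5
    have hd3 := (memLI_natCast_iff hM _).mp hnum
    rcases hq.dvd_mul.mp hd3 with h' | h'
    · rcases hq.dvd_mul.mp h' with h'' | h''
      · exact h.coprimeC h''
      · exact hD.coprimeC (h''.trans (deg_dvd_card δ.2))
    · exact hb (hcl ▸ h'.mul_right _)

end Cfsg.Agent.Char
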