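import Cfsg.Agent.Lib.Char.GroupAlg

/-!
# Blocks and block idempotents
-/

set_option autoImplicit false

namespace Cfsg.Agent.Char

open Cfsg
open scoped ComplexConjugate

universe u

variable {G : Type u} [Group G]

theorem charDegree_eq_deg (χ : G → ℂ) : charDegree χ = deg χ := rfl

section Equivalence

variable {M : Ideal AlgInt} (hM : M.IsPrime)
include hM

theorem sameBlock_refl (χ : G → ℂ) : SameBlock M χ χ := fun g => by
  simpa using memLI_zero hM

theorem sameBlock_symm {χ ψ : G → ℂ} (h : SameBlock M χ ψ) : SameBlock M ψ χ :=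
  fun g => memLI_symm hM (h g)

theorem sameBlock_trans {χ ψ θ : G → ℂ} (h : SameBlock M χ ψ) (h' : SameBlock M ψ θ) :
    SameBlock M χ θ :=
  fun g => memLI_trans hM (h g) (h' g)

theorem self_mem_blockOf (χ : IrrCharacter G) : χ ∈ blockOf M (χ : G → ℂ) := sameBlock_refl hM _

theorem blockOf_eq_of_sameBlock {χ ψ : G → ℂ} (h : SameBlock M χ ψ) :
    blockOf M χ = blockOf M ψ :=
  Set.ext fun _ => ⟨fun h' => sameBlock_trans hM (sameBlock_symm hM h) h',
    fun h' => sameBlock_trans hM h h'⟩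

theorem block_sameBlock {B : Set (IrrCharacter G)} (hB : IsPBlock M B) {χ ψ : IrrCharacter G}
    (hχ : χ ∈ B) (hψ : ψ ∈ B) : SameBlock M (χ : G → ℂ) (ψ : G → ℂ) := by
  obtain ⟨θ, rfl⟩ := hB
  exact sameBlock_trans hM (sameBlock_symm hM hχ) hψ

theorem block_eq_blockOf {B : Set (IrrCharacter G)} (hB : IsPBlock M B) {χ : IrrCharacter G}
    (hχ : χ ∈ B) : B = blockOf M (χ : G → ℂ) := by
  obtain ⟨θ, rfl⟩ := hB
  exact blockOf_eq_of_sameBlock hM hχ

theorem block_nonempty {B : Set (IrrCharacter G)} (hB : IsPBlock M B) : B.Nonempty := by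
  obtain ⟨θ, rfl⟩ := hB
  exact ⟨θ, sameBlock_refl hM _⟩

theorem block_disjoint {B B' : Set (IrrCharacter G)} (hB : IsPBlock M B) (hB' : IsPBlock M B')
    {χ : IrrCharacter G} (h : χ ∈ B) (h' : χ ∈ B') : B = B' :=
  (block_eq_blockOf hM hB h).trans (block_eq_blockOf hM hB' h').symm

theorem mem_block_iff {B : Set (IrrCharacter G)} (hB : IsPBlock M B) {χ : IrrCharacter G}
    (hχ : χ ∈ B) (ψ : IrrCharacter G) : ψ ∈ B ↔ SameBlock M (χ : G → ℂ) (ψ : G → ℂ) := by
  rw [block_eq_blockOf hM hB hχ]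
  rfl

end Equivalence

section Coeff

variable [Finite G]

theorem isPBlock_blockOf (M : Ideal AlgInt) (χ : IrrCharacter G) :
    IsPBlock M (blockOf M (χ : G → ℂ)) := ⟨χ, rfl⟩

open scoped Classical in
theorem finsum_mem_irr {A : Type*} [AddCommMonoid A] (B : Set (IrrCharacter G))
    (f : IrrCharacter G → A) : ∑ᶠ χ ∈ B, f χ = ∑ χ with χ ∈ B, f χ := by
  rw [finsum_mem_def, finsum_eq_sum_of_fintype, Finset.sum_filter]
  exact Finset.sum_congr rfl fun χ _ => by rw [Set.indicator_apply]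

variable [Fintype G]

open scoped Classical in
theorem blockCoeff_eq (B : Set (IrrCharacter G)) :
    blockCoeff B = ∑ χ : IrrCharacter G with χ ∈ B, idem (χ : G → ℂ) := by
  funext g
  rw [blockCoeff, finsum_mem_irr, Finset.mul_sum, Finset.sum_apply]
  rfl

theorem isClassFunction_blockCoeff (B : Set (IrrCharacter G)) :
    IsClassFunction G (blockCoeff B) := by
  classical
  intro g k
  simp only [blockCoeff_eq, Finset.sum_apply,
    isClassFunction_idem (irr_isCharacter (Subtype.prop _)) g k]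

open scoped Classical in
theorem lam_blockCoeff (B : Set (IrrCharacter G)) (ψ : IrrCharacter G) :
    lam (ψ : G → ℂ) (blockCoeff B) = if ψ ∈ B then 1 else 0 := by
  simp [blockCoeff_eq, lam_sum, lam_idem]

/-- The unit of the convolution algebra. -/
noncomputable def delta : G → ℂ :=
  fun x => haveI := Classical.propDecidable (x = 1); if x = 1 then 1 else 0

omit [Finite G] [Fintype G] in
theorem delta_apply [DecidableEq G] (x : G) :
    delta x = (if x = 1 then 1 else 0 : ℂ) := by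
  unfold delta
  convert rfl

omit [Finite G] [Fintype G] in
theorem isClassFunction_delta : IsClassFunction G (delta : G → ℂ) := by
  classical
  intro g k
  simp [delta_apply]

omit [Finite G] in
theorem lam_delta {χ : G → ℂ} (h : IsIrrCharacter G χ) : lam χ delta = 1 := by
  classical
  simp [lam, delta_apply, irr_one_ne_zero h]

/-- Class functions with values in the local ring. -/
def IsIntClassFun (M : Ideal AlgInt) (f : G → ℂ) : Prop :=
  IsClassFunction G f ∧ ∀ x, MemLocalRing M (f x)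

variable {M : Ideal AlgInt}

omit [Finite G] in
theorem intClassFun_delta (hM : M.IsPrime) : IsIntClassFun M (delta : G → ℂ) := by
  classical
  refine ⟨isClassFunction_delta, fun x => ?_⟩
  rw [delta_apply]
  split_ifs
  exacts [memLR_one hM, memLR_zero hM]

omit [Finite G] in
theorem intClassFun_conv (hM : M.IsPrime) {f g : G → ℂ} (hf : IsIntClassFun M f)
    (hg : IsIntClassFun M g) : IsIntClassFun M (conv f g) :=
  ⟨isClassFunction_conv hf.1 hg.1,
    fun _ => memLR_sum hM _ _ fun _ _ => memLR_mul hM (hf.2 _) (hg.2 _)⟩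

omit [Finite G] [Fintype G] in
theorem intClassFun_sub (hM : M.IsPrime) {f g : G → ℂ} (hf : IsIntClassFun M f)
    (hg : IsIntClassFun M g) : IsIntClassFun M (f - g) :=
  ⟨fun a k => by simp [hf.1 a k, hg.1 a k], fun x => memLR_sub hM (hf.2 x) (hg.2 x)⟩

omit [Finite G] [Fintype G] in
theorem intClassFun_smul (hM : M.IsPrime) {r : ℂ} (hr : MemLocalRing M r) {f : G → ℂ}
    (hf : IsIntClassFun M f) : IsIntClassFun M (r • f) :=
  ⟨fun a k => by simp [hf.1 a k], fun x => memLR_mul hM hr (hf.2 x)⟩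

/-- Powers in the convolution algebra. -/
noncomputable def cpow (f : G → ℂ) : ℕ → G → ℂ
  | 0 => delta
  | n + 1 => conv (cpow f n) f

theorem intClassFun_cpow (hM : M.IsPrime) {f : G → ℂ} (hf : IsIntClassFun M f) :
    ∀ n, IsIntClassFun M (cpow f n)
  | 0 => intClassFun_delta hM
  | n + 1 => intClassFun_conv hM (intClassFun_cpow hM hf n) hf

theorem lam_cpow (hM : M.IsPrime) {χ f : G → ℂ} (h : IsIrrCharacter G χ) (hf : IsIntClassFun M f) :
    ∀ n, lam χ (cpow f n) = lam χ f ^ n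
  | 0 => by simp [cpow, lam_delta h]
  | n + 1 => by rw [cpow, lam_conv h (intClassFun_cpow hM hf n).1 hf.1, lam_cpow hM h hf n, pow_succ]

/-- An integral central element separating a block from the others modulo `M`. -/
theorem exists_separating (hM : M.IsPrime) (χ : IrrCharacter G) :
    ∃ u : G → ℂ, IsIntClassFun M u ∧ ∀ ψ : IrrCharacter G,
      (SameBlock M (χ : G → ℂ) (ψ : G → ℂ) → MemLocalIdeal M (lam (ψ : G → ℂ) u - 1)) ∧
      (¬ SameBlock M (χ : G → ℂ) (ψ : G → ℂ) → MemLocalIdeal M (lam (ψ : G → ℂ) u)) := by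
  classical
  suffices h : ∀ s : Finset (IrrCharacter G), ∃ u : G → ℂ, IsIntClassFun M u ∧
      MemLocalIdeal M (lam (χ : G → ℂ) u - 1) ∧
      ∀ ψ ∈ s, ¬ SameBlock M (χ : G → ℂ) (ψ : G → ℂ) → MemLocalIdeal M (lam (ψ : G → ℂ) u) by
    obtain ⟨u, hu, h1, h0⟩ := h Finset.univ
    refine ⟨u, hu, fun ψ => ⟨fun hs => ?_, h0 ψ (Finset.mem_univ _)⟩⟩
    exact memLI_trans hM (memLI_symm hM (lam_congr hM χ.2 ψ.2 hs hu.1 hu.2)) h1
  intro s
  induction s using Finset.induction_on with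
  | empty =>
    exact ⟨delta, intClassFun_delta hM, by simpa [lam_delta χ.2] using memLI_zero hM, by simp⟩
  | insert ψ s _ ih =>
    obtain ⟨u, hu, h1, h0⟩ := ih
    by_cases hs : SameBlock M (χ : G → ℂ) (ψ : G → ℂ)
    · refine ⟨u, hu, h1, fun θ hθ hn => ?_⟩
      rcases Finset.mem_insert.mp hθ with rfl | hθ'
      · exact absurd hs hn
      · exact h0 θ hθ' hn
    obtain ⟨g, hg⟩ := not_forall.mp hs
    rw [← omega_eq_centralChar, ← omega_eq_centralChar] at hg
    set d : ℂ := omega (χ : G → ℂ) g - omega (ψ : G → ℂ) g with hd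
    have hdR : MemLocalRing M d :=
      memLR_sub hM (memLR_omega hM χ.2 g) (memLR_omega hM ψ.2 g)
    set v : G → ℂ := d⁻¹ • ((fun x => if IsConj g x then (1 : ℂ) else 0) -
      omega (ψ : G → ℂ) g • delta) with hv
    have hind : IsIntClassFun M (fun x : G => if IsConj g x then (1 : ℂ) else 0) := by
      refine ⟨fun a k => ?_, fun x => ?_⟩
      · have : IsConj g (k * a * k⁻¹) ↔ IsConj g a :=
          ⟨fun h' => h'.trans (isConj_iff.mpr ⟨k⁻¹, by group⟩),
            fun h' => h'.trans (isConj_iff.mpr ⟨k, rfl⟩)⟩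
        simp only [this]
      · dsimp only
        split_ifs
        exacts [memLR_one hM, memLR_zero hM]
    have hvI : IsIntClassFun M v :=
      intClassFun_smul hM (memLR_inv hM hdR hg)
        (intClassFun_sub hM hind (intClassFun_smul hM (memLR_omega hM ψ.2 g) (intClassFun_delta hM)))
    have hlam : ∀ θ : IrrCharacter G, lam (θ : G → ℂ) v =
        d⁻¹ * (omega (θ : G → ℂ) g - omega (ψ : G → ℂ) g) := fun θ => by
      rw [hv, lam_smul, lam_sub, lam_smul, lam_delta θ.2, mul_one,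
        lam_classInd _ (isClassFunction_character (irr_isCharacter θ.2))]
    have hd0 : d ≠ 0 := fun h0 => hg (h0 ▸ memLI_zero hM)
    have hχv : lam (χ : G → ℂ) v = 1 := by rw [hlam, ← hd, inv_mul_cancel₀ hd0]
    refine ⟨conv u v, intClassFun_conv hM hu hvI, ?_, fun θ hθ hn => ?_⟩
    · rw [lam_conv χ.2 hu.1 hvI.1, hχv, mul_one]
      exact h1
    · rw [lam_conv θ.2 hu.1 hvI.1]
      rcases Finset.mem_insert.mp hθ with rfl | hθ'
      · rw [hlam θ, sub_self, mul_zero, mul_zero]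
        exact memLI_zero hM
      · exact memLI_mul_right hM (h0 θ hθ' hn) (memLR_lam hM θ.2 hvI.1 hvI.2)

variable {p : ℕ}

/-- Block idempotents have coefficients in the local ring. -/
theorem memLR_blockCoeff (hM : IsPModular p M) {B : Set (IrrCharacter G)} (hB : IsPBlock M B)
    (g : G) : MemLocalRing M (blockCoeff B g) := by
  classical
  have hP := pmod_prime hM
  obtain ⟨χ, rfl⟩ := hB
  obtain ⟨u, hu, hu'⟩ := exists_separating hP χ
  set a := (Nat.card G).factorization p with ha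
  -- first exponent: kills the other blocks modulo `p ^ a`
  have hout : ∀ ψ : IrrCharacter G, ∃ n : ℕ, ¬ SameBlock M (χ : G → ℂ) (ψ : G → ℂ) →
      ∃ y, MemLocalRing M y ∧ lam (ψ : G → ℂ) u ^ n = (p : ℂ) ^ a * y := fun ψ => by
    by_cases hs : SameBlock M (χ : G → ℂ) (ψ : G → ℂ)
    · exact ⟨0, fun hn => absurd hs hn⟩
    · obtain ⟨n, hn⟩ := memLI_pow_dvd hM ((hu' ψ).2 hs) a
      exact ⟨n, fun _ => hn⟩
  choose n₁ hn₁ using hout
  set N₁ := ∑ ψ, n₁ ψ with hN₁
  set v : G → ℂ := delta - cpow u N₁ with hv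
  have hvI : IsIntClassFun M v :=
    intClassFun_sub hP (intClassFun_delta hP) (intClassFun_cpow hP hu N₁)
  have hlv : ∀ ψ : IrrCharacter G, lam (ψ : G → ℂ) v = 1 - lam (ψ : G → ℂ) u ^ N₁ := fun ψ => by
    rw [hv, lam_sub, lam_delta ψ.2, lam_cpow hP ψ.2 hu]
  have hin : ∀ ψ : IrrCharacter G, ∃ n : ℕ, SameBlock M (χ : G → ℂ) (ψ : G → ℂ) →
      ∃ y, MemLocalRing M y ∧ lam (ψ : G → ℂ) v ^ n = (p : ℂ) ^ a * y := fun ψ => by
    by_cases hs : SameBlock M (χ : G → ℂ) (ψ : G → ℂ)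
    · have h1 : MemLocalIdeal M (lam (ψ : G → ℂ) v) := by
        rw [hlv]
        have h2 := memLI_mul_right hP (memLI_neg hP ((hu' ψ).1 hs))
          (memLR_sum hP (Finset.range N₁) (fun i => lam (ψ : G → ℂ) u ^ i)
            (fun i _ => memLR_pow hP (memLR_lam hP ψ.2 hu.1 hu.2) i))
        rwa [neg_sub, mul_comm, geom_sum_mul_neg] at h2
      obtain ⟨n, hn⟩ := memLI_pow_dvd hM h1 a
      exact ⟨n, fun _ => hn⟩
    · exact ⟨0, fun h => absurd h hs⟩
  choose n₂ hn₂ using hin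
  set N₂ := ∑ ψ, n₂ ψ with hN₂
  set w : G → ℂ := delta - cpow v N₂ with hw
  have hwI : IsIntClassFun M w :=
    intClassFun_sub hP (intClassFun_delta hP) (intClassFun_cpow hP hvI N₂)
  have hkey : ∀ ψ : IrrCharacter G, ∃ y, MemLocalRing M y ∧
      (if ψ ∈ blockOf M (χ : G → ℂ) then (1 : ℂ) else 0) - lam (ψ : G → ℂ) w
        = (p : ℂ) ^ a * y := by
    intro ψ
    rw [hw, lam_sub, lam_delta ψ.2, lam_cpow hP ψ.2 hvI]
    by_cases hs : SameBlock M (χ : G → ℂ) (ψ : G → ℂ)
    · rw [if_pos (show ψ ∈ blockOf M (χ : G → ℂ) from hs), sub_sub_cancel]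
      obtain ⟨y, hy, e⟩ := hn₂ ψ hs
      obtain ⟨c, hc⟩ := Nat.exists_eq_add_of_le
        (Finset.single_le_sum (fun i _ => Nat.zero_le (n₂ i)) (Finset.mem_univ ψ))
      refine ⟨y * lam (ψ : G → ℂ) v ^ c,
        memLR_mul hP hy (memLR_pow hP (memLR_lam hP ψ.2 hvI.1 hvI.2) c), ?_⟩
      rw [hN₂, hc, pow_add, e, mul_assoc]
    · rw [if_neg (show ψ ∉ blockOf M (χ : G → ℂ) from hs)]
      obtain ⟨y, hy, e⟩ := hn₁ ψ hs
      obtain ⟨c, hc⟩ := Nat.exists_eq_add_of_le
        (Finset.single_le_sum (fun i _ => Nat.zero_le (n₁ i)) (Finset.mem_univ ψ))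
      have e' : 1 - lam (ψ : G → ℂ) v = (p : ℂ) ^ a * (y * lam (ψ : G → ℂ) u ^ c) := by
        rw [hlv, sub_sub_cancel, hN₁, hc, pow_add, e, mul_assoc]
      refine ⟨-(y * lam (ψ : G → ℂ) u ^ c *
          ∑ i ∈ Finset.range N₂, lam (ψ : G → ℂ) v ^ i),
        memLR_neg hP (memLR_mul hP (memLR_mul hP hy
          (memLR_pow hP (memLR_lam hP ψ.2 hu.1 hu.2) c))
          (memLR_sum hP _ _ fun i _ => memLR_pow hP (memLR_lam hP ψ.2 hvI.1 hvI.2) i)), ?_⟩
      rw [← geom_sum_mul_neg, e']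
      ring
  choose y hy hye using hkey
  have hB : blockCoeff (blockOf M (χ : G → ℂ)) =
      w + ∑ ψ : IrrCharacter G, ((p : ℂ) ^ a * y ψ) • idem (ψ : G → ℂ) := by
    conv_lhs => rw [classFun_eq_sum_idem (isClassFunction_blockCoeff (blockOf M (χ : G → ℂ)))]
    conv_rhs => arg 1; rw [classFun_eq_sum_idem hwI.1]
    rw [← Finset.sum_add_distrib]
    refine Finset.sum_congr rfl fun ψ _ => ?_
    rw [lam_blockCoeff, ← hye, sub_smul, add_sub_cancel]
  rw [hB, Pi.add_apply, Finset.sum_apply]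
  refine memLR_add hP (hwI.2 g) (memLR_sum hP _ _ fun ψ _ => ?_)
  have hdvd : p ^ a ∣ Nat.card G := Nat.ordProj_dvd _ _
  obtain ⟨m, hm⟩ := hdvd
  have hpm : ¬ p ∣ m := by
    have := Nat.not_dvd_ordCompl hM.1 (Nat.card_pos (α := G)).ne'
    rwa [← ha, hm, Nat.mul_div_cancel_left _ (Nat.pow_pos hM.1.pos)] at this
  have e : ((p : ℂ) ^ a * y ψ) • idem (ψ : G → ℂ) g =
      y ψ * ((ψ : G → ℂ) 1 * conj ((ψ : G → ℂ) g)) * (m : ℂ)⁻¹ := by
    have hp0 : (p : ℂ) ^ a ≠ 0 := pow_ne_zero _ (Nat.cast_ne_zero.mpr hM.1.ne_zero)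
    simp only [idem, smul_eq_mul, hm]
    push_cast
    rw [mul_inv]
    field_simp
  rw [Pi.smul_apply, e]
  refine memLR_mul hP (memLR_mul hP (hy ψ) (memLR_mul hP (memLR_char hP (irr_isCharacter ψ.2) 1) ?_))
    (memLR_inv_natCast hM hpm)
  rw [← char_inv (irr_isCharacter ψ.2)]
  exact memLR_char hP (irr_isCharacter ψ.2) _

theorem union_of_blocks (hM : M.IsPrime) {A : Set (IrrCharacter G)}
    (hA : ∀ g : G, MemLocalRing M (blockCoeff A g)) {χ : IrrCharacter G} (hχ : χ ∈ A)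
    {ψ : IrrCharacter G} (hs : SameBlock M (χ : G → ℂ) (ψ : G → ℂ)) : ψ ∈ A := by
  classical
  have h := lam_congr hM χ.2 ψ.2 hs (isClassFunction_blockCoeff A) hA
  rw [lam_blockCoeff, lam_blockCoeff, if_pos hχ] at h
  by_contra hψ
  rw [if_neg hψ, sub_zero] at h
  exact memLI_one_iff hM h

end Coeff

end Cfsg.Agent.Char
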