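import Cfsg.Agent.Lib.Char.Ortho
import Cfsg.Agent.Lib.Char.Induction
import Cfsg.Agent.Lib.Char.Linear

set_option autoImplicit false
open scoped ComplexConjugate

namespace Cfsg.Agent.Char
open Cfsg

universe u
variable {G : Type u} [Group G] [Finite G]

/-- An irreducible constituent of a character has degree at most the degree of the character. -/
theorem degree_le_of_classInner_ne_zero [Fintype G] {ψ : G → ℂ} (hψ : IsCharacter G ψ)
    (χ : IrrCharacter G) (h : classInner ψ (χ : G → ℂ) ≠ 0) :
    ((χ : G → ℂ) 1).re ≤ (ψ 1).re := by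
  classical
  obtain ⟨m, hm⟩ := exists_decomposition hψ
  have hc := decomposition_coeff m hm χ
  have hm0 : 1 ≤ m χ := by
    rcases Nat.eq_zero_or_pos (m χ) with h0 | h0
    · exact absurd (by rw [hc, h0]; simp) h
    · exact h0
  have hnn : ∀ φ : IrrCharacter G, 0 ≤ ((φ : G → ℂ) 1).re := fun φ => by
    obtain ⟨n, hn⟩ := charOne_eq_natCast (irr_isCharacter φ.2)
    simp [hn]
  have he : (ψ 1).re = ∑ φ : IrrCharacter G, (m φ : ℝ) * ((φ : G → ℂ) 1).re := by
    conv_lhs => rw [hm]
    simp [Finset.sum_apply]
  rw [he]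
  refine le_trans ?_ (Finset.single_le_sum (f := fun φ => (m φ : ℝ) * ((φ : G → ℂ) 1).re)
    (fun φ _ => mul_nonneg (Nat.cast_nonneg _) (hnn φ)) (Finset.mem_univ χ))
  have : (1 : ℝ) ≤ m χ := by exact_mod_cast hm0
  nlinarith [hnn χ]

/-- The degree of an irreducible character is at most the index of an abelian subgroup. -/
theorem degree_le_index_of_comm (χ : IrrCharacter G) (A : Subgroup G)
    (hA : ∀ a b : A, a * b = b * a) : ((χ : G → ℂ) 1).re ≤ A.index := by
  classical
  haveI := Fintype.ofFinite G
  haveI := Fintype.ofFinite A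
  have hres : IsCharacter A (fun a : A => (χ : G → ℂ) a) :=
    isCharacter_comp A.subtype (irr_isCharacter χ.2)
  obtain ⟨m, hm⟩ := exists_decomposition hres
  have h1 : ∃ θ : IrrCharacter A, m θ ≠ 0 := by
    by_contra hcon
    simp only [not_exists, not_not] at hcon
    apply irr_one_ne_zero χ.2
    have := congrFun hm 1
    simpa [hcon] using this
  obtain ⟨θ, hθ⟩ := h1
  have hne : classInner (indFun A (θ : A → ℂ)) (χ : G → ℂ) ≠ 0 := by
    rw [frobenius A _ (isClassFunction_character (irr_isCharacter χ.2)), ← classInner_symm,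
      decomposition_coeff m hm θ]
    simp [hθ]
  have := degree_le_of_classInner_ne_zero (isCharacter_indFun A (irr_isCharacter θ.2)) χ hne
  rwa [indFun_one, forall_linear_iff_comm.1 hA θ, mul_one, Complex.natCast_re] at this

end Cfsg.Agent.Char
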