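import Cfsg.Agent.Lib.Char.Inflate
import Cfsg.Agent.Lib.Char.Degree
import Cfsg.Agent.Lib.Char.Clifford

/-!
The degree of an irreducible character divides the index of the centre and of any abelian normal subgroup.
-/

set_option autoImplicit false
open scoped ComplexConjugate

namespace Cfsg.Agent.Char
open Cfsg

universe u
variable {G : Type u} [Group G] [Finite G]

theorem deg_dvd_index_of_faithful_central {χ : G → ℂ} (h : IsIrrCharacter G χ) (Z : Subgroup G)
    (hZ : Z ≤ Subgroup.center G) (hfaith : ∀ z ∈ Z, χ z = χ 1 → z = 1) : deg χ ∣ Z.index := by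
  classical
  haveI := Fintype.ofFinite G
  haveI : Z.Normal := ⟨fun z hz g => by
    rw [Subgroup.mem_center_iff.1 (hZ hz) g, mul_inv_cancel_right]; exact hz⟩
  have hχ1 := irr_one_ne_zero h
  have hcf := isClassFunction_character (irr_isCharacter h)
  have hω : ∀ z ∈ Z, χ z / χ 1 * conj (χ z / χ 1) = 1 := by
    intro z hz
    have e := char_central_mul h (hZ hz) z⁻¹
    rw [mul_inv_cancel, char_inv (irr_isCharacter h)] at e
    rw [map_div₀, conj_char_one (irr_isCharacter h)]
    calc χ z / χ 1 * (conj (χ z) / χ 1) = (χ z / χ 1 * conj (χ z)) / χ 1 := by ring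
      _ = 1 := by rw [← e, div_self hχ1]
  haveI : Fintype (G ⧸ Z) := Fintype.ofFinite _
  haveI : Fintype (ConjClasses (G ⧸ Z)) := Fintype.ofFinite _
  have hI : IsIntegral ℤ ((Z.index : ℂ) / χ 1) := by
    have hsum := sum_omega_conj h
    rw [← Finset.sum_fiberwise Finset.univ
      (fun g : G => ConjClasses.mk (QuotientGroup.mk g : G ⧸ Z))] at hsum
    have key : ∀ C : ConjClasses (G ⧸ Z), ∃ r : ℂ, IsIntegral ℤ r ∧
        ∑ g ∈ Finset.univ.filter (fun g : G => ConjClasses.mk (QuotientGroup.mk g : G ⧸ Z) = C),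
          χ g / χ 1 * conj (χ g) = (Nat.card Z : ℂ) * r := by
      intro C
      obtain ⟨q, rfl⟩ := ConjClasses.mk_surjective C
      obtain ⟨g₀, rfl⟩ := QuotientGroup.mk_surjective q
      set S := Finset.univ.filter
        (fun g : G => ConjClasses.mk (QuotientGroup.mk g : G ⧸ Z) = ConjClasses.mk (QuotientGroup.mk g₀)) with hS
      have hmem : ∀ g ∈ S, ∃ z ∈ Z, ∃ c : G, g = z * (c * g₀ * c⁻¹) := by
        intro g hg
        obtain ⟨d, hd⟩ := isConj_iff.1 (ConjClasses.mk_eq_mk_iff_isConj.1 (Finset.mem_filter.1 hg).2).symm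
        obtain ⟨c, rfl⟩ := QuotientGroup.mk_surjective d
        refine ⟨g * (c * g₀ * c⁻¹)⁻¹, ?_, c, by group⟩
        rw [← QuotientGroup.eq_one_iff, QuotientGroup.mk_mul, QuotientGroup.mk_inv,
          QuotientGroup.mk_mul, QuotientGroup.mk_mul, QuotientGroup.mk_inv, hd, mul_inv_cancel]
      have hterm : ∀ g ∈ S, χ g / χ 1 * conj (χ g) = χ g₀ / χ 1 * conj (χ g₀) := by
        intro g hg
        obtain ⟨z, hz, c, rfl⟩ := hmem g hg
        rw [char_central_mul h (hZ hz), hcf g₀ c, map_mul]
        calc χ z / χ 1 * χ g₀ / χ 1 * (conj (χ z / χ 1) * conj (χ g₀))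
            = (χ z / χ 1 * conj (χ z / χ 1)) * (χ g₀ / χ 1 * conj (χ g₀)) := by ring
          _ = _ := by rw [hω z hz, one_mul]
      rw [Finset.sum_congr rfl hterm, Finset.sum_const, nsmul_eq_mul]
      by_cases h0 : χ g₀ = 0
      · exact ⟨0, isIntegral_zero, by simp [h0]⟩
      -- the class of `g₀` meets each coset at most once
      let T := Finset.univ.filter (fun x : G => IsConj g₀ x)
      have hcard : S.card = Nat.card Z * T.card := by
        rw [Nat.card_eq_fintype_card, ← Finset.card_univ, ← Finset.card_product]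
        refine (Finset.card_nbij (fun p => (p.1 : G) * p.2) ?_ ?_ ?_).symm
        · rintro ⟨z, x⟩ hp
          simp only [Finset.coe_product, Set.mem_prod, Finset.mem_coe, Finset.mem_filter,
            Finset.mem_univ, true_and, T] at hp
          simp only [S, Finset.coe_filter, Finset.mem_univ, true_and, Set.mem_setOf_eq]
          rw [QuotientGroup.mk_mul, (QuotientGroup.eq_one_iff (z : G)).2 z.2, one_mul]
          exact ConjClasses.mk_eq_mk_iff_isConj.2 ((MonoidHom.map_isConj (QuotientGroup.mk' Z) hp).symm)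
        · rintro ⟨z, x⟩ hp ⟨z', x'⟩ hp' e
          simp only [Finset.coe_product, Set.mem_prod, Finset.mem_coe, Finset.mem_filter,
            Finset.mem_univ, true_and, T] at hp hp' e
          obtain ⟨a, rfl⟩ := isConj_iff.1 hp
          obtain ⟨a', rfl⟩ := isConj_iff.1 hp'
          have e' : ((z' : G))⁻¹ * z * (a * g₀ * a⁻¹) = a' * g₀ * a'⁻¹ := by rw [mul_assoc, e]; group
          have hv := congrArg χ e'
          rw [char_central_mul h (hZ (Z.mul_mem (Z.inv_mem z'.2) z.2)), hcf g₀ a, hcf g₀ a'] at hv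
          have h1 : χ ((z' : G)⁻¹ * z) / χ 1 = 1 := mul_right_cancel₀ h0 (hv.trans (one_mul _).symm)
          have hz : (z' : G)⁻¹ * z = 1 := hfaith _ (Z.mul_mem (Z.inv_mem z'.2) z.2)
            ((div_eq_one_iff_eq hχ1).1 h1)
          have hzz : z = z' := Subtype.ext (inv_mul_eq_one.1 hz).symm
          subst hzz
          exact Prod.ext rfl (mul_left_cancel e)
        · intro g hg
          obtain ⟨z, hz, c, rfl⟩ := hmem g hg
          exact ⟨(⟨z, hz⟩, c * g₀ * c⁻¹), by simp [T, isConj_iff], rfl⟩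
      refine ⟨omega χ g₀ * conj (χ g₀), (omega_isIntegral h g₀).mul
        ((char_isIntegral (irr_isCharacter h) g₀).map (starRingEnd ℂ).toIntAlgHom), ?_⟩
      rw [hcard, omega, Nat.card_eq_fintype_card (α := {x : G // IsConj g₀ x}), Fintype.card_subtype]
      push_cast
      ring
    choose r hr hre using key
    rw [Finset.sum_congr rfl (fun C _ => hre C), ← Finset.mul_sum, ← Z.card_mul_index, Nat.cast_mul,
      mul_div_assoc] at hsum
    rw [← mul_left_cancel₀ (Nat.cast_ne_zero.2 Nat.card_pos.ne') hsum]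
    exact IsIntegral.sum _ fun C _ => hr C
  rw [char_one_eq_deg (irr_isCharacter h)] at hI
  obtain ⟨k, hk⟩ := isIntegral_rat_cast_imp (q := (Z.index : ℚ) / deg χ) (by push_cast; exact hI)
  rw [eq_div_iff (Nat.cast_ne_zero.2 (deg_pos h).ne')] at hk
  have hk' : (Z.index : ℤ) = (deg χ : ℤ) * k := by
    rw [mul_comm]; exact_mod_cast hk.symm
  exact Int.natCast_dvd_natCast.1 ⟨k, hk'⟩

theorem deg_dvd_index_central {χ : G → ℂ} (h : IsIrrCharacter G χ) (Z : Subgroup G)
    (hZ : Z ≤ Subgroup.center G) : deg χ ∣ Z.index := by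
  classical
  haveI := Fintype.ofFinite G
  have hχ1 := irr_one_ne_zero h
  let K : Subgroup G :=
    { carrier := {z | z ∈ Z ∧ χ z = χ 1}
      one_mem' := ⟨Z.one_mem, rfl⟩
      mul_mem' := fun {a b} ha hb => ⟨Z.mul_mem ha.1 hb.1, by
        rw [char_central_mul h (hZ ha.1), ha.2, div_self hχ1, one_mul, hb.2]⟩
      inv_mem' := fun {a} ha => ⟨Z.inv_mem ha.1, by
        rw [char_inv (irr_isCharacter h), ha.2, conj_char_one (irr_isCharacter h)]⟩ }
  haveI : K.Normal := ⟨fun z hz g => by
    rw [Subgroup.mem_center_iff.1 (hZ hz.1) g, mul_inv_cancel_right]; exact hz⟩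
  haveI : Fintype (G ⧸ K) := Fintype.ofFinite _
  obtain ⟨χ', hχ'⟩ := exists_deflate K h (fun n hn => hn.2)
  have hdeg : deg (χ' : G ⧸ K → ℂ) = deg χ := by
    rw [deg, deg, ← hχ' 1, QuotientGroup.mk_one]
  have hd := deg_dvd_index_of_faithful_central χ'.2 (Z.map (QuotientGroup.mk' K))
    (fun q hq => by
      obtain ⟨z, hz, rfl⟩ := hq
      rw [Subgroup.mem_center_iff]
      intro w
      obtain ⟨u, rfl⟩ := QuotientGroup.mk_surjective w
      rw [QuotientGroup.mk'_apply, ← QuotientGroup.mk_mul, ← QuotientGroup.mk_mul,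
        Subgroup.mem_center_iff.1 (hZ hz) u])
    (fun q hq e => by
      obtain ⟨z, hz, rfl⟩ := hq
      rw [QuotientGroup.mk'_apply, hχ' z, ← QuotientGroup.mk_one, hχ' 1] at e
      exact (QuotientGroup.eq_one_iff z).2 ⟨hz, e⟩)
  rw [hdeg] at hd
  rwa [Subgroup.index_map_eq _ (QuotientGroup.mk'_surjective K) (by
    rw [QuotientGroup.ker_mk']; exact fun z hz => hz.1)] at hd

/-- Itô's theorem. -/
theorem deg_dvd_index_abelian_normal {χ : G → ℂ} (h : IsIrrCharacter G χ) (A : Subgroup G)
    [hA : A.Normal] (hab : ∀ a b : A, a * b = b * a) : deg χ ∣ A.index := by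
  classical
  haveI := Fintype.ofFinite G
  haveI := Fintype.ofFinite A
  set χ₀ : IrrCharacter G := ⟨χ, h⟩ with hχ₀
  have hχc := irr_isCharacter h
  have hlin : ∀ φ : IrrCharacter A, (φ : A → ℂ) 1 = 1 := forall_linear_iff_comm.1 hab
  obtain ⟨m, hm⟩ := exists_decomposition (isCharacter_comp A.subtype hχc)
  obtain ⟨θ, hθ⟩ : ∃ θ : IrrCharacter A, m θ ≠ 0 := by
    by_contra hcon
    simp only [not_exists, not_not] at hcon
    apply irr_one_ne_zero h
    have := congrFun hm 1
    simpa [hcon] using this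
  have hcons : classInner (fun a : A => χ a) (θ : A → ℂ) ≠ 0 := by
    rw [show (fun a : A => χ a) = χ ∘ A.subtype from rfl, decomposition_coeff m hm θ]
    exact_mod_cast hθ
  -- the inertia group
  let T : Subgroup G :=
    { carrier := {g | irrComp (MulAut.conjNormal g) θ = θ}
      one_mem' := Subtype.ext (funext fun a => by rw [irrComp_apply, map_one]; rfl)
      mul_mem' := fun {a b} ha hb => Subtype.ext (funext fun x => by
        have ha' := congrFun (congrArg Subtype.val ha) (MulAut.conjNormal b x)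
        have hb' := congrFun (congrArg Subtype.val hb) x
        rw [irrComp_apply] at ha' hb'
        rw [irrComp_apply, map_mul, MulAut.mul_apply, ha', hb'])
      inv_mem' := fun {a} ha => Subtype.ext (funext fun x => by
        have ha' := congrFun (congrArg Subtype.val ha) (MulAut.conjNormal a⁻¹ x)
        rw [irrComp_apply] at ha'
        rw [irrComp_apply, ← ha']
        congr 1
        simp) }
  haveI := Fintype.ofFinite T
  have hAT : A ≤ T := fun a ha => Subtype.ext (funext fun x => by
    rw [irrComp_apply]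
    refine congrArg (θ : A → ℂ) (Subtype.ext ?_)
    have := congrArg Subtype.val (hab ⟨a, ha⟩ x)
    rw [MulAut.conjNormal_apply]
    exact (mul_inv_eq_iff_eq_mul.2 this))
  -- a constituent of the restriction to the inertia group lying over `θ`
  obtain ⟨mT, hmT⟩ := exists_decomposition (isCharacter_comp T.subtype hχc)
  let inc : A →* T := Subgroup.inclusion hAT
  have hres : (fun a : A => χ a) = ∑ ψ : IrrCharacter T, mT ψ • ((ψ : T → ℂ) ∘ inc) := by
    funext a
    have := congrFun hmT (inc a)
    simp only [Finset.sum_apply, Pi.smul_apply] at this ⊢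
    exact this
  obtain ⟨ψ, hψm, hψθ⟩ : ∃ ψ : IrrCharacter T, mT ψ ≠ 0 ∧
      classInner ((ψ : T → ℂ) ∘ inc) (θ : A → ℂ) ≠ 0 := by
    by_contra hcon
    simp only [not_exists, not_and, not_not] at hcon
    apply hcons
    rw [hres, classInner_sum_left]
    refine Finset.sum_eq_zero fun ψ _ => ?_
    rw [← Nat.cast_smul_eq_nsmul ℂ, classInner_smul_left]
    by_cases h0 : mT ψ = 0
    · simp [h0]
    · rw [hcon ψ h0, mul_zero]
  have hψc := irr_isCharacter ψ.2
  -- `ψ` restricts to a multiple of `θ`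
  haveI hAn : (A.subgroupOf T).Normal := Subgroup.Normal.comap hA _
  haveI : Fintype (A.subgroupOf T) := Fintype.ofFinite _
  let e : A.subgroupOf T ≃* A := Subgroup.subgroupOfEquivOfLe hAT
  let θT : IrrCharacter (A.subgroupOf T) := ⟨fun x => (θ : A → ℂ) (e x), isIrrCharacter_comp_equiv e θ.2⟩
  have hinner : ∀ f : T → ℂ, classInner (fun x : A.subgroupOf T => f x) (θT : A.subgroupOf T → ℂ) =
      classInner (f ∘ inc) (θ : A → ℂ) := by
    intro f
    simp only [classInner, Nat.card_congr e.toEquiv]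
    congr 1
    exact Fintype.sum_equiv e.toEquiv _ _ fun x => rfl
  have horb : cliffOrbit (A.subgroupOf T) θT = {θT} := by
    refine Finset.eq_singleton_iff_unique_mem.2 ⟨self_mem_cliffOrbit θT, fun φ hφ => ?_⟩
    obtain ⟨t, rfl⟩ := mem_cliffOrbit.1 hφ
    apply Subtype.ext
    funext x
    rw [irrComp_apply]
    have ht := congrFun (congrArg Subtype.val t.2) (e x)
    rw [irrComp_apply] at ht
    show (θ : A → ℂ) (e _) = (θ : A → ℂ) (e x)
    rw [← ht]
    congr 1
  have hcl := clifford_restrict ψ θT (by rw [hinner]; exact hψθ)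
  rw [horb, Finset.sum_singleton, hinner] at hcl
  obtain ⟨d, hd⟩ := charOne_eq_natCast hψc
  have hψval : ∀ a : A, (ψ : T → ℂ) (inc a) = (d : ℂ) * (θ : A → ℂ) a := by
    have h1 := congrFun hcl 1
    simp only [Pi.smul_apply, smul_eq_mul, OneMemClass.coe_one, hd] at h1
    rw [show (θT : A.subgroupOf T → ℂ) 1 = 1 from by
      show (θ : A → ℂ) (e 1) = 1
      rw [map_one, hlin], mul_one] at h1
    intro a
    have h2 := congrFun hcl (e.symm a)
    simp only [Pi.smul_apply, smul_eq_mul, ← h1] at h2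
    rw [show (θT : A.subgroupOf T → ℂ) (e.symm a) = (θ : A → ℂ) a from by
      show (θ : A → ℂ) (e (e.symm a)) = _
      rw [MulEquiv.apply_symm_apply]] at h2
    exact h2
  have hψθd : classInner ((ψ : T → ℂ) ∘ inc) (θ : A → ℂ) = (d : ℂ) := by
    rw [show (ψ : T → ℂ) ∘ inc = (d : ℂ) • (θ : A → ℂ) from funext hψval, classInner_smul_left,
      irr_self θ.2, mul_one]
  -- compare multiplicities
  have hge : d ≤ m θ := by
    have h2 : (m θ : ℂ) = ∑ φ : IrrCharacter T, (mT φ : ℂ) * classInner ((φ : T → ℂ) ∘ inc) (θ : A → ℂ) := by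
      rw [← decomposition_coeff m hm θ, show χ ∘ A.subtype = (fun a : A => χ a) from rfl, hres,
        classInner_sum_left]
      simp only [← Nat.cast_smul_eq_nsmul ℂ, classInner_smul_left]
    have hnat : ∀ φ : IrrCharacter T, ∃ n : ℕ, classInner ((φ : T → ℂ) ∘ inc) (θ : A → ℂ) = n := fun φ =>
      classInner_natCast (isCharacter_comp inc (irr_isCharacter φ.2)) (irr_isCharacter θ.2)
    choose n hn using hnat
    simp only [hn] at h2
    have h3 : m θ = ∑ φ : IrrCharacter T, mT φ * n φ := by exact_mod_cast h2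
    have hnd : n ψ = d := by exact_mod_cast (hn ψ).symm.trans hψθd
    rw [h3]
    refine le_trans ?_ (Finset.single_le_sum (f := fun φ => mT φ * n φ) (fun φ _ => Nat.zero_le _)
      (Finset.mem_univ ψ))
    rw [hnd]
    exact Nat.le_mul_of_pos_left d (Nat.pos_of_ne_zero hψm)
  -- degree of `χ`
  have hclif := clifford_restrict χ₀ θ hcons
  have hchi1 := congrFun hclif 1
  simp only [hχ₀, Pi.smul_apply, smul_eq_mul, Finset.sum_apply, OneMemClass.coe_one, hlin,
    Finset.sum_const, nsmul_eq_mul, mul_one] at hchi1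
  rw [show (fun a : A => χ a) = χ ∘ A.subtype from rfl, decomposition_coeff m hm θ] at hchi1
  have horbit : (cliffOrbit A θ).card = T.index := by
    rw [Subgroup.index]
    let f : G ⧸ T → IrrCharacter A := fun q => irrComp (MulAut.conjNormal (Quotient.out q)⁻¹) θ
    have hf : Function.Injective f := by
      intro q q' e
      rw [← QuotientGroup.out_eq' q, ← QuotientGroup.out_eq' q', QuotientGroup.eq]
      apply Subtype.ext
      funext x
      rw [irrComp_apply, map_mul, MulAut.mul_apply]
      have h1 := congrFun (congrArg Subtype.val e) (MulAut.conjNormal (Quotient.out q') x)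
      simp only [f, irrComp_apply] at h1
      rw [h1]
      congr 1
      simp
    have himg : cliffOrbit A θ = (Finset.univ.map ⟨f, hf⟩ : Finset _) := by
      ext φ
      simp only [mem_cliffOrbit, Finset.mem_map, Finset.mem_univ, true_and, Function.Embedding.coeFn_mk]
      constructor
      · rintro ⟨g, rfl⟩
        refine ⟨QuotientGroup.mk g⁻¹, ?_⟩
        have hout := QuotientGroup.eq.1 (QuotientGroup.out_eq' (QuotientGroup.mk g⁻¹ : G ⧸ T))
        apply Subtype.ext
        funext x
        set w := Quotient.out (QuotientGroup.mk g⁻¹ : G ⧸ T) with hw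
        show (θ : A → ℂ) (MulAut.conjNormal w⁻¹ x) = (θ : A → ℂ) (MulAut.conjNormal g x)
        have h1 := congrFun (congrArg Subtype.val hout) (MulAut.conjNormal g x)
        rw [irrComp_apply] at h1
        rw [← h1, ← MulAut.mul_apply, ← map_mul]
        congr 2
        group
      · rintro ⟨q, rfl⟩
        exact ⟨_, rfl⟩
    rw [himg, Finset.card_map, Finset.card_univ, Nat.card_eq_fintype_card]
  rw [horbit] at hchi1
  have hle : deg χ ≤ T.index * d := by
    have hne : classInner (indFun T (ψ : T → ℂ)) χ ≠ 0 := by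
      rw [frobenius T _ (isClassFunction_character hχc), ← classInner_symm,
        show (fun t : T => χ t) = χ ∘ T.subtype from rfl, decomposition_coeff mT hmT ψ]
      simp [hψm]
    have h2 := degree_le_of_classInner_ne_zero (isCharacter_indFun T hψc) χ₀ hne
    simp only [hχ₀, indFun_one, hd, char_one_eq_deg hχc, ← Nat.cast_mul, Complex.natCast_re] at h2
    exact_mod_cast h2
  have hdeq : deg χ = T.index * d := by
    have h2 : deg χ = m θ * T.index := by
      rw [char_one_eq_deg hχc] at hchi1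
      exact_mod_cast hchi1
    refine le_antisymm hle ?_
    rw [h2, mul_comm]
    exact Nat.mul_le_mul_right _ hge
  rw [hdeq, ← Subgroup.relIndex_mul_index hAT, mul_comm]
  refine Nat.mul_dvd_mul_right ?_ _
  -- `A` is central modulo the kernel of `θ`
  obtain ⟨l, hl⟩ := exists_hom_of_degree_one (irr_isCharacter θT.2)
    (by show (θ : A → ℂ) (e 1) = 1; rw [map_one, hlin])
  let K : Subgroup T := l.ker.map (A.subgroupOf T).subtype
  have hconjl : ∀ (t : T) (x : A.subgroupOf T), l (MulAut.conjNormal t x) = l x := by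
    intro t x
    have h1 : irrComp (MulAut.conjNormal t) θT = θT := by
      have : irrComp (MulAut.conjNormal t) θT ∈ cliffOrbit (A.subgroupOf T) θT :=
        mem_cliffOrbit.2 ⟨t, rfl⟩
      rwa [horb, Finset.mem_singleton] at this
    have h2 := congrFun (congrArg Subtype.val h1) x
    rw [irrComp_apply, hl] at h2
    exact Units.ext h2
  haveI hKn : K.Normal := ⟨fun k hk t => by
    obtain ⟨x, hx, rfl⟩ := hk
    exact ⟨MulAut.conjNormal t x, (hconjl t x).trans hx, by simp [MulAut.conjNormal_apply]⟩⟩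
  haveI : Fintype (T ⧸ K) := Fintype.ofFinite _
  obtain ⟨ψ', hψ'⟩ := exists_deflate K ψ.2 (fun k hk => by
    obtain ⟨x, hx, rfl⟩ := hk
    have h1 := hψval (e x)
    have h2 : (θ : A → ℂ) (e x) = 1 := by
      show (θT : A.subgroupOf T → ℂ) x = 1
      rw [hl]
      simp [MonoidHom.mem_ker.1 hx]
    rw [h2, mul_one, ← hd] at h1
    exact h1)
  have hdd := deg_dvd_index_central ψ'.2 ((A.subgroupOf T).map (QuotientGroup.mk' K)) (fun q hq => by
    obtain ⟨x, hx, rfl⟩ := hq
    rw [Subgroup.mem_center_iff]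
    intro w
    obtain ⟨t, rfl⟩ := QuotientGroup.mk_surjective w
    rw [QuotientGroup.mk'_apply, ← QuotientGroup.mk_mul, ← QuotientGroup.mk_mul, eq_comm,
      QuotientGroup.eq]
    refine ⟨⟨(x * t)⁻¹ * (t * x), ?_⟩, ?_, rfl⟩
    · have : (x * t)⁻¹ * (t * x) = t⁻¹ * (x⁻¹ * (t * x * t⁻¹)) * t := by group
      rw [this]
      have := hAn.conj_mem _ ((A.subgroupOf T).mul_mem ((A.subgroupOf T).inv_mem hx) (hAn.conj_mem _ hx t)) t⁻¹
      simpa using this
    · rw [SetLike.mem_coe, MonoidHom.mem_ker]
      let x' : A.subgroupOf T := ⟨x, hx⟩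
      have : (⟨(x * t)⁻¹ * (t * x), by
          have hh : (x * t)⁻¹ * (t * x) = t⁻¹ * x⁻¹ * t * x := by group
          rw [hh]
          exact (A.subgroupOf T).mul_mem (by simpa using hAn.conj_mem _ ((A.subgroupOf T).inv_mem hx) t⁻¹) hx⟩ :
            A.subgroupOf T) = MulAut.conjNormal t⁻¹ x'⁻¹ * x' := Subtype.ext (by
        simp [x', MulAut.conjNormal_apply, mul_assoc])
      rw [this, map_mul, hconjl, ← map_mul, inv_mul_cancel, map_one])
  have hdψ : deg (ψ' : T ⧸ K → ℂ) = d := by
    rw [deg, ← QuotientGroup.mk_one, hψ' 1, hd]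
    simp
  rw [hdψ, Subgroup.index_map_eq _ (QuotientGroup.mk'_surjective K)
    (by rw [QuotientGroup.ker_mk']; exact Subgroup.map_subtype_le _)] at hdd
  exact hdd

end Cfsg.Agent.Char
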