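import Cfsg.Prelude.Def_Blocks
import Mathlib

/-!
# p-parts and p'-parts of elements
-/

set_option autoImplicit false

namespace Cfsg.Agent.Char

open Cfsg

variable {G : Type*} [Group G] [Finite G] {p : ℕ}

theorem exists_isPPart (hp : p.Prime) (g : G) : ∃ x, IsPPart p g x := by
  have hn := (orderOf_pos g).ne'
  set a := (orderOf g).factorization p with ha
  set m := orderOf g / p ^ a with hm
  have hdvd : p ^ a ∣ orderOf g := Nat.ordProj_dvd _ _
  have hmul : p ^ a * m = orderOf g := Nat.mul_div_cancel' hdvd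
  have hpm : ¬ p ∣ m := Nat.not_dvd_ordCompl hp hn
  have hcop : IsCoprime ((p ^ a : ℕ) : ℤ) (m : ℤ) :=
    Int.isCoprime_iff_gcd_eq_one.mpr (Nat.Coprime.pow_left a ((hp.coprime_iff_not_dvd).mpr hpm))
  obtain ⟨u, v, huv⟩ := hcop
  refine ⟨g ^ (v * m), g ^ (u * (p ^ a : ℕ)), ?_, Commute.zpow_zpow_self g _ _, ?_, ?_⟩
  · rw [← zpow_add, add_comm, huv, zpow_one]
  · have h1 : (g ^ (v * (m : ℤ))) ^ (p ^ a) = 1 := by
      rw [← zpow_natCast, ← zpow_mul, mul_assoc, ← Nat.cast_mul, mul_comm m, hmul, mul_comm,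
        zpow_mul, zpow_natCast, pow_orderOf_eq_one, one_zpow]
    obtain ⟨k, -, hk⟩ := (Nat.dvd_prime_pow hp).mp (orderOf_dvd_of_pow_eq_one h1)
    exact ⟨k, hk⟩
  · have h1 : (g ^ (u * ((p ^ a : ℕ) : ℤ))) ^ m = 1 := by
      rw [← zpow_natCast, ← zpow_mul, mul_assoc, ← Nat.cast_mul, hmul, mul_comm,
        zpow_mul, zpow_natCast, pow_orderOf_eq_one, one_zpow]
    exact fun h => hpm (h.trans (orderOf_dvd_of_pow_eq_one h1))

theorem isPPart_unique (hp : p.Prime) {g x x' : G} (h : IsPPart p g x) (h' : IsPPart p g x') :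
    x = x' := by
  -- both decompositions commute with each other through powers of `g`
  suffices key : ∀ {a b : G}, a * b = g → Commute a b → (∃ k, orderOf a = p ^ k) →
      ¬ p ∣ orderOf b → a ∈ Subgroup.zpowers g by
    obtain ⟨y, hxy, hc, hk, hy⟩ := h
    obtain ⟨y', hxy', hc', hk', hy'⟩ := h'
    obtain ⟨i, hi⟩ := Subgroup.mem_zpowers_iff.mp (key hxy hc hk hy)
    obtain ⟨j, hj⟩ := Subgroup.mem_zpowers_iff.mp (key hxy' hc' hk' hy')
    have hyz : y = g ^ (1 - i) := by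
      have : y = x⁻¹ * g := by rw [← hxy]; group
      rw [this, ← hi]
      group
    have hyz' : y' = g ^ (1 - j) := by
      have : y' = x'⁻¹ * g := by rw [← hxy']; group
      rw [this, ← hj]
      group
    set z := x'⁻¹ * x with hz
    have hz' : z = y' * y⁻¹ := by
      rw [hz, hyz, hyz', ← hi, ← hj]
      group
    obtain ⟨k, hk⟩ := hk
    obtain ⟨k', hk'⟩ := hk'
    have hcx : Commute x'⁻¹ x := by
      rw [← hi, ← hj, ← zpow_neg]
      exact Commute.zpow_zpow_self g _ _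
    have hcy : Commute y' y⁻¹ := by
      rw [hyz, hyz', ← zpow_neg]
      exact Commute.zpow_zpow_self g _ _
    have h1 : orderOf z ∣ p ^ (k' + k) := by
      rw [hz, pow_add, ← hk', ← hk, ← orderOf_inv x']
      exact hcx.orderOf_mul_dvd_mul_orderOf
    have h2 : orderOf z ∣ orderOf y' * orderOf y := by
      rw [hz', ← orderOf_inv y]
      exact hcy.orderOf_mul_dvd_mul_orderOf
    have hcop : Nat.Coprime (p ^ (k' + k)) (orderOf y' * orderOf y) :=
      Nat.Coprime.pow_left _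
        (Nat.Coprime.mul_right (hp.coprime_iff_not_dvd.mpr hy') (hp.coprime_iff_not_dvd.mpr hy))
    have : z = 1 := orderOf_eq_one_iff.mp (Nat.eq_one_of_dvd_coprimes hcop h1 h2)
    rw [hz, inv_mul_eq_one] at this
    exact this.symm
  intro a b hab hc hk hb
  obtain ⟨k, hk⟩ := hk
  have hcop : Nat.Coprime (orderOf b) (orderOf a) := by
    rw [hk]
    exact Nat.Coprime.pow_right _ (hp.coprime_iff_not_dvd.mpr hb).symm
  obtain ⟨u, v, huv⟩ := Int.isCoprime_iff_gcd_eq_one.mpr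
    (show Int.gcd (orderOf b : ℤ) (orderOf a : ℤ) = 1 from hcop)
  refine ⟨u * (orderOf b : ℤ), ?_⟩
  show g ^ (u * (orderOf b : ℤ)) = a
  rw [← hab, hc.mul_zpow]
  rw [show b ^ (u * (orderOf b : ℤ)) = 1 by
    rw [mul_comm, zpow_mul, zpow_natCast, pow_orderOf_eq_one, one_zpow], mul_one]
  conv_rhs => rw [← zpow_one a, ← huv, zpow_add, mul_comm v, zpow_mul a (orderOf a : ℤ) v,
    zpow_natCast, pow_orderOf_eq_one, one_zpow, mul_one]

variable (p)

/-- The `p'`-part of `g` (chosen; equal to `g` if no decomposition exists). -/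
noncomputable def preg (g : G) : G :=
  haveI := Classical.propDecidable (∃ x, IsPPart p g x)
  if h : ∃ x, IsPPart p g x then (Classical.choose h)⁻¹ * g else g

variable {p}

theorem preg_eq (hp : p.Prime) {g x : G} (h : IsPPart p g x) : preg p g = x⁻¹ * g := by
  have he : ∃ x, IsPPart p g x := ⟨x, h⟩
  rw [preg, dif_pos he, isPPart_unique hp (Classical.choose_spec he) h]

theorem preg_spec (hp : p.Prime) (g : G) :
    IsPPart p g (g * (preg p g)⁻¹) ∧ ¬ p ∣ orderOf (preg p g) ∧ Commute (preg p g) g := by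
  obtain ⟨x, hx⟩ := exists_isPPart hp g
  obtain ⟨y, hxy, hc, hk, hy⟩ := hx
  have e : preg p g = y := by
    rw [preg_eq hp ⟨y, hxy, hc, hk, hy⟩, ← hxy]
    group
  rw [e]
  refine ⟨?_, hy, ?_⟩
  · rw [show g * y⁻¹ = x by rw [← hxy]; group]
    exact ⟨y, hxy, hc, hk, hy⟩
  · rw [← hxy]
    exact hc.symm.mul_right (Commute.refl y)

theorem preg_of_mul (hp : p.Prime) {x y : G} (hc : Commute x y) (hk : ∃ k, orderOf x = p ^ k)
    (hy : ¬ p ∣ orderOf y) : preg p (x * y) = y := by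
  rw [preg_eq hp ⟨y, rfl, hc, hk, hy⟩]
  group

theorem preg_conj (hp : p.Prime) (g t : G) : preg p (t * g * t⁻¹) = t * preg p g * t⁻¹ := by
  obtain ⟨h, hy, hc⟩ := preg_spec hp g
  obtain ⟨y, hxy, hcm, ⟨k, hk⟩, -⟩ := h
  have e : t * g * t⁻¹ = (t * (g * (preg p g)⁻¹) * t⁻¹) * (t * preg p g * t⁻¹) := by group
  rw [e]
  have hcm' : Commute (g * (preg p g)⁻¹) (preg p g) :=
    (hc.symm.mul_left ((Commute.refl (preg p g)).inv_left))
  refine preg_of_mul hp (by simpa [MulAut.conj_apply] using hcm'.map (MulAut.conj t)) ⟨k, ?_⟩ ?_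
  · have : t * (g * (preg p g)⁻¹) * t⁻¹ = MulAut.conj t (g * (preg p g)⁻¹) := rfl
    rw [this, MulEquiv.orderOf_eq, hk]
  · have : t * preg p g * t⁻¹ = MulAut.conj t (preg p g) := rfl
    rw [this, MulEquiv.orderOf_eq]
    exact hy

theorem preg_of_isPRegular (hp : p.Prime) {g : G} (h : ¬ p ∣ orderOf g) : preg p g = g := by
  simpa using preg_of_mul hp (Commute.one_left g) ⟨0, by simp⟩ h

theorem isPRegular_iff_preg (hp : p.Prime) (g : G) : IsPRegular p g ↔ preg p g = g :=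
  ⟨preg_of_isPRegular hp, fun h => h ▸ (preg_spec hp g).2.1⟩

/-- `q`-regularity only depends on the `ℓ'`-part when `ℓ ≠ q`. -/
theorem isPRegular_preg_iff {q ℓ : ℕ} (hℓ : ℓ.Prime) (hq : q.Prime) (hne : q ≠ ℓ) (g : G) :
    IsPRegular q (preg ℓ g) ↔ IsPRegular q g := by
  obtain ⟨h, hy, hc⟩ := preg_spec hℓ g
  obtain ⟨y, hxy, hcm, ⟨k, hk⟩, hy'⟩ := h
  have e : y = preg ℓ g := by
    exact (eq_inv_mul_iff_mul_eq.mpr hxy).trans
      (preg_eq hℓ ⟨y, hxy, hcm, ⟨k, hk⟩, hy'⟩).symm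
  subst e
  have hcop : Nat.Coprime (orderOf (g * (preg ℓ g)⁻¹)) (orderOf (preg ℓ g)) := by
    rw [hk]
    exact Nat.Coprime.pow_left _ (hℓ.coprime_iff_not_dvd.mpr hy)
  have ho := hcm.orderOf_mul_eq_mul_orderOf_of_coprime hcop
  rw [hxy, hk] at ho
  simp only [IsPRegular, ho]
  constructor
  · intro h1 h2
    exact (hq.dvd_mul.mp h2).elim
      (fun h3 => hne ((Nat.prime_dvd_prime_iff_eq hq hℓ).mp (hq.dvd_of_dvd_pow h3))) h1
  · exact fun h1 h2 => h1 (dvd_mul_of_dvd_right h2 _)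

theorem preg_mem_zpowers (hp : p.Prime) (g : G) {K : Subgroup G} (h : g ∈ K) : preg p g ∈ K := by
  obtain ⟨x, hx⟩ := exists_isPPart (G := K) hp ⟨g, h⟩
  obtain ⟨y, hxy, hc, ⟨k, hk⟩, hy⟩ := hx
  have h1 : (x : G) * (y : G) = g := congrArg Subtype.val hxy
  rw [← h1, preg_of_mul hp (congrArg Subtype.val hc) ⟨k, by rw [Subgroup.orderOf_coe, hk]⟩
    (by rwa [Subgroup.orderOf_coe])]
  exact y.2

end Cfsg.Agent.Char
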