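import Cfsg.Agent.Lib.Char.Linear
import Cfsg.Agent.Lib.Char.PParts
import Cfsg.Agent.Lib.Char.Inflate
import Cfsg.Agent.Lib.Char.Induction
import Cfsg.Agent.Lib.Char.DegreeDvd
import Cfsg.Agent.Lib.Char.BlockBasic

/-!
# Kernels of characters and codegrees
-/

set_option autoImplicit false
set_option linter.unusedSectionVars false
set_option linter.style.haveILetI false

namespace Cfsg.Agent.Char

open Cfsg Module
open scoped ComplexConjugate

universe u

variable {G : Type u} [Group G] [Finite G]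

/-- The kernel of a character, as a normal subgroup. -/
theorem exists_charKernel {χ : G → ℂ} (h : IsCharacter G χ) :
    ∃ K : Subgroup G, K.Normal ∧ ∀ g : G, g ∈ K ↔ χ g = χ 1 := by
  obtain ⟨n, ρ, rfl⟩ := h
  refine ⟨ρ.ker, MonoidHom.normal_ker _, fun g => ?_⟩
  rw [MonoidHom.mem_ker, Representation.char_one]
  exact (eq_id_iff ρ g).symm

theorem card_kernel_eq {χ : G → ℂ} {K : Subgroup G} (hK : ∀ g : G, g ∈ K ↔ χ g = χ 1) :
    Nat.card {g : G // χ g = χ 1} = Nat.card K :=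
  (Nat.card_congr (Equiv.subtypeEquivRight hK)).symm

/-- The degree of a character divides the index of its kernel. -/
theorem charDegree_dvd_index_kernel (χ : IrrCharacter G) {K : Subgroup G} [K.Normal]
    (hK : ∀ g : G, g ∈ K ↔ (χ : G → ℂ) g = (χ : G → ℂ) 1) :
    charDegree (χ : G → ℂ) ∣ K.index := by
  classical
  haveI := Fintype.ofFinite G
  obtain ⟨χ', hχ'⟩ := exists_deflate (N := K) χ.2 fun n hn => (hK n).mp hn
  have e : deg (χ : G → ℂ) = deg (χ' : G ⧸ K → ℂ) := by
    rw [deg, deg]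
    congr 2
    rw [← hχ' 1]
    rfl
  rw [charDegree_eq_deg, e, Subgroup.index]
  exact deg_dvd_card χ'.2

/-- The codegree. -/
theorem codegree_eq (χ : IrrCharacter G) {K : Subgroup G} [K.Normal]
    (hK : ∀ g : G, g ∈ K ↔ (χ : G → ℂ) g = (χ : G → ℂ) 1) :
    Nat.card G / (Nat.card {g : G // (χ : G → ℂ) g = (χ : G → ℂ) 1} * charDegree (χ : G → ℂ)) =
      K.index / charDegree (χ : G → ℂ) := by
  rw [card_kernel_eq hK, ← Nat.div_div_eq_div_mul, ← Subgroup.card_mul_index K,
    Nat.mul_div_cancel_left _ Nat.card_pos]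

/-- The sum of the squared degrees over a quotient. -/
theorem sum_sq_quotient [Fintype G] (N : Subgroup G) [N.Normal]
    (s : Finset (IrrCharacter G)) (hs : ∀ χ, χ ∈ s ↔ ∀ n ∈ N, (χ : G → ℂ) n = (χ : G → ℂ) 1) :
    ∑ χ ∈ s, charDegree (χ : G → ℂ) ^ 2 = N.index := by
  classical
  haveI := Fintype.ofFinite (G ⧸ N)
  have h1 : ∑ χ ∈ s, ((χ : G → ℂ) 1) ^ 2 = (Nat.card (G ⧸ N) : ℂ) := by
    rw [Finset.sum_subtype s (p := fun χ : IrrCharacter G => ∀ n ∈ N, (χ : G → ℂ) n = (χ : G → ℂ) 1) hs,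
      ← sum_sq_deg (G := G ⧸ N)]
    exact (Fintype.sum_equiv (inflateEquiv N) _ _ fun ψ => by
      rw [inflateEquiv_apply, QuotientGroup.mk_one]).symm
  have h2 : ((∑ χ ∈ s, charDegree (χ : G → ℂ) ^ 2 : ℕ) : ℂ) = (N.index : ℂ) := by
    rw [Nat.cast_sum, Subgroup.index, ← h1]
    refine Finset.sum_congr rfl fun χ _ => ?_
    rw [char_one_eq_deg (irr_isCharacter χ.2), Nat.cast_pow, charDegree_eq_deg]
  exact_mod_cast h2

/-- Every prime divisor of the order divides some codegree. -/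
theorem exists_prime_dvd_codegree {p : ℕ} (hp : p.Prime) (hdvd : p ∣ Nat.card G) :
    ∃ χ : IrrCharacter G, p ∣
      Nat.card G / (Nat.card {g : G // (χ : G → ℂ) g = (χ : G → ℂ) 1} * charDegree (χ : G → ℂ)) := by
  classical
  haveI := Fintype.ofFinite G
  haveI := Fact.mk hp
  by_contra hne
  push Not at hne
  obtain ⟨N, ⟨hNn, hN⟩, hmax⟩ := Set.Finite.exists_maximalFor (fun K : Subgroup G => K)
    {K : Subgroup G | K.Normal ∧ p ∣ K.index} (Set.toFinite _)
    ⟨⊥, inferInstance, by rwa [Subgroup.index_bot]⟩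
  haveI := hNn
  set N' : Subgroup G := Subgroup.normalClosure ({g : G | ∃ k, orderOf g = p ^ k} ∪ (N : Set G))
  have hNN' : N ≤ N' := fun x hx => Subgroup.subset_normalClosure (Or.inr hx)
  have hidx : ¬ p ∣ N'.index := by
    intro h
    have hle : N' ≤ N := hmax ⟨inferInstance, h⟩ hNN'
    obtain ⟨x, hx⟩ := exists_prime_orderOf_dvd_card' (G := G ⧸ N) p hN
    obtain ⟨g, rfl⟩ := QuotientGroup.mk'_surjective N x
    obtain ⟨⟨y, -, -, hk, -⟩, hpr, -⟩ := preg_spec hp g
    have hzN : g * (preg p g)⁻¹ ∈ N := hle (Subgroup.subset_normalClosure (Or.inl hk))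
    have e : QuotientGroup.mk' N g = QuotientGroup.mk' N (preg p g) := by
      conv_lhs => rw [← inv_mul_cancel_right g (preg p g), map_mul]
      rw [show QuotientGroup.mk' N (g * (preg p g)⁻¹) = 1 from
        (QuotientGroup.eq_one_iff _).mpr hzN, one_mul]
    rw [e] at hx
    exact hpr ((dvd_of_eq hx.symm).trans (orderOf_map_dvd _ _))
  set s : Finset (IrrCharacter G) := Finset.univ.filter fun χ =>
    ∀ n ∈ N, (χ : G → ℂ) n = (χ : G → ℂ) 1
  set t : Finset (IrrCharacter G) := Finset.univ.filter fun χ =>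
    ∀ n ∈ N', (χ : G → ℂ) n = (χ : G → ℂ) 1
  have h1 := sum_sq_quotient N s fun χ => by simp [s]
  have h2 := sum_sq_quotient N' t fun χ => by simp [t]
  refine hidx (h2 ▸ ?_)
  have hts : t ⊆ s := fun χ hχ => by
    simp only [s, t, Finset.mem_filter, Finset.mem_univ, true_and] at hχ ⊢
    exact fun n hn => hχ n (hNN' hn)
  rw [← Finset.sum_sdiff hts] at h1
  refine (Nat.dvd_add_right (Finset.dvd_sum fun χ hχ => ?_)).mp (h1 ▸ hN)
  simp only [s, t, Finset.mem_sdiff, Finset.mem_filter, Finset.mem_univ, true_and] at hχ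
  obtain ⟨K, hKn, hK⟩ := exists_charKernel (irr_isCharacter χ.2)
  haveI := hKn
  have hNK : N ≤ K := fun n hn => (hK n).mpr (hχ.1 n hn)
  have hpK : p ∣ K.index := by
    by_contra hpK
    refine hχ.2 fun n hn => (hK n).mp ?_
    refine Subgroup.normalClosure_le_normal (Set.union_subset ?_ hNK) hn
    intro g ⟨k, hk⟩
    have h4 : orderOf (QuotientGroup.mk' K g) ∣ p ^ k := hk ▸ orderOf_map_dvd _ _
    have h5 : orderOf (QuotientGroup.mk' K g) ∣ K.index := orderOf_dvd_natCard _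
    have := Nat.dvd_gcd h4 h5
    rw [((hp.coprime_iff_not_dvd.mpr hpK).pow_left k).gcd_eq_one, Nat.dvd_one,
      orderOf_eq_one_iff] at this
    exact (QuotientGroup.eq_one_iff g).mp this
  refine dvd_pow ?_ two_ne_zero
  have hd := charDegree_dvd_index_kernel χ hK
  have h6 := hne χ
  rw [codegree_eq χ hK] at h6
  rw [← Nat.div_mul_cancel hd] at hpK
  exact (hp.dvd_mul.mp hpK).resolve_left h6

theorem codegree_dvd_card (χ : IrrCharacter G) :
    Nat.card G / (Nat.card {g : G // (χ : G → ℂ) g = (χ : G → ℂ) 1} * charDegree (χ : G → ℂ)) ∣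
      Nat.card G := by
  obtain ⟨K, hKn, hK⟩ := exists_charKernel (irr_isCharacter χ.2)
  haveI := hKn
  rw [codegree_eq χ hK]
  exact (Nat.div_dvd_of_dvd (charDegree_dvd_index_kernel χ hK)).trans (Subgroup.index_dvd_card K)

/-- A nontrivial character of degree prime to `p`. -/
theorem exists_irr_ne_one_deg_prime_to {p : ℕ} (hp : p.Prime) (hdvd : p ∣ Nat.card G) :
    ∃ χ : IrrCharacter G, (χ : G → ℂ) ≠ (fun _ => 1) ∧ ¬ p ∣ charDegree (χ : G → ℂ) := by
  classical
  haveI := Fintype.ofFinite G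
  by_contra h
  push Not at h
  let one : IrrCharacter G := ⟨fun _ => 1, isIrrCharacter_one⟩
  have h1 := sum_sq_quotient (G := G) ⊥ Finset.univ fun χ => by simp
  rw [Subgroup.index_bot, ← Finset.add_sum_erase _ _ (Finset.mem_univ one)] at h1
  have hone : charDegree ((one : IrrCharacter G) : G → ℂ) = 1 := by
    simp [one, charDegree]
  rw [hone, one_pow] at h1
  have h2 : p ∣ ∑ χ ∈ Finset.univ.erase one, charDegree (χ : G → ℂ) ^ 2 :=
    Finset.dvd_sum fun χ hχ =>
      dvd_pow (h χ fun e => (Finset.mem_erase.mp hχ).1 (Subtype.ext e)) two_ne_zero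
  exact hp.one_lt.ne' (Nat.dvd_one.mp ((Nat.dvd_add_left h2).mp (h1 ▸ hdvd)))

end Cfsg.Agent.Char
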