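import Cfsg.Agent.Lib.Char.CliffordInd
import Cfsg.Agent.Lib.Char.Inflate
import Mathlib

/-!
Gallagher's correspondence and averages over cosets.
-/

open scoped ComplexConjugate
open Cfsg

set_option autoImplicit false
set_option linter.style.haveILetI false
set_option linter.unusedSectionVars false

namespace Cfsg.Agent.Char

universe u
variable {G : Type u} [Group G] [Fintype G] (N : Subgroup G) [hN : N.Normal] [Fintype N]

theorem indFun_invariant (φ : N → ℂ) (hinv : ∀ (g : G) (n : N), φ (MulAut.conjNormal g n) = φ n) (n : N) :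
    indFun N φ n = (N.index : ℂ) * φ n := by
  rw [indFun_restrict_normal, Finset.sum_congr rfl (fun g _ => hinv g n), Finset.sum_const,
    Finset.card_univ, ← Nat.card_eq_fintype_card, ← N.index_mul_card, nsmul_eq_mul]
  have : (Nat.card N : ℂ) ≠ 0 := Nat.cast_ne_zero.2 Nat.card_pos.ne'
  push_cast
  field_simp

theorem norm_indFun_invariant {φ : N → ℂ} (hφ : IsIrrCharacter N φ)
    (hinv : ∀ (g : G) (n : N), φ (MulAut.conjNormal g n) = φ n) :
    classInner (indFun N φ) (indFun N φ) = (N.index : ℂ) := by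
  rw [frobenius_right N φ (isClassFunction_indFun N φ),
    show (fun n : N => indFun N φ n) = (N.index : ℂ) • φ from funext (indFun_invariant N φ hinv),
    classInner_smul_left, irr_self hφ, mul_one]

theorem gallagher (φ ϑ : N → ℂ) (hφ : IsIrrCharacter N φ) (hφinv : ∀ (g : G) (n : N), φ (MulAut.conjNormal g n) = φ n)
    (hϑinv : ∀ (g : G) (n : N), ϑ (MulAut.conjNormal g n) = ϑ n) (hprod : IsIrrCharacter N (φ * ϑ))
    {χ : G → ℂ} (hχ : IsCharacter G χ) (hext : ∀ n : N, χ n = ϑ n) :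
    Set.BijOn (fun β : G → ℂ => β * χ)
      {β : G → ℂ | IsIrrCharacter G β ∧ classInner (indFun N φ) β ≠ 0}
      {ψ : G → ℂ | IsIrrCharacter G ψ ∧ classInner (indFun N (φ * ϑ)) ψ ≠ 0} := by
  classical
  have hinv' : ∀ (g : G) (n : N), (φ * ϑ) (MulAut.conjNormal g n) = (φ * ϑ) n := fun g n => by
    simp only [Pi.mul_apply, hφinv, hϑinv]
  have hmul : indFun N (φ * ϑ) = indFun N φ * χ := funext fun g => by
    by_cases hg : g ∈ N
    · rw [Pi.mul_apply, show indFun N (φ * ϑ) g = _ from indFun_invariant N _ hinv' ⟨g, hg⟩,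
        show indFun N φ g = _ from indFun_invariant N _ hφinv ⟨g, hg⟩,
        show χ g = _ from hext ⟨g, hg⟩, Pi.mul_apply, mul_assoc]
    · rw [Pi.mul_apply, indFun_normal_not_mem N _ hg, indFun_normal_not_mem N _ hg, zero_mul]
  obtain ⟨e, he⟩ := exists_decomposition (isCharacter_indFun N (irr_isCharacter hφ))
  have hcoef := fun β => decomposition_coeff e he β
  have hdec : indFun N (φ * ϑ) = ∑ β : IrrCharacter G, (e β : ℂ) • ((β : G → ℂ) * χ) := by
    rw [hmul, he, Finset.sum_mul]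
    simp [← Nat.cast_smul_eq_nsmul ℂ]
  have hch : ∀ β : IrrCharacter G, IsCharacter G ((β : G → ℂ) * χ) := fun β =>
    isCharacter_mul (irr_isCharacter β.2) hχ
  choose M hM using fun β β' : IrrCharacter G => classInner_natCast (hch β) (hch β')
  have hχ1 : χ 1 ≠ 0 := by
    rw [show χ 1 = χ ((1 : N) : G) from rfl, hext]
    intro h0
    exact irr_one_ne_zero hprod (by rw [Pi.mul_apply, h0, mul_zero])
  have hdiag : ∀ β, 1 ≤ M β β := fun β => Nat.one_le_iff_ne_zero.2 fun h0 => by
    have := classInner_self_eq_zero (a := (β : G → ℂ) * χ) (by rw [hM, h0, Nat.cast_zero])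
    have h1 := congrFun this 1
    rcases mul_eq_zero.1 h1 with h2 | h2
    · exact irr_one_ne_zero β.2 h2
    · exact hχ1 h2
  have hsum : ∑ β, e β * e β = ∑ β, ∑ β', e β * (e β' * M β β') := by
    have h1 : (N.index : ℂ) = ∑ β, (e β : ℂ) * e β := by
      rw [← norm_indFun_invariant N hφ hφinv]
      nth_rewrite 1 [he]
      rw [classInner_sum_left]
      refine Finset.sum_congr rfl fun β _ => ?_
      rw [← Nat.cast_smul_eq_nsmul ℂ, classInner_smul_left, ← classInner_symm, hcoef, map_natCast]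
    have h2 : (N.index : ℂ) = ∑ β, ∑ β', (e β : ℂ) * ((e β' : ℂ) * M β β') := by
      rw [← norm_indFun_invariant N hprod hinv', hdec, classInner_sum_left]
      refine Finset.sum_congr rfl fun β _ => ?_
      rw [classInner_smul_left, classInner_sum_right, Finset.mul_sum]
      refine Finset.sum_congr rfl fun β' _ => ?_
      rw [classInner_smul_right, map_natCast, hM]
    exact_mod_cast h1.symm.trans h2
  have key : ∀ β β', e β ≠ 0 → e β' ≠ 0 → M β β' = if β = β' then 1 else 0 := by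
    have hle : ∀ β ∈ Finset.univ, e β * e β ≤ ∑ β', e β * (e β' * M β β') := fun β _ =>
      le_trans (Nat.mul_le_mul_left _ (Nat.le_mul_of_pos_right _ (hdiag β)))
        (Finset.single_le_sum (f := fun β' => e β * (e β' * M β β')) (fun _ _ => Nat.zero_le _)
          (Finset.mem_univ β))
    have heq := (Finset.sum_eq_sum_iff_of_le hle).1 hsum
    intro β β' hb hb'
    have h := heq β (Finset.mem_univ β)
    rw [← Finset.add_sum_erase _ _ (Finset.mem_univ β)] at h
    have h1 : e β * e β ≤ e β * (e β * M β β) :=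
      Nat.mul_le_mul_left _ (Nat.le_mul_of_pos_right _ (hdiag β))
    split_ifs with hbb
    · subst hbb
      have h2 : e β * (e β * M β β) = e β * (e β * 1) := by rw [mul_one]; omega
      exact Nat.eq_of_mul_eq_mul_left (Nat.pos_of_ne_zero hb)
        (Nat.eq_of_mul_eq_mul_left (Nat.pos_of_ne_zero hb) h2)
    · have h2 : ∑ x ∈ Finset.univ.erase β, e β * (e x * M β x) = 0 := by omega
      have h3 := (Finset.sum_eq_zero_iff.1 h2) β' (Finset.mem_erase.2 ⟨Ne.symm hbb, Finset.mem_univ _⟩)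
      simpa [hb, hb'] using h3
  have hne : ∀ β : IrrCharacter G, classInner (indFun N φ) (β : G → ℂ) ≠ 0 ↔ e β ≠ 0 := fun β => by
    rw [hcoef β, Nat.cast_ne_zero]
  have hirr : ∀ β, e β ≠ 0 → IsIrrCharacter G ((β : G → ℂ) * χ) := fun β hb =>
    isIrr_of_norm_one (hch β) (by rw [hM, key β β hb hb, if_pos rfl, Nat.cast_one])
  refine ⟨?_, ?_, ?_⟩
  · rintro β ⟨hβ, hβφ⟩
    have hb := (hne ⟨β, hβ⟩).1 hβφ
    refine ⟨hirr ⟨β, hβ⟩ hb, ?_⟩
    show classInner (indFun N (φ * ϑ)) (((⟨β, hβ⟩ : IrrCharacter G) : G → ℂ) * χ) ≠ 0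
    rw [hdec, classInner_sum_left, Finset.sum_eq_single (⟨β, hβ⟩ : IrrCharacter G)]
    · rw [classInner_smul_left, hM, key _ _ hb hb, if_pos rfl, Nat.cast_one, mul_one]
      exact Nat.cast_ne_zero.2 hb
    · intro b _ hne'
      by_cases h0 : e b = 0
      · rw [classInner_smul_left, h0, Nat.cast_zero, zero_mul]
      · rw [classInner_smul_left, hM, key _ _ h0 hb, if_neg hne', Nat.cast_zero, mul_zero]
    · simp
  · rintro β ⟨hβ, hβφ⟩ β' ⟨hβ', hβφ'⟩ heq
    by_contra hne'
    have h1 := key ⟨β, hβ⟩ ⟨β', hβ'⟩ ((hne _).1 hβφ) ((hne _).1 hβφ')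
    rw [if_neg (fun h => hne' (congrArg Subtype.val h))] at h1
    have h2 := hM ⟨β, hβ⟩ ⟨β', hβ'⟩
    rw [h1, Nat.cast_zero] at h2
    have h3 : classInner (β * χ) (β * χ) = 0 := by
      conv_lhs => arg 2; rw [show β * χ = β' * χ from heq]
      exact h2
    rw [irr_self (hirr ⟨β, hβ⟩ ((hne _).1 hβφ))] at h3
    exact one_ne_zero h3
  · rintro ψ ⟨hψ, hψφ⟩
    rw [hdec, classInner_sum_left] at hψφ
    obtain ⟨β, -, hb⟩ := Finset.exists_ne_zero_of_sum_ne_zero hψφ
    rw [classInner_smul_left] at hb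
    obtain ⟨hb1, hb2⟩ := ne_zero_and_ne_zero_of_mul hb
    have hb0 : e β ≠ 0 := fun h0 => hb1 (by rw [h0, Nat.cast_zero])
    refine ⟨β, ⟨β.2, (hne β).2 hb0⟩, ?_⟩
    by_contra hne'
    exact hb2 (by
      have := irrC_orth ⟨_, hirr β hb0⟩ ⟨ψ, hψ⟩
      rw [if_neg (fun h => hne' (congrArg Subtype.val h))] at this
      exact this)

theorem constituent_indFun_one_iff {β : G → ℂ} (hβ : IsIrrCharacter G β) :
    classInner (indFun N (fun _ => 1)) β ≠ 0 ↔ ∀ n : N, β n = β 1 := by
  rw [frobenius N _ (isClassFunction_character (irr_isCharacter hβ))]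
  have h1 := isIrrCharacter_one (G := N)
  constructor
  · intro h n
    have h' : classInner (fun n : N => β n) (fun _ => 1) ≠ 0 := fun h0 => h (by
      rw [← classInner_symm, h0, map_zero])
    have hc := clifford_restrict ⟨β, hβ⟩ ⟨_, h1⟩ h'
    have hs : ∀ ψ ∈ cliffOrbit N (⟨_, h1⟩ : IrrCharacter N), ∀ k : N, (ψ : N → ℂ) k = 1 := fun ψ hψ k => by
      obtain ⟨g, rfl⟩ := mem_cliffOrbit.1 hψ
      rw [irrComp_apply]
    have e1 := congrFun hc n
    have e2 := congrFun hc 1
    simp only [Pi.smul_apply, Finset.sum_apply, OneMemClass.coe_one] at e1 e2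
    rw [e1, e2, Finset.sum_congr rfl (fun ψ hψ => hs ψ hψ n), Finset.sum_congr rfl (fun ψ hψ => hs ψ hψ 1)]
  · intro h h0
    refine irr_one_ne_zero hβ ?_
    rw [show (fun n : N => β n) = (β 1) • (fun _ => 1) from funext fun n => by simp [h n],
      classInner_smul_right, irr_self h1, mul_one] at h0
    simpa using congrArg conj h0

/-- The average of a function over the cosets. -/
noncomputable def cosetAvg (a : G → ℂ) : G → ℂ := fun g => (Nat.card N : ℂ)⁻¹ * ∑ n : N, a ((n : G) * g)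

theorem cosetAvg_mul (a : G → ℂ) (m : N) (g : G) : cosetAvg N a ((m : G) * g) = cosetAvg N a g := by
  simp only [cosetAvg, ← mul_assoc, ← Subgroup.coe_mul]
  congr 1
  exact Fintype.sum_equiv (Equiv.mulRight m) _ _ fun n => rfl

theorem cosetAvg_class {a : G → ℂ} (ha : IsClassFunction G a) : IsClassFunction G (cosetAvg N a) := by
  intro g k
  simp only [cosetAvg]
  congr 1
  refine Fintype.sum_equiv (MulAut.conjNormal k⁻¹ : MulAut N).toEquiv _ _ fun n => ?_
  show a (n * (k * g * k⁻¹)) = a ((MulAut.conjNormal k⁻¹ n : N) * g)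
  rw [← ha ((MulAut.conjNormal k⁻¹ n : N) * g) k, MulAut.conjNormal_apply]
  congr 1
  group

theorem classInner_cosetAvg (a β : G → ℂ) (hβ : ∀ (n : N) (g : G), β ((n : G) * g) = β g) :
    classInner (cosetAvg N a) β = classInner a β := by
  simp only [classInner, cosetAvg, mul_assoc, Finset.sum_mul]
  congr 1
  rw [← Finset.mul_sum, Finset.sum_comm]
  have : ∀ n : N, ∑ g : G, a ((n : G) * g) * conj (β g) = ∑ g : G, a g * conj (β g) := fun n =>
    Fintype.sum_equiv (Equiv.mulLeft (n : G)) _ _ fun g => by simp [hβ]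
  rw [Finset.sum_congr rfl fun n _ => this n, Finset.sum_const, Finset.card_univ, nsmul_eq_mul,
    ← Nat.card_eq_fintype_card, ← mul_assoc, inv_mul_cancel₀ (Nat.cast_ne_zero.2 Nat.card_pos.ne'), one_mul]

theorem trivial_mul {β : G → ℂ} (hβ : IsIrrCharacter G β) (h : ∀ n : N, β n = β 1) (n : N) (g : G) :
    β ((n : G) * g) = β g := by
  haveI := Fintype.ofFinite (G ⧸ N)
  obtain ⟨β', hβ'⟩ := exists_deflate N hβ (fun k hk => h ⟨k, hk⟩)
  rw [← hβ', ← hβ', QuotientGroup.mk_mul, (QuotientGroup.eq_one_iff (n : G)).2 n.2, one_mul]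

theorem coset_ext {a b : G → ℂ} (ha : IsClassFunction G a) (hb : IsClassFunction G b)
    (ha' : ∀ (n : N) (g : G), a ((n : G) * g) = a g) (hb' : ∀ (n : N) (g : G), b ((n : G) * g) = b g)
    (h : ∀ β : G → ℂ, IsIrrCharacter G β → (∀ n : N, β n = β 1) → classInner a β = classInner b β) :
    a = b := by
  haveI := Fintype.ofFinite (G ⧸ N)
  have hout : ∀ {f : G → ℂ}, (∀ (n : N) (g : G), f ((n : G) * g) = f g) →
      ∀ g : G, f (Quotient.out (QuotientGroup.mk g : G ⧸ N)) = f g := fun {f} hf g => by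
    obtain ⟨k, hk⟩ := QuotientGroup.mk_out_eq_mul N g
    rw [hk, show g * (k : G) = ((⟨g * k * g⁻¹, hN.conj_mem _ k.2 g⟩ : N) : G) * g by simp]
    exact hf _ g
  have hcl : ∀ {f : G → ℂ}, IsClassFunction G f → (∀ (n : N) (g : G), f ((n : G) * g) = f g) →
      IsClassFunction (G ⧸ N) (fun q => f (Quotient.out q)) := fun {f} hf hf' q r => by
    obtain ⟨x, rfl⟩ := QuotientGroup.mk_surjective q
    obtain ⟨y, rfl⟩ := QuotientGroup.mk_surjective r
    rw [← QuotientGroup.mk_inv, ← QuotientGroup.mk_mul, ← QuotientGroup.mk_mul]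
    beta_reduce
    rw [hout hf', hout hf', hf]
  have hq := classFun_ext (hcl ha ha') (hcl hb hb') fun β => by
    rw [← classInner_inflate N, ← classInner_inflate N]
    simp only [hout ha', hout hb']
    exact h _ (isIrr_inflate N β.2) fun n => by
      rw [(QuotientGroup.eq_one_iff (n : G)).2 n.2, QuotientGroup.mk_one]
  funext g
  have := congrFun hq (QuotientGroup.mk g)
  simpa only [hout ha', hout hb'] using this

end Cfsg.Agent.Char
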