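import Cfsg.Agent.Lib.Char.GlaubermanOver
import Cfsg.Agent.Lib.Char.Coprime
import Cfsg.Agent.Lib.Char.Gallagher
import Cfsg.Agent.Lib.Char.Codegree

/-!
# Characters of degree prime to a coprime complement
-/

set_option autoImplicit false
set_option linter.unusedSectionVars false
set_option linter.style.haveILetI false

namespace Cfsg.Agent.Char

open Cfsg Module
open scoped ComplexConjugate

universe u v

theorem card_irr_congr {A B : Type*} [Group A] [Group B] [Finite A] [Finite B] (e : A ≃* B) :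
    Nat.card (IrrCharacter A) = Nat.card (IrrCharacter B) := by
  classical
  haveI := Fintype.ofFinite A
  haveI := Fintype.ofFinite B
  refine Nat.card_congr
    { toFun := fun χ => ⟨fun b => (χ : A → ℂ) (e.symm b), isIrrCharacter_comp_equiv e.symm χ.2⟩
      invFun := fun χ => ⟨fun a => (χ : B → ℂ) (e a), isIrrCharacter_comp_equiv e χ.2⟩
      left_inv := fun χ => Subtype.ext (funext fun a => by simp)
      right_inv := fun χ => Subtype.ext (funext fun b => by simp) }

/-- Invariant characters for a coprime solvable action are counted by the fixed points. -/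
theorem card_invariant_fixed : ∀ (n : ℕ) (S : Type v) [Group S] [Finite S] (G : Type u) [Group G]
    [Fintype G] (φ : S →* MulAut G), Nat.card S = n → Group.IsSolvable S →
    (Nat.card G).Coprime (Nat.card S) →
    Nat.card {χ : IrrCharacter G // ∀ s g, (χ : G → ℂ) (φ s g) = (χ : G → ℂ) g} =
      Nat.card (IrrCharacter (fixSub φ (⊤ : Subgroup S))) := by
  intro n
  induction n using Nat.strong_induction_on with
  | _ n ih =>
    intro S _ _ G _ _ φ hn hsol hco
    classical
    rcases subsingleton_or_nontrivial S with hS | hS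
    · have h1 : ∀ s g, φ s g = g := fun s g => by rw [Subsingleton.elim s 1, map_one]; rfl
      rw [Nat.card_congr (Equiv.subtypeUnivEquiv fun χ : IrrCharacter G => fun s g => by rw [h1])]
      exact (card_irr_congr
        ((MulEquiv.subgroupCongr (show fixSub φ (⊤ : Subgroup S) = ⊤ from
          eq_top_iff.2 fun g _ s _ => h1 s g)).trans Subgroup.topEquiv)).symm
    obtain ⟨N, hN, hNne, hmin⟩ := Solv.exists_minimal_normal (G := S)
    obtain ⟨-, q, hq, -, hNp⟩ := Solv.minimal_normal_elementaryAbelian N inferInstance hNne hmin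
    obtain ⟨M, hM⟩ := exists_pModular hq
    haveI := Fact.mk hq
    have hqN : q ∣ Nat.card N := by
      haveI := (Subgroup.nontrivial_iff_ne_bot N).2 hNne
      obtain ⟨k, hk, e⟩ := hNp.nontrivial_iff_card.mp inferInstance
      rw [e]
      exact dvd_pow_self q hk.ne'
    have hqG : ¬ q ∣ Nat.card G := fun h =>
      hq.ne_one (Nat.eq_one_of_dvd_coprimes hco h (hqN.trans (Subgroup.card_subgroup_dvd_card N)))
    let C := fixSub φ N
    let ψ₀ := restrictAct φ C fun s x hx => fixSub_stable φ s hx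
    have h : CoprimeFix M q (φ.comp N.subtype) C.subtype :=
      { pmod := hM, pgroup := hNp, coprime := hqG, inj := C.subtype_injective
        range := fun g => by
          rw [Subgroup.range_subtype]
          exact ⟨fun hg s => hg s s.2, fun hg n hn => hg ⟨n, hn⟩⟩ }
    have hker : N ≤ ψ₀.ker := fun x hx =>
      MonoidHom.mem_ker.mpr (MulEquiv.ext fun c => Subtype.ext (c.2 x hx))
    let ψ : S ⧸ N →* MulAut C := QuotientGroup.lift N ψ₀ hker
    haveI : Fintype C := Fintype.ofFinite _
    have hcoC : (Nat.card C).Coprime (Nat.card (S ⧸ N)) :=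
      (hco.coprime_dvd_left (Subgroup.card_subgroup_dvd_card C)).coprime_dvd_right
        (Subgroup.card_quotient_dvd_card N)
    have hIH := ih _ (hn ▸ Solv.card_quotient_lt N hNne) (S ⧸ N) C ψ rfl
      (Group.isSolvable_of_surjective (QuotientGroup.mk'_surjective N)) hcoC
    have hnorm : ∀ s : S, ∀ x : N, ∃ y : N,
        ∀ g, φ s ((φ.comp N.subtype) x g) = (φ.comp N.subtype) y (φ s g) := fun s x => by
      refine ⟨⟨s * x * s⁻¹, hN.conj_mem x x.2 s⟩, fun g => ?_⟩
      show φ s (φ x g) = φ (s * x * s⁻¹) (φ s g)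
      rw [← MulAut.mul_apply, ← map_mul, ← MulAut.mul_apply, ← map_mul]
      congr 1
      group
    have e1 : Nat.card {β : IrrCharacter C // ∀ s g, (β : C → ℂ) (ψ s g) = (β : C → ℂ) g} =
        Nat.card {χ : IrrCharacter G // ∀ s g, (χ : G → ℂ) (φ s g) = (χ : G → ℂ) g} := by
      have hto : ∀ β : IrrCharacter C, (∀ s g, (β : C → ℂ) (ψ s g) = (β : C → ℂ) g) →
          ∀ s g, (h.corr β : G → ℂ) (φ s g) = (h.corr β : G → ℂ) g := fun β hβ s g => by
        have e := h.corr_comp (φ s) (ψ₀ s) (fun c => rfl) (hnorm s) β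
        rw [show irrComp (ψ₀ s) β = β from Subtype.ext (funext fun c => hβ (s : S ⧸ N) c)] at e
        exact (congrFun (congrArg Subtype.val e) g).symm
      refine Nat.card_eq_of_bijective (fun β => ⟨h.corr β.1, hto β.1 β.2⟩)
        ⟨fun a b hab => Subtype.ext (h.corr_injective (congrArg Subtype.val hab)), fun χ => ?_⟩
      obtain ⟨β, hβ⟩ := h.corr_surjective (χ := χ.1) fun x g => χ.2 x g
      refine ⟨⟨β, fun s g => ?_⟩, Subtype.ext hβ⟩
      obtain ⟨s, rfl⟩ := QuotientGroup.mk_surjective s
      have e := h.corr_comp (φ s) (ψ₀ s) (fun c => rfl) (hnorm s) β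
      rw [hβ, show irrComp (φ s) χ.1 = χ.1 from Subtype.ext (funext fun x => χ.2 s x), ← hβ] at e
      exact congrFun (congrArg Subtype.val (h.corr_injective e)) g
    rw [← e1, hIH]
    refine card_irr_congr
      { toFun := fun c => ⟨((c : C) : G), fun s _ =>
          congrArg Subtype.val (c.2 (s : S ⧸ N) (Subgroup.mem_top _))⟩
        invFun := fun g => ⟨⟨(g : G), fun n _ => g.2 n (Subgroup.mem_top _)⟩, fun q _ => by
          obtain ⟨s, rfl⟩ := QuotientGroup.mk_surjective q
          exact Subtype.ext (g.2 s (Subgroup.mem_top _))⟩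
        left_inv := fun c => rfl
        right_inv := fun g => rfl
        map_mul' := fun a b => rfl }

section Complement

variable {G : Type u} [Group G] [Fintype G] (K : Subgroup G) [K.Normal] [Fintype K]

/-- The orbit of a character of a normal subgroup has length dividing the index. -/
theorem card_cliffOrbit_dvd_index (θ : IrrCharacter K) : (cliffOrbit K θ).card ∣ K.index := by
  classical
  letI := irrAction (MulAut.conjNormal : G →* MulAut K)
  have hle : K ≤ MulAction.stabilizer G θ := fun k hk => by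
    rw [MulAction.mem_stabilizer_iff]
    refine Subtype.ext (funext fun n => ?_)
    show (θ : K → ℂ) (MulAut.conjNormal k⁻¹ n) = (θ : K → ℂ) n
    rw [← isClassFunction_character (irr_isCharacter θ.2) n (⟨k, hk⟩ : K)⁻¹]
    exact congrArg _ (Subtype.ext (by simp))
  have hset : (cliffOrbit K θ : Set (IrrCharacter K)) = MulAction.orbit G θ := by
    ext ψ
    rw [Finset.mem_coe, mem_cliffOrbit]
    constructor
    · rintro ⟨g, rfl⟩
      exact ⟨g⁻¹, show irrComp (MulAut.conjNormal g⁻¹⁻¹) θ = _ by rw [inv_inv]⟩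
    · rintro ⟨g, rfl⟩
      exact ⟨g⁻¹, rfl⟩
  have h := Subgroup.index_dvd_of_le hle
  rwa [MulAction.index_stabilizer, ← hset, Set.ncard_coe_finset] at h

/-- Characters of degree prime to a coprime complement. -/
theorem card_coprime_degree_complement (H : Subgroup G) (hcompl : H.IsComplement' K)
    (hcop : (Nat.card K).Coprime (Nat.card H)) :
    Nat.card {χ : IrrCharacter G // (charDegree (χ : G → ℂ)).Coprime (Nat.card H)} =
      Nat.card {θ : IrrCharacter K //
        ∀ (g : G) (n : K), (θ : K → ℂ) (MulAut.conjNormal g n) = (θ : K → ℂ) n} *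
        Nat.card (H →* ℂˣ) := by
  classical
  have hidx : K.index = Nat.card H := hcompl.index_eq_card
  have hext : ∀ θ : {θ : IrrCharacter K //
      ∀ (g : G) (n : K), (θ : K → ℂ) (MulAut.conjNormal g n) = (θ : K → ℂ) n},
      ∃ χ : G → ℂ, IsIrrCharacter G χ ∧ ∀ n : K, χ n = (θ.1 : K → ℂ) n := by
    intro θ
    have hd : K.index.Coprime (deg (θ.1 : K → ℂ)) :=
      hidx ▸ hcop.symm.coprime_dvd_right (deg_dvd_card θ.1.2)
    obtain ⟨d, σ, hσ⟩ := irr_isCharacter θ.1.2
    have hinv : ∀ (g : G) (n : K), detHom σ (MulAut.conjNormal g n) = detHom σ n := fun g n => by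
      apply Units.ext
      have e := detChar_conj_inv K (irr_isCharacter θ.1.2) θ.2 g n
      rw [detChar_eq_hom σ hσ] at e
      exact e
    have ho : orderOf (detHom σ) ∣ Nat.card K :=
      orderOf_dvd_of_pow_eq_one (MonoidHom.ext fun z => by
        rw [MonoidHom.pow_apply, MonoidHom.one_apply, ← map_pow, pow_card_eq_one', map_one])
    obtain ⟨μ, hμ, -⟩ := exists_linear_extension_coprime K (detHom σ) hinv
      (hidx ▸ hcop.symm.coprime_dvd_right ho)
    exact exists_extension_of_det_extension K θ.1.2 θ.2 (deg (θ.1 : K → ℂ))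
      (char_one_eq_deg (irr_isCharacter θ.1.2)) hd μ fun n => by
        rw [hμ, detChar_eq_hom σ hσ]
  choose ext hext hres using hext
  let pr : G →* H :=
    (hcompl.QuotientMulEquiv).toMonoidHom.comp (QuotientGroup.mk' K)
  have hprK : ∀ n : K, pr (n : G) = 1 := fun n => by
    show hcompl.QuotientMulEquiv _ = 1
    rw [QuotientGroup.mk'_apply, (QuotientGroup.eq_one_iff (n : G)).2 n.2, map_one]
  have hprs : Function.Surjective pr :=
    hcompl.QuotientMulEquiv.surjective.comp (QuotientGroup.mk'_surjective K)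
  let lift : (H →* ℂˣ) → G → ℂ := fun β g => (β (pr g) : ℂ)
  have hlift : ∀ β : H →* ℂˣ, IsIrrCharacter G (lift β) ∧
      classInner (indFun K (fun _ => 1)) (lift β) ≠ 0 := fun β => by
    have h1 : IsIrrCharacter G (lift β) := by
      have := isIrr_linear_mul (isIrrCharacter_one (G := G)) (β.comp pr)
      simpa [lift] using this
    refine ⟨h1, (constituent_indFun_one_iff K h1).2 fun n => ?_⟩
    simp [lift, hprK]
  have gal : ∀ θ : {θ : IrrCharacter K //
      ∀ (g : G) (n : K), (θ : K → ℂ) (MulAut.conjNormal g n) = (θ : K → ℂ) n},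
      Set.BijOn (fun β : G → ℂ => β * ext θ)
        {β : G → ℂ | IsIrrCharacter G β ∧ classInner (indFun K (fun _ => 1)) β ≠ 0}
        {ψ : G → ℂ | IsIrrCharacter G ψ ∧ classInner (indFun K (θ.1 : K → ℂ)) ψ ≠ 0} := fun θ => by
    have := gallagher K (fun _ => 1) (θ.1 : K → ℂ) isIrrCharacter_one (fun _ _ => rfl) θ.2
      (by simpa [show ((fun _ => 1) * (θ.1 : K → ℂ)) = (θ.1 : K → ℂ) from one_mul _] using θ.1.2)
      (irr_isCharacter (hext θ)) (hres θ)
    rwa [show ((fun _ => 1) * (θ.1 : K → ℂ)) = (θ.1 : K → ℂ) from one_mul _] at this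
  have hdeg : ∀ θ, ∀ β : H →* ℂˣ,
      charDegree (lift β * ext θ) = deg (θ.1 : K → ℂ) := fun θ β => by
    rw [charDegree_eq_deg, deg, deg]
    congr 2
    show lift β 1 * ext θ 1 = _
    simp only [lift, map_one, Units.val_one, one_mul]
    exact hres θ 1
  rw [← Nat.card_prod]
  refine (Nat.card_eq_of_bijective (fun x => ⟨⟨lift x.2 * ext x.1,
    ((gal x.1).mapsTo (hlift x.2)).1⟩, (congrArg (fun k => Nat.Coprime k (Nat.card H))
      (hdeg x.1 x.2)).mpr (hcop.coprime_dvd_left (deg_dvd_card x.1.1.2))⟩) ⟨?_, ?_⟩).symm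
  · rintro ⟨θ, β⟩ ⟨θ', β'⟩ hab
    have e : lift β * ext θ = lift β' * ext θ' := congrArg (fun y => (y.1 : G → ℂ)) hab
    have hθ : θ = θ' := Subtype.ext (Subtype.ext (funext fun n => by
      have := congrFun e (n : G)
      simpa [lift, hprK, hres] using this))
    subst hθ
    have e2 := (gal θ).injOn (hlift β) (hlift β') e
    refine Prod.ext rfl (MonoidHom.ext fun x => Units.ext ?_)
    obtain ⟨g, rfl⟩ := hprs x
    exact congrFun e2 g
  · rintro ⟨χ, hχ⟩
    obtain ⟨θ, hθ⟩ : ∃ θ : IrrCharacter K,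
        classInner (fun n : K => (χ : G → ℂ) n) (θ : K → ℂ) ≠ 0 := by
      by_contra h
      push Not at h
      have h1 := congrFun (classFun_expansion
        (isClassFunction_character (isCharacter_comp K.subtype (irr_isCharacter χ.2)))) 1
      rw [Finset.sum_apply, Finset.sum_eq_zero fun η _ => by
        rw [show classInner ((χ : G → ℂ) ∘ K.subtype) (η : K → ℂ) = 0 from h η,
          zero_smul]; rfl] at h1
      exact irr_one_ne_zero χ.2 h1
    have hcl := congrFun (clifford_restrict χ θ hθ) 1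
    obtain ⟨e, he⟩ := classInner_natCast (isCharacter_comp K.subtype (irr_isCharacter χ.2))
      (irr_isCharacter θ.2)
    rw [show classInner (fun n : K => (χ : G → ℂ) n) (θ : K → ℂ) = (e : ℂ) from he] at hcl
    have hsum : ∀ ψ ∈ cliffOrbit K θ, (ψ : K → ℂ) 1 = (θ : K → ℂ) 1 := fun ψ hψ => by
      obtain ⟨g, rfl⟩ := mem_cliffOrbit.1 hψ
      rw [irrComp_apply, map_one]
    simp only [OneMemClass.coe_one, Pi.smul_apply, Finset.sum_apply, smul_eq_mul] at hcl
    rw [Finset.sum_congr rfl hsum, Finset.sum_const, nsmul_eq_mul] at hcl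
    simp only [char_one_eq_deg (irr_isCharacter χ.2), char_one_eq_deg (irr_isCharacter θ.2)] at hcl
    have hdvd : deg (χ : G → ℂ) = e * ((cliffOrbit K θ).card * deg (θ : K → ℂ)) := by
      exact_mod_cast hcl
    rw [charDegree_eq_deg] at hχ
    have ht : (cliffOrbit K θ).card = 1 := Nat.eq_one_of_dvd_coprimes hχ
      (hdvd ▸ Dvd.dvd.mul_left (Dvd.intro _ rfl) e) (hidx ▸ card_cliffOrbit_dvd_index K θ)
    have hinv : ∀ (g : G) (n : K), (θ : K → ℂ) (MulAut.conjNormal g n) = (θ : K → ℂ) n := fun g n => by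
      have := Finset.card_le_one.1 ht.le _ (mem_cliffOrbit.2 ⟨g, rfl⟩) θ (self_mem_cliffOrbit θ)
      exact congrFun (congrArg Subtype.val this) n
    have hmem : IsIrrCharacter G (χ : G → ℂ) ∧ classInner (indFun K (θ : K → ℂ)) (χ : G → ℂ) ≠ 0 := by
      refine ⟨χ.2, ?_⟩
      rw [frobenius K _ (isClassFunction_character (irr_isCharacter χ.2)), ← classInner_symm]
      exact (map_ne_zero (starRingEnd ℂ)).2 hθ
    obtain ⟨β, ⟨hβ, hβ1⟩, hβχ⟩ := (gal ⟨θ, hinv⟩).surjOn hmem
    have hβK := (constituent_indFun_one_iff K hβ).1 hβ1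
    haveI := Fintype.ofFinite (G ⧸ K)
    obtain ⟨β', hβ'⟩ := exists_deflate (N := K) hβ fun n hn => hβK ⟨n, hn⟩
    have hb1 : deg β ∣ K.index := by
      rw [Subgroup.index, show deg β = deg (β' : G ⧸ K → ℂ) from by
        rw [deg, deg]; congr 2; rw [← hβ' 1]; rfl]
      exact deg_dvd_card β'.2
    have hb2 : deg β ∣ deg (χ : G → ℂ) := by
      refine ⟨deg (θ : K → ℂ), ?_⟩
      have := congrFun hβχ 1
      simp only [Pi.mul_apply] at this
      rw [char_one_eq_deg (irr_isCharacter hβ), char_one_eq_deg (irr_isCharacter χ.2),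
        show ext ⟨θ, hinv⟩ 1 = (θ : K → ℂ) 1 from hres ⟨θ, hinv⟩ 1,
        char_one_eq_deg (irr_isCharacter θ.2)] at this
      exact_mod_cast this.symm
    have hb : β 1 = 1 := by
      rw [char_one_eq_deg (irr_isCharacter hβ),
        Nat.eq_one_of_dvd_coprimes hχ hb2 (hidx ▸ hb1), Nat.cast_one]
    obtain ⟨l, rfl⟩ := exists_hom_of_degree_one (irr_isCharacter hβ) hb
    have hlK : ∀ n : K, l (n : G) = 1 := fun n => Units.ext (by simpa using hβK n)
    have hle : K ≤ l.ker := fun g hg => hlK ⟨g, hg⟩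
    refine ⟨(⟨θ, hinv⟩, ((QuotientGroup.lift K l hle).comp
      hcompl.QuotientMulEquiv.symm.toMonoidHom)), Subtype.ext (Subtype.ext ?_)⟩
    rw [← hβχ]
    funext g
    show (QuotientGroup.lift K l hle (hcompl.QuotientMulEquiv.symm (hcompl.QuotientMulEquiv
      (QuotientGroup.mk g))) : ℂ) * ext ⟨θ, hinv⟩ g = _
    rw [MulEquiv.symm_apply_apply]
    rfl

end Complement

end Cfsg.Agent.Char
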