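import Cfsg.Agent.Lib.Char.PSolvHeight
import Cfsg.Agent.Lib.Char.CoprimeMcKay
import Cfsg.Agent.Lib.Char.GlaubermanOver
import Cfsg.Agent.Lib.Char.DegreeDvd
import Cfsg.Agent.Lib.Solv.PSolvHall
import Cfsg.Agent.Lib.Solv.Parts
import Cfsg.Agent.Lib.Char.Inflate

/-!
# All degrees prime to `p` in a `p`-solvable group
-/

set_option autoImplicit false
set_option linter.unusedSectionVars false
set_option linter.style.haveILetI false

namespace Cfsg.Agent.Char

open Cfsg
open scoped ComplexConjugate

universe u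

variable {G : Type u} [Group G] [Fintype G]

/-- The orbit length times the degree of a constituent divides the degree. -/
theorem orbit_mul_deg_dvd (N : Subgroup G) [N.Normal] [Fintype N] (χ : IrrCharacter G)
    (θ : IrrCharacter N) (hθ : classInner (fun n : N => (χ : G → ℂ) n) (θ : N → ℂ) ≠ 0) :
    (cliffOrbit N θ).card * deg (θ : N → ℂ) ∣ deg (χ : G → ℂ) := by
  obtain ⟨m, hm⟩ := classInner_natCast (isCharacter_comp N.subtype (irr_isCharacter χ.2))
    (irr_isCharacter θ.2)
  have h := congrFun (clifford_restrict χ θ hθ) 1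
  rw [Pi.smul_apply, smul_eq_mul, Finset.sum_apply,
    Finset.sum_congr rfl (g := fun _ => (θ : N → ℂ) 1) fun ψ hψ => by
      obtain ⟨g, rfl⟩ := mem_cliffOrbit.mp hψ
      rw [irrComp_apply, map_one],
    Finset.sum_const, nsmul_eq_mul,
    show classInner (fun n : N => (χ : G → ℂ) n) (θ : N → ℂ) = (m : ℂ) from hm,
    char_one_eq_deg (irr_isCharacter θ.2)] at h
  simp only [OneMemClass.coe_one] at h
  rw [char_one_eq_deg (irr_isCharacter χ.2)] at h
  exact ⟨m, Nat.cast_injective (R := ℂ) (by rw [h]; push_cast; ring)⟩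

/-- Elements with equal values at all characters are conjugate. -/
theorem isConj_of_irr_eq {g h : G} (heq : ∀ χ : IrrCharacter G, (χ : G → ℂ) g = (χ : G → ℂ) h) :
    IsConj g h := by
  by_contra hc
  have h1 := second_orth g h
  rw [if_neg hc, Finset.sum_congr rfl fun χ _ => by rw [heq χ], second_orth h h,
    if_pos (IsConj.refl h), div_eq_zero_iff] at h1
  rcases h1 with h1 | h1
  · exact Nat.cast_ne_zero.mpr Nat.card_pos.ne' h1
  · exact card_conjClass_ne_zero h (Nat.cast_eq_zero.mp h1)

/-- A normal subgroup of order prime to `p`, with `p`-group quotient, all whose characters are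
invariant is centralized by every `p`-subgroup. -/
theorem centralized_of_invariant {p : ℕ} [Fact p.Prime] (N : Subgroup G) [N.Normal] [Fintype N]
    (hN : (Nat.card N).Coprime p) (S : Subgroup G) (hS : IsPGroup p S)
    (hinv : ∀ (θ : IrrCharacter N) (g : G) (n : N),
      (θ : N → ℂ) (MulAut.conjNormal g n) = (θ : N → ℂ) n) :
    ∀ n ∈ N, ∀ s ∈ S, s * n = n * s := by
  let L : Subgroup N := (Subgroup.centralizer (S : Set G)).subgroupOf N
  have hL : L = ⊤ := Cfsg.Agent.Solv.eq_top_of_forall_conj_mem L fun n => by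
    letI : MulAction S {m : N // IsConj n m} :=
      { smul := fun s m => ⟨MulAut.conjNormal (s : G) m.1,
          m.2.trans (isConj_of_irr_eq fun θ => (hinv θ (s : G) m.1).symm)⟩
        one_smul := fun m => Subtype.ext (by
          show MulAut.conjNormal ((1 : S) : G) m.1 = m.1
          rw [OneMemClass.coe_one, map_one]; rfl)
        mul_smul := fun a b m => Subtype.ext (by
          show MulAut.conjNormal ((a * b : S) : G) m.1 = MulAut.conjNormal (a : G) (MulAut.conjNormal (b : G) m.1)
          rw [Subgroup.coe_mul, map_mul]; rfl) }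
    have hnd : ¬ p ∣ Nat.card {m : N // IsConj n m} := fun hd => by
      have h2 : p ∣ Nat.card N := hd.trans ⟨_, (card_conjClass_mul_centralizer n).symm⟩
      exact (Fact.out : p.Prime).ne_one (Nat.eq_one_of_dvd_coprimes hN h2 dvd_rfl)
    obtain ⟨m, hm⟩ := hS.nonempty_fixed_point_of_prime_not_dvd_card {m : N // IsConj n m} hnd
    obtain ⟨c, hc⟩ := isConj_iff.mp m.2
    refine ⟨c, ?_⟩
    rw [hc]
    show (m.1 : G) ∈ Subgroup.centralizer (S : Set G)
    rw [Subgroup.mem_centralizer_iff]
    intro s hs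
    have h3 : MulAut.conjNormal s m.1 = m.1 := congrArg Subtype.val (hm ⟨s, hs⟩)
    have h4 := congrArg Subtype.val h3
    rw [MulAut.conjNormal_apply] at h4
    exact mul_inv_eq_iff_eq_mul.mp h4
  intro n hn s hs
  have h : (⟨n, hn⟩ : N) ∈ L := hL ▸ Subgroup.mem_top _
  exact Subgroup.mem_centralizer_iff.mp h s hs

/-- A normal Sylow subgroup of a group with all degrees prime to `p` is abelian. -/
theorem comm_of_pPrime_degrees {p : ℕ} [hp : Fact p.Prime] (P : Subgroup G) [P.Normal]
    (hP : IsPGroup p P) (hdeg : ∀ χ : IrrCharacter G, ¬ p ∣ deg (χ : G → ℂ)) :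
    ∀ x ∈ P, ∀ y ∈ P, x * y = y * x := by
  classical
  haveI := Fintype.ofFinite P
  have hlin : ∀ φ : IrrCharacter P, (φ : P → ℂ) 1 = 1 := fun φ => by
    obtain ⟨χ, hχ⟩ := exists_constituent_over P φ
    obtain ⟨k, hk⟩ := hP.exists_card_eq
    obtain ⟨i, -, hi⟩ := (Nat.dvd_prime_pow hp.out).1 (hk ▸ deg_dvd_card φ.2)
    have h1 : deg (φ : P → ℂ) ∣ deg (χ : G → ℂ) :=
      (dvd_mul_left _ _).trans (orbit_mul_deg_dvd P χ φ hχ)
    rcases Nat.eq_zero_or_pos i with rfl | hi0
    · rw [char_one_eq_deg (irr_isCharacter φ.2), hi]; simp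
    · exact absurd (((dvd_pow_self p hi0.ne').trans (hi ▸ dvd_rfl)).trans h1) (hdeg χ)
  intro x hx y hy
  exact congrArg Subtype.val (forall_linear_iff_comm.2 hlin ⟨x, hx⟩ ⟨y, hy⟩)

/-- All degrees prime to `p` forces a normal Sylow subgroup in a `p`-solvable group. -/
theorem sylow_normal_of_pPrime_degrees {p : ℕ} [hp : Fact p.Prime] :
    ∀ (k : ℕ) {G : Type u} [Group G] [Fintype G], Nat.card G = k → IsPSolvable p G →
      (∀ χ : IrrCharacter G, ¬ p ∣ deg (χ : G → ℂ)) →
      ∃ P : Subgroup G, P.Normal ∧ IsPGroup p P ∧ ¬ p ∣ P.index := by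
  intro k
  induction k using Nat.strong_induction_on with
  | _ k ih =>
  intro G _ _ hk hsolv hdeg
  classical
  rcases subsingleton_or_nontrivial G with hs | hnt
  · exact ⟨⊥, inferInstance, IsPGroup.of_bot, by
      rw [Subgroup.index_bot, Nat.card_of_subsingleton (1 : G)]; exact hp.out.not_dvd_one⟩
  obtain ⟨N, hNn, hN0, hNtype⟩ := Cfsg.Agent.Solv.exists_normal_pgroup_or_coprime hsolv
  haveI := hNn
  haveI := Fintype.ofFinite N
  haveI := Fintype.ofFinite (G ⧸ N)
  have hlt : Nat.card (G ⧸ N) < k := by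
    rw [← hk, ← Subgroup.index_eq_card, ← N.index_mul_card]
    exact lt_mul_of_one_lt_right (Nat.pos_of_ne_zero Subgroup.index_ne_zero_of_finite)
      (by rwa [Subgroup.one_lt_card_iff_ne_bot])
  obtain ⟨Q, hQn, hQp, hQi⟩ := ih _ hlt rfl
    (Cfsg.Agent.Solv.isPSolvable_map hp.out hsolv _ (QuotientGroup.mk'_surjective N))
    fun χ => hdeg ⟨_, isIrr_inflate N χ.2⟩
  haveI := hQn
  set K := Q.comap (QuotientGroup.mk' N) with hK
  have hKi : K.index = Q.index :=
    Subgroup.index_comap_of_surjective _ (QuotientGroup.mk'_surjective N)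
  haveI hKn : K.Normal := hQn.comap _
  haveI := Fintype.ofFinite K
  rcases eq_or_ne K ⊤ with hKtop | hKtop
  · have hQtop : Q = ⊤ := by
      rw [← Subgroup.index_eq_one, ← hKi, hKtop, Subgroup.index_top]
    have hpq : IsPGroup p (G ⧸ N) := (hQtop ▸ hQp).of_equiv Subgroup.topEquiv
    rcases hNtype with hNp | hNc
    · refine ⟨⊤, inferInstance, ?_, by rw [Subgroup.index_top]; exact hp.out.not_dvd_one⟩
      intro g
      obtain ⟨a, ha⟩ := hpq (g.1 : G ⧸ N)
      obtain ⟨b, hb⟩ := hNp ⟨g.1 ^ p ^ a, by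
        rw [← QuotientGroup.eq_one_iff, QuotientGroup.mk_pow, ha]⟩
      exact ⟨a + b, Subtype.ext (by
        rw [pow_add, pow_mul]; simpa using congrArg Subtype.val hb)⟩
    · obtain ⟨S⟩ := (inferInstance : Nonempty (Sylow p G))
      have hinv : ∀ (θ : IrrCharacter N) (g : G) (n : N),
          (θ : N → ℂ) (MulAut.conjNormal g n) = (θ : N → ℂ) n := fun θ g n => by
        obtain ⟨χ, hχ⟩ := exists_constituent_over N θ
        have h1 := (dvd_mul_right _ (deg (θ : N → ℂ))).trans (orbit_mul_deg_dvd N χ θ hχ)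
        have h2 := card_cliffOrbit_dvd_index N θ
        obtain ⟨a, ha⟩ := hpq.exists_card_eq
        rw [Subgroup.index_eq_card, ha] at h2
        obtain ⟨i, -, hi⟩ := (Nat.dvd_prime_pow hp.out).1 h2
        have hone : (cliffOrbit N θ).card = 1 := by
          rcases Nat.eq_zero_or_pos i with rfl | hi0
          · simpa using hi
          · exact absurd (((dvd_pow_self p hi0.ne').trans (hi ▸ dvd_rfl)).trans h1) (hdeg χ)
        have h3 := (Finset.card_le_one.mp hone.le) (irrComp (MulAut.conjNormal g) θ)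
          (mem_cliffOrbit.mpr ⟨g, rfl⟩) θ (self_mem_cliffOrbit θ)
        rw [← irrComp_apply, h3]
      have hc := centralized_of_invariant N hNc (S : Subgroup G) S.isPGroup' hinv
      refine ⟨(S : Subgroup G), ?_, S.isPGroup', S.not_dvd_index⟩
      have hsup : (S : Subgroup G) ⊔ N = ⊤ := by
        rw [← Subgroup.index_eq_one]
        have h1 : ((S : Subgroup G) ⊔ N).index ∣ (S : Subgroup G).index :=
          Subgroup.index_dvd_of_le le_sup_left
        have h2 : ((S : Subgroup G) ⊔ N).index ∣ N.index := Subgroup.index_dvd_of_le le_sup_right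
        obtain ⟨a, ha⟩ := hpq.exists_card_eq
        rw [Subgroup.index_eq_card N, ha] at h2
        exact Nat.eq_one_of_dvd_coprimes
          (((hp.out.coprime_iff_not_dvd).mpr S.not_dvd_index).pow_left a) h2 h1
      rw [← Subgroup.normalizer_eq_top_iff, eq_top_iff, ← hsup, sup_le_iff]
      refine ⟨Subgroup.le_normalizer, fun n hn => ?_⟩
      rw [Subgroup.mem_normalizer_iff]
      intro s
      constructor
      · intro hs
        rwa [← hc n hn s hs, mul_inv_cancel_right]
      · intro hs
        have h := hc n hn _ hs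
        rw [inv_mul_cancel_right] at h
        have : s = n * s * n⁻¹ := mul_left_cancel h
        rwa [this]
  · have hKlt : Nat.card K < k := by
      rw [← hk]
      exact lt_of_le_of_ne (Subgroup.card_le_card_group K) fun h =>
        hKtop (Subgroup.eq_top_of_card_eq K h)
    obtain ⟨P, hPn, hPp, hPi⟩ := ih _ hKlt (G := K) rfl (isPSolvable_subgroup hp.out hsolv K)
      fun θ hd => by
        obtain ⟨χ, hχ⟩ := exists_constituent_over K θ
        exact hdeg χ (hd.trans ((dvd_mul_left _ _).trans (orbit_mul_deg_dvd K χ θ hχ)))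
    haveI := hPn
    refine ⟨P.map K.subtype, ⟨fun x hx g => ?_⟩, hPp.map _, fun hd => ?_⟩
    · obtain ⟨y, hy, rfl⟩ := hx
      refine ⟨MulAut.conjNormal g y, ?_, MulAut.conjNormal_apply g y⟩
      rw [SetLike.mem_coe, ← QuotientGroup.eq_one_iff (N := P), ← orderOf_eq_one_iff]
      obtain ⟨a, ha⟩ := hPp.exists_card_eq
      refine Nat.eq_one_of_dvd_coprimes
        (((hp.out.coprime_iff_not_dvd).mpr hPi).pow_left a) ?_
        (by rw [Subgroup.index_eq_card]; exact orderOf_dvd_natCard _)
      refine (orderOf_map_dvd (QuotientGroup.mk' P) _).trans ?_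
      rw [show orderOf (MulAut.conjNormal g y : K) = orderOf y from MulEquiv.orderOf_eq _ y,
        ← Subgroup.orderOf_coe y] at *
      rw [← ha, Subgroup.orderOf_coe]
      exact Subgroup.orderOf_dvd_natCard P hy
    · rw [Subgroup.index_map_subtype, hKi] at hd
      rcases hp.out.dvd_mul.mp hd with h | h
      · exact hPi h
      · exact hQi h

/-- Solvable groups are `p`-solvable. -/
theorem isPSolvable_of_isSolvable {p : ℕ} (hp : p.Prime) :
    ∀ (k : ℕ) {G : Type u} [Group G] [Finite G], Nat.card G = k → Group.IsSolvable G →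
      IsPSolvable p G := by
  intro k
  induction k using Nat.strong_induction_on with
  | _ k ih =>
  intro G _ _ hk hsol
  rcases subsingleton_or_nontrivial G with hs | hnt
  · exact ⟨0, fun _ => ⊥, rfl, Subsingleton.elim _ _, monotone_const, fun _ => inferInstance,
      fun i => i.elim0⟩
  obtain ⟨N, hNn, hN0, hNmin⟩ := Cfsg.Agent.Solv.exists_minimal_normal (G := G)
  haveI := hNn
  obtain ⟨-, q, hq, -, hqN⟩ :=
    Cfsg.Agent.Solv.minimal_normal_elementaryAbelian N inferInstance hN0 hNmin
  obtain ⟨a, ha⟩ := (haveI := Fact.mk hq; hqN.exists_card_eq)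
  have hlt : Nat.card (G ⧸ N) < k := by
    rw [← hk, ← Subgroup.index_eq_card, ← N.index_mul_card]
    exact lt_mul_of_one_lt_right (Nat.pos_of_ne_zero Subgroup.index_ne_zero_of_finite)
      (by rwa [Subgroup.one_lt_card_iff_ne_bot])
  obtain ⟨n, H, h0, hl, hm, hn, hstep⟩ :=
    ih _ hlt rfl (Group.isSolvable_of_surjective (QuotientGroup.mk'_surjective N))
  refine ⟨n + 1, Fin.cons ⊥ fun i => (H i).comap (QuotientGroup.mk' N), rfl, ?_, ?_, ?_, ?_⟩
  · rw [← Fin.succ_last, Fin.cons_succ, hl, Subgroup.comap_top]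
  · rw [Fin.monotone_iff_le_succ]
    intro i
    cases i using Fin.cases with
    | zero => exact bot_le
    | succ j =>
      rw [Fin.castSucc_succ, Fin.cons_succ, Fin.cons_succ]
      exact Subgroup.comap_mono (hm (Fin.castSucc_lt_succ).le)
  · intro i
    cases i using Fin.cases with
    | zero => exact (inferInstance : (⊥ : Subgroup G).Normal)
    | succ j => rw [Fin.cons_succ]; exact (hn j).comap _
  · intro i
    cases i using Fin.cases with
    | zero =>
      have h1 : (Fin.cons ⊥ fun i => (H i).comap (QuotientGroup.mk' N) :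
          Fin (n + 2) → Subgroup G) (Fin.succ 0) = N := by
        rw [Fin.cons_succ, h0, MonoidHom.comap_bot, QuotientGroup.ker_mk']
      rw [Fin.castSucc_zero, Fin.cons_zero, h1, Subgroup.relIndex_bot_left, ha]
      by_cases hpq : q = p
      · exact Or.inl ⟨a, hpq ▸ rfl⟩
      · exact Or.inr (((Nat.coprime_primes hq hp).mpr hpq).pow_left a)
    | succ j =>
      rw [Fin.castSucc_succ, Fin.cons_succ, Fin.cons_succ, Subgroup.relIndex_comap,
        Subgroup.map_comap_eq_self_of_surjective (QuotientGroup.mk'_surjective N)]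
      exact hstep j

/-- Ito's theorem and its converse for `p`-solvable groups. -/
theorem normal_abelian_sylow_iff {p : ℕ} [hp : Fact p.Prime] (hsolv : IsPSolvable p G) :
    (∃ P : Subgroup G, P.Normal ∧ (∀ x ∈ P, ∀ y ∈ P, x * y = y * x) ∧ IsPGroup p P ∧
      ¬ p ∣ P.index) ↔ ∀ χ : IrrCharacter G, ¬ p ∣ deg (χ : G → ℂ) := by
  constructor
  · rintro ⟨P, hPn, hPc, -, hPi⟩ χ hd
    haveI := hPn
    exact hPi (hd.trans (deg_dvd_index_abelian_normal χ.2 P
      fun a b => Subtype.ext (hPc a a.2 b b.2)))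
  · intro h
    obtain ⟨P, hPn, hPp, hPi⟩ := sylow_normal_of_pPrime_degrees _ rfl hsolv h
    haveI := hPn
    exact ⟨P, hPn, comm_of_pPrime_degrees P hPp h, hPp, hPi⟩

end Cfsg.Agent.Char
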