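import Cfsg.Agent.Lib.Char.Ortho

/-!
# A complex representation of a finite group is determined by its character
-/

set_option autoImplicit false

namespace Cfsg.Agent.Char

open Cfsg Module

universe u

variable {G : Type u} [Group G] [Finite G]

section

variable {V : Type*} [AddCommGroup V] [Module ℂ V] [FiniteDimensional ℂ V]

theorem equiv_prod_of_isCompl (τ : Representation ℂ G V) {S T : Subrepresentation τ}
    (h : IsCompl S T) :
    Nonempty ((S.toRepresentation.prod T.toRepresentation).Equiv τ) := by
  have hc : IsCompl S.toSubmodule T.toSubmodule := by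
    constructor
    · rw [disjoint_iff]
      exact congrArg Subrepresentation.toSubmodule h.inf_eq_bot
    · rw [codisjoint_iff]
      exact congrArg Subrepresentation.toSubmodule h.sup_eq_top
  exact ⟨Representation.Equiv.mk (Submodule.prodEquivOfIsCompl _ _ hc) fun g => by
    ext ⟨a, ha⟩ <;> simp [Subrepresentation.toRepresentation]⟩

theorem exists_irreducible_sub (τ : Representation ℂ G V) [Nontrivial V] :
    ∃ S : Subrepresentation τ, S.toRepresentation.IsIrreducible := by
  classical
  have hex : ∃ d : ℕ, ∃ S : Subrepresentation τ, S ≠ ⊥ ∧ finrank ℂ S.toSubmodule = d :=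
    ⟨_, ⊤, fun h => bot_ne_top (α := Submodule ℂ V)
      (congrArg Subrepresentation.toSubmodule h).symm, rfl⟩
  obtain ⟨S, hS0, hSd⟩ := Nat.find_spec hex
  refine ⟨S, ?_⟩
  have : Nontrivial S.toSubmodule := (Submodule.nontrivial_iff_ne_bot).mpr
    fun h => hS0 (Subrepresentation.toSubmodule_injective h)
  have : Nontrivial (Subrepresentation S.toRepresentation) := ⟨⟨⊥, ⊤, fun hbt =>
    bot_ne_top (α := Submodule ℂ S.toSubmodule) (congrArg Subrepresentation.toSubmodule hbt)⟩⟩
  refine ⟨fun U => ?_⟩
  let U' : Subrepresentation τ := ⟨U.toSubmodule.map S.toSubmodule.subtype, by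
    rintro g _ ⟨v, hv, rfl⟩
    exact ⟨S.toRepresentation g v, U.apply_mem_toSubmodule g hv, rfl⟩⟩
  by_cases hU : U' = ⊥
  · refine Or.inl (Subrepresentation.toSubmodule_injective ?_)
    have := congrArg Subrepresentation.toSubmodule hU
    apply Submodule.map_injective_of_injective S.toSubmodule.subtype_injective
    exact this.trans (Submodule.map_bot _).symm
  · refine Or.inr (Subrepresentation.toSubmodule_injective ?_)
    have hmin := Nat.find_min' hex ⟨U', hU, rfl⟩
    rw [← hSd, Submodule.finrank_map_subtype_eq] at hmin
    exact Submodule.eq_top_of_finrank_eq (le_antisymm (Submodule.finrank_le _) hmin)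

end

theorem equiv_of_character_eq {V W : Type*} [AddCommGroup V] [Module ℂ V] [FiniteDimensional ℂ V]
    [AddCommGroup W] [Module ℂ W] [FiniteDimensional ℂ W]
    (ρ : Representation ℂ G V) (σ : Representation ℂ G W) (h : ρ.character = σ.character) :
    Nonempty (ρ.Equiv σ) := by
  classical
  have := Fintype.ofFinite G
  -- reduce to coordinate spaces, then induct on the dimension
  suffices H : ∀ (d : ℕ) (A B : Type) [AddCommGroup A] [Module ℂ A] [FiniteDimensional ℂ A]
      [AddCommGroup B] [Module ℂ B] [FiniteDimensional ℂ B]
      (α : Representation ℂ G A) (β : Representation ℂ G B), finrank ℂ A = d →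
        α.character = β.character → Nonempty (α.Equiv β) by
    let e := repTransportEquiv ρ (finBasis ℂ V).equivFun
    let f := repTransportEquiv σ (finBasis ℂ W).equivFun
    obtain ⟨φ⟩ := H _ _ _ (repTransport ρ (finBasis ℂ V).equivFun)
      (repTransport σ (finBasis ℂ W).equivFun) rfl
      (by rw [← Representation.char_iso e, ← Representation.char_iso f, h])
    exact ⟨(e.trans φ).trans f.symm⟩
  intro d
  induction d using Nat.strong_induction_on with
  | _ d ih =>
    intro A B _ _ _ _ _ _ α β hd hch
    have hdim : finrank ℂ A = finrank ℂ B := by
      have := congrFun hch 1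
      simpa using this
    rcases Nat.eq_zero_or_pos d with h0 | hpos
    · have : Subsingleton A := (finrank_zero_iff (R := ℂ)).mp (by omega)
      have : Subsingleton B := (finrank_zero_iff (R := ℂ)).mp (by omega)
      exact ⟨Representation.Equiv.mk (LinearEquiv.ofSubsingleton A B) fun g =>
        LinearMap.ext fun v => Subsingleton.elim _ _⟩
    have : Nontrivial A := Module.nontrivial_of_finrank_pos (R := ℂ) (by omega)
    obtain ⟨S, hS⟩ := exists_irreducible_sub α
    obtain ⟨T, hT⟩ := exists_isCompl S
    obtain ⟨φA⟩ := equiv_prod_of_isCompl α hT
    have := hS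
    have hα : α.character = S.toRepresentation.character + T.toRepresentation.character := by
      rw [← Representation.char_iso φA]
      funext g
      exact LinearMap.trace_prodMap' _ _
    have hne : classInner β.character S.toRepresentation.character ≠ 0 := by
      rw [← hch, hα, classInner_add_left, irr_self (isIrrCharacter_character _ hS), classInner_rep]
      intro hz
      have : ((1 + finrank ℂ (S.toRepresentation.IntertwiningMap T.toRepresentation) : ℕ) : ℂ) = 0 := by
        push_cast
        exact hz
      exact absurd (Nat.cast_eq_zero.mp this) (by omega)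
    rw [classInner_rep, Nat.cast_ne_zero] at hne
    obtain ⟨f, hf⟩ : ∃ f : S.toRepresentation.IntertwiningMap β, f ≠ 0 := by
      by_contra hall
      push Not at hall
      have : Subsingleton (S.toRepresentation.IntertwiningMap β) :=
        ⟨fun a b => (hall a).trans (hall b).symm⟩
      exact hne finrank_zero_of_subsingleton
    have hinj := (Representation.IsIrreducible.injective_or_eq_zero f).resolve_right hf
    let S' : Subrepresentation β := ⟨LinearMap.range f.toLinearMap, by
      rintro g _ ⟨v, rfl⟩
      exact ⟨S.toRepresentation g v, f.isIntertwining _ _ g v⟩⟩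
    let eS : S.toRepresentation.Equiv S'.toRepresentation :=
      Representation.Equiv.mk (LinearEquiv.ofInjective f.toLinearMap hinj) fun g => by
        refine LinearMap.ext fun v => Subtype.ext ?_
        exact f.isIntertwining _ _ g v
    obtain ⟨T', hT'⟩ := exists_isCompl S'
    obtain ⟨φB⟩ := equiv_prod_of_isCompl β hT'
    have hTT : T.toRepresentation.character = T'.toRepresentation.character := by
      have hβ : β.character = S'.toRepresentation.character + T'.toRepresentation.character := by
        rw [← Representation.char_iso φB]
        funext g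
        exact LinearMap.trace_prodMap' _ _
      rw [hα, hβ, Representation.char_iso eS] at hch
      exact add_left_cancel hch
    have hlt : finrank ℂ T.toSubmodule < d := by
      have hc := φA.toLinearEquiv.finrank_eq
      rw [finrank_prod, hd] at hc
      have : Nontrivial S.toSubmodule := by
        by_contra hn
        rw [not_nontrivial_iff_subsingleton] at hn
        exact irr_one_ne_zero (isIrrCharacter_character _ hS)
          (by simp [finrank_zero_of_subsingleton])
      have := Module.finrank_pos (R := ℂ) (M := S.toSubmodule)
      omega
    obtain ⟨eT⟩ := ih _ hlt _ _ T.toRepresentation T'.toRepresentation rfl hTT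
    exact ⟨φA.symm.trans ((Representation.Equiv.mk (eS.toLinearEquiv.prodCongr eT.toLinearEquiv)
      fun g => by
        refine LinearMap.ext fun v => Prod.ext ?_ ?_
        · exact eS.toIntertwiningMap.isIntertwining _ _ g v.1
        · exact eT.toIntertwiningMap.isIntertwining _ _ g v.2).trans φB)⟩

end Cfsg.Agent.Char
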