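import Cfsg.Agent.Lib.Char.Linear
import Cfsg.Agent.Lib.Char.Unique
import Cfsg.Prelude.Def_CharExt
import Mathlib

/-!
Extensions of invariant linear characters of a normal subgroup, determinantal characters.
-/

open scoped ComplexConjugate
open Cfsg Module

set_option autoImplicit false
set_option linter.style.haveILetI false
set_option linter.unusedSectionVars false

namespace Cfsg.Agent.Char

section

variable {H : Type*} [Group H] [Finite H] (Z : Subgroup H) [hZ : Z.Normal]

/-- The transfer of an extension of an invariant homomorphism, evaluated on the normal subgroup. -/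
theorem transfer_of_invariant {A : Type*} [CommGroup A] (Q : Subgroup H) (hZQ : Z ≤ Q) (μ : Q →* A)
    (c : Z →* A) (hμ : ∀ z : Z, μ (Subgroup.inclusion hZQ z) = c z)
    (hinv : ∀ (h : H) (z : Z), c (MulAut.conjNormal h z) = c z) (z : Z) :
    MonoidHom.transfer μ (z : H) = c z ^ Q.index := by
  classical
  haveI := Fintype.ofFinite (H ⧸ Q)
  haveI : Fintype (Quotient (MulAction.orbitRel (Subgroup.zpowers (z : H)) (H ⧸ Q))) := Fintype.ofFinite _
  rw [MonoidHom.transfer_eq_prod_quotient_orbitRel_zpowers_quot,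
    Subgroup.index_eq_sum_minimalPeriod Q (z : H), ← Finset.prod_pow_eq_pow_sum]
  refine Finset.prod_congr rfl fun q _ => ?_
  rw [← map_pow, ← hinv q.out.out⁻¹ (z ^ _), ← hμ]
  congr 1
  apply Subtype.ext
  have h5 := (MulAut.conj (q.out.out⁻¹)).toMonoidHom.map_pow (z : H)
    (Function.minimalPeriod ((z : H) • ·) q.out)
  simpa [MulAut.conj_apply] using h5

theorem exists_linear_extension_of_ker (c : Z →* ℂˣ)
    (hker : ∀ z : Z, Abelianization.of (z : H) = 1 → c z = 1) :
    ∃ μ : H →* ℂˣ, ∀ z : Z, μ (z : H) = c z := by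
  classical
  let f : Z →* Abelianization H := Abelianization.of.comp Z.subtype
  have hsurj : Function.Surjective f.rangeRestrict := f.rangeRestrict_surjective
  have hle : f.rangeRestrict.ker ≤ c.ker := fun z hz => by
    rw [MonoidHom.mem_ker] at hz ⊢
    exact hker z (congrArg Subtype.val hz)
  let cb : f.range →* ℂˣ := f.rangeRestrict.liftOfSurjective hsurj ⟨c, hle⟩
  obtain ⟨ν, hν⟩ := MonoidHom.domRestrict_surjective (M := ℂ) f.range cb
  refine ⟨ν.comp Abelianization.of, fun z => ?_⟩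
  have h2 : ν (f z) = cb (f.rangeRestrict z) := by rw [← hν]; rfl
  rw [MonoidHom.comp_apply, show Abelianization.of (z : H) = f z from rfl, h2]
  exact MonoidHom.liftOfRightInverse_comp_apply _ _ _ ⟨c, hle⟩ z

theorem exists_linear_extension_local (c : Z →* ℂˣ)
    (hinv : ∀ (h : H) (z : Z), c (MulAut.conjNormal h z) = c z)
    (hloc : ∀ (z : Z) (p : ℕ), p.Prime → p ∣ orderOf (c z) →
      ∃ (Q : Subgroup H) (μ : Q →* ℂˣ) (hZQ : Z ≤ Q),
        Q.index.Coprime p ∧ ∀ z : Z, μ (Subgroup.inclusion hZQ z) = c z) :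
    ∃ μ : H →* ℂˣ, ∀ z : Z, μ (z : H) = c z := by
  refine exists_linear_extension_of_ker Z c fun z hz => ?_
  rw [← orderOf_eq_one_iff]
  by_contra hne
  obtain ⟨p, hp, hd⟩ := Nat.exists_prime_and_dvd hne
  obtain ⟨Q, μ, hZQ, hcop, hμ⟩ := hloc z p hp hd
  have h1 : MonoidHom.transfer μ (z : H) = 1 := by
    rw [← Abelianization.lift_apply_of (MonoidHom.transfer μ) (z : H), hz, map_one]
  rw [transfer_of_invariant Z Q hZQ μ c hμ hinv z] at h1
  exact (hp.coprime_iff_not_dvd.1 (Nat.coprime_comm.1 hcop)) (hd.trans (orderOf_dvd_of_pow_eq_one h1))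

/-- An invariant homomorphism is killed by the index on commutators. -/
theorem pow_index_eq_one_of_mem_commutator (c : Z →* ℂˣ)
    (hinv : ∀ (h : H) (z : Z), c (MulAut.conjNormal h z) = c z) (z : Z)
    (hz : Abelianization.of (z : H) = 1) : c z ^ Z.index = 1 := by
  rw [← transfer_of_invariant Z Z le_rfl c c (fun w => rfl) hinv z,
    ← Abelianization.lift_apply_of (MonoidHom.transfer c) (z : H), hz, map_one]

/-- An invariant homomorphism into an abelian group on a normal subgroup with cyclic quotient kills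
commutators. -/
theorem eq_one_of_mem_commutator_of_isCyclic (hcyc : IsCyclic (H ⧸ Z)) (c : Z →* ℂˣ)
    (hinv : ∀ (h : H) (z : Z), c (MulAut.conjNormal h z) = c z) (z : Z)
    (hz : Abelianization.of (z : H) = 1) : c z = 1 := by
  classical
  let K : Subgroup H := c.ker.map Z.subtype
  haveI hK : K.Normal := ⟨fun n hn g => by
    obtain ⟨w, hw, rfl⟩ := Subgroup.mem_map.1 hn
    refine Subgroup.mem_map.2 ⟨MulAut.conjNormal g w, ?_, by simp [MulAut.conjNormal_apply]⟩
    rw [MonoidHom.mem_ker] at hw ⊢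
    rw [hinv, hw]⟩
  have hKZ : K ≤ Z := Subgroup.map_subtype_le _
  let f : H ⧸ K →* H ⧸ Z := QuotientGroup.map K Z (MonoidHom.id H) (by simpa using hKZ)
  have hf : f.ker ≤ Subgroup.center (H ⧸ K) := by
    intro x hx
    induction x using QuotientGroup.induction_on with | _ a =>
    have ha : a ∈ Z := (QuotientGroup.eq_one_iff a).1 (MonoidHom.mem_ker.1 hx)
    rw [Subgroup.mem_center_iff]
    intro y
    induction y using QuotientGroup.induction_on with | _ b =>
    rw [← QuotientGroup.mk_mul, ← QuotientGroup.mk_mul, QuotientGroup.eq]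
    refine Subgroup.mem_map.2 ⟨(⟨a, ha⟩ : Z)⁻¹ * MulAut.conjNormal b⁻¹ ⟨a, ha⟩, ?_, ?_⟩
    · rw [MonoidHom.mem_ker, map_mul, map_inv, hinv, inv_mul_cancel]
    · show (a : H)⁻¹ * (b⁻¹ * a * b⁻¹⁻¹) = (b * a)⁻¹ * (a * b)
      group
  haveI := hcyc
  have hcomm : ∀ a b : H ⧸ K, a * b = b * a := commutative_of_cyclic_center_quotient f hf
  have hle : commutator H ≤ K := by
    rw [commutator_def, Subgroup.commutator_le]
    intro a _ b _
    rw [← QuotientGroup.eq_one_iff, ← QuotientGroup.mk'_apply, map_commutatorElement]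
    exact commutatorElement_eq_one_iff_mul_comm.2 (hcomm _ _)
  have hzc : (z : H) ∈ commutator H := by
    rw [← Abelianization.ker_of]
    exact hz
  obtain ⟨w, hw, hwz⟩ := Subgroup.mem_map.1 (hle hzc)
  rw [← Subtype.ext (show (w : H) = (z : H) from hwz)]
  exact hw

/-- Coprime extension of an invariant linear character. -/
theorem exists_linear_extension_coprime (c : Z →* ℂˣ)
    (hinv : ∀ (h : H) (z : Z), c (MulAut.conjNormal h z) = c z) (hcop : Z.index.Coprime (orderOf c)) :
    ∃ μ : H →* ℂˣ, (∀ z : Z, μ (z : H) = c z) ∧ orderOf μ = orderOf c := by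
  classical
  set o := orderOf c with ho
  have ho0 : o ≠ 0 := by
    haveI : NeZero (Monoid.exponent Z) := ⟨Monoid.exponent_ne_zero_of_finite⟩
    intro h0
    have hpow : c ^ Nat.card Z = 1 := MonoidHom.ext fun z => by
      rw [MonoidHom.pow_apply, MonoidHom.one_apply, ← map_pow, pow_card_eq_one', map_one]
    have := orderOf_dvd_of_pow_eq_one (x := c) hpow
    rw [← ho, h0, zero_dvd_iff] at this
    exact Nat.card_pos.ne' this
  have hc : ∀ z, c z ∈ rootsOfUnity o ℂ := fun z => by
    rw [mem_rootsOfUnity, ← MonoidHom.pow_apply, ho, pow_orderOf_eq_one, MonoidHom.one_apply]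
  let c' : Z →* rootsOfUnity o ℂ := c.codRestrict _ hc
  obtain ⟨a, ha⟩ : ∃ a, Z.index * a ≡ 1 [MOD o] := by
    obtain ⟨k, hk1, hk0⟩ := Nat.chineseRemainder hcop.symm 1 0
    obtain ⟨a, rfl⟩ := Nat.modEq_zero_iff_dvd.1 hk0
    exact ⟨a, hk1⟩
  let τ : H →* ℂˣ := (rootsOfUnity o ℂ).subtype.comp (MonoidHom.transfer c')
  have hτ : ∀ z : Z, (τ ^ a) (z : H) = c z := fun z => by
    have e : τ (z : H) = c z ^ Z.index := by
      show ((MonoidHom.transfer c' (z : H) : rootsOfUnity o ℂ) : ℂˣ) = _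
      rw [transfer_of_invariant Z Z le_rfl c' c' (fun w => rfl) (fun h w => Subtype.ext (hinv h w)) z]
      rfl
    rw [MonoidHom.pow_apply, e, ← pow_mul]
    conv_rhs => rw [← pow_one (c z)]
    refine pow_eq_pow_iff_modEq.2 (Nat.ModEq.of_dvd ?_ ha)
    exact orderOf_dvd_of_pow_eq_one ((mem_rootsOfUnity _ _).1 (hc z))
  refine ⟨τ ^ a, hτ, Nat.dvd_antisymm (orderOf_dvd_of_pow_eq_one (MonoidHom.ext fun h => ?_))
    (orderOf_dvd_of_pow_eq_one (MonoidHom.ext fun z => ?_))⟩
  · rw [MonoidHom.pow_apply, MonoidHom.pow_apply, MonoidHom.one_apply, ← pow_mul, mul_comm, pow_mul]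
    have : τ h ^ o = 1 := (mem_rootsOfUnity _ _).1 (MonoidHom.transfer c' h).2
    rw [this, one_pow]
  · rw [MonoidHom.pow_apply, MonoidHom.one_apply, ← hτ, ← MonoidHom.pow_apply, pow_orderOf_eq_one,
      MonoidHom.one_apply]

/-- A homomorphism trivial on a normal subgroup is killed by the index. -/
theorem hom_pow_index {β : H →* ℂˣ} (hβ : ∀ z : Z, β (z : H) = 1) : β ^ Z.index = 1 :=
  MonoidHom.ext fun h => by
    rw [MonoidHom.pow_apply, MonoidHom.one_apply, ← map_pow]
    exact hβ ⟨_, Z.pow_index_mem h⟩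

theorem linear_extension_unique {μ μ' : H →* ℂˣ} (heq : ∀ z : Z, μ' (z : H) = μ (z : H))
    (h : Z.index.Coprime (orderOf μ)) (h' : Z.index.Coprime (orderOf μ')) : μ' = μ := by
  have h1 : (μ' * μ⁻¹) ^ Z.index = 1 := hom_pow_index Z fun z => by
    rw [MonoidHom.mul_apply, heq, MonoidHom.inv_apply, mul_inv_cancel]
  have h2 : (μ' * μ⁻¹) ^ (orderOf μ' * orderOf μ) = 1 := MonoidHom.ext fun x => by
    have e' : μ' x ^ orderOf μ' = 1 := by
      rw [← MonoidHom.pow_apply, pow_orderOf_eq_one, MonoidHom.one_apply]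
    have e : μ x ^ orderOf μ = 1 := by
      rw [← MonoidHom.pow_apply, pow_orderOf_eq_one, MonoidHom.one_apply]
    rw [MonoidHom.pow_apply, MonoidHom.mul_apply, MonoidHom.inv_apply, MonoidHom.one_apply, mul_pow,
      pow_mul, e', one_pow, one_mul, inv_pow, mul_comm, pow_mul, e, one_pow, inv_one]
  have h3 : orderOf (μ' * μ⁻¹) = 1 :=
    Nat.eq_one_of_dvd_coprimes (Nat.Coprime.mul_right h' h) (orderOf_dvd_of_pow_eq_one h1)
      (orderOf_dvd_of_pow_eq_one h2)
  exact mul_inv_eq_one.1 (orderOf_eq_one_iff.1 h3)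

end

section

variable {G : Type*} [Group G]

theorem orderOf_coe_hom (μ : G →* ℂˣ) : orderOf (fun g => (μ g : ℂ)) = orderOf μ :=
  orderOf_injective
    ({ toFun := fun l g => (l g : ℂ), map_one' := rfl, map_mul' := fun _ _ => rfl } :
      (G →* ℂˣ) →* (G → ℂ))
    (fun _ _ h => MonoidHom.ext fun g => Units.ext (congrFun h g)) μ

/-- The determinant of a representation as a homomorphism to the units. -/
noncomputable def detHom {n : ℕ} (ρ : Representation ℂ G (Fin n → ℂ)) : G →* ℂˣ :=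
  MonoidHom.toHomUnits ((LinearMap.det : ((Fin n → ℂ) →ₗ[ℂ] (Fin n → ℂ)) →* ℂ).comp ρ)

theorem detHom_apply {n : ℕ} (ρ : Representation ℂ G (Fin n → ℂ)) (g : G) :
    (detHom ρ g : ℂ) = LinearMap.det (ρ g) := rfl

theorem detChar_eq [Finite G] {χ : G → ℂ} {n : ℕ} (ρ : Representation ℂ G (Fin n → ℂ))
    (h : ρ.character = χ) : detChar χ = fun g => LinearMap.det (ρ g) := by
  classical
  have hc : IsCharacter G χ := ⟨n, ρ, h⟩
  rw [detChar, dif_pos hc]
  funext g
  obtain ⟨e⟩ := equiv_of_character_eq (Classical.choose (Classical.choose_spec hc)) ρ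
    ((Classical.choose_spec (Classical.choose_spec hc)).trans h.symm)
  rw [← LinearMap.det_conj (Classical.choose (Classical.choose_spec hc) g) e.toLinearEquiv]
  congr 1
  apply LinearMap.ext
  intro v
  have := LinearMap.congr_fun (e.toIntertwiningMap.isIntertwining' g) (e.toLinearEquiv.symm v)
  refine this.trans ?_
  show ρ g (e.toLinearEquiv (e.toLinearEquiv.symm v)) = ρ g v
  rw [LinearEquiv.apply_symm_apply]

theorem detChar_eq_hom [Finite G] {χ : G → ℂ} {n : ℕ} (ρ : Representation ℂ G (Fin n → ℂ))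
    (h : ρ.character = χ) : detChar χ = fun g => (detHom ρ g : ℂ) := by
  rw [detChar_eq ρ h]; rfl

theorem detOrder_eq [Finite G] {χ : G → ℂ} {n : ℕ} (ρ : Representation ℂ G (Fin n → ℂ))
    (h : ρ.character = χ) : detOrder χ = orderOf (detHom ρ) := by
  rw [detOrder, detChar_eq_hom ρ h, orderOf_coe_hom]

theorem char_one_eq_dim {χ : G → ℂ} {n : ℕ} (ρ : Representation ℂ G (Fin n → ℂ))
    (h : ρ.character = χ) : χ 1 = n := by
  rw [← h, Representation.char_one, Module.finrank_fin_fun]

end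

end Cfsg.Agent.Char
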