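import Cfsg.Agent.Lib.Char.CliffordCorr
import Cfsg.Agent.S1488
import Mathlib
open scoped ComplexConjugate
open Cfsg
set_option autoImplicit false
set_option linter.style.haveILetI false
namespace Cfsg.Agent.Char

universe u

theorem indFun_top {G : Type u} [Group G] [Fintype G] {θ : G → ℂ} (hθ : IsClassFunction G θ) :
    indFun (⊤ : Subgroup G) (fun x : (⊤ : Subgroup G) => θ x) = θ := by
  funext g
  simp only [indFun]
  have : ∀ x : G, extendByZero (⊤ : Subgroup G) (fun y : (⊤ : Subgroup G) => θ y) (x⁻¹ * g * x) = θ g := by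
    intro x
    rw [extendByZero_mem _ _ (Subgroup.mem_top _)]
    have := hθ g x⁻¹
    rw [inv_inv] at this
    exact this
  simp only [this, Finset.sum_const, Finset.card_univ, nsmul_eq_mul, Subgroup.card_top,
    ← Nat.card_eq_fintype_card]
  field_simp

theorem exists_noncentral_abelian_normal {G : Type u} [Group G] [Group.IsNilpotent G]
    (h : Subgroup.center G ≠ ⊤) :
    ∃ A : Subgroup G, A.Normal ∧ (∀ a b : A, a * b = b * a) ∧ ¬ A ≤ Subgroup.center G := by
  haveI : Nontrivial (G ⧸ Subgroup.center G) := QuotientGroup.nontrivial_iff.2 h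
  obtain ⟨⟨q, hq⟩, hq1'⟩ := (Subgroup.ne_bot_iff_exists_ne_one).1
    (Group.IsNilpotent.center_ne_bot (G := G ⧸ Subgroup.center G))
  have hq1 : q ≠ 1 := fun h => hq1' (Subtype.ext h)
  obtain ⟨a, rfl⟩ := QuotientGroup.mk_surjective q
  have hcomm : ∀ g : G, g * a * g⁻¹ * a⁻¹ ∈ Subgroup.center G := by
    intro g
    rw [← QuotientGroup.eq_one_iff]
    have := Subgroup.mem_center_iff.1 hq (QuotientGroup.mk g)
    simp only [QuotientGroup.mk_mul, QuotientGroup.mk_inv]
    rw [this]
    group
  refine ⟨Subgroup.center G ⊔ Subgroup.zpowers a, ⟨fun x hx g => ?_⟩, ?_, fun hle => hq1 ((QuotientGroup.eq_one_iff a).2 (hle (Subgroup.mem_sup_right (Subgroup.mem_zpowers a))))⟩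
  · have hmap : (Subgroup.center G ⊔ Subgroup.zpowers a).map (MulAut.conj g).toMonoidHom ≤
        Subgroup.center G ⊔ Subgroup.zpowers a := by
      rw [Subgroup.map_sup, MonoidHom.map_zpowers]
      refine sup_le ?_ ?_
      · rintro _ ⟨z, hz, rfl⟩
        show g * z * g⁻¹ ∈ _
        rw [Subgroup.mem_center_iff.1 hz g]
        simpa using Subgroup.mem_sup_left hz
      · rw [Subgroup.zpowers_le]
        show g * a * g⁻¹ ∈ _
        have h2 := Subgroup.mul_mem _ (Subgroup.mem_sup_left (T := Subgroup.zpowers a) (hcomm g))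
          (Subgroup.mem_sup_right (Subgroup.mem_zpowers a))
        simpa using h2
    exact hmap ⟨x, hx, rfl⟩
  · have : IsMulCommutative (↥(Subgroup.center G ⊔ Subgroup.zpowers a)) := by
      rw [Subgroup.zpowers_eq_closure, ← Subgroup.closure_eq (Subgroup.center G), ← Subgroup.closure_union]
      apply Subgroup.isMulCommutative_closure
      intro x hx y hy
      rcases hx with hx | hx
      · exact (Subgroup.mem_center_iff.1 hx y).symm
      rcases hy with hy | hy
      · exact Subgroup.mem_center_iff.1 hy x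
      rw [Set.mem_singleton_iff.1 hx, Set.mem_singleton_iff.1 hy]
    exact fun a b => mul_comm' a b

theorem monomial_of_linear {G : Type u} [Group G] [Fintype G] {χ : G → ℂ} (hχ : IsIrrCharacter G χ)
    (h1 : χ 1 = 1) : ∃ (H : Subgroup G) (lam : H →* ℂˣ), χ = indFun H (fun h => (lam h : ℂ)) := by
  obtain ⟨l, hl⟩ := exists_hom_of_degree_one (irr_isCharacter hχ) h1
  refine ⟨⊤, l.comp (⊤ : Subgroup G).subtype, ?_⟩
  refine (indFun_top (isClassFunction_character (irr_isCharacter hχ))).symm.trans ?_
  congr 1
  funext x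
  exact congrFun hl x

theorem indFun_map_subtype {G : Type u} [Group G] [Fintype G] {T : Subgroup G} [Fintype T]
    (H : Subgroup T) (l : H →* ℂˣ) :
    indFun T (indFun H (fun h => (l h : ℂ))) = indFun (H.map T.subtype)
      (fun k => ((l.comp (Subgroup.equivMapOfInjective H T.subtype T.subtype_injective).symm.toMonoidHom) k : ℂ)) := by
  have hKT : H.map T.subtype ≤ T := Subgroup.map_subtype_le H
  have hsub : (H.map T.subtype).subgroupOf T = H := by
    simp [Subgroup.subgroupOf, Subgroup.comap_map_eq_self_of_injective T.subtype_injective]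
  rw [← indFun_trans (H.map T.subtype) T hKT]
  congr 1
  have key : ∀ (S : Subgroup T) (hS : S = H) (f : S → ℂ),
      (∀ x : S, f x = (l ⟨x.1, hS ▸ x.2⟩ : ℂ)) → indFun H (fun h => (l h : ℂ)) = indFun S f := by
    intro S hS f hf
    subst hS
    congr 1
    funext x
    exact (hf x).symm
  refine key _ hsub _ fun x => ?_
  simp only [MonoidHom.coe_comp, Function.comp_apply, MulEquiv.coe_toMonoidHom]
  congr 2
  rw [MulEquiv.symm_apply_eq]
  exact Subtype.ext rfl

theorem monomial_of_nilpotent (n : ℕ) : ∀ (G : Type u) [Group G] [Fintype G] [Group.IsNilpotent G],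
    Nat.card G = n → ∀ χ : G → ℂ, IsIrrCharacter G χ →
    ∃ (H : Subgroup G) (lam : H →* ℂˣ), χ = indFun H (fun h => (lam h : ℂ)) := by
  induction n using Nat.strong_induction_on with
  | _ n IH =>
    intro G _ _ _ hn χ hχ
    classical
    obtain ⟨d, ρ, hirr, hρ⟩ := id hχ
    by_cases hker : ρ.ker = ⊥
    · by_cases hab : Subgroup.center G = ⊤
      · apply monomial_of_linear hχ
        have hcomm : ∀ a b : G, a * b = b * a := fun a b =>
          (Subgroup.mem_center_iff.1 (hab ▸ Subgroup.mem_top b) a)
        exact forall_linear_iff_comm.1 hcomm ⟨χ, hχ⟩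
      obtain ⟨A, hA, hAab, hAnc⟩ := exists_noncentral_abelian_normal hab
      obtain ⟨T, ψ, hAT, hψ, hind, htop⟩ := exists_clifford_correspondent hχ A hAab
      have hT : T ≠ ⊤ := by
        intro hT
        refine hAnc fun a ha => ?_
        have hn' := htop hT ⟨a, ha⟩
        rw [← hρ] at hn'
        obtain ⟨c, hc⟩ := (eq_scalar_iff ρ a).1 (by
          simpa [Representation.char_one] using hn')
        rw [Subgroup.mem_center_iff]
        intro g
        have hk : (g * a * g⁻¹ * a⁻¹) ∈ ρ.ker := by
          have hc' : ρ a = c • (1 : Module.End ℂ (Fin d → ℂ)) := hc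
          rw [MonoidHom.mem_ker, map_mul, map_mul, map_mul]
          calc ρ g * ρ a * ρ g⁻¹ * ρ a⁻¹ = ρ a * (ρ g * ρ g⁻¹) * ρ a⁻¹ := by
                rw [hc']; simp only [mul_smul_comm, smul_mul_assoc, one_mul, mul_one]
            _ = 1 := by rw [← map_mul, mul_inv_cancel, map_one, mul_one, ← map_mul, mul_inv_cancel, map_one]
        rw [hker, Subgroup.mem_bot, mul_inv_eq_one, mul_inv_eq_iff_eq_mul] at hk
        exact hk
      have hlt : Nat.card T < n := by
        rw [← hn]
        refine lt_of_le_of_ne (Subgroup.card_le_card_group T) fun he => hT ?_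
        exact Subgroup.eq_top_of_card_eq T he
      haveI := Fintype.ofFinite T
      obtain ⟨H, l, hl⟩ := IH _ hlt T rfl ψ hψ
      refine ⟨H.map T.subtype,
        l.comp (Subgroup.equivMapOfInjective H T.subtype T.subtype_injective).symm.toMonoidHom, ?_⟩
      rw [hind, hl]
      exact indFun_map_subtype H l
    · let N : Subgroup G := ρ.ker
      obtain ⟨χ', hχ'⟩ := exists_deflate N hχ (fun m hm => by
        rw [← hρ]
        simp only [Representation.character]
        rw [MonoidHom.mem_ker.1 hm, ← map_one ρ])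
      haveI := Fintype.ofFinite (G ⧸ N)
      have hlt : Nat.card (G ⧸ N) < n := by
        rw [← hn, ← Subgroup.index_eq_card]
        have h2 : 1 < Nat.card N := Subgroup.one_lt_card_iff_ne_bot N |>.2 hker
        have h3 := N.index_mul_card
        have h4 : 0 < N.index := Nat.pos_of_ne_zero Subgroup.index_ne_zero_of_finite
        nlinarith
      obtain ⟨H', l, hl⟩ := IH _ hlt (G ⧸ N) rfl _ χ'.2
      let H : Subgroup G := H'.comap (QuotientGroup.mk' N)
      have hNH : N ≤ H := fun m hm => by
        show QuotientGroup.mk' N m ∈ H'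
        rw [QuotientGroup.mk'_apply, (QuotientGroup.eq_one_iff m).2 hm]
        exact H'.one_mem
      let f : H →* H' := { toFun := fun x => ⟨QuotientGroup.mk' N x, x.2⟩, map_one' := Subtype.ext (map_one _), map_mul' := fun a b => Subtype.ext (map_mul _ _ _) }
      refine ⟨H, l.comp f, ?_⟩
      funext g
      have hmap : H.map (QuotientGroup.mk' N) = H' :=
        Subgroup.map_comap_eq_self_of_surjective (QuotientGroup.mk'_surjective N) H'
      haveI := Fintype.ofFinite (H.map (QuotientGroup.mk' N))
      rw [← hχ' g, hl, ← Cfsg.Agent.S1488.result N H hNH (fun x => ((l.comp f) x : ℂ))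
        (fun y => (l ⟨y.1, hmap ▸ y.2⟩ : ℂ)) (fun x => rfl) g]
      have key : ∀ (S : Subgroup (G ⧸ N)) (hS : S = H'),
          indFun H' (fun h => (l h : ℂ)) = indFun S (fun y => (l ⟨y.1, hS ▸ y.2⟩ : ℂ)) := by
        intro S hS
        subst hS
        rfl
      rw [key _ hmap]
      rfl

end Cfsg.Agent.Char
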