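import Mathlib

/-!
# Endomorphisms of finite order over ℂ
-/

set_option autoImplicit false

namespace Cfsg.Agent.Char

open Module

variable {V : Type*} [AddCommGroup V] [Module ℂ V]

/-- An endomorphism with `T ^ N = 1` has an eigenbasis with `N`-th roots of unity as eigenvalues. -/
theorem exists_eigenbasis_of_pow_eq_one [FiniteDimensional ℂ V] (T : Module.End ℂ V) (N : ℕ) (hN : N ≠ 0)
    (hT : T ^ N = 1) :
    ∃ (b : Basis (Fin (finrank ℂ V)) ℂ V) (μ : Fin (finrank ℂ V) → ℂ),
      (∀ i, μ i ^ N = 1) ∧ ∀ i, T (b i) = μ i • b i := by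
  classical
  have hss : T.IsSemisimple := by
    refine Module.End.isSemisimple_of_squarefree_aeval_eq_zero
      (p := (Polynomial.X ^ N - 1 : Polynomial ℂ)) ?_ ?_
    · exact Polynomial.Separable.squarefree
        (Polynomial.X_pow_sub_one_separable_iff.mpr (by exact_mod_cast hN))
    · simp [hT]
  have htop : ⨆ μ : ℂ, T.eigenspace μ = ⊤ := by
    rw [← Module.End.iSup_maxGenEigenspace_eq_top T]
    exact iSup_congr fun μ => (hss.isFinitelySemisimple.maxGenEigenspace_eq_eigenspace μ).symm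
  have hspan : Submodule.span ℂ {v : V | ∃ μ : ℂ, T v = μ • v} = ⊤ := by
    rw [eq_top_iff, ← htop, iSup_le_iff]
    intro μ v hv
    exact Submodule.subset_span ⟨μ, Module.End.mem_eigenspace_iff.mp hv⟩
  obtain ⟨s, hs, hsspan, hli⟩ := exists_linearIndependent ℂ {v : V | ∃ μ : ℂ, T v = μ • v}
  rw [hspan] at hsspan
  let b0 : Basis s ℂ V := Basis.mk hli (by rw [Subtype.range_coe]; exact hsspan.ge)
  have hfin : Finite s := Module.Finite.finite_basis b0
  have := Fintype.ofFinite s
  have hcard : Fintype.card s = finrank ℂ V := (finrank_eq_card_basis b0).symm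
  let e := Fintype.equivFinOfCardEq hcard
  let b := b0.reindex e
  have hev : ∀ i, ∃ μ : ℂ, T (b i) = μ • b i := by
    intro i
    have := hs (e.symm i).2
    simpa [b, b0] using this
  choose μ hμ using hev
  refine ⟨b, μ, fun i => ?_, hμ⟩
  have hpow : ∀ k : ℕ, (T ^ k) (b i) = μ i ^ k • b i := by
    intro k
    induction k with
    | zero => simp
    | succ k ih => rw [pow_succ', Module.End.mul_apply, ih, map_smul, hμ, smul_smul, pow_succ]
  have := hpow N
  rw [hT, Module.End.one_apply] at this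
  exact (smul_left_injective ℂ (b.ne_zero i) (by simpa using this)).symm

theorem eigenbasis_pow_apply {ι : Type*} (b : Basis ι ℂ V) (T : Module.End ℂ V) (μ : ι → ℂ)
    (h : ∀ i, T (b i) = μ i • b i) (k : ℕ) (i : ι) : (T ^ k) (b i) = μ i ^ k • b i := by
  induction k with
  | zero => simp
  | succ k ih => rw [pow_succ', Module.End.mul_apply, ih, map_smul, h, smul_smul, pow_succ]

theorem trace_of_eigenbasis {ι : Type*} [Fintype ι] (b : Basis ι ℂ V) (T : V →ₗ[ℂ] V) (μ : ι → ℂ)
    (h : ∀ i, T (b i) = μ i • b i) : LinearMap.trace ℂ V T = ∑ i, μ i := by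
  classical
  rw [LinearMap.trace_eq_matrix_trace ℂ b T, Matrix.trace]
  refine Finset.sum_congr rfl fun i _ => ?_
  simp [LinearMap.toMatrix_apply, h]

theorem det_of_eigenbasis {ι : Type*} [Fintype ι] (b : Basis ι ℂ V) (T : V →ₗ[ℂ] V) (μ : ι → ℂ)
    (h : ∀ i, T (b i) = μ i • b i) : LinearMap.det T = ∏ i, μ i := by
  classical
  have : LinearMap.toMatrix b b T = Matrix.diagonal μ := by
    ext i j
    by_cases hij : i = j
    · subst hij; simp [LinearMap.toMatrix_apply, h]
    · simp [LinearMap.toMatrix_apply, h, hij]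
  rw [← LinearMap.det_toMatrix b, this, Matrix.det_diagonal]

theorem root_of_unity_isIntegral {N : ℕ} (hN : N ≠ 0) {μ : ℂ} (h : μ ^ N = 1) : IsIntegral ℤ μ :=
  IsIntegral.of_pow (Nat.pos_of_ne_zero hN) (h ▸ isIntegral_one)

theorem root_of_unity_norm {N : ℕ} (hN : N ≠ 0) {μ : ℂ} (h : μ ^ N = 1) : ‖μ‖ = 1 :=
  Complex.norm_eq_one_of_pow_eq_one h hN

theorem root_of_unity_conj {N : ℕ} (hN : N ≠ 0) {μ : ℂ} (h : μ ^ N = 1) :
    (starRingEnd ℂ) μ = μ⁻¹ := by
  have := root_of_unity_norm hN h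
  exact (Complex.inv_eq_conj this).symm

end Cfsg.Agent.Char
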