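import Cfsg.Prelude.Def_Characters
import Cfsg.Agent.Lib.Char.Diag
import Mathlib

/-!
# Basic API of `IsCharacter`, `IsIrrCharacter`
-/

set_option autoImplicit false

namespace Cfsg.Agent.Char

open Cfsg Module
open scoped ComplexConjugate

universe u

variable {G : Type u} [Group G]

section Transport

variable {V W : Type*} [AddCommGroup V] [Module ℂ V] [AddCommGroup W] [Module ℂ W]

/-- Transport of a representation along a linear equivalence. -/
noncomputable def repTransport (ρ : Representation ℂ G V) (e : V ≃ₗ[ℂ] W) :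
    Representation ℂ G W where
  toFun g := e.conj (ρ g)
  map_one' := by simp [Module.End.one_eq_id]
  map_mul' a b := by
    rw [map_mul, Module.End.mul_eq_comp, Module.End.mul_eq_comp]
    exact LinearEquiv.conj_comp e (ρ b) (ρ a)

theorem repTransport_apply (ρ : Representation ℂ G V) (e : V ≃ₗ[ℂ] W) (g : G) (w : W) :
    repTransport ρ e g w = e (ρ g (e.symm w)) := rfl

noncomputable def repTransportEquiv (ρ : Representation ℂ G V) (e : V ≃ₗ[ℂ] W) :
    ρ.Equiv (repTransport ρ e) :=
  Representation.Equiv.mk e fun g => by ext v; simp [repTransport_apply]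

theorem isIrreducible_of_equiv {ρ : Representation ℂ G V} {σ : Representation ℂ G W}
    (φ : ρ.Equiv σ) (h : ρ.IsIrreducible) : σ.IsIrreducible := by
  have hφ : ∀ g v, φ (ρ g v) = σ g (φ v) := fun g v => φ.toIntertwiningMap.isIntertwining ρ σ g v
  let f : Subrepresentation ρ ≃o Subrepresentation σ :=
    { toFun := fun S => ⟨S.toSubmodule.map φ.toLinearEquiv.toLinearMap, by
        rintro g w ⟨v, hv, rfl⟩
        exact ⟨ρ g v, S.apply_mem_toSubmodule g hv, hφ g v⟩⟩
      invFun := fun S => ⟨S.toSubmodule.comap φ.toLinearEquiv.toLinearMap, by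
        intro g v hv
        simp only [Submodule.mem_comap] at hv ⊢
        have := S.apply_mem_toSubmodule g hv
        exact (hφ g v).symm ▸ this⟩
      left_inv := fun S => Subrepresentation.toSubmodule_injective
        (Submodule.comap_map_eq_of_injective φ.toLinearEquiv.injective _)
      right_inv := fun S => Subrepresentation.toSubmodule_injective
        (Submodule.map_comap_eq_of_surjective φ.toLinearEquiv.surjective _)
      map_rel_iff' := by
        intro a b
        show a.toSubmodule.map _ ≤ b.toSubmodule.map _ ↔ a.toSubmodule ≤ b.toSubmodule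
        exact Submodule.map_le_map_iff_of_injective φ.toLinearEquiv.injective _ _ }
  exact f.symm.isSimpleOrder

end Transport

section API

variable {V : Type*} [AddCommGroup V] [Module ℂ V] [FiniteDimensional ℂ V]

theorem isCharacter_character (ρ : Representation ℂ G V) : IsCharacter G ρ.character := by
  let e := (finBasis ℂ V).equivFun
  exact ⟨_, repTransport ρ e, (Representation.char_iso (repTransportEquiv ρ e)).symm⟩

theorem isIrrCharacter_character (ρ : Representation ℂ G V) (h : ρ.IsIrreducible) :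
    IsIrrCharacter G ρ.character := by
  let e := (finBasis ℂ V).equivFun
  exact ⟨_, repTransport ρ e, isIrreducible_of_equiv (repTransportEquiv ρ e) h,
    (Representation.char_iso (repTransportEquiv ρ e)).symm⟩

end API

theorem irr_isCharacter {χ : G → ℂ} (h : IsIrrCharacter G χ) : IsCharacter G χ :=
  let ⟨n, ρ, _, h2⟩ := h; ⟨n, ρ, h2⟩

theorem isCharacter_zero : IsCharacter G (0 : G → ℂ) := by
  refine ⟨0, Representation.trivial ℂ G (Fin 0 → ℂ), ?_⟩
  funext g
  simp [Representation.character]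

theorem isCharacter_add {χ ψ : G → ℂ} (h₁ : IsCharacter G χ) (h₂ : IsCharacter G ψ) :
    IsCharacter G (χ + ψ) := by
  obtain ⟨n, ρ, rfl⟩ := h₁
  obtain ⟨m, σ, rfl⟩ := h₂
  have : (ρ.prod σ).character = ρ.character + σ.character := by
    funext g
    exact LinearMap.trace_prodMap' (ρ g) (σ g)
  exact this ▸ isCharacter_character _

theorem isCharacter_mul {χ ψ : G → ℂ} (h₁ : IsCharacter G χ) (h₂ : IsCharacter G ψ) :
    IsCharacter G (χ * ψ) := by
  obtain ⟨n, ρ, rfl⟩ := h₁
  obtain ⟨m, σ, rfl⟩ := h₂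
  exact Representation.char_tensor ρ σ ▸ isCharacter_character _

theorem isCharacter_sum {ι : Type*} (s : Finset ι) (f : ι → G → ℂ)
    (h : ∀ i ∈ s, IsCharacter G (f i)) : IsCharacter G (∑ i ∈ s, f i) :=
  Finset.sum_induction _ (IsCharacter G) (fun _ _ => isCharacter_add) isCharacter_zero h

theorem isCharacter_nsmul {χ : G → ℂ} (h : IsCharacter G χ) (n : ℕ) : IsCharacter G (n • χ) := by
  induction n with
  | zero => rw [zero_smul]; exact isCharacter_zero
  | succ n ih => rw [succ_nsmul]; exact isCharacter_add ih h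

theorem isCharacter_comp {H : Type*} [Group H] (f : H →* G) {χ : G → ℂ} (h : IsCharacter G χ) :
    IsCharacter H (χ ∘ f) := by
  obtain ⟨n, ρ, rfl⟩ := h
  exact ⟨n, ρ.comp f, rfl⟩

theorem isCharacter_one : IsCharacter G (fun _ => 1) := by
  have : (Representation.trivial ℂ G ℂ).character = fun _ => 1 := by
    funext g
    simp [Representation.character]
  exact this ▸ isCharacter_character _

theorem isClassFunction_character {χ : G → ℂ} (h : IsCharacter G χ) : IsClassFunction G χ := by
  obtain ⟨n, ρ, rfl⟩ := h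
  exact fun g k => Representation.char_conj ρ g k

theorem charOne_eq_natCast {χ : G → ℂ} (h : IsCharacter G χ) : ∃ n : ℕ, χ 1 = n := by
  obtain ⟨n, ρ, rfl⟩ := h
  exact ⟨n, by simp⟩

theorem irr_one_ne_zero {χ : G → ℂ} (h : IsIrrCharacter G χ) : χ 1 ≠ 0 := by
  obtain ⟨n, ρ, hρ, rfl⟩ := h
  rw [Representation.char_one, Nat.cast_ne_zero]
  intro hn
  have : Subsingleton (Fin n → ℂ) := finrank_zero_iff.mp hn
  have : Subsingleton (Subrepresentation ρ) :=
    ⟨fun a b => Subrepresentation.toSubmodule_injective (Subsingleton.elim _ _)⟩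
  exact false_of_nontrivial_of_subsingleton (Subrepresentation ρ)

section Finite

variable [Finite G] {V : Type*} [AddCommGroup V] [Module ℂ V] [FiniteDimensional ℂ V]

omit [Finite G] [FiniteDimensional ℂ V] in
theorem rep_pow_card (ρ : Representation ℂ G V) (g : G) : ρ g ^ Nat.card G = 1 := by
  rw [← map_pow, pow_card_eq_one', map_one]

theorem exists_eigenvalues (ρ : Representation ℂ G V) (g : G) :
    ∃ μ : Fin (finrank ℂ V) → ℂ, (∀ i, μ i ^ orderOf g = 1) ∧
      (∀ k : ℕ, ρ.character (g ^ k) = ∑ i, μ i ^ k) ∧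
      (∀ k : ℕ, LinearMap.det (ρ (g ^ k)) = ∏ i, μ i ^ k) := by
  have hN : orderOf g ≠ 0 := (orderOf_pos g).ne'
  have hT : ρ g ^ orderOf g = 1 := by rw [← map_pow, pow_orderOf_eq_one, map_one]
  obtain ⟨b, μ, hμ, hb⟩ := exists_eigenbasis_of_pow_eq_one (ρ g) _ hN hT
  refine ⟨μ, hμ, fun k => ?_, fun k => ?_⟩
  · exact trace_of_eigenbasis b _ (fun i => μ i ^ k)
      (fun i => by rw [map_pow]; exact eigenbasis_pow_apply b _ μ hb k i)
  · exact det_of_eigenbasis b _ (fun i => μ i ^ k)
      (fun i => by rw [map_pow]; exact eigenbasis_pow_apply b _ μ hb k i)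

theorem char_inv {χ : G → ℂ} (h : IsCharacter G χ) (g : G) : χ g⁻¹ = conj (χ g) := by
  obtain ⟨n, ρ, rfl⟩ := h
  obtain ⟨μ, hμ, htr, -⟩ := exists_eigenvalues ρ g
  obtain ⟨k, hk⟩ : ∃ k : ℕ, g⁻¹ = g ^ k ∧ k + 1 = orderOf g := by
    refine ⟨orderOf g - 1, ?_, Nat.succ_pred_eq_of_pos (orderOf_pos g)⟩
    rw [inv_eq_iff_mul_eq_one, ← pow_succ', Nat.sub_add_cancel (orderOf_pos g), pow_orderOf_eq_one]
  have h1 := htr 1
  rw [pow_one] at h1
  rw [hk.1, htr k, h1, map_sum]
  refine Finset.sum_congr rfl fun i _ => ?_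
  rw [pow_one, root_of_unity_conj (orderOf_pos g).ne' (hμ i)]
  refine eq_inv_of_mul_eq_one_left ?_
  rw [← pow_succ, hk.2, hμ i]

theorem isCharacter_conj {χ : G → ℂ} (h : IsCharacter G χ) :
    IsCharacter G (fun g => conj (χ g)) := by
  obtain ⟨n, ρ, rfl⟩ := h
  have : ρ.dual.character = fun g => conj (ρ.character g) := by
    funext g
    rw [Representation.char_dual]
    exact char_inv ⟨n, ρ, rfl⟩ g
  exact this ▸ isCharacter_character _

theorem char_isIntegral {χ : G → ℂ} (h : IsCharacter G χ) (g : G) : IsIntegral ℤ (χ g) := by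
  obtain ⟨n, ρ, rfl⟩ := h
  obtain ⟨μ, hμ, htr, -⟩ := exists_eigenvalues ρ g
  have h1 := htr 1
  rw [pow_one] at h1
  rw [h1]
  exact IsIntegral.sum _ fun i _ => (root_of_unity_isIntegral (orderOf_pos g).ne' (hμ i)).pow 1

theorem char_norm_le {χ : G → ℂ} (h : IsCharacter G χ) (g : G) : ‖χ g‖ ≤ (χ 1).re := by
  obtain ⟨n, ρ, rfl⟩ := h
  obtain ⟨μ, hμ, htr, -⟩ := exists_eigenvalues ρ g
  have h1 := htr 1
  rw [pow_one] at h1
  rw [h1, Representation.char_one]
  refine (norm_sum_le _ _).trans ?_
  simp [root_of_unity_norm (orderOf_pos g).ne' (hμ _)]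

end Finite

end Cfsg.Agent.Char
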