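import Cfsg.Agent.Lib.Char.CliffordGen
import Cfsg.Agent.Lib.Char.Unique
import Mathlib

/-!
The finite covering group of an invariant irreducible representation of a normal subgroup.
-/

open scoped ComplexConjugate
open Cfsg Module

set_option autoImplicit false
set_option linter.style.haveILetI false
set_option linter.unusedSectionVars false

namespace Cfsg.Agent.Char

universe u
variable {G : Type u} [Group G] [Finite G] {N : Subgroup G} [N.Normal] {d : ℕ}

/-- An endomorphism commuting with an irreducible representation is a scalar. -/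
theorem schur_scalar {K : Type*} [Group K] {V : Type*} [AddCommGroup V] [Module ℂ V]
    [FiniteDimensional ℂ V] (σ : Representation ℂ K V) [σ.IsIrreducible] (f : V →ₗ[ℂ] V)
    (hf : ∀ k, f ∘ₗ σ k = σ k ∘ₗ f) : ∃ c : ℂ, f = c • LinearMap.id := by
  let F : σ.IntertwiningMap σ := ⟨f, hf⟩
  obtain ⟨c, hc⟩ := (Representation.IsIrreducible.algebraMap_intertwiningMap_bijective_of_isAlgClosed
    (ρ := σ)).2 F
  refine ⟨c, ?_⟩
  have := congrArg Representation.IntertwiningMap.toLinearMap hc
  rw [show F.toLinearMap = f from rfl] at this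
  rw [← this]
  ext v
  simp [Algebra.algebraMap_eq_smul_one]

variable (σ : Representation ℂ N (Fin d → ℂ))

/-- Pairs of an element and a determinant one operator implementing its conjugation action. -/
def projCover : Subgroup (G × (Module.End ℂ (Fin d → ℂ))ˣ) where
  carrier := {h | (∀ n : N, (h.2 : Module.End ℂ (Fin d → ℂ)) * σ n =
      σ (MulAut.conjNormal h.1 n) * (h.2 : Module.End ℂ (Fin d → ℂ))) ∧
    LinearMap.det (h.2 : Module.End ℂ (Fin d → ℂ)) = 1}
  one_mem' := ⟨fun n => by simp, by simp⟩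
  mul_mem' := fun {a b} ha hb => ⟨fun n => by
      simp only [Prod.fst_mul, Prod.snd_mul, Units.val_mul, map_mul, MulAut.mul_apply]
      rw [mul_assoc, hb.1 n, ← mul_assoc, ha.1, mul_assoc],
    by simp only [Prod.snd_mul, Units.val_mul, map_mul, ha.2, hb.2, mul_one]⟩
  inv_mem' := fun {a} ha => ⟨fun n => by
      simp only [Prod.fst_inv, Prod.snd_inv]
      have h1 := ha.1 ((MulAut.conjNormal a.1)⁻¹ n)
      rw [MulAut.apply_inv_self, ← map_inv] at h1
      calc ((a.2⁻¹ : (Module.End ℂ (Fin d → ℂ))ˣ) : Module.End ℂ (Fin d → ℂ)) * σ n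
          = ↑a.2⁻¹ * (σ n * (a.2 : Module.End ℂ (Fin d → ℂ))) * ↑a.2⁻¹ := by
            rw [mul_assoc, mul_assoc (σ n), Units.mul_inv, mul_one]
        _ = ↑a.2⁻¹ * ((a.2 : Module.End ℂ (Fin d → ℂ)) * σ (MulAut.conjNormal a.1⁻¹ n)) * ↑a.2⁻¹ := by rw [h1]
        _ = _ := by rw [← mul_assoc, Units.inv_mul, one_mul],
    by
      have h1 : LinearMap.det (((a.2⁻¹ : (Module.End ℂ (Fin d → ℂ))ˣ) : Module.End ℂ (Fin d → ℂ)) *
          (a.2 : Module.End ℂ (Fin d → ℂ))) = 1 := by rw [Units.inv_mul, map_one]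
      simp only [Prod.snd_inv]
      rwa [map_mul, ha.2, mul_one] at h1⟩

/-- The projection of the covering group. -/
def coverProj : projCover σ →* G := (MonoidHom.fst _ _).comp (projCover σ).subtype

theorem mem_projCover_iff (h : G × (Module.End ℂ (Fin d → ℂ))ˣ) : h ∈ projCover σ ↔
    (∀ n : N, (h.2 : Module.End ℂ (Fin d → ℂ)) * σ n =
      σ (MulAut.conjNormal h.1 n) * (h.2 : Module.End ℂ (Fin d → ℂ))) ∧
    LinearMap.det (h.2 : Module.End ℂ (Fin d → ℂ)) = 1 := Iff.rfl

theorem finite_projCover [σ.IsIrreducible] (hd : d ≠ 0) : Finite (projCover σ) := by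
  classical
  let F : projCover σ → G := fun h => h.1.1
  refine Finite.of_finite_univ ?_
  refine Set.Finite.of_finite_fibers F (Set.toFinite _) fun g _ => ?_
  rw [Set.univ_inter]
  by_cases hne : (F ⁻¹' {g}).Nonempty
  · obtain ⟨h0, hh0⟩ := hne
    have hfin : {c : ℂ | c ^ d = 1}.Finite := by
      have : {c : ℂ | c ^ d = 1} ⊆ (Polynomial.nthRootsFinset d (1 : ℂ) : Set ℂ) := fun c hc =>
        (Polynomial.mem_nthRootsFinset (Nat.pos_of_ne_zero hd) (1 : ℂ)).2 hc
      exact (Finset.finite_toSet _).subset this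
    have hsc : ∀ h : projCover σ, F h = g → ∃ c : ℂ, c ^ d = 1 ∧
        (h.1.2 : Module.End ℂ (Fin d → ℂ)) = c • (h0.1.2 : Module.End ℂ (Fin d → ℂ)) := by
      intro h hh
      have hk := (mem_projCover_iff σ _).1 ((h * h0⁻¹ : projCover σ)).2
      have h1 : (h * h0⁻¹).1.1 = 1 := by
        simp only [Subgroup.coe_mul, Subgroup.coe_inv, Prod.fst_mul, Prod.fst_inv]
        rw [show h.1.1 = g from hh,
          show h0.1.1 = g from hh0, mul_inv_cancel]
      obtain ⟨c, hc⟩ := schur_scalar σ _ (fun n => by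
        have := hk.1 n
        rw [h1, map_one, MulAut.one_apply] at this
        exact this)
      have hdet := hk.2
      rw [hc, LinearMap.det_smul, LinearMap.det_id, mul_one, Module.finrank_fin_fun] at hdet
      refine ⟨c, hdet, ?_⟩
      have e : h = (h * h0⁻¹) * h0 := by simp
      conv_lhs => rw [e]
      simp only [Subgroup.coe_mul, Prod.snd_mul, Units.val_mul]
      rw [show ((h.1.2 : Module.End ℂ (Fin d → ℂ)) *
        (((h0⁻¹ : projCover σ) : G × (Module.End ℂ (Fin d → ℂ))ˣ).2 : Module.End ℂ (Fin d → ℂ))) =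
          c • LinearMap.id from hc, ← Module.End.one_eq_id, smul_one_mul]
    choose c hc1 hc2 using hsc
    haveI := hfin.to_subtype
    have : Finite (F ⁻¹' {g} : Set (projCover σ)) := by
      refine Finite.of_injective (fun h => (⟨c h.1 h.2, hc1 h.1 h.2⟩ : {c : ℂ | c ^ d = 1})) ?_
      intro a b hab
      have hcc : c a.1 a.2 = c b.1 b.2 := congrArg Subtype.val hab
      apply Subtype.ext
      apply Subtype.ext
      refine Prod.ext (a.2.trans b.2.symm) (Units.ext ?_)
      rw [hc2 a.1 a.2, hc2 b.1 b.2, hcc]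
    exact Set.toFinite _
  · rw [Set.not_nonempty_iff_eq_empty.1 hne]
    exact Set.finite_empty

theorem coverProj_surjective [σ.IsIrreducible] (hd : d ≠ 0)
    (hinv : ∀ (g : G) (n : N), σ.character (MulAut.conjNormal g n) = σ.character n) :
    Function.Surjective (coverProj σ) := by
  intro g
  let σ' : Representation ℂ N (Fin d → ℂ) := σ.comp (MulAut.conjNormal g : MulAut N).toMonoidHom
  obtain ⟨e⟩ := equiv_of_character_eq σ σ' (funext fun n => (hinv g n).symm)
  let L := e.toLinearEquiv
  have hL : ∀ n : N, (L.toLinearMap : Module.End ℂ (Fin d → ℂ)) * σ n =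
      σ (MulAut.conjNormal g n) * L.toLinearMap := fun n => e.toIntertwiningMap.isIntertwining' n
  have hdet : LinearMap.det L.toLinearMap ≠ 0 := L.isUnit_det'.ne_zero
  obtain ⟨c, hc⟩ := IsAlgClosed.exists_pow_nat_eq (LinearMap.det L.toLinearMap)⁻¹ (Nat.pos_of_ne_zero hd)
  have hc0 : c ≠ 0 := fun h0 => by
    rw [h0, zero_pow hd] at hc
    exact inv_ne_zero hdet hc.symm
  let X : (Module.End ℂ (Fin d → ℂ))ˣ := ⟨c • L.toLinearMap, c⁻¹ • L.symm.toLinearMap,
    by ext v; simp [smul_smul, hc0], by ext v; simp [smul_smul, hc0]⟩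
  refine ⟨⟨(g, X), fun n => ?_, ?_⟩, rfl⟩
  · show (c • L.toLinearMap) * σ n = σ (MulAut.conjNormal g n) * (c • L.toLinearMap)
    rw [smul_mul_assoc, hL, mul_smul_comm]
  · show LinearMap.det (c • L.toLinearMap) = 1
    rw [LinearMap.det_smul, Module.finrank_fin_fun, hc, inv_mul_cancel₀ hdet]

/-- The multiplicity space. -/
def multSpace {K : Type*} [Group K] {V W : Type*} [AddCommGroup V] [Module ℂ V] [AddCommGroup W] [Module ℂ W]
    (σ : Representation ℂ K V) (ρ : Representation ℂ K W) : Submodule ℂ (V →ₗ[ℂ] W) where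
  carrier := {f | ∀ k : K, f ∘ₗ σ k = ρ k ∘ₗ f}
  zero_mem' := fun k => by simp
  add_mem' := fun {a b} ha hb k => by simp [LinearMap.add_comp, LinearMap.comp_add, ha k, hb k]
  smul_mem' := fun c {a} ha k => by simp [LinearMap.smul_comp, LinearMap.comp_smul, ha k]

theorem deg_dvd_index_scalar {K : Type*} [Group K] [Fintype K] {V : Type*} [AddCommGroup V] [Module ℂ V]
    [FiniteDimensional ℂ V] (τ : Representation ℂ K V) (h : τ.IsIrreducible) (Z : Subgroup K)
    (hZ : ∀ z ∈ Z, ∃ c : ℂ, τ z = c • LinearMap.id) : deg τ.character ∣ Z.index := by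
  classical
  let R : Subgroup K := MonoidHom.ker τ
  obtain ⟨χ', hχ'⟩ := exists_deflate R (isIrrCharacter_character τ h) (fun n hn => by
    simp only [Representation.character]
    rw [MonoidHom.mem_ker.1 hn, ← map_one τ])
  have hdeg : deg (χ' : K ⧸ R → ℂ) = deg τ.character := by
    rw [deg, deg, ← hχ' 1, QuotientGroup.mk_one]
  have hd := deg_dvd_index_central χ'.2 (Z.map (QuotientGroup.mk' R)) (fun q hq => by
    obtain ⟨z, hz, rfl⟩ := hq
    obtain ⟨c, hc⟩ := hZ z hz
    rw [Subgroup.mem_center_iff]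
    intro w
    obtain ⟨u, rfl⟩ := QuotientGroup.mk_surjective w
    rw [QuotientGroup.mk'_apply, ← QuotientGroup.mk_mul, ← QuotientGroup.mk_mul, QuotientGroup.eq]
    show (u * z)⁻¹ * (z * u) ∈ MonoidHom.ker τ
    have hcomm : τ (z * u) = τ (u * z) := by
      rw [map_mul, map_mul, hc, ← Module.End.one_eq_id, smul_mul_assoc, mul_smul_comm, one_mul, mul_one]
    rw [MonoidHom.mem_ker, map_mul, hcomm, ← map_mul, inv_mul_cancel, map_one])
  rw [hdeg] at hd
  exact hd.trans (Subgroup.index_map_dvd _ (QuotientGroup.mk'_surjective R))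

theorem finrank_dvd_of_action {H : Type*} [Group H] [Fintype H] {V W U : Type*} [AddCommGroup V]
    [Module ℂ V] [FiniteDimensional ℂ V] [AddCommGroup W] [Module ℂ W] [FiniteDimensional ℂ W] [Nontrivial W]
    [AddCommGroup U] [Module ℂ U] [FiniteDimensional ℂ U] (ρ : Representation ℂ G W) (hρ : ρ.IsIrreducible)
    (π : H →* G) (hπ : Function.Surjective π) (τ : Representation ℂ H U) (ι : U →ₗ[ℂ] (V →ₗ[ℂ] W))
    (hι : Function.Injective ι) (X : H → Module.End ℂ V)
    (hτ : ∀ h f v, ι (τ h f) (X h v) = ρ (π h) (ι f v))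
    (hdim : finrank ℂ W = finrank ℂ U * finrank ℂ V) (Z : Subgroup H)
    (hZ : ∀ z ∈ Z, ∃ c : ℂ, τ z = c • LinearMap.id) : finrank ℂ U ∣ Z.index := by
  classical
  have hW : 0 < finrank ℂ W := Module.finrank_pos
  haveI : Nontrivial U := Module.nontrivial_of_finrank_pos (R := ℂ)
    (Nat.pos_of_ne_zero fun h0 => by rw [hdim, h0, zero_mul] at hW; omega)
  haveI : Nontrivial (Subrepresentation τ) := ⟨⟨⊥, ⊤, fun hbt =>
    bot_ne_top (α := Submodule ℂ U) (congrArg Subrepresentation.toSubmodule hbt)⟩⟩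
  have hirr : τ.IsIrreducible := by
    refine ⟨fun S => ?_⟩
    by_cases hS : S.toSubmodule = ⊥
    · exact Or.inl (Subrepresentation.toSubmodule_injective hS)
    refine Or.inr (Subrepresentation.toSubmodule_injective ?_)
    let b := Module.finBasis ℂ S.toSubmodule
    let L : (Fin (finrank ℂ S.toSubmodule) → V) →ₗ[ℂ] W := ∑ i, (ι (b i).1).comp (LinearMap.proj i)
    have hL : ∀ x, L x = ∑ i, ι (b i).1 (x i) := fun x => by simp [L, LinearMap.sum_apply]
    let V' : Submodule ℂ W := LinearMap.range L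
    have hrange : ∀ f : U, f ∈ S.toSubmodule → ∀ v, ι f v ∈ V' := by
      intro f hf v
      have e2 : f = ∑ i, b.repr ⟨f, hf⟩ i • (b i).1 := by
        have h3 : S.toSubmodule.subtype (∑ i, b.repr ⟨f, hf⟩ i • b i) = f := by
          rw [b.sum_repr]; rfl
        rw [map_sum] at h3
        exact h3.symm
      refine ⟨fun i => b.repr ⟨f, hf⟩ i • v, ?_⟩
      rw [hL]
      conv_rhs => rw [e2, map_sum, LinearMap.sum_apply]
      exact Finset.sum_congr rfl fun i _ => by rw [map_smul, map_smul, LinearMap.smul_apply]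
    have hinv : ∀ g : G, ∀ w ∈ V', ρ g w ∈ V' := by
      rintro g _ ⟨x, rfl⟩
      obtain ⟨h, rfl⟩ := hπ g
      rw [hL, map_sum]
      refine Submodule.sum_mem _ fun i _ => ?_
      rw [← hτ]
      exact hrange _ (S.apply_mem_toSubmodule h (b i).2) _
    have htop : V' = ⊤ := by
      haveI := hρ
      rcases IsSimpleOrder.eq_bot_or_eq_top (⟨V', hinv⟩ : Subrepresentation ρ) with hb | ht
      · exfalso
        apply hS
        rw [Submodule.eq_bot_iff]
        intro f hf
        refine hι (LinearMap.ext fun v => ?_)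
        have := hrange f hf v
        rw [show V' = ⊥ from congrArg Subrepresentation.toSubmodule hb, Submodule.mem_bot] at this
        simp [this]
      · exact congrArg Subrepresentation.toSubmodule ht
    apply Submodule.eq_top_of_finrank_eq
    refine le_antisymm (Submodule.finrank_le _) ?_
    have h3 : finrank ℂ V' ≤ finrank ℂ S.toSubmodule * finrank ℂ V := by
      refine (LinearMap.finrank_range_le L).trans ?_
      rw [Module.finrank_pi_fintype]
      simp
    rw [htop, finrank_top, hdim] at h3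
    refine Nat.le_of_mul_le_mul_right h3 (Nat.pos_of_ne_zero fun h0 => ?_)
    rw [h0, mul_zero] at hdim
    omega
  have hdeg : deg τ.character = finrank ℂ U := by
    have h1 := char_one_eq_deg (isCharacter_character τ)
    rw [Representation.char_one] at h1
    exact_mod_cast h1.symm
  rw [← hdeg]
  exact deg_dvd_index_scalar τ hirr Z hZ

/-- A fully invariant constituent has multiplicity dividing the index. -/
theorem invariant_mult_dvd_index {χ : G → ℂ} (hχ : IsIrrCharacter G χ) {θ : N → ℂ}
    (hθ : IsIrrCharacter N θ) {e : ℕ} (he : ∀ n : N, χ n = (e : ℂ) * θ n) : e ∣ N.index := by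
  classical
  haveI := Fintype.ofFinite G
  haveI := Fintype.ofFinite N
  obtain ⟨m, ρ, hρ, rfl⟩ := id hχ
  obtain ⟨d, σ, hσ, rfl⟩ := id hθ
  haveI := hρ
  haveI := hσ
  have hd : d ≠ 0 := fun h0 => irr_one_ne_zero hθ (by simp [h0])
  have he0 : e ≠ 0 := fun h0 => irr_one_ne_zero hχ (by
    have := he 1
    simpa [h0] using this)
  have hm : m = e * d := by
    have := he 1
    simp only [OneMemClass.coe_one, Representation.char_one, Module.finrank_fin_fun] at this
    exact_mod_cast this
  let ρN : Representation ℂ N (Fin m → ℂ) := ρ.comp N.subtype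
  -- the multiplicity space
  have hUdim : finrank ℂ (multSpace σ ρN) = e := by
    have h1 : classInner ρN.character σ.character = (e : ℂ) := by
      rw [show ρN.character = (e : ℂ) • σ.character from funext fun n => he n, classInner_smul_left,
        irr_self (isIrrCharacter_character σ hσ), mul_one]
    rw [classInner_rep] at h1
    have h2 : finrank ℂ (σ.IntertwiningMap ρN) = e := by exact_mod_cast h1
    rw [← h2]
    exact LinearEquiv.finrank_eq
      { toFun := fun f => ⟨f.1, f.2⟩
        map_add' := fun a b => rfl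
        map_smul' := fun c a => rfl
        invFun := fun F => ⟨F.toLinearMap, F.isIntertwining'⟩
        left_inv := fun f => rfl
        right_inv := fun F => rfl }
  haveI : Finite (projCover σ) := finite_projCover σ hd
  have hinv : ∀ (g : G) (n : N), σ.character (MulAut.conjNormal g n) = σ.character n := by
    intro g n
    have h1 := he (MulAut.conjNormal g n)
    rw [MulAut.conjNormal_apply, Representation.char_conj, he n] at h1
    exact (mul_left_cancel₀ (Nat.cast_ne_zero.2 he0) h1).symm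
  have hsurj := coverProj_surjective σ hd hinv
  -- the action on the multiplicity space
  have hmem : ∀ (h : projCover σ) (f : (Fin d → ℂ) →ₗ[ℂ] (Fin m → ℂ)), f ∈ (multSpace σ ρN) →
      ρ (coverProj σ h) ∘ₗ f ∘ₗ ((h.1.2⁻¹ : (Module.End ℂ (Fin d → ℂ))ˣ) : Module.End ℂ (Fin d → ℂ)) ∈ (multSpace σ ρN) := by
    intro h f hf n
    have h1 := ((mem_projCover_iff σ _).1 (h⁻¹ : projCover σ).2).1 n
    simp only [Subgroup.coe_inv, Prod.snd_inv, Prod.fst_inv] at h1
    refine LinearMap.ext fun v => ?_
    have h1v := LinearMap.congr_fun h1 v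
    simp only [Module.End.mul_apply] at h1v
    simp only [LinearMap.comp_apply]
    rw [h1v]
    have h2 := LinearMap.congr_fun (hf (MulAut.conjNormal (h.1.1)⁻¹ n))
      (((h.1.2⁻¹ : (Module.End ℂ (Fin d → ℂ))ˣ) : Module.End ℂ (Fin d → ℂ)) v)
    simp only [LinearMap.comp_apply] at h2
    rw [h2]
    show ρ (coverProj σ h) (ρ _ _) = ρ (n : G) (ρ (coverProj σ h) _)
    rw [← Module.End.mul_apply, ← map_mul, ← Module.End.mul_apply (ρ (n : G)), ← map_mul]
    congr 2
    show coverProj σ h * (N.subtype (MulAut.conjNormal h.1.1⁻¹ n)) = (n : G) * coverProj σ h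
    rw [show N.subtype (MulAut.conjNormal h.1.1⁻¹ n) = h.1.1⁻¹ * (n : G) * h.1.1⁻¹⁻¹ from MulAut.conjNormal_apply _ _]
    show h.1.1 * _ = _ * h.1.1
    group
  let τ : Representation ℂ (projCover σ) (multSpace σ ρN) :=
    { toFun := fun h =>
        { toFun := fun f => ⟨_, hmem h f.1 f.2⟩
          map_add' := fun a b => Subtype.ext (by simp [LinearMap.add_comp, LinearMap.comp_add])
          map_smul' := fun c a => Subtype.ext (by simp [LinearMap.smul_comp, LinearMap.comp_smul]) }
      map_one' := by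
        refine LinearMap.ext fun f => Subtype.ext ?_
        simp [Module.End.one_eq_id]
      map_mul' := fun a b => by
        refine LinearMap.ext fun f => Subtype.ext ?_
        simp [Module.End.mul_eq_comp, map_mul, LinearMap.comp_assoc] }
  have hτ : ∀ (h : projCover σ) (f : (multSpace σ ρN)), ((τ h f : (multSpace σ ρN)) : (Fin d → ℂ) →ₗ[ℂ] (Fin m → ℂ)) =
      ρ (coverProj σ h) ∘ₗ f.1 ∘ₗ ((h.1.2⁻¹ : (Module.End ℂ (Fin d → ℂ))ˣ) : Module.End ℂ (Fin d → ℂ)) :=
    fun h f => rfl
  -- the preimage of `N` acts by scalars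
  let Z : Subgroup (projCover σ) := N.comap (coverProj σ)
  have hscal : ∀ z ∈ Z, ∃ c : ℂ, τ z = c • LinearMap.id := by
    intro z hz
    set n : N := ⟨coverProj σ z, hz⟩ with hn
    have hz' := (mem_projCover_iff σ _).1 z.2
    obtain ⟨c, hc⟩ := schur_scalar σ (σ n⁻¹ * (z.1.2 : Module.End ℂ (Fin d → ℂ)))
      (fun k => by
        show σ n⁻¹ * _ * σ k = σ k * (σ n⁻¹ * _)
        rw [mul_assoc, hz'.1 k, ← mul_assoc, ← mul_assoc, ← map_mul, ← map_mul]
        congr 2
        apply Subtype.ext
        rw [show z.1.1 = (n : G) from rfl]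
        simp only [Subgroup.coe_mul, Subgroup.coe_inv, MulAut.conjNormal_apply]
        group)
    have hX : (z.1.2 : Module.End ℂ (Fin d → ℂ)) = c • σ n := by
      have := congrArg (fun f => σ n * f) hc
      simp only [← mul_assoc, ← map_mul, mul_inv_cancel, map_one, one_mul] at this
      rw [this, ← Module.End.one_eq_id, mul_smul_comm, mul_one]
    have hc0 : c ≠ 0 := by
      intro h0
      rw [h0, zero_smul] at hX
      have := hz'.2
      rw [hX, ← zero_smul ℂ (LinearMap.id : Module.End ℂ (Fin d → ℂ)), LinearMap.det_smul,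
        Module.finrank_fin_fun, zero_pow hd, zero_mul] at this
      exact zero_ne_one this
    refine ⟨c⁻¹, LinearMap.ext fun f => Subtype.ext ?_⟩
    rw [hτ]
    have hXinv : ((z.1.2⁻¹ : (Module.End ℂ (Fin d → ℂ))ˣ) : Module.End ℂ (Fin d → ℂ)) =
        c⁻¹ • σ n⁻¹ := by
      refine Units.inv_eq_of_mul_eq_one_right ?_
      rw [hX, smul_mul_smul_comm, mul_inv_cancel₀ hc0, ← map_mul, mul_inv_cancel, map_one, one_smul]
    show ρ (coverProj σ z) ∘ₗ f.1 ∘ₗ _ = c⁻¹ • f.1
    rw [hXinv, LinearMap.comp_smul, LinearMap.comp_smul, f.2 n⁻¹, ← LinearMap.comp_assoc]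
    congr 1
    show (ρ (n : G) * ρ ((n⁻¹ : N) : G)) ∘ₗ f.1 = f.1
    rw [← map_mul, Subgroup.coe_inv, mul_inv_cancel, map_one, Module.End.one_eq_id, LinearMap.id_comp]
  haveI := Fintype.ofFinite (projCover σ)
  haveI : Nontrivial (Fin m → ℂ) := by
    refine Module.nontrivial_of_finrank_pos (R := ℂ) ?_
    rw [Module.finrank_fin_fun, hm]
    exact Nat.mul_pos (Nat.pos_of_ne_zero he0) (Nat.pos_of_ne_zero hd)
  have hfaith := finrank_dvd_of_action (U := multSpace σ ρN) ρ hρ (coverProj σ) hsurj τ
    (multSpace σ ρN).subtype Subtype.val_injective (fun h => (h.1.2 : Module.End ℂ (Fin d → ℂ)))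
    (fun h f v => by
      show ρ (coverProj σ h) (f.1 (((h.1.2⁻¹ : (Module.End ℂ (Fin d → ℂ))ˣ) : Module.End ℂ (Fin d → ℂ))
        ((h.1.2 : Module.End ℂ (Fin d → ℂ)) v))) = ρ (coverProj σ h) (f.1 v)
      rw [← Module.End.mul_apply, Units.inv_mul, Module.End.one_apply])
    (by rw [hUdim, Module.finrank_fin_fun, Module.finrank_fin_fun, hm]) Z hscal
  rw [hUdim, Subgroup.index_comap_of_surjective _ hsurj] at hfaith
  exact hfaith

end Cfsg.Agent.Char
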