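import Cfsg.Agent.Lib.Char.Coprime
import Cfsg.Agent.Lib.Fusion.Cores
import Cfsg.Agent.S0887
import Cfsg.Agent.S0867
import Mathlib

/-!
Characters of degree and determinantal order prime to `p`, and the `p`-residual.
-/

open scoped ComplexConjugate
open Cfsg

set_option autoImplicit false
set_option linter.style.haveILetI false
set_option linter.unusedSectionVars false

namespace Cfsg.Agent.Char

universe u

theorem sum_eq_sum_fixed {A X : Type*} [Group A] [MulAction A X] [Fintype X] {p : ℕ} [Fact p.Prime]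
    [DecidablePred (· ∈ MulAction.fixedPoints A X)]
    (hA : IsPGroup p A) (f : X → ℕ) (hf : ∀ (a : A) (x : X), f (a • x) = f x) :
    ((∑ x, f x : ℕ) : ZMod p) = ((∑ x ∈ Finset.univ.filter (· ∈ MulAction.fixedPoints A X), f x : ℕ) : ZMod p) := by
  classical
  push_cast
  rw [Finset.sum_filter, ← Finset.sum_fiberwise_of_maps_to (t := Finset.univ.image f) (g := f)
      (fun x _ => Finset.mem_image_of_mem f (Finset.mem_univ x)) (fun x => (f x : ZMod p)),
    ← Finset.sum_fiberwise_of_maps_to (t := Finset.univ.image f) (g := f)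
      (fun x _ => Finset.mem_image_of_mem f (Finset.mem_univ x))
      (fun x => if x ∈ MulAction.fixedPoints A X then (f x : ZMod p) else 0)]
  refine Finset.sum_congr rfl fun v _ => ?_
  rw [← Finset.sum_filter, Finset.filter_filter]
  rw [Finset.sum_congr rfl (g := fun _ => (v : ZMod p)) (fun x hx => by rw [(Finset.mem_filter.1 hx).2]),
    Finset.sum_congr rfl (s₁ := Finset.univ.filter fun x => f x = v ∧ x ∈ MulAction.fixedPoints A X)
      (g := fun _ => (v : ZMod p)) (fun x hx => by rw [(Finset.mem_filter.1 hx).2.1]),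
    Finset.sum_const, Finset.sum_const, nsmul_eq_mul, nsmul_eq_mul]
  congr 1
  let S : SubMulAction A X := ⟨{x | f x = v}, fun a x hx => (hf a x).trans hx⟩
  have h := hA.card_modEq_card_fixedPoints (↥S)
  rw [← ZMod.natCast_eq_natCast_iff] at h
  have e1 : Nat.card (↥S) = (Finset.univ.filter fun x => f x = v).card := by
    rw [Nat.card_eq_fintype_card]
    exact Fintype.card_of_subtype _ fun x => by simp [S]; rfl
  let e : ↥(MulAction.fixedPoints A ↥S) ≃ {x : X // f x = v ∧ x ∈ MulAction.fixedPoints A X} :=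
    { toFun := fun x => ⟨x.1.1, x.1.2, fun a => congrArg Subtype.val (x.2 a)⟩
      invFun := fun x => ⟨⟨x.1, x.2.1⟩, fun a => Subtype.ext (x.2.2 a)⟩
      left_inv := fun x => rfl
      right_inv := fun x => rfl }
  have e2 : Nat.card ↥(MulAction.fixedPoints A ↥S) =
      (Finset.univ.filter fun x => f x = v ∧ x ∈ MulAction.fixedPoints A X).card := by
    rw [Nat.card_congr e, Nat.card_eq_fintype_card, Fintype.card_subtype]
  rw [← e1, ← e2]
  exact h

variable {G : Type u} [Group G] [Finite G] {p : ℕ} [hp : Fact p.Prime]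

/-- The conjugation action on the characters of a normal subgroup. -/
@[reducible] noncomputable def irrConjAct (K : Subgroup G) [K.Normal] [Fintype K] (A : Subgroup G) :
    MulAction A (IrrCharacter K) where
  smul a θ := irrComp (MulAut.conjNormal (a : G)⁻¹) θ
  one_smul θ := Subtype.ext (funext fun k => by
    show (irrComp (MulAut.conjNormal ((1 : A) : G)⁻¹) θ : K → ℂ) k = _
    rw [irrComp_apply, OneMemClass.coe_one, inv_one, map_one, MulAut.one_apply])
  mul_smul a b θ := Subtype.ext (funext fun k => by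
    show (irrComp (MulAut.conjNormal ((a * b : A) : G)⁻¹) θ : K → ℂ) k =
      (irrComp (MulAut.conjNormal (a : G)⁻¹) (irrComp (MulAut.conjNormal (b : G)⁻¹) θ) : K → ℂ) k
    rw [irrComp_apply, irrComp_apply, irrComp_apply, Subgroup.coe_mul, mul_inv_rev, map_mul, MulAut.mul_apply])

theorem mem_fixed_iff (K : Subgroup G) [K.Normal] [Fintype K] {P : Subgroup G} (hKP : K ⊔ P = ⊤)
    (θ : IrrCharacter K) :
    (∀ a : P, irrComp (MulAut.conjNormal (a : G)⁻¹) θ = θ) ↔
      ∀ (g : G) (k : K), (θ : K → ℂ) (MulAut.conjNormal g k) = (θ : K → ℂ) k := by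
  constructor
  · intro h g k
    have hg : g ∈ ((K ⊔ P : Subgroup G) : Set G) := by rw [hKP]; trivial
    rw [Subgroup.normal_mul] at hg
    obtain ⟨n, hn, a, ha, rfl⟩ := hg
    have h1 := congrFun (congrArg Subtype.val (h ⟨a⁻¹, P.inv_mem ha⟩)) k
    rw [irrComp_apply, inv_inv] at h1
    rw [map_mul, MulAut.mul_apply, ← h1]
    rw [show MulAut.conjNormal n (MulAut.conjNormal a k) =
      (⟨n, hn⟩ : K) * MulAut.conjNormal a k * (⟨n, hn⟩ : K)⁻¹ from
        Subtype.ext (by simp [MulAut.conjNormal_apply])]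
    exact isClassFunction_character (irr_isCharacter θ.2) _ _
  · intro h a
    exact Subtype.ext (funext fun k => by rw [irrComp_apply, h])

theorem detOrder_not_dvd (θ : IrrCharacter (pResidual p G))
    (hinv : ∀ (g : G) (k : pResidual p G), (θ : pResidual p G → ℂ) (MulAut.conjNormal g k) = (θ : pResidual p G → ℂ) k) :
    ¬ p ∣ detOrder (θ : pResidual p G → ℂ) := by
  obtain ⟨d, σ, hσ⟩ := irr_isCharacter θ.2
  rw [detOrder_eq σ hσ]
  rintro ⟨m, hm⟩
  set c := (detHom σ) ^ m with hc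
  have hcinv : ∀ (g : G) (k : pResidual p G), c (MulAut.conjNormal g k) = c k := fun g k => by
    have h := detChar_conj_inv (pResidual p G) (irr_isCharacter θ.2) hinv g k
    rw [detChar_eq_hom σ hσ] at h
    simp only [hc, MonoidHom.pow_apply, Units.ext h]
  have hcp : c ^ p = 1 := by
    refine MonoidHom.ext fun k => ?_
    simp only [hc, MonoidHom.pow_apply, ← pow_mul, MonoidHom.one_apply]
    rw [mul_comm, ← hm, ← MonoidHom.pow_apply, pow_orderOf_eq_one, MonoidHom.one_apply]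
  haveI hKn : (c.ker.map (pResidual p G).subtype).Normal := ⟨fun n hn g => by
    obtain ⟨w, hw, rfl⟩ := Subgroup.mem_map.1 hn
    refine Subgroup.mem_map.2 ⟨MulAut.conjNormal g w, ?_, by simp [MulAut.conjNormal_apply]⟩
    rw [MonoidHom.mem_ker] at hw ⊢
    rw [hcinv, hw]⟩
  have hpg : IsPGroup p (G ⧸ c.ker.map (pResidual p G).subtype) := by
    intro x
    obtain ⟨g, rfl⟩ := QuotientGroup.mk_surjective x
    obtain ⟨j, hj⟩ := Fusion.isPGroup_quotient_pResidual (G := G) (p := p) (QuotientGroup.mk g)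
    rw [← QuotientGroup.mk_pow, QuotientGroup.eq_one_iff] at hj
    refine ⟨j + 1, ?_⟩
    rw [← QuotientGroup.mk_pow, QuotientGroup.eq_one_iff, pow_succ, pow_mul]
    refine Subgroup.mem_map.2 ⟨⟨_, hj⟩ ^ p, ?_, by simp⟩
    rw [MonoidHom.mem_ker, map_pow, ← MonoidHom.pow_apply, hcp, MonoidHom.one_apply]
  have hle := Fusion.pResidual_le_of_isPGroup_quotient hpg
  have hc1 : c = 1 := MonoidHom.ext fun k => by
    obtain ⟨w, hw, hwk⟩ := Subgroup.mem_map.1 (hle k.2)
    rw [← Subtype.ext (show (w : G) = (k : G) from hwk)]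
    exact hw
  have hdvd : orderOf (detHom σ) ∣ m := orderOf_dvd_of_pow_eq_one hc1
  have hm0 : m ≠ 0 := by
    rintro rfl
    rw [mul_zero, orderOf_eq_zero_iff'] at hm
    exact hm (Nat.card (pResidual p G)) Nat.card_pos (MonoidHom.ext fun k => by
      rw [MonoidHom.pow_apply, ← map_pow, pow_card_eq_one', map_one, MonoidHom.one_apply])
  rw [hm] at hdvd
  have h2 := Nat.le_of_dvd (Nat.pos_of_ne_zero hm0) hdvd
  have h3 := Nat.mul_le_mul_right m hp.out.two_le
  omega

/-- Degrees squared of the characters with degree and determinantal order prime to `p`. -/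
theorem card_pResidual_modEq [Fintype (pResidual p G)]
    [DecidablePred fun χ : IrrCharacter G => ¬ p ∣ charDegree (χ : G → ℂ) ∧ ¬ p ∣ detOrder (χ : G → ℂ)] :
    (Nat.card (pResidual p G) : ZMod p) = ((∑ χ ∈ Finset.univ.filter
      (fun χ : IrrCharacter G => ¬ p ∣ charDegree (χ : G → ℂ) ∧ ¬ p ∣ detOrder (χ : G → ℂ)),
      charDegree (χ : G → ℂ) ^ 2 : ℕ) : ZMod p) := by
  classical
  haveI := Fintype.ofFinite G
  set K := pResidual p G with hK
  obtain ⟨P⟩ : Nonempty (Sylow p G) := inferInstance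
  have hKP : K ⊔ (P : Subgroup G) = ⊤ := Fusion.pResidual_sup_sylow P
  obtain ⟨j, hj⟩ : ∃ j, K.index = p ^ j :=
    IsPGroup.iff_card.1 (Fusion.isPGroup_quotient_pResidual (G := G) (p := p))
  letI : MulAction (P : Subgroup G) (IrrCharacter K) := irrConjAct K (P : Subgroup G)
  have hdeg : ∀ {H : Type u} [Group H] [Finite H] (χ : IrrCharacter H),
      (χ : H → ℂ) 1 = (charDegree (χ : H → ℂ) : ℂ) := fun χ => char_one_eq_deg (irr_isCharacter χ.2)
  have hcard : Nat.card K = ∑ θ : IrrCharacter K, charDegree (θ : K → ℂ) ^ 2 := by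
    have h := sum_sq_deg (G := K)
    simp only [hdeg] at h
    exact_mod_cast h.symm
  rw [hcard, sum_eq_sum_fixed (A := (P : Subgroup G)) P.2 (fun θ : IrrCharacter K => charDegree (θ : K → ℂ) ^ 2)
    (fun a θ => by
      show charDegree (irrComp (MulAut.conjNormal (a : G)⁻¹) θ : K → ℂ) ^ 2 = _
      simp only [charDegree, irrComp_apply, map_one])]
  rw [Nat.cast_sum, Nat.cast_sum]
  -- discard the degrees divisible by `p`
  rw [← Finset.sum_filter_of_ne (p := fun θ : IrrCharacter K => ¬ p ∣ charDegree (θ : K → ℂ)) (fun θ _ hne hd => hne (by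
      rw [Nat.cast_pow, (CharP.cast_eq_zero_iff (ZMod p) p _).2 hd, zero_pow two_ne_zero]))]
  rw [Finset.filter_filter]
  have hfix : ∀ θ : IrrCharacter K, θ ∈ MulAction.fixedPoints (P : Subgroup G) (IrrCharacter K) ↔
      ∀ (g : G) (k : K), (θ : K → ℂ) (MulAut.conjNormal g k) = (θ : K → ℂ) k :=
    fun θ => mem_fixed_iff K hKP θ
  have hres : ∀ χ : IrrCharacter G, ¬ p ∣ charDegree (χ : G → ℂ) →
      ∃ θ : IrrCharacter K, (∀ k : K, (χ : G → ℂ) k = (θ : K → ℂ) k) ∧
        charDegree (θ : K → ℂ) = charDegree (χ : G → ℂ) := by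
    intro χ hχ
    have hχc := irr_isCharacter χ.2
    have hrc := isCharacter_comp K.subtype hχc
    obtain ⟨θ, hθ⟩ : ∃ θ : IrrCharacter K, classInner ((χ : G → ℂ) ∘ K.subtype) (θ : K → ℂ) ≠ 0 := by
      by_contra hc
      simp only [not_exists, not_not] at hc
      have h := congrFun (char_expansion hrc) 1
      simp only [hc, zero_smul, Finset.sum_const_zero, Pi.zero_apply, Function.comp_apply, map_one] at h
      exact irr_one_ne_zero χ.2 h
    obtain ⟨h1, h2⟩ := Cfsg.Agent.S0887.result K (χ : G → ℂ) χ.2 (θ : K → ℂ) θ.2 hθ _ _ (hdeg χ) (hdeg θ)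
    rw [hj, Nat.dvd_prime_pow hp.out] at h2
    obtain ⟨i, -, hi⟩ := h2
    have hd : charDegree (θ : K → ℂ) = charDegree (χ : G → ℂ) := by
      obtain ⟨q, hq⟩ := h1
      have hθ0 : charDegree (θ : K → ℂ) ≠ 0 := fun h0 => irr_one_ne_zero θ.2 (by rw [hdeg, h0, Nat.cast_zero])
      rw [hq, Nat.mul_div_cancel_left _ (Nat.pos_of_ne_zero hθ0)] at hi
      rcases Nat.eq_zero_or_pos i with rfl | hi0
      · rw [hq, hi, pow_zero, mul_one]
      · exact absurd (hq ▸ Dvd.dvd.mul_left (hi ▸ dvd_pow_self p hi0.ne') _) hχ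
    refine ⟨θ, fun k => congrFun (eq_of_inner_ne_zero_of_deg hrc θ hθ ?_) k, hd⟩
    show (χ : G → ℂ) 1 = _
    rw [hdeg, hdeg, hd]
  choose R hR hRd using hres
  have hcop : ∀ n : ℕ, ¬ p ∣ n → K.index.Coprime n := fun n hn => by
    rw [hj]
    exact ((Nat.Prime.coprime_iff_not_dvd hp.out).2 hn).pow_left j
  have hsucc : ∀ (θ : IrrCharacter K), (∀ (g : G) (k : K), (θ : K → ℂ) (MulAut.conjNormal g k) = (θ : K → ℂ) k) →
      ¬ p ∣ charDegree (θ : K → ℂ) → ∃ χ : IrrCharacter G, (∀ k : K, (χ : G → ℂ) k = (θ : K → ℂ) k) ∧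
        ¬ p ∣ detOrder (χ : G → ℂ) ∧ charDegree (χ : G → ℂ) = charDegree (θ : K → ℂ) ∧
        ∀ χ' : IrrCharacter G, (∀ k : K, (χ' : G → ℂ) k = (θ : K → ℂ) k) → ¬ p ∣ detOrder (χ' : G → ℂ) → χ' = χ := by
    intro θ hinv hd
    have ho := detOrder_not_dvd θ hinv
    obtain ⟨χ, ⟨hχ, hχK, hχo⟩, huniq⟩ := Cfsg.Agent.S0867.result K (θ : K → ℂ) θ.2 (fun g k => hinv g k)
      (charDegree (θ : K → ℂ)) (hdeg θ) ((hcop _ ho).mul_right (hcop _ hd))
    refine ⟨⟨χ, hχ⟩, hχK, by rw [show detOrder χ = _ from hχo]; exact ho, ?_, fun χ' h1 h2 =>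
      Subtype.ext (huniq _ χ'.2 h1 (hcop _ h2))⟩
    have := hχK 1
    rw [OneMemClass.coe_one, show χ 1 = _ from hdeg ⟨χ, hχ⟩, hdeg θ] at this
    exact_mod_cast this
  choose E hE hEo hEd hEu using hsucc
  refine (Finset.sum_bij' (fun χ hχ => R χ (Finset.mem_filter.1 hχ).2.1)
    (fun θ hθ => E θ ((hfix θ).1 (Finset.mem_filter.1 hθ).2.1) (Finset.mem_filter.1 hθ).2.2) ?_ ?_ ?_ ?_ ?_).symm
  · intro χ hχ
    obtain ⟨-, hd, -⟩ := Finset.mem_filter.1 hχ
    refine Finset.mem_filter.2 ⟨Finset.mem_univ _, (hfix _).2 fun g k => ?_, by rw [hRd]; exact hd⟩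
    rw [← hR χ hd, ← hR χ hd, MulAut.conjNormal_apply]
    exact isClassFunction_character (irr_isCharacter χ.2) _ _
  · intro θ hθ
    refine Finset.mem_filter.2 ⟨Finset.mem_univ _, ?_, hEo _ _ _⟩
    rw [hEd]
    exact (Finset.mem_filter.1 hθ).2.2
  · intro χ hχ
    obtain ⟨-, hd, ho⟩ := Finset.mem_filter.1 hχ
    exact (hEu _ _ _ χ (hR χ hd) ho).symm
  · intro θ hθ
    exact Subtype.ext (funext fun k => by rw [← hR, hE])
  · intro χ hχ
    rw [hRd]

end Cfsg.Agent.Char
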