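import Cfsg.Agent.Lib.Char.CliffordGen
import Cfsg.Agent.Lib.Char.CliffordInd
import Cfsg.Agent.Lib.Char.ItoConverse
import Cfsg.Agent.Lib.Char.GlaubermanOver
import Cfsg.Agent.Lib.Char.MonomialNilp
import Cfsg.Agent.Lib.Char.Coprime
import Cfsg.Agent.Lib.Char.FreeTrace
import Cfsg.Agent.Lib.Char.LinearExt
import Cfsg.Agent.S0137
import Cfsg.Agent.S0855

/-!
# Groups whose irreducible degrees are one and a prime
-/

set_option autoImplicit false
open scoped ComplexConjugate commutatorElement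
open Cfsg

namespace Cfsg.Agent.Char.TwoDeg

universe u

variable {G : Type u} [Group G] [Fintype G]

/-- The kernel of an irreducible character. -/
def kerC (χ : IrrCharacter G) : Subgroup G where
  carrier := {g | ∀ x : G, (χ : G → ℂ) (g * x) = (χ : G → ℂ) x}
  one_mem' := fun x => by rw [one_mul]
  mul_mem' := fun {a b} ha hb x => by rw [mul_assoc, ha, hb]
  inv_mem' := fun {a} ha x => by
    have := ha (a⁻¹ * x)
    rw [mul_inv_cancel_left] at this
    exact this.symm

theorem mem_kerC_of_eq (χ : IrrCharacter G) {g : G} (h : (χ : G → ℂ) g = (χ : G → ℂ) 1) : g ∈ kerC χ := by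
  obtain ⟨n, σ, -, hσ⟩ := χ.2
  intro x
  have h1 : σ g = LinearMap.id := by
    rw [← eq_id_iff σ, congrFun hσ, h, ← congrFun hσ 1, Representation.char_one]
  rw [← congrFun hσ, ← congrFun hσ]
  show LinearMap.trace ℂ _ (σ (g * x)) = LinearMap.trace ℂ _ (σ x)
  rw [map_mul, h1]
  rfl

instance kerC_normal (χ : IrrCharacter G) : (kerC χ).Normal := ⟨fun g hg y => mem_kerC_of_eq χ (by
  rw [isClassFunction_character (irr_isCharacter χ.2)]
  have := hg 1
  rwa [mul_one] at this)⟩

/-- The center of an irreducible character. -/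
def cz (χ : IrrCharacter G) : Subgroup G :=
  (Subgroup.center (G ⧸ kerC χ)).comap (QuotientGroup.mk' (kerC χ))

instance cz_normal (χ : IrrCharacter G) : (cz χ).Normal := Subgroup.Normal.comap inferInstance _

theorem mem_cz_iff_comm (χ : IrrCharacter G) (g : G) : g ∈ cz χ ↔ ∀ x : G, g * x * g⁻¹ * x⁻¹ ∈ kerC χ := by
  rw [cz, Subgroup.mem_comap, Subgroup.mem_center_iff]
  constructor
  · intro h x
    have h1 := h (QuotientGroup.mk x)
    rw [← QuotientGroup.eq_one_iff, QuotientGroup.mk_mul, QuotientGroup.mk_mul, QuotientGroup.mk_mul,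
      QuotientGroup.mk_inv, QuotientGroup.mk_inv]
    rw [QuotientGroup.mk'_apply] at h1
    rw [← h1]
    group
  · intro h q
    obtain ⟨x, rfl⟩ := QuotientGroup.mk_surjective q
    have h1 := (QuotientGroup.eq_one_iff _).2 (h x)
    rw [QuotientGroup.mk_mul, QuotientGroup.mk_mul, QuotientGroup.mk_mul, QuotientGroup.mk_inv,
      QuotientGroup.mk_inv, mul_inv_eq_one, mul_inv_eq_iff_eq_mul] at h1
    exact h1.symm

theorem mem_cz_iff (χ : IrrCharacter G) (g : G) : g ∈ cz χ ↔ ‖(χ : G → ℂ) g‖ = (deg (χ : G → ℂ) : ℝ) := by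
  obtain ⟨n, σ, hirr, hσ⟩ := χ.2
  have hn : (deg (χ : G → ℂ) : ℝ) = (Module.finrank ℂ (Fin n → ℂ) : ℝ) := by
    have h1 := char_one_eq_deg (irr_isCharacter χ.2)
    rw [← congrFun hσ, Representation.char_one] at h1
    exact_mod_cast h1.symm
  rw [hn, ← congrFun hσ, eq_scalar_iff σ g]
  have hker : ∀ w : G, w ∈ kerC χ → σ w = LinearMap.id := fun w hw => by
    rw [← eq_id_iff σ, congrFun hσ]
    have := hw 1
    rw [mul_one] at this
    rw [this, ← congrFun hσ, Representation.char_one]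
  constructor
  · intro hg
    haveI := hirr
    have hc : ∀ x v, σ g (σ x v) = σ x (σ g v) := by
      intro x v
      have h1 := hker _ ((mem_cz_iff_comm χ g).1 hg x)
      have h2 : σ (g * x) = σ (g * x * g⁻¹ * x⁻¹) * σ (x * g) := by rw [← map_mul]; congr 1; group
      rw [h1, map_mul, map_mul] at h2
      exact LinearMap.congr_fun h2 v
    let Ti : σ.IntertwiningMap σ := (σ g).intertwiningMap_of_isIntertwiningMap σ σ hc
    obtain ⟨c, hc'⟩ :=
      (Representation.IsIrreducible.algebraMap_intertwiningMap_bijective_of_isAlgClosed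
        (ρ := σ) (k := ℂ)).2 Ti
    refine ⟨c, LinearMap.ext fun v => ?_⟩
    have := congrArg (fun F : σ.IntertwiningMap σ => F v) hc'
    rw [show σ g v = Ti v from rfl, ← this]
    rfl
  · rintro ⟨ω, hω⟩
    refine (mem_cz_iff_comm χ g).2 fun x => mem_kerC_of_eq χ ?_
    rw [← congrFun hσ, ← congrFun hσ]
    show LinearMap.trace ℂ _ (σ _) = LinearMap.trace ℂ _ (σ 1)
    have h1 : σ (g * x) = σ (x * g) := by
      rw [map_mul, map_mul, hω]
      exact LinearMap.ext fun v => by simp
    rw [show g * x * g⁻¹ * x⁻¹ = (g * x) * (g⁻¹ * x⁻¹) by group, map_mul, h1, ← map_mul]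
    congr 2
    group

theorem sum_norm_sq (χ : IrrCharacter G) : ∑ g : G, ‖(χ : G → ℂ) g‖ ^ 2 = (Nat.card G : ℝ) := by
  have h1 := irr_self χ.2
  simp only [classInner, Complex.mul_conj', ← Complex.ofReal_pow] at h1
  rw [inv_mul_eq_one₀ (Nat.cast_ne_zero.2 Nat.card_pos.ne')] at h1
  norm_cast at h1
  exact h1.symm

theorem norm_le_deg (χ : IrrCharacter G) (g : G) : ‖(χ : G → ℂ) g‖ ≤ (deg (χ : G → ℂ) : ℝ) := by
  obtain ⟨n, σ, -, hσ⟩ := χ.2
  have h1 := S0137.result σ g
  have h2 := char_one_eq_deg (irr_isCharacter χ.2)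
  rw [← congrFun hσ, Representation.char_one] at h2
  rw [congrFun hσ] at h1
  refine h1.trans (le_of_eq ?_)
  exact_mod_cast h2

theorem card_cz_mul_sq_le (χ : IrrCharacter G) : Nat.card (cz χ) * deg (χ : G → ℂ) ^ 2 ≤ Nat.card G := by
  classical
  have h1 := Finset.sum_le_univ_sum_of_nonneg (s := Finset.univ.filter fun g => g ∈ cz χ)
    (f := fun g : G => ‖(χ : G → ℂ) g‖ ^ 2) fun g => sq_nonneg _
  rw [sum_norm_sq, Finset.sum_congr rfl (g := fun _ => ((deg (χ : G → ℂ) : ℝ)) ^ 2) (fun g hg => by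
    rw [(mem_cz_iff χ g).1 (Finset.mem_filter.1 hg).2]), Finset.sum_const, ← Fintype.card_subtype,
    nsmul_eq_mul] at h1
  rw [Nat.card_eq_fintype_card (α := cz χ)]
  exact_mod_cast h1

theorem vanish_off_cz (χ : IrrCharacter G) (h : (cz χ).index = deg (χ : G → ℂ) ^ 2) {g : G}
    (hg : g ∉ cz χ) : (χ : G → ℂ) g = 0 := by
  classical
  have h2 := Finset.sum_filter_add_sum_filter_not (Finset.univ : Finset G) (fun g => g ∈ cz χ)
    (fun g => ‖(χ : G → ℂ) g‖ ^ 2)
  rw [sum_norm_sq, Finset.sum_congr rfl (g := fun _ => ((deg (χ : G → ℂ) : ℝ)) ^ 2) (fun g hg => by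
    rw [(mem_cz_iff χ g).1 (Finset.mem_filter.1 hg).2]), Finset.sum_const, ← Fintype.card_subtype,
    nsmul_eq_mul, ← Nat.card_eq_fintype_card, ← (cz χ).index_mul_card, h, Nat.cast_mul, Nat.cast_pow] at h2
  have h4 : ∑ g ∈ Finset.univ.filter (fun g => ¬ g ∈ cz χ), ‖(χ : G → ℂ) g‖ ^ 2 = 0 := by linarith
  have h5 := (Finset.sum_eq_zero_iff_of_nonneg fun g _ => sq_nonneg _).1 h4 g (by simp [hg])
  simpa using h5

theorem kerC_top_of_linear (χ : IrrCharacter G) (h : deg (χ : G → ℂ) = 1) (x y : G) :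
    x * y * x⁻¹ * y⁻¹ ∈ kerC χ := by
  obtain ⟨l, hl⟩ := exists_hom_of_degree_one (irr_isCharacter χ.2) (by
    rw [char_one_eq_deg (irr_isCharacter χ.2), h, Nat.cast_one])
  refine mem_kerC_of_eq χ ?_
  rw [congrFun hl, congrFun hl]
  congr 1
  simp [mul_comm (l x) (l y), mul_assoc]

theorem eq_one_of_mem_all {g : G} (h : ∀ χ : IrrCharacter G, g ∈ kerC χ) : g = 1 := by
  have h1 : IsConj g 1 := isConj_of_irr_eq fun χ => by
    have := h χ 1
    rwa [mul_one] at this
  exact isConj_one_left.1 h1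

theorem comm_of_forall {x y : G} (h : ∀ χ : IrrCharacter G, x * y * x⁻¹ * y⁻¹ ∈ kerC χ) : x * y = y * x := by
  have h1 := eq_one_of_mem_all h
  rwa [mul_inv_eq_one, mul_inv_eq_iff_eq_mul] at h1

theorem center_of_forall {g : G} (h : ∀ χ : IrrCharacter G, deg (χ : G → ℂ) ≠ 1 → g ∈ cz χ) :
    g ∈ Subgroup.center G := by
  refine Subgroup.mem_center_iff.2 fun x => (comm_of_forall (x := g) (y := x) fun χ => ?_).symm
  rcases eq_or_ne (deg (χ : G → ℂ)) 1 with h1 | h1
  · exact kerC_top_of_linear χ h1 g x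
  · exact (mem_cz_iff_comm χ g).1 (h χ h1) x

/-- A subgroup is abelian when it is cyclic over each character center. -/
theorem comm_of_prime_over (M : Subgroup G)
    (h : ∀ χ : IrrCharacter G, deg (χ : G → ℂ) ≠ 1 → ∃ R : Subgroup G, R ≤ cz χ ∧ R ≤ M ∧
      (R.relIndex M = 1 ∨ (R.relIndex M).Prime)) : ∀ a ∈ M, ∀ b ∈ M, a * b = b * a := by
  intro a ha b hb
  refine comm_of_forall fun χ => ?_
  rcases eq_or_ne (deg (χ : G → ℂ)) 1 with h1 | h1
  · exact kerC_top_of_linear χ h1 a b
  obtain ⟨R, hR, hRM, hidx⟩ := h χ h1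
  have hgen : ∃ s : G, ∀ m ∈ M, ∃ (i : ℤ), m * (s ^ i)⁻¹ ∈ cz χ := by
    rcases hidx with h2 | h2
    · exact ⟨1, fun m hm => ⟨0, by simpa using hR (Subgroup.relIndex_eq_one.1 h2 hm)⟩⟩
    · obtain ⟨s, hs, hsR⟩ : ∃ s ∈ M, s ∉ R := by
        by_contra hc
        push Not at hc
        exact h2.ne_one (Subgroup.relIndex_eq_one.2 hc)
      refine ⟨s, fun m hm => ?_⟩
      haveI : ((cz χ).subgroupOf M).Normal := (inferInstance : (cz χ).Normal).comap _
      have hd : Nat.card (M ⧸ (cz χ).subgroupOf M) ∣ R.relIndex M :=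
        Subgroup.relIndex_dvd_of_le_left M hR
      by_cases hcs : s ∈ cz χ
      · rcases (Nat.dvd_prime h2).1 hd with h3 | h3
        · exact ⟨0, by simpa using Subgroup.relIndex_eq_one.1 (show (cz χ).relIndex M = 1 from h3) hm⟩
        · exfalso
          have h4 := Subgroup.relIndex_mul_relIndex R (cz χ ⊓ M) M (le_inf hR hRM) inf_le_right
          rw [Subgroup.inf_relIndex_right, show (cz χ).relIndex M = R.relIndex M from h3] at h4
          have h5 := Nat.eq_of_mul_eq_mul_right h2.pos (h4.trans (one_mul _).symm)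
          exact hsR (Subgroup.relIndex_eq_one.1 h5 ⟨hcs, hs⟩)
      · rcases (Nat.dvd_prime h2).1 hd with h3 | h3
        · exact absurd (Subgroup.relIndex_eq_one.1 (show (cz χ).relIndex M = 1 from h3) hs) hcs
        haveI := Fact.mk h2
        have hne : (QuotientGroup.mk ⟨s, hs⟩ : M ⧸ (cz χ).subgroupOf M) ≠ 1 := fun e =>
          hcs ((QuotientGroup.eq_one_iff (⟨s, hs⟩ : M)).1 e)
        obtain ⟨i, hi⟩ := Subgroup.mem_zpowers_iff.1
          (mem_zpowers_of_prime_card (p := R.relIndex M) h3 hne (g' := QuotientGroup.mk (⟨m, hm⟩ : M)))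
        refine ⟨i, ?_⟩
        have h6 : (⟨m, hm⟩ : M) * ((⟨s, hs⟩ : M) ^ i)⁻¹ ∈ (cz χ).subgroupOf M := by
          rw [← QuotientGroup.eq_one_iff, QuotientGroup.mk_mul, QuotientGroup.mk_inv, QuotientGroup.mk_zpow,
            hi, mul_inv_cancel]
        simpa [Subgroup.mem_subgroupOf] using h6
  obtain ⟨s, hs⟩ := hgen
  obtain ⟨i, hi⟩ := hs a ha
  obtain ⟨j, hj⟩ := hs b hb
  rw [cz, Subgroup.mem_comap, QuotientGroup.mk'_apply] at hi hj
  rw [← QuotientGroup.eq_one_iff, QuotientGroup.mk_mul, QuotientGroup.mk_mul, QuotientGroup.mk_mul,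
    QuotientGroup.mk_inv, QuotientGroup.mk_inv, mul_inv_eq_one, mul_inv_eq_iff_eq_mul]
  have key : ∀ (S : G ⧸ kerC χ) (u v : ℤ) (A B : G ⧸ kerC χ), A * (S ^ u)⁻¹ ∈ Subgroup.center _ →
      B * (S ^ v)⁻¹ ∈ Subgroup.center _ → A * B = B * A := by
    intro S u v A B hA hB
    have eA : Commute (A * (S ^ u)⁻¹) (B * (S ^ v)⁻¹) := (Subgroup.mem_center_iff.1 hA _).symm
    have cA : Commute (A * (S ^ u)⁻¹) (S ^ v) := (Subgroup.mem_center_iff.1 hA _).symm
    have cB : Commute (S ^ u) (B * (S ^ v)⁻¹) := Subgroup.mem_center_iff.1 hB _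
    have cS : Commute (S ^ u) (S ^ v) := (Commute.refl S).zpow_zpow u v
    have h7 : Commute ((A * (S ^ u)⁻¹) * S ^ u) ((B * (S ^ v)⁻¹) * S ^ v) :=
      (eA.mul_right cA).mul_left (cB.mul_right cS)
    simpa using h7.eq
  refine key (QuotientGroup.mk s) i j _ _ ?_ ?_
  · simpa using hi
  · simpa using hj

theorem normal_of_prime_index [Group.IsNilpotent G] (M : Subgroup G) (h : M.index.Prime) : M.Normal := by
  have hlt : M < ⊤ := lt_top_iff_ne_top.2 fun e => h.ne_one (Subgroup.index_eq_one.2 e)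
  have h1 := Group.normalizerCondition_of_isNilpotent M hlt
  have h3 : (Subgroup.normalizer (M : Set G)).index ∣ M.index := Subgroup.index_dvd_of_le h1.le
  rcases (Nat.dvd_prime h).1 h3 with h4 | h4
  · exact Subgroup.normalizer_eq_top_iff.1 (Subgroup.index_eq_one.1 h4)
  · exfalso
    have h5 := Subgroup.relIndex_mul_index h1.le
    rw [h4] at h5
    exact h1.not_ge (Subgroup.relIndex_eq_one.1 (Nat.eq_of_mul_eq_mul_right h.pos (h5.trans (one_mul _).symm)))

theorem deg_le_of_constituent {N : Subgroup G} [Fintype N] (χ : IrrCharacter G) (θ : IrrCharacter N)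
    (h : classInner (fun n : N => (χ : G → ℂ) n) (θ : N → ℂ) ≠ 0) :
    deg (θ : N → ℂ) ≤ deg (χ : G → ℂ) := by
  have := degree_le_of_classInner_ne_zero (isCharacter_comp N.subtype (irr_isCharacter χ.2)) θ h
  simp only [Function.comp_apply, map_one] at this
  exact Nat.floor_le_floor this

theorem cast_ne_zero_deg (χ : IrrCharacter G) : deg (χ : G → ℂ) ≠ 0 := fun h =>
  irr_one_ne_zero χ.2 (by rw [char_one_eq_deg (irr_isCharacter χ.2), h, Nat.cast_zero])

section

variable {p : ℕ} (hp : p.Prime)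
  (hcd : ∀ χ : IrrCharacter G, deg (χ : G → ℂ) = 1 ∨ deg (χ : G → ℂ) = p)
include hp hcd

/-- Data of a subgroup of index `p`. -/
theorem restrict_cases (M : Subgroup G) [M.Normal] [Fintype M] (θ : IrrCharacter M) :
    deg (θ : M → ℂ) = 1 ∨ (deg (θ : M → ℂ) = p ∧
      ∀ (g : G) (m : M), (θ : M → ℂ) (MulAut.conjNormal g m) = (θ : M → ℂ) m) := by
  obtain ⟨ξ, hξ⟩ := exists_constituent_over M θ
  have h1 := orbit_mul_deg_dvd M ξ θ hξ
  rcases hcd ξ with h | h <;> rw [h] at h1
  · exact Or.inl (Nat.dvd_one.1 ((dvd_mul_left _ _).trans h1))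
  rcases (Nat.dvd_prime hp).1 ((dvd_mul_left _ _).trans h1) with h2 | h2
  · exact Or.inl h2
  refine Or.inr ⟨h2, fun g m => ?_⟩
  rw [h2] at h1
  have hc : (cliffOrbit M θ).card = 1 := by
    have h3 : (cliffOrbit M θ).card * p ∣ 1 * p := by rwa [one_mul]
    exact Nat.dvd_one.1 (Nat.dvd_of_mul_dvd_mul_right hp.pos h3)
  obtain ⟨a, ha⟩ := Finset.card_eq_one.1 hc
  have h4 : irrComp (MulAut.conjNormal g) θ = θ := by
    have h5 : irrComp (MulAut.conjNormal g) θ ∈ cliffOrbit M θ := mem_cliffOrbit.2 ⟨g, rfl⟩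
    have h6 := self_mem_cliffOrbit (N := M) θ
    rw [ha, Finset.mem_singleton] at h5 h6
    rw [h5, h6]
  have h7 := congrFun (congrArg Subtype.val h4) m
  rwa [irrComp_apply] at h7

/-- A nonlinear character of `M` sees every center. -/
theorem nonlinear_support (M : Subgroup G) [M.Normal] [Fintype M] (θ : IrrCharacter M)
    (hθ : deg (θ : M → ℂ) ≠ 1) (χ : IrrCharacter G) (lam : IrrCharacter M) (hlam : deg (lam : M → ℂ) = 1)
    (hcons : classInner (fun m : M => (χ : G → ℂ) m) (lam : M → ℂ) ≠ 0)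
    (m : M) (hm : (θ : M → ℂ) m ≠ 0) : (m : G) ∈ cz χ := by
  classical
  obtain ⟨l, hl⟩ := exists_hom_of_degree_one (irr_isCharacter lam.2) (by
    rw [char_one_eq_deg (irr_isCharacter lam.2), hlam, Nat.cast_one])
  have hθinv := ((restrict_cases hp hcd M θ).resolve_left hθ).2
  let tw : IrrCharacter M := ⟨fun x => (l x : ℂ) * (θ : M → ℂ) x, isIrr_linear_mul θ.2 l⟩
  have htw1 : deg (tw : M → ℂ) ≠ 1 := by
    have h1 := char_one_eq_deg (irr_isCharacter tw.2)
    simp only [tw, map_one, Units.val_one, one_mul, char_one_eq_deg (irr_isCharacter θ.2), Nat.cast_inj] at h1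
    rw [← h1]
    exact hθ
  have htwinv := ((restrict_cases hp hcd M tw).resolve_left htw1).2
  have hconst : ∀ φ ∈ cliffOrbit M lam, (φ : M → ℂ) m = (lam : M → ℂ) m := by
    intro φ hφ
    obtain ⟨g, rfl⟩ := mem_cliffOrbit.1 hφ
    rw [irrComp_apply]
    have h1 := htwinv g m
    simp only [tw, hθinv g m] at h1
    rw [congrFun hl, congrFun hl]
    exact mul_right_cancel₀ hm h1
  have h2 := clifford_restrict χ lam hcons
  have hm2 := congrFun h2 m
  have h12 := congrFun h2 1
  rw [Pi.smul_apply, smul_eq_mul, Finset.sum_apply, Finset.sum_congr rfl (g := fun _ => (lam : M → ℂ) m)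
    (fun φ hφ => hconst φ hφ), Finset.sum_const, nsmul_eq_mul] at hm2
  rw [Pi.smul_apply, smul_eq_mul, Finset.sum_apply, Finset.sum_congr rfl (g := fun _ => (1 : ℂ))
    (fun φ hφ => by
      obtain ⟨g, rfl⟩ := mem_cliffOrbit.1 hφ
      rw [irrComp_apply, map_one, congrFun hl, map_one, Units.val_one]),
    Finset.sum_const, nsmul_eq_mul, mul_one, Subgroup.coe_one, char_one_eq_deg (irr_isCharacter χ.2)] at h12
  rw [mem_cz_iff, hm2, ← mul_assoc, ← h12, norm_mul, Complex.norm_natCast,
    (mem_cz_iff lam m).1 ((mem_cz_iff_comm lam m).2 fun x => kerC_top_of_linear lam hlam m x), hlam,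
    Nat.cast_one, mul_one]

/-- The case of an abelian normal `p`-complement which is not central. -/
theorem noncentral_case (K : Subgroup G) [K.Normal] (hKab : ∀ a ∈ K, ∀ b ∈ K, a * b = b * a)
    (hcop : Nat.Coprime (Nat.card K) p) (hidx : ∃ k : ℕ, K.index = p ^ k)
    (hnc : ¬ K ≤ Subgroup.center G) :
    ∃ A : Subgroup G, A.Normal ∧ (∀ a ∈ A, ∀ b ∈ A, a * b = b * a) ∧ A.index = p := by
  classical
  haveI := Fact.mk hp
  haveI : Fintype K := Fintype.ofFinite K
  obtain ⟨k, hk⟩ := hidx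
  letI : CommGroup K :=
    { (inferInstance : Group K) with mul_comm := fun a b => Subtype.ext (hKab a a.2 b b.2) }
  have hlin : ∀ φ : IrrCharacter K, deg (φ : K → ℂ) = 1 := fun φ => by
    have h1 := forall_linear_iff_comm.1 (fun a b : K => Subtype.ext (hKab a a.2 b b.2)) φ
    rw [char_one_eq_deg (irr_isCharacter φ.2)] at h1
    exact_mod_cast h1
  let T : (K →* ℂˣ) → Subgroup G := fun l =>
    { carrier := {g | ∀ x : K, l (MulAut.conjNormal g x) = l x}
      one_mem' := fun x => by rw [map_one]; rfl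
      mul_mem' := fun {a b} ha hb x => by rw [map_mul, MulAut.mul_apply, ha, hb]
      inv_mem' := fun {a} ha x => by
        have h1 := ha (MulAut.conjNormal a⁻¹ x)
        rw [← MulAut.mul_apply, ← map_mul, mul_inv_cancel, map_one] at h1
        exact h1.symm }
  have hKT : ∀ l, K ≤ T l := fun l g hg x => by
    rw [show MulAut.conjNormal g x = x from Subtype.ext (by
      rw [MulAut.conjNormal_apply, hKab g hg x x.2, mul_inv_cancel_right])]
  have hQ : IsPGroup p (G ⧸ K) := IsPGroup.of_card (n := k) (by rw [← hk]; rfl)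
  haveI := hQ.isNilpotent
  have hTidx : ∀ l, T l = ⊤ ∨ ((T l).Normal ∧ (T l).index = p) := by
    intro l
    let φ : IrrCharacter K := ⟨fun x => (l x : ℂ), isIrrCharacter_linear l⟩
    obtain ⟨ξ, hξ⟩ := exists_constituent_over K φ
    obtain ⟨T', ψ, e, hKT', hψ, hind, -, hT', -, -⟩ := exists_correspondent ξ.2 K φ hξ
    have hTT : T' = T l := by
      ext g
      rw [hT']
      constructor
      · intro h x
        have h1 := congrFun (congrArg Subtype.val h) x
        rw [irrComp_apply] at h1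
        exact Units.ext h1
      · intro h
        refine Subtype.ext (funext fun x => ?_)
        rw [irrComp_apply]
        exact congrArg Units.val (h x)
    subst hTT
    have h1 := congrFun hind 1
    rw [indFun_one, char_one_eq_deg (irr_isCharacter ξ.2), char_one_eq_deg (irr_isCharacter hψ),
      ← Nat.cast_mul, Nat.cast_inj] at h1
    have h2 : (T l).index ∣ p := by
      refine (Dvd.intro _ h1.symm).trans ?_
      rcases hcd ξ with h | h <;> rw [h]
      exact one_dvd p
    rcases (Nat.dvd_prime hp).1 h2 with h3 | h3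
    · exact Or.inl (Subgroup.index_eq_one.1 h3)
    refine Or.inr ⟨?_, h3⟩
    have hi : ((T l).map (QuotientGroup.mk' K)).index = p := by
      rw [← Subgroup.index_comap_of_surjective (f := QuotientGroup.mk' K) _ (QuotientGroup.mk'_surjective K),
        Subgroup.comap_map_eq, QuotientGroup.ker_mk', sup_eq_left.2 (hKT l), h3]
    have hn := normal_of_prime_index ((T l).map (QuotientGroup.mk' K)) (hi.symm ▸ hp)
    have h4 : T l = ((T l).map (QuotientGroup.mk' K)).comap (QuotientGroup.mk' K) := by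
      rw [Subgroup.comap_map_eq, QuotientGroup.ker_mk', sup_eq_left.2 (hKT l)]
    rw [h4]
    exact hn.comap _
  have huniq : ∀ l₁ l₂, T l₁ ≠ ⊤ → T l₂ ≠ ⊤ → T l₁ = T l₂ := by
    intro l₁ l₂ h₁ h₂
    by_contra hne
    haveI := ((hTidx l₁).resolve_left h₁).1
    haveI := ((hTidx l₂).resolve_left h₂).1
    have hi₁ := ((hTidx l₁).resolve_left h₁).2
    have hi₂ := ((hTidx l₂).resolve_left h₂).2
    have hsup : T l₁ ⊔ T l₂ = ⊤ := by
      have h1 : (T l₁ ⊔ T l₂).index ∣ p := hi₁ ▸ Subgroup.index_dvd_of_le le_sup_left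
      rcases (Nat.dvd_prime hp).1 h1 with h2 | h2
      · exact Subgroup.index_eq_one.1 h2
      · exfalso
        have e1 := Subgroup.relIndex_mul_index (le_sup_left : T l₁ ≤ T l₁ ⊔ T l₂)
        have e2 := Subgroup.relIndex_mul_index (le_sup_right : T l₂ ≤ T l₁ ⊔ T l₂)
        rw [h2, hi₁] at e1
        rw [h2, hi₂] at e2
        have f1 := Subgroup.relIndex_eq_one.1 (Nat.eq_of_mul_eq_mul_right hp.pos (e1.trans (one_mul p).symm))
        have f2 := Subgroup.relIndex_eq_one.1 (Nat.eq_of_mul_eq_mul_right hp.pos (e2.trans (one_mul p).symm))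
        exact hne (le_antisymm (le_sup_left.trans f2) (le_sup_right.trans f1))
    have hfix : ∀ (g : G), g ∈ T (l₁ * l₂) → g ∈ T l₁ := by
      intro h hh
      let c : K →* ℂˣ := (l₁.comp (MulAut.conjNormal h : MulAut K).toMonoidHom) * l₁⁻¹
      have hc2 : c = l₂ * (l₂.comp (MulAut.conjNormal h : MulAut K).toMonoidHom)⁻¹ := by
        refine MonoidHom.ext fun x => ?_
        have h1 := hh x
        simp only [MonoidHom.mul_apply] at h1
        simp only [c, MonoidHom.mul_apply, MonoidHom.inv_apply, MonoidHom.coe_comp, Function.comp_apply,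
          MulEquiv.coe_toMonoidHom]
        rw [mul_inv_eq_iff_eq_mul, mul_right_comm, eq_mul_inv_iff_mul_eq, mul_comm (l₂ x) (l₁ x)]
        exact h1
      have hfixed : ∀ g : G, ∀ x : K, c (MulAut.conjNormal g x) = c x := by
        have h1 : T l₁ ⊔ T l₂ ≤ T c := by
          refine sup_le (fun g hg x => ?_) (fun g hg x => ?_)
          · simp only [c, MonoidHom.mul_apply, MonoidHom.inv_apply, MonoidHom.coe_comp, Function.comp_apply,
              MulEquiv.coe_toMonoidHom, hg x]
            congr 1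
            rw [← MulAut.mul_apply, ← map_mul, show h * g = (h * g * h⁻¹) * h by group, map_mul,
              MulAut.mul_apply]
            exact (inferInstance : (T l₁).Normal).conj_mem g hg h _
          · rw [hc2]
            simp only [MonoidHom.mul_apply, MonoidHom.inv_apply, MonoidHom.coe_comp, Function.comp_apply,
              MulEquiv.coe_toMonoidHom, hg x]
            congr 2
            rw [← MulAut.mul_apply, ← map_mul, show h * g = (h * g * h⁻¹) * h by group, map_mul,
              MulAut.mul_apply]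
            exact (inferInstance : (T l₂).Normal).conj_mem g hg h _
        rw [hsup] at h1
        exact fun g x => h1 (Subgroup.mem_top g) x
      have hpow : ∀ (i : ℕ) (x : K), l₁ (MulAut.conjNormal (h ^ i) x) = l₁ x * c x ^ i := by
        intro i
        induction i with
        | zero => intro x; simp
        | succ i ih =>
          intro x
          rw [pow_succ, map_mul, MulAut.mul_apply, ih, hfixed]
          simp only [c, MonoidHom.mul_apply, MonoidHom.inv_apply, MonoidHom.coe_comp, Function.comp_apply,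
            MulEquiv.coe_toMonoidHom]
          rw [pow_succ]
          rw [mul_comm ((l₁ (MulAut.conjNormal h x) * (l₁ x)⁻¹) ^ i) _, ← mul_assoc, mul_comm (l₁ x),
            inv_mul_cancel_right]
      have hcone : ∀ x : K, c x = 1 := by
        intro x
        have hh1 : h ^ p ∈ T l₁ := hi₁ ▸ (T l₁).pow_index_mem h
        have h1 := hpow p x
        rw [hh1 x, left_eq_mul] at h1
        have h2 : c x ^ Nat.card K = 1 := by rw [← map_pow, pow_card_eq_one', map_one]
        exact orderOf_eq_one_iff.1 (Nat.eq_one_of_dvd_coprimes hcop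
          (orderOf_dvd_of_pow_eq_one h2) (orderOf_dvd_of_pow_eq_one h1))
      intro x
      have h1 := hpow 1 x
      rwa [pow_one, pow_one, hcone, mul_one] at h1
    have hfix2 : ∀ g : G, g ∈ T (l₁ * l₂) → g ∈ T l₂ := fun g hg x => by
      have h1 := hg x
      simp only [MonoidHom.mul_apply, hfix g hg x] at h1
      exact mul_left_cancel h1
    rcases hTidx (l₁ * l₂) with h3 | ⟨-, h3⟩
    · exact h₁ (top_unique fun g _ => hfix g (h3 ▸ Subgroup.mem_top g))
    · have key : ∀ l', (T l').index = p → T (l₁ * l₂) ≤ T l' → T (l₁ * l₂) = T l' := by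
        intro l' hl' hle
        have e1 := Subgroup.relIndex_mul_index hle
        rw [hl', h3] at e1
        exact le_antisymm hle (Subgroup.relIndex_eq_one.1
          (Nat.eq_of_mul_eq_mul_right hp.pos (e1.trans (one_mul p).symm)))
      exact hne ((key l₁ hi₁ hfix).symm.trans (key l₂ hi₂ hfix2))
  haveI := finite_hom_units K
  haveI := Fintype.ofFinite (K →* ℂˣ)
  have hsep : ∀ x : K, (∀ l : K →* ℂˣ, l x = 1) → x = 1 := by
    intro x hx
    by_contra hne
    have h1 := sum_hom_apply (fun a b : K => Subtype.ext (hKab a a.2 b b.2)) x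
    rw [if_neg hne, Finset.sum_congr rfl (g := fun _ => (1 : ℂ)) (fun l _ => by rw [hx l, Units.val_one]),
      Finset.sum_const, Finset.card_univ, nsmul_eq_mul, mul_one, Nat.cast_eq_zero] at h1
    exact Fintype.card_ne_zero h1
  have hcent : ∀ g : G, (∀ l, g ∈ T l) → ∀ x ∈ K, g * x = x * g := by
    intro g hg x hx
    have h1 : MulAut.conjNormal g (⟨x, hx⟩ : K) * (⟨x, hx⟩ : K)⁻¹ = 1 := hsep _ fun l => by
      rw [map_mul, hg l, map_inv, mul_inv_cancel]
    have h2 := congrArg Subtype.val (mul_inv_eq_one.1 h1)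
    rw [MulAut.conjNormal_apply] at h2
    exact mul_inv_eq_iff_eq_mul.1 h2
  obtain ⟨l₀, hl₀⟩ : ∃ l₀, T l₀ ≠ ⊤ := by
    by_contra hc
    push Not at hc
    exact hnc fun x hx => Subgroup.mem_center_iff.2 fun g => hcent g (fun l => hc l ▸ Subgroup.mem_top g) x hx
  obtain ⟨hA, hAidx⟩ := (hTidx l₀).resolve_left hl₀
  set A := T l₀ with hAdef
  haveI := hA
  have hAT : ∀ l, ∀ g ∈ A, g ∈ T l := fun l g hg => by
    by_cases h : T l = ⊤
    · rw [h]; exact Subgroup.mem_top g
    · rw [huniq l l₀ h hl₀]; exact hg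
  refine ⟨A, hA, ?_, hAidx⟩
  haveI : Fintype A := Fintype.ofFinite A
  suffices hAlin : ∀ θ : IrrCharacter A, (θ : A → ℂ) 1 = 1 by
    intro a ha b hb
    exact congrArg Subtype.val (forall_linear_iff_comm.2 hAlin ⟨a, ha⟩ ⟨b, hb⟩)
  intro θ
  have hd : deg (θ : A → ℂ) = 1 := by
    rcases restrict_cases hp hcd A θ with h | ⟨h, hinv⟩
    · exact h
    exfalso
    set K' := K.subgroupOf A with hK'
    haveI : K'.Normal := (inferInstance : K.Normal).comap _
    haveI : Fintype K' := Fintype.ofFinite K'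
    let eK : K' ≃* K := Subgroup.subgroupOfEquivOfLe (hKT l₀)
    let c : K' →* ℂˣ := l₀.comp eK.toMonoidHom
    have hcinv : ∀ (a : A) (z : K'), c (MulAut.conjNormal a z) = c z := fun a z => by
      show l₀ (eK (MulAut.conjNormal a z)) = l₀ (eK z)
      rw [show eK (MulAut.conjNormal a z) = MulAut.conjNormal (a : G) (eK z) from Subtype.ext rfl]
      exact a.2 (eK z)
    obtain ⟨μ, hμ, -⟩ := exists_linear_extension_coprime K' c hcinv (by
      have h1 : K'.index ∣ p ^ k := by
        rw [← hk, hK']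
        exact Subgroup.relIndex_dvd_index_of_normal K A
      obtain ⟨j, -, hj⟩ := (Nat.dvd_prime_pow hp).1 h1
      rw [hj]
      refine Nat.Coprime.pow_left j (hcop.symm.coprime_dvd_right ?_)
      refine orderOf_dvd_of_pow_eq_one (MonoidHom.ext fun z => ?_)
      rw [MonoidHom.pow_apply, MonoidHom.one_apply, ← map_pow,
        ← Nat.card_congr eK.toEquiv, pow_card_eq_one', map_one])
    let θ' : IrrCharacter A := ⟨fun x => (μ x : ℂ) * (θ : A → ℂ) x, isIrr_linear_mul θ.2 μ⟩
    have hθ'1 : deg (θ' : A → ℂ) ≠ 1 := by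
      have h1 := char_one_eq_deg (irr_isCharacter θ'.2)
      simp only [θ', map_one, Units.val_one, one_mul, char_one_eq_deg (irr_isCharacter θ.2), Nat.cast_inj] at h1
      rw [← h1, h]
      exact hp.ne_one
    have hinv' := ((restrict_cases hp hcd A θ').resolve_left hθ'1).2
    refine hl₀ (top_unique fun g _ x => Units.ext ?_)
    have hθx : ∀ y : K', (θ : A → ℂ) (y : A) ≠ 0 := fun y h0 => by
      have hy : (y : A) ∈ Subgroup.center A := Subgroup.mem_center_iff.2 fun a => Subtype.ext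
        (hcent a (fun l => hAT l a a.2) ((y : A) : G) y.2)
      have h1 : (y : A) ∈ cz θ := (mem_cz_iff_comm θ _).2 fun z => by
        rw [← Subgroup.mem_center_iff.1 hy z, mul_inv_cancel_right, mul_inv_cancel]
        exact one_mem _
      rw [mem_cz_iff, h0, norm_zero] at h1
      exact cast_ne_zero_deg θ (by exact_mod_cast h1.symm)
    have h2 := hinv' g ((eK.symm x : K') : A)
    simp only [θ', hinv g _] at h2
    have h3 := mul_right_cancel₀ (hθx (eK.symm x)) h2
    have e1 : MulAut.conjNormal g ((eK.symm x : K') : A) = ((eK.symm (MulAut.conjNormal g x) : K') : A) :=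
      Subtype.ext (by rw [MulAut.conjNormal_apply]; rfl)
    rw [e1, hμ, hμ] at h3
    simpa [c] using h3
  rw [char_one_eq_deg (irr_isCharacter θ.2), hd, Nat.cast_one]

/-- The nilpotent case. -/
theorem nilpotent_case [Group.IsNilpotent G] (K : Subgroup G) [K.Normal] (hKc : K ≤ Subgroup.center G)
    (hidx : ∃ k : ℕ, K.index = p ^ k) (hna : ∃ a b : G, a * b ≠ b * a) :
    (∃ A : Subgroup G, A.Normal ∧ (∀ a ∈ A, ∀ b ∈ A, a * b = b * a) ∧ A.index = p) ∨
      (Subgroup.center G).index = p ^ 3 := by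
  classical
  haveI := Fact.mk hp
  obtain ⟨k, hk⟩ := hidx
  by_cases habel : ∃ A : Subgroup G, A.Normal ∧ (∀ a ∈ A, ∀ b ∈ A, a * b = b * a) ∧ A.index = p
  · exact Or.inl habel
  refine Or.inr ?_
  -- indices of subgroups over the complement
  have hKz : ∀ χ : IrrCharacter G, K ≤ cz χ := fun χ x hx => (mem_cz_iff_comm χ x).2 fun y => by
    rw [← Subgroup.mem_center_iff.1 (hKc hx) y, mul_inv_cancel_right, mul_inv_cancel]
    exact one_mem _
  have hppow : ∀ W : Subgroup G, K ≤ W → ∃ j, W.index = p ^ j := fun W hW => by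
    obtain ⟨j, -, hj⟩ := (Nat.dvd_prime_pow hp).1 (hk ▸ Subgroup.index_dvd_of_le hW)
    exact ⟨j, hj⟩
  have hsq : ∀ χ : IrrCharacter G, deg (χ : G → ℂ) ≠ 1 → p ^ 2 ≤ (cz χ).index := by
    intro χ hχ
    have h1 := card_cz_mul_sq_le χ
    rw [(hcd χ).resolve_left hχ, ← (cz χ).card_mul_index] at h1
    exact Nat.le_of_mul_le_mul_left h1 Nat.card_pos
  obtain ⟨χ₀, hχ₀⟩ : ∃ χ : IrrCharacter G, deg (χ : G → ℂ) ≠ 1 := by
    by_contra hc
    push Not at hc
    obtain ⟨a, b, hab⟩ := hna
    exact hab (forall_linear_iff_comm.2 (fun χ => by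
      rw [char_one_eq_deg (irr_isCharacter χ.2), hc χ, Nat.cast_one]) a b)
  -- no abelian subgroup of index `p` over a center of index at most `p ^ 2`
  have hcenter : ∀ W : Subgroup G, (∀ χ : IrrCharacter G, deg (χ : G → ℂ) ≠ 1 → W ≤ cz χ) → K ≤ W →
      p ^ 3 ≤ W.index := by
    intro W hW hKW
    by_contra hlt
    push Not at hlt
    obtain ⟨j, hj⟩ := hppow W hKW
    have hj2 : 2 ≤ j := by
      have h1 : p ^ 2 ≤ p ^ j := hj ▸ (hsq χ₀ hχ₀).trans (Nat.le_of_dvd
        (Nat.pos_of_ne_zero Subgroup.index_ne_zero_of_finite) (Subgroup.index_dvd_of_le (hW χ₀ hχ₀)))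
      exact (Nat.pow_le_pow_iff_right hp.one_lt).1 h1
    have hj3 : j = 2 := by
      rw [hj] at hlt
      have := (Nat.pow_lt_pow_iff_right hp.one_lt).1 hlt
      omega
    haveI hWn : W.Normal := ⟨fun w hw g => by
      have h1 : w ∈ Subgroup.center G := center_of_forall fun χ hχ => hW χ hχ hw
      rw [Subgroup.mem_center_iff.1 h1 g, mul_inv_cancel_right]
      exact hw⟩
    have hcard : Nat.card (G ⧸ W) = p ^ 2 := by rw [← hj3, ← hj]; rfl
    obtain ⟨Y, hY⟩ := Sylow.exists_subgroup_card_pow_prime (G := G ⧸ W) p (n := 1) (by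
      rw [hcard, pow_one]; exact dvd_pow_self p two_ne_zero)
    set M := Y.comap (QuotientGroup.mk' W) with hM
    have hMidx : M.index = p := by
      rw [hM, Subgroup.index_comap_of_surjective _ (QuotientGroup.mk'_surjective W)]
      have h2 := Y.card_mul_index
      rw [hY, hcard, pow_one, sq] at h2
      exact Nat.eq_of_mul_eq_mul_left hp.pos h2
    have hWM : W ≤ M := fun w hw => by
      rw [hM, Subgroup.mem_comap, QuotientGroup.mk'_apply, (QuotientGroup.eq_one_iff w).2 hw]
      exact one_mem _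
    refine habel ⟨M, normal_of_prime_index M (hMidx.symm ▸ hp), comm_of_prime_over M fun χ hχ =>
      ⟨W, hW χ hχ, hWM, Or.inr ?_⟩, hMidx⟩
    have h3 := Subgroup.relIndex_mul_index hWM
    rw [hMidx, hj, hj3, sq] at h3
    rw [Nat.eq_of_mul_eq_mul_right hp.pos h3]
    exact hp
  -- a subgroup of index `p ^ 3` in all centers finishes
  have hfinish : ∀ W : Subgroup G, (∀ χ : IrrCharacter G, deg (χ : G → ℂ) ≠ 1 → W ≤ cz χ) →
      W.index = p ^ 3 → (Subgroup.center G).index = p ^ 3 := by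
    intro W hW hWi
    have hle : W ≤ Subgroup.center G := fun w hw => center_of_forall fun χ hχ => hW χ hχ hw
    refine le_antisymm ?_ (hcenter _ (fun χ hχ x hx => (mem_cz_iff_comm χ x).2 fun y => by
      rw [← Subgroup.mem_center_iff.1 hx y, mul_inv_cancel_right, mul_inv_cancel]
      exact one_mem _) hKc)
    rw [← hWi]
    exact Nat.le_of_dvd (Nat.pos_of_ne_zero Subgroup.index_ne_zero_of_finite) (Subgroup.index_dvd_of_le hle)
  by_cases hall : ∀ χ : IrrCharacter G, deg (χ : G → ℂ) ≠ 1 → (cz χ).index = p ^ 2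
  · -- all centers have index `p ^ 2`
    have hmeet : ∀ χ₁ χ₂ : IrrCharacter G, deg (χ₁ : G → ℂ) ≠ 1 → deg (χ₂ : G → ℂ) ≠ 1 → cz χ₁ ≠ cz χ₂ →
        (cz χ₁ ⊓ cz χ₂).index = p ^ 3 ∧ (cz χ₁).relIndex (cz χ₂) = p := by
      intro χ₁ χ₂ h₁ h₂ hne
      have e1 := Subgroup.relIndex_mul_index (inf_le_right : cz χ₁ ⊓ cz χ₂ ≤ cz χ₂)
      rw [Subgroup.inf_relIndex_right, hall χ₂ h₂] at e1
      have hd : (cz χ₁).relIndex (cz χ₂) ∣ p ^ 2 := hall χ₁ h₁ ▸ Subgroup.relIndex_dvd_index_of_normal _ _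
      obtain ⟨j, hj, hj'⟩ := (Nat.dvd_prime_pow hp).1 hd
      rcases (show j = 0 ∨ j = 1 ∨ j = 2 by omega) with rfl | rfl | rfl
      · exfalso
        rw [pow_zero] at hj'
        have h3 := Subgroup.relIndex_eq_one.1 hj'
        have h4 := Subgroup.relIndex_mul_index h3
        rw [hall χ₁ h₁, hall χ₂ h₂] at h4
        exact hne (le_antisymm (Subgroup.relIndex_eq_one.1
          (Nat.eq_of_mul_eq_mul_right (pow_pos hp.pos 2) (h4.trans (one_mul _).symm))) h3)
      · rw [hj', pow_one] at e1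
        exact ⟨by rw [← e1]; ring, by rw [hj', pow_one]⟩
      · exfalso
        rw [hj'] at e1
        -- the product would be irreducible of degree `p ^ 2`
        have hirr : IsIrrCharacter G ((χ₁ : G → ℂ) * (χ₂ : G → ℂ)) := by
          refine isIrr_of_norm_one (isCharacter_mul (irr_isCharacter χ₁.2) (irr_isCharacter χ₂.2)) ?_
          have hval : ∀ g : G, ((χ₁ : G → ℂ) * (χ₂ : G → ℂ)) g * conj (((χ₁ : G → ℂ) * (χ₂ : G → ℂ)) g) =
              if g ∈ cz χ₁ ⊓ cz χ₂ then ((p : ℂ) ^ 4) else 0 := by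
            intro g
            rw [Complex.mul_conj', Pi.mul_apply, norm_mul]
            split_ifs with hg
            · rw [(mem_cz_iff χ₁ g).1 hg.1, (mem_cz_iff χ₂ g).1 hg.2, (hcd χ₁).resolve_left h₁,
                (hcd χ₂).resolve_left h₂]
              push_cast
              ring
            · rcases not_and_or.1 (fun h => hg h : ¬ (g ∈ cz χ₁ ∧ g ∈ cz χ₂)) with h | h
              · rw [vanish_off_cz χ₁ (by rw [(hcd χ₁).resolve_left h₁, hall χ₁ h₁]) h]; simp
              · rw [vanish_off_cz χ₂ (by rw [(hcd χ₂).resolve_left h₂, hall χ₂ h₂]) h]; simp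
          rw [classInner, Finset.sum_congr rfl (fun g _ => hval g), ← Finset.sum_filter, Finset.sum_const,
            ← Fintype.card_subtype, nsmul_eq_mul, ← Nat.card_eq_fintype_card,
            ← Subgroup.card_mul_index (cz χ₁ ⊓ cz χ₂), ← e1]
          have hne' : (Nat.card ↥(cz χ₁ ⊓ cz χ₂) : ℂ) ≠ 0 := Nat.cast_ne_zero.2 Nat.card_pos.ne'
          have hp0 : (p : ℂ) ≠ 0 := Nat.cast_ne_zero.2 hp.ne_zero
          push_cast
          field_simp
        have h5 := hcd ⟨_, hirr⟩
        have h6 := char_one_eq_deg (irr_isCharacter hirr)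
        rw [Pi.mul_apply, char_one_eq_deg (irr_isCharacter χ₁.2), char_one_eq_deg (irr_isCharacter χ₂.2),
          (hcd χ₁).resolve_left h₁, (hcd χ₂).resolve_left h₂, ← Nat.cast_mul, Nat.cast_inj] at h6
        have hp2 := hp.two_le
        rcases h5 with h5 | h5 <;> rw [h5] at h6 <;> nlinarith
    by_cases heq : ∀ χ : IrrCharacter G, deg (χ : G → ℂ) ≠ 1 → cz χ = cz χ₀
    · exact absurd (hcenter (cz χ₀) (fun χ hχ => (heq χ hχ).ge) (hKz χ₀)) (by
        rw [hall χ₀ hχ₀, not_le]; exact Nat.pow_lt_pow_right hp.one_lt (by norm_num))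
    push Not at heq
    obtain ⟨χ₁, h₁, hne₁⟩ := heq
    obtain ⟨hWi, hrel⟩ := hmeet χ₁ χ₀ h₁ hχ₀ hne₁
    set M₀ := cz χ₁ ⊔ cz χ₀ with hM₀
    have hM₀i : M₀.index = p := by
      have e1 := Subgroup.relIndex_mul_index (le_sup_left : cz χ₁ ≤ M₀)
      rw [show (cz χ₁).relIndex M₀ = p by rw [hM₀, sup_comm, Subgroup.relIndex_sup_right]; exact hrel,
        hall χ₁ h₁, sq] at e1
      exact Nat.eq_of_mul_eq_mul_left hp.pos e1
    have hrelM : ∀ χ : IrrCharacter G, deg (χ : G → ℂ) ≠ 1 → cz χ ≤ M₀ → (cz χ).relIndex M₀ = p := by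
      intro χ hχ hle
      have e1 := Subgroup.relIndex_mul_index hle
      rw [hM₀i, hall χ hχ, sq] at e1
      exact Nat.eq_of_mul_eq_mul_right hp.pos e1
    by_cases hin : ∀ χ : IrrCharacter G, deg (χ : G → ℂ) ≠ 1 → cz χ ≤ M₀
    · exact absurd ⟨M₀, inferInstance, comm_of_prime_over M₀ (fun χ hχ =>
        ⟨cz χ, le_rfl, hin χ hχ, Or.inr ((hrelM χ hχ (hin χ hχ)).symm ▸ hp)⟩), hM₀i⟩ habel
    push Not at hin
    obtain ⟨χ₃, h₃, h3M⟩ := hin
    set W := cz χ₁ ⊓ cz χ₀ with hW
    have heqW : ∀ S : Subgroup G, W ≤ S → S.index = p ^ 3 → S = W := by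
      intro S hS hSi
      have e1 := Subgroup.relIndex_mul_index hS
      rw [hSi, hWi] at e1
      exact le_antisymm (Subgroup.relIndex_eq_one.1
        (Nat.eq_of_mul_eq_mul_right (pow_pos hp.pos 3) (e1.trans (one_mul _).symm))) hS
    -- any center outside `M₀` contains `W`
    have hout : ∀ χ : IrrCharacter G, deg (χ : G → ℂ) ≠ 1 → ¬ cz χ ≤ M₀ → W ≤ cz χ := by
      intro χ hχ hnM
      have ha : cz χ₁ ≠ cz χ := fun e => hnM (e ▸ le_sup_left)
      have hb : cz χ₀ ≠ cz χ := fun e => hnM (e ▸ le_sup_right)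
      obtain ⟨i₁, r₁⟩ := hmeet χ₁ χ h₁ hχ ha
      obtain ⟨i₀, -⟩ := hmeet χ₀ χ hχ₀ hχ hb
      have hsame : cz χ₀ ⊓ cz χ ≤ cz χ₁ ⊓ cz χ := by
        by_contra hnle
        have hS : cz χ ≤ (cz χ₁ ⊓ cz χ) ⊔ (cz χ₀ ⊓ cz χ) := by
          set S := (cz χ₁ ⊓ cz χ) ⊔ (cz χ₀ ⊓ cz χ) with hSdef
          have hSle : S ≤ cz χ := sup_le inf_le_right inf_le_right
          have h1 := Subgroup.relIndex_mul_relIndex (cz χ₁ ⊓ cz χ) S (cz χ) le_sup_left hSle
          rw [Subgroup.inf_relIndex_right, r₁] at h1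
          rcases (Nat.dvd_prime hp).1 (Dvd.intro _ h1) with h2 | h2
          · exact absurd (le_sup_right.trans (Subgroup.relIndex_eq_one.1 h2)) hnle
          · rw [h2] at h1
            exact Subgroup.relIndex_eq_one.1 (Nat.eq_of_mul_eq_mul_left hp.pos (h1.trans (mul_one _).symm))
        exact hnM (hS.trans (sup_le (inf_le_left.trans le_sup_left) (inf_le_left.trans le_sup_right)))
      have hsub : cz χ₀ ⊓ cz χ ≤ W := le_inf (hsame.trans inf_le_left) inf_le_left
      have e1 := Subgroup.relIndex_mul_index hsub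
      rw [i₀, hWi] at e1
      have := Subgroup.relIndex_eq_one.1 (Nat.eq_of_mul_eq_mul_right (pow_pos hp.pos 3) (e1.trans (one_mul _).symm))
      exact this.trans inf_le_right
    refine hfinish W (fun χ hχ => ?_) hWi
    by_cases hle : cz χ ≤ M₀
    · have hne : cz χ ≠ cz χ₃ := fun e => h3M (e ▸ hle)
      obtain ⟨i, -⟩ := hmeet χ χ₃ hχ h₃ hne
      have hM3 : (M₀ ⊓ cz χ₃).index = p ^ 3 := by
        have hW' : W ≤ M₀ ⊓ cz χ₃ := le_inf (inf_le_left.trans le_sup_left) (hout χ₃ h₃ h3M)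
        have e1 := Subgroup.relIndex_mul_relIndex W (M₀ ⊓ cz χ₃) (cz χ₃) hW' inf_le_right
        have e2 := Subgroup.relIndex_mul_index (hout χ₃ h₃ h3M)
        rw [hWi, hall χ₃ h₃] at e2
        have e3 : W.relIndex (cz χ₃) = p := Nat.eq_of_mul_eq_mul_right (pow_pos hp.pos 2)
          (e2.trans (by ring))
        rw [e3] at e1
        rcases (Nat.dvd_prime hp).1 (Dvd.intro _ e1) with h2 | h2
        · rw [← hWi]
          exact congrArg Subgroup.index (le_antisymm (Subgroup.relIndex_eq_one.1 h2) hW')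
        · rw [h2] at e1
          have h4 := Subgroup.relIndex_eq_one.1 (Nat.eq_of_mul_eq_mul_left hp.pos (e1.trans (mul_one _).symm))
          exact absurd (h4.trans inf_le_left) h3M
      have h5 : M₀ ⊓ cz χ₃ = W := heqW _ (le_inf (inf_le_left.trans le_sup_left) (hout χ₃ h₃ h3M)) hM3
      have hsub : cz χ ⊓ cz χ₃ ≤ W := h5 ▸ inf_le_inf_right _ hle
      have e1 := Subgroup.relIndex_mul_index hsub
      rw [i, hWi] at e1
      exact (Subgroup.relIndex_eq_one.1 (Nat.eq_of_mul_eq_mul_right (pow_pos hp.pos 3)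
        (e1.trans (one_mul _).symm))).trans inf_le_left
    · exact hout χ hχ hle
  · -- some center has larger index
    push Not at hall
    obtain ⟨χ, hχ, hbig⟩ := hall
    obtain ⟨j, hj⟩ := hppow (cz χ) (hKz χ)
    have hj3 : 3 ≤ j := by
      have h1 := hsq χ hχ
      rw [hj] at h1 hbig
      have := (Nat.pow_le_pow_iff_right hp.one_lt).1 h1
      rcases eq_or_ne j 2 with rfl | h
      · exact absurd rfl hbig
      · omega
    obtain ⟨M, l, hl⟩ := monomial_of_nilpotent (Nat.card G) G rfl _ χ.2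
    haveI : Fintype M := Fintype.ofFinite M
    have hMi : M.index = p := by
      have h1 := congrFun hl 1
      rw [indFun_one, map_one, Units.val_one, mul_one, char_one_eq_deg (irr_isCharacter χ.2), Nat.cast_inj] at h1
      rw [← h1, (hcd χ).resolve_left hχ]
    haveI hMn : M.Normal := normal_of_prime_index M (hMi.symm ▸ hp)
    let lam : IrrCharacter M := ⟨fun m => (l m : ℂ), isIrrCharacter_linear l⟩
    have hlam : deg (lam : M → ℂ) = 1 := by
      have h1 := char_one_eq_deg (irr_isCharacter lam.2)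
      simp only [lam, map_one, Units.val_one] at h1
      exact_mod_cast h1.symm
    have hlcons : classInner (fun m : M => (χ : G → ℂ) m) (lam : M → ℂ) ≠ 0 := by
      rw [← classInner_symm, ← frobenius M _ (isClassFunction_character (irr_isCharacter χ.2)), ← hl, irr_self χ.2]
      simp
    obtain ⟨θ, hθ⟩ : ∃ θ : IrrCharacter M, deg (θ : M → ℂ) ≠ 1 := by
      by_contra hc
      push Not at hc
      refine habel ⟨M, hMn, fun a ha b hb => ?_, hMi⟩
      exact congrArg Subtype.val (forall_linear_iff_comm.2 (fun θ : IrrCharacter M => by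
        rw [char_one_eq_deg (irr_isCharacter θ.2), hc θ, Nat.cast_one]) ⟨a, ha⟩ ⟨b, hb⟩)
    have hθp := ((restrict_cases hp hcd M θ).resolve_left hθ).1
    have hczM : cz χ ≤ M := by
      intro x hx
      by_contra hxM
      have h1 := (mem_cz_iff χ x).1 hx
      rw [congrFun hl, indFun_normal_not_mem M _ hxM, norm_zero] at h1
      exact cast_ne_zero_deg χ (by exact_mod_cast h1.symm)
    set L := cz χ with hL
    -- `θ` vanishes off `L`
    have hbound : ∑ m : M, ‖(θ : M → ℂ) m‖ ^ 2 ≤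
        ∑ m : M, (if (m : G) ∈ L then ((p : ℝ) ^ 2) else 0) := by
      refine Finset.sum_le_sum fun m _ => ?_
      split_ifs with hm
      · rw [← hθp]
        exact pow_le_pow_left₀ (norm_nonneg _) (norm_le_deg θ m) 2
      · have h0 : (θ : M → ℂ) m = 0 := by
          by_contra h0
          exact hm (nonlinear_support hp hcd M θ hθ χ lam hlam hlcons m h0)
        rw [h0, norm_zero, zero_pow two_ne_zero]
    have hcount : (Finset.univ.filter fun m : M => (m : G) ∈ L).card = Nat.card L := by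
      rw [← Fintype.card_subtype, ← Nat.card_eq_fintype_card]
      exact Nat.card_congr (Equiv.subtypeSubtypeEquivSubtype fun {x} hx => hczM hx)
    rw [sum_norm_sq θ, ← Finset.sum_filter, Finset.sum_const, hcount, nsmul_eq_mul] at hbound
    have hML : Nat.card M ≤ Nat.card L * p ^ 2 := by exact_mod_cast hbound
    have e1 := Subgroup.card_mul_index L
    rw [hj, ← Subgroup.card_mul_index M, hMi] at e1
    have hj' : j = 3 := by
      have h1 : Nat.card L * p ^ j ≤ Nat.card L * p ^ 3 := by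
        calc Nat.card L * p ^ j = Nat.card M * p := e1
          _ ≤ Nat.card L * p ^ 2 * p := Nat.mul_le_mul_right _ hML
          _ = _ := by ring
      have := (Nat.pow_le_pow_iff_right hp.one_lt).1 (Nat.le_of_mul_le_mul_left h1 Nat.card_pos)
      omega
    subst hj'
    -- `θ` vanishes nowhere on `L`
    have hθL : ∀ m : M, (m : G) ∈ L → (θ : M → ℂ) m ≠ 0 := by
      intro m hm h0
      have hlt : ∑ m : M, ‖(θ : M → ℂ) m‖ ^ 2 < ∑ m : M, (if (m : G) ∈ L then ((p : ℝ) ^ 2) else 0) := by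
        refine Finset.sum_lt_sum (fun x _ => ?_) ⟨m, Finset.mem_univ _, ?_⟩
        · split_ifs with hx
          · rw [← hθp]
            exact pow_le_pow_left₀ (norm_nonneg _) (norm_le_deg θ x) 2
          · have h0 : (θ : M → ℂ) x = 0 := by
              by_contra h0
              exact hx (nonlinear_support hp hcd M θ hθ χ lam hlam hlcons x h0)
            rw [h0, norm_zero, zero_pow two_ne_zero]
        · rw [if_pos hm, h0, norm_zero, zero_pow two_ne_zero]
          exact pow_pos (Nat.cast_pos.2 hp.pos) 2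
      rw [sum_norm_sq θ, ← Finset.sum_filter, Finset.sum_const, hcount, nsmul_eq_mul] at hlt
      have hlt' : Nat.card M < Nat.card L * p ^ 2 := by exact_mod_cast hlt
      nlinarith [hp.pos]
    refine hfinish L (fun χ₃ h₃ x hx => ?_) hj
    obtain ⟨m3, hm3⟩ := exists_decomposition (isCharacter_comp M.subtype (irr_isCharacter χ₃.2))
    obtain ⟨φ, hφ⟩ : ∃ φ : IrrCharacter M, m3 φ ≠ 0 := by
      by_contra hc
      push Not at hc
      have h1 := congrFun hm3 1
      simp [hc] at h1
      exact irr_one_ne_zero χ₃.2 (by simpa using h1)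
    have hφc : classInner (fun m : M => (χ₃ : G → ℂ) m) (φ : M → ℂ) ≠ 0 := by
      rw [show (fun m : M => (χ₃ : G → ℂ) m) = (χ₃ : G → ℂ) ∘ M.subtype from rfl,
        decomposition_coeff m3 hm3 φ]
      exact_mod_cast hφ
    rcases eq_or_ne (deg (φ : M → ℂ)) 1 with h4 | h4
    · exact nonlinear_support hp hcd M θ hθ χ₃ φ h4 hφc ⟨x, hczM hx⟩ (hθL _ hx)
    · have hd3 := (hcd χ₃).resolve_left h₃
      have hres : (χ₃ : G → ℂ) ∘ M.subtype = (φ : M → ℂ) := by
        refine eq_of_inner_ne_zero_of_deg (isCharacter_comp M.subtype (irr_isCharacter χ₃.2)) φ hφc ?_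
        simp only [Function.comp_apply, map_one, char_one_eq_deg (irr_isCharacter χ₃.2),
          char_one_eq_deg (irr_isCharacter φ.2), hd3, ((restrict_cases hp hcd M φ).resolve_left h4).1]
      have hφp := ((restrict_cases hp hcd M φ).resolve_left h4).1
      rw [mem_cz_iff, show (χ₃ : G → ℂ) x = (φ : M → ℂ) ⟨x, hczM hx⟩ from congrFun hres ⟨x, hczM hx⟩, hd3]
      refine le_antisymm (hφp ▸ norm_le_deg φ _) ?_
      by_contra hlt
      push Not at hlt
      have hsum : ∑ m : M, ‖(φ : M → ℂ) m‖ ^ 2 < ∑ m : M, (if (m : G) ∈ L then ((p : ℝ) ^ 2) else 0) := by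
        refine Finset.sum_lt_sum (fun y _ => ?_) ⟨⟨x, hczM hx⟩, Finset.mem_univ _, ?_⟩
        · split_ifs with hy
          · rw [← hφp]
            exact pow_le_pow_left₀ (norm_nonneg _) (norm_le_deg φ y) 2
          · have h0 : (φ : M → ℂ) y = 0 := by
              by_contra h0
              exact hy (nonlinear_support hp hcd M φ h4 χ lam hlam hlcons y h0)
            rw [h0, norm_zero, zero_pow two_ne_zero]
        · rw [if_pos hx]
          exact pow_lt_pow_left₀ hlt (norm_nonneg _) two_ne_zero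
      rw [sum_norm_sq φ, ← Finset.sum_filter, Finset.sum_const, hcount, nsmul_eq_mul] at hsum
      have hlt' : Nat.card M < Nat.card L * p ^ 2 := by exact_mod_cast hsum
      nlinarith [hp.pos]

/-- The degrees one and `p` force one of two structures. -/
theorem structure_of_degrees (hna : ∃ a b : G, a * b ≠ b * a) :
    (∃ A : Subgroup G, A.Normal ∧ (∀ a ∈ A, ∀ b ∈ A, a * b = b * a) ∧ A.index = p) ∨
      (Subgroup.center G).index = p ^ 3 := by
  classical
  haveI := Fact.mk hp
  obtain ⟨K, hKn, hKab, hcop, hidx⟩ := (S0855.result (G := G) p hp).1 fun χ => by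
    rw [char_one_eq_deg (irr_isCharacter χ.2)]
    rcases hcd χ with h | h
    · exact ⟨0, by rw [h]; simp⟩
    · exact ⟨1, by rw [h]; simp⟩
  haveI := hKn
  by_cases hKc : K ≤ Subgroup.center G
  · obtain ⟨k, hk⟩ := hidx
    have hQ : IsPGroup p (G ⧸ K) := IsPGroup.of_card (n := k) (by rw [← hk]; rfl)
    haveI := hQ.isNilpotent
    haveI : Group.IsNilpotent G := Subgroup.isNilpotent_of_ker_le_center (QuotientGroup.mk' K)
      (by rw [QuotientGroup.ker_mk']; exact hKc)
    exact nilpotent_case hp hcd K hKc ⟨k, hk⟩ hna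
  · exact Or.inl (noncentral_case hp hcd K hKab hcop hidx hKc)

end

end Cfsg.Agent.Char.TwoDeg
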