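import Cfsg.Agent.Lib.Char.CliffordInd
import Cfsg.Agent.Lib.Char.SibleyCentral
import Cfsg.Agent.Lib.Char.CoherenceExt
import Cfsg.Agent.Lib.Char.Linear
import Cfsg.Agent.Lib.Char.Inflate
import Cfsg.Agent.Lib.Char.TwoDegreesPrime

/-!
Coherence of sets of characters induced from a solvable normal subgroup.
-/

set_option linter.unusedSectionVars false
set_option linter.style.haveILetI false

open scoped ComplexConjugate commutatorElement
open Cfsg

namespace Cfsg.Agent.Char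

universe u v

variable {L : Type u} [Group L] [Fintype L] {G : Type v} [Group G] [Fintype G] (K : Subgroup L)

theorem sum_sq_kernel_contains {Q : Type u} [Group Q] [Fintype Q] (D : Subgroup Q) [D.Normal] :
    ∃ T : Finset (IrrCharacter Q),
      (∀ θ, θ ∈ T ↔ ∀ d ∈ D, (θ : Q → ℂ) d = (θ : Q → ℂ) 1) ∧
      ∑ θ ∈ T, deg (θ : Q → ℂ) ^ 2 = D.index := by
  classical
  haveI := Fintype.ofFinite (Q ⧸ D)
  set P : IrrCharacter Q → Prop := fun θ => ∀ d ∈ D, (θ : Q → ℂ) d = (θ : Q → ℂ) 1 with hP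
  refine ⟨Finset.univ.filter P, fun θ => by simp [hP], ?_⟩
  have h : ∑ θ : IrrCharacter Q with P θ, (θ : Q → ℂ) 1 ^ 2 = (D.index : ℂ) := by
    rw [Subgroup.index_eq_card, ← sum_sq_deg (G := Q ⧸ D),
      Finset.sum_subtype (p := P) _ (fun θ => by simp), ← (inflateEquiv D).sum_comp]
    refine Fintype.sum_congr _ _ fun φ => ?_
    rw [inflateEquiv_apply, QuotientGroup.mk_one]
  rw [Finset.sum_congr rfl fun θ _ => by rw [char_one_eq_deg (irr_isCharacter θ.2)]] at h
  exact_mod_cast h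

theorem iia_mono {A B : Subgroup L} (h : A ≤ B) : inducedIrrAbove K B ⊆ inducedIrrAbove K A := by
  rintro φ ⟨θ, h1, h2, h3, h4⟩
  exact ⟨θ, h1, h2, fun a ha => h3 a (h ha), h4⟩

theorem iia_subset_bot (A : Subgroup L) : inducedIrrAbove K A ⊆ inducedIrrAbove K ⊥ := iia_mono K bot_le

theorem iia_finite (A : Subgroup L) : (inducedIrrAbove K A).Finite :=
  (Set.finite_range (fun θ : IrrCharacter K => indFun K (θ : K → ℂ))).subset
    fun φ ⟨θ, h1, _, _, h4⟩ => ⟨⟨θ, h1⟩, h4.symm⟩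

/-- `inducedIrrAbove` as a finite set. -/
noncomputable def iiaFin (A : Subgroup L) : Finset (L → ℂ) := (iia_finite K A).toFinset

theorem iiaFin_coe (A : Subgroup L) : (↑(iiaFin K A) : Set (L → ℂ)) = inducedIrrAbove K A :=
  (iia_finite K A).coe_toFinset

theorem mem_iiaFin {A : Subgroup L} {φ : L → ℂ} : φ ∈ iiaFin K A ↔ φ ∈ inducedIrrAbove K A :=
  (iia_finite K A).mem_toFinset

theorem conjFun_iia {A : Subgroup L} {φ : L → ℂ} (h : φ ∈ inducedIrrAbove K A) :
    conjFun φ ∈ inducedIrrAbove K A := by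
  classical
  obtain ⟨θ, h1, h2, h3, rfl⟩ := h
  refine ⟨fun k => conj (θ k), (irrConj ⟨θ, h1⟩).2, fun e => h2 (funext fun k => ?_), fun a ha => ?_, funext fun x => ?_⟩
  · have := congrArg conj (congrFun e k)
    simpa using this
  · show conj (θ a) = conj (θ 1)
    rw [h3 a ha]
  · show conj (indFun K θ x) = _
    simp only [indFun, map_mul, map_inv₀, map_natCast, map_sum]
    congr 1
    refine Finset.sum_congr rfl fun y _ => ?_
    by_cases hy : y⁻¹ * x * y ∈ K
    · rw [extendByZero_mem K _ hy, extendByZero_mem K _ hy]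
    · rw [extendByZero_not_mem K _ hy, extendByZero_not_mem K _ hy, map_zero]

/-- The degrees in a coherence system of induced characters. -/
theorem iia_deg {A : Subgroup L} {φ : L → ℂ} (h : φ ∈ inducedIrrAbove K A) :
    ∃ θ : IrrCharacter K, (θ : K → ℂ) ≠ (fun _ => 1) ∧ (∀ a : K, (a : L) ∈ A → (θ : K → ℂ) a = (θ : K → ℂ) 1) ∧
      φ = indFun K (θ : K → ℂ) ∧ φ 1 = ((K.index * deg (θ : K → ℂ) : ℕ) : ℂ) := by
  obtain ⟨θ, h1, h2, h3, rfl⟩ := h
  refine ⟨⟨θ, h1⟩, h2, h3, rfl, ?_⟩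
  rw [indFun_one, char_one_eq_deg (irr_isCharacter h1), Nat.cast_mul]

variable [K.Normal]

/-- The sum of `d ^ 2 / n` over the characters induced from `K / A`. -/
theorem iia_weight {S : Set (L → ℂ)} {τ : (L → ℂ) → (G → ℂ)} {R : (L → ℂ) → Finset (G → ℂ)}
    (hS : IsCoherenceSystem S τ R) {A : Subgroup L} [A.Normal] (hA : inducedIrrAbove K A ⊆ S)
    (d n : (L → ℂ) → ℕ) (hd : ∀ φ ∈ S, φ 1 = (d φ : ℂ)) (hn : ∀ φ ∈ S, classInner φ φ = (n φ : ℂ)) :
    ∑ φ ∈ iiaFin K A, ((d φ : ℝ) ^ 2 / (n φ : ℝ)) = (K.index : ℝ) * ((A.relIndex K : ℝ) - 1) := by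
  classical
  haveI := Fintype.ofFinite K
  obtain ⟨T, hT, hsum⟩ := sum_sq_kernel_contains (A.subgroupOf K)
  set triv : IrrCharacter K := ⟨fun _ => 1, isIrrCharacter_one⟩ with htriv
  have htrivT : triv ∈ T := (hT _).2 fun _ _ => rfl
  have hTmem : ∀ θ ∈ T.erase triv, indFun K (θ : K → ℂ) ∈ inducedIrrAbove K A := fun θ hθ => by
    obtain ⟨h1, h2⟩ := Finset.mem_erase.1 hθ
    exact ⟨θ, θ.2, fun e => h1 (Subtype.ext e), fun a ha => (hT θ).1 h2 a (Subgroup.mem_subgroupOf.2 ha), rfl⟩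
  set fib : (L → ℂ) → Finset (IrrCharacter K) := fun φ =>
    (T.erase triv).filter fun θ => indFun K (θ : K → ℂ) = φ with hfib
  have hdegθ : ∀ φ ∈ iiaFin K A, ∀ θ ∈ fib φ, (d φ : ℝ) = (K.index : ℝ) * deg (θ : K → ℂ) := by
    intro φ hφ θ hθ
    have h := hd φ (hA ((mem_iiaFin K).1 hφ))
    rw [← (Finset.mem_filter.1 hθ).2, indFun_one, char_one_eq_deg (irr_isCharacter θ.2)] at h
    have h' : (K.index * deg (θ : K → ℂ) : ℕ) = d (indFun K (θ : K → ℂ)) := by exact_mod_cast h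
    rw [← (Finset.mem_filter.1 hθ).2]
    exact_mod_cast h'.symm
  have hnum : ∀ φ ∈ iiaFin K A, (d φ : ℝ) = (n φ : ℝ) * ∑ θ ∈ fib φ, (deg (θ : K → ℂ) : ℝ) := by
    intro φ hφ
    have hφS := hA ((mem_iiaFin K).1 hφ)
    obtain ⟨θ₀, hne, hker, he, -⟩ := iia_deg K ((mem_iiaFin K).1 hφ)
    have hcl := isClassFunction_character (hS.isCharacter φ hφS)
    have hres : IsCharacter K (fun k : K => φ k) := isCharacter_comp K.subtype (hS.isCharacter φ hφS)
    have hzero : ∀ θ : IrrCharacter K, θ ∉ fib φ → classInner (fun k : K => φ k) (θ : K → ℂ) = 0 := by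
      intro θ hθ
      by_contra hne0
      have hex : ∃ g : L, irrComp (MulAut.conjNormal g) θ₀ = θ := by
        by_contra hcon
        push Not at hcon
        apply hne0
        rw [show (fun k : K => φ k) =
          (Nat.card K : ℂ)⁻¹ • ∑ g : L, (irrComp (MulAut.conjNormal g) θ₀ : K → ℂ) from funext fun k => by
            rw [he, indFun_restrict_normal]; simp, classInner_smul_left, classInner_sum_left,
          Finset.sum_eq_zero fun g _ => by rw [irrC_orth, if_neg (hcon g)], mul_zero]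
      obtain ⟨g, rfl⟩ := hex
      refine hθ (Finset.mem_filter.2 ⟨Finset.mem_erase.2 ⟨fun e => hne ?_, (hT _).2 fun a ha => ?_⟩, ?_⟩)
      · funext k
        have h' := congrFun (congrArg Subtype.val e) ((MulAut.conjNormal g).symm k)
        change (θ₀ : K → ℂ) (MulAut.conjNormal g ((MulAut.conjNormal g).symm k)) = 1 at h'
        rwa [MulEquiv.apply_symm_apply] at h'
      · rw [irrComp_apply, irrComp_apply, map_one]
        refine hker _ ?_
        rw [MulAut.conjNormal_apply]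
        exact Subgroup.Normal.conj_mem inferInstance _ (Subgroup.mem_subgroupOf.1 ha) g
      · rw [he]
        exact indFun_conj K (θ₀ : K → ℂ) g
    have hval : ∀ θ ∈ fib φ, classInner (fun k : K => φ k) (θ : K → ℂ) = (n φ : ℂ) := fun θ hθ => by
      rw [← frobenius_right K _ hcl, (Finset.mem_filter.1 hθ).2, hn φ hφS]
    have h1 := congrFun (classFun_expansion (isClassFunction_character hres)) 1
    simp only [Finset.sum_apply, Pi.smul_apply, smul_eq_mul] at h1
    rw [← Finset.sum_subset (Finset.subset_univ (fib φ)) (fun θ _ hθ => by rw [hzero θ hθ, zero_mul]),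
      Finset.sum_congr rfl fun θ hθ => by rw [hval θ hθ, char_one_eq_deg (irr_isCharacter θ.2)]] at h1
    rw [OneMemClass.coe_one, hd φ hφS, ← Finset.mul_sum] at h1
    exact_mod_cast h1
  have hpart : ∑ φ ∈ iiaFin K A, ∑ θ ∈ fib φ, (deg (θ : K → ℂ) : ℝ) ^ 2 =
      ∑ θ ∈ T.erase triv, (deg (θ : K → ℂ) : ℝ) ^ 2 :=
    Finset.sum_fiberwise_of_maps_to (fun θ hθ => (mem_iiaFin K).2 (hTmem θ hθ)) _
  have hterm : ∀ φ ∈ iiaFin K A, (d φ : ℝ) ^ 2 / (n φ : ℝ) =
      (K.index : ℝ) * ∑ θ ∈ fib φ, (deg (θ : K → ℂ) : ℝ) ^ 2 := by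
    intro φ hφ
    obtain ⟨m, hm, hme⟩ := cohSys_norm hS (hA ((mem_iiaFin K).1 hφ))
    have hn0 : (n φ : ℝ) ≠ 0 := by
      have e := (hn φ (hA ((mem_iiaFin K).1 hφ))).symm.trans hme
      have e' : n φ = m := by exact_mod_cast e
      rw [e']; positivity
    rw [div_eq_iff hn0, sq]
    nth_rewrite 1 [hnum φ hφ]
    rw [Finset.mul_sum, Finset.mul_sum, Finset.sum_mul, Finset.sum_mul]
    refine Finset.sum_congr rfl fun θ hθ => ?_
    rw [hdegθ φ hφ θ hθ]
    ring
  rw [Finset.sum_congr rfl hterm, ← Finset.mul_sum, hpart]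
  have hsum' : ∑ θ ∈ T, (deg (θ : K → ℂ) : ℝ) ^ 2 = (A.relIndex K : ℝ) := by
    rw [Subgroup.relIndex, ← hsum]
    push_cast
    rfl
  rw [← Finset.add_sum_erase T _ htrivT] at hsum'
  have htd : deg (triv : K → ℂ) = 1 := by
    have h := char_one_eq_deg (G := K) (irr_isCharacter triv.2)
    change (1 : ℂ) = _ at h
    exact_mod_cast h.symm
  rw [htd, Nat.cast_one, one_pow] at hsum'
  rw [← hsum']
  ring

/-- A nontrivial linear character of `K / A`. -/
theorem iia_exists_linear (hsolv : Group.IsSolvable K) {A : Subgroup L} [A.Normal] (hAK : A < K) :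
    ∃ φ ∈ inducedIrrAbove K A, φ 1 = (K.index : ℂ) := by
  classical
  haveI := hsolv
  set N := A.subgroupOf K with hN
  have hNtop : N ≠ ⊤ := fun h => hAK.not_ge (Subgroup.subgroupOf_eq_top.1 h)
  haveI : Nontrivial (K ⧸ N) := QuotientGroup.nontrivial_iff.2 hNtop
  haveI : Group.IsSolvable (K ⧸ N) := solvable_of_surjective (QuotientGroup.mk'_surjective N)
  have hlt := IsSolvable.commutator_lt_top_of_nontrivial (K ⧸ N)
  have hcard : 1 < Nat.card (K ⧸ N →* ℂˣ) := by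
    rw [card_hom_units]
    have h1 : (commutator (K ⧸ N)).index ≠ 1 := fun h => hlt.ne (Subgroup.index_eq_one.1 h)
    have h0 : (commutator (K ⧸ N)).index ≠ 0 := Subgroup.index_ne_zero_of_finite
    omega
  haveI : Finite (K ⧸ N →* ℂˣ) := Nat.finite_of_card_ne_zero (by omega)
  haveI : Nontrivial (K ⧸ N →* ℂˣ) := Finite.one_lt_card_iff_nontrivial.1 hcard
  obtain ⟨l, hl⟩ := exists_ne (1 : K ⧸ N →* ℂˣ)
  set l' := l.comp (QuotientGroup.mk' N) with hl'
  refine ⟨indFun K (fun k => (l' k : ℂ)), ⟨_, isIrrCharacter_linear l', fun e => hl ?_, fun a ha => ?_, rfl⟩, ?_⟩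
  · refine MonoidHom.ext fun q => ?_
    obtain ⟨k, rfl⟩ := QuotientGroup.mk'_surjective N q
    exact Units.ext (congrFun e k)
  · have : QuotientGroup.mk' N a = 1 := (QuotientGroup.eq_one_iff a).2 (Subgroup.mem_subgroupOf.2 ha)
    show (l (QuotientGroup.mk' N a) : ℂ) = (l (QuotientGroup.mk' N 1) : ℂ)
    rw [this, map_one, map_one, map_one]
  · rw [indFun_one]; simp

/-- The degree bound from a central section. -/
theorem deg_sq_le_of_central_section {Q : Type u} [Group Q] [Fintype Q] (B D C : Subgroup Q)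
    (hDC : D ≤ C) (hBC : B ≤ C) (hcent : ∀ x ∈ D, ∀ y ∈ C, x * y * x⁻¹ * y⁻¹ ∈ B) (θ : IrrCharacter Q)
    (hker : ∀ b ∈ B, (θ : Q → ℂ) b = (θ : Q → ℂ) 1) :
    deg (θ : Q → ℂ) ^ 2 ≤ C.index ^ 2 * D.relIndex C := by
  classical
  haveI := Fintype.ofFinite C
  set res : C → ℂ := fun c => (θ : Q → ℂ) c with hres
  have hresc : IsCharacter C res := isCharacter_comp C.subtype (irr_isCharacter θ.2)
  obtain ⟨η, hη⟩ : ∃ η : IrrCharacter C, classInner res (η : C → ℂ) ≠ 0 := by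
    by_contra hcon
    push Not at hcon
    have h := congrFun (classFun_expansion (isClassFunction_character hresc)) 1
    simp only [Finset.sum_apply, Pi.smul_apply, smul_eq_mul, hcon, zero_mul, Finset.sum_const_zero] at h
    exact irr_one_ne_zero θ.2 (by simpa [hres] using h)
  have h1 : deg (η : C → ℂ) ^ 2 ≤ D.relIndex C := by
    have hle : D.subgroupOf C ≤ TwoDeg.cz η := fun z hz => (TwoDeg.mem_cz_iff_comm η z).2 fun x =>
      TwoDeg.mem_kerC_of_eq η (const_constituent hresc η hη (by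
        refine (hker _ ?_).trans rfl
        exact hcent _ (Subgroup.mem_subgroupOf.1 hz) _ x.2))
    have h2 := TwoDeg.card_cz_mul_sq_le η
    have h3 : Nat.card (D.subgroupOf C) ≤ Nat.card (TwoDeg.cz η) :=
      Nat.le_of_dvd Nat.card_pos (Subgroup.card_dvd_of_le hle)
    refine (Nat.mul_le_mul_left_iff (Nat.card_pos (α := D.subgroupOf C))).1 ?_
    rw [Subgroup.relIndex, Subgroup.card_mul_index]
    exact le_trans (Nat.mul_le_mul_right _ h3) h2
  have h4 : deg (θ : Q → ℂ) ≤ C.index * deg (η : C → ℂ) := by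
    have hind : IsCharacter Q (indFun C (η : C → ℂ)) := isCharacter_indFun C (irr_isCharacter η.2)
    obtain ⟨m, hm⟩ := exists_decomposition hind
    have hcl := isClassFunction_character (irr_isCharacter θ.2)
    have hm0 : m θ ≠ 0 := fun e => hη (by
      have h := decomposition_coeff m hm θ
      rw [e, Nat.cast_zero, frobenius C _ hcl] at h
      rw [← classInner_symm, h, map_zero])
    have h := congrFun hm 1
    rw [indFun_one, char_one_eq_deg (irr_isCharacter η.2)] at h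
    simp only [Finset.sum_apply, Pi.smul_apply, nsmul_eq_mul, Pi.mul_apply, Pi.natCast_apply] at h
    rw [Finset.sum_congr rfl fun ψ _ => by rw [char_one_eq_deg (irr_isCharacter ψ.2)]] at h
    have h' : C.index * deg (η : C → ℂ) = ∑ ψ : IrrCharacter Q, m ψ * deg (ψ : Q → ℂ) := by exact_mod_cast h
    rw [h']
    refine le_trans (Nat.le_mul_of_pos_left _ (Nat.pos_of_ne_zero hm0)) ?_
    exact Finset.single_le_sum (f := fun ψ : IrrCharacter Q => m ψ * deg (ψ : Q → ℂ)) (fun _ _ => Nat.zero_le _)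
      (Finset.mem_univ θ)
  calc deg (θ : Q → ℂ) ^ 2 ≤ (C.index * deg (η : C → ℂ)) ^ 2 := Nat.pow_le_pow_left h4 2
    _ = C.index ^ 2 * deg (η : C → ℂ) ^ 2 := mul_pow _ _ _
    _ ≤ C.index ^ 2 * D.relIndex C := Nat.mul_le_mul_left _ h1

/-- Coherence passes to subsets closed under conjugation. -/
theorem coherent_subset {S S' : Set (L → ℂ)} {τ : (L → ℂ) → (G → ℂ)} (h : IsCoherent S {1}ᶜ τ) (hsub : S' ⊆ S)
    {χ : L → ℂ} (hχ : χ ∈ S') (hc : conjFun χ ∈ S') (hne : conjFun χ ≠ χ) (h1 : conjFun χ 1 = χ 1) :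
    IsCoherent S' {1}ᶜ τ := by
  obtain ⟨-, τ₁, hτ₁, hag⟩ := h
  have hz : zspan S' ⊆ zspan S := fun α hα => Submodule.span_mono hsub hα
  refine ⟨⟨χ - conjFun χ, cohSys_diff_mem hχ hc h1.symm, sub_ne_zero.2 hne.symm⟩, τ₁, ?_,
    fun α hα => hag α (zspanOn_mono hsub hα)⟩
  obtain ⟨a, b, c, e⟩ := hτ₁
  exact ⟨fun x hx y hy => a x (hz hx) y (hz hy), fun x hx => b x (hz hx),
    fun x hx y hy => c x (hz hx) y (hz hy), fun x hx => e x (hz hx)⟩

/-- Adjoining many characters to a coherent set. -/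
theorem coherent_extend_many {S : Set (L → ℂ)} {τ : (L → ℂ) → (G → ℂ)} {R : (L → ℂ) → Finset (G → ℂ)}
    (hS : IsCoherenceSystem S τ R) (d n : (L → ℂ) → ℕ) (hd : ∀ φ ∈ S, φ 1 = (d φ : ℂ))
    (hn : ∀ φ ∈ S, classInner φ φ = (n φ : ℂ)) (S₁ : Finset (L → ℂ)) (hS₁ : ↑S₁ ⊆ S)
    (hS₁c : ∀ φ ∈ S₁, conjFun φ ∈ S₁) (hcoh : IsCoherent (↑S₁ : Set (L → ℂ)) {1}ᶜ τ) (χ₁ : L → ℂ)
    (hχ₁ : χ₁ ∈ S₁) (T : Finset (L → ℂ)) (hT : ↑T ⊆ S)
    (hTd : ∀ χ ∈ T, d χ₁ ∣ d χ ∧ (2 * d χ * d χ₁ : ℝ) < ∑ φ ∈ S₁, ((d φ : ℝ) ^ 2 / (n φ : ℝ))) :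
    ∃ U : Finset (L → ℂ), S₁ ⊆ U ∧ T ⊆ U ∧ ↑U ⊆ S ∧ (∀ φ ∈ U, conjFun φ ∈ U) ∧
      IsCoherent (↑U : Set (L → ℂ)) {1}ᶜ τ := by
  classical
  induction T using Finset.induction_on with
  | empty => exact ⟨S₁, subset_rfl, Finset.empty_subset _, hS₁, hS₁c, hcoh⟩
  | insert χ T hχT ih =>
    obtain ⟨U, hU1, hU2, hU3, hU4, hU5⟩ := ih (fun x hx => hT (Finset.mem_insert_of_mem hx))
      (fun x hx => hTd x (Finset.mem_insert_of_mem hx))
    by_cases hχU : χ ∈ U
    · exact ⟨U, hU1, Finset.insert_subset hχU hU2, hU3, hU4, hU5⟩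
    have hχS : χ ∈ S := hT (Finset.mem_insert_self χ T)
    have hcU : conjFun χ ∉ U := fun h => hχU (by have := hU4 _ h; rwa [conjFun_conjFun] at this)
    obtain ⟨hdvd, hineq⟩ := hTd χ (Finset.mem_insert_self χ T)
    have h := coherent_extension hS d n hd hn U hU3 hU4 hU5 χ hχS hχU hcU χ₁ (hU1 hχ₁) hdvd
      (lt_of_lt_of_le hineq (Finset.sum_le_sum_of_subset_of_nonneg hU1 fun φ _ _ =>
        div_nonneg (sq_nonneg _) (Nat.cast_nonneg _)))
    refine ⟨U ∪ {χ, conjFun χ}, hU1.trans Finset.subset_union_left,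
      Finset.insert_subset (by simp) (hU2.trans Finset.subset_union_left), ?_, ?_, ?_⟩
    · intro x hx
      simp only [Finset.coe_union, Finset.coe_insert, Finset.coe_singleton, Set.mem_union, Set.mem_insert_iff,
        Set.mem_singleton_iff] at hx
      rcases hx with hx | rfl | rfl
      · exact hU3 hx
      · exact hχS
      · exact hS.conj_mem χ hχS
    · intro x hx
      simp only [Finset.mem_union, Finset.mem_insert, Finset.mem_singleton] at hx ⊢
      rcases hx with hx | rfl | rfl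
      · exact Or.inl (hU4 x hx)
      · exact Or.inr (Or.inr rfl)
      · exact Or.inr (Or.inl (conjFun_conjFun χ))
    · rwa [Finset.coe_union, Finset.coe_insert, Finset.coe_singleton]

variable {τ : (L → ℂ) → (G → ℂ)} {R : (L → ℂ) → Finset (G → ℂ)}

/-- Coherence descends along a central section. -/
theorem coherence_descends (hsolv : Group.IsSolvable K)
    (hS : IsCoherenceSystem (inducedIrrAbove K ⊥) τ R) (A B C D : Subgroup L) [A.Normal] [B.Normal]
    (hAK : A < K) (hBK : B < K) (hBD : B ≤ D) (hDC : D ≤ C) (hCK : C ≤ K)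
    (hcent : ∀ x ∈ D, ∀ y ∈ C, x * y * x⁻¹ * y⁻¹ ∈ B)
    (hA : IsCoherent (inducedIrrAbove K A) {1}ᶜ τ)
    (hlt : 4 * C.index ^ 2 * D.relIndex C < (A.relIndex K - 1) ^ 2) :
    IsCoherent (inducedIrrAbove K B) {1}ᶜ τ := by
  classical
  haveI := Fintype.ofFinite K
  choose! d hd using fun φ (hφ : φ ∈ inducedIrrAbove K ⊥) => charOne_eq_natCast (hS.isCharacter φ hφ)
  choose! n hn0 hn using fun φ (hφ : φ ∈ inducedIrrAbove K ⊥) => cohSys_norm hS hφ
  obtain ⟨χ₁, hχ₁, hχ₁d⟩ := iia_exists_linear K hsolv hAK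
  have hd₁ : d χ₁ = K.index := by
    have := (hd χ₁ (iia_subset_bot K A hχ₁)).symm.trans hχ₁d
    exact_mod_cast this
  have hw := iia_weight K hS (iia_subset_bot K A) d n hd hn
  have he : 0 < K.index := Nat.pos_of_ne_zero Subgroup.index_ne_zero_of_finite
  have hr : 1 ≤ A.relIndex K := Nat.pos_of_ne_zero Subgroup.index_ne_zero_of_finite
  obtain ⟨U, -, hU2, -, -, hU5⟩ := coherent_extend_many hS d n hd hn (iiaFin K A)
    (fun φ hφ => iia_subset_bot K A ((mem_iiaFin K).1 hφ))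
    (fun φ hφ => (mem_iiaFin K).2 (conjFun_iia K ((mem_iiaFin K).1 hφ))) (by rwa [iiaFin_coe]) χ₁
    ((mem_iiaFin K).2 hχ₁) (iiaFin K B) (fun φ hφ => iia_subset_bot K B ((mem_iiaFin K).1 hφ))
    (fun χ hχ => by
      have hχB := (mem_iiaFin K).1 hχ
      obtain ⟨θ, -, hker, -, hθ1⟩ := iia_deg K hχB
      have hdχ : d χ = K.index * deg (θ : K → ℂ) := by
        have := (hd χ (iia_subset_bot K B hχB)).symm.trans hθ1
        exact_mod_cast this
      refine ⟨by rw [hd₁, hdχ]; exact dvd_mul_right _ _, ?_⟩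
      have hb := deg_sq_le_of_central_section (B.subgroupOf K) (D.subgroupOf K) (C.subgroupOf K)
        (fun x hx => Subgroup.mem_subgroupOf.2 (hDC (Subgroup.mem_subgroupOf.1 hx)))
        (fun x hx => Subgroup.mem_subgroupOf.2 (hDC (hBD (Subgroup.mem_subgroupOf.1 hx))))
        (fun x hx y hy => Subgroup.mem_subgroupOf.2 (hcent _ (Subgroup.mem_subgroupOf.1 hx) _ (Subgroup.mem_subgroupOf.1 hy)))
        θ (fun b hb => hker b (Subgroup.mem_subgroupOf.1 hb))
      rw [show (C.subgroupOf K).index = C.relIndex K from rfl,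
        show (D.subgroupOf K).relIndex (C.subgroupOf K) = D.relIndex C from Subgroup.relIndex_subgroupOf hCK] at hb
      have hC : C.index = C.relIndex K * K.index := (Subgroup.relIndex_mul_index hCK).symm
      have h2 : (2 * d χ) ^ 2 < (A.relIndex K - 1) ^ 2 := by
        refine lt_of_le_of_lt ?_ hlt
        rw [hdχ, hC]
        calc (2 * (K.index * deg (θ : K → ℂ))) ^ 2 = 4 * K.index ^ 2 * deg (θ : K → ℂ) ^ 2 := by ring
          _ ≤ 4 * K.index ^ 2 * (C.relIndex K ^ 2 * D.relIndex C) := Nat.mul_le_mul_left _ hb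
          _ = 4 * (C.relIndex K * K.index) ^ 2 * D.relIndex C := by ring
      have h3 : 2 * d χ < A.relIndex K - 1 := lt_of_pow_lt_pow_left₀ 2 (Nat.zero_le _) h2
      have h4 : ((2 * d χ : ℕ) : ℝ) < ((A.relIndex K - 1 : ℕ) : ℝ) := by exact_mod_cast h3
      push_cast [Nat.cast_sub hr] at h4
      rw [hw, hd₁, mul_comm (K.index : ℝ)]
      exact mul_lt_mul_of_pos_right h4 (by exact_mod_cast he))
  obtain ⟨φ, hφ, -⟩ := iia_exists_linear K hsolv hBK
  refine coherent_subset hU5 (fun x hx => hU2 ((mem_iiaFin K).2 hx)) hφ (conjFun_iia K hφ)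
    (hS.conj_ne φ (iia_subset_bot K B hφ)) (cohSys_conj_one hS (iia_subset_bot K B hφ))

end Cfsg.Agent.Char
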