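import Cfsg.Agent.Lib.Char.RelGlauberman
import Cfsg.Agent.Lib.Char.GlaubermanOver
import Cfsg.Agent.Lib.Char.Inflate
import Mathlib

/-!
# Invariant characters over central subgroups under coprime solvable action
-/

set_option autoImplicit false
set_option linter.unusedSectionVars false
set_option linter.style.haveILetI false

namespace Cfsg.Agent.Char

open Cfsg Module
open scoped ComplexConjugate

universe u

theorem isIrr_comp_surjective {G H : Type u} [Group G] [Fintype G] [Group H] [Fintype H]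
    (f : G →* H) (hf : Function.Surjective f) {χ : H → ℂ} (h : IsIrrCharacter H χ) :
    IsIrrCharacter G (fun g => χ (f g)) := by
  classical
  haveI := Fintype.ofFinite (G ⧸ f.ker)
  exact isIrr_inflate (N := f.ker)
    (isIrrCharacter_comp_equiv (QuotientGroup.quotientKerEquivOfSurjective f hf) h)

/-- A character over an invariant character restricts to a multiple of it. -/
theorem restrict_eq_of_invariant {G : Type u} [Group G] [Fintype G] (N : Subgroup G) [N.Normal]
    [Fintype N] (χ : IrrCharacter G) (θ : IrrCharacter N)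
    (h : classInner (fun n : N => (χ : G → ℂ) n) (θ : N → ℂ) ≠ 0)
    (hinv : ∀ (g : G) (n : N), (θ : N → ℂ) (MulAut.conjNormal g n) = (θ : N → ℂ) n) :
    ∃ c : ℂ, ∀ n : N, (χ : G → ℂ) n = c * (θ : N → ℂ) n := by
  classical
  have ho : cliffOrbit N θ = {θ} := by
    refine Finset.eq_singleton_iff_unique_mem.2 ⟨self_mem_cliffOrbit θ, fun ψ hψ => ?_⟩
    obtain ⟨g, rfl⟩ := mem_cliffOrbit.mp hψ
    exact Subtype.ext (funext fun n => hinv g n)
  refine ⟨classInner (fun n : N => (χ : G → ℂ) n) (θ : N → ℂ), fun n => ?_⟩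
  have := congrFun (clifford_restrict χ θ h) n
  rwa [ho, Finset.sum_singleton] at this

/-- A normal Hall subgroup in a quotient has a complement. -/
theorem exists_relative_complement {Γ : Type u} [Group Γ] [Finite Γ] (G N : Subgroup Γ) [G.Normal]
    [N.Normal] (hNG : N ≤ G) (hcop : G.index.Coprime (N.relIndex G)) :
    ∃ S : Subgroup Γ, N ≤ S ∧ S ⊓ G ≤ N ∧ G ⊔ S = ⊤ ∧ N.relIndex S = G.index := by
  let f := QuotientGroup.mk' N
  have hf : Function.Surjective f := QuotientGroup.mk'_surjective N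
  haveI : (G.map f).Normal := Subgroup.Normal.map inferInstance f hf
  have hker : f.ker = N := QuotientGroup.ker_mk' N
  have hidx : (G.map f).index = G.index :=
    Subgroup.index_map_eq G hf (hker.le.trans hNG)
  have hcard : Nat.card (G.map f) = N.relIndex G := by
    have h1 := Subgroup.card_mul_index (G.map f)
    rw [hidx, ← Subgroup.index_eq_card, ← Subgroup.relIndex_mul_index hNG] at h1
    exact Nat.eq_of_mul_eq_mul_right (Nat.pos_of_ne_zero Subgroup.index_ne_zero_of_finite) h1
  obtain ⟨T, hT⟩ := Subgroup.exists_right_complement'_of_coprime (N := G.map f)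
    (by rw [hcard, hidx]; exact hcop.symm)
  have hmem : ∀ n ∈ N, f n = 1 := fun n hn => (QuotientGroup.eq_one_iff n).2 hn
  refine ⟨T.comap f, fun n hn => ?_, fun x hx => ?_, ?_, ?_⟩
  · show f n ∈ T
    rw [hmem n hn]
    exact one_mem _
  · have h1 : f x ∈ G.map f ⊓ T := ⟨Subgroup.mem_map_of_mem f hx.2, hx.1⟩
    rw [hT.disjoint.eq_bot, Subgroup.mem_bot] at h1
    exact (QuotientGroup.eq_one_iff x).1 h1
  · have h2 : (G.map f ⊔ T).comap f = ⊤ := by rw [hT.sup_eq_top, Subgroup.comap_top]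
    rw [← h2, ← Subgroup.comap_sup_eq f _ _ hf, Subgroup.comap_map_eq_self (hker.le.trans hNG)]
  · have h3 : Nat.card T = G.index := by
      have := hT.card_mul
      rw [hcard, ← Subgroup.index_eq_card, ← Subgroup.relIndex_mul_index hNG] at this
      exact Nat.eq_of_mul_eq_mul_left (hcard ▸ Nat.card_pos) this
    have h4 : (T.comap f).index = T.index := Subgroup.index_comap_of_surjective _ hf
    have hNT : N ≤ T.comap f := fun n hn => by
      show f n ∈ T
      rw [hmem n hn]
      exact one_mem _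
    have h5 := Subgroup.relIndex_mul_index hNT
    rw [h4, Subgroup.index_eq_card N, ← Subgroup.card_mul_index T, h3] at h5
    exact Nat.eq_of_mul_eq_mul_right (Nat.pos_of_ne_zero Subgroup.index_ne_zero_of_finite) h5

variable {Γ : Type u} [Group Γ] [Fintype Γ]

/-- The part of a central subgroup supported by the primes of a given number. -/
theorem exists_central_hall (G N : Subgroup Γ) (hNG : N ≤ G) (hNZ : N ≤ Subgroup.center Γ)
    (hcop : G.index.Coprime (N.relIndex G)) :
    ∃ A : Subgroup Γ, A ≤ N ∧ (Nat.card A).Coprime (A.relIndex G) ∧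
      G.index.Coprime (A.relIndex G) := by
  set m := G.index with hm
  set c := Nat.card N with hc
  set a := Nat.gcd c (m ^ c) with ha
  obtain ⟨b, hb⟩ : a ∣ c := Nat.gcd_dvd_left _ _
  have hc0 : 0 < c := Nat.card_pos
  have hmb : m.Coprime b := by
    refine Nat.coprime_of_dvd fun p hp hpm hpb => ?_
    have hdec : ∀ i, p ^ i ∣ a := by
      intro i
      induction i with
      | zero => simp
      | succ i ih =>
        have h1 : p ^ (i + 1) ∣ c := by
          rw [pow_succ, hb]
          exact Nat.mul_dvd_mul ih hpb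
        have h2 : i + 1 ≤ c :=
          ((Nat.lt_pow_self hp.one_lt).le).trans (Nat.le_of_dvd hc0 h1)
        exact Nat.dvd_gcd h1 ((pow_dvd_pow p h2).trans (pow_dvd_pow_of_dvd hpm c))
    have h3 : a + 1 ≤ p ^ (a + 1) := (Nat.lt_pow_self hp.one_lt).le
    have h4 : 0 < a := Nat.gcd_pos_of_pos_left _ hc0
    have h5 := Nat.le_of_dvd h4 (hdec (a + 1))
    omega
  have hcomm : ∀ x y : N, x * y = y * x := fun x y => Subtype.ext
    (Subgroup.mem_center_iff.1 (hNZ y.2) x)
  let fa : N →* N :=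
    { toFun := fun x => x ^ a
      map_one' := one_pow _
      map_mul' := fun x y => (show Commute x y from hcomm x y).mul_pow a }
  refine ⟨fa.ker.map N.subtype, Subgroup.map_subtype_le _, ?_⟩
  set A := fa.ker.map N.subtype with hA
  have hAN : A ≤ N := Subgroup.map_subtype_le _
  have hcardA : Nat.card A = Nat.card fa.ker :=
    Subgroup.card_map_of_injective N.subtype_injective
  have hpa : ∀ p : ℕ, p.Prime → p ∣ Nat.card A → p ∣ a := by
    intro p hp hdvd
    haveI := Fact.mk hp
    rw [hcardA] at hdvd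
    obtain ⟨x, hx⟩ := exists_prime_orderOf_dvd_card' p hdvd
    rw [← hx, ← Subgroup.orderOf_coe]
    exact orderOf_dvd_of_pow_eq_one x.2
  have hpb : ∀ p : ℕ, p.Prime → p ∣ A.relIndex N → p ∣ b := by
    intro p hp hdvd
    haveI := Fact.mk hp
    have : A.relIndex N = Nat.card fa.range := by
      rw [← Subgroup.index_ker, Subgroup.relIndex, hA]
      congr 1
      exact Subgroup.comap_map_eq_self_of_injective N.subtype_injective _
    rw [this] at hdvd
    obtain ⟨x, hx⟩ := exists_prime_orderOf_dvd_card' p hdvd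
    rw [← hx, ← Subgroup.orderOf_coe]
    refine orderOf_dvd_of_pow_eq_one ?_
    obtain ⟨y, hy⟩ := x.2
    rw [← hy]
    show (y ^ a) ^ b = 1
    rw [← pow_mul, ← hb, hc, pow_card_eq_one']
  have hmA : ∀ p : ℕ, p.Prime → p ∣ Nat.card A → p ∣ m := fun p hp h =>
    hp.dvd_of_dvd_pow ((hpa p hp h).trans (Nat.gcd_dvd_right _ _))
  have hrel : A.relIndex G = A.relIndex N * N.relIndex G :=
    (Subgroup.relIndex_mul_relIndex A N G hAN hNG).symm
  have h2 : m.Coprime (A.relIndex G) := by
    rw [hrel]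
    refine Nat.Coprime.mul_right (Nat.coprime_of_dvd fun p hp h1 h3 => ?_) hcop
    exact hp.ne_one (Nat.eq_one_of_dvd_coprimes hmb h1 (hpb p hp h3))
  exact ⟨Nat.coprime_of_dvd fun p hp h1 h3 =>
    hp.ne_one (Nat.eq_one_of_dvd_coprimes h2 (hmA p hp h1) h3), h2⟩

/-- Invariant characters over a character of a central subgroup. -/
theorem exists_fixed_over_central (G N : Subgroup Γ) [G.Normal] [Fintype G] (hNG : N ≤ G)
    (hNZ : N ≤ Subgroup.center Γ) (hcop : G.index.Coprime (N.relIndex G))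
    (hsolv : Group.IsSolvable (Γ ⧸ G)) (μ : N →* ℂˣ) :
    ∃ χ : IrrCharacter G,
      (∀ n : N, (χ : G → ℂ) (Subgroup.inclusion hNG n) = (χ : G → ℂ) 1 * (μ n : ℂ)) ∧
      ∀ (x : Γ) (g : G), (χ : G → ℂ) (MulAut.conjNormal x g) = (χ : G → ℂ) g := by
  classical
  obtain ⟨A, hAN, hAcop, hmcop⟩ := exists_central_hall G N hNG hNZ hcop
  have hAG : A ≤ G := hAN.trans hNG
  have hAZ : ∀ a ∈ A, ∀ x : Γ, x * a = a * x := fun a ha x =>
    Subgroup.mem_center_iff.1 (hNZ (hAN ha)) x
  haveI hAn : (A.subgroupOf G).Normal := ⟨fun a ha g => Subgroup.mem_subgroupOf.2 (by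
    have h := hAZ (a : Γ) (Subgroup.mem_subgroupOf.1 ha) g
    simp only [Subgroup.coe_mul, Subgroup.coe_inv]
    rw [h, mul_assoc, mul_inv_cancel, mul_one]
    exact Subgroup.mem_subgroupOf.1 ha)⟩
  have hAcard : Nat.card (A.subgroupOf G) = Nat.card A :=
    Nat.card_congr (Subgroup.subgroupOfEquivOfLe hAG).toEquiv
  obtain ⟨T, hT⟩ := Subgroup.exists_right_complement'_of_coprime (N := A.subgroupOf G)
    (by rw [hAcard]; exact hAcop)
  let H : Subgroup Γ := T.map G.subtype
  have hHG : H ≤ G := Subgroup.map_subtype_le _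
  have hTcard : Nat.card T = A.relIndex G := by
    have h := hT.card_mul
    rw [← Subgroup.card_mul_index (A.subgroupOf G)] at h
    exact Nat.eq_of_mul_eq_mul_left Nat.card_pos h
  have hHcard : Nat.card H = A.relIndex G :=
    (Subgroup.card_map_of_injective G.subtype_injective).trans hTcard
  have hdec : ∀ g ∈ G, ∃ a ∈ A, ∃ h ∈ H, a * h = g := fun g hg => by
    obtain ⟨⟨a, t⟩, he⟩ := hT.2 ⟨g, hg⟩
    exact ⟨_, a.2, _, Subgroup.mem_map_of_mem G.subtype t.2, congrArg Subtype.val he⟩
  have hAH : ∀ x ∈ A, x ∈ H → x = 1 := fun x hx hxH => by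
    refine orderOf_eq_one_iff.1 (Nat.eq_one_of_dvd_coprimes hAcop ?_ ?_)
    · exact Subgroup.orderOf_dvd_natCard A hx
    · rw [← hHcard]
      exact Subgroup.orderOf_dvd_natCard H hxH
  have hHchar : ∀ g ∈ G, g ^ Nat.card H = 1 → g ∈ H := by
    intro g hg h1
    obtain ⟨a, ha, h, hh, rfl⟩ := hdec g hg
    rw [(show Commute a h from (hAZ a ha h).symm).mul_pow] at h1
    have hh1 : h ^ Nat.card H = 1 := orderOf_dvd_iff_pow_eq_one.1 (Subgroup.orderOf_dvd_natCard H hh)
    rw [hh1, mul_one] at h1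
    have : a = 1 := orderOf_eq_one_iff.1 (Nat.eq_one_of_dvd_coprimes hAcop
      (Subgroup.orderOf_dvd_natCard A ha) (hHcard ▸ orderOf_dvd_of_pow_eq_one h1))
    simpa [this] using hh
  haveI hHn : H.Normal := ⟨fun h hh x => hHchar _ (Subgroup.Normal.conj_mem inferInstance h (hHG hh) x) (by
    rw [conj_pow, orderOf_dvd_iff_pow_eq_one.1 (Subgroup.orderOf_dvd_natCard H hh)]
    group)⟩
  haveI := Fintype.ofFinite H
  have hHA : H.relIndex G = Nat.card A := by
    have h := Subgroup.relIndex_mul_relIndex ⊥ H G bot_le hHG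
    have h' := Subgroup.relIndex_mul_relIndex ⊥ A G bot_le hAG
    rw [Subgroup.relIndex_bot_left, Subgroup.relIndex_bot_left] at h h'
    rw [← h', hHcard, mul_comm (Nat.card A)] at h
    exact Nat.eq_of_mul_eq_mul_left (hTcard ▸ Nat.card_pos) h
  -- the solvable complement acting on `H`
  obtain ⟨S, hS⟩ := Subgroup.exists_right_complement'_of_coprime (N := H) (by
    rw [hHcard, ← Subgroup.relIndex_mul_index hHG]
    refine Nat.Coprime.mul_right ?_ hmcop.symm
    rw [hHA]
    exact hAcop.symm)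
  have hScard : Nat.card S = H.index := by
    have h := hS.card_mul
    rw [← Subgroup.card_mul_index H] at h
    exact Nat.eq_of_mul_eq_mul_left Nat.card_pos h
  have hScop : (Nat.card H).Coprime (Nat.card S) := by
    rw [hScard, hHcard, ← Subgroup.relIndex_mul_index hHG]
    refine Nat.Coprime.mul_right ?_ hmcop.symm
    rw [hHA]
    exact hAcop.symm
  have hSsol : Group.IsSolvable S := by
    refine Group.isSolvable_of_ker_le_range (G := S) (G' := G.subgroupOf S) (G'' := Γ ⧸ G)
      (G.subgroupOf S).subtype ((QuotientGroup.mk' G).comp S.subtype) (fun s hs => ?_)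
      (hG' := ?_) (hG'' := hsolv)
    · exact ⟨⟨s, (QuotientGroup.eq_one_iff (s : Γ)).1 hs⟩, rfl⟩
    · refine Group.isSolvable_of_comm fun s t => ?_
      obtain ⟨a, ha, h, hh, e⟩ := hdec _ (Subgroup.mem_subgroupOf.1 s.2)
      obtain ⟨b, hb, k, hk, e'⟩ := hdec _ (Subgroup.mem_subgroupOf.1 t.2)
      apply Subtype.ext
      apply Subtype.ext
      refine eq_of_mul_inv_eq_one ?_
      have h1 : ((s : S) : Γ) * t * (((t : S) : Γ) * s)⁻¹ ∈ H := by
        have c : ∀ {a b : Γ}, a ∈ A → b ∈ A → ∀ h k : Γ, a * h * (b * k) = a * b * (h * k) :=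
          fun {a b} _ hb h k => by
            rw [mul_assoc, ← mul_assoc h, hAZ b hb h]
            group
        rw [← e, ← e', c ha hb, c hb ha, hAZ a ha b]
        rw [show a * b * (h * k) * (a * b * (k * h))⁻¹ = a * b * (h * k * (k * h)⁻¹) * (a * b)⁻¹ by
          group, ← hAZ (a * b) (mul_mem ha hb), mul_assoc, mul_inv_cancel, mul_one]
        exact mul_mem (mul_mem hh hk) (inv_mem (mul_mem hk hh))
      have h2 : ((s : S) : Γ) * t * (((t : S) : Γ) * s)⁻¹ ∈ S :=
        mul_mem (mul_mem (s : S).2 (t : S).2) (inv_mem (mul_mem (t : S).2 (s : S).2))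
      have h3 := Subgroup.mem_inf.2 ⟨h1, h2⟩
      rw [hS.disjoint.eq_bot, Subgroup.mem_bot] at h3
      exact h3
  let B : Subgroup H := N.subgroupOf H
  haveI : B.Normal := ⟨fun b hb h => Subgroup.mem_subgroupOf.2 (by
    have e := Subgroup.mem_center_iff.1 (hNZ (Subgroup.mem_subgroupOf.1 hb)) h
    simp only [Subgroup.coe_mul, Subgroup.coe_inv]
    rw [e, mul_assoc, mul_inv_cancel, mul_one]
    exact Subgroup.mem_subgroupOf.1 hb)⟩
  haveI := Fintype.ofFinite B
  let φ : S →* MulAut H := (MulAut.conjNormal : Γ →* MulAut H).comp S.subtype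
  have hfix : ∀ (s : S) (x : H), x ∈ B → φ s x = x := fun s x hx => by
    apply Subtype.ext
    have e := Subgroup.mem_center_iff.1 (hNZ (Subgroup.mem_subgroupOf.1 hx)) (s : Γ)
    show (s : Γ) * (x : Γ) * (s : Γ)⁻¹ = x
    rw [e, mul_assoc, mul_inv_cancel, mul_one]
  let iB : B →* N :=
    { toFun := fun b => ⟨((b : H) : Γ), Subgroup.mem_subgroupOf.1 b.2⟩
      map_one' := rfl
      map_mul' := fun _ _ => rfl }
  let θB : IrrCharacter B := ⟨_, isIrrCharacter_linear (μ.comp iB)⟩
  have hBS : ∀ s, ∀ x ∈ B, φ s x ∈ B := fun s x hx => by rw [hfix s x hx]; exact hx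
  obtain ⟨ψ, hψS, hψB⟩ := exists_invariant_over _ S H φ B hBS θB (fun s x => by
    rw [show restrictAct φ B hBS s x = x from Subtype.ext (hfix s x x.2)]) rfl hSsol hScop
  have hψinv : ∀ (x : Γ) (h : H), (ψ : H → ℂ) (MulAut.conjNormal x h) = (ψ : H → ℂ) h := by
    intro x h
    obtain ⟨⟨k, s⟩, rfl⟩ := hS.2 x
    show (ψ : H → ℂ) (MulAut.conjNormal ((k : Γ) * (s : Γ)) h) = _
    rw [map_mul, MulAut.mul_apply]
    rw [show MulAut.conjNormal (k : Γ) (MulAut.conjNormal (s : Γ) h) =
        (k : H) * MulAut.conjNormal (s : Γ) h * (k : H)⁻¹ from Subtype.ext (by simp),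
      isClassFunction_character (irr_isCharacter ψ.2)]
    exact hψS s h
  -- the product decomposition of `G`
  let p : A × H →* G :=
    { toFun := fun q => ⟨(q.1 : Γ) * q.2, mul_mem (hAG q.1.2) (hHG q.2.2)⟩
      map_one' := Subtype.ext (one_mul _)
      map_mul' := fun q r => Subtype.ext (by
        show (q.1 : Γ) * r.1 * (q.2 * r.2) = q.1 * q.2 * (r.1 * r.2)
        rw [mul_assoc, ← mul_assoc (r.1 : Γ), ← hAZ (r.1 : Γ) r.1.2]
        group) }
  have hp : Function.Bijective p := by
    refine ⟨(injective_iff_map_eq_one p).2 fun q hq => ?_, fun g => ?_⟩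
    · have e : (q.1 : Γ) * q.2 = 1 := congrArg Subtype.val hq
      have e1 : (q.1 : Γ) = 1 := hAH _ q.1.2 (by rw [eq_inv_of_mul_eq_one_left e]; exact inv_mem q.2.2)
      rw [e1, one_mul] at e
      exact Prod.ext (Subtype.ext e1) (Subtype.ext e)
    · obtain ⟨a, ha, h, hh, he⟩ := hdec g g.2
      exact ⟨(⟨a, ha⟩, ⟨h, hh⟩), Subtype.ext he⟩
  let e := MulEquiv.ofBijective p hp
  let pA : G →* A := (MonoidHom.fst A H).comp e.symm.toMonoidHom
  let pH : G →* H := (MonoidHom.snd A H).comp e.symm.toMonoidHom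
  have hpH : Function.Surjective pH := fun h => ⟨e (1, h), by simp [pH]⟩
  have hval : ∀ q : A × H, pA (p q) = q.1 ∧ pH (p q) = q.2 := fun q => by
    have : e.symm (p q) = q := e.symm_apply_apply q
    exact ⟨congrArg Prod.fst this, congrArg Prod.snd this⟩
  let l : G →* ℂˣ := μ.comp ((Subgroup.inclusion hAN).comp pA)
  refine ⟨⟨fun g => (l g : ℂ) * (ψ : H → ℂ) (pH g),
    isIrr_linear_mul (isIrr_comp_surjective pH hpH ψ.2) l⟩, fun n => ?_, fun x g => ?_⟩
  · obtain ⟨a, ha, h, hh, he⟩ := hdec (n : Γ) (hNG n.2)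
    have hhN : h ∈ N := by
      rw [show h = a⁻¹ * (n : Γ) by rw [← he]; group]
      exact mul_mem (inv_mem (hAN ha)) n.2
    have hn : Subgroup.inclusion hNG n = p (⟨a, ha⟩, ⟨h, hh⟩) := Subtype.ext he.symm
    show (l (Subgroup.inclusion hNG n) : ℂ) * (ψ : H → ℂ) (pH (Subgroup.inclusion hNG n)) =
      (l 1 : ℂ) * (ψ : H → ℂ) (pH 1) * _
    rw [hn]
    simp only [l, MonoidHom.comp_apply, (hval _).1, (hval _).2, map_one, Units.val_one, one_mul]
    obtain ⟨c, hc⟩ := restrict_eq_of_invariant B ψ θB hψB (fun g x => by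
      show (θB : B → ℂ) _ = _
      rw [show MulAut.conjNormal g x = x from Subtype.ext (Subtype.ext (by
        have e := Subgroup.mem_center_iff.1 (hNZ (Subgroup.mem_subgroupOf.1 x.2)) (g : Γ)
        simp only [MulAut.conjNormal_apply, Subgroup.coe_mul, Subgroup.coe_inv]
        rw [e, mul_assoc, mul_inv_cancel, mul_one]))])
    have h1 := hc ⟨⟨h, hh⟩, Subgroup.mem_subgroupOf.2 hhN⟩
    have h0 := hc 1
    simp only [θB, OneMemClass.coe_one, map_one, Units.val_one, mul_one] at h0
    rw [h1, h0]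
    simp only [θB, MonoidHom.comp_apply]
    rw [mul_left_comm, ← Units.val_mul, ← map_mul]
    congr 3
    exact Subtype.ext he
  · obtain ⟨⟨a, h⟩, rfl⟩ := hp.2 g
    have hx : MulAut.conjNormal x (p (a, h)) = p (a, MulAut.conjNormal x h) := Subtype.ext (by
      show x * ((a : Γ) * h) * x⁻¹ = (a : Γ) * (x * h * x⁻¹)
      rw [← mul_assoc, hAZ a a.2 x]
      group)
    rw [hx]
    simp only [l, MonoidHom.comp_apply, (hval _).1, (hval _).2, hψinv]

end Cfsg.Agent.Char
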