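import Cfsg.Agent.Lib.Char.Gallagher
import Cfsg.Agent.Lib.Char.Coprime
import Cfsg.Agent.Lib.Char.CoprimeMcKay
import Cfsg.Agent.Lib.Char.GlaubermanOver
import Cfsg.Agent.Lib.Char.RelGlaubermanCentral

/-!
# The correspondence over a normal Sylow subgroup: the stable layer
-/

set_option autoImplicit false
set_option linter.style.haveILetI false
set_option linter.unusedSectionVars false

namespace Cfsg.Agent.Char

open Cfsg Module
open scoped ComplexConjugate

universe u v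

/-- A function fixed by every automorphism in the image of `φ`. -/
def IsActInvariant {G : Type u} [Group G] {S : Type v} [Group S] (φ : S →* MulAut G)
    (f : G → ℂ) : Prop :=
  ∀ s g, f (φ s g) = f g

theorem classInner_comp_mulEquiv {A B : Type*} [Group A] [Fintype A] [Group B] [Fintype B]
    (e : A ≃* B) (f g : B → ℂ) :
    classInner (fun a => f (e a)) (fun a => g (e a)) = classInner f g := by
  simp only [classInner]
  rw [Nat.card_congr e.toEquiv]
  congr 1
  exact Fintype.sum_equiv e.toEquiv _ _ fun a => rfl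

/-- Constituents of restrictions compose. -/
theorem over_trans {D A : Type*} [Group D] [Fintype D] [Group A] [Fintype A] (j : A →* D)
    {f : D → ℂ} (hf : IsCharacter D f) (η : IrrCharacter D) {θ : A → ℂ} (hθ : IsIrrCharacter A θ)
    (h1 : classInner f (η : D → ℂ) ≠ 0)
    (h2 : classInner (fun a => (η : D → ℂ) (j a)) θ ≠ 0) :
    classInner (fun a => f (j a)) θ ≠ 0 := by
  obtain ⟨m, hm⟩ := exists_decomposition hf
  choose k hk using fun ψ : IrrCharacter D =>
    classInner_natCast (isCharacter_comp j (irr_isCharacter ψ.2)) (irr_isCharacter hθ)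
  have hval : (fun a => f (j a)) = ∑ ψ : IrrCharacter D, (m ψ : ℂ) • ((ψ : D → ℂ) ∘ j) := by
    funext a
    simpa using congrFun hm (j a)
  rw [hval, classInner_sum_left]
  simp only [classInner_smul_left, hk]
  have hη : m η * k η ≠ 0 := mul_ne_zero
    (fun h0 => h1 (by rw [decomposition_coeff m hm η, h0, Nat.cast_zero]))
    (fun h0 => h2 (by
      rw [show (fun a => (η : D → ℂ) (j a)) = (η : D → ℂ) ∘ j from rfl, hk η, h0, Nat.cast_zero]))
  intro h0
  have h3 : ∑ ψ : IrrCharacter D, m ψ * k ψ = 0 := by exact_mod_cast h0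
  exact hη (Finset.sum_eq_zero_iff.1 h3 η (Finset.mem_univ η))

theorem exists_deflate_surjective {G H : Type u} [Group G] [Fintype G] [Group H] [Fintype H]
    (f : G →* H) (hf : Function.Surjective f) {χ : G → ℂ} (hχ : IsIrrCharacter G χ)
    (hker : ∀ g, f g = 1 → χ g = χ 1) :
    ∃ χ' : IrrCharacter H, ∀ g, (χ' : H → ℂ) (f g) = χ g := by
  classical
  haveI := Fintype.ofFinite (G ⧸ f.ker)
  obtain ⟨χ', hχ'⟩ := exists_deflate f.ker hχ fun n hn => hker n hn
  let e := QuotientGroup.quotientKerEquivOfSurjective f hf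
  refine ⟨⟨fun x => (χ' : G ⧸ f.ker → ℂ) (e.symm x),
    isIrrCharacter_comp_equiv e.symm χ'.2⟩, fun g => ?_⟩
  show (χ' : G ⧸ f.ker → ℂ) (e.symm (f g)) = χ g
  rw [show f g = e (QuotientGroup.mk g) from rfl, e.symm_apply_apply, hχ']

/-- Inner products of pullbacks along surjections. -/
theorem classInner_comp_surjective {G H : Type u} [Group G] [Fintype G] [Group H] [Fintype H]
    (f : G →* H) (hf : Function.Surjective f) {a : H → ℂ} (ha : IsCharacter H a) :
    (∀ γ : IrrCharacter H,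
      classInner (fun g => a (f g)) (fun g => (γ : H → ℂ) (f g)) = classInner a (γ : H → ℂ)) ∧
    (∀ η : IrrCharacter G, classInner (fun g => a (f g)) (η : G → ℂ) ≠ 0 →
      ∀ g, f g = 1 → (η : G → ℂ) g = (η : G → ℂ) 1) := by
  classical
  obtain ⟨m, hm⟩ := exists_decomposition ha
  let pull : IrrCharacter H → IrrCharacter G := fun δ =>
    ⟨fun g => (δ : H → ℂ) (f g), isIrr_comp_surjective f hf δ.2⟩
  have hpull : Function.Injective pull := fun δ δ' h => Subtype.ext (funext fun x => by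
    obtain ⟨g, rfl⟩ := hf x
    exact congrFun (congrArg Subtype.val h) g)
  have hval : (fun g => a (f g)) = ∑ δ : IrrCharacter H, (m δ : ℂ) • (pull δ : G → ℂ) := by
    funext g
    simpa [pull] using congrFun hm (f g)
  refine ⟨fun γ => ?_, fun η hη g hg => ?_⟩
  · rw [hval, classInner_sum_left, decomposition_coeff m hm γ,
      show (fun g => (γ : H → ℂ) (f g)) = (pull γ : G → ℂ) from rfl]
    simp only [classInner_smul_left, irrC_orth, hpull.eq_iff]
    simp
  · rw [hval, classInner_sum_left] at hη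
    obtain ⟨δ, -, hδ⟩ := Finset.exists_ne_zero_of_sum_ne_zero hη
    rw [classInner_smul_left, irrC_orth] at hδ
    split_ifs at hδ with h
    · rw [← h]
      show (δ : H → ℂ) (f g) = (δ : H → ℂ) (f 1)
      rw [hg, map_one]
    · exact absurd (mul_zero _) hδ

/-- Gallagher's correspondence for an extended character. -/
theorem gallagher_one {T : Type u} [Group T] [Fintype T] (N : Subgroup T) [N.Normal] [Fintype N]
    (θ : IrrCharacter N) {χ : T → ℂ} (hχ : IsCharacter T χ)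
    (hext : ∀ n : N, χ n = (θ : N → ℂ) n) :
    Set.BijOn (fun β : T → ℂ => β * χ)
      {β : T → ℂ | IsIrrCharacter T β ∧ ∀ n : N, β n = β 1}
      {ψ : T → ℂ | IsIrrCharacter T ψ ∧ classInner (fun n : N => ψ n) (θ : N → ℂ) ≠ 0} := by
  have hinv : ∀ (g : T) (n : N), (θ : N → ℂ) (MulAut.conjNormal g n) = (θ : N → ℂ) n := fun g n => by
    rw [← hext, ← hext, MulAut.conjNormal_apply, isClassFunction_character hχ]
  have h1 : (fun _ : N => (1 : ℂ)) * (θ : N → ℂ) = (θ : N → ℂ) := funext fun n => one_mul _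
  have h := gallagher N (fun _ => 1) (θ : N → ℂ) isIrrCharacter_one (fun _ _ => rfl) hinv
    (by rw [h1]; exact θ.2) hχ hext
  rw [h1] at h
  rw [show {β : T → ℂ | IsIrrCharacter T β ∧ ∀ n : N, β n = β 1} =
      {β : T → ℂ | IsIrrCharacter T β ∧ classInner (indFun N (fun _ : N => (1 : ℂ))) β ≠ 0} from
    Set.ext fun β => and_congr_right fun hβ => (constituent_indFun_one_iff N hβ).symm,
    show {ψ : T → ℂ | IsIrrCharacter T ψ ∧ classInner (fun n : N => ψ n) (θ : N → ℂ) ≠ 0} =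
      {ψ : T → ℂ | IsIrrCharacter T ψ ∧ classInner (indFun N (θ : N → ℂ)) ψ ≠ 0} from
    Set.ext fun ψ => and_congr_right fun hψ => by
      rw [frobenius N _ (isClassFunction_character (irr_isCharacter hψ)), ← classInner_symm]
      exact map_ne_zero_iff _ (starRingEnd ℂ).injective]
  exact h

variable {T : Type u} [Group T] [Fintype T] {S : Type v} [Group S] {p : ℕ}
  (φ : S →* MulAut T) (N : Subgroup T) [N.Normal] [Fintype N]

/-- An invariant character of a normal Sylow subgroup has an invariant extension. -/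
theorem relFix_exists_invariant_extension (hp : p.Prime) (hS : IsPGroup p S) (hN : IsPGroup p N)
    (hidx : ¬ p ∣ N.index) (hstab : ∀ s, ∀ n ∈ N, φ s n ∈ N) (θ : IrrCharacter N)
    (hT : ∀ (g : T) (n : N), (θ : N → ℂ) (MulAut.conjNormal g n) = (θ : N → ℂ) n)
    (hθS : ∀ s (n : N), (θ : N → ℂ) ⟨φ s n, hstab s n n.2⟩ = (θ : N → ℂ) n) :
    ∃ η : IrrCharacter T, (∀ n : N, (η : T → ℂ) n = (θ : N → ℂ) n) ∧
      IsActInvariant φ (η : T → ℂ) := by
  classical
  haveI := Fact.mk hp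
  obtain ⟨a, ha⟩ := IsPGroup.iff_card.mp hN
  set d := deg (θ : N → ℂ) with hd
  have hd1 : (θ : N → ℂ) 1 = d := char_one_eq_deg (irr_isCharacter θ.2)
  have hcopN : N.index.Coprime (Nat.card N) := by
    rw [ha]
    exact Nat.Coprime.pow_right a (Nat.Coprime.symm (hp.coprime_iff_not_dvd.mpr hidx))
  have hcop : N.index.Coprime d := hcopN.coprime_dvd_right (deg_dvd_card θ.2)
  obtain ⟨k, σ, hσ⟩ := irr_isCharacter θ.2
  have hμcop : N.index.Coprime (orderOf (detHom σ)) := hcopN.coprime_dvd_right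
    (orderOf_dvd_of_pow_eq_one (MonoidHom.ext fun n => by
      rw [MonoidHom.pow_apply, ← map_pow, pow_card_eq_one', map_one, MonoidHom.one_apply]))
  obtain ⟨μ, hμ, -⟩ := exists_linear_extension_coprime N (detHom σ) (fun g n => Units.ext (by
    have h := detChar_conj_inv N (irr_isCharacter θ.2) hT g n
    rwa [detChar_eq_hom σ hσ] at h)) hμcop
  obtain ⟨η₁, hη₁, hres₁⟩ := exists_extension_of_det_extension N θ.2 hT d hd1 hcop μ
    (fun n => by rw [hμ, detChar_eq_hom σ hσ])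
  -- the linear characters of the quotient permute the extensions simply transitively
  let L : Subgroup (T →* ℂˣ) :=
    { carrier := {β | ∀ n : N, β (n : T) = 1}
      one_mem' := fun n => rfl
      mul_mem' := fun {b c} hb hc n => by rw [MonoidHom.mul_apply, hb n, hc n, one_mul]
      inv_mem' := fun {b} hb n => by rw [MonoidHom.inv_apply, hb n, inv_one] }
  haveI := finite_hom_units T
  have hLp : ¬ p ∣ Nat.card L := fun hdvd => by
    obtain ⟨β, hβ⟩ := exists_prime_orderOf_dvd_card' p hdvd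
    have h1 : β ^ N.index = 1 := Subtype.ext (hom_pow_index N β.2)
    exact hidx (hβ ▸ orderOf_dvd_of_pow_eq_one h1)
  have hbij := gallagher_one N θ (irr_isCharacter hη₁) hres₁
  let E := {η : IrrCharacter T // ∀ n : N, (η : T → ℂ) n = (θ : N → ℂ) n}
  have hlin : ∀ β : L, IsIrrCharacter T (fun g => ((β : T →* ℂˣ) g : ℂ)) := fun β => by
    simpa using isIrr_linear_mul (isIrrCharacter_one (G := T)) (β : T →* ℂˣ)
  let f : L → E := fun β => ⟨⟨fun g => ((β : T →* ℂˣ) g : ℂ) * η₁ g, isIrr_linear_mul hη₁ _⟩,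
    fun n => by
      show ((β : T →* ℂˣ) (n : T) : ℂ) * η₁ n = (θ : N → ℂ) n
      rw [β.2 n, Units.val_one, one_mul, hres₁]⟩
  have htriv : ∀ β : L, ∀ n : N,
      ((β : T →* ℂˣ) (n : T) : ℂ) = ((β : T →* ℂˣ) 1 : ℂ) := fun β n => by
    rw [β.2 n, map_one]
  have hf : Function.Bijective f := by
    refine ⟨fun β β' h => ?_, fun η => ?_⟩
    · have h1 := hbij.injOn ⟨hlin β, htriv β⟩ ⟨hlin β', htriv β'⟩
        (congrArg (fun x : E => (x.1 : T → ℂ)) h)
      exact Subtype.ext (MonoidHom.ext fun g => Units.ext (congrFun h1 g))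
    · obtain ⟨β, hβN, hβ, -⟩ := exists_twist N (irr_isCharacter hη₁) (irr_isCharacter η.1.2) θ.2 d
        hd1 hres₁ η.2
      exact ⟨⟨β, hβN⟩, Subtype.ext (Subtype.ext hβ.symm)⟩
  letI := irrAction φ
  have hE : ∀ (s : S) (η : E) (n : N), ((s • η.1 : IrrCharacter T) : T → ℂ) n = (θ : N → ℂ) n := by
    intro s η n
    show (η.1 : T → ℂ) (φ s⁻¹ n) = _
    rw [← hθS s⁻¹ n]
    exact η.2 ⟨φ s⁻¹ n, hstab _ _ n.2⟩
  letI : MulAction S E :=
    { smul := fun s η => ⟨s • η.1, hE s η⟩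
      one_smul := fun η => Subtype.ext (one_smul S η.1)
      mul_smul := fun s t η => Subtype.ext (mul_smul s t η.1) }
  obtain ⟨η, hη⟩ := hS.nonempty_fixed_point_of_prime_not_dvd_card E (by
    rw [← Nat.card_congr (Equiv.ofBijective f hf)]; exact hLp)
  refine ⟨η.1, η.2, fun s g => ?_⟩
  have := congrArg (fun x : E => (x.1 : T → ℂ) g) (hη s⁻¹)
  exact (congrArg (fun x => (η.1 : T → ℂ) (φ x g)) (inv_inv s)).symm.trans this

variable {D : Type u} [Group D] [Fintype D] (ι : D →* T)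

/-- The multiplicities of a correspondence: congruent to `±1` at one place, divisible by `p` at
the others. -/
def IsUnitMult (p : ℕ) (z : ℂ) (b : Prop) : Prop :=
  ∃ m : ℕ, z = m ∧ (b → (m : ZMod p) = 1 ∨ (m : ZMod p) = -1) ∧ (¬ b → p ∣ m)

/-- A multiplicity prime to `p`. -/
def IsPrimeMult (p : ℕ) (z : ℂ) : Prop := ∃ m : ℕ, z = m ∧ ¬ p ∣ m

theorem IsUnitMult.iff {z : ℂ} {b : Prop} (hp : p.Prime) (h : IsUnitMult p z b) :
    IsPrimeMult p z ↔ b := by
  haveI := Fact.mk hp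
  obtain ⟨m, rfl, h1, h2⟩ := h
  constructor
  · rintro ⟨m', hm', hnd⟩
    by_contra hb
    rw [Nat.cast_inj] at hm'
    exact hnd (hm' ▸ h2 hb)
  · intro hb
    refine ⟨m, rfl, fun hd => ?_⟩
    rw [← ZMod.natCast_eq_zero_iff] at hd
    rcases h1 hb with h | h <;> rw [hd] at h
    · exact zero_ne_one h
    · exact one_ne_zero (neg_eq_zero.1 h.symm)

theorem zmod_of_modEq {m : ℕ} (h : (m : ℤ) ≡ 1 [ZMOD p] ∨ (m : ℤ) ≡ -1 [ZMOD p]) :
    (m : ZMod p) = 1 ∨ (m : ZMod p) = -1 := by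
  rcases h with h | h
  · left; simpa using (ZMod.intCast_eq_intCast_iff _ _ p).2 h
  · right; simpa using (ZMod.intCast_eq_intCast_iff _ _ p).2 h

/-- The correspondence on the quotient by a normal Sylow subgroup. -/
theorem relFix_trivial (hp : p.Prime) (hS : IsPGroup p S) (hidx : ¬ p ∣ N.index)
    (hstab : ∀ s, ∀ n ∈ N, φ s n ∈ N)
    (hD : ∀ t, t ∈ ι.range ↔ ∀ s, φ s t * t⁻¹ ∈ N) :
    (∀ β : IrrCharacter T, (∀ n : N, (β : T → ℂ) n = (β : T → ℂ) 1) →
      IsActInvariant φ (β : T → ℂ) →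
      ∃ γ₀ : IrrCharacter D, (∀ d, ι d ∈ N → (γ₀ : D → ℂ) d = (γ₀ : D → ℂ) 1) ∧
        ∀ γ : IrrCharacter D, (∀ d, ι d ∈ N → (γ : D → ℂ) d = (γ : D → ℂ) 1) →
          IsUnitMult p (classInner (fun d => (β : T → ℂ) (ι d)) (γ : D → ℂ)) (γ = γ₀)) ∧
    (∀ γ : IrrCharacter D, (∀ d, ι d ∈ N → (γ : D → ℂ) d = (γ : D → ℂ) 1) →
      ∃ β : IrrCharacter T, (∀ n : N, (β : T → ℂ) n = (β : T → ℂ) 1) ∧
        IsActInvariant φ (β : T → ℂ) ∧
        IsPrimeMult p (classInner (fun d => (β : T → ℂ) (ι d)) (γ : D → ℂ)) ∧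
        ∀ β' : IrrCharacter T, (∀ n : N, (β' : T → ℂ) n = (β' : T → ℂ) 1) →
          IsActInvariant φ (β' : T → ℂ) →
          IsPrimeMult p (classInner (fun d => (β' : T → ℂ) (ι d)) (γ : D → ℂ)) → β' = β) ∧
    (∀ β : IrrCharacter T, (∀ n : N, (β : T → ℂ) n = (β : T → ℂ) 1) → ∀ γ : IrrCharacter D,
      classInner (fun d => (β : T → ℂ) (ι d)) (γ : D → ℂ) ≠ 0 →
        ∀ d, ι d ∈ N → (γ : D → ℂ) d = (γ : D → ℂ) 1) := by
  classical
  haveI := Fact.mk hp
  obtain ⟨M, hM⟩ := exists_pModular hp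
  haveI := Fintype.ofFinite (T ⧸ N)
  have hmap : ∀ s, N.map (φ s : T →* T) = N := fun s => le_antisymm
    (by rintro _ ⟨n, hn, rfl⟩; exact hstab s n hn)
    (fun n hn => ⟨φ s⁻¹ n, hstab _ n hn, show φ s (φ s⁻¹ n) = n by
      rw [← MulAut.mul_apply, ← map_mul, mul_inv_cancel, map_one]; rfl⟩)
  let φq : S →* MulAut (T ⧸ N) :=
    { toFun := fun s => QuotientGroup.congr N N (φ s) (hmap s)
      map_one' := MulEquiv.ext fun q => by
        obtain ⟨t, rfl⟩ := QuotientGroup.mk_surjective q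
        show ((φ 1 t : T) : T ⧸ N) = (t : T ⧸ N)
        rw [map_one]; rfl
      map_mul' := fun s t => MulEquiv.ext fun q => by
        obtain ⟨x, rfl⟩ := QuotientGroup.mk_surjective q
        show ((φ (s * t) x : T) : T ⧸ N) = ((φ s (φ t x) : T) : T ⧸ N)
        rw [map_mul]; rfl }
  let π : D →* T ⧸ N := (QuotientGroup.mk' N).comp ι
  haveI : Fintype π.range := Fintype.ofFinite _
  let f : D →* π.range := π.rangeRestrict
  have hf : Function.Surjective f := π.rangeRestrict_surjective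
  have hfker : ∀ d, f d = 1 ↔ ι d ∈ N := fun d => by
    rw [← QuotientGroup.eq_one_iff (N := N), Subtype.ext_iff]
    rfl
  have hfix : CoprimeFix M p φq π.range.subtype :=
    { pmod := hM
      pgroup := hS
      coprime := by rw [← Subgroup.index_eq_card]; exact hidx
      inj := π.range.subtype_injective
      range := fun q => by
        obtain ⟨t, rfl⟩ := QuotientGroup.mk_surjective q
        have hdiv : ∀ s, φq s (t : T ⧸ N) = (t : T ⧸ N) ↔ φ s t * t⁻¹ ∈ N := fun s => by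
          show ((φ s t : T) : T ⧸ N) = (t : T ⧸ N) ↔ _
          rw [QuotientGroup.eq_iff_div_mem, div_eq_mul_inv]
        simp only [hdiv]
        rw [Subgroup.range_subtype]
        constructor
        · rintro ⟨d, hd⟩ s
          have h1 : φq s (ι d : T ⧸ N) = (ι d : T ⧸ N) := by
            show ((φ s (ι d) : T) : T ⧸ N) = (ι d : T ⧸ N)
            rw [QuotientGroup.eq_iff_div_mem, div_eq_mul_inv]
            exact (hD _).1 ⟨d, rfl⟩ s
          rw [show (ι d : T ⧸ N) = (t : T ⧸ N) from hd] at h1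
          exact (hdiv s).1 h1
        · intro h
          obtain ⟨d, hd⟩ := (hD t).2 h
          exact ⟨d, congrArg (fun x : T => (x : T ⧸ N)) hd⟩ }
  -- deflation on both sides
  have hdefT : ∀ β : IrrCharacter T, (∀ n : N, (β : T → ℂ) n = (β : T → ℂ) 1) →
      ∃ b : IrrCharacter (T ⧸ N), ∀ t : T, (b : T ⧸ N → ℂ) t = (β : T → ℂ) t := fun β h =>
    exists_deflate N β.2 fun n hn => h ⟨n, hn⟩
  have hdefD : ∀ γ : IrrCharacter D, (∀ d, ι d ∈ N → (γ : D → ℂ) d = (γ : D → ℂ) 1) →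
      ∃ c : IrrCharacter π.range, ∀ d, (c : π.range → ℂ) (f d) = (γ : D → ℂ) d := fun γ h =>
    exists_deflate_surjective f hf γ.2 fun d hd => h d ((hfker d).1 hd)
  have hinn : ∀ (β : IrrCharacter T) (b : IrrCharacter (T ⧸ N))
      (_ : ∀ t : T, (b : T ⧸ N → ℂ) t = (β : T → ℂ) t) (γ : IrrCharacter D)
      (c : IrrCharacter π.range) (_ : ∀ d, (c : π.range → ℂ) (f d) = (γ : D → ℂ) d),
      classInner (fun d => (β : T → ℂ) (ι d)) (γ : D → ℂ) =
        classInner ((b : T ⧸ N → ℂ) ∘ π.range.subtype) (c : π.range → ℂ) := by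
    intro β b hb γ c hc
    rw [← (classInner_comp_surjective f hf
      (isCharacter_comp π.range.subtype (irr_isCharacter b.2))).1 c]
    congr 1
    · funext d; exact (hb (ι d)).symm
    · funext d; exact (hc d).symm
  have hbinv : ∀ (β : IrrCharacter T) (b : IrrCharacter (T ⧸ N))
      (_ : ∀ t : T, (b : T ⧸ N → ℂ) t = (β : T → ℂ) t),
      IsActInvariant φ (β : T → ℂ) ↔ ∀ s q, (b : T ⧸ N → ℂ) (φq s q) = (b : T ⧸ N → ℂ) q := by
    intro β b hb
    constructor
    · intro h s q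
      obtain ⟨t, rfl⟩ := QuotientGroup.mk_surjective q
      show (b : T ⧸ N → ℂ) ((φ s t : T) : T ⧸ N) = _
      rw [hb, hb, h]
    · intro h s t
      rw [← hb, ← hb]
      exact h s t
  refine ⟨fun β hβ hβi => ?_, fun γ hγ => ?_, fun β hβ γ hne d hd => ?_⟩
  · obtain ⟨b, hb⟩ := hdefT β hβ
    have hbi := (hbinv β b hb).1 hβi
    obtain ⟨c₀, hc₀⟩ := hfix.corr_surjective hbi
    refine ⟨⟨fun d => (c₀ : π.range → ℂ) (f d), isIrr_comp_surjective f hf c₀.2⟩, fun d hd => ?_,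
      fun γ hγ => ?_⟩
    · show (c₀ : π.range → ℂ) (f d) = (c₀ : π.range → ℂ) (f 1)
      rw [(hfker d).2 hd, map_one]
    · obtain ⟨c, hc⟩ := hdefD γ hγ
      have heq : γ = ⟨fun d => (c₀ : π.range → ℂ) (f d), isIrr_comp_surjective f hf c₀.2⟩ ↔
          hfix.corr c = b := by
        rw [← hc₀, hfix.corr_injective.eq_iff]
        constructor
        · intro h
          refine Subtype.ext (funext fun x => ?_)
          obtain ⟨d, rfl⟩ := hf x
          rw [hc, h]
        · rintro rfl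
          exact Subtype.ext (funext fun d => (hc d).symm)
      obtain ⟨m, hm⟩ := classInner_natCast
        (isCharacter_comp π.range.subtype (irr_isCharacter b.2)) (irr_isCharacter c.2)
      refine ⟨m, (hinn β b hb γ c hc).trans hm, fun he => zmod_of_modEq ?_, fun he => ?_⟩
      · exact (hfix.multiplicity hbi c hm).1 (heq.1 he)
      · exact (hfix.multiplicity hbi c hm).2 (fun h => he (heq.2 h))
  · obtain ⟨c, hc⟩ := hdefD γ hγ
    let β : IrrCharacter T := ⟨fun t : T => (hfix.corr c : T ⧸ N → ℂ) (t : T ⧸ N),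
      isIrr_inflate N (hfix.corr c).2⟩
    refine ⟨β, fun n => ?_, (hbinv β _ fun t => rfl).2 (hfix.corr_inv c), ?_,
      fun β' hβ' hβ'i hm' => ?_⟩
    · show (hfix.corr c : T ⧸ N → ℂ) ((n : T) : T ⧸ N) = _
      rw [(QuotientGroup.eq_one_iff (n : T)).2 n.2]
      rfl
    · obtain ⟨m, hm⟩ := classInner_natCast
        (isCharacter_comp π.range.subtype (irr_isCharacter (hfix.corr c).2)) (irr_isCharacter c.2)
      have hu : IsUnitMult p (classInner (fun d => (β : T → ℂ) (ι d)) (γ : D → ℂ))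
          (hfix.corr c = hfix.corr c) :=
        ⟨m, (hinn β _ (fun t => rfl) γ c hc).trans hm,
          fun h => zmod_of_modEq ((hfix.multiplicity (hfix.corr_inv c) c hm).1 h),
          (hfix.multiplicity (hfix.corr_inv c) c hm).2⟩
      exact (hu.iff hp).2 rfl
    · obtain ⟨b, hb⟩ := hdefT β' hβ'
      obtain ⟨m, hm, hnd⟩ := hm'
      rw [hinn β' b hb γ c hc] at hm
      have h1 : hfix.corr c = b := by
        by_contra hne
        exact hnd ((hfix.multiplicity ((hbinv β' b hb).1 hβ'i) c hm).2 hne)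
      refine Subtype.ext (funext fun t => ?_)
      rw [← hb, ← h1]
  · obtain ⟨b, hb⟩ := hdefT β hβ
    refine (classInner_comp_surjective f hf
      (isCharacter_comp π.range.subtype (irr_isCharacter b.2))).2 γ ?_ d ((hfker d).2 hd)
    refine fun h0 => hne (Eq.trans ?_ h0)
    congr 1
    funext d'
    exact (hb (ι d')).symm

/-- The correspondence over an invariant character of a normal Sylow subgroup. -/
theorem relFix_layer (hp : p.Prime) (hS : IsPGroup p S) (hN : IsPGroup p N) (hidx : ¬ p ∣ N.index)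
    (hstab : ∀ s, ∀ n ∈ N, φ s n ∈ N) (hι : Function.Injective ι)
    (hD : ∀ t, t ∈ ι.range ↔ ∀ s, φ s t * t⁻¹ ∈ N) (j : N →* D) (hj : ∀ n, ι (j n) = n)
    (θ : IrrCharacter N)
    (hT : ∀ (g : T) (n : N), (θ : N → ℂ) (MulAut.conjNormal g n) = (θ : N → ℂ) n)
    (hθS : ∀ s (n : N), (θ : N → ℂ) ⟨φ s n, hstab s n n.2⟩ = (θ : N → ℂ) n) :
    (∀ ψ : IrrCharacter T, classInner (fun n : N => (ψ : T → ℂ) n) (θ : N → ℂ) ≠ 0 →
      IsActInvariant φ (ψ : T → ℂ) →
      ∃ η₀ : IrrCharacter D, classInner (fun n => (η₀ : D → ℂ) (j n)) (θ : N → ℂ) ≠ 0 ∧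
        ∀ η : IrrCharacter D, classInner (fun n => (η : D → ℂ) (j n)) (θ : N → ℂ) ≠ 0 →
          IsUnitMult p (classInner (fun d => (ψ : T → ℂ) (ι d)) (η : D → ℂ)) (η = η₀)) ∧
    (∀ η : IrrCharacter D, classInner (fun n => (η : D → ℂ) (j n)) (θ : N → ℂ) ≠ 0 →
      ∃ ψ : IrrCharacter T, classInner (fun n : N => (ψ : T → ℂ) n) (θ : N → ℂ) ≠ 0 ∧
        IsActInvariant φ (ψ : T → ℂ) ∧
        IsPrimeMult p (classInner (fun d => (ψ : T → ℂ) (ι d)) (η : D → ℂ)) ∧
        ∀ ψ' : IrrCharacter T, classInner (fun n : N => (ψ' : T → ℂ) n) (θ : N → ℂ) ≠ 0 →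
          IsActInvariant φ (ψ' : T → ℂ) →
          IsPrimeMult p (classInner (fun d => (ψ' : T → ℂ) (ι d)) (η : D → ℂ)) → ψ' = ψ) := by
  classical
  obtain ⟨ext, hext, hexti⟩ := relFix_exists_invariant_extension φ N hp hS hN hidx hstab θ hT hθS
  obtain ⟨hA, hB, hC⟩ := relFix_trivial φ N ι hp hS hidx hstab hD
  have hGT := gallagher_one N θ (irr_isCharacter ext.2) hext
  -- the copy of `N` inside `D`
  let ND : Subgroup D := N.comap ι
  haveI : ND.Normal := inferInstance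
  haveI : Fintype ND := Fintype.ofFinite _
  let e : ND ≃* N :=
    { toFun := fun d => ⟨ι d, d.2⟩
      invFun := fun n => ⟨j n, show ι (j n) ∈ N by rw [hj]; exact n.2⟩
      left_inv := fun d => Subtype.ext (hι (hj _))
      right_inv := fun n => Subtype.ext (hj n)
      map_mul' := fun a b => Subtype.ext (map_mul ι _ _) }
  let θD : IrrCharacter ND := ⟨fun d => (θ : N → ℂ) (e d), isIrrCharacter_comp_equiv e θ.2⟩
  have hextD : ∀ d : ND, (fun x => (ext : T → ℂ) (ι x)) d = (θD : ND → ℂ) d := fun d => hext (e d)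
  have hover : ∀ η : D → ℂ, classInner (fun d : ND => η d) (θD : ND → ℂ) =
      classInner (fun n => η (j n)) (θ : N → ℂ) := fun η => by
    rw [← classInner_comp_mulEquiv e (fun n => η (j n)) (θ : N → ℂ)]
    congr 1
    funext d
    exact congrArg η (hι (hj (e d))).symm
  have hcD : IsCharacter D (fun d => (ext : T → ℂ) (ι d)) :=
    isCharacter_comp ι (irr_isCharacter ext.2)
  have hGD := gallagher_one ND θD hcD hextD
  -- multiplicities agree
  have hmul : ∀ β : IrrCharacter T, (∀ n : N, (β : T → ℂ) n = (β : T → ℂ) 1) →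
      ∀ γ : IrrCharacter D, (∀ d, ι d ∈ N → (γ : D → ℂ) d = (γ : D → ℂ) 1) →
      classInner (fun d => ((β : T → ℂ) * (ext : T → ℂ)) (ι d))
        ((γ : D → ℂ) * fun d => (ext : T → ℂ) (ι d)) =
      classInner (fun d => (β : T → ℂ) (ι d)) (γ : D → ℂ) := by
    intro β hβ γ hγ
    obtain ⟨m, hm⟩ := exists_decomposition (isCharacter_comp ι (irr_isCharacter β.2))
    have hγ' : ∀ n : ND, (γ : D → ℂ) n = (γ : D → ℂ) 1 := fun n => hγ n n.2
    have hval : (fun d => ((β : T → ℂ) * (ext : T → ℂ)) (ι d)) =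
        ∑ δ : IrrCharacter D, (m δ : ℂ) • ((δ : D → ℂ) * fun d => (ext : T → ℂ) (ι d)) := by
      funext d
      have hd := congrFun hm d
      simp only [Function.comp_apply, Finset.sum_apply, Pi.smul_apply, nsmul_eq_mul] at hd
      simp only [Finset.sum_apply, Pi.smul_apply, Pi.mul_apply, smul_eq_mul, hd, Finset.sum_mul]
      exact Finset.sum_congr rfl fun δ _ => mul_assoc _ _ _
    rw [hval, classInner_sum_left, show classInner (fun d => (β : T → ℂ) (ι d)) (γ : D → ℂ) = m γ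
      from decomposition_coeff m hm γ]
    rw [Finset.sum_eq_single γ]
    · rw [classInner_smul_left, irr_self (hGD.mapsTo ⟨γ.2, hγ'⟩).1, mul_one]
    · intro δ _ hδ
      rw [classInner_smul_left]
      by_cases h0 : m δ = 0
      · rw [h0, Nat.cast_zero, zero_mul]
      have hδ' : ∀ n : ND, (δ : D → ℂ) n = (δ : D → ℂ) 1 := fun n => hC β hβ δ (by
        rw [show classInner (fun d => (β : T → ℂ) (ι d)) (δ : D → ℂ) = m δ
          from decomposition_coeff m hm δ]
        exact_mod_cast h0) n n.2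
      rw [irr_orth (hGD.mapsTo ⟨δ.2, hδ'⟩).1 (hGD.mapsTo ⟨γ.2, hγ'⟩).1, if_neg, mul_zero]
      exact fun h => hδ (Subtype.ext (hGD.injOn ⟨δ.2, hδ'⟩ ⟨γ.2, hγ'⟩ h))
    · simp
  have hinvT : ∀ β : IrrCharacter T, (∀ n : N, (β : T → ℂ) n = (β : T → ℂ) 1) →
      IsActInvariant φ ((β : T → ℂ) * (ext : T → ℂ)) → IsActInvariant φ (β : T → ℂ) := by
    intro β hβ h s t
    have hirr : IsIrrCharacter T (fun x => (β : T → ℂ) (φ s x)) :=
      isIrrCharacter_comp_equiv (φ s) β.2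
    have htriv : ∀ n : N, (fun x => (β : T → ℂ) (φ s x)) n = (fun x => (β : T → ℂ) (φ s x)) 1 :=
      fun n => by
        show (β : T → ℂ) (φ s n) = (β : T → ℂ) (φ s 1)
        rw [map_one]
        exact hβ ⟨φ s n, hstab s n n.2⟩
    refine congrFun (hGT.injOn ⟨hirr, htriv⟩ ⟨β.2, hβ⟩ (funext fun x => ?_)) t
    have := h s x
    simp only [Pi.mul_apply, hexti s x] at this ⊢
    exact this
  refine ⟨fun ψ hψ hψi => ?_, fun η hη => ?_⟩
  · obtain ⟨β, ⟨hβi, hβ⟩, he⟩ := hGT.surjOn (show (ψ : T → ℂ) ∈ {ψ : T → ℂ | IsIrrCharacter T ψ ∧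
      classInner (fun n : N => ψ n) (θ : N → ℂ) ≠ 0} from ⟨ψ.2, hψ⟩)
    replace he : (ψ : T → ℂ) = β * (ext : T → ℂ) := he.symm
    obtain ⟨γ₀, hγ₀, hu⟩ := hA ⟨β, hβi⟩ hβ (hinvT ⟨β, hβi⟩ hβ (by rw [← he]; exact hψi))
    have hmem := hGD.mapsTo ⟨γ₀.2, fun n : ND => hγ₀ n n.2⟩
    refine ⟨⟨_, hmem.1⟩, (hover _).symm.trans_ne hmem.2, fun η hη => ?_⟩
    obtain ⟨γ, ⟨hγi, hγ⟩, heD⟩ := hGD.surjOn
      (show (η : D → ℂ) ∈ {χ : D → ℂ | IsIrrCharacter D χ ∧
        classInner (fun d : ND => χ d) (θD : ND → ℂ) ≠ 0} from ⟨η.2, (hover _).trans_ne hη⟩)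
    have hγN : ∀ d, ι d ∈ N → γ d = γ 1 := fun d hd => hγ ⟨d, hd⟩
    obtain ⟨m, hm, h1, h2⟩ := hu ⟨γ, hγi⟩ hγN
    have hiff : (η = ⟨_, hmem.1⟩) ↔ (⟨γ, hγi⟩ : IrrCharacter D) = γ₀ := by
      constructor
      · intro h
        exact Subtype.ext (hGD.injOn ⟨hγi, hγ⟩ ⟨γ₀.2, fun n : ND => hγ₀ n n.2⟩
          (heD.trans (congrArg Subtype.val h)))
      · intro h
        refine Subtype.ext (heD.symm.trans ?_)
        subst h
        rfl
    refine ⟨m, ?_, fun h => h1 (hiff.1 h), fun h => h2 (fun h' => h (hiff.2 h'))⟩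
    rw [← hm, ← hmul ⟨β, hβi⟩ hβ ⟨γ, hγi⟩ hγN, ← heD, he]
  · obtain ⟨γ, ⟨hγi, hγ⟩, heD⟩ := hGD.surjOn
      (show (η : D → ℂ) ∈ {χ : D → ℂ | IsIrrCharacter D χ ∧
        classInner (fun d : ND => χ d) (θD : ND → ℂ) ≠ 0} from ⟨η.2, (hover _).trans_ne hη⟩)
    have hγN : ∀ d, ι d ∈ N → γ d = γ 1 := fun d hd => hγ ⟨d, hd⟩
    obtain ⟨β, hβ, hβi, hm, huniq⟩ := hB ⟨γ, hγi⟩ hγN
    have hmem := hGT.mapsTo ⟨β.2, hβ⟩
    refine ⟨⟨_, hmem.1⟩, hmem.2, fun s t => ?_, ?_, fun ψ' hψ' hψ'i hm' => ?_⟩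
    · simp only [Pi.mul_apply, hβi s t, hexti s t]
    · rw [← heD]
      rwa [← hmul β hβ ⟨γ, hγi⟩ hγN] at hm
    · obtain ⟨β', ⟨hβ'irr, hβ'⟩, he⟩ := hGT.surjOn (show (ψ' : T → ℂ) ∈
        {ψ : T → ℂ | IsIrrCharacter T ψ ∧ classInner (fun n : N => ψ n) (θ : N → ℂ) ≠ 0} from
        ⟨ψ'.2, hψ'⟩)
      replace he : (ψ' : T → ℂ) = β' * (ext : T → ℂ) := he.symm
      refine Subtype.ext ?_
      rw [← heD, he] at hm'
      have := huniq ⟨β', hβ'irr⟩ hβ' (hinvT ⟨β', hβ'irr⟩ hβ' (by rw [← he]; exact hψ'i))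
        (by rw [← hmul ⟨β', hβ'irr⟩ hβ' ⟨γ, hγi⟩ hγN]; exact hm')
      show (ψ' : T → ℂ) = (β : T → ℂ) * (ext : T → ℂ)
      rw [he, ← this]

end Cfsg.Agent.Char
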