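import Cfsg.Agent.Lib.Char.DegreeDvd
import Cfsg.Agent.Lib.Char.CliffordInd

open scoped ComplexConjugate
open Cfsg

set_option autoImplicit false
set_option linter.style.haveILetI false

namespace Cfsg.Agent.Char

variable {G : Type*} [Group G] [Fintype G]

/-- A character containing an irreducible character of the same degree is equal to it. -/
theorem eq_of_inner_ne_zero_of_deg {F : G → ℂ} (hF : IsCharacter G F) (χ : IrrCharacter G)
    (hne : classInner F (χ : G → ℂ) ≠ 0) (h1 : F 1 = (χ : G → ℂ) 1) : F = (χ : G → ℂ) := by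
  classical
  obtain ⟨m, hm⟩ := exists_decomposition hF
  rw [decomposition_coeff m hm χ] at hne
  choose d hd using fun ψ : IrrCharacter G => charOne_eq_natCast (irr_isCharacter ψ.2)
  have hdpos : ∀ ψ, 0 < d ψ := fun ψ => Nat.pos_of_ne_zero fun h0 =>
    irr_one_ne_zero ψ.2 (by rw [hd, h0, Nat.cast_zero])
  have hsum : d χ = ∑ ψ, m ψ * d ψ := by
    have h2 := congrFun hm 1
    rw [h1, Finset.sum_apply] at h2
    simp only [Pi.smul_apply, hd, nsmul_eq_mul] at h2
    exact_mod_cast h2
  rw [← Finset.add_sum_erase _ _ (Finset.mem_univ χ)] at hsum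
  have hm1 : 1 ≤ m χ := Nat.one_le_iff_ne_zero.2 (by exact_mod_cast hne)
  have hge := Nat.le_mul_of_pos_left (d χ) hm1
  have hz : ∑ ψ ∈ Finset.univ.erase χ, m ψ * d ψ = 0 := by omega
  have hmχ : m χ = 1 := Nat.eq_of_mul_eq_mul_right (hdpos χ) (by omega)
  rw [hm, Finset.sum_eq_single χ (fun ψ _ hψ => ?_) (fun h => absurd (Finset.mem_univ χ) h), hmχ, one_smul]
  have h0 := (Finset.sum_eq_zero_iff).1 hz ψ (Finset.mem_erase.2 ⟨hψ, Finset.mem_univ _⟩)
  rw [(Nat.mul_eq_zero.1 h0).resolve_right (hdpos ψ).ne', zero_smul]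

/-- The Clifford correspondent over an abelian normal subgroup. -/
theorem exists_clifford_correspondent {χ : G → ℂ} (h : IsIrrCharacter G χ) (A : Subgroup G)
    [hA : A.Normal] (hab : ∀ a b : A, a * b = b * a) :
    ∃ (T : Subgroup G) (ψ : T → ℂ), A ≤ T ∧ IsIrrCharacter T ψ ∧ χ = indFun T ψ ∧
      (T = ⊤ → ∀ a : A, ‖χ a‖ = ‖χ 1‖) := by
  classical
  haveI := Fintype.ofFinite A
  set χ₀ : IrrCharacter G := ⟨χ, h⟩ with hχ₀
  have hχc := irr_isCharacter h
  have hlin : ∀ φ : IrrCharacter A, (φ : A → ℂ) 1 = 1 := forall_linear_iff_comm.1 hab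
  obtain ⟨m, hm⟩ := exists_decomposition (isCharacter_comp A.subtype hχc)
  obtain ⟨θ, hθ⟩ : ∃ θ : IrrCharacter A, m θ ≠ 0 := by
    by_contra hcon
    simp only [not_exists, not_not] at hcon
    apply irr_one_ne_zero h
    have := congrFun hm 1
    simpa [hcon] using this
  have hcons : classInner (fun a : A => χ a) (θ : A → ℂ) ≠ 0 := by
    rw [show (fun a : A => χ a) = χ ∘ A.subtype from rfl, decomposition_coeff m hm θ]
    exact_mod_cast hθ
  -- the inertia group
  let T : Subgroup G :=
    { carrier := {g | irrComp (MulAut.conjNormal g) θ = θ}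
      one_mem' := Subtype.ext (funext fun a => by rw [irrComp_apply, map_one]; rfl)
      mul_mem' := fun {a b} ha hb => Subtype.ext (funext fun x => by
        have ha' := congrFun (congrArg Subtype.val ha) (MulAut.conjNormal b x)
        have hb' := congrFun (congrArg Subtype.val hb) x
        rw [irrComp_apply] at ha' hb'
        rw [irrComp_apply, map_mul, MulAut.mul_apply, ha', hb'])
      inv_mem' := fun {a} ha => Subtype.ext (funext fun x => by
        have ha' := congrFun (congrArg Subtype.val ha) (MulAut.conjNormal a⁻¹ x)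
        rw [irrComp_apply] at ha'
        rw [irrComp_apply, ← ha']
        congr 1
        simp) }
  haveI := Fintype.ofFinite T
  have hAT : A ≤ T := fun a ha => Subtype.ext (funext fun x => by
    rw [irrComp_apply]
    refine congrArg (θ : A → ℂ) (Subtype.ext ?_)
    have := congrArg Subtype.val (hab ⟨a, ha⟩ x)
    rw [MulAut.conjNormal_apply]
    exact (mul_inv_eq_iff_eq_mul.2 this))
  -- a constituent of the restriction to the inertia group lying over `θ`
  obtain ⟨mT, hmT⟩ := exists_decomposition (isCharacter_comp T.subtype hχc)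
  let inc : A →* T := Subgroup.inclusion hAT
  have hres : (fun a : A => χ a) = ∑ ψ : IrrCharacter T, mT ψ • ((ψ : T → ℂ) ∘ inc) := by
    funext a
    have := congrFun hmT (inc a)
    simp only [Finset.sum_apply, Pi.smul_apply] at this ⊢
    exact this
  obtain ⟨ψ, hψm, hψθ⟩ : ∃ ψ : IrrCharacter T, mT ψ ≠ 0 ∧
      classInner ((ψ : T → ℂ) ∘ inc) (θ : A → ℂ) ≠ 0 := by
    by_contra hcon
    simp only [not_exists, not_and, not_not] at hcon
    apply hcons
    rw [hres, classInner_sum_left]
    refine Finset.sum_eq_zero fun ψ _ => ?_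
    rw [← Nat.cast_smul_eq_nsmul ℂ, classInner_smul_left]
    by_cases h0 : mT ψ = 0
    · simp [h0]
    · rw [hcon ψ h0, mul_zero]
  have hψc := irr_isCharacter ψ.2
  -- `ψ` restricts to a multiple of `θ`
  haveI hAn : (A.subgroupOf T).Normal := Subgroup.Normal.comap hA _
  haveI : Fintype (A.subgroupOf T) := Fintype.ofFinite _
  let e : A.subgroupOf T ≃* A := Subgroup.subgroupOfEquivOfLe hAT
  let θT : IrrCharacter (A.subgroupOf T) := ⟨fun x => (θ : A → ℂ) (e x), isIrrCharacter_comp_equiv e θ.2⟩
  have hinner : ∀ f : T → ℂ, classInner (fun x : A.subgroupOf T => f x) (θT : A.subgroupOf T → ℂ) =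
      classInner (f ∘ inc) (θ : A → ℂ) := by
    intro f
    simp only [classInner, Nat.card_congr e.toEquiv]
    congr 1
    exact Fintype.sum_equiv e.toEquiv _ _ fun x => rfl
  have horb : cliffOrbit (A.subgroupOf T) θT = {θT} := by
    refine Finset.eq_singleton_iff_unique_mem.2 ⟨self_mem_cliffOrbit θT, fun φ hφ => ?_⟩
    obtain ⟨t, rfl⟩ := mem_cliffOrbit.1 hφ
    apply Subtype.ext
    funext x
    rw [irrComp_apply]
    have ht := congrFun (congrArg Subtype.val t.2) (e x)
    rw [irrComp_apply] at ht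
    show (θ : A → ℂ) (e _) = (θ : A → ℂ) (e x)
    rw [← ht]
    congr 1
  have hcl := clifford_restrict ψ θT (by rw [hinner]; exact hψθ)
  rw [horb, Finset.sum_singleton, hinner] at hcl
  obtain ⟨d, hd⟩ := charOne_eq_natCast hψc
  have hψval : ∀ a : A, (ψ : T → ℂ) (inc a) = (d : ℂ) * (θ : A → ℂ) a := by
    have h1 := congrFun hcl 1
    simp only [Pi.smul_apply, smul_eq_mul, OneMemClass.coe_one, hd] at h1
    rw [show (θT : A.subgroupOf T → ℂ) 1 = 1 from by
      show (θ : A → ℂ) (e 1) = 1
      rw [map_one, hlin], mul_one] at h1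
    intro a
    have h2 := congrFun hcl (e.symm a)
    simp only [Pi.smul_apply, smul_eq_mul, ← h1] at h2
    rw [show (θT : A.subgroupOf T → ℂ) (e.symm a) = (θ : A → ℂ) a from by
      show (θ : A → ℂ) (e (e.symm a)) = _
      rw [MulEquiv.apply_symm_apply]] at h2
    exact h2
  have hψθd : classInner ((ψ : T → ℂ) ∘ inc) (θ : A → ℂ) = (d : ℂ) := by
    rw [show (ψ : T → ℂ) ∘ inc = (d : ℂ) • (θ : A → ℂ) from funext hψval, classInner_smul_left,
      irr_self θ.2, mul_one]
  -- compare multiplicities
  have hge : d ≤ m θ := by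
    have h2 : (m θ : ℂ) = ∑ φ : IrrCharacter T, (mT φ : ℂ) * classInner ((φ : T → ℂ) ∘ inc) (θ : A → ℂ) := by
      rw [← decomposition_coeff m hm θ, show χ ∘ A.subtype = (fun a : A => χ a) from rfl, hres,
        classInner_sum_left]
      simp only [← Nat.cast_smul_eq_nsmul ℂ, classInner_smul_left]
    have hnat : ∀ φ : IrrCharacter T, ∃ n : ℕ, classInner ((φ : T → ℂ) ∘ inc) (θ : A → ℂ) = n := fun φ =>
      classInner_natCast (isCharacter_comp inc (irr_isCharacter φ.2)) (irr_isCharacter θ.2)
    choose n hn using hnat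
    simp only [hn] at h2
    have h3 : m θ = ∑ φ : IrrCharacter T, mT φ * n φ := by exact_mod_cast h2
    have hnd : n ψ = d := by exact_mod_cast (hn ψ).symm.trans hψθd
    rw [h3]
    refine le_trans ?_ (Finset.single_le_sum (f := fun φ => mT φ * n φ) (fun φ _ => Nat.zero_le _)
      (Finset.mem_univ ψ))
    rw [hnd]
    exact Nat.le_mul_of_pos_left d (Nat.pos_of_ne_zero hψm)
  -- degree of `χ`
  have hclif := clifford_restrict χ₀ θ hcons
  have hchi1 := congrFun hclif 1
  simp only [hχ₀, Pi.smul_apply, smul_eq_mul, Finset.sum_apply, OneMemClass.coe_one, hlin,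
    Finset.sum_const, nsmul_eq_mul, mul_one] at hchi1
  rw [show (fun a : A => χ a) = χ ∘ A.subtype from rfl, decomposition_coeff m hm θ] at hchi1
  have horbit : (cliffOrbit A θ).card = T.index := by
    rw [Subgroup.index]
    let f : G ⧸ T → IrrCharacter A := fun q => irrComp (MulAut.conjNormal (Quotient.out q)⁻¹) θ
    have hf : Function.Injective f := by
      intro q q' e
      rw [← QuotientGroup.out_eq' q, ← QuotientGroup.out_eq' q', QuotientGroup.eq]
      apply Subtype.ext
      funext x
      rw [irrComp_apply, map_mul, MulAut.mul_apply]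
      have h1 := congrFun (congrArg Subtype.val e) (MulAut.conjNormal (Quotient.out q') x)
      simp only [f, irrComp_apply] at h1
      rw [h1]
      congr 1
      simp
    have himg : cliffOrbit A θ = (Finset.univ.map ⟨f, hf⟩ : Finset _) := by
      ext φ
      simp only [mem_cliffOrbit, Finset.mem_map, Finset.mem_univ, true_and, Function.Embedding.coeFn_mk]
      constructor
      · rintro ⟨g, rfl⟩
        refine ⟨QuotientGroup.mk g⁻¹, ?_⟩
        have hout := QuotientGroup.eq.1 (QuotientGroup.out_eq' (QuotientGroup.mk g⁻¹ : G ⧸ T))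
        apply Subtype.ext
        funext x
        set w := Quotient.out (QuotientGroup.mk g⁻¹ : G ⧸ T) with hw
        show (θ : A → ℂ) (MulAut.conjNormal w⁻¹ x) = (θ : A → ℂ) (MulAut.conjNormal g x)
        have h1 := congrFun (congrArg Subtype.val hout) (MulAut.conjNormal g x)
        rw [irrComp_apply] at h1
        rw [← h1, ← MulAut.mul_apply, ← map_mul]
        congr 2
        group
      · rintro ⟨q, rfl⟩
        exact ⟨_, rfl⟩
    rw [himg, Finset.card_map, Finset.card_univ, Nat.card_eq_fintype_card]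
  rw [horbit] at hchi1
  have hle : deg χ ≤ T.index * d := by
    have hne : classInner (indFun T (ψ : T → ℂ)) χ ≠ 0 := by
      rw [frobenius T _ (isClassFunction_character hχc), ← classInner_symm,
        show (fun t : T => χ t) = χ ∘ T.subtype from rfl, decomposition_coeff mT hmT ψ]
      simp [hψm]
    have h2 := degree_le_of_classInner_ne_zero (isCharacter_indFun T hψc) χ₀ hne
    simp only [hχ₀, indFun_one, hd, char_one_eq_deg hχc, ← Nat.cast_mul, Complex.natCast_re] at h2
    exact_mod_cast h2
  have hdeq : deg χ = T.index * d := by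
    have h2 : deg χ = m θ * T.index := by
      rw [char_one_eq_deg hχc] at hchi1
      exact_mod_cast hchi1
    refine le_antisymm hle ?_
    rw [h2, mul_comm]
    exact Nat.mul_le_mul_right _ hge
  refine ⟨T, (ψ : T → ℂ), hAT, ψ.2, ?_, ?_⟩
  · refine (eq_of_inner_ne_zero_of_deg (isCharacter_indFun T hψc) χ₀ ?_ ?_).symm
    · rw [frobenius T _ (isClassFunction_character hχc), ← classInner_symm,
        show (fun t : T => χ t) = χ ∘ T.subtype from rfl, decomposition_coeff mT hmT ψ]
      simp [hψm]
    · show indFun T (ψ : T → ℂ) 1 = χ 1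
      rw [indFun_one, hd, char_one_eq_deg hχc, hdeq]
      push_cast
      ring
  · intro hT a
    have hc : (cliffOrbit A θ).card = 1 := by rw [horbit, hT, Subgroup.index_top]
    obtain ⟨φ, hφ⟩ := Finset.card_eq_one.1 hc
    have hφθ : φ = θ := (Finset.mem_singleton.1 (hφ ▸ self_mem_cliffOrbit (N := A) θ)).symm
    rw [hφθ] at hφ
    obtain ⟨l, hl⟩ := exists_hom_of_degree_one (irr_isCharacter θ.2) (hlin θ)
    have hclif' := congrFun hclif
    rw [hφ] at hclif'
    have ha := hclif' a
    have h0 := hclif' 1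
    simp only [hχ₀, Pi.smul_apply, Finset.sum_singleton, smul_eq_mul, OneMemClass.coe_one, hlin, mul_one] at ha h0
    rw [ha, h0, norm_mul]
    have hfin : IsOfFinOrder a := isOfFinOrder_of_finite a
    obtain ⟨n, hn, hpow⟩ := hfin.exists_pow_eq_one
    have hunit : ((θ : A → ℂ) a) ^ n = 1 := by
      rw [hl, ← Units.val_pow_eq_pow_val, ← map_pow, hpow, map_one, Units.val_one]
    rw [Complex.norm_eq_one_of_pow_eq_one hunit hn.ne', mul_one]

end Cfsg.Agent.Char
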