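import Cfsg.Agent.Lib.Char.Ortho
import Mathlib

/-!
A character with irreducible restriction is irreducible, and a bound for partial inner products.
-/

set_option autoImplicit false
open scoped ComplexConjugate
open Cfsg

namespace Cfsg.Agent.Char

universe u

variable {G : Type u} [Group G] [Fintype G]

theorem isIrr_of_comp_irr {H : Type*} [Group H] [Fintype H] (f : H →* G) {χ : G → ℂ}
    (h : IsCharacter G χ) (hirr : IsIrrCharacter H (fun x => χ (f x))) : IsIrrCharacter G χ := by
  classical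
  have hc : ∀ ψ : IrrCharacter G, ∃ n : ℕ, classInner χ (ψ : G → ℂ) = n :=
    fun ψ => classInner_natCast h (irr_isCharacter ψ.2)
  choose c hc using hc
  have hd : ∀ ψ φ : IrrCharacter G, ∃ n : ℕ,
      classInner (fun x => (ψ : G → ℂ) (f x)) (fun x => (φ : G → ℂ) (f x)) = n := fun ψ φ =>
    classInner_natCast (isCharacter_comp f (irr_isCharacter ψ.2)) (isCharacter_comp f (irr_isCharacter φ.2))
  choose d hd using hd
  have hexp : ∀ g, χ g = ∑ ψ : IrrCharacter G, (c ψ : ℂ) * (ψ : G → ℂ) g := fun g => by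
    conv_lhs => rw [char_expansion h]
    simp [Finset.sum_apply, hc]
  have hres : (fun x => χ (f x)) = ∑ ψ : IrrCharacter G, (c ψ : ℂ) • (fun x => (ψ : G → ℂ) (f x)) := by
    funext x
    rw [hexp]
    simp [Finset.sum_apply]
  have h1 : ∑ ψ : IrrCharacter G, ∑ φ : IrrCharacter G, c ψ * c φ * d ψ φ = 1 := by
    have h2 := irr_self hirr
    rw [hres, classInner_sum_left] at h2
    have h3 : ((∑ ψ : IrrCharacter G, ∑ φ : IrrCharacter G, c ψ * c φ * d ψ φ : ℕ) : ℂ) = ((1 : ℕ) : ℂ) := by
      push_cast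
      rw [← h2]
      refine Finset.sum_congr rfl fun ψ _ => ?_
      rw [classInner_smul_left, classInner_sum_right, Finset.mul_sum]
      refine Finset.sum_congr rfl fun φ _ => ?_
      rw [classInner_smul_right, map_natCast, hd]
      ring
    exact_mod_cast h3
  have hdiag : ∀ ψ : IrrCharacter G, 1 ≤ d ψ ψ := by
    intro ψ
    by_contra h0
    have h0' : d ψ ψ = 0 := by omega
    have h2 := hd ψ ψ
    rw [h0', Nat.cast_zero] at h2
    have h3 := congrFun (classInner_self_eq_zero h2) 1
    simp only [map_one, Pi.zero_apply] at h3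
    exact irr_one_ne_zero ψ.2 h3
  have hle : ∑ ψ : IrrCharacter G, c ψ * c ψ ≤ 1 := by
    rw [← h1]
    refine Finset.sum_le_sum fun ψ _ => ?_
    refine le_trans ?_ (Finset.single_le_sum (f := fun φ => c ψ * c φ * d ψ φ) (fun _ _ => Nat.zero_le _)
      (Finset.mem_univ ψ))
    exact Nat.le_mul_of_pos_right _ (hdiag ψ)
  have hne : ∑ ψ : IrrCharacter G, c ψ * c ψ ≠ 0 := by
    intro h0
    rw [Finset.sum_eq_zero_iff] at h0
    have hz : ∀ ψ, c ψ = 0 := fun ψ => by simpa using h0 ψ (Finset.mem_univ ψ)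
    simp only [hz, zero_mul, Finset.sum_const_zero] at h1
    exact absurd h1 (by norm_num)
  refine isIrr_of_norm_one h ?_
  have hnorm : classInner χ χ = ((∑ ψ : IrrCharacter G, c ψ * c ψ : ℕ) : ℂ) := by
    nth_rw 1 [char_expansion h]
    rw [classInner_sum_left]
    push_cast
    refine Finset.sum_congr rfl fun ψ _ => ?_
    rw [classInner_smul_left, hc, ← classInner_symm χ (ψ : G → ℂ), hc, map_natCast]
  rw [hnorm, show ∑ ψ : IrrCharacter G, c ψ * c ψ = 1 by omega, Nat.cast_one]

/-- The sum of `a * conj b` is at most the group order for irreducible `a`, `b`. -/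
theorem re_sum_mul_conj_le {a b : G → ℂ} (ha : IsIrrCharacter G a) (hb : IsIrrCharacter G b) :
    (∑ x : G, a x * conj (b x)).re ≤ (Nat.card G : ℝ) := by
  classical
  have h := irrC_orth (⟨a, ha⟩ : IrrCharacter G) ⟨b, hb⟩
  have hG : (Nat.card G : ℂ) ≠ 0 := Nat.cast_ne_zero.2 Nat.card_pos.ne'
  have h2 : ∑ x : G, a x * conj (b x) = (Nat.card G : ℂ) * classInner a b := by
    rw [classInner, ← mul_assoc, mul_inv_cancel₀ hG, one_mul]
  rw [h2, show classInner a b = _ from h]
  split_ifs
  · simp
  · simp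

end Cfsg.Agent.Char
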