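import Cfsg.Agent.Lib.Char.TwoDegreesPrime
import Cfsg.Agent.Lib.Char.CliffordCorr
import Cfsg.Agent.Lib.Char.RestrictIrred
import Cfsg.Agent.Lib.Char.Inflate
import Cfsg.Agent.Lib.Solv.Cores

/-!
# Characters with larger degree and smaller kernel, and the Fitting length
-/

set_option autoImplicit false
open Cfsg
open scoped ComplexConjugate

namespace Cfsg.Agent.Char.BG

open TwoDeg

universe u

variable {G : Type u} [Group G] [Fintype G]

theorem mem_kerC_iff (χ : IrrCharacter G) (g : G) : g ∈ kerC χ ↔ (χ : G → ℂ) g = (χ : G → ℂ) 1 := by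
  refine ⟨fun h => ?_, mem_kerC_of_eq χ⟩
  have := h 1
  rwa [mul_one] at this

theorem kerC_invariant (χ : IrrCharacter G) (g k : G) (hk : k ∈ kerC χ) :
    (χ : G → ℂ) (g * k) = (χ : G → ℂ) g := by
  have h1 : g * k * g⁻¹ ∈ kerC χ := (kerC_normal χ).conj_mem k hk g
  have h2 := h1 g
  rwa [inv_mul_cancel_right] at h2

theorem decompose {H K : Subgroup G} [K.Normal] (h : H ⊔ K = ⊤) (g : G) : ∃ a ∈ H, ∃ k ∈ K, a * k = g := by
  have hg : g ∈ H ⊔ K := by rw [h]; exact Subgroup.mem_top g
  exact Subgroup.mem_sup_of_normal_right.1 hg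

/-- Restriction to a supplement of the kernel is irreducible. -/
theorem isIrr_restrict (χ : IrrCharacter G) (H : Subgroup G) [Fintype H] (hK : H ⊔ kerC χ = ⊤) :
    IsIrrCharacter H (fun h : H => (χ : G → ℂ) h) := by
  classical
  obtain ⟨χ', hχ'⟩ := exists_deflate (kerC χ) χ.2 fun n hn => (mem_kerC_iff χ n).1 hn
  let f : H →* G ⧸ kerC χ := (QuotientGroup.mk' (kerC χ)).comp H.subtype
  have hf : Function.Surjective f := fun q => by
    obtain ⟨g, rfl⟩ := QuotientGroup.mk'_surjective (kerC χ) q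
    obtain ⟨a, ha, k, hk, rfl⟩ := decompose hK g
    refine ⟨⟨a, ha⟩, ?_⟩
    show QuotientGroup.mk' (kerC χ) a = _
    rw [map_mul, QuotientGroup.mk'_apply, QuotientGroup.mk'_apply, (QuotientGroup.eq_one_iff k).2 hk, mul_one]
  have heq : (fun h : H => (χ : G → ℂ) h) = fun h : H => (χ' : G ⧸ kerC χ → ℂ) (f h) :=
    funext fun h => (hχ' _).symm
  rw [heq]
  refine isIrr_of_norm_one (isCharacter_comp f (irr_isCharacter χ'.2)) ?_
  have hsum : ∀ F : G ⧸ kerC χ → ℂ, ∑ h : H, F (f h) = (Nat.card f.ker : ℂ) * ∑ q, F q := by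
    intro F
    rw [← Finset.sum_fiberwise Finset.univ f, Finset.mul_sum]
    refine Finset.sum_congr rfl fun q _ => ?_
    obtain ⟨w, rfl⟩ := hf q
    rw [Finset.sum_congr rfl (g := fun _ => F (f w)) (fun h hh => by rw [(Finset.mem_filter.1 hh).2]),
      Finset.sum_const, nsmul_eq_mul]
    congr 2
    rw [← Fintype.card_subtype, ← Nat.card_eq_fintype_card]
    exact Nat.card_congr
      { toFun := fun h => ⟨w⁻¹ * h.1, by rw [MonoidHom.mem_ker, map_mul, map_inv, h.2, inv_mul_cancel]⟩
        invFun := fun k => ⟨w * k.1, by rw [map_mul, MonoidHom.mem_ker.1 k.2, mul_one]⟩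
        left_inv := fun h => by simp
        right_inv := fun k => by simp }
  have hcard : (Nat.card H : ℂ) = (Nat.card f.ker : ℂ) * (Nat.card (G ⧸ kerC χ) : ℂ) := by
    have := f.ker.card_mul_index
    rw [Subgroup.index_ker, MonoidHom.range_eq_top.2 hf, Subgroup.card_top] at this
    exact_mod_cast this.symm
  have h1 := irr_self χ'.2
  simp only [classInner] at h1 ⊢
  rw [hsum (fun q => (χ' : G ⧸ kerC χ → ℂ) q * conj ((χ' : G ⧸ kerC χ → ℂ) q)), hcard, mul_inv, mul_assoc,
    mul_left_comm _ (Nat.card f.ker : ℂ), ← mul_assoc, inv_mul_cancel₀ (Nat.cast_ne_zero.2 Nat.card_pos.ne'),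
    one_mul, h1]

/-- If no character over the restriction has larger degree, the nonvanishing elements of the
supplement have all their conjugates in it. -/
theorem conj_mem_of_no_larger (χ : IrrCharacter G) (H : Subgroup G) [Fintype H] (hK : H ⊔ kerC χ = ⊤)
    (hno : ∀ ψ : IrrCharacter G, classInner (fun h : H => (ψ : G → ℂ) h) (fun h : H => (χ : G → ℂ) h) ≠ 0 →
      deg (ψ : G → ℂ) ≤ deg (χ : G → ℂ))
    {h : G} (hh : h ∈ H) (hne : (χ : G → ℂ) h ≠ 0) : ∀ x : G, x⁻¹ * h * x ∈ H := by
  classical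
  set θ : IrrCharacter H := ⟨fun h : H => (χ : G → ℂ) h, isIrr_restrict χ H hK⟩
  have hθ : (θ : H → ℂ) = fun h : H => (χ : G → ℂ) h := rfl
  set F := indFun H (θ : H → ℂ) with hF
  have hFc : IsCharacter G F := isCharacter_indFun H (irr_isCharacter θ.2)
  have hres : ∀ ψ : IrrCharacter G, classInner F (ψ : G → ℂ) ≠ 0 →
      ∀ y : H, (ψ : G → ℂ) y = (χ : G → ℂ) y := by
    intro ψ hψ y
    rw [hF, frobenius H _ (isClassFunction_character (irr_isCharacter ψ.2))] at hψ
    have hψ' : classInner (fun h : H => (ψ : G → ℂ) h) (θ : H → ℂ) ≠ 0 := fun h0 => hψ (by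
      rw [← classInner_symm, h0, map_zero])
    have hle := hno ψ hψ'
    have hge := deg_le_of_constituent ψ θ hψ'
    have hd : deg (θ : H → ℂ) = deg (χ : G → ℂ) := rfl
    exact congrFun (eq_of_inner_ne_zero_of_deg (isCharacter_comp H.subtype (irr_isCharacter ψ.2)) θ hψ' (by
      show (ψ : G → ℂ) ((1 : H) : G) = _
      rw [Subgroup.coe_one, char_one_eq_deg (irr_isCharacter ψ.2), char_one_eq_deg (irr_isCharacter θ.2), hd]
      congr 1
      omega)) y
  have hexp := classFun_expansion (isClassFunction_indFun H (θ : H → ℂ))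
  have hscal : ∀ y : H, F y = (∑ ψ : IrrCharacter G, classInner F (ψ : G → ℂ)) * (χ : G → ℂ) y := by
    intro y
    conv_lhs => rw [hF, hexp]
    rw [Finset.sum_apply, Finset.sum_mul]
    refine Finset.sum_congr rfl fun ψ _ => ?_
    rw [Pi.smul_apply, smul_eq_mul]
    rcases eq_or_ne (classInner F (ψ : G → ℂ)) 0 with h0 | h0
    · rw [h0, zero_mul, zero_mul]
    · rw [hres ψ h0 y]
  have h1 := hscal 1
  rw [Subgroup.coe_one, hF, indFun_one, hθ] at h1
  simp only [Subgroup.coe_one] at h1
  have hc := mul_right_cancel₀ (irr_one_ne_zero χ.2) h1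
  have h2 := hscal ⟨h, hh⟩
  simp only [hF] at h2
  rw [← hc] at h2
  simp only [indFun] at h2
  have hterm : ∀ x : G, extendByZero H (θ : H → ℂ) (x⁻¹ * h * x) =
      (if x⁻¹ * h * x ∈ H then 1 else 0) * (χ : G → ℂ) h := fun x => by
    by_cases hx : x⁻¹ * h * x ∈ H
    · rw [extendByZero_mem H _ hx, if_pos hx, one_mul, hθ]
      have := isClassFunction_character (irr_isCharacter χ.2) h x⁻¹
      rw [inv_inv] at this
      exact this
    · rw [extendByZero_not_mem H _ hx, if_neg hx, zero_mul]
  simp only [hterm] at h2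
  rw [← Finset.sum_mul, ← mul_assoc] at h2
  have h3 := mul_right_cancel₀ hne h2
  rw [Finset.sum_boole, inv_mul_eq_iff_eq_mul₀ (Nat.cast_ne_zero.2 Nat.card_pos.ne'), ← Nat.cast_mul,
    Subgroup.card_mul_index, Nat.cast_inj] at h3
  intro x
  have h4 : (Finset.univ.filter fun y : G => y⁻¹ * h * y ∈ H) = Finset.univ :=
    Finset.eq_univ_of_card _ (by rw [h3, Nat.card_eq_fintype_card])
  have h5 : x ∈ Finset.univ.filter fun y : G => y⁻¹ * h * y ∈ H := h4.symm ▸ Finset.mem_univ x
  exact (Finset.mem_filter.1 h5).2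

/-- The part of the supplement lying in a normal subgroup over the kernel is normal. -/
theorem normal_inf (χ : IrrCharacter G) (H : Subgroup G) [Fintype H] (hK : H ⊔ kerC χ = ⊤)
    (hno : ∀ ψ : IrrCharacter G, classInner (fun h : H => (ψ : G → ℂ) h) (fun h : H => (χ : G → ℂ) h) ≠ 0 →
      deg (ψ : G → ℂ) ≤ deg (χ : G → ℂ))
    (L : Subgroup G) [L.Normal] (hKL : kerC χ ≤ L)
    (hmin : ∀ M : Subgroup G, M.Normal → kerC χ ≤ M → M ≤ L → M = kerC χ ∨ M = L) :
    (H ⊓ L).Normal := by
  classical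
  set S : Set G := {h | h ∈ H ∧ h ∈ L ∧ (χ : G → ℂ) h ≠ 0} with hS
  set W := Subgroup.closure S with hW
  have hSconj : ∀ h ∈ S, ∀ x : G, x * h * x⁻¹ ∈ S := by
    rintro h ⟨hh, hhL, hne⟩ x
    refine ⟨?_, Subgroup.Normal.conj_mem inferInstance h hhL x, ?_⟩
    · have := conj_mem_of_no_larger χ H hK hno hh hne x⁻¹
      rwa [inv_inv] at this
    · rwa [isClassFunction_character (irr_isCharacter χ.2)]
  haveI hWn : W.Normal := by
    refine ⟨fun w hw x => ?_⟩
    induction hw using Subgroup.closure_induction with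
    | mem y hy => exact Subgroup.subset_closure (hSconj y hy x)
    | one => simp
    | mul a b _ _ ha hb =>
      have := mul_mem ha hb
      rwa [show x * a * x⁻¹ * (x * b * x⁻¹) = x * (a * b) * x⁻¹ by group] at this
    | inv a _ ha =>
      have := inv_mem ha
      rwa [show (x * a * x⁻¹)⁻¹ = x * a⁻¹ * x⁻¹ by group] at this
  have hWle : W ≤ H ⊓ L := (Subgroup.closure_le _).2 fun h hh => ⟨hh.1, hh.2.1⟩
  have hHK : H ⊓ kerC χ ≤ W := fun h hh => Subgroup.subset_closure ⟨hh.1, hKL hh.2, by
    rw [(mem_kerC_iff χ h).1 hh.2]; exact irr_one_ne_zero χ.2⟩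
  have hWK : W ⊔ kerC χ = L := by
    rcases hmin (W ⊔ kerC χ) inferInstance le_sup_right (sup_le (hWle.trans inf_le_right) hKL) with h1 | h1
    · -- then `L` is the kernel
      refine h1.trans (le_antisymm hKL ?_)
      haveI := Fintype.ofFinite L
      have hval : ∀ g ∈ L, g ∉ kerC χ → (χ : G → ℂ) g = 0 := by
        intro g hg hgK
        by_contra hne
        obtain ⟨a, ha, k, hk, rfl⟩ := decompose hK g
        have haL : a ∈ L := by
          have := mul_mem hg (inv_mem (hKL hk))
          rwa [mul_inv_cancel_right] at this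
        have haW : a ∈ W := Subgroup.subset_closure ⟨ha, haL, by rwa [kerC_invariant χ a k hk] at hne⟩
        have haK : a ∈ kerC χ := h1 ▸ Subgroup.mem_sup_left haW
        exact hgK (mul_mem haK hk)
      have hsum : classInner (fun n : L => (χ : G → ℂ) n) (fun _ => 1) ≠ 0 := by
        simp only [classInner, map_one, mul_one]
        refine mul_ne_zero (inv_ne_zero (Nat.cast_ne_zero.2 Nat.card_pos.ne')) ?_
        rw [← Finset.sum_filter_add_sum_filter_not Finset.univ (fun n : L => (n : G) ∈ kerC χ),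
          Finset.sum_congr (s₁ := Finset.univ.filter fun n : L => (n : G) ∈ kerC χ) rfl
            (g := fun _ => (χ : G → ℂ) 1)
            (fun n hn => (mem_kerC_iff χ n).1 (Finset.mem_filter.1 hn).2),
          Finset.sum_eq_zero (s := Finset.univ.filter fun n : L => ¬ (n : G) ∈ kerC χ)
            (fun n hn => hval n n.2 (Finset.mem_filter.1 hn).2), add_zero, Finset.sum_const, nsmul_eq_mul]
        exact mul_ne_zero (Nat.cast_ne_zero.2 (Finset.card_ne_zero.2 ⟨1, by simp⟩)) (irr_one_ne_zero χ.2)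
      have hcl := clifford_restrict χ ⟨_, isIrrCharacter_one⟩ hsum
      intro g hg
      have hg' := congrFun hcl ⟨g, hg⟩
      have h1' := congrFun hcl 1
      have hone : ∀ ψ ∈ cliffOrbit L (⟨_, isIrrCharacter_one⟩ : IrrCharacter L), ∀ n : L, (ψ : L → ℂ) n = 1 := by
        intro ψ hψ n
        obtain ⟨y, rfl⟩ := mem_cliffOrbit.1 hψ
        rw [irrComp_apply]
      rw [Pi.smul_apply, Finset.sum_apply, Finset.sum_congr rfl (fun ψ hψ => hone ψ hψ ⟨g, hg⟩)] at hg'
      rw [Pi.smul_apply, Finset.sum_apply, Finset.sum_congr rfl (fun ψ hψ => hone ψ hψ 1)] at h1'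
      exact mem_kerC_of_eq χ (hg'.trans h1'.symm)
    · exact h1
  suffices H ⊓ L = W by rw [this]; exact hWn
  refine le_antisymm (fun y hy => ?_) hWle
  have hy' : y ∈ W ⊔ kerC χ := hWK.symm ▸ hy.2
  rw [Subgroup.mem_sup_of_normal_right] at hy'
  obtain ⟨w, hw, k, hk, rfl⟩ := hy'
  have hkH : k ∈ H := by
    have := H.mul_mem (H.inv_mem (hWle hw).1) hy.1
    rwa [inv_mul_cancel_left] at this
  exact mul_mem hw (hHK ⟨hkH, hk⟩)

/-- Frattini's argument for a normal subgroup containing a relative Sylow subgroup. -/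
theorem frattini {q : ℕ} [Fact q.Prime] (N L : Subgroup G) [N.Normal] (hNL : N ≤ L) (P : Sylow q L)
    (hP : (P : Subgroup L).map L.subtype ≤ N) :
    Subgroup.normalizer (((P : Subgroup L).map L.subtype : Subgroup G) : Set G) ⊔ N = ⊤ := by
  set P' := (P : Subgroup L).map L.subtype with hP'
  have hPN : IsPGroup q (P'.subgroupOf N) :=
    ((P.isPGroup'.map L.subtype)).comap_subtype
  have hidx : ¬ q ∣ (P'.subgroupOf N).index := fun hdvd => by
    have h1 : P'.relIndex N ∣ P'.relIndex L := Dvd.intro _ (Subgroup.relIndex_mul_relIndex P' N L hP hNL)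
    have h2 : P'.relIndex L = (P : Subgroup L).index := by
      rw [Subgroup.relIndex, hP', Subgroup.subgroupOf, Subgroup.comap_map_eq_self_of_injective L.subtype_injective]
    exact P.not_dvd_index (h2 ▸ (dvd_trans hdvd h1))
  have h3 := Sylow.normalizer_sup_eq_top (hPN.toSylow hidx)
  rwa [IsPGroup.toSylow_coe, Subgroup.subgroupOf_map_subtype, inf_of_le_left hP] at h3

/-- The conclusion, given a maximal supplement. -/
theorem exists_larger_of_coatom (χ : IrrCharacter G) (H : Subgroup G) [Fintype H] (hH : IsCoatom H)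
    (hK : H ⊔ kerC χ = ⊤) (hnot : ¬ ∀ ψ : IrrCharacter G,
      classInner (fun h : H => (ψ : G → ℂ) h) (fun h : H => (χ : G → ℂ) h) ≠ 0 →
      deg (ψ : G → ℂ) ≤ deg (χ : G → ℂ)) :
    ∃ ψ : IrrCharacter G, deg (χ : G → ℂ) < deg (ψ : G → ℂ) ∧ kerC ψ < kerC χ := by
  classical
  push Not at hnot
  obtain ⟨ψ, hψ, hlt⟩ := hnot
  refine ⟨ψ, hlt, ?_⟩
  set θ : IrrCharacter H := ⟨fun h : H => (χ : G → ℂ) h, isIrr_restrict χ H hK⟩ with hθ
  have hLH : kerC ψ ≤ H := by
    by_contra hle
    have htop : H ⊔ kerC ψ = ⊤ := hH.2 _ (lt_of_le_of_ne le_sup_left fun he => hle (he ▸ le_sup_right))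
    have h1 := irrC_orth (⟨fun h : H => (ψ : G → ℂ) h, isIrr_restrict ψ H htop⟩ : IrrCharacter H) θ
    change classInner (fun h : H => (ψ : G → ℂ) h) (θ : H → ℂ) = _ at h1
    split_ifs at h1 with he
    · have h2 := congrFun (congrArg Subtype.val he) 1
      simp only [hθ, Subgroup.coe_one] at h2
      rw [char_one_eq_deg (irr_isCharacter χ.2), char_one_eq_deg (irr_isCharacter ψ.2), Nat.cast_inj] at h2
      omega
    · exact hψ h1
  have hle : kerC ψ ≤ kerC χ := by
    intro l hl
    obtain ⟨m, hm⟩ := exists_decomposition (isCharacter_comp H.subtype (irr_isCharacter ψ.2))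
    have h1 := congrFun hm ⟨l, hLH hl⟩
    have h2 := congrFun hm 1
    simp only [Function.comp_apply, Subgroup.coe_subtype, Subgroup.coe_one, Finset.sum_apply, Pi.smul_apply,
      nsmul_eq_mul] at h1 h2
    rw [(mem_kerC_iff ψ l).1 hl, h2] at h1
    have h3 := congrArg Complex.re h1
    simp only [Complex.re_sum, Pi.mul_apply, Pi.natCast_apply, Complex.mul_re, Complex.natCast_re, Complex.natCast_im, zero_mul, sub_zero] at h3
    have hre : ∀ φ : IrrCharacter H, ((φ : H → ℂ) ⟨l, hLH hl⟩).re ≤ ((φ : H → ℂ) 1).re := fun φ => by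
      rw [char_one_eq_deg (irr_isCharacter φ.2), Complex.natCast_re]
      exact (Complex.re_le_norm _).trans (norm_le_deg φ _)
    have h4 := (Finset.sum_eq_sum_iff_of_le (fun φ _ => mul_le_mul_of_nonneg_left (hre φ) (Nat.cast_nonneg (m φ)))).1
      h3.symm θ (Finset.mem_univ _)
    have hmθ : (m θ : ℝ) ≠ 0 := by
      have h5 := decomposition_coeff m hm θ
      rw [Nat.cast_ne_zero]
      intro h0
      rw [h0, Nat.cast_zero] at h5
      exact hψ h5
    have h5 := mul_left_cancel₀ hmθ h4
    refine (mem_kerC_iff χ l).2 ?_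
    have h6 : ‖(θ : H → ℂ) ⟨l, hLH hl⟩‖ ≤ ((θ : H → ℂ) 1).re := by
      rw [char_one_eq_deg (irr_isCharacter θ.2), Complex.natCast_re]
      exact norm_le_deg θ _
    have him : ((θ : H → ℂ) ⟨l, hLH hl⟩).im = 0 := by
      rw [← h5] at h6
      have h7 := Complex.sq_norm ((θ : H → ℂ) ⟨l, hLH hl⟩)
      rw [Complex.normSq_apply] at h7
      have h8 : ‖(θ : H → ℂ) ⟨l, hLH hl⟩‖ ^ 2 ≤ ((θ : H → ℂ) ⟨l, hLH hl⟩).re ^ 2 := pow_le_pow_left₀ (norm_nonneg _) h6 2
      nlinarith [sq_nonneg ((θ : H → ℂ) ⟨l, hLH hl⟩).im]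
    have him1 : ((θ : H → ℂ) 1).im = 0 := by
      rw [char_one_eq_deg (irr_isCharacter θ.2), Complex.natCast_im]
    have h9 : (θ : H → ℂ) ⟨l, hLH hl⟩ = (θ : H → ℂ) 1 := Complex.ext h5 (him.trans him1.symm)
    exact h9
  refine lt_of_le_of_ne hle fun he => hH.1 ?_
  rw [← hK, eq_comm, sup_eq_left, ← he]
  exact hLH

theorem exists_larger (χ : IrrCharacter G)
    (h : ¬ kerC χ ≤ fittingSubgroup G ∨
      (kerC χ = fittingSubgroup G ∧ Group.IsSolvable (G ⧸ kerC χ) ∧ kerC χ ≠ ⊤)) :
    ∃ ψ : IrrCharacter G, deg (χ : G → ℂ) < deg (ψ : G → ℂ) ∧ kerC ψ < kerC χ := by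
  classical
  set K := kerC χ with hKdef
  -- a normal subgroup `L` over `K` with a non-normal Sylow subgroup `Q` with `L = Q ⊔ K`
  obtain ⟨L, hLn, hKL, hmin, q, hq, Q, hQ, hgen⟩ : ∃ (L : Subgroup G) (_ : L.Normal), K ≤ L ∧
      (∀ M : Subgroup G, M.Normal → K ≤ M → M ≤ L → M = K ∨ M = L) ∧
      ∃ (q : ℕ) (_ : Fact q.Prime) (Q : Sylow q L),
        ¬ ((Q : Subgroup L).map L.subtype).Normal ∧ (Q : Subgroup L).map L.subtype ⊔ K = L := by
    rcases h with h | ⟨hF, hsolv, hne⟩
    · refine ⟨K, inferInstance, le_rfl, fun M _ h1 h2 => Or.inl (le_antisymm h2 h1), ?_⟩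
      have hnil : ¬ Group.IsNilpotent K := fun hn => h (Solv.normal_le_fitting hn)
      rw [show Group.IsNilpotent K ↔ ∀ (p : ℕ) (_hp : Fact p.Prime) (P : Sylow p K), (P : Subgroup K).Normal from
        (Group.isNilpotent_of_finite_tfae (G := K)).out 0 3] at hnil
      push Not at hnil
      obtain ⟨q, hq, Q, hQ⟩ := hnil
      refine ⟨q, hq, Q, fun hn => hQ ?_, sup_eq_right.2 (Subgroup.map_subtype_le _)⟩
      have := hn.comap K.subtype
      rwa [Subgroup.comap_map_eq_self_of_injective K.subtype_injective] at this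
    · haveI : Nontrivial (G ⧸ K) := QuotientGroup.nontrivial_iff.2 hne
      obtain ⟨N, hN, hNb, hNmin⟩ := Solv.exists_minimal_normal (G := G ⧸ K)
      haveI := hN
      obtain ⟨-, q, hq, -, hqN⟩ := Solv.minimal_normal_elementaryAbelian N inferInstance hNb hNmin
      haveI := Fact.mk hq
      set π := QuotientGroup.mk' K
      set L := N.comap π with hL
      have hKL : K ≤ L := fun x hx => by
        rw [hL, Subgroup.mem_comap, QuotientGroup.mk'_apply, (QuotientGroup.eq_one_iff x).2 hx]; exact one_mem _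
      have hsurj : Function.Surjective π := QuotientGroup.mk'_surjective K
      refine ⟨L, inferInstance, hKL, fun M hM h1 h2 => ?_, q, inferInstance, ?_⟩
      · have hM' : M = (M.map π).comap π := by
          rw [Subgroup.comap_map_eq, QuotientGroup.ker_mk', sup_eq_left.2 h1]
        rcases hNmin (M.map π) (hM.map π hsurj) (Subgroup.map_le_iff_le_comap.2 h2) with h3 | h3
        · left
          rw [hM', h3, MonoidHom.comap_bot, QuotientGroup.ker_mk']
        · right
          rw [hM', h3]
      have hKnil : Group.IsNilpotent K := by rw [show K = fittingSubgroup G from hF]; exact Solv.fittingSubgroup_nilpotent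
      have hLnot : ¬ Group.IsNilpotent L := fun hn => by
        have h1 : L ≤ K := by rw [show K = fittingSubgroup G from hF]; exact Solv.normal_le_fitting hn
        refine hNb (le_bot_iff.1 fun y hy => ?_)
        obtain ⟨x, rfl⟩ := hsurj y
        rw [Subgroup.mem_bot]
        exact (QuotientGroup.eq_one_iff x).2 (h1 hy)
      rw [show Group.IsNilpotent L ↔ ∀ (p : ℕ) (_hp : Fact p.Prime) (P : Sylow p L), (P : Subgroup L).Normal from
        (Group.isNilpotent_of_finite_tfae (G := L)).out 0 3] at hLnot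
      push Not at hLnot
      obtain ⟨r, hr, R, hR⟩ := hLnot
      haveI := hr
      have hRn : ¬ ((R : Subgroup L).map L.subtype).Normal := fun hn => hR (by
        have := hn.comap L.subtype
        rwa [Subgroup.comap_map_eq_self_of_injective L.subtype_injective] at this)
      have hrq : r = q := by
        by_contra hne'
        refine hRn ?_
        set R' := (R : Subgroup L).map L.subtype
        have hR'K : R' ≤ K := by
          intro x hx
          have h1 : IsPGroup r (R'.map π) := (R.isPGroup'.map _).map _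
          obtain ⟨i, hi⟩ := h1 ⟨π x, Subgroup.mem_map_of_mem _ hx⟩
          have hxL : π x ∈ N := (Subgroup.map_subtype_le _ hx : x ∈ L)
          obtain ⟨j, hj⟩ := hqN ⟨π x, hxL⟩
          have h2 : orderOf (π x) ∣ r ^ i := orderOf_dvd_of_pow_eq_one (congrArg Subtype.val hi)
          have h3 : orderOf (π x) ∣ q ^ j := orderOf_dvd_of_pow_eq_one (congrArg Subtype.val hj)
          have h4 := Nat.eq_one_of_dvd_coprimes (Nat.coprime_pow_primes i j hr.out hq hne') h2 h3
          rw [orderOf_eq_one_iff] at h4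
          exact (QuotientGroup.eq_one_iff x).1 h4
        have h5 := frattini K L hKL R hR'K
        rw [← Subgroup.normalizer_eq_top_iff, ← h5, eq_comm, sup_eq_left]
        have hR'n : (R'.subgroupOf K).Normal := by
          have hpR : IsPGroup r (R'.subgroupOf K) := (R.isPGroup'.map L.subtype).comap_subtype
          have hidx : ¬ r ∣ (R'.subgroupOf K).index := fun hd => R.not_dvd_index (by
            have h6 := Dvd.intro _ (Subgroup.relIndex_mul_relIndex R' K L hR'K hKL)
            have h7 : R'.relIndex L = (R : Subgroup L).index := by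
              rw [Subgroup.relIndex, Subgroup.subgroupOf,
                Subgroup.comap_map_eq_self_of_injective L.subtype_injective]
            exact h7 ▸ (dvd_trans hd h6))
          have h6 := (show Group.IsNilpotent K ↔ ∀ (p : ℕ) (_hp : Fact p.Prime) (P : Sylow p K), (P : Subgroup K).Normal from
            (Group.isNilpotent_of_finite_tfae (G := K)).out 0 3).1 hKnil r hr (hpR.toSylow hidx)
          rwa [IsPGroup.toSylow_coe] at h6
        exact (Subgroup.normal_subgroupOf_iff_le_normalizer hR'K).1 hR'n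
      subst hrq
      refine ⟨R, hRn, ?_⟩
      set R' := (R : Subgroup L).map L.subtype
      refine le_antisymm (sup_le (Subgroup.map_subtype_le _) hKL) ?_
      intro x hx
      -- the index of `R' ⊔ K` in `L` is both a power of `r` and prime to `r`
      have h1 : (R' ⊔ K).relIndex L = 1 := by
        have hd1 : (R' ⊔ K).relIndex L ∣ (R : Subgroup L).index := by
          have := Subgroup.relIndex_dvd_of_le_left L (le_sup_left : R' ≤ R' ⊔ K)
          rwa [show R'.relIndex L = (R : Subgroup L).index by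
            rw [Subgroup.relIndex, Subgroup.subgroupOf,
              Subgroup.comap_map_eq_self_of_injective L.subtype_injective]] at this
        have hd2 : (R' ⊔ K).relIndex L ∣ K.relIndex L := Subgroup.relIndex_dvd_of_le_left L le_sup_right
        obtain ⟨j, hj⟩ := IsPGroup.iff_card.1 hqN
        have h2 : K.relIndex L = r ^ j := by
          have e : ((⊥ : Subgroup (G ⧸ K)).comap π).relIndex L = Nat.card N := by
            rw [Subgroup.relIndex_comap, hL, Subgroup.map_comap_eq_self_of_surjective hsurj,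
              Subgroup.relIndex_bot_left]
          rwa [MonoidHom.comap_bot, QuotientGroup.ker_mk', hj] at e
        have h3 : Nat.Coprime (r ^ j) (R : Subgroup L).index :=
          (hr.out.coprime_iff_not_dvd.2 R.not_dvd_index).pow_left _
        exact Nat.eq_one_of_dvd_coprimes h3 (h2 ▸ hd2) hd1
      exact Subgroup.relIndex_eq_one.1 h1 hx
  haveI := hLn
  haveI := hq
  set Q' := (Q : Subgroup L).map L.subtype
  have hQL : Q' ≤ L := Subgroup.map_subtype_le _
  obtain ⟨H, hH, hNH⟩ := (eq_top_or_exists_le_coatom (Subgroup.normalizer (Q' : Set G))).resolve_left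
    fun he => hQ (Subgroup.normalizer_eq_top_iff.1 he)
  have hQH : Q' ≤ H := Subgroup.le_normalizer.trans hNH
  have hHK : H ⊔ K = ⊤ := by
    rw [eq_top_iff, ← frattini L L le_rfl Q hQL]
    refine sup_le (hNH.trans le_sup_left) ?_
    rw [← hgen]
    exact sup_le (hQH.trans le_sup_left) le_sup_right
  haveI := Fintype.ofFinite H
  refine exists_larger_of_coatom χ H hH hHK fun hno => hH.1 ?_
  haveI := normal_inf χ H hHK hno L hKL hmin
  rw [eq_top_iff, ← frattini (H ⊓ L) L inf_le_right Q (le_inf hQH hQL)]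
  exact sup_le hNH inf_le_left

end Cfsg.Agent.Char.BG
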