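import Cfsg.Agent.Lib.Char.Basic

/-!
# Orthogonality, completeness, decomposition into irreducible characters
-/

set_option autoImplicit false

namespace Cfsg.Agent.Char

open Cfsg Module
open scoped ComplexConjugate

universe u

variable {G : Type u} [Group G]

section Inner

variable [Fintype G]

theorem classInner_add_left (a b c : G → ℂ) :
    classInner (a + b) c = classInner a c + classInner b c := by
  simp [classInner, Finset.sum_add_distrib, add_mul, mul_add]

theorem classInner_sub_left (a b c : G → ℂ) :
    classInner (a - b) c = classInner a c - classInner b c := by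
  simp [classInner, Finset.sum_sub_distrib, sub_mul, mul_sub]

theorem classInner_smul_left (r : ℂ) (a b : G → ℂ) :
    classInner (r • a) b = r * classInner a b := by
  simp [classInner, Finset.mul_sum, mul_assoc, mul_left_comm]

theorem classInner_symm (a b : G → ℂ) : conj (classInner a b) = classInner b a := by
  simp [classInner, mul_comm]

theorem classInner_add_right (a b c : G → ℂ) :
    classInner a (b + c) = classInner a b + classInner a c := by
  rw [← classInner_symm, classInner_add_left, map_add, classInner_symm, classInner_symm]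

theorem classInner_sub_right (a b c : G → ℂ) :
    classInner a (b - c) = classInner a b - classInner a c := by
  rw [← classInner_symm, classInner_sub_left, map_sub, classInner_symm, classInner_symm]

theorem classInner_smul_right (r : ℂ) (a b : G → ℂ) :
    classInner a (r • b) = conj r * classInner a b := by
  rw [← classInner_symm, classInner_smul_left, map_mul, classInner_symm]

theorem classInner_zero_left (a : G → ℂ) : classInner 0 a = 0 := by
  simp [classInner]

theorem classInner_sum_left {ι : Type*} (s : Finset ι) (f : ι → G → ℂ) (c : G → ℂ) :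
    classInner (∑ i ∈ s, f i) c = ∑ i ∈ s, classInner (f i) c := by
  classical
  induction s using Finset.induction_on with
  | empty => simp [classInner_zero_left]
  | insert a s ha ih => rw [Finset.sum_insert ha, classInner_add_left, ih, Finset.sum_insert ha]

theorem classInner_sum_right {ι : Type*} (s : Finset ι) (f : ι → G → ℂ) (c : G → ℂ) :
    classInner c (∑ i ∈ s, f i) = ∑ i ∈ s, classInner c (f i) := by
  rw [← classInner_symm, classInner_sum_left, map_sum]
  exact Finset.sum_congr rfl fun i _ => classInner_symm _ _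

theorem classInner_self_re (a : G → ℂ) :
    classInner a a = (((Nat.card G : ℝ)⁻¹ * ∑ g, ‖a g‖ ^ 2 : ℝ) : ℂ) := by
  simp [classInner, Complex.mul_conj']

theorem classInner_self_eq_zero {a : G → ℂ} (h : classInner a a = 0) : a = 0 := by
  rw [classInner_self_re, Complex.ofReal_eq_zero, mul_eq_zero] at h
  have hc : ((Nat.card G : ℝ))⁻¹ ≠ 0 := inv_ne_zero (by simp)
  have h' := h.resolve_left hc
  rw [Finset.sum_eq_zero_iff_of_nonneg (fun g _ => sq_nonneg ‖a g‖)] at h'
  funext g
  simpa using h' g (Finset.mem_univ g)

theorem invertibleCard : Nonempty (Invertible (Nat.card G : ℂ)) :=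
  ⟨invertibleOfNonzero (by simp)⟩

theorem classInner_rep {V W : Type*} [AddCommGroup V] [Module ℂ V] [FiniteDimensional ℂ V]
    [AddCommGroup W] [Module ℂ W] [FiniteDimensional ℂ W]
    (ρ : Representation ℂ G V) (σ : Representation ℂ G W) :
    classInner σ.character ρ.character = (finrank ℂ (ρ.IntertwiningMap σ) : ℂ) := by
  obtain ⟨i⟩ := invertibleCard (G := G)
  rw [← Representation.card_inv_mul_sum_char_mul_char_eq_finrank ρ σ]
  simp [classInner, char_inv (isCharacter_character ρ)]

theorem classInner_natCast {χ ψ : G → ℂ} (h₁ : IsCharacter G χ) (h₂ : IsCharacter G ψ) :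
    ∃ n : ℕ, classInner χ ψ = n := by
  obtain ⟨n, ρ, rfl⟩ := h₁
  obtain ⟨m, σ, rfl⟩ := h₂
  exact ⟨_, classInner_rep σ ρ⟩

open scoped Classical in
theorem irr_orth {χ ψ : G → ℂ} (h₁ : IsIrrCharacter G χ) (h₂ : IsIrrCharacter G ψ) :
    classInner χ ψ = if χ = ψ then 1 else 0 := by
  obtain ⟨n, ρ, hρ, rfl⟩ := h₁
  obtain ⟨m, σ, hσ, rfl⟩ := h₂
  have := hρ
  have := hσ
  obtain ⟨i⟩ := invertibleCard (G := G)
  have h : classInner ρ.character σ.character =
      if Nonempty (σ.Equiv ρ) then 1 else 0 := by
    rw [← Representation.char_orthonormal ρ σ]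
    simp [classInner, char_inv (isCharacter_character σ)]
  by_cases he : Nonempty (σ.Equiv ρ)
  · rw [h, if_pos he, if_pos]
    exact (Representation.char_iso he.some).symm
  · rw [h, if_neg he, if_neg]
    intro hc
    rw [if_neg he, hc, classInner_rep] at h
    have : IsEmpty (σ.Equiv ρ) := not_nonempty_iff.mp he
    rw [Representation.IsIrreducible.finrank_intertwiningMap_self] at h
    norm_num at h

theorem irr_self {χ : G → ℂ} (h : IsIrrCharacter G χ) : classInner χ χ = 1 := by
  classical
  simp [irr_orth h h]

open scoped Classical in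
theorem irrC_orth (χ ψ : IrrCharacter G) :
    classInner (χ : G → ℂ) (ψ : G → ℂ) = if χ = ψ then 1 else 0 := by
  simp [irr_orth χ.2 ψ.2, Subtype.ext_iff]

end Inner

section Irr

variable [Finite G]

theorem linearIndependent_irr :
    LinearIndependent ℂ (fun χ : IrrCharacter G => (χ : G → ℂ)) := by
  classical
  have := Fintype.ofFinite G
  rw [linearIndependent_iff']
  intro s c hc χ hχ
  have h := congrArg (fun f => classInner f (χ : G → ℂ)) hc
  simpa [classInner_sum_left, classInner_smul_left, irrC_orth, classInner_zero_left, hχ] using h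

instance finite_irrCharacter : Finite (IrrCharacter G) :=
  have := Fintype.ofFinite G
  (linearIndependent_irr (G := G)).finite

noncomputable instance fintype_irrCharacter : Fintype (IrrCharacter G) := Fintype.ofFinite _

theorem finsum_irr {M : Type*} [AddCommMonoid M] (f : IrrCharacter G → M) :
    ∑ᶠ χ, f χ = ∑ χ, f χ := finsum_eq_sum_of_fintype f

/-- Every character is a nonnegative integer combination of irreducible characters. -/
theorem exists_decomposition {χ : G → ℂ} (h : IsCharacter G χ) :
    ∃ m : IrrCharacter G → ℕ, χ = ∑ ψ, m ψ • (ψ : G → ℂ) := by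
  obtain ⟨n, ρ, rfl⟩ := h
  suffices H : ∀ (d : ℕ) (V : Type) [AddCommGroup V] [Module ℂ V] [FiniteDimensional ℂ V]
      (τ : Representation ℂ G V), finrank ℂ V = d →
        ∃ m : IrrCharacter G → ℕ, τ.character = ∑ ψ, m ψ • (ψ : G → ℂ) from
    H _ _ ρ rfl
  intro d
  induction d using Nat.strong_induction_on with
  | _ d ih =>
    intro V _ _ _ τ hd
    classical
    rcases Nat.eq_zero_or_pos d with h0 | hpos
    · refine ⟨0, ?_⟩
      subst h0
      funext g
      have : Subsingleton V := finrank_zero_iff.mp hd
      have : τ g = 0 := Subsingleton.elim _ _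
      simp [Representation.character, this]
    by_cases hirr : τ.IsIrreducible
    · let χ0 : IrrCharacter G := ⟨τ.character, isIrrCharacter_character τ hirr⟩
      exact ⟨fun ψ => if ψ = χ0 then 1 else 0, by simp [χ0]⟩
    · have : Nontrivial V := Module.nontrivial_of_finrank_pos (R := ℂ) (by omega)
      have : Nontrivial (Subrepresentation τ) := ⟨⟨⊥, ⊤, fun hbt => by
        have := congrArg Subrepresentation.toSubmodule hbt
        exact bot_ne_top (α := Submodule ℂ V) this⟩⟩
      obtain ⟨S, hS0, hS1⟩ : ∃ S : Subrepresentation τ, S ≠ ⊥ ∧ S ≠ ⊤ := by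
        by_contra hne
        push Not at hne
        exact hirr ⟨fun S => or_iff_not_imp_left.mpr (hne S)⟩
      obtain ⟨T, hT⟩ := exists_isCompl S
      have hc : IsCompl S.toSubmodule T.toSubmodule := by
        constructor
        · rw [disjoint_iff]
          exact congrArg Subrepresentation.toSubmodule hT.inf_eq_bot
        · rw [codisjoint_iff]
          exact congrArg Subrepresentation.toSubmodule hT.sup_eq_top
      let e := Submodule.prodEquivOfIsCompl _ _ hc
      have hdim := Submodule.finrank_add_eq_of_isCompl hc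
      have hSpos : 0 < finrank ℂ S.toSubmodule := by
        rcases Nat.eq_zero_or_pos (finrank ℂ S.toSubmodule) with h' | h'
        · exact absurd (Subrepresentation.toSubmodule_injective
            (show S.toSubmodule = ⊥ from Submodule.finrank_eq_zero.mp h')) hS0
        · exact h'
      have hSlt : finrank ℂ S.toSubmodule < finrank ℂ V :=
        Submodule.finrank_lt fun h' => hS1 (Subrepresentation.toSubmodule_injective h')
      have φ : (S.toRepresentation.prod T.toRepresentation).Equiv τ :=
        Representation.Equiv.mk e fun g => by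
          ext ⟨a, ha⟩ <;> simp [e, Subrepresentation.toRepresentation]
      obtain ⟨m₁, h₁⟩ := ih _ (by omega) S.toSubmodule S.toRepresentation rfl
      obtain ⟨m₂, h₂⟩ := ih _ (by omega) T.toSubmodule T.toRepresentation rfl
      refine ⟨m₁ + m₂, ?_⟩
      rw [← Representation.char_iso φ]
      calc (S.toRepresentation.prod T.toRepresentation).character
          = S.toRepresentation.character + T.toRepresentation.character := by
            funext g
            exact LinearMap.trace_prodMap' _ _
        _ = _ := by rw [h₁, h₂, ← Finset.sum_add_distrib]; simp [add_smul]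

section Complete

variable [Fintype G]

theorem decomposition_coeff {χ : G → ℂ} (m : IrrCharacter G → ℕ)
    (h : χ = ∑ ψ, m ψ • (ψ : G → ℂ)) (ψ : IrrCharacter G) :
    classInner χ (ψ : G → ℂ) = m ψ := by
  classical
  subst h
  simp only [← Nat.cast_smul_eq_nsmul ℂ, classInner_sum_left, classInner_smul_left, irrC_orth]
  simp

/-- The operator `∑ f g • ρ g⁻¹` of a class function orthogonal to all irreducibles vanishes. -/
theorem avg_eq_zero_of_irreducible {V : Type} [AddCommGroup V] [Module ℂ V] [FiniteDimensional ℂ V]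
    (ρ : Representation ℂ G V) [ρ.IsIrreducible] {f : G → ℂ} (hf : IsClassFunction G f)
    (h : classInner f ρ.character = 0) : (∑ g : G, f g • ρ g⁻¹) = 0 := by
  set T : V →ₗ[ℂ] V := ∑ g : G, f g • ρ g⁻¹ with hT
  have hcomm : ∀ k : G, ∀ v, T (ρ k v) = ρ k (T v) := by
    intro k v
    simp only [hT, LinearMap.sum_apply, LinearMap.smul_apply, map_sum, map_smul]
    refine Fintype.sum_equiv (MulAut.conj k⁻¹).toEquiv _ _ fun g => ?_
    rw [show (MulAut.conj k⁻¹).toEquiv g = k⁻¹ * g * k⁻¹⁻¹ from rfl, hf g k⁻¹,
      ← Module.End.mul_apply, ← map_mul, ← Module.End.mul_apply, ← map_mul]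
    congr 3
    group
  let Ti : ρ.IntertwiningMap ρ := T.intertwiningMap_of_isIntertwiningMap ρ ρ hcomm
  have hbij := Representation.IsIrreducible.algebraMap_intertwiningMap_bijective_of_isAlgClosed (ρ := ρ) (k := ℂ)
  obtain ⟨c, hc⟩ := hbij.2 Ti
  have hTc : T = c • LinearMap.id := by
    ext v
    have := congrArg (fun F : ρ.IntertwiningMap ρ => F v) hc
    rw [show T v = Ti v from rfl, ← this]
    rfl
  have htr : LinearMap.trace ℂ V T = 0 := by
    have hne : ((Nat.card G : ℂ))⁻¹ ≠ 0 := by simp
    refine (mul_eq_zero.mp ?_).resolve_left hne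
    rw [← h, hT, map_sum]
    simp only [classInner, map_smul, smul_eq_mul]
    congr 1
    refine Finset.sum_congr rfl fun x _ => ?_
    rw [← char_inv (isCharacter_character ρ) x]
    rfl
  rw [hTc, map_smul, LinearMap.trace_id, smul_eq_mul, mul_eq_zero] at htr
  rcases htr with h0 | h0
  · rw [hTc, h0, zero_smul]
  · have : Subsingleton V := finrank_zero_iff.mp (by exact_mod_cast h0)
    exact Subsingleton.elim _ _

theorem avg_eq_zero {f : G → ℂ} (hf : IsClassFunction G f)
    (h : ∀ χ : IrrCharacter G, classInner f (χ : G → ℂ) = 0) :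
    ∀ (d : ℕ) (V : Type) [AddCommGroup V] [Module ℂ V] [FiniteDimensional ℂ V]
      (τ : Representation ℂ G V), finrank ℂ V = d → (∑ g : G, f g • τ g⁻¹) = 0 := by
  intro d
  induction d using Nat.strong_induction_on with
  | _ d ih =>
    intro V _ _ _ τ hd
    classical
    rcases Nat.eq_zero_or_pos d with h0 | hpos
    · have : Subsingleton V := (finrank_zero_iff (R := ℂ)).mp (by omega)
      exact Subsingleton.elim _ _
    by_cases hirr : τ.IsIrreducible
    · exact avg_eq_zero_of_irreducible τ hf (h ⟨_, isIrrCharacter_character τ hirr⟩)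
    · have : Nontrivial V := Module.nontrivial_of_finrank_pos (R := ℂ) (by omega)
      have : Nontrivial (Subrepresentation τ) := ⟨⟨⊥, ⊤, fun hbt =>
        bot_ne_top (α := Submodule ℂ V) (congrArg Subrepresentation.toSubmodule hbt)⟩⟩
      obtain ⟨S, hS0, hS1⟩ : ∃ S : Subrepresentation τ, S ≠ ⊥ ∧ S ≠ ⊤ := by
        by_contra hne
        push Not at hne
        exact hirr ⟨fun S => or_iff_not_imp_left.mpr (hne S)⟩
      obtain ⟨T, hT⟩ := exists_isCompl S
      have hsup : S.toSubmodule ⊔ T.toSubmodule = ⊤ :=
        congrArg Subrepresentation.toSubmodule hT.sup_eq_top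
      have key : ∀ U : Subrepresentation τ, U ≠ ⊤ →
          ∀ v ∈ U.toSubmodule, (∑ g : G, f g • τ g⁻¹) v = 0 := by
        intro U hU v hv
        have hlt : finrank ℂ U.toSubmodule < finrank ℂ V :=
          Submodule.finrank_lt fun h' => hU (Subrepresentation.toSubmodule_injective h')
        have h0 := ih _ (by omega) U.toSubmodule U.toRepresentation rfl
        have h1 := congrArg (fun F => ((F ⟨v, hv⟩ : U.toSubmodule) : V)) h0
        simpa [Subrepresentation.toRepresentation, Submodule.coe_sum] using h1
      have hT1 : T ≠ ⊤ := fun h' => hS0 (by simpa [h'] using hT.inf_eq_bot)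
      ext v
      obtain ⟨a, ha, b, hb, rfl⟩ := Submodule.mem_sup.mp (hsup.ge (Submodule.mem_top (x := v)))
      rw [map_add, key S hS1 a ha, key T hT1 b hb]
      simp

/-- Completeness of irreducible characters in class functions. -/
theorem classFun_eq_zero {f : G → ℂ} (hf : IsClassFunction G f)
    (h : ∀ χ : IrrCharacter G, classInner f (χ : G → ℂ) = 0) : f = 0 := by
  classical
  let n := Nat.card G
  let ρ : Representation ℂ G (G → ℂ) :=
    { toFun := fun g => LinearMap.funLeft ℂ ℂ (fun x => g⁻¹ * x)
      map_one' := by ext v x; simp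
      map_mul' := fun a b => by ext v x; simp [mul_assoc] }
  let σ := repTransport ρ (finBasis ℂ (G → ℂ)).equivFun
  have h0 := avg_eq_zero hf h _ _ σ rfl
  funext k
  have h1 := congrArg (fun F => ((finBasis ℂ (G → ℂ)).equivFun.symm
    (F ((finBasis ℂ (G → ℂ)).equivFun (Pi.single 1 1)))) k⁻¹) h0
  simp only [σ, repTransport_apply, LinearMap.sum_apply, LinearMap.smul_apply, map_sum, map_smul,
    LinearEquiv.symm_apply_apply, Finset.sum_apply, Pi.smul_apply, LinearMap.zero_apply,
    map_zero, Pi.zero_apply] at h1
  rw [Finset.sum_eq_single k] at h1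
  · simpa [ρ] using h1
  · intro b _ hb
    simp [ρ, mul_inv_eq_one, hb]
  · simp

theorem classFun_expansion {f : G → ℂ} (hf : IsClassFunction G f) :
    f = ∑ χ : IrrCharacter G, classInner f (χ : G → ℂ) • (χ : G → ℂ) := by
  classical
  rw [← sub_eq_zero]
  apply classFun_eq_zero
  · intro g k
    simp only [Pi.sub_apply, Finset.sum_apply, Pi.smul_apply, hf g k,
      isClassFunction_character (irr_isCharacter (Subtype.prop _)) g k]
  · intro ψ
    rw [classInner_sub_left, classInner_sum_left]
    simp [classInner_smul_left, irrC_orth]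

theorem classFun_ext {f g : G → ℂ} (hf : IsClassFunction G f) (hg : IsClassFunction G g)
    (h : ∀ χ : IrrCharacter G, classInner f (χ : G → ℂ) = classInner g (χ : G → ℂ)) : f = g := by
  rw [classFun_expansion hf, classFun_expansion hg]
  simp_rw [h]

theorem char_expansion {χ : G → ℂ} (h : IsCharacter G χ) :
    χ = ∑ ψ : IrrCharacter G, classInner χ (ψ : G → ℂ) • (ψ : G → ℂ) :=
  classFun_expansion (isClassFunction_character h)

open scoped Classical in
/-- Second orthogonality relation. -/
theorem second_orth (g h : G) :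
    ∑ χ : IrrCharacter G, (χ : G → ℂ) g * conj ((χ : G → ℂ) h) =
      if IsConj g h then ((Nat.card G : ℂ) / Nat.card {x : G // IsConj h x}) else 0 := by
  set f : G → ℂ := fun x => if IsConj h x then 1 else 0 with hf
  have hcf : IsClassFunction G f := fun x k => by
    have : IsConj h (k * x * k⁻¹) ↔ IsConj h x :=
      ⟨fun h' => h'.trans (isConj_iff.mpr ⟨k⁻¹, by group⟩),
        fun h' => h'.trans (isConj_iff.mpr ⟨k, rfl⟩)⟩
    simp only [hf, this]
  have hin : ∀ χ : IrrCharacter G, classInner f (χ : G → ℂ) =
      (Nat.card G : ℂ)⁻¹ * (Nat.card {x : G // IsConj h x} * conj ((χ : G → ℂ) h)) := by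
    intro χ
    simp only [classInner, hf, ite_mul, one_mul, zero_mul]
    rw [← Finset.sum_filter, Finset.sum_congr rfl (g := fun _ => conj ((χ : G → ℂ) h)),
      Finset.sum_const, nsmul_eq_mul, Nat.card_eq_fintype_card (α := {x // IsConj h x}),
      Fintype.card_subtype]
    intro x hx
    obtain ⟨k, hk⟩ := isConj_iff.mp (Finset.mem_filter.mp hx).2
    rw [← hk, isClassFunction_character (irr_isCharacter χ.2)]
  have hfg := congrFun (classFun_expansion hcf) g
  simp only [Finset.sum_apply, Pi.smul_apply, smul_eq_mul, hin] at hfg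
  have hne : (Nat.card G : ℂ) ≠ 0 := by simp
  have hne' : (Nat.card {x : G // IsConj h x} : ℂ) ≠ 0 := by
    have : Nonempty {x : G // IsConj h x} := ⟨⟨h, IsConj.refl h⟩⟩
    simp
  have hsum : ∑ χ : IrrCharacter G, (χ : G → ℂ) g * conj ((χ : G → ℂ) h) =
      (Nat.card G : ℂ) / Nat.card {x : G // IsConj h x} * f g := by
    rw [hfg, Finset.mul_sum]
    refine Finset.sum_congr rfl fun χ _ => ?_
    field_simp
  rw [hsum]
  have : IsConj g h ↔ IsConj h g := ⟨IsConj.symm, IsConj.symm⟩
  simp only [hf, this, mul_ite, mul_one, mul_zero]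

end Complete

theorem card_irr : Nat.card (IrrCharacter G) = Nat.card (ConjClasses G) := by
  classical
  have := Fintype.ofFinite G
  have := Fintype.ofFinite (ConjClasses G)
  let S : Submodule ℂ (G → ℂ) :=
    { carrier := {f | IsClassFunction G f}
      zero_mem' := fun _ _ => rfl
      add_mem' := fun hf hg x k => by simp [hf x k, hg x k]
      smul_mem' := fun r f hf x k => by simp [hf x k] }
  let F : (ConjClasses G → ℂ) →ₗ[ℂ] (G → ℂ) := LinearMap.funLeft ℂ ℂ ConjClasses.mk
  have hF : LinearMap.range F = S := by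
    apply le_antisymm
    · rintro _ ⟨φ, rfl⟩ x k
      show φ (ConjClasses.mk _) = φ (ConjClasses.mk x)
      exact congrArg φ (ConjClasses.mk_eq_mk_iff_isConj.mpr (isConj_iff.mpr ⟨k⁻¹, by group⟩))
    · intro f hf
      refine ⟨Quotient.lift f fun a b hab => ?_, rfl⟩
      obtain ⟨k, hk⟩ := isConj_iff.mp hab
      rw [← hk, hf a k]
  have hspan : Submodule.span ℂ (Set.range fun χ : IrrCharacter G => (χ : G → ℂ)) = S := by
    apply le_antisymm
    · rw [Submodule.span_le]
      rintro _ ⟨χ, rfl⟩
      exact isClassFunction_character (irr_isCharacter χ.2)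
    · intro f hf
      rw [classFun_expansion hf]
      exact Submodule.sum_mem _ fun χ _ => Submodule.smul_mem _ _ (Submodule.subset_span ⟨χ, rfl⟩)
  have h1 := finrank_span_eq_card (linearIndependent_irr (G := G))
  rw [hspan, ← hF, LinearMap.finrank_range_of_inj
    (LinearMap.funLeft_injective_of_surjective _ _ _ ConjClasses.mk_surjective),
    Module.finrank_fintype_fun_eq_card] at h1
  rw [Nat.card_eq_fintype_card, Nat.card_eq_fintype_card, h1]

omit [Finite G] in
theorem isIrrCharacter_one : IsIrrCharacter G (fun _ => 1) := by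
  have h : (Representation.trivial ℂ G ℂ).character = fun _ => 1 := by
    funext g
    simp [Representation.character]
  rw [← h]
  refine isIrrCharacter_character _ ?_
  have : Nontrivial (Subrepresentation (Representation.trivial ℂ G ℂ)) := ⟨⟨⊥, ⊤, fun hbt =>
    bot_ne_top (α := Submodule ℂ ℂ) (congrArg Subrepresentation.toSubmodule hbt)⟩⟩
  refine ⟨fun S => ?_⟩
  rcases eq_bot_or_eq_top S.toSubmodule with h | h
  · exact Or.inl (Subrepresentation.toSubmodule_injective h)
  · exact Or.inr (Subrepresentation.toSubmodule_injective h)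

/-- A character of norm one is irreducible. -/
theorem isIrr_of_norm_one [Fintype G] {χ : G → ℂ} (h : IsCharacter G χ)
    (h1 : classInner χ χ = 1) : IsIrrCharacter G χ := by
  classical
  obtain ⟨m, hm⟩ := exists_decomposition h
  have hsq : (∑ ψ, m ψ * m ψ : ℕ) = 1 := by
    have : classInner χ χ = ∑ ψ, (m ψ : ℂ) * m ψ := by
      conv_lhs => arg 2; rw [hm]
      rw [classInner_sum_right]
      refine Finset.sum_congr rfl fun ψ _ => ?_
      rw [← Nat.cast_smul_eq_nsmul ℂ, classInner_smul_right, decomposition_coeff m hm ψ]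
      simp
    rw [h1] at this
    exact_mod_cast this.symm
  obtain ⟨ψ0, -, hψ0⟩ := Finset.exists_ne_zero_of_sum_ne_zero (hsq ▸ one_ne_zero :
    (∑ ψ, m ψ * m ψ) ≠ 0)
  rw [← Finset.add_sum_erase _ _ (Finset.mem_univ ψ0)] at hsq
  have hpos : 1 ≤ m ψ0 * m ψ0 := Nat.one_le_iff_ne_zero.mpr hψ0
  have hm0 : m ψ0 = 1 := Nat.eq_one_of_mul_eq_one_right (show m ψ0 * m ψ0 = 1 by omega)
  have hrest : ∀ ψ ∈ Finset.univ.erase ψ0, m ψ = 0 := fun ψ hψ => by
    have := (Finset.sum_eq_zero_iff.mp
      (show ∑ x ∈ Finset.univ.erase ψ0, m x * m x = 0 by omega)) ψ hψ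
    exact mul_self_eq_zero.mp this
  rw [hm, Finset.sum_eq_single ψ0 (fun ψ _ hne => by
    rw [hrest ψ (Finset.mem_erase.mpr ⟨hne, Finset.mem_univ _⟩), zero_smul]) (by simp), hm0,
    one_smul]
  exact ψ0.2

theorem isIrr_iff_norm_one [Fintype G] {χ : G → ℂ} :
    IsIrrCharacter G χ ↔ IsCharacter G χ ∧ classInner χ χ = 1 :=
  ⟨fun h => ⟨irr_isCharacter h, irr_self h⟩, fun h => isIrr_of_norm_one h.1 h.2⟩

end Irr

end Cfsg.Agent.Char
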