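import Cfsg.Agent.Lib.Char.Central
import Cfsg.Agent.Lib.Char.Ortho
import Cfsg.Agent.Lib.Char.Basic

/-!
# Convolution of irreducible characters, Frobenius' commutator formula
-/

set_option autoImplicit false
set_option linter.unusedSectionVars false

namespace Cfsg.Agent.Char

open Cfsg Module
open scoped ComplexConjugate

universe u v

variable {G : Type u} [Group G] [Fintype G]

/-- An endomorphism commuting with an irreducible representation is its trace over the degree. -/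
theorem trace_mul_of_comm {V : Type v} [AddCommGroup V] [Module ℂ V] [FiniteDimensional ℂ V]
    (ρ : Representation ℂ G V) [ρ.IsIrreducible] (T : V →ₗ[ℂ] V)
    (hcomm : ∀ k v, T (ρ k v) = ρ k (T v)) (g : G) :
    ρ.character 1 * LinearMap.trace ℂ V (T * ρ g) = LinearMap.trace ℂ V T * ρ.character g := by
  let Ti : ρ.IntertwiningMap ρ := T.intertwiningMap_of_isIntertwiningMap ρ ρ hcomm
  obtain ⟨c, hc⟩ :=
    (Representation.IsIrreducible.algebraMap_intertwiningMap_bijective_of_isAlgClosed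
      (ρ := ρ) (k := ℂ)).2 Ti
  have hTc : T = c • LinearMap.id := by
    ext v
    have := congrArg (fun F : ρ.IntertwiningMap ρ => F v) hc
    rw [show T v = Ti v from rfl, ← this]
    rfl
  rw [hTc, ← Module.End.one_eq_id, smul_mul_assoc, one_mul, map_smul, map_smul,
    Representation.char_one, LinearMap.trace_one]
  change (_ : ℂ) * (c • ρ.character g) = _
  simp only [smul_eq_mul]
  ring

/-- The average of a character over products with a class. -/
theorem sum_conj_mul {χ : G → ℂ} (h : IsIrrCharacter G χ) (x y : G) :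
    χ 1 * ∑ t : G, χ (x * (t * y * t⁻¹)) = (Nat.card G : ℂ) * χ x * χ y := by
  obtain ⟨n, ρ, hirr, rfl⟩ := h
  set T : (Fin n → ℂ) →ₗ[ℂ] (Fin n → ℂ) := ∑ t : G, ρ (t * y * t⁻¹) with hT
  have hcomm : ∀ k v, T (ρ k v) = ρ k (T v) := by
    intro k v
    simp only [hT, LinearMap.sum_apply, map_sum]
    refine Fintype.sum_equiv (Equiv.mulLeft k⁻¹) _ _ fun t => ?_
    rw [Equiv.coe_mulLeft, ← Module.End.mul_apply, ← map_mul, ← Module.End.mul_apply, ← map_mul]
    congr 2
    group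
  have htr : LinearMap.trace ℂ _ T = (Nat.card G : ℂ) * ρ.character y := by
    rw [hT, map_sum]
    trans ∑ _t : G, ρ.character y
    · exact Finset.sum_congr rfl fun t _ => Representation.char_conj ρ y t
    · rw [Finset.sum_const, Finset.card_univ, nsmul_eq_mul, Nat.card_eq_fintype_card]
  have key := trace_mul_of_comm ρ T hcomm x
  rw [htr] at key
  rw [mul_right_comm, ← key, hT, Finset.sum_mul, map_sum]
  congr 1
  refine Finset.sum_congr rfl fun t _ => ?_
  rw [← map_mul]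
  exact (Representation.char_mul_comm ρ x (t * y * t⁻¹)).symm

/-- Generalized orthogonality. -/
theorem irr_convolution {χ ψ : G → ℂ} (hχ : IsIrrCharacter G χ) (hψ : IsIrrCharacter G ψ) (g : G) :
    ψ 1 * ∑ x : G, χ x * ψ (x⁻¹ * g) = if χ = ψ then (Nat.card G : ℂ) * ψ g else 0 := by
  have horth := irr_orth hχ hψ
  have hinv : ∀ x, ψ x⁻¹ = conj (ψ x) := char_inv (irr_isCharacter hψ)
  have hcf : IsClassFunction G χ := isClassFunction_character (irr_isCharacter hχ)
  obtain ⟨n, ρ, hirr, rfl⟩ := hψ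
  set T : (Fin n → ℂ) →ₗ[ℂ] (Fin n → ℂ) := ∑ x : G, χ x • ρ x⁻¹ with hT
  have hcomm : ∀ k v, T (ρ k v) = ρ k (T v) := by
    intro k v
    simp only [hT, LinearMap.sum_apply, LinearMap.smul_apply, map_sum, map_smul]
    refine Fintype.sum_equiv (MulAut.conj k⁻¹).toEquiv _ _ fun x => ?_
    rw [show (MulAut.conj k⁻¹).toEquiv x = k⁻¹ * x * k⁻¹⁻¹ from rfl, hcf x k⁻¹,
      ← Module.End.mul_apply, ← map_mul, ← Module.End.mul_apply, ← map_mul]
    congr 3
    group
  have htr : LinearMap.trace ℂ _ T = if χ = ρ.character then (Nat.card G : ℂ) else 0 := by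
    have : LinearMap.trace ℂ _ T = (Nat.card G : ℂ) * classInner χ ρ.character := by
      rw [classInner, mul_inv_cancel_left₀ (Nat.cast_ne_zero.mpr Nat.card_pos.ne'), hT, map_sum]
      refine Finset.sum_congr rfl fun x _ => ?_
      rw [map_smul, smul_eq_mul, ← hinv]
      rfl
    rw [this, horth, mul_ite, mul_one, mul_zero]
  have key := trace_mul_of_comm ρ T hcomm g
  rw [htr] at key
  rw [← zero_mul (ρ.character g), ← ite_mul, ← key, hT, Finset.sum_mul, map_sum]
  congr 1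
  refine Finset.sum_congr rfl fun x _ => ?_
  rw [smul_mul_assoc, map_smul, smul_eq_mul, ← map_mul]
  rfl

theorem isConj_of_forall_irr_eq {g h : G}
    (hgh : ∀ χ : IrrCharacter G, (χ : G → ℂ) g = (χ : G → ℂ) h) : IsConj g h := by
  by_contra hc
  have h1 := second_orth g h
  simp only [hgh] at h1
  rw [second_orth h h, if_pos (IsConj.refl h), if_neg hc] at h1
  exact div_ne_zero (Nat.cast_ne_zero.mpr Nat.card_pos.ne')
    (Nat.cast_ne_zero.mpr (card_conjClass_ne_zero h)) h1

/-- Frobenius: the number of solutions of `[x, y] = z`. -/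
theorem card_commutator_eq (z : G) :
    (Nat.card {xy : G × G // xy.1 * xy.2 * xy.1⁻¹ * xy.2⁻¹ = z} : ℂ) =
      (Nat.card G : ℂ) * ∑ χ : IrrCharacter G, (χ : G → ℂ) z / (χ : G → ℂ) 1 := by
  classical
  have e : {xy : G × G // xy.1 * xy.2 * xy.1⁻¹ * xy.2⁻¹ = z} ≃
      Σ x : G, {y : G // y * x⁻¹ * y⁻¹ = x⁻¹ * z} :=
    { toFun := fun w => ⟨w.1.1, w.1.2, by
        have h := w.2
        calc w.1.2 * w.1.1⁻¹ * w.1.2⁻¹ = w.1.1⁻¹ * (w.1.1 * w.1.2 * w.1.1⁻¹ * w.1.2⁻¹) := by group
          _ = w.1.1⁻¹ * z := by rw [h]⟩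
      invFun := fun w => ⟨(w.1, w.2.1), by
        have h := w.2.2
        calc w.1 * w.2.1 * w.1⁻¹ * w.2.1⁻¹ = w.1 * (w.2.1 * w.1⁻¹ * w.2.1⁻¹) := by group
          _ = z := by rw [h]; group⟩
      left_inv := fun w => rfl
      right_inv := fun w => rfl }
  rw [Nat.card_congr e, Nat.card_sigma, Nat.cast_sum, Finset.mul_sum]
  have hcount : ∀ x : G, (Nat.card {y : G // y * x⁻¹ * y⁻¹ = x⁻¹ * z} : ℂ) =
      ∑ χ : IrrCharacter G, (χ : G → ℂ) x * (χ : G → ℂ) (x⁻¹ * z) := by
    intro x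
    have h2 := second_orth (x⁻¹ * z) x⁻¹
    rw [Finset.sum_congr rfl (g := fun χ : IrrCharacter G =>
      (χ : G → ℂ) (x⁻¹ * z) * conj ((χ : G → ℂ) x⁻¹)) (fun χ _ => by
      rw [← char_inv (irr_isCharacter χ.2), inv_inv, mul_comm]), h2]
    by_cases hc : IsConj (x⁻¹ * z) x⁻¹
    · rw [if_pos hc, eq_div_iff (Nat.cast_ne_zero.mpr (card_conjClass_ne_zero _))]
      obtain ⟨a, ha⟩ := isConj_iff.mp hc.symm
      have : Nat.card {y : G // y * x⁻¹ * y⁻¹ = x⁻¹ * z} =
          Nat.card (Subgroup.centralizer ({x⁻¹} : Set G)) := by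
        refine Nat.card_congr
          { toFun := fun y => ⟨a⁻¹ * y.1, Subgroup.mem_centralizer_singleton_iff.mpr ?_⟩
            invFun := fun c => ⟨a * c.1, ?_⟩
            left_inv := fun y => Subtype.ext (by simp)
            right_inv := fun c => Subtype.ext (by simp) }
        · have h := y.2.trans ha.symm
          calc a⁻¹ * y.1 * x⁻¹ = a⁻¹ * (y.1 * x⁻¹ * y.1⁻¹) * y.1 := by group
            _ = x⁻¹ * (a⁻¹ * y.1) := by rw [h]; group
        · have h := Subgroup.mem_centralizer_singleton_iff.mp c.2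
          rw [← ha]
          calc a * c.1 * x⁻¹ * (a * c.1)⁻¹ = a * (c.1 * x⁻¹) * (a * c.1)⁻¹ := by group
            _ = a * x⁻¹ * a⁻¹ := by rw [h]; group
      rw [this, mul_comm, ← Nat.cast_mul, card_conjClass_mul_centralizer]
    · rw [if_neg hc, Nat.cast_eq_zero, Nat.card_eq_zero]
      exact Or.inl ⟨fun y => hc (isConj_iff.mpr ⟨y.1, y.2⟩).symm⟩
  rw [Finset.sum_congr rfl fun x _ => hcount x, Finset.sum_comm]
  refine Finset.sum_congr rfl fun χ _ => ?_
  have h1 := irr_convolution χ.2 χ.2 z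
  rw [if_pos rfl] at h1
  rw [← mul_div_assoc, eq_div_iff (irr_one_ne_zero χ.2), mul_comm, h1]

/-- The number of ways of writing an element as a product of two commutators. -/
theorem sum_commutator_pairs (g : G) :
    ∑ z : G, (Nat.card {xy : G × G // xy.1 * xy.2 * xy.1⁻¹ * xy.2⁻¹ = z} : ℂ) *
        (Nat.card {xy : G × G // xy.1 * xy.2 * xy.1⁻¹ * xy.2⁻¹ = z⁻¹ * g} : ℂ) =
      (Nat.card G : ℂ) ^ 3 * ∑ χ : IrrCharacter G, (χ : G → ℂ) g / (χ : G → ℂ) 1 ^ 3 := by
  classical
  simp only [card_commutator_eq, Finset.mul_sum, Finset.sum_mul]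
  rw [Finset.sum_comm]
  refine Finset.sum_congr rfl fun χ _ => ?_
  rw [Finset.sum_comm, Finset.sum_eq_single χ]
  · have h1 := irr_convolution χ.2 χ.2 g
    rw [if_pos rfl] at h1
    have hne := irr_one_ne_zero χ.2
    rw [Finset.sum_congr rfl (g := fun z => (Nat.card G : ℂ) ^ 2 / (χ : G → ℂ) 1 ^ 2 *
        ((χ : G → ℂ) z * (χ : G → ℂ) (z⁻¹ * g))) (fun z _ => by field_simp),
      ← Finset.mul_sum]
    field_simp
    linear_combination h1
  · intro ψ _ hne
    have hn2 : (ψ : G → ℂ) ≠ (χ : G → ℂ) := fun h => hne (Subtype.ext h)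
    have h1 := irr_convolution ψ.2 χ.2 g
    rw [if_neg hn2] at h1
    have h2 := (mul_eq_zero.mp h1).resolve_left (irr_one_ne_zero χ.2)
    rw [Finset.sum_congr rfl (g := fun z => (Nat.card G : ℂ) ^ 2 / ((ψ : G → ℂ) 1 * (χ : G → ℂ) 1) *
        ((ψ : G → ℂ) z * (χ : G → ℂ) (z⁻¹ * g))) (fun z _ => by
          field_simp), ← Finset.mul_sum, h2, mul_zero]
  · simp

end Cfsg.Agent.Char
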