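import Cfsg.Agent.Lib.Char.Ortho

/-!
# Regular character, linear characters, central characters, integrality
-/

set_option autoImplicit false

namespace Cfsg.Agent.Char

open Cfsg Module
open scoped ComplexConjugate

universe u

variable {G : Type u} [Group G]

section Degree

/-- Degree of a character as a natural number. -/
noncomputable def deg (χ : G → ℂ) : ℕ := ⌊(χ 1).re⌋₊

theorem char_one_eq_deg {χ : G → ℂ} (h : IsCharacter G χ) : χ 1 = deg χ := by
  obtain ⟨n, hn⟩ := charOne_eq_natCast h
  simp [deg, hn]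

theorem deg_pos {χ : G → ℂ} (h : IsIrrCharacter G χ) : 0 < deg χ := by
  rw [Nat.pos_iff_ne_zero]
  intro h0
  exact irr_one_ne_zero h (by rw [char_one_eq_deg (irr_isCharacter h), h0, Nat.cast_zero])

theorem conj_char_one {χ : G → ℂ} (h : IsCharacter G χ) : conj (χ 1) = χ 1 := by
  rw [char_one_eq_deg h, map_natCast]

end Degree

section Linear

/-- A homomorphism to `ℂˣ` viewed as a representation on `ℂ`. -/
noncomputable def linRep (l : G →* ℂˣ) : Representation ℂ G ℂ where
  toFun g := (l g : ℂ) • LinearMap.id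
  map_one' := by ext; simp
  map_mul' a b := by ext; simp [mul_comm]

theorem linRep_character (l : G →* ℂˣ) : (linRep l).character = fun g => (l g : ℂ) := by
  funext g
  simp [linRep, Representation.character]

theorem isIrrCharacter_linear (l : G →* ℂˣ) : IsIrrCharacter G (fun g => (l g : ℂ)) := by
  rw [← linRep_character l]
  refine isIrrCharacter_character _ ?_
  have : Nontrivial (Subrepresentation (linRep l)) := ⟨⟨⊥, ⊤, fun hbt =>
    bot_ne_top (α := Submodule ℂ ℂ) (congrArg Subrepresentation.toSubmodule hbt)⟩⟩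
  refine ⟨fun S => ?_⟩
  rcases eq_bot_or_eq_top S.toSubmodule with h | h
  · exact Or.inl (Subrepresentation.toSubmodule_injective h)
  · exact Or.inr (Subrepresentation.toSubmodule_injective h)

theorem isCharacter_linear (l : G →* ℂˣ) : IsCharacter G (fun g => (l g : ℂ)) :=
  irr_isCharacter (isIrrCharacter_linear l)

theorem exists_hom_of_degree_one {χ : G → ℂ} (h : IsCharacter G χ) (h1 : χ 1 = 1) :
    ∃ l : G →* ℂˣ, χ = fun g => (l g : ℂ) := by
  obtain ⟨n, ρ, rfl⟩ := h
  have hn : n = 1 := by
    have := h1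
    rw [Representation.char_one] at this
    simpa using this
  subst hn
  have hmul : ∀ a b, ρ.character (a * b) = ρ.character a * ρ.character b := by
    intro a b
    have key : ∀ T : (Fin 1 → ℂ) →ₗ[ℂ] (Fin 1 → ℂ),
        LinearMap.trace ℂ _ T = LinearMap.det T := by
      intro T
      rw [LinearMap.trace_eq_matrix_trace ℂ (Pi.basisFun ℂ (Fin 1)), ← LinearMap.det_toMatrix
        (Pi.basisFun ℂ (Fin 1)), Matrix.det_fin_one, Matrix.trace_fin_one]
    simp [Representation.character, key, map_mul]
  refine ⟨(show G →* ℂ from ⟨⟨ρ.character, h1⟩, hmul⟩).toHomUnits, ?_⟩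
  funext g
  simp

theorem linear_pow_card [Finite G] (l : G →* ℂˣ) (g : G) : ((l g : ℂ)) ^ orderOf g = 1 := by
  rw [← Units.val_pow_eq_pow_val, ← map_pow, pow_orderOf_eq_one, map_one, Units.val_one]

end Linear

section Regular

variable [Fintype G]

theorem regular_sum [DecidableEq G] (g : G) :
    ∑ χ : IrrCharacter G, (χ : G → ℂ) 1 * (χ : G → ℂ) g =
      if g = 1 then (Nat.card G : ℂ) else 0 := by
  classical
  have h := second_orth g 1
  have hiff : IsConj g 1 ↔ g = 1 := by simp
  have hcard : Nat.card {x : G // IsConj (1 : G) x} = 1 := by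
    simp
  simp only [hiff, hcard, Nat.cast_one, div_one] at h
  calc ∑ χ : IrrCharacter G, (χ : G → ℂ) 1 * (χ : G → ℂ) g
      = ∑ χ : IrrCharacter G, (χ : G → ℂ) g * conj ((χ : G → ℂ) 1) :=
        Finset.sum_congr rfl fun χ _ => by rw [conj_char_one (irr_isCharacter χ.2), mul_comm]
    _ = _ := by rw [h]

theorem sum_sq_deg : ∑ χ : IrrCharacter G, (χ : G → ℂ) 1 ^ 2 = (Nat.card G : ℂ) := by
  classical
  simpa [pow_two] using regular_sum (1 : G)

end Regular

section Central

variable [Finite G]

omit [Finite G] in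
theorem card_conjClass_eq_index (g : G) :
    Nat.card {x : G // IsConj g x} = (Subgroup.centralizer ({g} : Set G)).index := by
  classical
  rw [Subgroup.centralizer_eq_comap_stabilizer]
  refine Eq.trans ?_ (Subgroup.index_comap_of_surjective (MulAction.stabilizer (ConjAct G) g)
    (f := ConjAct.toConjAct.toMonoidHom) ConjAct.toConjAct.surjective).symm
  rw [MulAction.index_stabilizer, ← Nat.card_coe_set_eq]
  exact Nat.card_congr (Equiv.subtypeEquivRight fun x => by
    rw [ConjAct.mem_orbit_conjAct, isConj_comm])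

omit [Finite G] in
theorem card_conjClass_mul_centralizer (g : G) :
    Nat.card {x : G // IsConj g x} * Nat.card (Subgroup.centralizer ({g} : Set G)) = Nat.card G := by
  rw [card_conjClass_eq_index, Subgroup.index_mul_card]

theorem card_conjClass_ne_zero (g : G) : Nat.card {x : G // IsConj g x} ≠ 0 := by
  have : Nonempty {x : G // IsConj g x} := ⟨⟨g, IsConj.refl g⟩⟩
  exact Nat.card_ne_zero.mpr ⟨this, inferInstance⟩

variable {V : Type*} [AddCommGroup V] [Module ℂ V] [FiniteDimensional ℂ V]

omit [Finite G] [FiniteDimensional ℂ V] in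
theorem classSum_comm (ρ : Representation ℂ G V) [Fintype G]
    (g : G) [DecidablePred (IsConj g)] (k : G) (v : V) :
    (∑ x : G with IsConj g x, ρ x) (ρ k v) = ρ k ((∑ x : G with IsConj g x, ρ x) v) := by
  classical
  simp only [LinearMap.sum_apply, map_sum]
  refine Finset.sum_equiv (MulAut.conj k⁻¹).toEquiv (fun x => ?_) (fun x _ => ?_)
  · simp only [Finset.mem_filter, Finset.mem_univ, true_and]
    exact ⟨fun h => h.trans (isConj_iff.mpr ⟨k⁻¹, rfl⟩),
      fun h => h.trans (isConj_iff.mpr ⟨k, by simp [mul_assoc]⟩)⟩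
  · rw [show (MulAut.conj k⁻¹).toEquiv x = k⁻¹ * x * k⁻¹⁻¹ from rfl,
      ← Module.End.mul_apply, ← map_mul, ← Module.End.mul_apply, ← map_mul]
    congr 2
    group

/-- The scalar by which the class sum of `g` acts: `|g^G| χ(g) / χ(1)`. -/
noncomputable def omega (χ : G → ℂ) (g : G) : ℂ :=
  (Nat.card {x : G // IsConj g x} : ℂ) * χ g / χ 1

open scoped Classical in
theorem classSum_eq_omega [Fintype G] (ρ : Representation ℂ G V) [hirr : ρ.IsIrreducible] (g : G) :
    (∑ x : G with IsConj g x, ρ x) = omega ρ.character g • LinearMap.id := by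
  set T : V →ₗ[ℂ] V := ∑ x : G with IsConj g x, ρ x with hT
  have hcomm : ∀ k v, T (ρ k v) = ρ k (T v) := fun k v => classSum_comm ρ g k v
  let Ti : ρ.IntertwiningMap ρ := T.intertwiningMap_of_isIntertwiningMap ρ ρ hcomm
  obtain ⟨c, hc⟩ :=
    (Representation.IsIrreducible.algebraMap_intertwiningMap_bijective_of_isAlgClosed
      (ρ := ρ) (k := ℂ)).2 Ti
  have hTc : T = c • LinearMap.id := by
    ext v
    have := congrArg (fun F : ρ.IntertwiningMap ρ => F v) hc
    rw [show T v = Ti v from rfl, ← this]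
    rfl
  rw [hTc]
  congr 1
  have h1 : LinearMap.trace ℂ V T = (Nat.card {x : G // IsConj g x} : ℂ) * ρ.character g := by
    rw [hT, map_sum, Finset.sum_congr rfl (g := fun _ => ρ.character g), Finset.sum_const,
      nsmul_eq_mul, Nat.card_eq_fintype_card, Fintype.card_subtype]
    intro x hx
    obtain ⟨k, hk⟩ := isConj_iff.mp (Finset.mem_filter.mp hx).2
    exact hk ▸ Representation.char_conj ρ g k
  rw [hTc, map_smul, LinearMap.trace_id, smul_eq_mul] at h1
  have hne : ρ.character 1 ≠ 0 := irr_one_ne_zero (isIrrCharacter_character ρ hirr)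
  rw [omega, eq_div_iff hne, ← h1, Representation.char_one]

theorem omega_isIntegral {χ : G → ℂ} (h : IsIrrCharacter G χ) (g : G) :
    IsIntegral ℤ (omega χ g) := by
  classical
  obtain ⟨n, ρ, hρ, rfl⟩ := h
  have := hρ
  have := Fintype.ofFinite G
  let F : MonoidAlgebra ℤ G →ₐ[ℤ] Module.End ℂ (Fin n → ℂ) := MonoidAlgebra.lift ℤ _ G ρ
  have hint : IsIntegral ℤ (∑ x : G with IsConj g x, MonoidAlgebra.single x (1 : ℤ)) :=
    IsIntegral.of_finite ℤ _
  have h2 := hint.map F
  rw [map_sum] at h2
  simp only [F, MonoidAlgebra.lift_single, one_smul] at h2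
  rw [classSum_eq_omega ρ g, ← Module.End.one_eq_id, ← Algebra.algebraMap_eq_smul_one] at h2
  refine (isIntegral_algebraMap_iff ?_).mp h2
  have : Nontrivial (Fin n → ℂ) := by
    refine Module.nontrivial_of_finrank_pos (R := ℂ) (Nat.pos_of_ne_zero fun h0 => ?_)
    exact irr_one_ne_zero (isIrrCharacter_character ρ hρ) (by simp [Representation.char_one, h0])
  exact (algebraMap ℂ (Module.End ℂ (Fin n → ℂ))).injective

theorem isIntegral_rat_cast_imp {q : ℚ} (h : IsIntegral ℤ (q : ℂ)) : ∃ z : ℤ, (z : ℚ) = q := by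
  have h' : IsIntegral ℤ q :=
    (isIntegral_algebraMap_iff (algebraMap ℚ ℂ).injective (A := ℚ)).mp (by simpa using h)
  obtain ⟨z, hz⟩ := IsIntegrallyClosed.isIntegral_iff.mp h'
  exact ⟨z, by simpa using hz⟩

omit [Finite G] in
theorem sum_omega_conj [Fintype G] {χ : G → ℂ} (h : IsIrrCharacter G χ) :
    ∑ g : G, χ g / χ 1 * conj (χ g) = (Nat.card G : ℂ) / χ 1 := by
  have h1 := irr_self h
  rw [classInner, inv_mul_eq_iff_eq_mul₀ (by simp), mul_one] at h1
  simp only [div_mul_eq_mul_div, ← Finset.sum_div, h1]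

theorem deg_dvd_card {χ : G → ℂ} (h : IsIrrCharacter G χ) : deg χ ∣ Nat.card G := by
  classical
  have := Fintype.ofFinite G
  have := Fintype.ofFinite (ConjClasses G)
  have hI : IsIntegral ℤ (∑ g : G, χ g / χ 1 * conj (χ g)) := by
    rw [← Finset.sum_fiberwise Finset.univ ConjClasses.mk]
    refine IsIntegral.sum _ fun C _ => ?_
    obtain ⟨g, rfl⟩ := ConjClasses.exists_rep C
    rw [Finset.sum_congr rfl (g := fun _ => χ g / χ 1 * conj (χ g)), Finset.sum_const,
      nsmul_eq_mul]
    · have hc : (Finset.univ.filter fun x : G => ConjClasses.mk x = ConjClasses.mk g).card =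
          Nat.card {x : G // IsConj g x} := by
        rw [Nat.card_eq_fintype_card, Fintype.card_subtype]
        congr 1
        ext x
        simp only [Finset.mem_filter, Finset.mem_univ, true_and, ConjClasses.mk_eq_mk_iff_isConj]
        exact ⟨IsConj.symm, IsConj.symm⟩
      rw [hc, ← mul_assoc, ← mul_div_assoc, ← char_inv (irr_isCharacter h)]
      exact (omega_isIntegral h g).mul (char_isIntegral (irr_isCharacter h) _)
    · intro x hx
      obtain ⟨k, hk⟩ :=
        isConj_iff.mp (ConjClasses.mk_eq_mk_iff_isConj.mp (Finset.mem_filter.mp hx).2).symm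
      rw [← hk, isClassFunction_character (irr_isCharacter h)]
  rw [sum_omega_conj h, char_one_eq_deg (irr_isCharacter h)] at hI
  obtain ⟨z, hz⟩ := isIntegral_rat_cast_imp (q := (Nat.card G : ℚ) / deg χ) (by push_cast; exact hI)
  have hd : (deg χ : ℚ) ≠ 0 := Nat.cast_ne_zero.mpr (deg_pos h).ne'
  rw [eq_div_iff hd] at hz
  exact Int.natCast_dvd_natCast.mp ⟨z, by rw [mul_comm]; exact_mod_cast hz.symm⟩

end Central

end Cfsg.Agent.Char
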