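import Cfsg.Agent.Lib.Char.LocalRing

/-!
# Class functions as central elements of the group algebra
-/

set_option autoImplicit false

namespace Cfsg.Agent.Char

open Cfsg Module
open scoped ComplexConjugate

universe u

variable {G : Type u} [Group G]

theorem omega_eq_centralChar (χ : G → ℂ) (g : G) : omega χ g = centralChar χ g := by
  rw [omega, centralChar, card_conjClass_eq_index]

variable [Fintype G]

/-- Convolution product. -/
noncomputable def conv (f g : G → ℂ) : G → ℂ := fun x => ∑ y : G, f y * g (y⁻¹ * x)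

/-- The central character of `χ` applied to `∑ f x • x`. -/
noncomputable def lam (χ f : G → ℂ) : ℂ := (∑ x : G, f x * χ x) / χ 1

/-- The coefficient function of the central idempotent of `χ`. -/
noncomputable def idem (χ : G → ℂ) : G → ℂ := fun x => (Nat.card G : ℂ)⁻¹ * (χ 1 * conj (χ x))

theorem lam_add (χ f g : G → ℂ) : lam χ (f + g) = lam χ f + lam χ g := by
  simp [lam, add_mul, Finset.sum_add_distrib, add_div]

theorem lam_smul (r : ℂ) (χ f : G → ℂ) : lam χ (r • f) = r * lam χ f := by
  simp [lam, mul_assoc, ← Finset.mul_sum, mul_div_assoc]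

theorem lam_sum {ι : Type*} (s : Finset ι) (χ : G → ℂ) (f : ι → G → ℂ) :
    lam χ (∑ i ∈ s, f i) = ∑ i ∈ s, lam χ (f i) := by
  simp only [lam, Finset.sum_apply, Finset.sum_mul]
  rw [Finset.sum_comm, Finset.sum_div]

theorem lam_sub (χ f g : G → ℂ) : lam χ (f - g) = lam χ f - lam χ g := by
  simp [lam, sub_mul, Finset.sum_sub_distrib, sub_div]

theorem isClassFunction_conv {f g : G → ℂ} (hf : IsClassFunction G f) (hg : IsClassFunction G g) :
    IsClassFunction G (conv f g) := by
  intro x k
  simp only [conv]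
  refine Fintype.sum_equiv (MulAut.conj k⁻¹).toEquiv _ _ fun y => ?_
  rw [show (MulAut.conj k⁻¹).toEquiv y = k⁻¹ * y * k⁻¹⁻¹ from rfl, hf y k⁻¹]
  congr 1
  rw [← hg (y⁻¹ * (k * x * k⁻¹)) k⁻¹]
  congr 1
  group

theorem isClassFunction_idem {χ : G → ℂ} (h : IsCharacter G χ) : IsClassFunction G (idem χ) :=
  fun g k => by simp only [idem, isClassFunction_character h g k]

theorem rep_sum_eq_lam {V : Type*} [AddCommGroup V] [Module ℂ V] [FiniteDimensional ℂ V]
    (ρ : Representation ℂ G V) [hirr : ρ.IsIrreducible] {f : G → ℂ} (hf : IsClassFunction G f) :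
    (∑ x : G, f x • ρ x) = lam ρ.character f • LinearMap.id := by
  set T : V →ₗ[ℂ] V := ∑ x : G, f x • ρ x with hT
  have hcomm : ∀ k v, T (ρ k v) = ρ k (T v) := by
    intro k v
    simp only [hT, LinearMap.sum_apply, LinearMap.smul_apply, map_sum, map_smul]
    refine Fintype.sum_equiv (MulAut.conj k⁻¹).toEquiv _ _ fun g => ?_
    rw [show (MulAut.conj k⁻¹).toEquiv g = k⁻¹ * g * k⁻¹⁻¹ from rfl, hf g k⁻¹,
      ← Module.End.mul_apply, ← map_mul, ← Module.End.mul_apply, ← map_mul]
    congr 3
    group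
  let Ti : ρ.IntertwiningMap ρ := T.intertwiningMap_of_isIntertwiningMap ρ ρ hcomm
  obtain ⟨c, hc⟩ :=
    (Representation.IsIrreducible.algebraMap_intertwiningMap_bijective_of_isAlgClosed
      (ρ := ρ) (k := ℂ)).2 Ti
  have hTc : T = c • LinearMap.id := by
    ext v
    have := congrArg (fun F : ρ.IntertwiningMap ρ => F v) hc
    rw [show T v = Ti v from rfl, ← this]
    rfl
  have h1 : LinearMap.trace ℂ V T = ∑ x : G, f x * ρ.character x := by
    simp [hT, map_sum, Representation.character]
  rw [hTc]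
  congr 1
  rw [hTc, map_smul, LinearMap.trace_id, smul_eq_mul] at h1
  rw [lam, eq_div_iff (irr_one_ne_zero (isIrrCharacter_character ρ hirr)), ← h1,
    Representation.char_one]

theorem lam_conv {χ f g : G → ℂ} (h : IsIrrCharacter G χ) (hf : IsClassFunction G f)
    (hg : IsClassFunction G g) : lam χ (conv f g) = lam χ f * lam χ g := by
  obtain ⟨n, ρ, hρ, rfl⟩ := h
  have := hρ
  have hconv : (∑ x : G, conv f g x • ρ x) = (∑ x : G, f x • ρ x) * (∑ x : G, g x • ρ x) := by
    simp only [conv, Finset.sum_smul]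
    rw [Finset.sum_comm, Finset.sum_mul_sum]
    refine Finset.sum_congr rfl fun y _ => ?_
    refine Fintype.sum_equiv (Equiv.mulLeft y⁻¹) _ _ fun x => ?_
    rw [smul_mul_smul_comm, ← map_mul, Equiv.coe_mulLeft, mul_inv_cancel_left]
  rw [rep_sum_eq_lam ρ (isClassFunction_conv hf hg), rep_sum_eq_lam ρ hf, rep_sum_eq_lam ρ hg,
    ← Module.End.one_eq_id, smul_mul_smul_comm, mul_one] at hconv
  have hne : (1 : Module.End ℂ (Fin n → ℂ)) ≠ 0 := by
    intro h0
    have h2 := congrArg (LinearMap.trace ℂ (Fin n → ℂ)) h0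
    rw [LinearMap.trace_one, map_zero] at h2
    exact irr_one_ne_zero (isIrrCharacter_character ρ hρ) (by rw [Representation.char_one, h2])
  exact smul_left_injective ℂ hne hconv

open scoped Classical in
theorem lam_classInd (χ : G → ℂ) (hχ : IsClassFunction G χ) (g : G) :
    lam χ (fun x => if IsConj g x then 1 else 0) = omega χ g := by
  simp only [lam, omega, ite_mul, one_mul, zero_mul]
  congr 1
  rw [← Finset.sum_filter, Finset.sum_congr rfl (g := fun _ => χ g), Finset.sum_const,
    nsmul_eq_mul, Nat.card_eq_fintype_card, Fintype.card_subtype]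
  intro x hx
  obtain ⟨k, hk⟩ := isConj_iff.mp (Finset.mem_filter.mp hx).2
  rw [← hk, hχ]

open scoped Classical in
theorem lam_idem (χ ψ : IrrCharacter G) :
    lam (χ : G → ℂ) (idem (ψ : G → ℂ)) = if χ = ψ then 1 else 0 := by
  have h : ∑ x : G, idem (ψ : G → ℂ) x * (χ : G → ℂ) x =
      (ψ : G → ℂ) 1 * classInner (χ : G → ℂ) (ψ : G → ℂ) := by
    simp only [idem, classInner, Finset.mul_sum]
    exact Finset.sum_congr rfl fun x _ => by ring
  rw [lam, h, irrC_orth]
  split_ifs with he
  · subst he
    rw [mul_one, div_self (irr_one_ne_zero χ.2)]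
  · simp

theorem classFun_eq_sum_idem {f : G → ℂ} (hf : IsClassFunction G f) :
    f = ∑ χ : IrrCharacter G, lam (χ : G → ℂ) f • idem (χ : G → ℂ) := by
  classical
  funext x
  have e : ∀ χ : IrrCharacter G, lam (χ : G → ℂ) f * idem (χ : G → ℂ) x =
      (Nat.card G : ℂ)⁻¹ * ∑ y : G, f y * ((χ : G → ℂ) y * conj ((χ : G → ℂ) x)) := by
    intro χ
    have hne := irr_one_ne_zero χ.2
    simp only [lam, idem, ← mul_assoc (f _) ((χ : G → ℂ) _) _, ← Finset.sum_mul]
    field_simp
  simp only [Finset.sum_apply, Pi.smul_apply, smul_eq_mul, e, ← Finset.mul_sum]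
  rw [Finset.sum_comm]
  simp only [← Finset.mul_sum, second_orth]
  simp only [mul_ite, mul_zero]
  rw [← Finset.sum_filter, Finset.sum_congr rfl
      (g := fun _ => f x * ((Nat.card G : ℂ) / Nat.card {y : G // IsConj x y})),
    Finset.sum_const, nsmul_eq_mul]
  · have hc : (Finset.univ.filter fun y : G => IsConj y x).card =
        Nat.card {y : G // IsConj x y} := by
      rw [Nat.card_eq_fintype_card, Fintype.card_subtype]
      exact congrArg _ (Finset.filter_congr fun y _ => ⟨IsConj.symm, IsConj.symm⟩)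
    have hne : (Nat.card {y : G // IsConj x y} : ℂ) ≠ 0 := by
      exact_mod_cast card_conjClass_ne_zero x
    have hG : (Nat.card G : ℂ) ≠ 0 := Nat.cast_ne_zero.mpr Nat.card_pos.ne'
    rw [hc]
    field_simp
  · intro y hy
    obtain ⟨k, hk⟩ := isConj_iff.mp (Finset.mem_filter.mp hy).2
    rw [← hk, hf]

/-- Class-by-class splitting of `lam`. -/
theorem lam_eq_sum_omega [Fintype (ConjClasses G)] {χ f : G → ℂ} (hχ : IsClassFunction G χ)
    (hf : IsClassFunction G f) :
    lam χ f = ∑ C : ConjClasses G, f C.out * omega χ C.out := by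
  classical
  simp only [lam, omega, ← mul_div_assoc, ← Finset.sum_div]
  congr 1
  rw [← Finset.sum_fiberwise Finset.univ ConjClasses.mk]
  refine Finset.sum_congr rfl fun C _ => ?_
  rw [Finset.sum_congr rfl (g := fun _ => f C.out * χ C.out), Finset.sum_const, nsmul_eq_mul]
  · have hc : (Finset.univ.filter fun x : G => ConjClasses.mk x = C).card =
        Nat.card {x : G // IsConj C.out x} := by
      rw [Nat.card_eq_fintype_card, Fintype.card_subtype]
      refine congrArg _ (Finset.filter_congr fun y _ => ?_)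
      conv_lhs => rhs; rw [← Quotient.out_eq C]
      exact ConjClasses.mk_eq_mk_iff_isConj.trans ⟨IsConj.symm, IsConj.symm⟩
    rw [hc]
    ring
  · intro x hx
    have h : ConjClasses.mk x = ConjClasses.mk C.out :=
      (Finset.mem_filter.mp hx).2.trans (Quotient.out_eq C).symm
    obtain ⟨k, hk⟩ := isConj_iff.mp (ConjClasses.mk_eq_mk_iff_isConj.mp h).symm
    rw [← hk, hf, hχ]

section Local

variable {M : Ideal AlgInt} (hM : M.IsPrime)
include hM

theorem memLR_omega {χ : G → ℂ} (h : IsIrrCharacter G χ) (g : G) :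
    MemLocalRing M (omega χ g) :=
  memLocalRing_of_isIntegral hM.ne_top (omega_isIntegral h g)

theorem memLR_char {χ : G → ℂ} (h : IsCharacter G χ) (g : G) : MemLocalRing M (χ g) :=
  memLocalRing_of_isIntegral hM.ne_top (char_isIntegral h g)

theorem memLR_lam {χ f : G → ℂ} (h : IsIrrCharacter G χ) (hf : IsClassFunction G f)
    (hv : ∀ x, MemLocalRing M (f x)) : MemLocalRing M (lam χ f) := by
  have := Fintype.ofFinite (ConjClasses G)
  rw [lam_eq_sum_omega (isClassFunction_character (irr_isCharacter h)) hf]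
  exact memLR_sum hM _ _ fun C _ => memLR_mul hM (hv _) (memLR_omega hM h _)

theorem lam_congr {χ ψ f : G → ℂ} (hχ : IsIrrCharacter G χ) (hψ : IsIrrCharacter G ψ)
    (hs : SameBlock M χ ψ) (hf : IsClassFunction G f) (hv : ∀ x, MemLocalRing M (f x)) :
    MemLocalIdeal M (lam χ f - lam ψ f) := by
  have := Fintype.ofFinite (ConjClasses G)
  rw [lam_eq_sum_omega (isClassFunction_character (irr_isCharacter hχ)) hf,
    lam_eq_sum_omega (isClassFunction_character (irr_isCharacter hψ)) hf, ← Finset.sum_sub_distrib]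
  refine memLI_sum hM _ _ fun C _ => ?_
  rw [← mul_sub, omega_eq_centralChar, omega_eq_centralChar]
  exact memLI_mul_left hM (hv _) (hs _)

end Local

end Cfsg.Agent.Char
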