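import Cfsg.Agent.Lib.Char.Induction
import Cfsg.Agent.Lib.Char.GroupAlg

/-!
# Values of induced functions
-/

set_option autoImplicit false

namespace Cfsg.Agent.Char

open Cfsg Module
open scoped ComplexConjugate

universe u

variable {G : Type u} [Group G] [Fintype G]

theorem sum_conj_eq (g : G) [DecidablePred (IsConj g)] (f : G → ℂ) :
    ∑ x : G, f (x⁻¹ * g * x) =
      (Nat.card (Subgroup.centralizer ({g} : Set G)) : ℂ) * ∑ y : G with IsConj g y, f y := by
  classical
  rw [← Finset.sum_fiberwise_of_maps_to' (s := Finset.univ)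
    (t := Finset.univ.filter fun y => IsConj g y) (g := fun x => x⁻¹ * g * x) ?_ f, Finset.mul_sum]
  swap
  · intro x _
    simp only [Finset.mem_filter, Finset.mem_univ, true_and]
    exact isConj_iff.mpr ⟨x⁻¹, by simp⟩
  refine Finset.sum_congr rfl fun y hy => ?_
  obtain ⟨c, hc⟩ := isConj_iff.mp (Finset.mem_filter.mp hy).2
  rw [Finset.sum_const, nsmul_eq_mul]
  congr 1
  have e : Nat.card {x : G // x⁻¹ * g * x = y} = Nat.card (Subgroup.centralizer ({g} : Set G)) :=
    Nat.card_congr ((Equiv.mulRight c).subtypeEquiv fun x => by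
      rw [Equiv.coe_mulRight, SetLike.mem_coe.symm, SetLike.mem_coe,
        Subgroup.mem_centralizer_singleton_iff, ← hc]
      constructor
      · intro h
        calc x * c * g = x * (c * g * c⁻¹) * c := by group
          _ = x * (x⁻¹ * g * x) * c := by rw [h]
          _ = g * (x * c) := by group
      · intro h
        calc x⁻¹ * g * x = x⁻¹ * (g * (x * c)) * c⁻¹ := by group
          _ = x⁻¹ * (x * c * g) * c⁻¹ := by rw [← h]
          _ = c * g * c⁻¹ := by group)
  rw [← e, Nat.card_eq_fintype_card, Fintype.card_subtype]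

theorem indFun_eq_classSum (H : Subgroup G) (θ : H → ℂ) (g : G) [DecidablePred (IsConj g)] :
    indFun H θ g = (Nat.card H : ℂ)⁻¹ * (Nat.card (Subgroup.centralizer ({g} : Set G)) : ℂ) *
      ∑ y : G with IsConj g y, extendByZero H θ y := by
  rw [mul_assoc, ← sum_conj_eq g]
  rfl

theorem centralChar_indFun (H : Subgroup G) (θ : H → ℂ) (g : G) :
    centralChar (indFun H θ) g = inducedCentralChar H θ g := by
  classical
  have := Fintype.ofFinite H
  have hC : (Nat.card (Subgroup.centralizer ({g} : Set G)) : ℂ) *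
      ((Subgroup.centralizer ({g} : Set G)).index : ℂ) = (Nat.card H : ℂ) * (H.index : ℂ) := by
    exact_mod_cast by rw [Subgroup.card_mul_index, Subgroup.card_mul_index]
  have hH : (Nat.card H : ℂ) ≠ 0 := Nat.cast_ne_zero.mpr Nat.card_pos.ne'
  have hI : (H.index : ℂ) ≠ 0 := Nat.cast_ne_zero.mpr Subgroup.index_ne_zero_of_finite
  rw [centralChar, indFun_eq_classSum, indFun_one, inducedCentralChar,
    finsum_mem_eq_finite_toFinset_sum _ (Set.toFinite _)]
  have e : ∑ y : G with IsConj g y, extendByZero H θ y =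
      ∑ h ∈ (Finset.univ.filter (fun a : H => IsConj g (a : G)) : Finset H), θ h := by
    rw [Finset.sum_filter, Finset.sum_filter]
    have := sum_extendByZero_mul H θ (fun y => if IsConj g y then (1 : ℂ) else 0)
    simpa [mul_ite] using this
  rw [e, ← Finset.sum_div]
  have e2 : (Set.toFinite {h : H | IsConj g (h : G)}).toFinset =
      Finset.univ.filter fun h : H => IsConj g (h : G) := by
    ext h; simp
  rw [e2]
  rcases eq_or_ne (θ 1) 0 with h0 | h0
  · simp [h0]
  field_simp
  linear_combination (∑ h ∈ (Finset.univ.filter (fun a : H => IsConj g (a : G)) : Finset H), θ h) * hC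

theorem indFun_ti (T : Set G) (hTI : ∀ g : G, g ∉ Subgroup.normalizer T →
      ∀ t ∈ T, g * t * g⁻¹ ∈ T → t = 1)
    (ψ : Subgroup.normalizer T → ℂ) (hψ : IsClassFunction (Subgroup.normalizer T) ψ)
    (hψT : ∀ x : Subgroup.normalizer T, (x : G) ∉ T → ψ x = 0)
    (t : Subgroup.normalizer T) (htT : (t : G) ∈ T) (ht1 : t ≠ 1) :
    indFun (Subgroup.normalizer T) ψ t = ψ t := by
  classical
  have := Fintype.ofFinite (Subgroup.normalizer T)
  rw [indFun]
  have : ∀ x : G, extendByZero (Subgroup.normalizer T) ψ (x⁻¹ * (t : G) * x) =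
      if x ∈ Subgroup.normalizer T then ψ t else 0 := by
    intro x
    split_ifs with hx
    · have hm : x⁻¹ * (t : G) * x ∈ Subgroup.normalizer T := (Subgroup.normalizer T).mul_mem ((Subgroup.normalizer T).mul_mem ((Subgroup.normalizer T).inv_mem hx) t.2) hx
      rw [extendByZero_mem (Subgroup.normalizer T) ψ hm]
      have := hψ t ⟨x⁻¹, (Subgroup.normalizer T).inv_mem hx⟩
      rw [← this]
      congr 1
      ext
      simp
    · by_cases hm : x⁻¹ * (t : G) * x ∈ Subgroup.normalizer T
      · rw [extendByZero_mem (Subgroup.normalizer T) ψ hm]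
        refine hψT _ fun hT => ht1 (Subtype.ext ?_)
        exact hTI x⁻¹ (fun h => hx (by simpa using (Subgroup.normalizer T).inv_mem h)) t htT (by simpa using hT)
      · exact extendByZero_not_mem (Subgroup.normalizer T) ψ hm
  simp only [this, Finset.sum_ite, Finset.sum_const_zero, add_zero, Finset.sum_const, nsmul_eq_mul]
  rw [← Fintype.card_subtype, ← Nat.card_eq_fintype_card, ← mul_assoc, inv_mul_cancel₀, one_mul]
  exact Nat.cast_ne_zero.mpr Nat.card_pos.ne'

theorem classInner_indFun_ti (T : Set G) (hTI : ∀ g : G, g ∉ Subgroup.normalizer T →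
      ∀ t ∈ T, g * t * g⁻¹ ∈ T → t = 1)
    [Fintype (Subgroup.normalizer T)] (ψ θ : Subgroup.normalizer T → ℂ)
    (hψT : ∀ x : Subgroup.normalizer T, (x : G) ∉ T → ψ x = 0)
    (hθ : IsClassFunction (Subgroup.normalizer T) θ)
    (hθT : ∀ x : Subgroup.normalizer T, (x : G) ∉ T → θ x = 0) (hψ1 : ψ 1 = 0) :
    classInner (indFun (Subgroup.normalizer T) ψ) (indFun (Subgroup.normalizer T) θ) =
      classInner ψ θ := by
  rw [frobenius _ ψ (isClassFunction_indFun _ θ), classInner, classInner]
  congr 1
  refine Finset.sum_congr rfl fun x _ => ?_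
  by_cases hxT : (x : G) ∈ T
  · rcases eq_or_ne x 1 with rfl | hx1
    · simp [hψ1]
    · simp only [indFun_ti T hTI θ hθ hθT x hxT hx1]
  · simp [hψT x hxT]

theorem card_fixedBy_eq_indFun {X : Type*} [MulAction G X] [Finite X]
    [MulAction.IsPretransitive G X] (x : X) (g : G) :
    (Nat.card (MulAction.fixedBy X g) : ℂ) =
      indFun (MulAction.stabilizer G x) (fun _ => 1) g := by
  classical
  set H := MulAction.stabilizer G x
  have hs : ∀ y : X, ∃ s : G, s • x = y := fun y => MulAction.exists_smul_eq G x y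
  choose s hs using hs
  have hiff : ∀ t : G, t⁻¹ * g * t ∈ H ↔ t • x ∈ MulAction.fixedBy X g := fun t => by
    simp [H, MulAction.mem_stabilizer_iff, MulAction.mem_fixedBy, mul_smul, inv_smul_eq_iff]
  let e : {t : G // t⁻¹ * g * t ∈ H} ≃ MulAction.fixedBy X g × H :=
    { toFun := fun t => (⟨t.1 • x, (hiff t.1).mp t.2⟩,
        ⟨(s (t.1 • x))⁻¹ * t.1, by
          rw [MulAction.mem_stabilizer_iff, mul_smul, inv_smul_eq_iff, hs]⟩)
      invFun := fun yh => ⟨s yh.1 * yh.2, (hiff _).mpr (by
        rw [mul_smul, MulAction.mem_stabilizer_iff.mp yh.2.2, hs]; exact yh.1.2)⟩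
      left_inv := fun t => Subtype.ext (by simp)
      right_inv := fun yh => by
        have : (s yh.1 * (yh.2 : G)) • x = (yh.1 : X) := by
          rw [mul_smul, MulAction.mem_stabilizer_iff.mp yh.2.2, hs]
        refine Prod.ext (Subtype.ext this) (Subtype.ext ?_)
        simp only [this]
        rw [← mul_assoc, inv_mul_cancel, one_mul] }
  have hc : (Nat.card {t : G // t⁻¹ * g * t ∈ H} : ℂ) =
      (Nat.card (MulAction.fixedBy X g) : ℂ) * (Nat.card H : ℂ) := by
    rw [Nat.card_congr e, Nat.card_prod, Nat.cast_mul]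
  rw [indFun]
  have : ∀ t : G, extendByZero H (fun _ => (1 : ℂ)) (t⁻¹ * g * t) =
      if t⁻¹ * g * t ∈ H then 1 else 0 := fun t => by
    split_ifs with h
    · exact extendByZero_mem H _ h
    · exact extendByZero_not_mem H _ h
  simp only [this]
  field_simp
  rw [← hc, Nat.card_eq_fintype_card, Fintype.card_subtype, Finset.sum_boole]

end Cfsg.Agent.Char
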