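import Cfsg.Agent.Lib.Char.PParts
import Mathlib

/-!
# The `p`-part of an element
-/

set_option autoImplicit false
set_option linter.unusedSectionVars false

namespace Cfsg.Agent.Char

open Cfsg

variable {G : Type*} [Group G] [Finite G] {p : ℕ}

/-- The `p`-part of `g`. -/
noncomputable def ppt (p : ℕ) (g : G) : G := g * (preg p g)⁻¹

theorem isPPart_ppt (hp : p.Prime) (g : G) : IsPPart p g (ppt p g) := (preg_spec hp g).1

theorem ppt_eq (hp : p.Prime) {g x : G} (h : IsPPart p g x) : ppt p g = x :=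
  isPPart_unique hp (isPPart_ppt hp g) h

theorem ppt_mul_preg (g : G) : ppt p g * preg p g = g := by simp [ppt]

theorem ppt_ppower (hp : p.Prime) (g : G) : ∃ k : ℕ, orderOf (ppt p g) = p ^ k := by
  obtain ⟨y, -, -, hk, -⟩ := isPPart_ppt hp g
  exact hk

theorem ppt_of_ppower (hp : p.Prime) {x : G} (hx : ∃ k : ℕ, orderOf x = p ^ k) : ppt p x = x :=
  ppt_eq hp ⟨1, mul_one x, Commute.one_right x, hx, by simp [hp.ne_one]⟩

theorem ppt_mul (hp : p.Prime) {x y : G} (hc : Commute x y) (hx : ∃ k : ℕ, orderOf x = p ^ k)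
    (hy : ¬ p ∣ orderOf y) : ppt p (x * y) = x :=
  ppt_eq hp ⟨y, rfl, hc, hx, hy⟩

theorem ppt_eq_one_iff (hp : p.Prime) (g : G) : ppt p g = 1 ↔ ¬ p ∣ orderOf g := by
  rw [ppt, mul_inv_eq_one, eq_comm, ← isPRegular_iff_preg hp]
  rfl

theorem ppt_conj (hp : p.Prime) (g t : G) : ppt p (t * g * t⁻¹) = t * ppt p g * t⁻¹ := by
  rw [ppt, ppt, preg_conj hp]
  group

theorem ppt_coe (hp : p.Prime) (H : Subgroup G) (h : H) : ppt p (h : G) = ((ppt p h : H) : G) := by
  obtain ⟨y, hy, hc, hk, hr⟩ := isPPart_ppt hp h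
  refine ppt_eq hp ⟨(y : G), congrArg Subtype.val hy, congrArg Subtype.val hc, ?_, ?_⟩
  · rwa [Subgroup.orderOf_coe]
  · rwa [Subgroup.orderOf_coe]

end Cfsg.Agent.Char
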