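import Cfsg.Agent.Lib.Char.PrincipalBlock

/-!
# Norms of the local parts of the characters of a block
-/

set_option autoImplicit false

namespace Cfsg.Agent.Char

open Cfsg Module
open scoped ComplexConjugate

universe u

variable {G : Type u} [Group G] [Fintype G] {M : Ideal AlgInt} {p : ℕ}

theorem regPart_of_blockSpan {B : Set (IrrCharacter G)} {v : G → ℂ} (hv : v ∈ blockSpan p B) :
    regPartL p v = v := by
  funext g
  by_cases hg : p ∣ orderOf g
  · rw [regPartL_of_sing hg, blockSpan_sing hv hg]
  · rw [regPartL_of_reg hg]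

open scoped Classical in
/-- The rank of a block is the trace of its projection. -/
theorem blockRank_eq_sum (hM : IsPModular p M) {B : Set (IrrCharacter G)} (hB : IsPBlock M B) :
    (Nat.card G : ℂ) * (blockRank p B : ℂ) =
      ∑ g : G with ¬ p ∣ orderOf g,
        ∑ χ : IrrCharacter G with χ ∈ B, conj ((χ : G → ℂ) g) * (χ : G → ℂ) g := by
  set f := (regPartL p).comp (blockPartL B) with hf
  have hproj : LinearMap.IsProj (blockSpan p B) f := by
    refine ⟨fun v => regPart_blockPart_mem B v, fun v hv => ?_⟩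
    rw [hf, LinearMap.comp_apply, blockPartL_apply, blockPart_blockSpan hM hB hB hv, if_pos rfl,
      regPart_of_blockSpan hv]
  have hdiag : ∀ g : G, LinearMap.toMatrix (Pi.basisFun ℂ G) (Pi.basisFun ℂ G) f g g =
      if ¬ p ∣ orderOf g then (Nat.card G : ℂ)⁻¹ *
        ∑ χ : IrrCharacter G with χ ∈ B, conj ((χ : G → ℂ) g) * (χ : G → ℂ) g else 0 := by
    intro g
    rw [LinearMap.toMatrix_apply, Pi.basisFun_repr, Pi.basisFun_apply, hf, LinearMap.comp_apply]
    by_cases hg : p ∣ orderOf g
    swap
    · rw [if_pos hg, regPartL_of_reg hg, blockPartL_apply, blockPart_eq, Finset.mul_sum]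
      refine Finset.sum_congr rfl fun χ _ => ?_
      rw [classInner, Finset.sum_eq_single g]
      · rw [Pi.single_eq_same, one_mul, mul_assoc]
      · intro x _ hx
        rw [Pi.single_eq_of_ne hx, zero_mul]
      · exact fun h => absurd (Finset.mem_univ _) h
    · rw [if_neg (not_not.mpr hg)]
      exact regPartL_of_sing hg _
  have h := hproj.trace
  rw [LinearMap.trace_eq_matrix_trace ℂ (Pi.basisFun ℂ G), Matrix.trace] at h
  simp only [Matrix.diag_apply, hdiag] at h
  rw [← Finset.sum_filter, ← Finset.mul_sum] at h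
  have hl : (blockRank p B : ℂ) = (finrank ℂ (blockSpan p B) : ℂ) := rfl
  rw [hl, ← h, mul_inv_cancel_left₀ (Nat.cast_ne_zero.mpr Nat.card_pos.ne')]

section Sec

variable {x : G} [Fintype (Subgroup.centralizer ({x} : Set G))]

open scoped Classical in
theorem sum_section_functional (hM : IsPModular p M) (hx : ∃ k : ℕ, orderOf x = p ^ k)
    {B : Set (IrrCharacter G)} (hB : IsPBlock M B)
    (w : Subgroup.centralizer ({x} : Set G) → ℂ) (hw : ∀ c, p ∣ orderOf c → w c = 0) :
    ∑ χ : IrrCharacter G with χ ∈ B,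
        conj (∑ c, w c * (χ : G → ℂ) (x * (c : G))) * (∑ c, w c * (χ : G → ℂ) (x * (c : G))) =
      ∑ b ∈ ((Finset.univ : Finset (IrrCharacter (Subgroup.centralizer ({x} : Set G)))).image
        (fun ξ : IrrCharacter (Subgroup.centralizer ({x} : Set G)) =>
          blockOf M (ξ : Subgroup.centralizer ({x} : Set G) → ℂ))).filter
        (fun b => IsInducedBlock M (Subgroup.centralizer ({x} : Set G)) b B),
      ∑ ξ : IrrCharacter (Subgroup.centralizer ({x} : Set G)) with ξ ∈ b,
        conj (∑ c, w c * (ξ : _ → ℂ) c) * (∑ c, w c * (ξ : _ → ℂ) c) := by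
  simp only [map_sum, map_mul, Finset.sum_mul, Finset.mul_sum]
  rw [Finset.sum_comm]
  conv_rhs => enter [2, b]; rw [Finset.sum_comm]
  rw [Finset.sum_comm (s := Finset.filter _ (Finset.image _ _))]
  refine Finset.sum_congr rfl fun c _ => ?_
  rw [Finset.sum_comm]
  conv_rhs => enter [2, b]; rw [Finset.sum_comm]
  rw [Finset.sum_comm (s := Finset.filter _ (Finset.image _ _))]
  refine Finset.sum_congr rfl fun d _ => ?_
  by_cases hc : p ∣ orderOf c
  · simp [hw c hc]
  by_cases hd : p ∣ orderOf d
  · simp [hw d hd]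
  have e := sum_block_section_orth hM hx hB d c hd hc
  have e' := congrArg (fun z => conj (w d) * w c * z) e
  simp only [Finset.mul_sum] at e'
  refine Eq.trans ?_ (e'.trans ?_)
  · exact Finset.sum_congr rfl fun χ _ => by ring
  · exact Finset.sum_congr rfl fun b _ => Finset.sum_congr rfl fun ξ _ => by ring

theorem blockPart_reg_eq_sum (hM : IsPModular p M)
    {e : Set (IrrCharacter (Subgroup.centralizer ({x} : Set G)))} (he : IsPBlock M e)
    {θ : Subgroup.centralizer ({x} : Set G) → ℂ}
    (hθ : IsClassFunction (Subgroup.centralizer ({x} : Set G)) θ)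
    {s : Subgroup.centralizer ({x} : Set G)} (hs : ¬ p ∣ orderOf s) :
    blockPart e θ s = ∑ c, regPartL p (fun c => blockCoeff e (c * s⁻¹)) c * θ c := by
  classical
  rw [blockPart_regular_congr hM he (f' := regPartL p θ)
    (fun c hc => (regPartL_of_reg hc θ).symm) hs]
  have hc : IsClassFunction (Subgroup.centralizer ({x} : Set G)) (regPartL p θ) := fun a k => by
    have e1 : orderOf (k * a * k⁻¹) = orderOf a := by rw [← MulAut.conj_apply, MulEquiv.orderOf_eq]
    by_cases ha : p ∣ orderOf a
    · rw [regPartL_of_sing ha, regPartL_of_sing (e1 ▸ ha)]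
    · rw [regPartL_of_reg ha, regPartL_of_reg (e1 ▸ ha), hθ a k]
  rw [← sum_blockCoeff_shift e hc]
  refine Fintype.sum_equiv (Equiv.mulRight s) _ _ fun k => ?_
  rw [Equiv.coe_mulRight]
  by_cases hk : p ∣ orderOf (k * s)
  · rw [regPartL_of_sing hk, regPartL_of_sing hk, mul_zero, zero_mul]
  · rw [regPartL_of_reg hk, regPartL_of_reg hk, mul_inv_cancel_right]

/-- The squared local parts add up to those of the local block. -/
theorem sum_local_part_sq (hM : IsPModular p M) (hx : ∃ k : ℕ, orderOf x = p ^ k)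
    {B : Set (IrrCharacter G)} {e : Set (IrrCharacter (Subgroup.centralizer ({x} : Set G)))}
    (hind : IsInducedBlock M (Subgroup.centralizer ({x} : Set G)) e B)
    [DecidablePred (· ∈ B)] [DecidablePred (· ∈ e)]
    {s : Subgroup.centralizer ({x} : Set G)} (hs : ¬ p ∣ orderOf s) :
    ∑ χ : IrrCharacter G with χ ∈ B,
        conj (blockPart e (secFun x (χ : G → ℂ)) s) * blockPart e (secFun x (χ : G → ℂ)) s =
      ∑ ξ : IrrCharacter (Subgroup.centralizer ({x} : Set G)) with ξ ∈ e,
        conj ((ξ : _ → ℂ) s) * (ξ : _ → ℂ) s := by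
  classical
  have hP := pmod_prime hM
  set w := regPartL p (fun c => blockCoeff e (c * s⁻¹)) with hw
  have h1 : ∀ χ : IrrCharacter G, blockPart e (secFun x (χ : G → ℂ)) s =
      ∑ c, w c * (χ : G → ℂ) (x * (c : G)) := fun χ =>
    blockPart_reg_eq_sum hM hind.1
      (isClassFunction_secFun (isClassFunction_character (irr_isCharacter χ.2))) hs
  simp only [h1]
  have h := sum_section_functional hM hx hind.2.1 w (fun c hc => regPartL_of_sing hc _)
  convert h.trans ?_ using 3
  rw [Finset.sum_eq_single e]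
  · refine Finset.sum_congr (by ext; simp) fun ξ hξ => ?_
    have h2 : ∑ c, w c * (ξ : _ → ℂ) c = (ξ : _ → ℂ) s := by
      rw [← blockPart_reg_eq_sum hM hind.1 (isClassFunction_character (irr_isCharacter ξ.2)) hs,
        blockPart_regular_congr hM hind.1 (f' := regPartL p (ξ : _ → ℂ))
          (fun c hc => (regPartL_of_reg hc _).symm) hs,
        blockPart_blockSpan hM hind.1 hind.1
          (show regPartL p (ξ : _ → ℂ) ∈ blockSpan p _ from
            Submodule.subset_span ⟨ξ, (Finset.mem_filter.mp hξ).2, rfl⟩), if_pos rfl,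
        regPartL_of_reg hs]
    rw [h2]
  · intro b hb hne
    refine Finset.sum_eq_zero fun ξ hξ => ?_
    have hb' := (Finset.mem_filter.mp hb).2.1
    have h2 : ∑ c, w c * (ξ : _ → ℂ) c = 0 := by
      rw [← blockPart_reg_eq_sum hM hind.1 (isClassFunction_character (irr_isCharacter ξ.2)) hs,
        blockPart_regular_congr hM hind.1 (f' := regPartL p (ξ : _ → ℂ))
          (fun c hc => (regPartL_of_reg hc _).symm) hs,
        blockPart_blockSpan hM hb' hind.1
          (show regPartL p (ξ : _ → ℂ) ∈ blockSpan p _ from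
            Submodule.subset_span ⟨ξ, (Finset.mem_filter.mp hξ).2, rfl⟩), if_neg hne.symm]
      rfl
    rw [h2, mul_zero]
  · intro hn
    refine absurd ?_ hn
    obtain ⟨ξ, hξ⟩ := hind.1
    exact Finset.mem_filter.mpr ⟨Finset.mem_image.mpr ⟨ξ, Finset.mem_univ _, hξ.symm⟩, hind⟩

theorem blockPart_secFun_inv (e : Set (IrrCharacter (Subgroup.centralizer ({x} : Set G))))
    (χ : IrrCharacter G) (s : Subgroup.centralizer ({x} : Set G)) :
    blockPart e (fun c : Subgroup.centralizer ({x} : Set G) => (χ : G → ℂ) (x⁻¹ * (c : G))) s⁻¹ =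
      conj (blockPart e (secFun x (χ : G → ℂ)) s) := by
  classical
  have hχ := irr_isCharacter χ.2
  have e1 : ∀ c : Subgroup.centralizer ({x} : Set G),
      (χ : G → ℂ) (x⁻¹ * ((c⁻¹ : Subgroup.centralizer ({x} : Set G)) : G)) =
        conj (secFun x (χ : G → ℂ) c) := by
    intro c
    rw [secFun, ← char_inv hχ, InvMemClass.coe_inv, cent_mul_comm c, mul_inv_rev]
  rw [blockPart_eq, blockPart_eq, map_sum]
  refine Finset.sum_congr rfl fun ξ _ => ?_
  have hξ := irr_isCharacter ξ.2
  rw [map_mul, ← char_inv hξ, classInner, classInner, map_mul, map_sum, map_inv₀, map_natCast]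
  congr 2
  refine Fintype.sum_equiv (Equiv.inv _) _ _ fun c => ?_
  rw [Equiv.inv_apply, map_mul, ← e1, inv_inv, char_inv hξ c, Complex.conj_conj]

end Sec

open scoped Classical in
/-- The sum over a block of the norms of its local parts is the local rank. -/
theorem sum_subsection_norms (hM : IsPModular p M) {u : G} (hu : ∃ k : ℕ, orderOf u = p ^ k)
    {B : Set (IrrCharacter G)} (hB : IsPBlock M B) {C : Subgroup G} [Fintype C]
    (hC : C = Subgroup.centralizer ({u} : Set G)) {e : Set (IrrCharacter C)} (he : IsPBlock M e)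
    (hBe : ∀ ξ ∈ e, MemLocalIdeal M (lam (ξ : C → ℂ) (fun c : C => blockCoeff B (c : G)) - 1)) :
    ∑ χ : IrrCharacter G with χ ∈ B, ∑ s : C,
      pRegularPart p (blockPart e (fun c : C => (χ : G → ℂ) (u * c))) s *
        blockPart e (fun c : C => (χ : G → ℂ) (u⁻¹ * c)) s⁻¹ =
      (Nat.card C : ℂ) * (blockRank p e : ℂ) := by
  subst hC
  have hP := pmod_prime hM
  obtain ⟨B', hB'⟩ := exists_induced_centralizer hM hu he
  have hBB : B' = B := by
    obtain ⟨ξ, hξ⟩ := block_nonempty hP he
    obtain ⟨χ, hχ⟩ := block_nonempty hP hB'.2.1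
    have h1 := induced_congr_fun hP (hB'.2.2 ξ hξ χ hχ) (isIntClassFun_blockCoeff hM hB)
    rw [lam_blockCoeff] at h1
    by_cases hmem : χ ∈ B
    · exact block_disjoint hP hB'.2.1 hB hχ hmem
    · rw [if_neg hmem, sub_zero] at h1
      refine absurd ?_ (memLI_one_iff (M := M) hP)
      simpa using memLI_sub hP h1 (hBe ξ hξ)
  subst hBB
  rw [blockRank_eq_sum hM he, Finset.sum_comm, Finset.sum_filter]
  refine Finset.sum_congr rfl fun s _ => ?_
  by_cases hs : p ∣ orderOf s
  · rw [if_neg (not_not.mpr hs)]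
    exact Finset.sum_eq_zero fun χ _ => by simp [pRegularPart, IsPRegular, hs]
  · rw [if_pos hs, ← sum_local_part_sq hM hu hB' hs]
    refine Finset.sum_congr rfl fun χ _ => ?_
    rw [blockPart_secFun_inv]
    simp only [pRegularPart, IsPRegular, hs, not_false_eq_true, if_true]
    exact mul_comm _ _

end Cfsg.Agent.Char
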