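import Cfsg.Agent.Lib.Char.MajorSubsection
import Cfsg.Agent.Lib.Char.PPartElem
import Cfsg.Agent.Lib.Char.IndValue
import Cfsg.Agent.Lib.Char.Central
import Cfsg.Agent.Lib.Char.SectionNorm

/-!
# Many major subsections bound the heights

The squared norm of a character of a block is at least the sum of its contributions at pairwise non-conjugate
subsections. A major contribution has average at least `p ^ h` over the conjugates, so the number of major
subsections times `p ^ h` is at most `p ^ d`.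
-/

set_option autoImplicit false
set_option linter.unusedSectionVars false

open Cfsg Polynomial
open scoped ComplexConjugate

namespace Cfsg.Agent.Char.MajorPairs

universe u

variable {G : Type u} [Group G] [Fintype G] {M : Ideal AlgInt} {p : ℕ}

open scoped Classical in
theorem section_sum (hp : p.Prime) {y : G} (hy : ∃ k : ℕ, orderOf y = p ^ k) {C : Subgroup G}
    (hC : C = Subgroup.centralizer ({y} : Set G)) [Fintype C] {F : G → ℂ} (hF : IsClassFunction G F) :
    ∑ g : G with IsConj y (ppt p g), F g =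
      (C.index : ℂ) * ∑ v : C with ¬ p ∣ orderOf v, F (y * (v : G)) := by
  have hinner : ∀ c : G, (∑ g : G, if ppt p g = c * y * c⁻¹ then F g else 0) =
      ∑ g : G, if ppt p g = y then F g else 0 := by
    intro c
    refine (Fintype.sum_equiv (MulAut.conj c).toEquiv _ _ fun g => ?_).symm
    show _ = if ppt p (c * g * c⁻¹) = c * y * c⁻¹ then F (c * g * c⁻¹) else 0
    rw [ppt_conj hp, hF]
    simp
  have hcl : ∑ g : G with IsConj y (ppt p g), F g =
      ∑ z ∈ Finset.univ.filter (fun z : G => IsConj y z), ∑ g : G, if ppt p g = z then F g else 0 := by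
    rw [Finset.sum_comm, Finset.sum_filter]
    refine Finset.sum_congr rfl fun g _ => ?_
    rw [Finset.sum_ite_eq]
    simp
  rw [hcl, Finset.sum_congr rfl (g := fun _ => ∑ g : G, if ppt p g = y then F g else 0)
    (fun z hz => by
      obtain ⟨c, rfl⟩ := isConj_iff.mp (Finset.mem_filter.mp hz).2
      exact hinner c), Finset.sum_const, nsmul_eq_mul, ← Fintype.card_subtype,
    ← Nat.card_eq_fintype_card, card_conjClass_eq_index, ← hC]
  congr 1
  rw [← Finset.sum_filter]
  have hcomm : ∀ v : C, Commute y (v : G) := fun v =>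
    (Subgroup.mem_centralizer_singleton_iff.mp (by rw [← hC]; exact v.2)).symm
  symm
  refine Finset.sum_bij (fun v _ => y * (v : G)) (fun v hv => ?_) (fun a _ b _ e => ?_)
    (fun g hg => ?_) (fun v _ => rfl)
  · simp only [Finset.mem_filter, Finset.mem_univ, true_and] at hv ⊢
    exact ppt_mul hp (hcomm v) hy (by rwa [Subgroup.orderOf_coe])
  · exact Subtype.ext (mul_left_cancel e)
  · simp only [Finset.mem_filter, Finset.mem_univ, true_and] at hg
    obtain ⟨w, hw, hc, -, hreg⟩ := hg ▸ isPPart_ppt hp g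
    refine ⟨⟨w, by rw [hC]; exact Subgroup.mem_centralizer_singleton_iff.mpr hc.eq.symm⟩, ?_, hw⟩
    simp only [Finset.mem_filter, Finset.mem_univ, true_and]
    rwa [← Subgroup.orderOf_coe]

open scoped Classical in
/-- The sections of pairwise non-conjugate elements are disjoint. -/
theorem sum_sections_norm_le {ι : Type*} [Fintype ι] (hp : p.Prime) (y : ι → G)
    (hy : ∀ i, ∃ k : ℕ, orderOf (y i) = p ^ k) (hinj : ∀ i j, IsConj (y i) (y j) → i = j)
    (C : ι → Subgroup G) (hC : ∀ i, C i = Subgroup.centralizer ({y i} : Set G)) [∀ i, Fintype (C i)]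
    (χ : IrrCharacter G) :
    ∑ i, (Nat.card (C i) : ℝ)⁻¹ *
      ∑ v : C i with ¬ p ∣ orderOf v, Complex.normSq ((χ : G → ℂ) (y i * (v : G))) ≤ 1 := by
  have hG : (0 : ℝ) < Nat.card G := Nat.cast_pos.mpr Nat.card_pos
  set F : G → ℂ := fun g => (Complex.normSq ((χ : G → ℂ) g) : ℂ) with hFdef
  have hF : IsClassFunction G F := fun a b => by
    simp only [hFdef, isClassFunction_character (irr_isCharacter χ.2) a b]
  have htot : (∑ g : G, Complex.normSq ((χ : G → ℂ) g)) = (Nat.card G : ℝ) := by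
    have h := irr_orth χ.2 χ.2
    rw [if_pos rfl, classInner, inv_mul_eq_iff_eq_mul₀ (Nat.cast_ne_zero.mpr Nat.card_pos.ne'), mul_one] at h
    apply Complex.ofReal_injective
    push_cast
    rw [← h]
    exact Finset.sum_congr rfl fun g _ => (Complex.mul_conj _).symm
  have hsec : ∀ i, ∑ g : G with IsConj (y i) (ppt p g), Complex.normSq ((χ : G → ℂ) g) =
      (Nat.card G : ℝ) * ((Nat.card (C i) : ℝ)⁻¹ *
        ∑ v : C i with ¬ p ∣ orderOf v, Complex.normSq ((χ : G → ℂ) (y i * (v : G)))) := by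
    intro i
    have h := section_sum hp (hy i) (hC i) hF
    simp only [hFdef, ← Complex.ofReal_sum, ← Complex.ofReal_natCast, ← Complex.ofReal_mul] at h
    rw [Complex.ofReal_inj.mp h, ← (C i).card_mul_index]
    push_cast
    have : (Nat.card (C i) : ℝ) ≠ 0 := Nat.cast_ne_zero.mpr Nat.card_pos.ne'
    field_simp
  have hdis : (↑(Finset.univ : Finset ι) : Set ι).PairwiseDisjoint
      fun i => Finset.univ.filter fun g : G => IsConj (y i) (ppt p g) := by
    intro i _ j _ hij
    rw [Function.onFun, Finset.disjoint_left]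
    intro g hgi hgj
    exact hij (hinj i j ((Finset.mem_filter.mp hgi).2.trans (Finset.mem_filter.mp hgj).2.symm))
  have hle : ∑ i, ∑ g : G with IsConj (y i) (ppt p g), Complex.normSq ((χ : G → ℂ) g) ≤ (Nat.card G : ℝ) := by
    rw [← Finset.sum_biUnion hdis, ← htot]
    exact Finset.sum_le_sum_of_subset_of_nonneg (Finset.subset_univ _) fun g _ _ => Complex.normSq_nonneg _
  simp only [hsec, ← Finset.mul_sum] at hle
  refine le_of_mul_le_mul_left ?_ hG
  rw [mul_one]
  simpa [Finset.mul_sum] using hle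

variable {x : G} [Fintype (Subgroup.centralizer ({x} : Set G))]
  {B : Set (IrrCharacter G)} {e : Set (IrrCharacter (Subgroup.centralizer ({x} : Set G)))}

open scoped Classical in
theorem ctr_self_eq (hM : IsPModular p M) (he : IsPBlock M e)
    {z : IrrCharacter (Subgroup.centralizer ({x} : Set G)) → ℂ} (hzc : ∀ η, conj (z η) = (z η)⁻¹)
    (χ : IrrCharacter G) :
    ctr p e z χ χ = (((p : ℝ) ^ blockDefect p e * ((Nat.card (Subgroup.centralizer ({x} : Set G)) : ℝ)⁻¹ *
      ∑ s : Subgroup.centralizer ({x} : Set G) with ¬ p ∣ orderOf s,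
        Complex.normSq (MajorSub.locFun e z χ s)) : ℝ) : ℂ) := by
  rw [← MajorSub.sum_locFun_mul_conj hzc hM he]
  simp only [Complex.mul_conj, mul_assoc]
  push_cast
  rfl

open scoped Classical in
/-- The norm on a conjugate section bounds the sum of the contributions. -/
theorem sum_ctr_le_section (hM : IsPModular p M) {z : IrrCharacter (Subgroup.centralizer ({x} : Set G)) → ℂ}
    (hz : ∀ (η : IrrCharacter (Subgroup.centralizer ({x} : Set G))) (c : Subgroup.centralizer ({x} : Set G)),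
      (η : Subgroup.centralizer ({x} : Set G) → ℂ) (⟨x, Subgroup.mem_centralizer_singleton_iff.mpr rfl⟩ * c) =
        z η * (η : Subgroup.centralizer ({x} : Set G) → ℂ) c)
    {w : IrrCharacter (Subgroup.centralizer ({x} : Set G)) → ℂ} (u : ℕ) (hw : ∀ η, w η = z η ^ u)
    (hwc : ∀ η, conj (w η) = (w η)⁻¹) (χ : IrrCharacter G)
    (F : Finset (Set (IrrCharacter (Subgroup.centralizer ({x} : Set G))))) (hF : ∀ f ∈ F, IsPBlock M f) :
    ∑ f ∈ F, (ctr p f w χ χ).re / (p : ℝ) ^ blockDefect p f ≤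
      (Nat.card (Subgroup.centralizer ({x} : Set G)) : ℝ)⁻¹ *
        ∑ s : Subgroup.centralizer ({x} : Set G) with ¬ p ∣ orderOf s,
          Complex.normSq ((χ : G → ℂ) (x ^ u * (s : G))) := by
  have hP := pmod_prime hM
  set R := Finset.univ.filter fun s : Subgroup.centralizer ({x} : Set G) => ¬ p ∣ orderOf s with hR
  set A := (Finset.univ : Finset (IrrCharacter (Subgroup.centralizer ({x} : Set G)))).image
    (fun η : IrrCharacter (Subgroup.centralizer ({x} : Set G)) => blockOf M (η : Subgroup.centralizer ({x} : Set G) → ℂ)) with hA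
  have hAb : ∀ f ∈ A, IsPBlock M f := fun f hf => by
    obtain ⟨η, -, rfl⟩ := Finset.mem_image.mp hf
    exact isPBlock_blockOf M η
  have hFA : F ⊆ A := fun f hf => by
    obtain ⟨η, hη⟩ := block_nonempty hP (hF f hf)
    exact Finset.mem_image.mpr ⟨η, Finset.mem_univ _, (block_eq_blockOf hP (hF f hf) hη).symm⟩
  have hterm : ∀ f ∈ A, (ctr p f w χ χ).re / (p : ℝ) ^ blockDefect p f =
      (Nat.card (Subgroup.centralizer ({x} : Set G)) : ℝ)⁻¹ *
        ∑ s ∈ R, Complex.normSq (MajorSub.locFun f w χ s) := fun f hf => by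
    rw [ctr_self_eq hM (hAb f hf) hwc χ, Complex.ofReal_re,
      mul_div_cancel_left₀ _ (pow_ne_zero _ (Nat.cast_ne_zero.mpr hM.1.ne_zero))]
  refine le_trans (Finset.sum_le_sum_of_subset_of_nonneg hFA fun f hf _ => ?_) (le_of_eq ?_)
  · rw [hterm f hf]
    exact mul_nonneg (inv_nonneg.mpr (Nat.cast_nonneg _)) (Finset.sum_nonneg fun _ _ => Complex.normSq_nonneg _)
  rw [Finset.sum_congr rfl hterm, ← Finset.mul_sum]
  congr 1
  -- the value on the section
  have hzu : ∀ (n : ℕ) (η : IrrCharacter (Subgroup.centralizer ({x} : Set G))) (c : Subgroup.centralizer ({x} : Set G)),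
      (η : Subgroup.centralizer ({x} : Set G) → ℂ)
        ((⟨x, Subgroup.mem_centralizer_singleton_iff.mpr rfl⟩ : Subgroup.centralizer ({x} : Set G)) ^ n * c) =
        z η ^ n * (η : Subgroup.centralizer ({x} : Set G) → ℂ) c := by
    intro n
    induction n with
    | zero => intro η c; simp
    | succ n ih => intro η c; rw [pow_succ' _ n, mul_assoc, hz, ih, pow_succ' (z η)]; ring
  have hval : ∀ s ∈ R, (χ : G → ℂ) (x ^ u * (s : G)) = ∑ f ∈ A, MajorSub.locFun f w χ s := by
    intro s _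
    have h := congrFun (mRes_spec (x := x) χ)
      ((⟨x, Subgroup.mem_centralizer_singleton_iff.mpr rfl⟩ : Subgroup.centralizer ({x} : Set G)) ^ u * s)
    simp only [Function.comp_apply, Subgroup.coe_subtype, Subgroup.coe_mul, SubmonoidClass.coe_pow,
      Finset.sum_apply, Pi.smul_apply, nsmul_eq_mul, Pi.mul_apply, Pi.natCast_apply, hzu] at h
    rw [h, ← Finset.sum_fiberwise_of_maps_to (t := A)
      (g := fun η : IrrCharacter (Subgroup.centralizer ({x} : Set G)) =>
        blockOf M (η : Subgroup.centralizer ({x} : Set G) → ℂ)) fun η hη => Finset.mem_image_of_mem _ (Finset.mem_univ _)]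
    refine Finset.sum_congr rfl fun f hf => ?_
    rw [MajorSub.locFun]
    refine Finset.sum_congr (Finset.filter_congr fun η _ => ?_) fun η _ => by rw [hw, mul_assoc]
    exact ⟨fun h => h ▸ self_mem_blockOf hP η, fun h => (block_eq_blockOf hP (hAb f hf) h).symm⟩
  have hcross : ∀ f ∈ A, ∀ f' ∈ A, f ≠ f' →
      ∑ s ∈ R, MajorSub.locFun f w χ s * conj (MajorSub.locFun f' w χ s) = 0 := by
    intro f hf f' hf' hne
    simp only [MajorSub.locFun, map_sum, Finset.sum_mul_sum]
    rw [Finset.sum_comm]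
    refine Finset.sum_eq_zero fun η hη => ?_
    rw [Finset.sum_comm]
    refine Finset.sum_eq_zero fun θ hθ => ?_
    have h0 := einner_eq_zero_of_not_sameBlock hM η θ fun hs => hne
      (block_disjoint hP (hAb f hf) (hAb f' hf')
        ((mem_block_iff hP (hAb f hf) (Finset.mem_filter.mp hη).2 θ).mpr hs) (Finset.mem_filter.mp hθ).2)
    rw [MajorSub.einner_eq_avg, mul_eq_zero, or_iff_right (inv_ne_zero (Nat.cast_ne_zero.mpr Nat.card_pos.ne'))] at h0
    calc ∑ s ∈ R, (mRes x χ η : ℂ) * w η * (η : _ → ℂ) s * conj ((mRes x χ θ : ℂ) * w θ * (θ : _ → ℂ) s)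
        = (mRes x χ η : ℂ) * w η * conj ((mRes x χ θ : ℂ) * w θ) *
            ∑ s ∈ R, (η : _ → ℂ) s * conj ((θ : _ → ℂ) s) := by
          rw [Finset.mul_sum]
          exact Finset.sum_congr rfl fun s _ => by simp only [map_mul]; ring
      _ = 0 := by rw [hR, h0, mul_zero]
  apply Complex.ofReal_injective
  push_cast
  simp only [← Complex.mul_conj]
  rw [Finset.sum_congr rfl (g := fun s => ∑ f ∈ A, ∑ f' ∈ A,
    MajorSub.locFun f w χ s * conj (MajorSub.locFun f' w χ s)) fun s hs => by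
      rw [hval s hs, map_sum, Finset.sum_mul_sum]]
  conv_rhs => rw [Finset.sum_comm]
  refine Finset.sum_congr rfl fun f hf => ?_
  rw [Finset.sum_comm, Finset.sum_eq_single_of_mem f hf fun f' hf' hne => hcross f hf f' hf' hne.symm]

open scoped Classical in
/-- A major contribution has average at least `p ^ h` over the conjugates. -/
theorem major_avg {k K : ℕ} (hM : IsPModular p M) (hk : orderOf x = p ^ k) (hkK : k ≤ K)
    {ω : ℂ} (hω : IsPrimitiveRoot ω (p ^ (K + 1)))
    {J : IrrCharacter (Subgroup.centralizer ({x} : Set G)) → ℕ} (hJ : ∀ η, J η < p ^ (K + 1))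
    (hzk : ∀ η, (ω ^ J η) ^ p ^ k = 1)
    (hz : ∀ (η : IrrCharacter (Subgroup.centralizer ({x} : Set G))) (c : Subgroup.centralizer ({x} : Set G)),
      (η : Subgroup.centralizer ({x} : Set G) → ℂ) (⟨x, Subgroup.mem_centralizer_singleton_iff.mpr rfl⟩ * c) =
        ω ^ J η * (η : Subgroup.centralizer ({x} : Set G) → ℂ) c)
    (hind : IsInducedBlock M (Subgroup.centralizer ({x} : Set G)) e B)
    (hd : blockDefect p e = blockDefect p B) {χ : IrrCharacter G} (hχ : χ ∈ B) :
    ((((Finset.range (p ^ (K + 1))).filter fun u => ¬ p ∣ u).card : ℝ) *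
        (p : ℝ) ^ blockHeight p B (χ : G → ℂ)) ≤
      ∑ u ∈ (Finset.range (p ^ (K + 1))).filter (fun u => ¬ p ∣ u),
        (ctr p e (fun η => (ω ^ u) ^ J η) χ χ).re := by
  have hP := pmod_prime hM
  have hp := hM.1
  haveI : NeZero (p ^ (K + 1)) := ⟨pow_ne_zero _ hp.ne_zero⟩
  set h := blockHeight p B (χ : G → ℂ) with hh
  have hμN : ∀ u : ℕ, (ω ^ u) ^ p ^ (K + 1) = 1 := fun u => by
    rw [← pow_mul, mul_comm, pow_mul, hω.pow_eq_one, one_pow]
  have hcj : ∀ u η, conj ((ω ^ u) ^ J η) = ((ω ^ u) ^ J η)⁻¹ := fun u η =>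
    (Complex.inv_eq_conj (Complex.norm_eq_one_of_pow_eq_one
      (n := p ^ (K + 1)) (by rw [← pow_mul (ω ^ u), mul_comm, pow_mul, hμN, one_pow]) (NeZero.ne _))).symm
  obtain ⟨w, hwR, hw, -⟩ := MajorSub.major_unit hz hzk hM hk hind hd hχ hχ
  set P := MajorSub.pol p (p ^ (K + 1)) e J χ χ with hPdef
  set R := P %ₘ cyclotomic (p ^ (K + 1)) ℤ with hR
  have hR1 : aeval ω R = ctr p e (fun η => ω ^ J η) χ χ := by
    have := CycInt.aeval_red hω hp P (u := 1) (Nat.coprime_one_left _)
    rw [pow_one] at this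
    rw [hR, this, hPdef, MajorSub.aeval_pol hJ hω.pow_eq_one]
  obtain ⟨R', hR'⟩ := CycInt.dvd_of_local hω hM (CycInt.natDegree_red_lt hω hp P) hwR (hR1.trans hw)
  have hp0 : (0 : ℝ) < (p : ℝ) ^ h := pow_pos (by exact_mod_cast hp.pos) h
  set r := fun u : (ZMod (p ^ (K + 1)))ˣ =>
    (ctr p e (fun η => (ω ^ (u : ZMod (p ^ (K + 1))).val) ^ J η) χ χ).re / (p : ℝ) ^ h with hr
  have hval : ∀ u : (ZMod (p ^ (K + 1)))ˣ, aeval (ω ^ (u : ZMod (p ^ (K + 1))).val) R' = (r u : ℂ) := by
    intro u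
    have h1 := CycInt.aeval_red hω hp P (ZMod.val_coe_unit_coprime u)
    rw [hR', map_mul, aeval_C, hPdef, MajorSub.aeval_pol hJ (hμN _),
      ctr_self_eq hM hind.1 (hcj _)] at h1
    simp only [hr, ctr_self_eq hM hind.1 (hcj _), Complex.ofReal_re]
    rw [Complex.ofReal_div, eq_div_iff (by exact_mod_cast hp0.ne'), ← h1]
    simp only [eq_intCast, Int.cast_pow, Int.cast_natCast, map_pow, map_natCast, Complex.ofReal_pow,
      Complex.ofReal_natCast]
    ring
  have hne : aeval ω R' ≠ 0 := by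
    intro h0
    have h1 : ctr p e (fun η => ω ^ J η) χ χ = 0 := by rw [← hR1, hR, hR', map_mul, h0, mul_zero]
    have hc1 : ∀ η, conj (ω ^ J η) = (ω ^ J η)⁻¹ := fun η => by simpa using hcj 1 η
    have h2 := h1
    rw [ctr_self_eq hM hind.1 hc1, Complex.ofReal_eq_zero, mul_eq_zero,
      or_iff_right (pow_ne_zero _ (Nat.cast_ne_zero.mpr hp.ne_zero)), mul_eq_zero,
      or_iff_right (inv_ne_zero (Nat.cast_ne_zero.mpr Nat.card_pos.ne')),
      Finset.sum_eq_zero_iff_of_nonneg fun _ _ => Complex.normSq_nonneg _] at h2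
    obtain ⟨χ0, hχ0, h00⟩ := exists_height_zero (p := p) (block_nonempty hP hind.2.1)
    obtain ⟨w', -, hw', hwiff⟩ := MajorSub.major_unit hz hzk hM hk hind hd hχ hχ0
    rw [← MajorSub.sum_locFun_mul_conj hc1 hM hind.1,
      Finset.sum_eq_zero fun s hs => by rw [Complex.normSq_eq_zero.mp (h2 s hs), zero_mul], mul_zero,
      eq_comm, mul_eq_zero, or_iff_right (pow_ne_zero _ (Nat.cast_ne_zero.mpr hp.ne_zero))] at hw'
    exact hwiff.mp (hw' ▸ memLI_zero hP) h00
  have h3 := CycInt.totient_le_sum_re hω hp hne r (fun u => ?_) hval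
  swap
  · simp only [hr, ctr_self_eq hM hind.1 (hcj _), Complex.ofReal_re]
    exact div_nonneg (mul_nonneg (by positivity)
      (mul_nonneg (by positivity) (Finset.sum_nonneg fun _ _ => Complex.normSq_nonneg _))) hp0.le
  have hcard : (Fintype.card (ZMod (p ^ (K + 1)))ˣ : ℝ) =
      (((Finset.range (p ^ (K + 1))).filter fun u => ¬ p ∣ u).card : ℝ) := by
    have := CycInt.sum_units_eq hω hp (by omega) fun _ => (1 : ℝ)
    simpa using this
  have hsum : ∑ u, r u = (∑ u ∈ (Finset.range (p ^ (K + 1))).filter (fun u => ¬ p ∣ u),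
      (ctr p e (fun η => (ω ^ u) ^ J η) χ χ).re) / (p : ℝ) ^ h := by
    rw [hr, ← Finset.sum_div, CycInt.sum_units_eq hω hp (by omega)
      (fun n => (ctr p e (fun η => (ω ^ n) ^ J η) χ χ).re)]
  rw [hcard, hsum, le_div_iff₀ hp0] at h3
  exact h3

end Cfsg.Agent.Char.MajorPairs

namespace Cfsg.Agent.Char.MajorPairs

universe u

variable {G : Type u} [Group G] [Fintype G] {M : Ideal AlgInt} {p : ℕ}

open scoped Classical in
/-- The number of major subsections times `p ^ h` is at most `p ^ d`. -/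
theorem card_pairs_mul_le (hM : IsPModular p M) {B : Set (IrrCharacter G)}
    (X : Finset G) (hX : ∀ x ∈ X, ∃ k : ℕ, orderOf x = p ^ k)
    (hXinj : ∀ x ∈ X, ∀ y ∈ X, IsConj x y → x = y)
    (F : ∀ x : G, Finset (Set (IrrCharacter (Subgroup.centralizer ({x} : Set G)))))
    (hF : ∀ x ∈ X, ∀ f ∈ F x, IsInducedBlock M (Subgroup.centralizer ({x} : Set G)) f B ∧
      blockDefect p f = blockDefect p B)
    {χ : IrrCharacter G} (hχ : χ ∈ B) :
    (∑ x ∈ X, (F x).card) * p ^ blockHeight p B (χ : G → ℂ) ≤ p ^ blockDefect p B := by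
  have hP := pmod_prime hM
  have hp := hM.1
  set h := blockHeight p B (χ : G → ℂ) with hh
  set d := blockDefect p B with hd
  letI : ∀ x : G, Fintype (Subgroup.centralizer ({x} : Set G)) := fun x => Fintype.ofFinite _
  set K := (Nat.card G).factorization p with hK
  obtain ⟨ω, hω⟩ : ∃ ω : ℂ, IsPrimitiveRoot ω (p ^ (K + 1)) :=
    ⟨_, Complex.isPrimitiveRoot_exp _ (pow_ne_zero _ hp.ne_zero)⟩
  have hkK : ∀ {x : G} {k : ℕ}, orderOf x = p ^ k → k ≤ K := fun {x k} hk =>
    (hp.pow_dvd_iff_le_factorization Nat.card_pos.ne').mp (hk ▸ orderOf_dvd_natCard x)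
  -- the roots
  have hJx : ∀ x : X, ∃ J : IrrCharacter (Subgroup.centralizer ({(x : G)} : Set G)) → ℕ, ∃ k, orderOf (x : G) = p ^ k ∧
      (∀ η, J η < p ^ (K + 1)) ∧ (∀ η, (ω ^ J η) ^ p ^ k = 1) ∧
      ∀ (η : IrrCharacter (Subgroup.centralizer ({(x : G)} : Set G))) (c : Subgroup.centralizer ({(x : G)} : Set G)),
        (η : Subgroup.centralizer ({(x : G)} : Set G) → ℂ)
          (⟨(x : G), Subgroup.mem_centralizer_singleton_iff.mpr rfl⟩ * c) =
          ω ^ J η * (η : Subgroup.centralizer ({(x : G)} : Set G) → ℂ) c := by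
    intro x
    obtain ⟨k, hk⟩ := hX x x.2
    have e1 : p ^ (K + 1) = p ^ (K + 1 - k) * p ^ k := by
      rw [← pow_add]; congr 1; have := hkK hk; omega
    obtain ⟨j, hj, hzj⟩ := MajorSub.exists_expo hk (hω.pow (pow_pos hp.pos _) e1)
    refine ⟨fun η => p ^ (K + 1 - k) * j η, k, hk, fun η => ?_, fun η => ?_, fun η c => ?_⟩
    · rw [e1]; exact Nat.mul_lt_mul_of_pos_left (hj η) (pow_pos hp.pos _)
    · rw [← pow_mul, show p ^ (K + 1 - k) * j η * p ^ k = p ^ (K + 1) * j η by rw [e1]; ring, pow_mul,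
        hω.pow_eq_one, one_pow]
    · rw [hzj, pow_mul]
  choose J kx hkx hJ hzk hz using hJx
  set U := (Finset.range (p ^ (K + 1))).filter (fun u => ¬ p ∣ u) with hU
  have hU1 : 1 ∈ U := Finset.mem_filter.mpr
    ⟨Finset.mem_range.mpr (Nat.one_lt_pow (by omega) hp.one_lt), hp.not_dvd_one⟩
  have hμN : ∀ u : ℕ, (ω ^ u) ^ p ^ (K + 1) = 1 := fun u => by
    rw [← pow_mul, mul_comm, pow_mul, hω.pow_eq_one, one_pow]
  -- each conjugate
  have hu : ∀ u ∈ U, ∑ x : X, ∑ f ∈ F x, (ctr p f (fun η => (ω ^ u) ^ J x η) χ χ).re ≤ (p : ℝ) ^ d := by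
    intro u hu
    have hnd := (Finset.mem_filter.mp hu).2
    have hco : ∀ x : X, Nat.Coprime (orderOf (x : G)) u := fun x => by
      rw [hkx x]
      exact ((hp.coprime_iff_not_dvd.mpr hnd).pow_left _)
    obtain ⟨m, hm⟩ : ∃ m, p ^ (K + 1) ∣ u * m - 1 ∧ 1 ≤ u * m := by
      obtain ⟨m, -, hm⟩ := Nat.exists_mul_mod_eq_one_of_coprime
        ((hp.coprime_iff_not_dvd.mpr hnd).symm.pow_right (K + 1)) (Nat.one_lt_pow (by omega) hp.one_lt)
      refine ⟨m, ⟨u * m / p ^ (K + 1), ?_⟩, ?_⟩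
      all_goals have := Nat.div_add_mod (u * m) (p ^ (K + 1))
      all_goals omega
    have hback : ∀ x : X, ((x : G) ^ u) ^ m = x := fun x => by
      have h2 : orderOf (x : G) ∣ u * m - 1 :=
        dvd_trans (hkx x ▸ pow_dvd_pow p (le_trans (hkK (hkx x)) (Nat.le_succ K))) hm.1
      rw [← pow_mul, show u * m = (u * m - 1) + 1 by omega, pow_add, pow_one, orderOf_dvd_iff_pow_eq_one.mp h2,
        one_mul]
    have hC : ∀ x : X, Subgroup.centralizer ({(x : G)} : Set G) = Subgroup.centralizer ({(x : G) ^ u} : Set G) := by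
      intro x
      ext c
      simp only [Subgroup.mem_centralizer_singleton_iff]
      refine ⟨fun hc => (Commute.pow_right (show Commute c (x : G) from hc) u).eq, fun hc => ?_⟩
      rw [← hback x]
      exact (Commute.pow_right (show Commute c ((x : G) ^ u) from hc) m).eq
    have h1 := sum_sections_norm_le hp (fun x : X => (x : G) ^ u)
      (fun x => ⟨kx x, by rw [(hco x).orderOf_pow]; exact hkx x⟩) (fun x y hxy => ?_) _ hC χ
    swap
    · obtain ⟨c, hc⟩ := isConj_iff.mp hxy
      refine Subtype.ext (hXinj x x.2 y y.2 (isConj_iff.mpr ⟨c, ?_⟩))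
      rw [← hback x, ← hback y, ← hc, conj_pow]
    refine le_of_mul_le_mul_right ?_ (inv_pos.mpr (pow_pos (show (0 : ℝ) < p by exact_mod_cast hp.pos) d))
    rw [mul_inv_cancel₀ (pow_ne_zero _ (Nat.cast_ne_zero.mpr hp.ne_zero)), Finset.sum_mul]
    refine le_trans (Finset.sum_le_sum fun x _ => ?_) h1
    refine le_trans (le_of_eq ?_) (sum_ctr_le_section hM (hz x) u (w := fun η => (ω ^ u) ^ J x η)
      (fun η => by rw [← pow_mul, ← pow_mul, mul_comm]) (fun η => (Complex.inv_eq_conj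
        (Complex.norm_eq_one_of_pow_eq_one (n := p ^ (K + 1))
          (by rw [← pow_mul (ω ^ u), mul_comm, pow_mul, hμN, one_pow]) (pow_ne_zero _ hp.ne_zero))).symm) χ
      (F x) fun f hf => (hF x x.2 f hf).1.1)
    rw [Finset.sum_mul]
    refine Finset.sum_congr rfl fun f hf => ?_
    rw [(hF x x.2 f hf).2, div_eq_mul_inv]
  have hlow : ∀ x : X, ∀ f ∈ F x, (U.card : ℝ) * (p : ℝ) ^ h ≤
      ∑ u ∈ U, (ctr p f (fun η => (ω ^ u) ^ J x η) χ χ).re := fun x f hf =>
    major_avg hM (hkx x) (hkK (hkx x)) hω (hJ x) (hzk x) (hz x) (hF x x.2 f hf).1 (hF x x.2 f hf).2 hχ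
  have hmain : ((∑ x : X, (F x).card : ℕ) : ℝ) * ((U.card : ℝ) * (p : ℝ) ^ h) ≤ (U.card : ℝ) * (p : ℝ) ^ d := by
    calc ((∑ x : X, (F x).card : ℕ) : ℝ) * ((U.card : ℝ) * (p : ℝ) ^ h)
        = ∑ x : X, ∑ _f ∈ F x, (U.card : ℝ) * (p : ℝ) ^ h := by
          rw [Nat.cast_sum, Finset.sum_mul]
          exact Finset.sum_congr rfl fun x _ => by rw [Finset.sum_const, nsmul_eq_mul]
      _ ≤ ∑ x : X, ∑ f ∈ F x, ∑ u ∈ U, (ctr p f (fun η => (ω ^ u) ^ J x η) χ χ).re :=
          Finset.sum_le_sum fun x _ => Finset.sum_le_sum fun f hf => hlow x f hf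
      _ = ∑ u ∈ U, ∑ x : X, ∑ f ∈ F x, (ctr p f (fun η => (ω ^ u) ^ J x η) χ χ).re := by
          rw [Finset.sum_congr rfl fun (x : X) _ => Finset.sum_comm, Finset.sum_comm]
      _ ≤ ∑ _u ∈ U, (p : ℝ) ^ d := Finset.sum_le_sum hu
      _ = _ := by rw [Finset.sum_const, nsmul_eq_mul]
  have hUpos : (0 : ℝ) < U.card := by exact_mod_cast Finset.card_pos.mpr ⟨1, hU1⟩
  rw [mul_left_comm] at hmain
  have := le_of_mul_le_mul_left hmain hUpos
  rw [← Finset.sum_coe_sort X]
  exact_mod_cast this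

end Cfsg.Agent.Char.MajorPairs
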