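import Cfsg.Agent.Lib.Char.SectionSqrt
import Cfsg.Agent.Lib.Char.OneBlock
import Cfsg.Agent.Lib.Char.Convolution
import Cfsg.Agent.Lib.Char.PPartElem
import Cfsg.Agent.Lib.Char.MajorPairs
import Cfsg.Agent.Lib.Solv.PSolvHall

/-!
# Regular products of conjugates of an element of order `p`

A `p`-solvable group with abelian Sylow subgroups generated by two elements of order `p` maps onto an
abelian `p`-group, and the number of conjugates with singular product is read off the principal block.
-/

set_option autoImplicit false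
set_option linter.unusedSectionVars false

namespace Cfsg.Agent.Char.OneClass

open Cfsg Cfsg.Agent.Char
open scoped ComplexConjugate

universe u

variable {G : Type u} [Group G] {p : ℕ} [hp : Fact p.Prime]

/-- In a `p`-solvable group with trivial `p'`-core and commutative `p`-subgroups every `p`-element
lies in the `p`-core. -/
theorem mem_pCore_of_commutative [Finite G] (hG : IsPSolvable p G) (h0 : pPrimeCore p G = ⊥)
    (hab : ∀ S : Sylow p G, IsMulCommutative (S : Subgroup G)) {z : G}
    (hz : ∃ k : ℕ, orderOf z = p ^ k) : z ∈ pCore p G := by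
  haveI : (pCore p G).Normal := Solv.pCore_normal p
  refine centralizer_pCore_le_of_pSolvable hG h0 ?_
  obtain ⟨k, hk⟩ := hz
  have hzp : IsPGroup p (Subgroup.zpowers z) :=
    IsPGroup.of_card (n := k) (by rw [Nat.card_zpowers, hk])
  obtain ⟨S, hS⟩ := (hzp.to_sup_of_normal_right (Fusion.isPGroup_pCore p G)).exists_le_sylow
  refine Subgroup.mem_centralizer_iff.2 fun y hy => ?_
  have hy' : y ∈ (S : Subgroup G) := hS (Subgroup.mem_sup_right hy)
  have hz' : z ∈ (S : Subgroup G) := hS (Subgroup.mem_sup_left (Subgroup.mem_zpowers z))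
  exact congrArg Subtype.val ((hab S).is_comm.comm ⟨y, hy'⟩ ⟨z, hz'⟩)

/-- Two regular products of an element of order `p` with powers of another use congruent powers. -/
theorem modEq_of_regular [Finite G] {x y : G} (hx : orderOf x = p) (hy : y ^ p = 1)
    (hgen : Subgroup.closure ({x, y} : Set G) = ⊤) (hG : IsPSolvable p G)
    (hab : ∀ S : Sylow p G, IsMulCommutative (S : Subgroup G)) {i j : ℕ}
    (hi : ¬ p ∣ orderOf (x * y ^ i)) (hj : ¬ p ∣ orderOf (x * y ^ j)) : i ≡ j [MOD p] := by
  set N := pPrimeCore p G with hN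
  set π := QuotientGroup.mk' N with hπ
  have hsur : Function.Surjective π := QuotientGroup.mk'_surjective N
  have hQ : IsPSolvable p (G ⧸ N) := Solv.isPSolvable_map hp.out hG π hsur
  have habQ : ∀ S : Sylow p (G ⧸ N), IsMulCommutative (S : Subgroup (G ⧸ N)) := by
    intro S
    obtain ⟨T, rfl⟩ := Sylow.mapSurjective_surjective hsur p S
    refine ⟨⟨fun a b => ?_⟩⟩
    obtain ⟨a', ha', hae⟩ := a.2
    obtain ⟨b', hb', hbe⟩ := b.2
    refine Subtype.ext ?_
    show (a : G ⧸ N) * b = b * a
    rw [← hae, ← hbe, ← map_mul, ← map_mul]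
    exact congrArg π (congrArg Subtype.val ((hab T).is_comm.comm ⟨a', ha'⟩ ⟨b', hb'⟩))
  have hpow : ∀ a : G, a ^ p = 1 → π a ∈ pCore p (G ⧸ N) := fun a ha => by
    refine mem_pCore_of_commutative hQ Fusion.pPrimeCore_quotient_eq_bot habQ ?_
    obtain ⟨k, -, hk⟩ := (Nat.dvd_prime_pow hp.out).1
      (orderOf_dvd_of_pow_eq_one (x := π a) (n := p ^ 1) (by rw [pow_one, ← map_pow, ha, map_one]))
    exact ⟨k, hk⟩
  have hxp : x ^ p = 1 := by rw [← hx]; exact pow_orderOf_eq_one x
  have htop : pCore p (G ⧸ N) = ⊤ := by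
    rw [eq_top_iff, ← Subgroup.map_top_of_surjective π hsur, ← hgen, MonoidHom.map_closure,
      Subgroup.closure_le]
    rintro _ ⟨a, rfl | rfl, rfl⟩
    · exact hpow a hxp
    · exact hpow a hy
  have hpg : IsPGroup p (G ⧸ N) := by
    have h := Fusion.isPGroup_pCore p (G ⧸ N)
    rw [htop] at h
    exact h.of_equiv Subgroup.topEquiv
  have hreg : ∀ a : G, ¬ p ∣ orderOf a → π a = 1 := fun a ha => by
    obtain ⟨k, hk⟩ := hpg (π a)
    obtain ⟨m, -, hm⟩ := (Nat.dvd_prime_pow hp.out).1 (orderOf_dvd_of_pow_eq_one hk)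
    rw [← orderOf_eq_one_iff, hm]
    cases m with
    | zero => rfl
    | succ m => exact absurd ((dvd_pow_self p (Nat.succ_ne_zero m)).trans
        (hm ▸ orderOf_map_dvd π a)) ha
  have hx1 : π x ≠ 1 := fun h => by
    have h1 : x ∈ N := (QuotientGroup.eq_one_iff x).1 h
    have h2 := Fusion.mem_pPrimeCore_orderOf h1
    rw [hx, Nat.coprime_self] at h2
    exact hp.out.ne_one h2
  have ei := hreg _ hi
  have ej := hreg _ hj
  rw [map_mul, map_pow] at ei ej
  have hy1 : π y ^ i = π y ^ j := mul_left_cancel (ei.trans ej.symm)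
  have hoy : orderOf (π y) = p := by
    refine orderOf_eq_prime (by rw [← map_pow, hy, map_one]) fun h => hx1 ?_
    rwa [h, one_pow, mul_one] at ei
  have := pow_eq_pow_iff_modEq.1 hy1
  rwa [hoy] at this

section Count

variable [Fintype G] {M : Ideal AlgInt} {x : G} [Fintype (Subgroup.centralizer ({x} : Set G))]
  (K : Subgroup (Subgroup.centralizer ({x} : Set G))) [K.Normal]

open scoped Classical in
/-- The columns of the principal block on the section of `x`. -/
theorem sum_principal_pair (hM : IsPModular p M) (hx : ∃ k : ℕ, orderOf x = p ^ k)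
    (hK : ¬ p ∣ Nat.card K) {k : ℕ} (hk : K.index = p ^ k)
    {v w : Subgroup.centralizer ({x} : Set G)} (hv : v ∈ K) (hw : w ∈ K) :
    ∑ χ : IrrCharacter G with χ ∈ principalBlock M G,
      conj ((χ : G → ℂ) (x * (v : G))) * (χ : G → ℂ) (x * (w : G)) = (K.index : ℂ) := by
  have hreg := regular_iff_mem_of_index hp.out K hK hk
  rw [sum_block_section_orth hM hx (isPBlock_principalBlock M) v w ((hreg v).mpr hv) ((hreg w).mpr hw),
    principal_section_filter hM hx, Finset.sum_singleton, ← sum_sq_trivial_on K (pmod_prime hM)]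
  refine Finset.sum_congr ?_ fun ξ hξ => ?_
  · exact Finset.filter_congr fun ξ _ => mem_principal_iff_of_index hM K hK hk ξ
  · have h := (Finset.mem_filter.1 hξ).2
    obtain ⟨d, hd⟩ := charOne_eq_natCast (irr_isCharacter ξ.2)
    rw [h v hv, h w hw, hd, map_natCast]

open scoped Classical in
/-- Characters of the principal block are constant on the section of `x`. -/
theorem principal_section_const (hM : IsPModular p M) (hx : ∃ k : ℕ, orderOf x = p ^ k)
    (hK : ¬ p ∣ Nat.card K) {k : ℕ} (hk : K.index = p ^ k) {χ : IrrCharacter G}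
    (hχ : χ ∈ principalBlock M G) {v : Subgroup.centralizer ({x} : Set G)} (hv : v ∈ K) :
    (χ : G → ℂ) (x * (v : G)) = (χ : G → ℂ) x := by
  have h11 := sum_principal_pair K hM hx hK hk (one_mem K) (one_mem K)
  have hv1 := sum_principal_pair K hM hx hK hk hv (one_mem K)
  have h1v := sum_principal_pair K hM hx hK hk (one_mem K) hv
  have hvv := sum_principal_pair K hM hx hK hk hv hv
  simp only [OneMemClass.coe_one, mul_one] at h11 hv1 h1v
  have h0 : ∑ ψ : IrrCharacter G with ψ ∈ principalBlock M G,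
      conj ((ψ : G → ℂ) (x * (v : G)) - (ψ : G → ℂ) x) *
        ((ψ : G → ℂ) (x * (v : G)) - (ψ : G → ℂ) x) = 0 := by
    simp only [map_sub, sub_mul, mul_sub, Finset.sum_sub_distrib]
    rw [h11, hv1, h1v, hvv]
    ring
  simp only [Complex.conj_mul'] at h0
  have h1 : ∑ ψ : IrrCharacter G with ψ ∈ principalBlock M G,
      ‖(ψ : G → ℂ) (x * (v : G)) - (ψ : G → ℂ) x‖ ^ 2 = 0 := by exact_mod_cast h0
  have h2 := (Finset.sum_eq_zero_iff_of_nonneg fun ψ _ => by positivity).1 h1 χ
    (Finset.mem_filter.2 ⟨Finset.mem_univ _, hχ⟩)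
  exact sub_eq_zero.1 (norm_eq_zero.1 (pow_eq_zero_iff two_ne_zero |>.1 h2))

open scoped Classical in
/-- The sum of a character over the section of `x`. -/
theorem section_sum_values (hM : IsPModular p M) (hx : ∃ k : ℕ, orderOf x = p ^ k)
    (hK : ¬ p ∣ Nat.card K) {k : ℕ} (hk : K.index = p ^ k) (χ : IrrCharacter G) :
    ∑ v ∈ Finset.univ.filter (fun v : Subgroup.centralizer ({x} : Set G) => v ∈ K),
        (χ : G → ℂ) (x * (v : G)) =
      if χ ∈ principalBlock M G then (Nat.card K : ℂ) * (χ : G → ℂ) x else 0 := by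
  set S := Finset.univ.filter (fun v : Subgroup.centralizer ({x} : Set G) => v ∈ K) with hS
  have hmem : ∀ {v}, v ∈ S → v ∈ K := fun {v} hv => (Finset.mem_filter.1 hv).2
  have hcard : S.card = Nat.card K := by
    rw [Nat.card_eq_fintype_card, Fintype.card_subtype]
  split_ifs with hχ
  · rw [Finset.sum_congr rfl fun v hv => principal_section_const K hM hx hK hk hχ (hmem hv),
      Finset.sum_const, nsmul_eq_mul, hcard]
  · set T : IrrCharacter G → ℂ := fun ψ => ∑ v ∈ S, (ψ : G → ℂ) (x * (v : G)) with hT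
    show T χ = 0
    have hreg := regular_iff_mem_of_index hp.out K hK hk
    have hidx : (Nat.card K : ℂ) * (K.index : ℂ) =
        (Nat.card (Subgroup.centralizer ({x} : Set G)) : ℂ) := by
      rw [← Nat.cast_mul, Subgroup.card_mul_index]
    have hall : ∀ v ∈ S, ∑ w ∈ S, ∑ ψ : IrrCharacter G,
        (ψ : G → ℂ) (x * (w : G)) * conj ((ψ : G → ℂ) (x * (v : G))) =
          (Nat.card K : ℂ) * (K.index : ℂ) := by
      intro v hv
      rw [Finset.sum_congr rfl fun (w : Subgroup.centralizer ({x} : Set G)) _ =>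
        second_orth (x * (w : G)) (x * (v : G)), ← Finset.sum_filter,
        Finset.sum_const, nsmul_eq_mul, hidx]
      have e : S.filter (fun w : Subgroup.centralizer ({x} : Set G) =>
          IsConj (x * (w : G)) (x * (v : G))) =
          Finset.univ.filter fun w : Subgroup.centralizer ({x} : Set G) => IsConj v w := by
        ext w
        simp only [hS, Finset.mem_filter, Finset.mem_univ, true_and]
        refine ⟨fun h => ((isConj_section hp.out hx w v ((hreg w).mpr h.1)
          ((hreg v).mpr (hmem hv))).1 h.2).symm, fun h => ?_⟩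
        have hw : w ∈ K := by
          obtain ⟨c, rfl⟩ := isConj_iff.1 h
          exact (inferInstance : K.Normal).conj_mem v (hmem hv) c
        exact ⟨hw, (isConj_section hp.out hx w v ((hreg w).mpr hw)
          ((hreg v).mpr (hmem hv))).2 h.symm⟩
      rw [e, ← Fintype.card_subtype, ← Nat.card_eq_fintype_card]
      have h1 := card_conjClass_mul_centralizer (x * (v : G))
      rw [card_centralizer_section hp.out hx v ((hreg v).mpr (hmem hv))] at h1
      have h2 := card_conjClass_mul_centralizer v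
      rw [← h1, ← h2, Nat.cast_mul, Nat.cast_mul,
        mul_div_cancel_left₀ _ (Nat.cast_ne_zero.2 (card_conjClass_ne_zero (x * (v : G))))]
    have htot : ∑ ψ : IrrCharacter G, T ψ * conj (T ψ) =
        (Nat.card K : ℂ) * (Nat.card K : ℂ) * (K.index : ℂ) := by
      simp only [hT, map_sum, Finset.sum_mul_sum]
      rw [Finset.sum_comm, Finset.sum_congr rfl fun w _ => Finset.sum_comm, Finset.sum_comm,
        Finset.sum_congr rfl hall, Finset.sum_const, nsmul_eq_mul, hcard]
      ring
    have hB : ∑ ψ : IrrCharacter G with ψ ∈ principalBlock M G, T ψ * conj (T ψ) =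
        (Nat.card K : ℂ) * (Nat.card K : ℂ) * (K.index : ℂ) := by
      simp only [hT, map_sum, Finset.sum_mul_sum]
      rw [Finset.sum_comm, Finset.sum_congr rfl fun w _ => Finset.sum_comm]
      have e : ∀ w ∈ S, ∑ v ∈ S, ∑ ψ : IrrCharacter G with ψ ∈ principalBlock M G,
          (ψ : G → ℂ) (x * (w : G)) * conj ((ψ : G → ℂ) (x * (v : G))) =
            (Nat.card K : ℂ) * (K.index : ℂ) := by
        intro w hw
        rw [Finset.sum_congr rfl fun v hv => (Finset.sum_congr rfl fun ψ _ => mul_comm _ _).trans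
          (sum_principal_pair K hM hx hK hk (hmem hv) (hmem hw)), Finset.sum_const, nsmul_eq_mul, hcard]
      rw [Finset.sum_congr rfl e, Finset.sum_const, nsmul_eq_mul, hcard]
      ring
    rw [← Finset.sum_filter_add_sum_filter_not Finset.univ
      (fun ψ : IrrCharacter G => ψ ∈ principalBlock M G), hB, add_eq_left] at htot
    simp only [Complex.mul_conj'] at htot
    have h1 : ∑ ψ : IrrCharacter G with ψ ∉ principalBlock M G, ‖T ψ‖ ^ 2 = 0 := by
      exact_mod_cast htot
    have h2 := (Finset.sum_eq_zero_iff_of_nonneg fun ψ _ => by positivity).1 h1 χ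
      (Finset.mem_filter.2 ⟨Finset.mem_univ _, hχ⟩)
    exact norm_eq_zero.1 (pow_eq_zero_iff two_ne_zero |>.1 h2)

open scoped Classical in
/-- The coefficients of the indicator of the singular elements when they form one section. -/
theorem classInner_singular (hM : IsPModular p M) (hx : orderOf x = p)
    (hone : ∀ u : G, (∃ i : ℕ, orderOf u = p ^ i) → u ≠ 1 → IsConj x u)
    (hK : ¬ p ∣ Nat.card K) {k : ℕ} (hk : K.index = p ^ k) (χ : IrrCharacter G) :
    classInner (fun g : G => if p ∣ orderOf g then (1 : ℂ) else 0) (χ : G → ℂ) =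
      (K.index : ℂ)⁻¹ * (if χ ∈ principalBlock M G then conj ((χ : G → ℂ) x) else 0) := by
  have hx' : ∃ i : ℕ, orderOf x = p ^ i := ⟨1, by rw [hx, pow_one]⟩
  have hsing : ∀ g : G, p ∣ orderOf g ↔ IsConj x (ppt p g) := by
    intro g
    obtain ⟨y, hy, hcm, hpow, hreg⟩ := isPPart_ppt hp.out g
    constructor
    · intro hg
      refine hone _ hpow fun h1 => hreg ?_
      rw [h1, one_mul] at hy
      rwa [hy]
    · intro h
      obtain ⟨c, hc⟩ := isConj_iff.1 h
      have ho : orderOf (ppt p g) = p := by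
        rw [← hc, ← MulAut.conj_apply, MulEquiv.orderOf_eq, hx]
      rw [← hy, hcm.orderOf_mul_eq_mul_orderOf_of_coprime (by
        rw [ho]; exact hp.out.coprime_iff_not_dvd.2 hreg), ho]
      exact dvd_mul_right p _
  have hc : IsClassFunction G fun g : G => conj ((χ : G → ℂ) g) :=
    isClassFunction_character (isCharacter_conj (irr_isCharacter χ.2))
  have hsec := Cfsg.Agent.Char.MajorPairs.section_sum hp.out hx'
    (C := Subgroup.centralizer ({x} : Set G)) rfl hc
  have hfil : (Finset.univ.filter fun v : Subgroup.centralizer ({x} : Set G) => ¬ p ∣ orderOf v) =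
      Finset.univ.filter fun v => v ∈ K :=
    Finset.filter_congr fun v _ => regular_iff_mem_of_index hp.out K hK hk v
  rw [hfil] at hsec
  have hconj : ∑ v ∈ Finset.univ.filter (fun v : Subgroup.centralizer ({x} : Set G) => v ∈ K),
      conj ((χ : G → ℂ) (x * (v : G))) =
      if χ ∈ principalBlock M G then (Nat.card K : ℂ) * conj ((χ : G → ℂ) x) else 0 := by
    rw [← map_sum, section_sum_values K hM hx' hK hk χ]
    split_ifs <;> simp
  rw [hconj] at hsec
  have e : ∑ g : G, (if p ∣ orderOf g then (1 : ℂ) else 0) * conj ((χ : G → ℂ) g) =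
      ∑ g : G with IsConj x (ppt p g), conj ((χ : G → ℂ) g) := by
    rw [Finset.sum_filter]
    refine Finset.sum_congr rfl fun g _ => ?_
    simp only [← hsing g]
    split_ifs <;> simp
  have hG : (Nat.card G : ℂ) = (Nat.card K : ℂ) * (K.index : ℂ) *
      ((Subgroup.centralizer ({x} : Set G)).index : ℂ) := by
    rw [← Nat.cast_mul, ← Nat.cast_mul, Subgroup.card_mul_index, Subgroup.card_mul_index]
  rw [classInner, e, hsec]
  have h1 : (Nat.card K : ℂ) ≠ 0 := Nat.cast_ne_zero.2 Nat.card_pos.ne'
  have h2 : (K.index : ℂ) ≠ 0 := Nat.cast_ne_zero.2 K.index_ne_zero_of_finite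
  have h3 : ((Subgroup.centralizer ({x} : Set G)).index : ℂ) ≠ 0 :=
    Nat.cast_ne_zero.2 (Subgroup.index_ne_zero_of_finite)
  rw [hG]
  split_ifs
  · field_simp
  · simp

open scoped Classical in
/-- The number of conjugators giving a singular product. -/
theorem card_singular_products (hM : IsPModular p M) (hx : orderOf x = p)
    (hone : ∀ u : G, (∃ i : ℕ, orderOf u = p ^ i) → u ≠ 1 → IsConj x u)
    (hK : ¬ p ∣ Nat.card K) {k : ℕ} (hk : K.index = p ^ k) :
    ((Finset.univ.filter fun h : G => p ∣ orderOf (x * (h * x * h⁻¹))).card : ℂ) * (K.index : ℂ) =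
      (Nat.card G : ℂ) * ∑ χ : IrrCharacter G with χ ∈ principalBlock M G,
        (χ : G → ℂ) x * (χ : G → ℂ) x * conj ((χ : G → ℂ) x) / (χ : G → ℂ) 1 := by
  set f : G → ℂ := fun g => if p ∣ orderOf g then (1 : ℂ) else 0 with hf
  have hfc : IsClassFunction G f := fun g h => by
    simp only [hf, ← MulAut.conj_apply, MulEquiv.orderOf_eq]
  have h1 : ((Finset.univ.filter fun h : G => p ∣ orderOf (x * (h * x * h⁻¹))).card : ℂ) =
      ∑ h : G, f (x * (h * x * h⁻¹)) := by
    rw [Finset.natCast_card_filter]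
  have h2 : ∀ χ : IrrCharacter G, ∑ h : G, (χ : G → ℂ) (x * (h * x * h⁻¹)) =
      (Nat.card G : ℂ) * ((χ : G → ℂ) x * (χ : G → ℂ) x / (χ : G → ℂ) 1) := fun χ => by
    have h := sum_conj_mul χ.2 x x
    have hd := irr_one_ne_zero χ.2
    field_simp
    linear_combination h
  have h3 : ∀ g : G, f g = ∑ χ : IrrCharacter G, classInner f (χ : G → ℂ) * (χ : G → ℂ) g :=
    fun g => by
      conv_lhs => rw [classFun_expansion hfc]
      simp [Finset.sum_apply]
  rw [h1, Finset.sum_congr rfl fun h _ => h3 _, Finset.sum_comm, Finset.sum_mul, Finset.sum_filter,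
    Finset.mul_sum]
  refine Finset.sum_congr rfl fun χ _ => ?_
  rw [← Finset.mul_sum, h2 χ, classInner_singular K hM hx hone hK hk χ]
  have hi : (K.index : ℂ) ≠ 0 := Nat.cast_ne_zero.2 K.index_ne_zero_of_finite
  split_ifs
  · field_simp
  · simp

open scoped Classical in
/-- The degrees of the principal block are orthogonal to the column of `x`. -/
theorem sum_degree_column (hM : IsPModular p M) (hx : orderOf x = p)
    (hK : ¬ p ∣ Nat.card K) {k : ℕ} (hk : K.index = p ^ k) :
    ∑ χ : IrrCharacter G with χ ∈ principalBlock M G,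
      (χ : G → ℂ) x * conj ((χ : G → ℂ) 1) = 0 := by
  have hx' : ∃ i : ℕ, orderOf x = p ^ i := ⟨1, by rw [hx, pow_one]⟩
  have hreg := regular_iff_mem_of_index hp.out K hK hk
  set S := Finset.univ.filter (fun v : Subgroup.centralizer ({x} : Set G) => v ∈ K) with hS
  have h1 : ∀ v ∈ S, ∑ χ : IrrCharacter G, (χ : G → ℂ) (x * (v : G)) * conj ((χ : G → ℂ) 1) = 0 := by
    intro v hv
    rw [second_orth, if_neg]
    intro h
    rw [isConj_comm, isConj_one_right] at h
    have h2 : (v : G) = x⁻¹ := eq_inv_of_mul_eq_one_right h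
    refine (hreg v).mpr (Finset.mem_filter.1 hv).2 ?_
    rw [← Subgroup.orderOf_coe, h2, orderOf_inv, hx]
  have h2 := Finset.sum_eq_zero h1
  rw [Finset.sum_comm] at h2
  simp only [← Finset.sum_mul, hS, section_sum_values K hM hx' hK hk, ite_mul, zero_mul] at h2
  rw [← Finset.sum_filter] at h2
  simp only [mul_assoc, ← Finset.mul_sum] at h2
  exact (mul_eq_zero.1 h2).resolve_left (Nat.cast_ne_zero.2 Nat.card_pos.ne')

end Count

end Cfsg.Agent.Char.OneClass
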