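import Cfsg.Agent.Lib.Char.Contrib

/-!
# Heights and bounds for blocks
-/

set_option autoImplicit false

namespace Cfsg.Agent.Char

open Cfsg Module
open scoped ComplexConjugate

universe u

variable {G : Type u} [Group G] [Fintype G] {M : Ideal AlgInt} {p : ℕ}
  {B : Set (IrrCharacter G)}

/-- The least `p`-exponent of a degree in the block. -/
noncomputable def dmin (p : ℕ) (B : Set (IrrCharacter G)) : ℕ :=
  sInf ((fun χ : IrrCharacter G => (charDegree (χ : G → ℂ)).factorization p) '' B)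

omit [Fintype G] in
theorem dmin_le {χ : IrrCharacter G} (h : χ ∈ B) : dmin p B ≤ dexp p (χ : G → ℂ) :=
  Nat.sInf_le ⟨χ, h, rfl⟩

omit [Fintype G] in
theorem exists_dexp_eq_dmin (hB : B.Nonempty) : ∃ χ ∈ B, dexp p (χ : G → ℂ) = dmin p B := by
  obtain ⟨χ, hχ, h⟩ := Nat.sInf_mem
    (hB.image fun χ : IrrCharacter G => (charDegree (χ : G → ℂ)).factorization p)
  exact ⟨χ, hχ, h⟩

omit [Fintype G] in
theorem blockHeight_eq (p : ℕ) (B : Set (IrrCharacter G)) (χ : IrrCharacter G) :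
    blockHeight p B (χ : G → ℂ) = dexp p (χ : G → ℂ) - dmin p B := rfl

omit [Fintype G] in
theorem blockHeight_eq_zero_iff {χ : IrrCharacter G} (h : χ ∈ B) :
    blockHeight p B (χ : G → ℂ) = 0 ↔ dexp p (χ : G → ℂ) = dmin p B := by
  have := dmin_le (p := p) h
  rw [blockHeight_eq]
  omega

omit [Fintype G] in
theorem dexp_eq_height_add {χ : IrrCharacter G} (h : χ ∈ B) :
    dexp p (χ : G → ℂ) = dmin p B + blockHeight p B (χ : G → ℂ) := by
  have := dmin_le (p := p) h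
  rw [blockHeight_eq]
  omega

omit [Fintype G] in
theorem dexp_le [Finite G] {χ : G → ℂ} (h : IsIrrCharacter G χ) :
    dexp p χ ≤ (Nat.card G).factorization p := by
  have := Fintype.ofFinite G
  exact (Nat.factorization_le_iff_dvd (deg_pos h).ne' Nat.card_pos.ne').mpr (deg_dvd_card h) p

theorem exists_height_zero (hB : B.Nonempty) : ∃ χ ∈ B, blockHeight p B (χ : G → ℂ) = 0 := by
  obtain ⟨χ, hχ, h⟩ := exists_dexp_eq_dmin (p := p) hB
  exact ⟨χ, hχ, (blockHeight_eq_zero_iff hχ).mpr h⟩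

theorem dmin_add_defect (hB : B.Nonempty) :
    dmin p B + blockDefect p B = (Nat.card G).factorization p := by
  obtain ⟨χ, -, h⟩ := exists_dexp_eq_dmin (p := p) hB
  have := dexp_le (p := p) χ.2
  show dmin p B + ((Nat.card G).factorization p - dmin p B) = _
  omega

theorem pow_dexp_dvd_iff_height (hM : IsPModular p M) (hB : IsPBlock M B) {χ ψ : IrrCharacter G}
    (hχ : χ ∈ B) (hψ : ψ ∈ B) : UnitAt p χ ψ ↔ blockHeight p B (ψ : G → ℂ) = 0 := by
  have hle : ∀ ψ' : IrrCharacter G, UnitAt p χ ψ' → ∀ θ ∈ B, dexp p (ψ' : G → ℂ) ≤ dexp p (θ : G → ℂ) := by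
    intro ψ' h θ hθ
    have h1 := (unitAt_congr hM (block_sameBlock (pmod_prime hM) hB hχ hθ) ψ').mp h
    by_contra hlt
    exact h1 ((pow_dvd_pow _ (by omega)).trans (zI_dvd_right hM θ ψ'))
  constructor
  · intro h
    obtain ⟨θ, hθ, e⟩ := exists_dexp_eq_dmin (p := p) (block_nonempty (pmod_prime hM) hB)
    rw [blockHeight_eq_zero_iff hψ]
    exact le_antisymm (e ▸ hle ψ h θ hθ) (dmin_le hψ)
  · intro h
    obtain ⟨ψ0, hu⟩ := exists_unitAt hM χ
    have hψ0 : ψ0 ∈ B := (mem_block_iff (pmod_prime hM) hB hχ _).mpr (hu.sameBlock hM)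
    have e0 : dexp p (ψ0 : G → ℂ) = dexp p (ψ : G → ℂ) :=
      le_antisymm (hle ψ0 hu ψ hψ) (((blockHeight_eq_zero_iff hψ).mp h) ▸ dmin_le hψ0)
    have h1 := (unitAt_congr hM (block_sameBlock (pmod_prime hM) hB hχ hψ) ψ0).mp hu
    have h2 : UnitAt p ψ0 ψ := by
      rw [UnitAt, zI_symm hM.1, e0]
      exact h1
    exact (unitAt_congr hM (block_sameBlock (pmod_prime hM) hB hψ0 hχ) ψ).mp h2

theorem pow_dmin_dvd (hM : IsPModular p M) (hB : IsPBlock M B) {χ : IrrCharacter G} (hχ : χ ∈ B)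
    (ψ : IrrCharacter G) : (p : ℤ) ^ dmin p B ∣ zI p χ ψ :=
  (pow_dvd_pow _ (dmin_le hχ)).trans (zI_dvd_left hM χ ψ)

/-- `zI` divided by the least power occurring in the block. -/
noncomputable def wI (p : ℕ) (B : Set (IrrCharacter G)) (χ ψ : IrrCharacter G) : ℤ :=
  zI p χ ψ / (p : ℤ) ^ dmin p B

theorem zI_eq_mul_wI (hM : IsPModular p M) (hB : IsPBlock M B) {χ : IrrCharacter G} (hχ : χ ∈ B)
    (ψ : IrrCharacter G) : zI p χ ψ = (p : ℤ) ^ dmin p B * wI p B χ ψ :=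
  (Int.mul_ediv_cancel' (pow_dmin_dvd hM hB hχ ψ)).symm

theorem wI_symm (hM : IsPModular p M) (χ ψ : IrrCharacter G) : wI p B χ ψ = wI p B ψ χ := by
  rw [wI, wI, zI_symm hM.1]

theorem wI_pow_dvd (hM : IsPModular p M) (hB : IsPBlock M B) {χ : IrrCharacter G} (hχ : χ ∈ B)
    (ψ : IrrCharacter G) : (p : ℤ) ^ blockHeight p B (χ : G → ℂ) ∣ wI p B χ ψ := by
  have h := zI_dvd_left hM χ ψ
  rw [zI_eq_mul_wI hM hB hχ ψ, dexp_eq_height_add hχ, pow_add] at h
  exact (mul_dvd_mul_iff_left (pow_ne_zero _ (Int.natCast_ne_zero.mpr hM.1.ne_zero))).mp h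

theorem wI_succ_dvd_iff (hM : IsPModular p M) (hB : IsPBlock M B) {χ ψ : IrrCharacter G}
    (hχ : χ ∈ B) (hψ : ψ ∈ B) :
    (p : ℤ) ^ (blockHeight p B (χ : G → ℂ) + 1) ∣ wI p B χ ψ ↔
      blockHeight p B (ψ : G → ℂ) ≠ 0 := by
  rw [← not_iff_not, not_not, ← pow_dexp_dvd_iff_height hM hB hχ hψ, UnitAt,
    zI_eq_mul_wI hM hB hχ ψ, dexp_eq_height_add hχ, add_assoc, pow_add (p : ℤ) (dmin p B),
    mul_dvd_mul_iff_left (pow_ne_zero _ (Int.natCast_ne_zero.mpr hM.1.ne_zero))]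

theorem wI_ne_zero (hM : IsPModular p M) (hB : IsPBlock M B) {χ ψ : IrrCharacter G}
    (hχ : χ ∈ B) (hψ : ψ ∈ B) (h : blockHeight p B (ψ : G → ℂ) = 0) : wI p B χ ψ ≠ 0 :=
  fun h0 => ((wI_succ_dvd_iff hM hB hχ hψ).mp (h0 ▸ dvd_zero _)) h

theorem wI_self_pos (hM : IsPModular p M) (hB : IsPBlock M B) {χ : IrrCharacter G} (hχ : χ ∈ B) :
    0 < wI p B χ χ :=
  pos_of_mul_pos_right (zI_eq_mul_wI hM hB hχ χ ▸ zI_self_pos hM.1 χ)
    (pow_nonneg (Int.natCast_nonneg p) _)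

open scoped Classical in
/-- The members of a block as a finset. -/
noncomputable def bset (B : Set (IrrCharacter G)) : Finset (IrrCharacter G) :=
  Finset.univ.filter fun θ => θ ∈ B

theorem mem_bset {θ : IrrCharacter G} : θ ∈ bset B ↔ θ ∈ B := by
  classical
  simp [bset]

theorem sum_wI_sq (hM : IsPModular p M) (hB : IsPBlock M B) {χ : IrrCharacter G} (hχ : χ ∈ B) :
    ∑ θ ∈ bset B, wI p B χ θ ^ 2 = (p : ℤ) ^ blockDefect p B * wI p B χ χ := by
  classical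
  have hne : (p : ℤ) ^ dmin p B ≠ 0 := pow_ne_zero _ (Int.natCast_ne_zero.mpr hM.1.ne_zero)
  have h := sum_zI_mul hM.1 χ χ
  rw [← dmin_add_defect (p := p) (block_nonempty (pmod_prime hM) hB), pow_add] at h
  have e : ∑ θ : IrrCharacter G, zI p χ θ * zI p θ χ =
      ∑ θ ∈ bset B, ((p : ℤ) ^ dmin p B * (p : ℤ) ^ dmin p B) * wI p B χ θ ^ 2 := by
    rw [bset, Finset.sum_filter]
    refine Finset.sum_congr rfl fun θ _ => ?_
    split_ifs with hθ
    · rw [zI_symm hM.1 θ χ, zI_eq_mul_wI hM hB hχ θ]; ring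
    · rw [zI_eq_zero_of_not_sameBlock hM
        (fun hs => hθ ((mem_block_iff (pmod_prime hM) hB hχ _).mpr hs)), zero_mul]
  rw [e, ← Finset.mul_sum, zI_eq_mul_wI hM hB hχ χ] at h
  exact mul_left_cancel₀ (mul_ne_zero hne hne) (by rw [h]; ring)

theorem wI_self_le (hM : IsPModular p M) (hB : IsPBlock M B) {χ : IrrCharacter G} (hχ : χ ∈ B) :
    wI p B χ χ ≤ (p : ℤ) ^ blockDefect p B := by
  classical
  have h := sum_wI_sq hM hB hχ
  rw [← Finset.add_sum_erase _ _ (mem_bset.mpr hχ)] at h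
  have hn : 0 ≤ ∑ θ ∈ (bset B).erase χ, wI p B χ θ ^ 2 := Finset.sum_nonneg fun θ _ => sq_nonneg _
  have hpos := wI_self_pos hM hB hχ
  nlinarith

open scoped Classical in
/-- The off-diagonal part of a row. -/
theorem four_mul_sum_erase_le (hM : IsPModular p M) (hB : IsPBlock M B) {χ : IrrCharacter G}
    (hχ : χ ∈ B) :
    4 * ∑ θ ∈ (bset B).erase χ, wI p B χ θ ^ 2 ≤ ((p : ℤ) ^ blockDefect p B) ^ 2 := by
  have h := sum_wI_sq hM hB hχ
  rw [← Finset.add_sum_erase _ _ (mem_bset.mpr hχ)] at h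
  nlinarith [sq_nonneg ((p : ℤ) ^ blockDefect p B - 2 * wI p B χ χ)]

theorem eq_of_wI_self_eq (hM : IsPModular p M) (hB : IsPBlock M B) {χ ψ : IrrCharacter G}
    (hχ : χ ∈ B) (hψ : ψ ∈ B) (h : wI p B χ χ = (p : ℤ) ^ blockDefect p B) : ψ = χ := by
  classical
  have hsum := sum_wI_sq hM hB hχ
  rw [← Finset.add_sum_erase _ _ (mem_bset.mpr hχ), ← h] at hsum
  have hzero : ∀ θ ∈ (bset B).erase χ, wI p B χ θ = 0 := fun θ hθ =>
    sq_eq_zero_iff.mp ((Finset.sum_eq_zero_iff_of_nonneg fun θ _ => sq_nonneg (wI p B χ θ)).mp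
      (by linarith) θ hθ)
  obtain ⟨χ0, hχ0, h0⟩ := exists_height_zero (p := p) (block_nonempty (pmod_prime hM) hB)
  have e0 : χ0 = χ := by
    by_contra hne
    exact wI_ne_zero hM hB hχ hχ0 h0 (hzero χ0 (Finset.mem_erase.mpr ⟨hne, mem_bset.mpr hχ0⟩))
  subst e0
  by_contra hne
  refine wI_ne_zero hM hB hψ hχ h0 ?_
  rw [wI_symm hM]
  exact hzero ψ (Finset.mem_erase.mpr ⟨hne, mem_bset.mpr hψ⟩)

theorem height_add_two_le (hM : IsPModular p M) (hB : IsPBlock M B) {χ : IrrCharacter G}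
    (hχ : χ ∈ B) (h : blockHeight p B (χ : G → ℂ) ≠ 0) :
    blockHeight p B (χ : G → ℂ) + 2 ≤ blockDefect p B := by
  obtain ⟨χ0, hχ0, h0⟩ := exists_height_zero (p := p) (block_nonempty (pmod_prime hM) hB)
  have hlt : wI p B χ χ < (p : ℤ) ^ blockDefect p B :=
    lt_of_le_of_ne (wI_self_le hM hB hχ) fun e =>
      h (eq_of_wI_self_eq hM hB hχ hχ0 e ▸ h0)
  have hd := Int.le_of_dvd (wI_self_pos hM hB hχ) ((wI_succ_dvd_iff hM hB hχ hχ).mpr h)
  have : (p : ℤ) ^ (blockHeight p B (χ : G → ℂ) + 1) < (p : ℤ) ^ blockDefect p B := hd.trans_lt hlt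
  have := (pow_lt_pow_iff_right₀ (by exact_mod_cast hM.1.one_lt : (1 : ℤ) < p)).mp this
  omega

theorem sum_pow_height_le (hM : IsPModular p M) (hB : IsPBlock M B) :
    4 * ∑ θ ∈ bset B, p ^ (2 * blockHeight p B (θ : G → ℂ)) ≤ p ^ (2 * blockDefect p B) + 4 := by
  classical
  obtain ⟨χ, hχ, h0⟩ := exists_height_zero (p := p) (block_nonempty (pmod_prime hM) hB)
  rw [← Finset.add_sum_erase _ _ (mem_bset.mpr hχ), h0, mul_zero, pow_zero]
  have h1 : ((∑ θ ∈ (bset B).erase χ, p ^ (2 * blockHeight p B (θ : G → ℂ)) : ℕ) : ℤ) ≤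
      ∑ θ ∈ (bset B).erase χ, wI p B χ θ ^ 2 := by
    rw [Nat.cast_sum]
    refine Finset.sum_le_sum fun θ hθ => ?_
    have hθB := mem_bset.mp (Finset.mem_of_mem_erase hθ)
    have hne : wI p B χ θ ≠ 0 := by
      rw [wI_symm hM]; exact wI_ne_zero hM hB hθB hχ h0
    have hd : (p : ℤ) ^ blockHeight p B (θ : G → ℂ) ∣ wI p B χ θ := by
      rw [wI_symm hM]; exact wI_pow_dvd hM hB hθB χ
    rw [← sq_abs (wI p B χ θ), Nat.cast_pow, mul_comm, pow_mul]
    exact pow_le_pow_left₀ (by positivity) (Int.le_of_dvd (abs_pos.mpr hne) ((dvd_abs _ _).mpr hd)) 2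
  have h2 := four_mul_sum_erase_le hM hB hχ
  rw [← pow_mul, mul_comm (blockDefect p B)] at h2
  have : ((4 * ∑ θ ∈ (bset B).erase χ, p ^ (2 * blockHeight p B (θ : G → ℂ)) : ℕ) : ℤ) ≤
      ((p ^ (2 * blockDefect p B) : ℕ) : ℤ) := by
    push_cast at h1 ⊢
    linarith
  have := Int.ofNat_le.mp this
  omega

theorem two_mul_card_le (hM : IsPModular p M) (hB : IsPBlock M B) {χ : IrrCharacter G}
    (hχ : χ ∈ B) (h : blockHeight p B (χ : G → ℂ) ≠ 0) :
    2 * (bset B).card ≤ p ^ (2 * blockDefect p B - 2) := by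
  classical
  have hd := height_add_two_le hM hB hχ h
  obtain ⟨χ0, hχ0, h0⟩ := exists_height_zero (p := p) (block_nonempty (pmod_prime hM) hB)
  -- `hrow` bounds the number of entries divisible by `p` in a row
  have hrow : ∀ θ0 ∈ B, ∀ s : Finset (IrrCharacter G), s ⊆ (bset B).erase θ0 →
      (∀ θ ∈ s, (p : ℤ) ∣ wI p B θ0 θ ∧ wI p B θ0 θ ≠ 0) →
      4 * (p : ℤ) ^ 2 * s.card ≤ ((p : ℤ) ^ blockDefect p B) ^ 2 := by
    intro θ0 hθ0 s hs hs'
    refine le_trans ?_ (four_mul_sum_erase_le hM hB hθ0)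
    calc 4 * (p : ℤ) ^ 2 * s.card = 4 * ∑ θ ∈ s, (p : ℤ) ^ 2 := by
          rw [Finset.sum_const, nsmul_eq_mul]; ring
      _ ≤ 4 * ∑ θ ∈ s, wI p B θ0 θ ^ 2 := by
          refine mul_le_mul_of_nonneg_left (Finset.sum_le_sum fun θ hθ => ?_) (by norm_num)
          rw [← sq_abs (wI p B θ0 θ)]
          exact pow_le_pow_left₀ (by positivity)
            (Int.le_of_dvd (abs_pos.mpr (hs' θ hθ).2) ((dvd_abs _ _).mpr (hs' θ hθ).1)) 2
      _ ≤ _ := mul_le_mul_of_nonneg_left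
          (Finset.sum_le_sum_of_subset_of_nonneg hs fun θ _ _ => sq_nonneg _) (by norm_num)
  set Z := (bset B).filter fun θ : IrrCharacter G => blockHeight p B (θ : G → ℂ) = 0
  set P := (bset B).filter fun θ : IrrCharacter G => ¬ blockHeight p B (θ : G → ℂ) = 0
  have hdiv : ∀ θ ∈ B, blockHeight p B (θ : G → ℂ) ≠ 0 → ∀ ψ, (p : ℤ) ∣ wI p B θ ψ :=
    fun θ hθ hh ψ => (dvd_pow_self _ hh).trans (wI_pow_dvd hM hB hθ ψ)
  have hZ : 4 * (p : ℤ) ^ 2 * Z.card ≤ ((p : ℤ) ^ blockDefect p B) ^ 2 :=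
    hrow χ hχ Z (fun θ hθ => Finset.mem_erase.mpr
        ⟨fun e => h (e ▸ (Finset.mem_filter.mp hθ).2), (Finset.mem_filter.mp hθ).1⟩)
      (fun θ hθ => ⟨hdiv χ hχ h θ, wI_ne_zero hM hB hχ
        (mem_bset.mp (Finset.mem_filter.mp hθ).1) (Finset.mem_filter.mp hθ).2⟩)
  have hP : 4 * (p : ℤ) ^ 2 * P.card ≤ ((p : ℤ) ^ blockDefect p B) ^ 2 :=
    hrow χ0 hχ0 P (fun θ hθ => Finset.mem_erase.mpr
        ⟨fun e => (Finset.mem_filter.mp hθ).2 (e ▸ h0), (Finset.mem_filter.mp hθ).1⟩)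
      (fun θ hθ => by
        have hθB := mem_bset.mp (Finset.mem_filter.mp hθ).1
        rw [wI_symm hM]
        exact ⟨hdiv θ hθB (Finset.mem_filter.mp hθ).2 χ0, wI_ne_zero hM hB hθB hχ0 h0⟩)
  have hcard : Z.card + P.card = (bset B).card := Finset.card_filter_add_card_filter_not _
  obtain ⟨d', hd'⟩ : ∃ d', blockDefect p B = d' + 1 := ⟨blockDefect p B - 1, by omega⟩
  rw [hd', pow_succ (p : ℤ) d', mul_pow, mul_comm (((p : ℤ) ^ d') ^ 2)] at hZ hP
  have hp2 : (0 : ℤ) < (p : ℤ) ^ 2 := pow_pos (Int.natCast_pos.mpr hM.1.pos) 2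
  have hZ' : 4 * (Z.card : ℤ) ≤ ((p : ℤ) ^ d') ^ 2 :=
    le_of_mul_le_mul_left (by linarith) hp2
  have hP' : 4 * (P.card : ℤ) ≤ ((p : ℤ) ^ d') ^ 2 :=
    le_of_mul_le_mul_left (by linarith) hp2
  rw [hd', show 2 * (d' + 1) - 2 = d' * 2 by omega, pow_mul]
  zify
  rw [← hcard]
  push_cast
  linarith

theorem sameBlock_iff_linked (hM : IsPModular p M) (χ ψ : IrrCharacter G) :
    SameBlock M (χ : G → ℂ) (ψ : G → ℂ) ↔
      ∃ θ : IrrCharacter G, einner p (χ : G → ℂ) (θ : G → ℂ) ≠ 0 ∧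
        einner p (θ : G → ℂ) (ψ : G → ℂ) ≠ 0 := by
  have hP := pmod_prime hM
  constructor
  · intro h
    have hB := isPBlock_blockOf M χ
    obtain ⟨θ, hθ, h0⟩ := exists_height_zero (p := p) (block_nonempty hP hB)
    refine ⟨θ, fun e => ?_, fun e => ?_⟩
    · exact ((pow_dexp_dvd_iff_height hM hB (self_mem_blockOf hP χ) hθ).mpr h0).ne_zero
        ((zI_eq_zero_iff hM.1 _ _).mpr e)
    · exact ((pow_dexp_dvd_iff_height hM hB (show ψ ∈ blockOf M (χ : G → ℂ) from h) hθ).mpr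
        h0).ne_zero (by rw [zI_symm hM.1]; exact (zI_eq_zero_iff hM.1 _ _).mpr e)
  · rintro ⟨θ, h1, h2⟩
    refine sameBlock_trans hP (ψ := (θ : G → ℂ)) ?_ ?_
    · by_contra hn; exact h1 (einner_eq_zero_of_not_sameBlock hM χ θ hn)
    · by_contra hn; exact h2 (einner_eq_zero_of_not_sameBlock hM θ ψ hn)

theorem singleton_iff_dexp (hM : IsPModular p M) (χ : IrrCharacter G) :
    blockOf M (χ : G → ℂ) = {χ} ↔ dexp p (χ : G → ℂ) = (Nat.card G).factorization p := by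
  classical
  have hP := pmod_prime hM
  set B := blockOf M (χ : G → ℂ)
  have hB : IsPBlock M B := isPBlock_blockOf M χ
  have hχ : χ ∈ B := self_mem_blockOf hP χ
  have hsum := dmin_add_defect (p := p) (block_nonempty hP hB)
  constructor
  · intro h
    obtain ⟨χ0, hχ0, h0⟩ := exists_height_zero (p := p) (block_nonempty hP hB)
    have e0 : χ0 = χ := by rw [h] at hχ0; exact hχ0
    rw [e0] at h0
    have hsq := sum_wI_sq hM hB hχ
    have e : bset B = {χ} := by ext θ; simp [mem_bset, h]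
    rw [e, Finset.sum_singleton, pow_two] at hsq
    have hw := mul_right_cancel₀ (wI_self_pos hM hB hχ).ne' hsq
    have hnd : ¬ (p : ℤ) ^ (0 + 1) ∣ wI p B χ χ := fun hd =>
      (wI_succ_dvd_iff hM hB hχ hχ).mp (by rwa [h0]) h0
    have hd : blockDefect p B = 0 := by
      by_contra hd
      exact hnd (by rw [hw, zero_add, pow_one]; exact dvd_pow_self _ hd)
    rw [(blockHeight_eq_zero_iff hχ).mp h0]
    omega
  · intro h
    have hh : blockHeight p B (χ : G → ℂ) = 0 := by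
      by_contra hne
      have := height_add_two_le hM hB hχ hne
      have := dexp_eq_height_add (p := p) hχ
      omega
    have hd : blockDefect p B = 0 := by
      have := (blockHeight_eq_zero_iff hχ).mp hh
      omega
    have hw : wI p B χ χ = (p : ℤ) ^ blockDefect p B := by
      have h1 := wI_self_le hM hB hχ
      have h2 := wI_self_pos hM hB hχ
      rw [hd, pow_zero] at h1 ⊢
      omega
    ext ψ
    exact ⟨fun hψ => eq_of_wI_self_eq hM hB hχ hψ hw, fun e => by rw [e]; exact hχ⟩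

end Cfsg.Agent.Char
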