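import Cfsg.Agent.Lib.Char.Galois
import Cfsg.Agent.Lib.Char.PParts
import Cfsg.Agent.Lib.Char.Ortho

/-!
# Galois equivariant functions have rational sums
-/

set_option autoImplicit false

namespace Cfsg.Agent.Char

open Cfsg Module
open scoped ComplexConjugate

universe u v

variable {G : Type u} [Group G] [Finite G]

/-- The Galois action on values agrees with taking powers of the argument. -/
def GalEquiv (F : G → ℂ) : Prop :=
  ∀ x : G, ∃ hm : F x ∈ cyc (Nat.card G), ∀ (φ : cyc (Nat.card G) →ₐ[ℚ] ℂ) (k : ℕ),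
    k.Coprime (Nat.card G) →
    (∀ (μ : ℂ) (hμ : μ ^ Nat.card G = 1), φ ⟨μ, mem_cyc hμ⟩ = μ ^ k) →
      φ ⟨F x, hm⟩ = F (x ^ k)

theorem galEquiv_char {χ : G → ℂ} (h : IsCharacter G χ) : GalEquiv χ := fun x => by
  obtain ⟨hm, hφ⟩ := char_galois h x
  exact ⟨hm, fun φ k _ hk => hφ φ k hk⟩

theorem galEquiv_mul {F H : G → ℂ} (hF : GalEquiv F) (hH : GalEquiv H) : GalEquiv (F * H) := by
  intro x
  obtain ⟨m1, h1⟩ := hF x
  obtain ⟨m2, h2⟩ := hH x
  refine ⟨mul_mem m1 m2, fun φ k hk hμ => ?_⟩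
  rw [show (⟨(F * H) x, mul_mem m1 m2⟩ : cyc (Nat.card G)) = ⟨F x, m1⟩ * ⟨H x, m2⟩ from rfl,
    map_mul, h1 φ k hk hμ, h2 φ k hk hμ]
  rfl

theorem galEquiv_sub {F H : G → ℂ} (hF : GalEquiv F) (hH : GalEquiv H) : GalEquiv (F - H) := by
  intro x
  obtain ⟨m1, h1⟩ := hF x
  obtain ⟨m2, h2⟩ := hH x
  refine ⟨sub_mem m1 m2, fun φ k hk hμ => ?_⟩
  rw [show (⟨(F - H) x, sub_mem m1 m2⟩ : cyc (Nat.card G)) = ⟨F x, m1⟩ - ⟨H x, m2⟩ from rfl,
    map_sub, h1 φ k hk hμ, h2 φ k hk hμ]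
  rfl

theorem galEquiv_inv {F : G → ℂ} (hF : GalEquiv F) : GalEquiv (fun x => F x⁻¹) := by
  intro x
  obtain ⟨m1, h1⟩ := hF x⁻¹
  exact ⟨m1, fun φ k hk hμ => by rw [h1 φ k hk hμ, inv_pow]⟩

/-- Functions with rational values constant under coprime powers are equivariant. -/
theorem galEquiv_rat (q : G → ℚ)
    (hq : ∀ (x : G) (k : ℕ), k.Coprime (Nat.card G) → q (x ^ k) = q x) :
    GalEquiv (fun x => (q x : ℂ)) := by
  intro x
  have hm : ((q x : ℚ) : ℂ) ∈ cyc (Nat.card G) := by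
    simpa using (cyc (Nat.card G)).algebraMap_mem (q x)
  refine ⟨hm, fun φ k hk _ => ?_⟩
  simp only [hq x k hk]
  rw [show (⟨(q x : ℂ), hm⟩ : cyc (Nat.card G)) = algebraMap ℚ _ (q x) from
    Subtype.ext (by simp), AlgHom.commutes]
  simp

theorem galEquiv_regInd (p : ℕ) (c : ℚ) :
    GalEquiv (fun x : G => if p ∣ orderOf x then 0 else (c : ℂ)) := by
  have h := galEquiv_rat (G := G) (fun x => if p ∣ orderOf x then 0 else c) fun x k hk => by
    rw [Nat.Coprime.orderOf_pow ((hk.coprime_dvd_right (orderOf_dvd_natCard x)).symm)]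
  have e : (fun x : G => ((if p ∣ orderOf x then 0 else c : ℚ) : ℂ)) =
      fun x : G => if p ∣ orderOf x then 0 else (c : ℂ) := by
    funext x
    split_ifs <;> simp
  rwa [e] at h

variable [Fintype G]

theorem galEquiv_sum_rat {F : G → ℂ} (hF : GalEquiv F) : ∃ q : ℚ, ∑ x, F x = q := by
  have hn : Nat.card G ≠ 0 := Nat.card_pos.ne'
  choose hm hφ using hF
  refine exists_rat_of_fixed hn (sum_mem fun x _ => hm x) fun φ => ?_
  obtain ⟨k, hk, hμ⟩ := exists_power_of_embedding hn φ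
  have e : (⟨∑ x, F x, sum_mem fun x _ => hm x⟩ : cyc (Nat.card G)) =
      ∑ x, (⟨F x, hm x⟩ : cyc (Nat.card G)) := by
    ext; simp
  rw [e, map_sum, Finset.sum_congr rfl fun x _ => hφ x φ k hk hμ]
  exact (powCoprime_bijective hk).sum_comp F

theorem classInner_rat {F : G → ℂ} (hF : GalEquiv F) {χ : G → ℂ} (hχ : IsCharacter G χ) :
    ∃ q : ℚ, classInner F χ = q := by
  obtain ⟨q, hq⟩ := galEquiv_sum_rat (galEquiv_mul hF (galEquiv_inv (galEquiv_char hχ)))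
  refine ⟨(Nat.card G : ℚ)⁻¹ * q, ?_⟩
  rw [classInner]
  push_cast
  rw [← hq]
  congr 1
  exact Finset.sum_congr rfl fun x _ => by simp [char_inv hχ]

end Cfsg.Agent.Char
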