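import Cfsg.Agent.Lib.Char.Section
import Cfsg.Agent.Lib.Char.Rational

/-!
# Generalized characters: Brauer's characterization
-/

set_option autoImplicit false

namespace Cfsg.Agent.Char

open Cfsg Module
open scoped ComplexConjugate

universe u

variable {G : Type u} [Group G] [Fintype G] {M : Ideal AlgInt} {ℓ : ℕ}

omit [Fintype G] in
theorem isGeneralizedCharacter_of_int [Finite G] (z : IrrCharacter G → ℤ) [Fintype (IrrCharacter G)] :
    IsGeneralizedCharacter G (∑ χ, (z χ : ℂ) • (χ : G → ℂ)) := by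
  refine ⟨∑ χ, (z χ).toNat • (χ : G → ℂ), ∑ χ, (-z χ).toNat • (χ : G → ℂ),
    isCharacter_sum _ _ fun χ _ => isCharacter_nsmul (irr_isCharacter χ.2) _,
    isCharacter_sum _ _ fun χ _ => isCharacter_nsmul (irr_isCharacter χ.2) _, ?_⟩
  rw [← Finset.sum_sub_distrib]
  refine Finset.sum_congr rfl fun χ _ => ?_
  rw [← Nat.cast_smul_eq_nsmul ℂ, ← Nat.cast_smul_eq_nsmul ℂ (-z χ).toNat, ← sub_smul]
  congr 1
  have h : (((z χ).toNat : ℤ) : ℂ) - (((-z χ).toNat : ℤ) : ℂ) = (z χ : ℂ) := by
    rw [← Int.cast_sub, Int.toNat_sub_toNat_neg]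
  exact_mod_cast h.symm

theorem intComb_gen (hM : M.IsPrime) {θ : G → ℂ} (h : IsGeneralizedCharacter G θ) :
    IntComb M θ := by
  obtain ⟨a, b, ha, hb, rfl⟩ := h
  exact intComb_sub hM (intComb_char hM ha) (intComb_char hM hb)

/-- A class function which is a local-integral combination at every maximal ideal and has rational
coefficients is a generalized character. -/
theorem isGeneralizedCharacter_of_forall {θ : G → ℂ} (hc : IsClassFunction G θ)
    (hI : ∀ (ℓ : ℕ) (M : Ideal AlgInt), IsPModular ℓ M → IntComb M θ)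
    (hQ : ∀ χ : IrrCharacter G, ∃ q : ℚ, classInner θ (χ : G → ℂ) = q) :
    IsGeneralizedCharacter G θ := by
  classical
  have hz : ∀ χ : IrrCharacter G, ∃ z : ℤ, classInner θ (χ : G → ℂ) = z := fun χ => by
    obtain ⟨q, hq⟩ := hQ χ
    obtain ⟨z, hz⟩ := isIntegral_rat_cast_imp (q := q) (isIntegral_of_forall_memLR fun M hM => by
      obtain ⟨ℓ, hℓ⟩ := exists_prime_of_maximal hM
      rw [← hq]
      exact (hI ℓ M hℓ).2 χ)
    exact ⟨z, by rw [hq, ← hz]; norm_num⟩
  choose z hz using hz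
  have e : θ = ∑ χ : IrrCharacter G, (z χ : ℂ) • (χ : G → ℂ) := by
    refine (classFun_expansion hc).trans (Finset.sum_congr rfl fun χ _ => ?_)
    rw [hz]
  rw [e]
  exact isGeneralizedCharacter_of_int z

theorem isElementary_elemSub (hℓ : ℓ.Prime) {s : G} (hs : ¬ ℓ ∣ orderOf s) {P : Subgroup G}
    (hP : P ≤ Subgroup.centralizer ({s} : Set G)) (hPl : IsPGroup ℓ P) :
    IsElementary ℓ (elemSub s P) := by
  have := Fact.mk hℓ
  refine ⟨⟨s, self_mem_elemSub s P⟩, Subgroup.mem_center_iff.mpr fun x => ?_, ?_, ?_⟩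
  · obtain ⟨c, hc, v, hv, hx⟩ := elemSub_mem hP x.2
    obtain ⟨i, rfl⟩ := Subgroup.mem_zpowers_iff.mp hc
    refine Subtype.ext ?_
    show (x : G) * s = s * x
    rw [hx]
    exact (((Commute.refl s).zpow_right i).mul_right (commute_of_le_centralizer hP hv)).eq.symm
  · rw [Subgroup.orderOf_mk]
    exact (hℓ.coprime_iff_not_dvd.mpr hs).symm
  · obtain ⟨k, hk⟩ := IsPGroup.iff_card.mp hPl
    refine ⟨k, ?_⟩
    have h := Subgroup.index_mul_card (Subgroup.zpowers (⟨s, self_mem_elemSub s P⟩ : elemSub s P))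
    rw [Nat.card_zpowers, Subgroup.orderOf_mk, card_elemSub hℓ hs hP hPl, hk, mul_comm (orderOf s)] at h
    exact Nat.eq_of_mul_eq_mul_right (orderOf_pos s) h

theorem isElementary_zpowers (hℓ : ℓ.Prime) (x : G) : IsElementary ℓ (Subgroup.zpowers x) := by
  set x' : Subgroup.zpowers x := ⟨x, Subgroup.mem_zpowers x⟩
  obtain ⟨⟨y, hxy, hc, ⟨a, ha⟩, hy⟩, hnd, hcomm⟩ := preg_spec hℓ x'
  refine ⟨preg ℓ x', Subgroup.mem_center_iff.mpr fun z => ?_,
    (hℓ.coprime_iff_not_dvd.mpr hnd).symm, ?_⟩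
  · obtain ⟨i, hi⟩ := Subgroup.mem_zpowers_iff.mp z.2
    obtain ⟨j, hj⟩ := Subgroup.mem_zpowers_iff.mp (preg ℓ x').2
    exact Subtype.ext (by
      show (z : G) * ((preg ℓ x' : Subgroup.zpowers x) : G) =
        ((preg ℓ x' : Subgroup.zpowers x) : G) * z
      rw [← hi, ← hj, ← zpow_add, ← zpow_add, add_comm])
  · refine ⟨a, ?_⟩
    have hy' : y = preg ℓ x' := by
      rw [preg_eq hℓ ⟨y, hxy, hc, ⟨a, ha⟩, hy⟩]
      exact eq_inv_mul_iff_mul_eq.mpr hxy
    have ho : orderOf x' = ℓ ^ a * orderOf (preg ℓ x') := by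
      have h := hc.orderOf_mul_eq_mul_orderOf_of_coprime (by
        rw [ha]; exact Nat.Coprime.pow_left _ (hℓ.coprime_iff_not_dvd.mpr hy))
      rw [hxy, ha] at h
      rw [h, hy']
    have h := Subgroup.index_mul_card (Subgroup.zpowers (preg ℓ x'))
    rw [Nat.card_zpowers, Nat.card_zpowers, ← Subgroup.orderOf_mk x (Subgroup.mem_zpowers x)] at h
    rw [ho] at h
    exact Nat.eq_of_mul_eq_mul_right (orderOf_pos _) h

theorem indFun_mul_restrict (H : Subgroup G) (φ : H → ℂ) {θ : G → ℂ} (hθ : IsClassFunction G θ) :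
    θ * indFun H φ = indFun H ((fun h : H => θ h) * φ) := by
  funext g
  simp only [indFun, Pi.mul_apply, mul_left_comm (θ g)]
  congr 1
  rw [Finset.mul_sum]
  refine Finset.sum_congr rfl fun x _ => ?_
  by_cases hm : x⁻¹ * g * x ∈ H
  · rw [extendByZero_mem H _ hm, extendByZero_mem H _ hm, Pi.mul_apply]
    congr 1
    have := hθ g x⁻¹
    rw [inv_inv] at this
    exact this.symm
  · rw [extendByZero_not_mem H _ hm, extendByZero_not_mem H _ hm, mul_zero]

/-- Brauer's characterization of generalized characters. -/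
theorem brauer_characterization {θ : G → ℂ} (hθ : IsClassFunction G θ)
    (hE : ∀ (E : Subgroup G) (p : ℕ), p.Prime → IsElementary p E →
      IsGeneralizedCharacter E (fun e : E => θ e)) : IsGeneralizedCharacter G θ := by
  classical
  have hcyc : ∀ x : G, ∃ hm : θ x ∈ cyc (Nat.card G), IsIntegral ℤ (θ x) ∧
      ∀ (φ : cyc (Nat.card G) →ₐ[ℚ] ℂ) (k : ℕ), k.Coprime (Nat.card G) →
        (∀ (μ : ℂ) (hμ : μ ^ Nat.card G = 1), φ ⟨μ, mem_cyc hμ⟩ = μ ^ k) →
          φ ⟨θ x, hm⟩ = θ (x ^ k) := by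
    intro x
    obtain ⟨a, b, ha, hb, he⟩ := hE (Subgroup.zpowers x) 2 Nat.prime_two
      (isElementary_zpowers Nat.prime_two x)
    set x' : Subgroup.zpowers x := ⟨x, Subgroup.mem_zpowers x⟩ with hx'
    have hval : ∀ k : ℕ, θ (x ^ k) = a (x' ^ k) - b (x' ^ k) := fun k => by
      simpa [hx'] using congrFun he (x' ^ k)
    have hdata : ∀ c : Subgroup.zpowers x → ℂ, IsCharacter _ c →
        ∃ hm : c x' ∈ cyc (Nat.card G), ∀ (φ : cyc (Nat.card G) →ₐ[ℚ] ℂ) (k : ℕ),
          (∀ (μ : ℂ) (hμ : μ ^ Nat.card G = 1), φ ⟨μ, mem_cyc hμ⟩ = μ ^ k) →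
            φ ⟨c x', hm⟩ = c (x' ^ k) := by
      rintro c ⟨n, ρ, rfl⟩
      obtain ⟨μ, hμ, htr, -⟩ := exists_eigenvalues ρ x'
      have hμn : ∀ i, μ i ^ Nat.card G = 1 := fun i => by
        obtain ⟨d, hd⟩ := orderOf_dvd_natCard x
        rw [hd, pow_mul, ← Subgroup.orderOf_mk x (Subgroup.mem_zpowers x), hμ i, one_pow]
      have h1 : ρ.character x' = ∑ i, μ i := by simpa using htr 1
      refine ⟨h1 ▸ sum_mem fun i _ => mem_cyc (hμn i), fun φ k hk => ?_⟩
      have e : (⟨ρ.character x', h1 ▸ sum_mem fun i _ => mem_cyc (hμn i)⟩ : cyc (Nat.card G)) =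
          ∑ i, (⟨μ i, mem_cyc (hμn i)⟩ : cyc (Nat.card G)) := by
        ext; simp [h1]
      rw [e, map_sum, htr k]
      exact Finset.sum_congr rfl fun i _ => hk _ (hμn i)
    obtain ⟨ma, hφa⟩ := hdata a ha
    obtain ⟨mb, hφb⟩ := hdata b hb
    have h1 : θ x = a x' - b x' := by simpa using hval 1
    refine ⟨h1 ▸ sub_mem ma mb, h1 ▸ (char_isIntegral ha x').sub (char_isIntegral hb x'),
      fun φ k _ hk => ?_⟩
    have e : (⟨θ x, h1 ▸ sub_mem ma mb⟩ : cyc (Nat.card G)) = ⟨a x', ma⟩ - ⟨b x', mb⟩ :=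
      Subtype.ext h1
    rw [e, map_sub, hφa φ k hk, hφb φ k hk, hval]
  have hgal : GalEquiv θ := fun x => by
    obtain ⟨hm, -, h⟩ := hcyc x
    exact ⟨hm, h⟩
  refine isGeneralizedCharacter_of_forall hθ (fun ℓ M hM => ?_)
    (fun χ => classInner_rat hgal (irr_isCharacter χ.2))
  have hP := pmod_prime hM
  have hval : ∀ x, MemLocalRing M (θ x) := fun x =>
    memLocalRing_of_isIntegral hP.ne_top (hcyc x).2.1
  have hsec : ∀ s : G, ¬ ℓ ∣ orderOf s → IntComb M (θ * secInd ℓ s) := by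
    intro s hs
    obtain ⟨P, N, hPC, hPl, happ⟩ := secInd_approx hM hs
    have := Fintype.ofFinite (elemSub s P)
    set φ := cosetFun s P (elemSub s P)
    have hφ : IntComb M φ := intComb_cosetFun hM hs hPC hPl
    set f := indFun (elemSub s P) φ with hf
    have hθf : IntComb M (θ * f) := by
      rw [hf, indFun_mul_restrict _ _ hθ]
      exact intComb_ind hP _ (intComb_mul hP
        (intComb_gen hP (hE _ ℓ hM.1 (isElementary_elemSub hM.1 hs hPC hPl))) hφ)
    have hpow : IntComb M (θ * f ^ (N + 1)) := by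
      rw [pow_succ', ← mul_assoc]
      exact intComb_mul hP hθf (intComb_pow hP (intComb_ind hP _ hφ) N)
    have herr : IntComb M (θ * f ^ (N + 1) - θ * secInd ℓ s) := by
      refine intComb_of_dvd hM (fun a k => ?_) fun x => ?_
      · simp only [Pi.sub_apply, Pi.mul_apply, hθ a k, isClassFunction_secInd hM.1 s a k]
        have := hpow.1 a k
        simp only [Pi.mul_apply, hθ a k] at this
        rw [this]
      · obtain ⟨y, hy, e⟩ := happ x
        refine ⟨θ x * y, memLR_mul hP (hval x) hy, ?_⟩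
        simp only [Pi.sub_apply, Pi.mul_apply, Pi.pow_apply]
        rw [← mul_sub, e]; ring
    have := intComb_sub hP hpow herr
    rwa [sub_sub_cancel] at this
  have := Fintype.ofFinite (ConjClasses G)
  obtain ⟨rep, hrep⟩ := exists_preg_expansion (G := G) hM.1
  have h1 := hrep (fun _ => 1) (fun _ _ => rfl)
  have e : θ = ∑ c : ConjClasses G,
      if ¬ ℓ ∣ orderOf (rep c) then θ * secInd ℓ (rep c) else 0 := by
    funext x
    have := congrFun h1 x
    rw [Finset.sum_apply] at this ⊢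
    calc θ x = θ x * 1 := (mul_one _).symm
      _ = _ := by
        rw [this, Finset.mul_sum]
        refine Finset.sum_congr rfl fun c _ => ?_
        split_ifs <;> simp
  rw [e]
  refine intComb_sum hP _ _ fun c _ => ?_
  split_ifs with h
  · exact intComb_zero hP
  · exact hsec _ h

theorem pow_mul_regInd_isGenChar (p : ℕ) (hp : p.Prime) :
    IsGeneralizedCharacter G (fun x : G =>
      if p ∣ orderOf x then 0 else ((p ^ (Nat.card G).factorization p : ℕ) : ℂ)) := by
  classical
  set c : ℂ := ((p ^ (Nat.card G).factorization p : ℕ) : ℂ) with hc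
  have hcf : IsClassFunction G (fun x : G => if p ∣ orderOf x then 0 else c) := fun a k => by
    simp only [← MulAut.conj_apply, MulEquiv.orderOf_eq]
  refine isGeneralizedCharacter_of_forall hcf (fun ℓ M hM => ?_) fun χ => ?_
  · have hP := pmod_prime hM
    have hv : ∀ x : G, MemLocalRing M (if p ∣ orderOf x then 0 else c) := fun x => by
      split_ifs
      exacts [memLR_zero hP, memLR_natCast hP _]
    rcases eq_or_ne p ℓ with rfl | hne
    · refine intComb_of_dvd hM hcf fun x => ⟨if p ∣ orderOf x then 0 else 1, ?_, ?_⟩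
      · split_ifs
        exacts [memLR_zero hP, memLR_one hP]
      · split_ifs <;> simp [hc]
    · have h := intComb_preg hM hcf hv
      have e : (fun x => (fun x : G => if p ∣ orderOf x then 0 else c) (preg ℓ x)) =
          fun x : G => if p ∣ orderOf x then 0 else c := by
        funext x
        have := isPRegular_preg_iff hM.1 hp hne x
        simp only [IsPRegular, not_iff_not] at this
        simp only [this]
      rwa [e] at h
  · have h := galEquiv_regInd (G := G) p ((p ^ (Nat.card G).factorization p : ℕ) : ℚ)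
    rw [Rat.cast_natCast] at h
    exact classInner_rat h (irr_isCharacter χ.2)

end Cfsg.Agent.Char
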