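import Cfsg.Agent.Lib.Char.Osima
import Cfsg.Agent.Lib.Char.BrauerChar

/-!
# Inner products over the `p`-regular elements
-/

set_option autoImplicit false

namespace Cfsg.Agent.Char

open Cfsg Module
open scoped ComplexConjugate

universe u

variable {G : Type u} [Group G] [Fintype G] {M : Ideal AlgInt} {p : ℕ}

/-- The indicator function of the `p`-regular elements. -/
noncomputable def regInd (p : ℕ) : G → ℂ := fun x => if p ∣ orderOf x then 0 else 1

/-- The inner product of `χ` and `ψ` over the `p`-regular elements. -/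
noncomputable def einner (p : ℕ) (χ ψ : G → ℂ) : ℂ := classInner (χ * regInd p) ψ

omit [Fintype G] in
theorem isClassFunction_regInd (p : ℕ) : IsClassFunction G (regInd p : G → ℂ) := fun a k => by
  simp only [regInd, ← MulAut.conj_apply, MulEquiv.orderOf_eq]

omit [Fintype G] in
theorem regInd_mul_self (p : ℕ) : (regInd p * regInd p : G → ℂ) = regInd p := by
  funext x
  simp only [Pi.mul_apply, regInd]
  split_ifs <;> simp

omit [Fintype G] in
theorem conj_regInd (p : ℕ) (x : G) : conj ((regInd p : G → ℂ) x) = (regInd p : G → ℂ) x := by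
  simp only [regInd]
  split_ifs <;> simp

omit [Fintype G] in
theorem regInd_of_reg {x : G} (h : ¬ p ∣ orderOf x) : (regInd p : G → ℂ) x = 1 := if_neg h

omit [Fintype G] in
theorem regInd_of_sing {x : G} (h : p ∣ orderOf x) : (regInd p : G → ℂ) x = 0 := if_pos h

theorem classInner_regInd_swap (f g : G → ℂ) :
    classInner (f * regInd p) g = classInner f (g * regInd p) := by
  simp only [classInner, Pi.mul_apply, map_mul, conj_regInd]
  congr 1
  exact Finset.sum_congr rfl fun x _ => by ring

theorem einner_eq (χ ψ : G → ℂ) :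
    einner p χ ψ = classInner (χ * regInd p) (ψ * regInd p) := by
  rw [← classInner_regInd_swap (χ * regInd p) ψ, mul_assoc, regInd_mul_self]
  rfl

theorem einner_conj (χ ψ : G → ℂ) : conj (einner p χ ψ) = einner p ψ χ := by
  rw [einner_eq, einner_eq, classInner_symm]

theorem einner_eq_sum (χ ψ : G → ℂ) :
    einner p χ ψ = (Nat.card G : ℂ)⁻¹ *
      ∑ x : G with ¬ p ∣ orderOf x, χ x * conj (ψ x) := by
  rw [einner, classInner, Finset.sum_filter]
  congr 1
  refine Finset.sum_congr rfl fun x _ => ?_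
  by_cases h : p ∣ orderOf x <;> simp [regInd, h]

theorem exists_int_pow_mul_einner (hp : p.Prime) {χ ψ : G → ℂ} (hχ : IsCharacter G χ)
    (hψ : IsCharacter G ψ) :
    ∃ z : ℤ, (p : ℂ) ^ (Nat.card G).factorization p * einner p χ ψ = z := by
  obtain ⟨a, b, ha, hb, h⟩ := pow_mul_regInd_isGenChar (G := G) p hp
  obtain ⟨m, hm⟩ := classInner_natCast (isCharacter_mul ha hχ) hψ
  obtain ⟨n, hn⟩ := classInner_natCast (isCharacter_mul hb hχ) hψ
  refine ⟨(m : ℤ) - n, ?_⟩
  have e : ((p : ℂ) ^ (Nat.card G).factorization p) • (χ * regInd p) = a * χ - b * χ := by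
    rw [← sub_mul, ← h]
    funext x
    simp only [Pi.smul_apply, Pi.mul_apply, smul_eq_mul, regInd]
    split_ifs <;> simp
  rw [einner, ← classInner_smul_left, e, classInner_sub_left, hm, hn]
  push_cast
  rfl

theorem einner_rat (hp : p.Prime) {χ ψ : G → ℂ} (hχ : IsCharacter G χ) (hψ : IsCharacter G ψ) :
    ∃ q : ℚ, einner p χ ψ = q := by
  obtain ⟨z, hz⟩ := exists_int_pow_mul_einner hp hχ hψ
  refine ⟨(z : ℚ) / (p : ℚ) ^ (Nat.card G).factorization p, ?_⟩
  have : (p : ℂ) ^ (Nat.card G).factorization p ≠ 0 :=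
    pow_ne_zero _ (Nat.cast_ne_zero.mpr hp.ne_zero)
  push_cast
  rw [← hz, mul_div_cancel_left₀ _ this]

theorem einner_comm (hp : p.Prime) {χ ψ : G → ℂ} (hχ : IsCharacter G χ) (hψ : IsCharacter G ψ) :
    einner p χ ψ = einner p ψ χ := by
  obtain ⟨q, hq⟩ := einner_rat hp hχ hψ
  rw [← einner_conj χ ψ, hq, map_ratCast]

theorem einner_ne_zero_self (hp : p.Prime) {χ : G → ℂ} (h : IsIrrCharacter G χ) :
    einner p χ χ ≠ 0 := by
  intro h0
  rw [einner_eq] at h0
  have := congrFun (classInner_self_eq_zero h0) 1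
  rw [Pi.mul_apply, regInd_of_reg (by simp [hp.ne_one]), mul_one] at this
  exact irr_one_ne_zero h this

theorem expansion_regInd {χ : G → ℂ} (hχ : IsCharacter G χ) :
    χ * regInd p = ∑ ψ : IrrCharacter G, einner p χ (ψ : G → ℂ) • (ψ : G → ℂ) :=
  classFun_expansion fun a k => by
    simp only [Pi.mul_apply, isClassFunction_character hχ a k, isClassFunction_regInd p a k]

theorem sum_einner_mul (χ ψ : IrrCharacter G) :
    ∑ θ : IrrCharacter G, einner p (χ : G → ℂ) (θ : G → ℂ) * einner p (θ : G → ℂ) (ψ : G → ℂ) =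
      einner p (χ : G → ℂ) (ψ : G → ℂ) := by
  rw [einner_eq (χ : G → ℂ) (ψ : G → ℂ)]
  conv_rhs => rw [expansion_regInd (irr_isCharacter χ.2)]
  rw [classInner_sum_left]
  refine Finset.sum_congr rfl fun θ _ => ?_
  rw [classInner_smul_left, ← classInner_regInd_swap]
  rfl

/-- Characters in different blocks are orthogonal over the `p`-regular elements. -/
theorem einner_eq_zero_of_not_sameBlock (hM : IsPModular p M) (χ ψ : IrrCharacter G)
    (h : ¬ SameBlock M (χ : G → ℂ) (ψ : G → ℂ)) : einner p (χ : G → ℂ) (ψ : G → ℂ) = 0 := by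
  classical
  set B := blockOf M (χ : G → ℂ)
  have hB : IsPBlock M B := isPBlock_blockOf M χ
  set Φ : G → ℂ :=
    ∑ θ : IrrCharacter G with θ ∈ B, einner p (ψ : G → ℂ) (θ : G → ℂ) • (θ : G → ℂ) with hΦ
  have key : ∀ x : G, ¬ p ∣ orderOf x → Φ x = 0 := by
    intro x hx
    set D : G → ℂ := ∑ θ : IrrCharacter G with θ ∈ B, conj ((θ : G → ℂ) x) • (θ : G → ℂ) with hD
    have hsing : D * regInd p = D := by
      funext y
      by_cases hy : p ∣ orderOf y
      · have h0 := weak_orthogonality hM hB hx hy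
        rw [finsum_mem_irr] at h0
        have h1 := congrArg conj h0
        rw [map_sum, map_zero] at h1
        rw [Pi.mul_apply, regInd_of_sing hy, mul_zero, hD, Finset.sum_apply, ← h1]
        exact Finset.sum_congr rfl fun θ _ => by simp [mul_comm]
      · simp [regInd_of_reg hy]
    have h2 : classInner D (ψ : G → ℂ) = 0 := by
      rw [hD, classInner_sum_left]
      refine Finset.sum_eq_zero fun θ hθ => ?_
      rw [classInner_smul_left, irrC_orth, if_neg, mul_zero]
      rintro rfl
      exact h (Finset.mem_filter.mp hθ).2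
    rw [← hsing, classInner_regInd_swap, hD, classInner_sum_left] at h2
    have h3 := congrArg conj h2
    rw [map_sum, map_zero] at h3
    rw [hΦ, Finset.sum_apply, ← h3]
    refine Finset.sum_congr rfl fun θ _ => ?_
    rw [classInner_smul_left, map_mul, Complex.conj_conj, classInner_symm, ← einner, Pi.smul_apply,
      smul_eq_mul, mul_comm]
  have h4 : classInner Φ ((ψ : G → ℂ) * regInd p) = 0 := by
    rw [classInner, Finset.sum_eq_zero, mul_zero]
    intro x _
    by_cases hx : p ∣ orderOf x
    · simp [regInd_of_sing hx]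
    · simp [key x hx]
  rw [hΦ, classInner_sum_left] at h4
  have h5 : ∑ θ : IrrCharacter G with θ ∈ B,
      Complex.normSq (einner p (ψ : G → ℂ) (θ : G → ℂ)) = 0 := by
    apply Complex.ofReal_injective
    push_cast
    rw [← h4]
    refine Finset.sum_congr rfl fun θ _ => ?_
    rw [classInner_smul_left, ← classInner_regInd_swap, ← einner, ← einner_conj (ψ : G → ℂ),
      Complex.mul_conj]
  have h6 := (Finset.sum_eq_zero_iff_of_nonneg fun θ _ => Complex.normSq_nonneg _).mp h5 χ
    (Finset.mem_filter.mpr ⟨Finset.mem_univ _, sameBlock_refl (pmod_prime hM) _⟩)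
  rw [← einner_conj, Complex.normSq_eq_zero.mp h6, map_zero]

open scoped Classical in
theorem sum_block_einner (hM : IsPModular p M) (χ : IrrCharacter G) :
    (χ : G → ℂ) * regInd p = ∑ ψ : IrrCharacter G with ψ ∈ blockOf M (χ : G → ℂ),
      einner p (χ : G → ℂ) (ψ : G → ℂ) • (ψ : G → ℂ) := by
  classical
  refine (expansion_regInd (irr_isCharacter χ.2)).trans ?_
  rw [Finset.sum_filter]
  refine Finset.sum_congr rfl fun ψ _ => ?_
  split_ifs with h
  · rfl
  · rw [einner_eq_zero_of_not_sameBlock hM χ ψ h, zero_smul]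

end Cfsg.Agent.Char
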