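import Cfsg.Agent.Lib.Char.SectionPart
import Cfsg.Agent.Lib.Char.Regular
import Cfsg.Prelude.Def_BlockRank

/-!
# Brauer's count of the characters of a block by sections
-/

set_option autoImplicit false

namespace Cfsg.Agent.Char

open Cfsg Module
open scoped ComplexConjugate

universe u

variable {G : Type u} [Group G] {M : Ideal AlgInt} {p : ℕ}

section Lin

variable [Fintype G]

open scoped Classical in
/-- `blockPart` as a linear map. -/
noncomputable def blockPartL (B : Set (IrrCharacter G)) : (G → ℂ) →ₗ[ℂ] (G → ℂ) where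
  toFun ϑ g := ∑ χ : IrrCharacter G with χ ∈ B, classInner ϑ (χ : G → ℂ) * (χ : G → ℂ) g
  map_add' a b := by
    funext g
    simp [classInner_add_left, add_mul, Finset.sum_add_distrib]
  map_smul' r a := by
    funext g
    simp [classInner_smul_left, mul_assoc, Finset.mul_sum]

theorem blockPartL_apply (B : Set (IrrCharacter G)) (ϑ : G → ℂ) :
    blockPartL B ϑ = blockPart B ϑ := by
  classical
  funext g
  rw [blockPart_eq]
  rfl

end Lin

/-- `pRegularPart` as a linear map. -/
noncomputable def regPartL (p : ℕ) : (G → ℂ) →ₗ[ℂ] (G → ℂ) where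
  toFun := pRegularPart p
  map_add' a b := by
    funext g
    simp only [pRegularPart, Pi.add_apply]
    split_ifs <;> simp
  map_smul' r a := by
    funext g
    simp only [pRegularPart, Pi.smul_apply, RingHom.id_apply]
    split_ifs <;> simp

theorem regPartL_of_reg {g : G} (h : ¬ p ∣ orderOf g) (f : G → ℂ) : regPartL p f g = f g := by
  simp [regPartL, pRegularPart, IsPRegular, h]

theorem regPartL_of_sing {g : G} (h : p ∣ orderOf g) (f : G → ℂ) : regPartL p f g = 0 := by
  simp [regPartL, pRegularPart, IsPRegular, h]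

theorem pRegularPart_eq_mul (f : G → ℂ) : pRegularPart p f = f * regInd p := by
  funext g
  by_cases h : p ∣ orderOf g <;> simp [pRegularPart, IsPRegular, regInd, h]

/-- Restriction to the section of `x` as a linear map. -/
noncomputable def secFunL (x : G) :
    (G → ℂ) →ₗ[ℂ] (Subgroup.centralizer ({x} : Set G) → ℂ) :=
  LinearMap.funLeft ℂ ℂ fun c => x * (c : G)

theorem secFunL_apply (x : G) (f : G → ℂ) : secFunL x f = secFun x f := rfl

/-- The span of the regular parts of the characters of a set. -/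
def blockSpan (p : ℕ) (B : Set (IrrCharacter G)) : Submodule ℂ (G → ℂ) :=
  Submodule.span ℂ ((fun χ : IrrCharacter G => pRegularPart p (χ : G → ℂ)) '' B)

/-- The span of the characters of a set. -/
def charSpan (B : Set (IrrCharacter G)) : Submodule ℂ (G → ℂ) :=
  Submodule.span ℂ ((fun χ : IrrCharacter G => (χ : G → ℂ)) '' B)

/-- The class functions. -/
def classFunSub (G : Type u) [Group G] : Submodule ℂ (G → ℂ) where
  carrier := {f | IsClassFunction G f}
  add_mem' ha hb := fun a k => by simp [ha a k, hb a k]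
  zero_mem' := fun _ _ => rfl
  smul_mem' r f hf := fun a k => by simp [hf a k]

theorem isClassFunction_of_charSpan {B : Set (IrrCharacter G)} {f : G → ℂ} (h : f ∈ charSpan B) :
    IsClassFunction G f := by
  have : charSpan B ≤ classFunSub G := Submodule.span_le.mpr (by
    rintro _ ⟨χ, -, rfl⟩
    exact isClassFunction_character (irr_isCharacter χ.2))
  exact this h

theorem isClassFunction_of_blockSpan {B : Set (IrrCharacter G)} {f : G → ℂ}
    (h : f ∈ blockSpan p B) : IsClassFunction G f := by
  have : blockSpan p B ≤ classFunSub G := Submodule.span_le.mpr (by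
    rintro _ ⟨χ, -, rfl⟩
    intro a k
    simp only [pRegularPart_eq_mul, Pi.mul_apply, isClassFunction_regInd p a k,
      isClassFunction_character (irr_isCharacter χ.2) a k])
  exact this h

variable [Fintype G]

theorem finrank_charSpan (B : Set (IrrCharacter G)) :
    finrank ℂ (charSpan B) = Nat.card B := by
  classical
  haveI := Fintype.ofFinite B
  rw [charSpan, Set.image_eq_range, Nat.card_eq_fintype_card]
  exact finrank_span_eq_card
    ((linearIndependent_irr (G := G)).comp (Subtype.val : B → IrrCharacter G) Subtype.val_injective)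

theorem blockPart_mem_charSpan (B : Set (IrrCharacter G)) (f : G → ℂ) :
    blockPart B f ∈ charSpan B := by
  classical
  have e : blockPart B f =
      ∑ χ : IrrCharacter G with χ ∈ B, classInner f (χ : G → ℂ) • (χ : G → ℂ) := by
    funext g
    rw [blockPart_eq, Finset.sum_apply]
    rfl
  rw [e]
  exact sum_mem fun χ hχ =>
    Submodule.smul_mem _ _ (Submodule.subset_span ⟨χ, (Finset.mem_filter.mp hχ).2, rfl⟩)

theorem regPart_blockPart_mem (B : Set (IrrCharacter G)) (f : G → ℂ) :
    regPartL p (blockPartL B f) ∈ blockSpan p B := by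
  rw [blockPartL_apply]
  exact (Submodule.map_span_le (regPartL p) _ _).mpr
    (by rintro _ ⟨χ, hχ, rfl⟩; exact Submodule.subset_span ⟨χ, hχ, rfl⟩)
    ⟨_, blockPart_mem_charSpan B f, rfl⟩

open scoped Classical in
/-- Block parts act as projections on the regular parts. -/
theorem blockPart_blockSpan (hM : IsPModular p M) {b b' : Set (IrrCharacter G)}
    (hb : IsPBlock M b) (hb' : IsPBlock M b') {v : G → ℂ} (hv : v ∈ blockSpan p b) :
    blockPart b' v = if b' = b then v else 0 := by
  have hP := pmod_prime hM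
  rw [← blockPartL_apply]
  have key : ∀ ξ ∈ b, blockPartL b' (pRegularPart p (ξ : G → ℂ)) =
      if b' = b then pRegularPart p (ξ : G → ℂ) else 0 := by
    intro ξ hξ
    rw [pRegularPart_eq_mul]
    split_ifs with h
    · subst h
      conv_rhs => rw [sum_block_einner hM ξ, ← block_eq_blockOf hP hb hξ]
      funext g
      rw [blockPartL_apply, blockPart_eq, Finset.sum_apply]
      rfl
    · funext g
      rw [blockPartL_apply, blockPart_eq]
      refine Finset.sum_eq_zero fun η hη => ?_
      have hne : ¬ SameBlock M (ξ : G → ℂ) (η : G → ℂ) := fun hs => h (by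
        have h1 : η ∈ b := by rw [block_eq_blockOf hP hb hξ]; exact hs
        rw [block_eq_blockOf hP hb' (Finset.mem_filter.mp hη).2, block_eq_blockOf hP hb h1])
      rw [show classInner ((ξ : G → ℂ) * regInd p) (η : G → ℂ) = 0 from
        einner_eq_zero_of_not_sameBlock hM ξ η hne, zero_mul]
  induction hv using Submodule.span_induction with
  | mem z hz =>
    obtain ⟨ξ, hξ, rfl⟩ := hz
    exact key ξ hξ
  | zero => simp
  | add a b _ _ ha hb => rw [map_add, ha, hb]; split_ifs <;> simp
  | smul r a _ ha => rw [map_smul, ha]; split_ifs <;> simp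

theorem blockPart_regular_congr (hM : IsPModular p M) {B : Set (IrrCharacter G)} (hB : IsPBlock M B)
    {f f' : G → ℂ} (h : ∀ c, ¬ p ∣ orderOf c → f c = f' c) {y : G} (hy : ¬ p ∣ orderOf y) :
    blockPart B f y = blockPart B f' y := by
  have h0 := blockPart_regular_eq_zero hM hB (θ := f - f')
    (fun c hc => by simp [h c hc]) hy
  rw [← blockPartL_apply, map_sub, Pi.sub_apply, sub_eq_zero] at h0
  rwa [← blockPartL_apply, ← blockPartL_apply]

omit [Fintype G] in
theorem blockSpan_sing {B : Set (IrrCharacter G)} {u : G → ℂ} (hu : u ∈ blockSpan p B) {y : G}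
    (hy : p ∣ orderOf y) : u y = 0 := by
  induction hu using Submodule.span_induction with
  | mem z hz =>
    obtain ⟨ξ, -, rfl⟩ := hz
    simp [pRegularPart, IsPRegular, hy]
  | zero => rfl
  | add a b _ _ ha hb => simp [ha, hb]
  | smul r a _ ha => simp [ha]

theorem blockPart_zero (B : Set (IrrCharacter G)) : blockPart B (0 : G → ℂ) = 0 := by
  rw [← blockPartL_apply, map_zero]

section Sec

variable {x : G} [Fintype (Subgroup.centralizer ({x} : Set G))]

/-- Second main theorem on the span of a block. -/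
theorem blockPart_secFun_charSpan (hM : IsPModular p M) (hx : ∃ k : ℕ, orderOf x = p ^ k)
    {B : Set (IrrCharacter G)} (hB : IsPBlock M B)
    {b : Set (IrrCharacter (Subgroup.centralizer ({x} : Set G)))} (hb : IsPBlock M b)
    (hnot : ¬ IsInducedBlock M (Subgroup.centralizer ({x} : Set G)) b B) {w : G → ℂ}
    (hw : w ∈ charSpan B) (y : Subgroup.centralizer ({x} : Set G)) (hy : ¬ p ∣ orderOf y) :
    blockPart b (secFun x w) y = 0 := by
  rw [← blockPartL_apply, ← secFunL_apply]
  induction hw using Submodule.span_induction with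
  | mem z hz =>
    obtain ⟨χ, hχ, rfl⟩ := hz
    rw [secFunL_apply, blockPartL_apply]
    exact blockPart_secFun_eq_zero hM hx hB χ hχ hb hnot y hy
  | zero => simp
  | add a b _ _ ha hb => simp [ha, hb]
  | smul r a _ ha => simp [ha]

open scoped Classical in
/-- A block part on a section only sees the local blocks inducing the block. -/
theorem blockPart_section_eq (hM : IsPModular p M) (hx : ∃ k : ℕ, orderOf x = p ^ k)
    {B : Set (IrrCharacter G)} (hB : IsPBlock M B) {ϑ : G → ℂ} (hϑ : IsClassFunction G ϑ)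
    (y : Subgroup.centralizer ({x} : Set G)) (hy : ¬ p ∣ orderOf y) :
    blockPart B ϑ (x * (y : G)) =
      ∑ b ∈ ((Finset.univ : Finset (IrrCharacter (Subgroup.centralizer ({x} : Set G)))).image
        (fun ξ : IrrCharacter (Subgroup.centralizer ({x} : Set G)) =>
          blockOf M (ξ : Subgroup.centralizer ({x} : Set G) → ℂ))).filter
        (fun b => IsInducedBlock M (Subgroup.centralizer ({x} : Set G)) b B),
      blockPart b (secFun x ϑ) y := by
  have hP := pmod_prime hM
  have hexp : ϑ = blockPart B ϑ +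
      ∑ χ : IrrCharacter G with χ ∉ B, classInner ϑ (χ : G → ℂ) • (χ : G → ℂ) := by
    have e : blockPart B ϑ =
        ∑ χ : IrrCharacter G with χ ∈ B, classInner ϑ (χ : G → ℂ) • (χ : G → ℂ) := by
      funext g
      rw [blockPart_eq, Finset.sum_apply]
      rfl
    rw [e, Finset.sum_filter_add_sum_filter_not]
    exact classFun_expansion hϑ
  have hcl := isClassFunction_of_charSpan (blockPart_mem_charSpan B ϑ)
  show secFun x (blockPart B ϑ) y = _
  rw [eq_sum_blockPart hP (isClassFunction_secFun hcl), Finset.sum_filter]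
  refine Finset.sum_congr rfl fun b hb => ?_
  obtain ⟨ξ, -, rfl⟩ := Finset.mem_image.mp hb
  split_ifs with hind
  · conv_rhs => rw [hexp, ← secFunL_apply, ← blockPartL_apply, map_add, map_add, Pi.add_apply]
    rw [← secFunL_apply, ← blockPartL_apply, left_eq_add]
    simp only [map_sum, map_smul, Finset.sum_apply, Pi.smul_apply, smul_eq_mul, blockPartL_apply,
      secFunL_apply]
    refine Finset.sum_eq_zero fun χ hχ => ?_
    rw [blockPart_secFun_eq_zero hM hx (isPBlock_blockOf M χ) χ (self_mem_blockOf hP χ)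
      (isPBlock_blockOf M ξ) ?_ y hy, mul_zero]
    intro h2
    refine (Finset.mem_filter.mp hχ).2 ?_
    obtain ⟨χ0, hχ0⟩ := block_nonempty hP hB
    refine (mem_block_iff hP hB hχ0 χ).mpr fun g => ?_
    exact memLI_trans hP (memLI_symm hP (hind.2.2 ξ (self_mem_blockOf hP ξ) χ0 hχ0 g))
      (h2.2.2 ξ (self_mem_blockOf hP ξ) χ (self_mem_blockOf hP χ) g)
  · exact blockPart_secFun_charSpan hM hx hB (isPBlock_blockOf M ξ) hind
      (blockPart_mem_charSpan B ϑ) y hy

open scoped Classical in
/-- Extension of a function on the regular elements of the centralizer of `x` to the section. -/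
noncomputable def sectionExt (p : ℕ) (x : G) (v : Subgroup.centralizer ({x} : Set G) → ℂ) :
    G → ℂ := fun g => (Nat.card (Subgroup.centralizer ({x} : Set G)) : ℂ)⁻¹ * ∑ c : G,
      if h : x⁻¹ * (c⁻¹ * g * c) ∈ Subgroup.centralizer ({x} : Set G) then regPartL p v ⟨_, h⟩ else 0

omit [Fintype (Subgroup.centralizer ({x} : Set G))] in
theorem isClassFunction_sectionExt (v : Subgroup.centralizer ({x} : Set G) → ℂ) :
    IsClassFunction G (sectionExt p x v) := by
  classical
  intro a k
  unfold sectionExt
  congr 1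
  refine Fintype.sum_equiv (Equiv.mulLeft k⁻¹) _ _ fun c => ?_
  have e : x⁻¹ * (c⁻¹ * (k * a * k⁻¹) * c) = x⁻¹ * ((k⁻¹ * c)⁻¹ * a * (k⁻¹ * c)) := by group
  simp only [Equiv.coe_mulLeft]
  exact congrArg (fun g => if h : g ∈ Subgroup.centralizer ({x} : Set G) then
    regPartL p v ⟨g, h⟩ else 0) e

omit [Fintype (Subgroup.centralizer ({x} : Set G))] in
theorem sectionExt_eq_zero (hM : IsPModular p M) (hx : ∃ k : ℕ, orderOf x = p ^ k)
    (v : Subgroup.centralizer ({x} : Set G) → ℂ) {g z : G} (hg : IsPPart p g z)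
    (hz : ¬ IsConj x z) : sectionExt p x v g = 0 := by
  classical
  rw [sectionExt, Finset.sum_eq_zero, mul_zero]
  intro c _
  split_ifs with h
  · by_cases hr : p ∣ orderOf (⟨_, h⟩ : Subgroup.centralizer ({x} : Set G))
    · exact regPartL_of_sing hr v
    · exfalso
      have h1 := isPPart_mul hx ⟨_, h⟩ hr
      rw [show x * ((⟨_, h⟩ : Subgroup.centralizer ({x} : Set G)) : G) = c⁻¹ * g * c from
        mul_inv_cancel_left x _] at h1
      obtain ⟨w, hw, hcm, ⟨k, hk⟩, hreg⟩ := hg
      have h2 : IsPPart p (c⁻¹ * g * c) (c⁻¹ * z * c) := by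
        refine ⟨c⁻¹ * w * c, by rw [← hw]; group, ?_, ⟨k, ?_⟩, ?_⟩
        · simpa [MulAut.conj_apply] using hcm.map (MulAut.conj c⁻¹)
        · rw [← hk, show c⁻¹ * z * c = MulAut.conj c⁻¹ z by simp, MulEquiv.orderOf_eq]
        · rwa [show c⁻¹ * w * c = MulAut.conj c⁻¹ w by simp, MulEquiv.orderOf_eq]
      refine hz (isConj_iff.mpr ⟨c, ?_⟩)
      rw [isPPart_unique hM.1 h1 h2]
      group
  · rfl

theorem sectionExt_apply (hM : IsPModular p M) (hx : ∃ k : ℕ, orderOf x = p ^ k)
    {v : Subgroup.centralizer ({x} : Set G) → ℂ}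
    (hv : IsClassFunction (Subgroup.centralizer ({x} : Set G)) v)
    (y : Subgroup.centralizer ({x} : Set G)) (hy : ¬ p ∣ orderOf y) :
    sectionExt p x v (x * (y : G)) = v y := by
  classical
  have hterm : ∀ c : G, (if h : x⁻¹ * (c⁻¹ * (x * (y : G)) * c) ∈
      Subgroup.centralizer ({x} : Set G) then regPartL p v ⟨_, h⟩ else 0) =
      if c ∈ Subgroup.centralizer ({x} : Set G) then v y else 0 := by
    intro c
    by_cases hc : c ∈ Subgroup.centralizer ({x} : Set G)
    · have e : x⁻¹ * (c⁻¹ * (x * (y : G)) * c) = c⁻¹ * y * c := by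
        have : c⁻¹ * x = x * c⁻¹ := (cent_mul_comm ⟨c⁻¹, inv_mem hc⟩).symm
        calc x⁻¹ * (c⁻¹ * (x * (y : G)) * c) = x⁻¹ * ((c⁻¹ * x) * y * c) := by group
          _ = _ := by rw [this]; group
      have hm : x⁻¹ * (c⁻¹ * (x * (y : G)) * c) ∈ Subgroup.centralizer ({x} : Set G) := by
        rw [e]; exact mul_mem (mul_mem (inv_mem hc) y.2) hc
      rw [dif_pos hm, if_pos hc]
      have e2 : (⟨_, hm⟩ : Subgroup.centralizer ({x} : Set G)) =
          (⟨c, hc⟩ : Subgroup.centralizer ({x} : Set G))⁻¹ * y * ⟨c, hc⟩ := Subtype.ext e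
      rw [e2, regPartL_of_reg]
      · simpa using hv y (⟨c, hc⟩ : Subgroup.centralizer ({x} : Set G))⁻¹
      · rwa [show (⟨c, hc⟩ : Subgroup.centralizer ({x} : Set G))⁻¹ * y * ⟨c, hc⟩ =
          MulAut.conj (⟨c, hc⟩ : Subgroup.centralizer ({x} : Set G))⁻¹ y by simp,
          MulEquiv.orderOf_eq]
    · rw [if_neg hc]
      split_ifs with h
      · by_cases hr : p ∣ orderOf (⟨_, h⟩ : Subgroup.centralizer ({x} : Set G))
        · exact regPartL_of_sing hr v
        · exfalso
          apply hc
          have h1 := isPPart_mul hx ⟨_, h⟩ hr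
          rw [show x * ((⟨_, h⟩ : Subgroup.centralizer ({x} : Set G)) : G) =
            c⁻¹ * (x * (y : G)) * c from mul_inv_cancel_left x _] at h1
          obtain ⟨k, hk⟩ := hx
          have h2 : IsPPart p (c⁻¹ * (x * (y : G)) * c) (c⁻¹ * x * c) := by
            refine ⟨c⁻¹ * y * c, by group, ?_, ⟨k, ?_⟩, ?_⟩
            · have hxy : Commute x (y : G) := cent_mul_comm y
              simpa [MulAut.conj_apply] using hxy.map (MulAut.conj c⁻¹)
            · rw [← hk, show c⁻¹ * x * c = MulAut.conj c⁻¹ x by simp, MulEquiv.orderOf_eq]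
            · rw [show c⁻¹ * (y : G) * c = MulAut.conj c⁻¹ (y : G) by simp, MulEquiv.orderOf_eq,
                Subgroup.orderOf_coe]
              exact hy
          have h3 := isPPart_unique hM.1 h1 h2
          refine Subgroup.mem_centralizer_singleton_iff.mpr ?_
          calc c * x = c * (c⁻¹ * x * c) := by rw [← h3]
            _ = x * c := by group
      · rfl
  rw [sectionExt, Finset.sum_congr rfl fun c _ => hterm c, ← Finset.sum_filter, Finset.sum_const,
    nsmul_eq_mul]
  have hcard : (Finset.univ.filter fun c => c ∈ Subgroup.centralizer ({x} : Set G)).card =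
      Nat.card (Subgroup.centralizer ({x} : Set G)) := by
    rw [Nat.card_eq_fintype_card, ← Fintype.card_subtype]
  rw [hcard, inv_mul_cancel_left₀ (Nat.cast_ne_zero.mpr Nat.card_pos.ne')]

/-- Every element of a local span comes from the block. -/
theorem exists_charSpan_lift (hM : IsPModular p M) (hx : ∃ k : ℕ, orderOf x = p ^ k)
    {B : Set (IrrCharacter G)} (hB : IsPBlock M B)
    {b : Set (IrrCharacter (Subgroup.centralizer ({x} : Set G)))}
    (hb : IsInducedBlock M (Subgroup.centralizer ({x} : Set G)) b B)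
    {v : Subgroup.centralizer ({x} : Set G) → ℂ} (hv : v ∈ blockSpan p b) :
    ∃ w ∈ charSpan B,
      (∀ y : Subgroup.centralizer ({x} : Set G), ¬ p ∣ orderOf y → secFun x w y = v y) ∧
      ∀ x' : G, (∃ k : ℕ, orderOf x' = p ^ k) → ¬ IsConj x x' →
        ∀ y : Subgroup.centralizer ({x'} : Set G), ¬ p ∣ orderOf y → secFun x' w y = 0 := by
  classical
  have hcv := isClassFunction_of_blockSpan hv
  refine ⟨blockPart B (sectionExt p x v), blockPart_mem_charSpan B _, fun y hy => ?_,
    fun x' hx' hne y hy => ?_⟩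
  · show blockPart B (sectionExt p x v) (x * (y : G)) = _
    rw [blockPart_section_eq hM hx hB (isClassFunction_sectionExt v) y hy]
    refine (Finset.sum_congr rfl (g := fun b1 => (if b1 = b then v else 0 : _ → ℂ) y)
      fun b1 hb1 => ?_).trans ?_
    · exact (blockPart_regular_congr hM
        (Finset.mem_filter.mp hb1).2.1 (f' := v)
        (fun d hd => sectionExt_apply hM hx hcv d hd) hy).trans
        (congrFun (blockPart_blockSpan hM hb.1 (Finset.mem_filter.mp hb1).2.1 hv) y)
    rw [Finset.sum_eq_single b]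
    · rw [if_pos rfl]
    · intro b1 _ hb1
      rw [if_neg hb1]
      rfl
    · intro hn
      obtain ⟨ξ, hξ⟩ := hb.1
      refine absurd ?_ hn
      exact Finset.mem_filter.mpr
        ⟨Finset.mem_image.mpr ⟨ξ, Finset.mem_univ _, hξ.symm⟩, hb⟩
  · haveI : Fintype (Subgroup.centralizer ({x'} : Set G)) := Fintype.ofFinite _
    show blockPart B (sectionExt p x v) (x' * (y : G)) = 0
    rw [blockPart_section_eq hM hx' hB (isClassFunction_sectionExt v) y hy]
    refine Finset.sum_eq_zero fun b1 hb1 => ?_
    refine (blockPart_regular_congr hM (Finset.mem_filter.mp hb1).2.1 (f' := 0)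
      (fun d hd => ?_) hy).trans (congrFun (blockPart_zero b1) y)
    exact sectionExt_eq_zero hM hx v (isPPart_mul hx' d hd) hne

end Sec

/-- `k(B)` is the sum over the sections of the local `l(b)`. -/
theorem card_eq_sum_blockRank (hM : IsPModular p M) {B : Set (IrrCharacter G)}
    (hB : IsPBlock M B) (X : Finset G) (hX : ∀ x ∈ X, ∃ k : ℕ, orderOf x = p ^ k)
    (hXrep : ∀ g : G, (∃ k : ℕ, orderOf g = p ^ k) → ∃! x, x ∈ X ∧ IsConj g x) :
    Nat.card B = ∑ x ∈ X, ∑ᶠ b ∈ {b : Set (IrrCharacter ↥(Subgroup.centralizer ({x} : Set G))) |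
      IsInducedBlock M (Subgroup.centralizer ({x} : Set G)) b B}, blockRank p b := by
  classical
  have hP := pmod_prime hM
  letI : ∀ x : G, Fintype (Subgroup.centralizer ({x} : Set G)) := fun x => Fintype.ofFinite _
  letI : ∀ x : X, Fintype {b : Set (IrrCharacter ↥(Subgroup.centralizer ({(x : G)} : Set G))) //
      IsInducedBlock M (Subgroup.centralizer ({(x : G)} : Set G)) b B} := fun x => Fintype.ofFinite _
  set T := fun i : (Σ x : X, {b : Set (IrrCharacter ↥(Subgroup.centralizer ({(x : G)} : Set G))) //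
      IsInducedBlock M (Subgroup.centralizer ({(x : G)} : Set G)) b B}) =>
    ↥(blockSpan p i.2.1) with hT
  let Φ : ↥(charSpan B) →ₗ[ℂ] ∀ i, T i := LinearMap.pi fun i =>
    LinearMap.codRestrict (blockSpan p i.2.1)
      ((regPartL p).comp ((blockPartL i.2.1).comp ((secFunL (i.1 : G)).comp (charSpan B).subtype)))
      fun w => regPart_blockPart_mem _ _
  have hΦ : ∀ (w : charSpan B) i (y : Subgroup.centralizer ({(i.1 : G)} : Set G)),
      ¬ p ∣ orderOf y → (Φ w i : _ → ℂ) y = blockPart i.2.1 (secFun (i.1 : G) (w : G → ℂ)) y := by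
    intro w i y hy
    show regPartL p (blockPartL i.2.1 (secFunL (i.1 : G) (w : G → ℂ))) y = _
    rw [regPartL_of_reg hy, blockPartL_apply, secFunL_apply]
  have hinj : Function.Injective Φ := by
    rw [injective_iff_map_eq_zero]
    intro w hw
    apply Subtype.ext
    funext g
    obtain ⟨z, hz⟩ := exists_isPPart hM.1 g
    obtain ⟨w', rfl, hcm, hk, hreg⟩ := hz
    obtain ⟨x, ⟨hxX, hzx⟩, -⟩ := hXrep z hk
    obtain ⟨c, rfl⟩ := isConj_iff.mp hzx
    have hy' : c * w' * c⁻¹ ∈ Subgroup.centralizer ({c * z * c⁻¹} : Set G) := by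
      refine Subgroup.mem_centralizer_singleton_iff.mpr ?_
      simpa [MulAut.conj_apply] using (hcm.symm.map (MulAut.conj c)).eq
    have hyreg : ¬ p ∣ orderOf (⟨_, hy'⟩ : Subgroup.centralizer ({c * z * c⁻¹} : Set G)) := by
      rw [Subgroup.orderOf_mk, ← MulAut.conj_apply, MulEquiv.orderOf_eq]
      exact hreg
    show (w : G → ℂ) (z * w') = 0
    rw [← isClassFunction_of_charSpan w.2 (z * w') c,
      show c * (z * w') * c⁻¹ = c * z * c⁻¹ * (c * w' * c⁻¹) by group]
    show secFun (c * z * c⁻¹) (w : G → ℂ) ⟨_, hy'⟩ = 0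
    rw [eq_sum_blockPart hP (isClassFunction_secFun (isClassFunction_of_charSpan w.2))]
    refine Finset.sum_eq_zero fun b hb => ?_
    obtain ⟨ξ, -, rfl⟩ := Finset.mem_image.mp hb
    by_cases hind : IsInducedBlock M (Subgroup.centralizer ({c * z * c⁻¹} : Set G))
        (blockOf M (ξ : Subgroup.centralizer ({c * z * c⁻¹} : Set G) → ℂ)) B
    · rw [← hΦ w ⟨⟨_, hxX⟩, ⟨_, hind⟩⟩ _ hyreg, hw]
      rfl
    · exact blockPart_secFun_charSpan hM (hX _ hxX) hB (isPBlock_blockOf M ξ) hind w.2 _ hyreg
  have hsurj : Function.Surjective Φ := by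
    intro v
    choose P hP' using fun i => show ∃ w : charSpan B, Φ w = Pi.single i (v i) from by
      obtain ⟨w, hw, hw1, hw2⟩ :=
        exists_charSpan_lift hM (hX _ i.1.2) hB i.2.2 (v i).2
      refine ⟨⟨w, hw⟩, funext fun j => ?_⟩
      apply Subtype.ext
      funext y
      by_cases hy : p ∣ orderOf y
      · exact (blockSpan_sing (Φ ⟨w, hw⟩ j).2 hy).trans
          (blockSpan_sing (Pi.single i (v i) j : T j).2 hy).symm
      rw [hΦ _ _ y hy]
      obtain ⟨⟨x', hx'X⟩, b', hb'⟩ := j
      obtain ⟨⟨x, hxX⟩, b, hb⟩ := i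
      by_cases hxx : x' = x
      · subst hxx
        rw [blockPart_regular_congr hM hb'.1 hw1 hy,
          blockPart_blockSpan hM hb.1 hb'.1 (v ⟨⟨x', hxX⟩, b, hb⟩).2]
        by_cases hbb : b' = b
        · subst hbb
          rw [if_pos rfl, Pi.single_eq_same]
        · rw [if_neg hbb, Pi.single_eq_of_ne]
          · rfl
          · intro h
            simp only [Sigma.mk.injEq, heq_eq_eq, Subtype.mk.injEq, true_and] at h
            exact hbb h
      · rw [Pi.single_eq_of_ne (fun h => hxx (congrArg (fun i => (i.1 : G)) h))]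
        refine (blockPart_regular_congr hM hb'.1 (f' := 0)
          (hw2 x' (hX _ hx'X) fun hconj => ?_) hy).trans (congrFun (blockPart_zero b') y)
        obtain ⟨x0, -, huniq⟩ := hXrep x' (hX _ hx'X)
        exact hxx ((huniq x' ⟨hx'X, IsConj.refl _⟩).trans (huniq x ⟨hxX, hconj.symm⟩).symm)
    refine ⟨∑ i, P i, ?_⟩
    rw [map_sum, Finset.sum_congr rfl fun i _ => hP' i, Finset.univ_sum_single]
  rw [← finrank_charSpan B, (LinearEquiv.ofBijective Φ ⟨hinj, hsurj⟩).finrank_eq,
    finrank_pi_fintype, Fintype.sum_sigma, ← Finset.sum_coe_sort X]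
  refine Finset.sum_congr rfl fun x _ => ?_
  refine ((finsum_subtype_eq_finsum_cond (f := fun b => blockRank p b)
    (fun b : Set (IrrCharacter ↥(Subgroup.centralizer ({(x : G)} : Set G))) =>
      IsInducedBlock M (Subgroup.centralizer ({(x : G)} : Set G)) b B)).symm.trans
    (finsum_eq_sum_of_fintype _)).symm

end Cfsg.Agent.Char
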