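import Cfsg.Agent.Lib.Char.RankOne
import Cfsg.Agent.Lib.Char.SectionCount
import Cfsg.Agent.Lib.Char.Height
import Cfsg.Agent.Lib.Fusion.NPC
import Mathlib

/-!
The principal block for a Sylow subgroup of type (2,2) with one class of involutions.
-/

set_option autoImplicit false
set_option linter.style.haveILetI false
set_option linter.unusedSectionVars false
set_option linter.unusedSimpArgs false
open scoped ComplexConjugate
open Cfsg

namespace Cfsg.Agent.Char

universe u
variable {G : Type u} [Group G] [Fintype G] {M : Ideal AlgInt}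

theorem comm_of_exp_two {P : Subgroup G} (hexp : ∀ x : P, x * x = 1) :
    ∀ a ∈ P, ∀ b ∈ P, a * b = b * a := fun a ha b hb => by
  refine congrArg Subtype.val (show (⟨a, ha⟩ : P) * ⟨b, hb⟩ = ⟨b, hb⟩ * ⟨a, ha⟩ from ?_)
  have h1 := hexp ((⟨a, ha⟩ : P) * ⟨b, hb⟩)
  have ha' : (⟨a, ha⟩ : P)⁻¹ = ⟨a, ha⟩ := inv_eq_of_mul_eq_one_right (hexp _)
  have hb' : (⟨b, hb⟩ : P)⁻¹ = ⟨b, hb⟩ := inv_eq_of_mul_eq_one_right (hexp _)
  have hab := inv_eq_of_mul_eq_one_right h1
  rw [mul_inv_rev, ha', hb'] at hab
  exact hab.symm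

theorem eq_complement {p : ℕ} [hp : Fact p.Prime] {K N : Subgroup G} [N.Normal] {S : Sylow p G}
    (hK : ¬ p ∣ Nat.card K) (hr : ∀ g : G, ¬ p ∣ orderOf g → g ∈ K)
    (hc : N.IsComplement' (S : Subgroup G)) : K = N := by
  refine le_antisymm (fun g hg => ?_) (fun g hg => hr g ?_)
  · rw [← QuotientGroup.eq_one_iff, ← orderOf_eq_one_iff]
    refine Nat.eq_one_of_dvd_coprimes ?_ (orderOf_map_dvd (QuotientGroup.mk' N) g) (orderOf_dvd_natCard _)
    rw [← Subgroup.index_eq_card, hc.symm.index_eq_card, S.card_eq_multiplicity]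
    refine Nat.Coprime.pow_right _ (Nat.coprime_comm.1 (hp.out.coprime_iff_not_dvd.2 fun h => ?_))
    exact hK (h.trans ((Subgroup.orderOf_mk g hg) ▸ orderOf_dvd_natCard (⟨g, hg⟩ : K)))
  · intro h
    exact hp.out.coprime_iff_not_dvd.1 (Nat.coprime_comm.1 (Fusion.coprime_card_of_isComplement' hc))
      (h.trans ((Subgroup.orderOf_mk g hg) ▸ orderOf_dvd_natCard (⟨g, hg⟩ : N)))

theorem hnpc_centralizer_of_four (P : Sylow 2 G) (hP : Nat.card P = 4)
    (hexp : ∀ x : P, x * x = 1) {t : G} (ht : t ∈ (P : Subgroup G)) (ht1 : t ≠ 1) :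
    HasNormalPComplement 2 (Subgroup.centralizer ({t} : Set G)) := by
  classical
  haveI : Fact (Nat.Prime 2) := ⟨Nat.prime_two⟩
  set C := Subgroup.centralizer ({t} : Set G) with hC
  have hab := comm_of_exp_two (P := (P : Subgroup G)) hexp
  have hPC : (P : Subgroup G) ≤ C := fun a ha =>
    Subgroup.mem_centralizer_singleton_iff.2 (hab a ha t ht)
  let PC : Sylow 2 C := P.subtype hPC
  have hPCmem : ∀ x : C, x ∈ (PC : Subgroup C) ↔ (x : G) ∈ (P : Subgroup G) := fun x => Iff.rfl
  haveI : IsMulCommutative (PC : Subgroup C) := ⟨⟨fun a b => Subtype.ext (Subtype.ext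
    (hab _ ((hPCmem _).1 a.2) _ ((hPCmem _).1 b.2)))⟩⟩
  refine ⟨PC, _, inferInstance,
    MonoidHom.ker_transferSylow_isComplement' PC (fun u hu => ?_)⟩
  -- the action on the pair of remaining involutions
  have hsq : ∀ x : C, x ∈ (PC : Subgroup C) → u * u * x = x * (u * u) := by
    intro x hx
    have hconj : ∀ y : C, y ∈ (PC : Subgroup C) → u * y * u⁻¹ ∈ (PC : Subgroup C) := fun y hy =>
      (Subgroup.mem_normalizer_iff.1 hu y).1 hy
    let S := {y : C // y ∈ (PC : Subgroup C) ∧ (y : G) ≠ 1 ∧ (y : G) ≠ t}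
    by_cases hx1 : (x : G) = 1
    · have : x = 1 := Subtype.ext hx1
      simp [this]
    by_cases hxt : (x : G) = t
    · apply Subtype.ext
      have := Subgroup.mem_centralizer_singleton_iff.1 (u * u).2
      rw [Subgroup.coe_mul, Subgroup.coe_mul _ x, hxt]
      exact this
    have hS : Nat.card S ≤ 2 := by
      let f : Option (Option S) → (P : Subgroup G) := fun o => match o with
        | none => 1
        | some none => ⟨t, ht⟩
        | some (some y) => ⟨(y.1 : G), (hPCmem _).1 y.2.1⟩
      have hf : Function.Injective f := by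
        rintro (_ | _ | a) (_ | _ | b) h
        all_goals first
          | rfl
          | (have h' := congrArg Subtype.val h; simp only [f, OneMemClass.coe_one] at h';
             first
              | exact absurd h' ht1 | exact absurd h'.symm ht1
              | exact absurd h' a.2.2.1 | exact absurd h'.symm a.2.2.1
              | exact absurd h' a.2.2.2 | exact absurd h'.symm a.2.2.2
              | exact absurd h' b.2.2.1 | exact absurd h'.symm b.2.2.1
              | exact absurd h' b.2.2.2 | exact absurd h'.symm b.2.2.2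
              | exact congrArg (fun z => some (some z)) (Subtype.ext (Subtype.ext h')))
      have := Nat.card_le_card_of_injective f hf
      rw [hP, Finite.card_option, Finite.card_option] at this
      omega
    have hut : ∀ y : C, (u * y * u⁻¹ : C).1 = t → (y : G) = t := fun y hy => by
      have h1 := Subgroup.mem_centralizer_singleton_iff.1 u.2
      have : (y : G) = (u : G)⁻¹ * ((u * y * u⁻¹ : C) : G) * u := by simp [mul_assoc]
      rw [this, hy, mul_assoc, ← h1, ← mul_assoc, inv_mul_cancel, one_mul]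
    let σ : S → S := fun y => ⟨u * y.1 * u⁻¹, hconj _ y.2.1,
      fun h => y.2.2.1 (by
        have h2 : u * y.1 * u⁻¹ = 1 := Subtype.ext h
        have h3 : y.1 = 1 := by
          simpa using h2
        rw [h3]; rfl), fun h => y.2.2.2 (hut _ h)⟩
    have hσ : Function.Injective σ := fun a b h => by
      have := congrArg Subtype.val h
      simp only [σ, mul_left_inj, mul_right_inj] at this
      exact Subtype.ext this
    let s : S := ⟨x, hx, hx1, hxt⟩
    have h2 : σ (σ s) = s := by
      by_contra hne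
      have h3 : σ s ≠ s := fun h => hne (by rw [h, h])
      have h4 : σ (σ s) ≠ σ s := fun h => h3 (hσ h)
      haveI := Fintype.ofFinite S
      have := Finset.card_le_univ ({s, σ s, σ (σ s)} : Finset S)
      rw [Finset.card_eq_three.2 ⟨s, σ s, σ (σ s), Ne.symm h3, Ne.symm hne, Ne.symm h4, rfl⟩,
        ← Nat.card_eq_fintype_card] at this
      omega
    have h5 := congrArg Subtype.val h2
    simp only [σ, s] at h5
    calc u * u * x = u * (u * x * u⁻¹) * u⁻¹ * (u * u) := by group
      _ = x * (u * u) := by rw [h5]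
  obtain ⟨a, b, hb, hab'⟩ := Nat.exists_eq_two_pow_mul_odd (orderOf_pos u).ne'
  rw [Subgroup.mem_centralizer_iff]
  intro x hx
  -- the odd part
  have hodd : ∀ v : C, Odd (orderOf v) → (v * v * x = x * (v * v)) → v * x = x * v := by
    intro v hv hvx
    obtain ⟨m, hm⟩ := hv
    have hpow : v = (v * v) ^ (m + 1) := by
      rw [← pow_two, ← pow_mul, show 2 * (m + 1) = orderOf v + 1 by omega, pow_succ,
        pow_orderOf_eq_one, one_mul]
    rw [hpow]
    exact (Commute.pow_left hvx _).eq
  have hpow_mem : ∀ n : ℕ, u ^ n ∈ Subgroup.normalizer ((PC : Subgroup C) : Set C) := fun n =>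
    pow_mem hu n
  have h2part : ∀ v : C, v ∈ Subgroup.normalizer ((PC : Subgroup C) : Set C) →
      orderOf v ∣ 2 ^ a → v * x = x * v := by
    intro v hv hvo
    have hmem : v ∈ (PC : Subgroup C) := by
      obtain ⟨i, -, hi⟩ := (Nat.dvd_prime_pow Nat.prime_two).1 hvo
      have hp2 : IsPGroup 2 (Subgroup.zpowers v) := IsPGroup.of_card (n := i) (by rw [Nat.card_zpowers, hi])
      have e : Subgroup.zpowers v ⊓ Subgroup.normalizer ((PC : Subgroup C) : Set C) =
          Subgroup.zpowers v ⊓ (PC : Subgroup C) := hp2.inf_normalizer_sylow PC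
      have hm : v ∈ Subgroup.zpowers v ⊓ (PC : Subgroup C) := e ▸ ⟨Subgroup.mem_zpowers v, hv⟩
      exact hm.2
    apply Subtype.ext
    exact hab _ ((hPCmem _).1 hmem) _ ((hPCmem _).1 hx)
  have hv1 : u ^ (2 ^ a) * x = x * u ^ (2 ^ a) := by
    refine hodd _ ?_ ?_
    · rw [orderOf_pow, hab', Nat.gcd_eq_right (dvd_mul_right _ _), Nat.mul_div_cancel_left _ (by positivity)]
      exact hb
    · have hc : Commute (u * u) x := hsq x hx
      have := hc.pow_left (2 ^ a)
      rw [show (u * u) ^ (2 ^ a) = u ^ (2 ^ a) * u ^ (2 ^ a) from (Commute.refl u).mul_pow _] at this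
      exact this.eq
  have hv2 : u ^ b * x = x * u ^ b := by
    refine h2part _ (hpow_mem b) ?_
    apply orderOf_dvd_of_pow_eq_one
    rw [← pow_mul, mul_comm, ← hab', pow_orderOf_eq_one]
  have hcop : Nat.Coprime (2 ^ a) b := Nat.Coprime.pow_left _ (Nat.coprime_two_left.2 hb)
  have hi := Nat.gcd_eq_gcd_ab (2 ^ a) b
  rw [hcop.gcd_eq_one] at hi
  have hu' : u = (u ^ (2 ^ a)) ^ (Nat.gcdA (2 ^ a) b) * (u ^ b) ^ (Nat.gcdB (2 ^ a) b) := by
    rw [← zpow_natCast, ← zpow_mul, ← zpow_natCast u b, ← zpow_mul, ← zpow_add, ← hi]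
    simp
  have e : u * x = x * u := by
    rw [hu']
    exact ((Commute.zpow_left hv1 _).mul_left (Commute.zpow_left hv2 _)).eq
  exact e.symm

theorem char_involution_int {χ : G → ℂ} (h : IsCharacter G χ) {t : G} (ht : t ^ 2 = 1) :
    ∃ z : ℤ, χ t = z := by
  obtain ⟨n, ρ, rfl⟩ := h
  obtain ⟨μ, hμ, htr, -⟩ := exists_eigenvalues ρ t
  have h1 : ρ.character t = ∑ i, μ i := by simpa using htr 1
  have hi : ∀ i, ∃ z : ℤ, μ i = z := fun i => by
    have h2 : μ i ^ 2 = 1 := by
      obtain ⟨k, hk⟩ := orderOf_dvd_of_pow_eq_one ht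
      rw [hk, pow_mul, hμ i, one_pow]
    rcases sq_eq_one_iff.1 h2 with e | e
    · exact ⟨1, by simp [e]⟩
    · exact ⟨-1, by simp [e]⟩
  choose z hz using hi
  exact ⟨∑ i, z i, by rw [h1]; simp [hz]⟩

theorem four_signs (hM : IsPModular 2 M) (P : Sylow 2 G) (hP : Nat.card P = 4)
    (hexp : ∀ x : P, x * x = 1) (hone : ∀ s t : G, orderOf s = 2 → orderOf t = 2 → IsConj s t)
    {t : G} (ht : t ∈ (P : Subgroup G)) (ht1 : t ≠ 1) :
    ∃ z : IrrCharacter G → ℤ, Nat.card (principalBlock M G) = 4 ∧
      (∀ χ : IrrCharacter G, (χ : G → ℂ) t = z χ) ∧ ∀ χ ∈ principalBlock M G, z χ ^ 2 = 1 := by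
  classical
  haveI : Fact (Nat.Prime 2) := ⟨Nat.prime_two⟩
  have hPr := pmod_prime hM
  have ht2 : orderOf t = 2 := orderOf_eq_prime
    (by have := congrArg Subtype.val (hexp ⟨t, ht⟩); rw [← pow_two] at this; simpa using this) ht1
  have htp : ∃ k : ℕ, orderOf t = 2 ^ k := ⟨1, by rw [ht2, pow_one]⟩
  haveI : Fintype (Subgroup.centralizer ({t} : Set G)) := Fintype.ofFinite _
  have hnp := hnpc_centralizer_of_four P hP hexp ht ht1
  obtain ⟨K, hKn, hKc, hKreg⟩ := hnpc_iff_regular.1 hnp
  set B := principalBlock M G with hBdef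
  have hB : IsPBlock M B := isPBlock_principalBlock M
  have h11 : (⟨fun _ => 1, isIrrCharacter_one⟩ : IrrCharacter G) ∈ B :=
    self_mem_blockOf hPr ⟨fun _ => 1, isIrrCharacter_one⟩
  have horth : ∀ y y' : Subgroup.centralizer ({t} : Set G), ¬ 2 ∣ orderOf y → ¬ 2 ∣ orderOf y' →
      ∑ χ : IrrCharacter G with χ ∈ B, conj ((χ : G → ℂ) (t * (y : G))) * (χ : G → ℂ) (t * (y' : G)) =
        (K.index : ℂ) := by
    intro y y' hy hy'
    rw [sum_block_section_orth hM htp hB y y' hy hy', principal_section_filter hM htp, Finset.sum_singleton]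
    obtain ⟨k, hk⟩ : ∃ k, K.index = 2 ^ k := by
      obtain ⟨S, N, hN, hc⟩ := hnp
      haveI := hN
      refine ⟨(Nat.card (Subgroup.centralizer ({t} : Set G))).factorization 2, ?_⟩
      have h1 := S.card_eq_multiplicity
      have h2 := K.index_mul_card
      have h3 : Nat.card K ∣ Nat.card (Subgroup.centralizer ({t} : Set G)) := Subgroup.card_subgroup_dvd_card K
      have hKN : K = N := eq_complement hKc hKreg hc
      rw [hKN, hc.symm.index_eq_card, h1]
    have hval : ∀ ξ : IrrCharacter (Subgroup.centralizer ({t} : Set G)),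
        ξ ∈ principalBlock M (Subgroup.centralizer ({t} : Set G)) →
        conj ((ξ : Subgroup.centralizer ({t} : Set G) → ℂ) y) * (ξ : Subgroup.centralizer ({t} : Set G) → ℂ) y' =
          (ξ : Subgroup.centralizer ({t} : Set G) → ℂ) 1 * (ξ : Subgroup.centralizer ({t} : Set G) → ℂ) 1 := by
      intro ξ hξ
      obtain ⟨d, hd⟩ := charOne_eq_natCast (irr_isCharacter ξ.2)
      rw [principal_trivial_on hM K hKc hξ y (hKreg y hy), principal_trivial_on hM K hKc hξ y' (hKreg y' hy'),
        hd, Complex.conj_natCast]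
    rw [Finset.sum_congr rfl fun ξ hξ => hval ξ (Finset.mem_filter.1 hξ).2,
      ← sum_sq_trivial_on K hPr]
    refine Finset.sum_congr (Finset.ext fun ξ => ?_) fun _ _ => rfl
    simp only [Finset.mem_filter, Finset.mem_univ, true_and]
    exact mem_principal_iff_of_index hM K hKc hk ξ
  have hKi : K.index = 4 := by
    obtain ⟨S, N, hN, hc⟩ := hnp
    haveI := hN
    have hPC : (P : Subgroup G) ≤ Subgroup.centralizer ({t} : Set G) := fun a ha =>
      Subgroup.mem_centralizer_singleton_iff.2 (comm_of_exp_two hexp a ha t ht)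
    have hS : Nat.card (S : Subgroup (Subgroup.centralizer ({t} : Set G))) = 4 := by
      rw [S.card_eq_multiplicity, ← (P.subtype hPC).card_eq_multiplicity, ← hP]
      exact Nat.card_congr (Subgroup.subgroupOfEquivOfLe hPC).toEquiv
    have hKN : K = N := eq_complement hKc hKreg hc
    rw [hKN, hc.symm.index_eq_card, hS]
  have hint : ∀ χ : IrrCharacter G, ∃ z : ℤ, (χ : G → ℂ) t = z := fun χ =>
    char_involution_int (irr_isCharacter χ.2) (by rw [← ht2, pow_orderOf_eq_one])
  choose z hz using hint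
  have h1y : ¬ 2 ∣ orderOf (1 : Subgroup.centralizer ({t} : Set G)) := by simp
  have hsum : ∑ χ : IrrCharacter G with χ ∈ B, z χ ^ 2 = 4 := by
    have h := horth 1 1 h1y h1y
    simp only [OneMemClass.coe_one, mul_one, hz, hKi] at h
    simp only [map_intCast, ← Int.cast_mul, ← Int.cast_sum, ← pow_two] at h
    exact_mod_cast h
  have hne : ∀ χ : IrrCharacter G, χ ∈ B → z χ ≠ 0 := by
    intro χ hχ hzero
    have hval : ∀ y : Subgroup.centralizer ({t} : Set G), ¬ 2 ∣ orderOf y →
        (χ : G → ℂ) (t * (y : G)) = 0 := by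
      intro y hy
      have e0 : ∑ ψ : IrrCharacter G with ψ ∈ B,
          conj ((ψ : G → ℂ) (t * (y : G)) - (ψ : G → ℂ) t) *
            ((ψ : G → ℂ) (t * (y : G)) - (ψ : G → ℂ) t) = 0 := by
        have a := horth y y hy hy
        have b := horth y 1 hy h1y
        have c := horth 1 y h1y hy
        have d := horth 1 1 h1y h1y
        simp only [OneMemClass.coe_one, mul_one] at b c d
        simp only [map_sub, sub_mul, mul_sub, Finset.sum_sub_distrib, a, b, c, d, sub_self]
      have e1 : ∑ ψ : IrrCharacter G with ψ ∈ B,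
          Complex.normSq ((ψ : G → ℂ) (t * (y : G)) - (ψ : G → ℂ) t) = 0 := by
        simp only [← Complex.normSq_eq_conj_mul_self, ← Complex.ofReal_sum] at e0
        exact_mod_cast e0
      have e2 := (Finset.sum_eq_zero_iff_of_nonneg fun ψ _ => Complex.normSq_nonneg _).1 e1 χ
        (Finset.mem_filter.2 ⟨Finset.mem_univ _, hχ⟩)
      rw [Complex.normSq_eq_zero, sub_eq_zero] at e2
      rw [e2, hz, hzero, Int.cast_zero]
    have hvan : ∀ x ∈ (P : Subgroup G), x ≠ 1 → (χ : G → ℂ) x = 0 := by
      intro x hx hx1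
      have hx2 : orderOf x = 2 := orderOf_eq_prime
        (by have := congrArg Subtype.val (hexp ⟨x, hx⟩); rw [← pow_two] at this; simpa using this) hx1
      obtain ⟨g, hg⟩ := isConj_iff.1 (hone x t hx2 ht2)
      rw [← isClassFunction_character (irr_isCharacter χ.2) x g, hg]
      simpa using hval 1 h1y
    haveI : Fintype (P : Subgroup G) := Fintype.ofFinite _
    obtain ⟨n, hn⟩ := classInner_natCast (isCharacter_comp (P : Subgroup G).subtype (irr_isCharacter χ.2))
      (isCharacter_one (G := (P : Subgroup G)))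
    have hdeg : deg (χ : G → ℂ) = 4 * n := by
      have e : classInner ((χ : G → ℂ) ∘ (P : Subgroup G).subtype) (fun _ => 1) = (χ : G → ℂ) 1 / 4 := by
        simp only [classInner, Function.comp_apply, Subgroup.coe_subtype, map_one, mul_one]
        rw [Finset.sum_eq_single (1 : (P : Subgroup G))
          (fun x _ hx => hvan x x.2 fun h => hx (Subtype.ext h)) (fun h => absurd (Finset.mem_univ _) h)]
        rw [show Nat.card (P : Subgroup G) = 4 from hP]
        simp [div_eq_inv_mul]
      rw [e, char_one_eq_deg (irr_isCharacter χ.2), div_eq_iff (by norm_num : (4 : ℂ) ≠ 0)] at hn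
      rw [mul_comm]
      exact_mod_cast hn
    have hfull : dexp 2 (χ : G → ℂ) = (Nat.card G).factorization 2 := by
      refine le_antisymm (dexp_le χ.2) ?_
      have h4 : (Nat.card G).factorization 2 = 2 := by
        have := P.card_eq_multiplicity
        rw [show Nat.card (P : Subgroup G) = 4 from hP] at this
        exact Nat.pow_right_injective le_rfl (this.symm.trans (by norm_num))
      rw [h4]
      refine (Nat.Prime.pow_dvd_iff_le_factorization Nat.prime_two (deg_pos χ.2).ne').1 ?_
      exact ⟨n, by rw [hdeg]; norm_num⟩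
    have hsing := (singleton_iff_dexp hM χ).2 hfull
    rw [← block_eq_blockOf hPr hB hχ] at hsing
    rw [hsing] at h11
    have e : (χ : G → ℂ) = fun _ => 1 := by rw [← Set.mem_singleton_iff.1 h11]
    have := hz χ
    rw [e, hzero] at this
    simp at this
  have hk : Nat.card B = 4 ∧ ∀ χ ∈ B, z χ ^ 2 = 1 := by
    have hall : ∀ χ ∈ ((Finset.univ : Finset (IrrCharacter G)).filter (· ∈ B)), z χ ^ 2 = 1 := by
      intro χ hχ
      have hχB := (Finset.mem_filter.1 hχ).2
      by_contra h
      have h4 : 4 ≤ z χ ^ 2 := by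
        have h1 := hne χ hχB
        have h2 : z χ ≤ -2 ∨ 2 ≤ z χ := by
          by_contra h'
          push Not at h'
          have : z χ = 1 ∨ z χ = -1 := by omega
          rcases this with e | e <;> simp [e] at h
        rcases h2 with h2 | h2 <;> nlinarith
      have hz1 : z ⟨fun _ => 1, isIrrCharacter_one⟩ = 1 := by
        have := hz ⟨fun _ => 1, isIrrCharacter_one⟩
        have h' : ((1 : ℤ) : ℂ) = (z ⟨fun _ => 1, isIrrCharacter_one⟩ : ℂ) := by
          rw [Int.cast_one]; exact this
        exact (Int.cast_injective h').symm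
      have hne' : χ ≠ ⟨fun _ => 1, isIrrCharacter_one⟩ := fun e => by
        rw [e, hz1] at h4; norm_num at h4
      have := Finset.sum_le_sum_of_subset_of_nonneg (f := fun ψ => z ψ ^ 2)
        (show ({χ, ⟨fun _ => 1, isIrrCharacter_one⟩} : Finset (IrrCharacter G)) ⊆ Finset.univ.filter (· ∈ B) from
          Finset.insert_subset hχ (Finset.singleton_subset_iff.2 (Finset.mem_filter.2 ⟨Finset.mem_univ _, h11⟩)))
        (fun _ _ _ => sq_nonneg _)
      rw [Finset.sum_pair hne', hz1, hsum] at this
      omega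
    refine ⟨?_, fun χ hχ => hall χ (Finset.mem_filter.2 ⟨Finset.mem_univ _, hχ⟩)⟩
    rw [Finset.sum_congr rfl hall, Finset.sum_const, nsmul_eq_mul, mul_one] at hsum
    rw [Nat.card_eq_fintype_card, Fintype.card_subtype]
    exact_mod_cast hsum
  exact ⟨z, hk.1, hz, hk.2⟩

theorem card_eq_four_of_four (hM : IsPModular 2 M) (P : Sylow 2 G) (hP : Nat.card P = 4)
    (hexp : ∀ x : P, x * x = 1) (hone : ∀ s t : G, orderOf s = 2 → orderOf t = 2 → IsConj s t) :
    blockRank 2 (principalBlock M G) = 3 := by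
  classical
  haveI : Fact (Nat.Prime 2) := ⟨Nat.prime_two⟩
  have hPr := pmod_prime hM
  obtain ⟨t, ht, ht1⟩ : ∃ t ∈ (P : Subgroup G), t ≠ 1 := by
    by_contra hcon
    push Not at hcon
    have : (P : Subgroup G) = ⊥ := (Subgroup.eq_bot_iff_forall _).2 hcon
    rw [this, Subgroup.card_bot] at hP
    omega
  have hinv : ∀ z : G, (∃ k : ℕ, orderOf z = 2 ^ k) → z ^ 2 = 1 := by
    intro z hz
    obtain ⟨k, hk⟩ := hz
    obtain ⟨Q, hQ⟩ := (IsPGroup.of_card (n := k) (by rw [Nat.card_zpowers, hk]) :
      IsPGroup 2 (Subgroup.zpowers z)).exists_le_sylow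
    obtain ⟨g, hg⟩ := MulAction.exists_smul_eq G Q P
    have hm : g * z * g⁻¹ ∈ (P : Subgroup G) := by
      rw [← hg]
      exact ⟨z, hQ (Subgroup.mem_zpowers z), rfl⟩
    have := congrArg Subtype.val (hexp ⟨_, hm⟩)
    rw [← pow_two] at this
    simp only [SubmonoidClass.mk_pow, OneMemClass.coe_one, conj_pow] at this
    simpa using this
  have ht2 : orderOf t = 2 := orderOf_eq_prime
    (by have := congrArg Subtype.val (hexp ⟨t, ht⟩); rw [← pow_two] at this; simpa using this) ht1
  have htp : ∃ k : ℕ, orderOf t = 2 ^ k := ⟨1, by rw [ht2, pow_one]⟩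
  haveI : Fintype (Subgroup.centralizer ({t} : Set G)) := Fintype.ofFinite _
  have hnp := hnpc_centralizer_of_four P hP hexp ht ht1
  obtain ⟨K, hKn, hKc, hKreg⟩ := hnpc_iff_regular.1 hnp
  set B := principalBlock M G with hBdef
  have hB : IsPBlock M B := isPBlock_principalBlock M
  obtain ⟨-, hk, -⟩ := four_signs hM P hP hexp hone ht ht1
  -- count by sections
  have hcnt := card_eq_sum_blockRank hM hB ({1, t} : Finset G)
    (fun x hx => by
      rcases Finset.mem_insert.1 hx with rfl | hx
      · exact ⟨0, by simp⟩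
      · rw [Finset.mem_singleton.1 hx]; exact htp)
    (fun g hg => by
      by_cases hg1 : g = 1
      · subst hg1
        refine ⟨1, ⟨Finset.mem_insert_self _ _, IsConj.refl _⟩, fun x hx => ?_⟩
        exact isConj_one_right.1 hx.2
      · have hg2 : orderOf g = 2 := orderOf_eq_prime (hinv g hg) hg1
        refine ⟨t, ⟨by simp, hone g t hg2 ht2⟩, fun x hx => ?_⟩
        rcases Finset.mem_insert.1 hx.1 with rfl | h
        · exact absurd (isConj_one_right.1 hx.2.symm) hg1
        · exact Finset.mem_singleton.1 h)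
  have hx : ∀ x : G, (∃ k : ℕ, orderOf x = 2 ^ k) →
      (∑ᶠ b ∈ {b : Set (IrrCharacter ↥(Subgroup.centralizer ({x} : Set G))) |
        IsInducedBlock M (Subgroup.centralizer ({x} : Set G)) b B}, blockRank 2 b) =
      blockRank 2 (principalBlock M (Subgroup.centralizer ({x} : Set G))) := by
    intro x hxp
    haveI : Fintype (Subgroup.centralizer ({x} : Set G)) := Fintype.ofFinite _
    have hset : {b : Set (IrrCharacter ↥(Subgroup.centralizer ({x} : Set G))) |
        IsInducedBlock M (Subgroup.centralizer ({x} : Set G)) b B} =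
        {principalBlock M (Subgroup.centralizer ({x} : Set G))} := by
      ext b
      refine ⟨fun h => (third_main hM h).mp rfl, ?_⟩
      rintro rfl
      obtain ⟨B', hB'⟩ := exists_induced_centralizer hM hxp
        (isPBlock_principalBlock (G := Subgroup.centralizer ({x} : Set G)) M)
      show IsInducedBlock M _ _ B
      rw [hBdef, ← (third_main hM hB').mpr rfl]
      exact hB'
    rw [hset, finsum_mem_singleton]
  rw [hk, Finset.sum_pair (Ne.symm ht1), hx 1 ⟨0, by simp⟩, hx t htp,
    (blockRank_principal_eq_one_iff hM).2 hnp] at hcnt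
  have e1 : Subgroup.centralizer ({(1 : G)} : Set G) = ⊤ := by
    ext g
    simp [Subgroup.mem_centralizer_singleton_iff]
  haveI : Fintype (Subgroup.centralizer ({(1 : G)} : Set G)) := Fintype.ofFinite _
  rw [blockRank_principal_congr hM ((MulEquiv.subgroupCongr e1).trans Subgroup.topEquiv)] at hcnt
  rw [hBdef]
  omega

end Cfsg.Agent.Char
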