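import Cfsg.Agent.Lib.Char.Central

/-!
# Cyclotomic fields inside ℂ, rationality, averages of roots of unity
-/

set_option autoImplicit false

namespace Cfsg.Agent.Char

open Cfsg Module IntermediateField Polynomial
open scoped ComplexConjugate

/-- The field generated by the `n`-th roots of unity inside `ℂ`. -/
noncomputable def cyc (n : ℕ) : IntermediateField ℚ ℂ :=
  IntermediateField.adjoin ℚ {μ : ℂ | μ ^ n = 1}

theorem mem_cyc {n : ℕ} {μ : ℂ} (h : μ ^ n = 1) : μ ∈ cyc n :=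
  IntermediateField.subset_adjoin ℚ _ h

theorem cyc_splits {n : ℕ} (hn : n ≠ 0) :
    ∀ s ∈ {μ : ℂ | μ ^ n = 1}, IsIntegral ℚ s ∧
      ((minpoly ℚ s).map (algebraMap ℚ ℂ)).Splits :=
  fun _ hs => ⟨(root_of_unity_isIntegral hn hs).tower_top, IsAlgClosed.splits _⟩

theorem isIntegral_of_mem_cyc {n : ℕ} (hn : n ≠ 0) {z : ℂ} (hz : z ∈ cyc n) : IsIntegral ℚ z := by
  have : Algebra.IsAlgebraic ℚ (cyc n) :=
    IntermediateField.isAlgebraic_adjoin (K := ℚ) fun s hs => (cyc_splits hn s hs).1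
  have h : IsAlgebraic ℚ (⟨z, hz⟩ : cyc n) := Algebra.IsAlgebraic.isAlgebraic _
  rw [isAlgebraic_iff_isIntegral] at h
  exact h.map (cyc n).val

theorem exists_embedding_apply {n : ℕ} (hn : n ≠ 0) {z w : ℂ} (hz : z ∈ cyc n)
    (hw : aeval w (minpoly ℚ z) = 0) : ∃ φ : cyc n →ₐ[ℚ] ℂ, φ ⟨z, hz⟩ = w :=
  IntermediateField.exists_algHom_adjoin_of_splits_of_aeval (cyc_splits hn) hz hw

theorem exists_power_of_embedding {n : ℕ} (hn : n ≠ 0) (φ : cyc n →ₐ[ℚ] ℂ) :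
    ∃ k : ℕ, k.Coprime n ∧ ∀ (μ : ℂ) (h : μ ^ n = 1), φ ⟨μ, mem_cyc h⟩ = μ ^ k := by
  have : NeZero n := ⟨hn⟩
  have hζ := Complex.isPrimitiveRoot_exp n hn
  set ζ : ℂ := Complex.exp (2 * Real.pi * Complex.I / n)
  have hz : ζ ^ n = 1 := hζ.pow_eq_one
  have hz' : IsPrimitiveRoot (⟨ζ, mem_cyc hz⟩ : cyc n) n :=
    IsPrimitiveRoot.of_map_of_injective (f := (cyc n).val) hζ (cyc n).val.injective
  have hφ : IsPrimitiveRoot (φ ⟨ζ, mem_cyc hz⟩) n := hz'.map_of_injective φ.injective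
  obtain ⟨k, -, hk⟩ := hζ.eq_pow_of_pow_eq_one hφ.pow_eq_one
  refine ⟨k, (hζ.pow_iff_coprime (Nat.pos_of_ne_zero hn) k).mp (hk ▸ hφ), fun μ hμ => ?_⟩
  obtain ⟨i, -, rfl⟩ := hζ.eq_pow_of_pow_eq_one hμ
  have : (⟨ζ ^ i, mem_cyc hμ⟩ : cyc n) = (⟨ζ, mem_cyc hz⟩ : cyc n) ^ i := rfl
  rw [this, map_pow, ← hk, ← pow_mul, ← pow_mul, mul_comm]

theorem exists_embedding_of_power {n k : ℕ} (hn : n ≠ 0) (hk : k.Coprime n) :
    ∃ φ : cyc n →ₐ[ℚ] ℂ, ∀ (μ : ℂ) (h : μ ^ n = 1), φ ⟨μ, mem_cyc h⟩ = μ ^ k := by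
  have : NeZero n := ⟨hn⟩
  have hζ := Complex.isPrimitiveRoot_exp n hn
  set ζ : ℂ := Complex.exp (2 * Real.pi * Complex.I / n)
  have hz : ζ ^ n = 1 := hζ.pow_eq_one
  have hζk : IsPrimitiveRoot (ζ ^ k) n := (hζ.pow_iff_coprime (Nat.pos_of_ne_zero hn) k).mpr hk
  have hy : aeval (ζ ^ k) (minpoly ℚ ζ) = 0 := by
    rw [← cyclotomic_eq_minpoly_rat hζ (Nat.pos_of_ne_zero hn),
      cyclotomic_eq_minpoly_rat hζk (Nat.pos_of_ne_zero hn)]
    exact minpoly.aeval _ _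
  obtain ⟨φ, hφ⟩ := exists_embedding_apply hn (mem_cyc hz) hy
  refine ⟨φ, fun μ hμ => ?_⟩
  obtain ⟨i, -, rfl⟩ := hζ.eq_pow_of_pow_eq_one hμ
  have : (⟨ζ ^ i, mem_cyc hμ⟩ : cyc n) = (⟨ζ, mem_cyc hz⟩ : cyc n) ^ i := rfl
  rw [this, map_pow, hφ, ← pow_mul, ← pow_mul, mul_comm]

theorem exists_rat_of_fixed {n : ℕ} (hn : n ≠ 0) {z : ℂ} (hz : z ∈ cyc n)
    (h : ∀ φ : cyc n →ₐ[ℚ] ℂ, φ ⟨z, hz⟩ = z) : ∃ q : ℚ, z = q := by
  classical
  have hzi := isIntegral_of_mem_cyc hn hz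
  have hroots : ∀ w ∈ ((minpoly ℚ z).map (algebraMap ℚ ℂ)).roots, w = z := fun w hw => by
    rw [Polynomial.mem_roots', Polynomial.IsRoot, Polynomial.eval_map, ← Polynomial.aeval_def] at hw
    obtain ⟨φ, hφ⟩ := exists_embedding_apply hn hz hw.2
    rw [← hφ, h φ]
  have hnd : ((minpoly ℚ z).map (algebraMap ℚ ℂ)).roots.Nodup :=
    Polynomial.nodup_roots ((minpoly.irreducible hzi).separable.map)
  have hle : ((minpoly ℚ z).map (algebraMap ℚ ℂ)).roots.card ≤ 1 := by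
    rw [← Multiset.toFinset_card_of_nodup hnd]
    exact Finset.card_le_one.mpr fun a ha b hb =>
      (hroots a (Multiset.mem_toFinset.mp ha)).trans (hroots b (Multiset.mem_toFinset.mp hb)).symm
  rw [(IsAlgClosed.splits _).natDegree_eq_card_roots.symm, natDegree_map] at hle
  have h1 : (minpoly ℚ z).natDegree = 1 := le_antisymm hle (minpoly.natDegree_pos hzi)
  obtain ⟨q, hq⟩ := minpoly.natDegree_eq_one_iff.mp h1
  exact ⟨q, by rw [← hq]; simp⟩

/-- An algebraic integer which is an average of roots of unity is zero or has norm one. -/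
theorem eigen_avg_zero_or_full {ι : Type*} [Fintype ι] (ν : ι → ℂ) (N : ℕ) (hN : N ≠ 0)
    (hν : ∀ i, ν i ^ N = 1) (hI : IsIntegral ℤ ((∑ i, ν i) / (Fintype.card ι : ℂ))) :
    ∑ i, ν i = 0 ∨ ‖∑ i, ν i‖ = (Fintype.card ι : ℝ) := by
  classical
  rcases Nat.eq_zero_or_pos (Fintype.card ι) with h0 | hpos
  · have := Fintype.card_eq_zero_iff.mp h0
    left
    simp
  set d : ℝ := (Fintype.card ι : ℝ) with hd
  have hd0 : (0 : ℝ) < d := by positivity
  set a : ℂ := (∑ i, ν i) / (Fintype.card ι : ℂ) with ha_def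
  have hne : ((Fintype.card ι : ℂ)) ≠ 0 := Nat.cast_ne_zero.mpr hpos.ne'
  have ha : a ∈ cyc N :=
    div_mem (sum_mem fun i _ => mem_cyc (hν i)) (IntermediateField.natCast_mem _ _)
  have hzi : IsIntegral ℚ a := hI.tower_top
  have hle : ∀ w ∈ ((minpoly ℚ a).map (algebraMap ℚ ℂ)).roots, ‖w‖ ≤ 1 := fun w hw => by
    rw [Polynomial.mem_roots', Polynomial.IsRoot, Polynomial.eval_map, ← Polynomial.aeval_def] at hw
    obtain ⟨φ, hφ⟩ := exists_embedding_apply hN ha hw.2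
    obtain ⟨k, -, hk⟩ := exists_power_of_embedding hN φ
    have e : (⟨a, ha⟩ : cyc N) =
        (∑ i, (⟨ν i, mem_cyc (hν i)⟩ : cyc N)) / (Fintype.card ι : cyc N) := by
      ext
      simp [ha_def]
    rw [← hφ, e, map_div₀, map_sum, map_natCast]
    simp only [fun i => hk (ν i) (hν i), norm_div, Complex.norm_natCast]
    rw [div_le_one (by positivity)]
    refine (norm_sum_le _ _).trans ?_
    simp [root_of_unity_norm hN (hν _)]
  have hnorm : ‖a‖ ≤ 1 := hle a (by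
    rw [Polynomial.mem_roots', Polynomial.IsRoot, Polynomial.eval_map, ← Polynomial.aeval_def]
    exact ⟨(Polynomial.map_ne_zero_iff (algebraMap ℚ ℂ).injective).mpr (minpoly.ne_zero hzi),
      minpoly.aeval _ _⟩)
  rcases hnorm.lt_or_eq with hlt | heq
  · left
    have hP : ((minpoly ℚ a).map (algebraMap ℚ ℂ)).coeff 0 =
        (-1) ^ ((minpoly ℚ a).map (algebraMap ℚ ℂ)).natDegree *
          ((minpoly ℚ a).map (algebraMap ℚ ℂ)).roots.prod :=
      (IsAlgClosed.splits _).coeff_zero_eq_prod_roots_of_monic ((minpoly.monic hzi).map _)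
    have hamem : a ∈ ((minpoly ℚ a).map (algebraMap ℚ ℂ)).roots := by
      rw [Polynomial.mem_roots', Polynomial.IsRoot, Polynomial.eval_map, ← Polynomial.aeval_def]
      exact ⟨(Polynomial.map_ne_zero_iff (algebraMap ℚ ℂ).injective).mpr (minpoly.ne_zero hzi),
        minpoly.aeval _ _⟩
    obtain ⟨t, ht⟩ := Multiset.exists_cons_of_mem hamem
    have ht1 : ∀ s : Multiset ℂ, (∀ w ∈ s, ‖w‖ ≤ 1) → ‖s.prod‖ ≤ 1 := by
      intro s
      induction s using Multiset.induction_on with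
      | empty => simp
      | cons x s ih =>
        intro hs
        rw [Multiset.prod_cons, norm_mul]
        exact mul_le_one₀ (hs x (Multiset.mem_cons_self _ _)) (norm_nonneg _)
          (ih fun w hw => hs w (Multiset.mem_cons_of_mem hw))
    have hlt' : ‖((minpoly ℚ a).map (algebraMap ℚ ℂ)).coeff 0‖ < 1 := by
      rw [hP, norm_mul, norm_pow, norm_neg, norm_one, one_pow, one_mul, ht, Multiset.prod_cons,
        norm_mul]
      refine lt_of_le_of_lt ?_ hlt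
      exact mul_le_of_le_one_right (norm_nonneg _)
        (ht1 t fun w hw => hle w (ht ▸ Multiset.mem_cons_of_mem hw))
    have hz : minpoly ℚ a = (minpoly ℤ a).map (algebraMap ℤ ℚ) :=
      minpoly.isIntegrallyClosed_eq_field_fractions' ℚ hI
    have h0 : (minpoly ℚ a).coeff 0 = 0 := by
      rw [hz, Polynomial.coeff_map] at hlt' ⊢
      simp only [Polynomial.coeff_map, eq_intCast, map_intCast, Complex.norm_intCast] at hlt' ⊢
      have : |(minpoly ℤ a).coeff 0| < 1 := by exact_mod_cast hlt'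
      rw [Int.abs_lt_one_iff] at this
      rw [this, Int.cast_zero]
    have hz0 := minpoly.coeff_zero_eq_zero hzi
    rw [h0] at hz0
    have : a = 0 := hz0.mp rfl
    exact (div_eq_zero_iff.mp this).resolve_right hne
  · right
    rw [ha_def, norm_div, Complex.norm_natCast, div_eq_one_iff_eq hd0.ne'] at heq
    exact heq

section Char

universe u

variable {G : Type u} [Group G] [Finite G]

theorem char_galois {χ : G → ℂ} (h : IsCharacter G χ) (g : G) :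
    ∃ hm : χ g ∈ cyc (Nat.card G), ∀ (φ : cyc (Nat.card G) →ₐ[ℚ] ℂ) (k : ℕ),
      (∀ (μ : ℂ) (hμ : μ ^ Nat.card G = 1), φ ⟨μ, mem_cyc hμ⟩ = μ ^ k) →
        φ ⟨χ g, hm⟩ = χ (g ^ k) := by
  obtain ⟨n, ρ, rfl⟩ := h
  obtain ⟨μ, hμ, htr, -⟩ := exists_eigenvalues ρ g
  have hμn : ∀ i, μ i ^ Nat.card G = 1 := fun i => by
    obtain ⟨c, hc⟩ := orderOf_dvd_natCard g
    rw [hc, pow_mul, hμ i, one_pow]
  have h1 := htr 1
  simp only [pow_one] at h1
  refine ⟨h1 ▸ sum_mem fun i _ => mem_cyc (hμn i), fun φ k hk => ?_⟩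
  have e : (⟨ρ.character g, h1 ▸ sum_mem fun i _ => mem_cyc (hμn i)⟩ : cyc (Nat.card G)) =
      ∑ i, (⟨μ i, mem_cyc (hμn i)⟩ : cyc (Nat.card G)) := by
    ext
    simp [h1]
  rw [e, map_sum, htr k]
  exact Finset.sum_congr rfl fun i _ => hk _ (hμn i)

omit [Finite G] in
theorem powCoprime_bijective {k : ℕ} (hk : k.Coprime (Nat.card G)) :
    Function.Bijective (fun g : G => g ^ k) :=
  (powCoprime (Nat.Coprime.symm hk)).bijective

end Char

end Cfsg.Agent.Char
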