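import Cfsg.Prelude.Def_Blocks
import Cfsg.Agent.Lib.Char.Galois

/-!
# The local ring of algebraic integers at a maximal ideal, inside ℂ
-/

set_option autoImplicit false

namespace Cfsg.Agent.Char

open Cfsg

variable {M : Ideal AlgInt}

theorem algInt_isIntegral (a : AlgInt) : IsIntegral ℤ (a : ℂ) := a.2

theorem coe_ne_zero_of_not_mem {b : AlgInt} (hb : b ∉ M) : (b : ℂ) ≠ 0 := by
  intro h
  exact hb ((Subtype.ext h : b = 0) ▸ M.zero_mem)

theorem memLocalRing_of_isIntegral (hM : M ≠ ⊤) {z : ℂ} (h : IsIntegral ℤ z) :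
    MemLocalRing M z :=
  ⟨⟨z, h⟩, 1, fun h1 => hM ((Ideal.eq_top_iff_one M).mpr h1), by simp⟩

section Prime

variable (hM : M.IsPrime)
include hM

theorem memLR_intCast (k : ℤ) : MemLocalRing M (k : ℂ) :=
  memLocalRing_of_isIntegral hM.ne_top (isIntegral_algebraMap (R := ℤ) (A := ℂ) (x := k))

theorem memLR_natCast (k : ℕ) : MemLocalRing M (k : ℂ) := by
  simpa using memLR_intCast hM (k : ℤ)

theorem memLR_one : MemLocalRing M 1 := by simpa using memLR_natCast hM 1

theorem memLR_zero : MemLocalRing M 0 := by simpa using memLR_natCast hM 0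

theorem memLR_add {x y : ℂ} (hx : MemLocalRing M x) (hy : MemLocalRing M y) :
    MemLocalRing M (x + y) := by
  obtain ⟨a, b, hb, rfl⟩ := hx
  obtain ⟨c, d, hd, rfl⟩ := hy
  refine ⟨a * d + b * c, b * d, fun h => (hM.mem_or_mem h).elim hb hd, ?_⟩
  push_cast
  rw [div_add_div _ _ (coe_ne_zero_of_not_mem hb) (coe_ne_zero_of_not_mem hd)]

theorem memLR_mul {x y : ℂ} (hx : MemLocalRing M x) (hy : MemLocalRing M y) :
    MemLocalRing M (x * y) := by
  obtain ⟨a, b, hb, rfl⟩ := hx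
  obtain ⟨c, d, hd, rfl⟩ := hy
  refine ⟨a * c, b * d, fun h => (hM.mem_or_mem h).elim hb hd, ?_⟩
  push_cast
  rw [div_mul_div_comm]

theorem memLR_neg {x : ℂ} (hx : MemLocalRing M x) : MemLocalRing M (-x) := by
  simpa using memLR_mul hM (memLR_intCast hM (-1)) hx

/-- The local ring at `M` as a subring of `ℂ`. -/
def locRing : Subring ℂ where
  carrier := {z | MemLocalRing M z}
  mul_mem' := memLR_mul hM
  one_mem' := memLR_one hM
  add_mem' := memLR_add hM
  zero_mem' := memLR_zero hM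
  neg_mem' := memLR_neg hM

theorem memLR_sub {x y : ℂ} (hx : MemLocalRing M x) (hy : MemLocalRing M y) :
    MemLocalRing M (x - y) :=
  (locRing hM).sub_mem hx hy

theorem memLR_pow {x : ℂ} (hx : MemLocalRing M x) (n : ℕ) : MemLocalRing M (x ^ n) :=
  (locRing hM).pow_mem hx n

theorem memLR_sum {ι : Type*} (s : Finset ι) (f : ι → ℂ) (h : ∀ i ∈ s, MemLocalRing M (f i)) :
    MemLocalRing M (∑ i ∈ s, f i) :=
  (locRing hM).sum_mem h

theorem memLR_prod {ι : Type*} (s : Finset ι) (f : ι → ℂ) (h : ∀ i ∈ s, MemLocalRing M (f i)) :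
    MemLocalRing M (∏ i ∈ s, f i) :=
  (locRing hM).prod_mem h

omit hM in
theorem memLI_memLR {x : ℂ} (hx : MemLocalIdeal M x) : MemLocalRing M x :=
  let ⟨a, b, _, hb, h⟩ := hx; ⟨a, b, hb, h⟩

theorem memLI_coe_iff (a : AlgInt) : MemLocalIdeal M (a : ℂ) ↔ a ∈ M := by
  constructor
  · rintro ⟨c, d, hc, hd, h⟩
    rw [div_eq_iff (coe_ne_zero_of_not_mem hd)] at h
    have : c = a * d := Subtype.ext (by rw [h]; rfl)
    exact (hM.mem_or_mem (this ▸ hc)).resolve_right hd
  · exact fun ha => ⟨a, 1, ha, fun h1 => hM.ne_top ((Ideal.eq_top_iff_one M).mpr h1), by simp⟩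

theorem memLI_zero : MemLocalIdeal M 0 := by
  simpa using (memLI_coe_iff hM 0).mpr M.zero_mem

theorem memLI_one_iff : ¬ MemLocalIdeal M 1 := by
  intro h
  have := (memLI_coe_iff hM 1).mp (by simpa using h)
  exact hM.ne_top ((Ideal.eq_top_iff_one M).mpr this)

theorem memLI_add {x y : ℂ} (hx : MemLocalIdeal M x) (hy : MemLocalIdeal M y) :
    MemLocalIdeal M (x + y) := by
  obtain ⟨a, b, ha, hb, rfl⟩ := hx
  obtain ⟨c, d, hc, hd, rfl⟩ := hy
  refine ⟨a * d + b * c, b * d, M.add_mem (M.mul_mem_right _ ha) (M.mul_mem_left _ hc),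
    fun h => (hM.mem_or_mem h).elim hb hd, ?_⟩
  push_cast
  rw [div_add_div _ _ (coe_ne_zero_of_not_mem hb) (coe_ne_zero_of_not_mem hd)]

theorem memLI_mul_right {x y : ℂ} (hx : MemLocalIdeal M x) (hy : MemLocalRing M y) :
    MemLocalIdeal M (x * y) := by
  obtain ⟨a, b, ha, hb, rfl⟩ := hx
  obtain ⟨c, d, hd, rfl⟩ := hy
  refine ⟨a * c, b * d, M.mul_mem_right _ ha, fun h => (hM.mem_or_mem h).elim hb hd, ?_⟩
  push_cast
  rw [div_mul_div_comm]

theorem memLI_mul_left {x y : ℂ} (hx : MemLocalRing M x) (hy : MemLocalIdeal M y) :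
    MemLocalIdeal M (x * y) :=
  mul_comm y x ▸ memLI_mul_right hM hy hx

theorem memLI_neg {x : ℂ} (hx : MemLocalIdeal M x) : MemLocalIdeal M (-x) := by
  simpa using memLI_mul_left hM (memLR_intCast hM (-1)) hx

theorem memLI_sub {x y : ℂ} (hx : MemLocalIdeal M x) (hy : MemLocalIdeal M y) :
    MemLocalIdeal M (x - y) := by
  simpa [sub_eq_add_neg] using memLI_add hM hx (memLI_neg hM hy)

theorem memLI_sum {ι : Type*} (s : Finset ι) (f : ι → ℂ) (h : ∀ i ∈ s, MemLocalIdeal M (f i)) :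
    MemLocalIdeal M (∑ i ∈ s, f i) :=
  Finset.sum_induction _ (MemLocalIdeal M) (fun _ _ => memLI_add hM) (memLI_zero hM) h

theorem memLI_mul_mem {x y : ℂ} (hx : MemLocalRing M x) (hy : MemLocalRing M y)
    (h : MemLocalIdeal M (x * y)) : MemLocalIdeal M x ∨ MemLocalIdeal M y := by
  obtain ⟨a, b, hb, rfl⟩ := hx
  obtain ⟨c, d, hd, rfl⟩ := hy
  obtain ⟨e, f, he, hf, heq⟩ := h
  rw [div_mul_div_comm, div_eq_div_iff (coe_ne_zero_of_not_mem hf)
    (mul_ne_zero (coe_ne_zero_of_not_mem hb) (coe_ne_zero_of_not_mem hd))] at heq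
  have hac : a * c * f ∈ M := by
    have : a * c * f = e * (b * d) := Subtype.ext (by push_cast; rw [heq])
    exact this ▸ M.mul_mem_right _ he
  rcases hM.mem_or_mem ((hM.mem_or_mem hac).resolve_right hf) with ha | hc
  · exact Or.inl ⟨a, b, ha, hb, rfl⟩
  · exact Or.inr ⟨c, d, hc, hd, rfl⟩

theorem memLI_pow_mem {x : ℂ} (hx : MemLocalRing M x) (n : ℕ) (h : MemLocalIdeal M (x ^ n)) :
    MemLocalIdeal M x := by
  induction n with
  | zero => exact absurd (by simpa using h) (memLI_one_iff hM)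
  | succ n ih =>
    rw [pow_succ] at h
    exact (memLI_mul_mem hM (memLR_pow hM hx n) hx h).elim ih id

theorem memLI_congr_mul {a b c d : ℂ} (ha : MemLocalRing M a) (hd : MemLocalRing M d)
    (h1 : MemLocalIdeal M (a - b)) (h2 : MemLocalIdeal M (c - d)) :
    MemLocalIdeal M (a * c - b * d) := by
  have : a * c - b * d = a * (c - d) + (a - b) * d := by ring
  rw [this]
  exact memLI_add hM (memLI_mul_left hM ha h2) (memLI_mul_right hM h1 hd)

theorem memLR_inv {x : ℂ} (hx : MemLocalRing M x) (h : ¬ MemLocalIdeal M x) :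
    MemLocalRing M x⁻¹ := by
  obtain ⟨a, b, hb, rfl⟩ := hx
  refine ⟨b, a, fun ha => h ⟨a, b, ha, hb, rfl⟩, ?_⟩
  rw [inv_div]

theorem memLR_unit_mul_not {x y : ℂ} (hx : MemLocalRing M x) (hy : MemLocalRing M y)
    (h1 : ¬ MemLocalIdeal M x) (h2 : ¬ MemLocalIdeal M y) : ¬ MemLocalIdeal M (x * y) :=
  fun h => (memLI_mul_mem hM hx hy h).elim h1 h2

theorem memLI_congr {x y : ℂ} (h : MemLocalIdeal M (x - y)) (hy : MemLocalIdeal M y) :
    MemLocalIdeal M x := by
  simpa using memLI_add hM h hy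

theorem memLI_symm {x y : ℂ} (h : MemLocalIdeal M (x - y)) : MemLocalIdeal M (y - x) := by
  simpa using memLI_neg hM h

theorem memLI_trans {x y z : ℂ} (h : MemLocalIdeal M (x - y)) (h' : MemLocalIdeal M (y - z)) :
    MemLocalIdeal M (x - z) := by
  simpa using memLI_add hM h h'

end Prime

section Modular

variable {p : ℕ} (hM : IsPModular p M)
include hM

theorem pmod_prime : M.IsPrime := hM.2.1.isPrime

theorem memLI_p : MemLocalIdeal M (p : ℂ) := by
  simpa using (memLI_coe_iff (pmod_prime hM) (p : AlgInt)).mpr hM.2.2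

theorem memLI_intCast_iff (k : ℤ) : MemLocalIdeal M (k : ℂ) ↔ (p : ℤ) ∣ k := by
  have hP := pmod_prime hM
  constructor
  · intro h
    by_contra hd
    obtain ⟨u, v, huv⟩ := ((Nat.prime_iff_prime_int.mp hM.1).coprime_iff_not_dvd).mpr hd
    refine memLI_one_iff hP ?_
    have e : (1 : ℂ) = (u : ℂ) * p + (v : ℂ) * k := by exact_mod_cast huv.symm
    rw [e]
    exact memLI_add hP (memLI_mul_left hP (memLR_intCast hP u) (memLI_p hM))
      (memLI_mul_left hP (memLR_intCast hP v) h)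
  · rintro ⟨c, rfl⟩
    push_cast
    exact memLI_mul_right hP (memLI_p hM) (memLR_intCast hP c)

theorem memLI_natCast_iff (k : ℕ) : MemLocalIdeal M (k : ℂ) ↔ p ∣ k := by
  rw [← Int.natCast_dvd_natCast]
  simpa using memLI_intCast_iff hM (k : ℤ)

theorem memLR_inv_natCast {k : ℕ} (hk : ¬ p ∣ k) : MemLocalRing M (k : ℂ)⁻¹ :=
  memLR_inv (pmod_prime hM) (memLR_natCast (pmod_prime hM) k)
    (fun h => hk ((memLI_natCast_iff hM k).mp h))

theorem rat_den_not_dvd {q : ℚ} (h : MemLocalRing M (q : ℂ)) : ¬ p ∣ q.den := by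
  intro hd
  have hP := pmod_prime hM
  have e : (q : ℂ) * (q.den : ℂ) = (q.num : ℂ) := by exact_mod_cast q.mul_den_eq_num
  have : MemLocalIdeal M (q.num : ℂ) := by
    rw [← e]
    exact memLI_mul_left hP h ((memLI_natCast_iff hM _).mpr hd)
  have h1 : p ∣ q.num.natAbs := Int.natCast_dvd.mp ((memLI_intCast_iff hM _).mp this)
  exact hM.1.ne_one (Nat.eq_one_of_dvd_coprimes q.reduced h1 hd)

theorem memLI_isPrimeBot {P : Ideal AlgInt} (hP : P.IsPrime) (hp : (p : AlgInt) ∈ P)
    (hPM : P ≤ M) : P = M := by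
  have hmax : P.IsMaximal := by
    refine Ideal.isMaximal_of_isIntegral_of_isMaximal_comap (R := ℤ) P ?_
    have h1 : Ideal.span {(p : ℤ)} ≤ P.comap (algebraMap ℤ AlgInt) := by
      rw [Ideal.span_le, Set.singleton_subset_iff]
      simpa using hp
    have h2 : (Ideal.span {(p : ℤ)}).IsMaximal :=
      PrincipalIdealRing.isMaximal_of_irreducible (Nat.prime_iff_prime_int.mp hM.1).irreducible
    rw [← h2.eq_of_le (Ideal.comap_ne_top _ hP.ne_top) h1]
    exact h2
  exact hmax.eq_of_le hM.2.1.ne_top hPM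

/-- Some power of an element of the local ideal is divisible by any given power of `p`. -/
theorem memLI_pow_dvd {z : ℂ} (hz : MemLocalIdeal M z) (a : ℕ) :
    ∃ (n : ℕ) (y : ℂ), MemLocalRing M y ∧ z ^ n = (p : ℂ) ^ a * y := by
  have hP := pmod_prime hM
  suffices h1 : ∃ (n : ℕ) (y : ℂ), MemLocalRing M y ∧ z ^ n = (p : ℂ) * y by
    obtain ⟨n, y, hy, e⟩ := h1
    exact ⟨n * a, y ^ a, memLR_pow hP hy a, by rw [pow_mul, e, mul_pow]⟩
  obtain ⟨x, b, hx, hb, rfl⟩ := hz
  let S : Submonoid AlgInt :=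
    { carrier := {s | ∃ c ∉ M, ∃ n : ℕ, s = c * x ^ n}
      mul_mem' := by
        rintro _ _ ⟨c, hc, n, rfl⟩ ⟨d, hd, m, rfl⟩
        exact ⟨c * d, fun h => (hP.mem_or_mem h).elim hc hd, n + m, by ring⟩
      one_mem' := ⟨1, fun h => hP.ne_top ((Ideal.eq_top_iff_one M).mpr h), 0, by simp⟩ }
  by_cases hdis : Disjoint (Ideal.span {(p : AlgInt)} : Set AlgInt) S
  · exfalso
    obtain ⟨P, hPp, hle, hd⟩ := Ideal.exists_le_prime_disjoint _ S hdis
    have hPM : P ≤ M := fun c hc => by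
      by_contra hcM
      exact Set.disjoint_left.mp hd hc ⟨c, hcM, 0, by simp⟩
    have := memLI_isPrimeBot hM hPp (hle (Ideal.mem_span_singleton_self _)) hPM
    exact Set.disjoint_left.mp hd (this ▸ hx : x ∈ P)
      ⟨1, fun h => hP.ne_top ((Ideal.eq_top_iff_one M).mpr h), 1, by simp⟩
  · obtain ⟨s, hs1, c, hc, n, rfl⟩ := Set.not_disjoint_iff.mp hdis
    obtain ⟨r, hr⟩ := Ideal.mem_span_singleton.mp hs1
    refine ⟨n, (r : ℂ) / ((c : ℂ) * (b : ℂ) ^ n), ⟨r, c * b ^ n,
      fun h => (hP.mem_or_mem h).elim hc (fun h' => hb (hP.mem_of_pow_mem n h')),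
      by push_cast; rfl⟩, ?_⟩
    have e : (c : ℂ) * (x : ℂ) ^ n = (p : ℂ) * (r : ℂ) := by
      have := congrArg (fun t : AlgInt => (t : ℂ)) hr
      simpa using this
    have hc0 := coe_ne_zero_of_not_mem hc
    have hb0 := coe_ne_zero_of_not_mem hb
    rw [div_pow]
    field_simp
    linear_combination e

end Modular

theorem exists_pModular {p : ℕ} (hp : p.Prime) : ∃ M : Ideal AlgInt, IsPModular p M := by
  have hne : Ideal.span {(p : AlgInt)} ≠ ⊤ := by
    rw [Ne, Ideal.span_singleton_eq_top]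
    rintro h
    obtain ⟨u, hu⟩ := h.exists_right_inv
    have h1 : ((p : ℚ)⁻¹ : ℂ) = (u : ℂ) := by
      have : (p : ℂ) * (u : ℂ) = 1 := by
        simpa using congrArg (fun t : AlgInt => (t : ℂ)) hu
      push_cast
      exact inv_eq_of_mul_eq_one_right this
    obtain ⟨z, hz⟩ := isIntegral_rat_cast_imp (q := (p : ℚ)⁻¹) (by
      have := h1 ▸ algInt_isIntegral u
      simpa using this)
    have hz' : (z : ℚ) * p = 1 := by rw [hz]; exact inv_mul_cancel₀ (by exact_mod_cast hp.ne_zero)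
    have : (z * p : ℤ) = 1 := by exact_mod_cast hz'
    have h2 : (p : ℤ) * z = 1 := by rw [mul_comm]; exact this
    rcases Int.eq_one_or_neg_one_of_mul_eq_one h2 with h | h
    · exact hp.ne_one (by exact_mod_cast h)
    · omega
  obtain ⟨M, hM, hle⟩ := Ideal.exists_le_maximal _ hne
  exact ⟨M, hp, hM, hle (Ideal.mem_span_singleton_self _)⟩

theorem isIntegral_of_forall_memLR {z : ℂ}
    (h : ∀ M : Ideal AlgInt, M.IsMaximal → MemLocalRing M z) : IsIntegral ℤ z := by
  let D : Ideal AlgInt :=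
    { carrier := {b | IsIntegral ℤ ((b : ℂ) * z)}
      add_mem' := fun {a b} ha hb => by
        show IsIntegral ℤ ((a + b : AlgInt) * z)
        push_cast
        rw [add_mul]
        exact IsIntegral.add ha hb
      zero_mem' := by
        show IsIntegral ℤ ((0 : AlgInt) * z)
        simp [isIntegral_zero]
      smul_mem' := fun c b hb => by
        show IsIntegral ℤ ((c * b : AlgInt) * z)
        push_cast
        rw [mul_assoc]
        exact IsIntegral.mul c.2 hb }
  by_cases hD : D = ⊤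
  · have : IsIntegral ℤ (((1 : AlgInt) : ℂ) * z) := (Ideal.eq_top_iff_one D).mp hD
    simpa using this
  · obtain ⟨M, hM, hle⟩ := Ideal.exists_le_maximal D hD
    obtain ⟨a, b, hb, hab⟩ := h M hM
    refine absurd (hle ?_) hb
    show IsIntegral ℤ ((b : ℂ) * z)
    rw [← hab, mul_div_cancel₀ _ (coe_ne_zero_of_not_mem hb)]
    exact a.2

/-- A rational prime lying in a given maximal ideal. -/
theorem exists_prime_of_maximal {M : Ideal AlgInt} (hM : M.IsMaximal) :
    ∃ p : ℕ, IsPModular p M := by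
  have h := Ideal.isMaximal_comap_of_isIntegral_of_isMaximal (R := ℤ) M
  obtain ⟨g, hg⟩ := (IsPrincipalIdealRing.principal (M.comap (algebraMap ℤ AlgInt))).principal
  have hne : g ≠ 0 := by
    rintro rfl
    rw [show Submodule.span ℤ ({0} : Set ℤ) = ⊥ from Submodule.span_zero_singleton _] at hg
    exact Ideal.bot_lt_of_maximal (M.comap (algebraMap ℤ AlgInt)) Int.not_isField |>.ne' hg
  have hg' : M.comap (algebraMap ℤ AlgInt) = Ideal.span {g} := hg
  have hgp : Prime g := (Ideal.span_singleton_prime hne).mp (hg' ▸ h.isPrime)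
  refine ⟨g.natAbs, Int.prime_iff_natAbs_prime.mp hgp, hM, ?_⟩
  have : (g.natAbs : ℤ) ∈ M.comap (algebraMap ℤ AlgInt) := by
    rw [hg', Ideal.mem_span_singleton]
    exact Int.dvd_natAbs_self
  have h2 := Ideal.mem_comap.mp this
  rw [map_natCast] at h2
  exact h2

end Cfsg.Agent.Char
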