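import Cfsg.Agent.Lib.Char.RealClass
import Cfsg.Agent.Lib.Char.Unique
import Mathlib

/-!
The Frobenius-Schur indicator.
-/

open scoped ComplexConjugate
open Cfsg Module Matrix

set_option autoImplicit false
set_option linter.style.haveILetI false
set_option linter.unusedSectionVars false

namespace Cfsg.Agent.Char

variable {G : Type*} [Group G] [Fintype G]

/-- The Frobenius-Schur indicator. -/
noncomputable def indicator2 (χ : G → ℂ) : ℂ := (Nat.card G : ℂ)⁻¹ * ∑ s : G, χ (s * s)

theorem trace_matrix_end {n : ℕ} (f : Matrix (Fin n) (Fin n) ℂ →ₗ[ℂ] Matrix (Fin n) (Fin n) ℂ) :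
    LinearMap.trace ℂ _ f = ∑ k, ∑ l, f (Matrix.single k l 1) k l := by
  classical
  rw [LinearMap.trace_eq_matrix_trace ℂ (Matrix.stdBasis ℂ (Fin n) (Fin n)), Matrix.trace,
    Fintype.sum_prod_type]
  refine Finset.sum_congr rfl fun k _ => Finset.sum_congr rfl fun l _ => ?_
  rw [Matrix.diag_apply, LinearMap.toMatrix_apply, Matrix.stdBasis_eq_single]
  rfl

variable {n : ℕ} (A : G →* Matrix (Fin n) (Fin n) ℂ)

/-- The action on bilinear forms. -/
noncomputable def formRep : Representation ℂ G (Matrix (Fin n) (Fin n) ℂ) where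
  toFun g :=
    { toFun := fun M => A g * M * (A g)ᵀ
      map_add' := fun M M' => by rw [mul_add, add_mul]
      map_smul' := fun c M => by simp }
  map_one' := by ext M : 1; simp
  map_mul' a b := by
    ext M : 1
    show A (a * b) * M * (A (a * b))ᵀ = A a * (A b * M * (A b)ᵀ) * (A a)ᵀ
    simp [map_mul, Matrix.mul_assoc]

theorem formRep_apply (g : G) (M : Matrix (Fin n) (Fin n) ℂ) : formRep A g M = A g * M * (A g)ᵀ := rfl

theorem formRep_entry (g : G) (k l i j : Fin n) :
    (formRep A g (Matrix.single k l 1)) i j = A g i k * A g j l := by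
  simp [formRep_apply, Matrix.mul_apply, Matrix.single_apply, ite_and]

theorem trace_formRep (g : G) : LinearMap.trace ℂ _ (formRep A g) = (A g).trace * (A g).trace := by
  rw [trace_matrix_end, Matrix.trace, Finset.sum_mul_sum]
  simp [formRep_entry]

theorem trace_swap_formRep (g : G) :
    LinearMap.trace ℂ _ ((Matrix.transposeLinearEquiv (Fin n) (Fin n) ℂ ℂ).toLinearMap ∘ₗ formRep A g) =
      (A (g * g)).trace := by
  rw [trace_matrix_end, Matrix.trace, map_mul]
  refine Finset.sum_congr rfl fun k _ => ?_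
  rw [Matrix.diag_apply, Matrix.mul_apply]
  refine Finset.sum_congr rfl fun l _ => ?_
  show (formRep A g (Matrix.single k l 1)) l k = _
  rw [formRep_entry, mul_comm]

theorem indicator_core {χ : G → ℂ} (hA : ∀ g, (A g).trace = χ g) (hχ : IsIrrCharacter G χ) :
    ((¬ ∀ g, (χ g).im = 0) ∧ indicator2 χ = 0 ∧
      (∀ M : Matrix (Fin n) (Fin n) ℂ, (∀ g, A g * M * (A g)ᵀ = M) → M = 0)) ∨
    ((∀ g, (χ g).im = 0) ∧ ∃ c : ℂ, (c = 1 ∨ c = -1) ∧ indicator2 χ = c ∧
      (∃ M : Matrix (Fin n) (Fin n) ℂ, M ≠ 0 ∧ ∀ g, A g * M * (A g)ᵀ = M) ∧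
      ∀ M : Matrix (Fin n) (Fin n) ℂ, (∀ g, A g * M * (A g)ᵀ = M) → Mᵀ = c • M) := by
  classical
  set π := formRep A with hπ
  have hcard : (Nat.card G : ℂ) ≠ 0 := Nat.cast_ne_zero.2 Nat.card_pos.ne'
  let P : Matrix (Fin n) (Fin n) ℂ →ₗ[ℂ] Matrix (Fin n) (Fin n) ℂ := (Nat.card G : ℂ)⁻¹ • ∑ g, π g
  have hPval : ∀ M, P M = (Nat.card G : ℂ)⁻¹ • ∑ g, π g M := fun M => by simp [P]
  have hproj : LinearMap.IsProj π.invariants P := ⟨fun M h => by
      rw [hPval, map_smul, map_sum]
      congr 1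
      refine Fintype.sum_equiv (Equiv.mulLeft h) _ _ fun g => ?_
      simp [map_mul],
    fun M hM => by
      rw [hPval, Finset.sum_congr rfl (fun g _ => hM g), Finset.sum_const, Finset.card_univ,
        ← Nat.card_eq_fintype_card, ← Nat.cast_smul_eq_nsmul ℂ, smul_smul, inv_mul_cancel₀ hcard, one_smul]⟩
  have htrP : LinearMap.trace ℂ _ P = classInner χ (fun g => conj (χ g)) := by
    simp [P, classInner, hπ, trace_formRep, hA]
  have hinv : ∀ M, M ∈ π.invariants ↔ ∀ g, A g * M * (A g)ᵀ = M := fun M => Iff.rfl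
  let τ := (Matrix.transposeLinearEquiv (Fin n) (Fin n) ℂ ℂ).toLinearMap
  have htrτ : LinearMap.trace ℂ _ (τ ∘ₗ P) = indicator2 χ := by
    rw [show τ ∘ₗ P = (Nat.card G : ℂ)⁻¹ • ∑ g, τ ∘ₗ π g from by ext M : 1; simp [hPval], map_smul, map_sum]
    simp only [τ, hπ, trace_swap_formRep, hA, smul_eq_mul]
    rfl
  have hdim : classInner χ (fun g => conj (χ g)) = (finrank ℂ π.invariants : ℂ) := by
    rw [← htrP, hproj.trace]
  by_cases hreal : ∀ g, (χ g).im = 0
  · refine Or.inr ⟨hreal, ?_⟩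
    have hc : (fun g => conj (χ g)) = χ := funext fun g => Complex.conj_eq_iff_im.2 (hreal g)
    have h1 : finrank ℂ π.invariants = 1 := by
      rw [hc, irr_self hχ] at hdim
      exact_mod_cast hdim.symm
    obtain ⟨⟨M₀, hM₀⟩, hne, hspan⟩ := finrank_eq_one_iff'.1 h1
    have hne' : M₀ ≠ 0 := fun h0 => hne (Subtype.ext h0)
    have htm : M₀ᵀ ∈ π.invariants := (hinv _).2 fun g => by
      have := congrArg Matrix.transpose ((hinv M₀).1 hM₀ g)
      simpa [Matrix.transpose_mul, Matrix.mul_assoc] using this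
    obtain ⟨c, hc'⟩ := hspan ⟨M₀ᵀ, htm⟩
    have hc'' : c • M₀ = M₀ᵀ := congrArg Subtype.val hc'
    have hall : ∀ M : Matrix (Fin n) (Fin n) ℂ, (∀ g, A g * M * (A g)ᵀ = M) → Mᵀ = c • M := fun M hM => by
      obtain ⟨a, ha⟩ := hspan ⟨M, (hinv M).2 hM⟩
      have ha' : a • M₀ = M := congrArg Subtype.val ha
      rw [← ha', Matrix.transpose_smul, ← hc'', smul_comm]
    have hcc : c = 1 ∨ c = -1 := by
      have h2 : (c * c) • M₀ = (1 : ℂ) • M₀ := by
        rw [one_smul, ← smul_smul, hc'', ← Matrix.transpose_smul, hc'', Matrix.transpose_transpose]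
      exact mul_self_eq_one_iff.1 (smul_left_injective ℂ hne' h2)
    refine ⟨c, hcc, ?_, ⟨M₀, hne', (hinv M₀).1 hM₀⟩, hall⟩
    rw [← htrτ, show τ ∘ₗ P = c • P from LinearMap.ext fun M => hall (P M) ((hinv _).1 (hproj.map_mem M)),
      map_smul, htrP, hc, irr_self hχ, smul_eq_mul, mul_one]
  · refine Or.inl ⟨hreal, ?_⟩
    have hne : χ ≠ fun g => conj (χ g) := fun h => hreal fun g => Complex.conj_eq_iff_im.1 (congrFun h g).symm
    have h0 : finrank ℂ π.invariants = 0 := by
      have h1 : classInner χ (fun g => conj (χ g)) = 0 := by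
        have := irr_orth hχ (irrConj (⟨χ, hχ⟩ : IrrCharacter G)).2
        rw [if_neg (by exact hne)] at this
        exact this
      rw [h1] at hdim
      exact_mod_cast hdim.symm
    have hz : ∀ M, M ∈ π.invariants → M = 0 := fun M hM => by
      have := finrank_zero_iff.1 h0
      exact congrArg Subtype.val (Subsingleton.elim (⟨M, hM⟩ : π.invariants) 0)
    refine ⟨?_, fun M hM => hz M ((hinv M).2 hM)⟩
    rw [← htrτ, show P = 0 from LinearMap.ext fun M => hz _ (hproj.map_mem M), LinearMap.comp_zero, map_zero]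

/-- The matrices of a representation on coordinate space. -/
noncomputable def repMat {G : Type*} [Group G] {n : ℕ} (ρ : Representation ℂ G (Fin n → ℂ)) :
    G →* Matrix (Fin n) (Fin n) ℂ where
  toFun g := LinearMap.toMatrix' (ρ g)
  map_one' := by rw [map_one, Module.End.one_eq_id, LinearMap.toMatrix'_id]
  map_mul' a b := by rw [map_mul, Module.End.mul_eq_comp, LinearMap.toMatrix'_comp]

theorem repMat_trace {G : Type*} [Group G] {n : ℕ} (ρ : Representation ℂ G (Fin n → ℂ)) (g : G) :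
    (repMat ρ g).trace = ρ.character g := by
  rw [Representation.character, LinearMap.trace_eq_matrix_trace ℂ (Pi.basisFun ℂ (Fin n)),
    LinearMap.toMatrix_eq_toMatrix']
  rfl

theorem indicator_trichotomy {χ : G → ℂ} (hχ : IsIrrCharacter G χ) :
    (indicator2 χ = 0 ∨ indicator2 χ = 1 ∨ indicator2 χ = -1) ∧
      (indicator2 χ = 0 ↔ ∃ s : G, (χ s).im ≠ 0) := by
  obtain ⟨n, ρ, hρ, rfl⟩ := id hχ
  rcases indicator_core (repMat ρ) (repMat_trace ρ) hχ with ⟨hn, h0, -⟩ | ⟨hr, c, hc, hν, -, -⟩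
  · exact ⟨Or.inl h0, iff_of_true h0 (not_forall.1 hn)⟩
  · refine ⟨?_, iff_of_false ?_ (not_exists.2 fun s hs => hs (hr s))⟩
    · rcases hc with rfl | rfl
      · exact Or.inr (Or.inl hν)
      · exact Or.inr (Or.inr hν)
    · rw [hν]
      rcases hc with rfl | rfl <;> norm_num

theorem indicator_odd_deg {χ : G → ℂ} (hχ : IsIrrCharacter G χ) (hreal : ∀ g, (χ g).im = 0)
    (d : ℕ) (hd : χ 1 = d) (hodd : Odd d) : indicator2 χ = 1 := by
  obtain ⟨n, ρ, hρ, rfl⟩ := id hχ
  rcases indicator_core (repMat ρ) (repMat_trace ρ) hχ with ⟨hn, -, -⟩ | ⟨-, c, hc, hν, ⟨M, hM0, hM⟩, hall⟩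
  · exact absurd hreal hn
  · obtain rfl : n = d := by
      rw [Representation.char_one, Module.finrank_fin_fun] at hd
      exact_mod_cast hd
    rcases hc with rfl | rfl
    · exact hν
    · exfalso
      have hskew : Mᵀ = -M := by rw [hall M hM, neg_one_smul]
      let S : Subrepresentation ρ := ⟨LinearMap.range (Matrix.toLin' M), fun g v hv => by
        obtain ⟨w, rfl⟩ := hv
        refine ⟨(repMat ρ g⁻¹)ᵀ *ᵥ w, ?_⟩
        rw [Matrix.toLin'_apply, Matrix.toLin'_apply]
        rw [show ρ g (M *ᵥ w) = repMat ρ g *ᵥ (M *ᵥ w) from (LinearMap.toMatrix'_mulVec _ _).symm,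
          Matrix.mulVec_mulVec, Matrix.mulVec_mulVec]
        congr 1
        conv_lhs => rw [← hM g]
        rw [Matrix.mul_assoc, ← Matrix.transpose_mul, ← map_mul, inv_mul_cancel, map_one,
          Matrix.transpose_one, Matrix.mul_one]⟩
      have hsur : Function.Surjective (Matrix.toLin' M) := by
        rw [← LinearMap.range_eq_top]
        rcases hρ.eq_bot_or_eq_top S with hb | ht
        · exfalso
          apply hM0
          have hb' : LinearMap.range (Matrix.toLin' M) = ⊥ := congrArg Subrepresentation.toSubmodule hb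
          rw [LinearMap.range_eq_bot] at hb'
          simpa using hb'
        · exact congrArg Subrepresentation.toSubmodule ht
      have hdet : M.det ≠ 0 := by
        rw [← isUnit_iff_ne_zero, ← Matrix.isUnit_iff_isUnit_det, ← Matrix.mulVec_surjective_iff_isUnit]
        exact hsur
      apply hdet
      have h1 : M.det = -M.det := by
        conv_lhs => rw [← Matrix.det_transpose, hskew]
        rw [Matrix.det_neg, Fintype.card_fin, hodd.neg_one_pow, neg_one_mul]
      linear_combination h1 / 2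

end Cfsg.Agent.Char
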