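import Cfsg.Agent.Lib.Char.SecondMain

/-!
# Block parts on `p`-sections
-/

set_option autoImplicit false

namespace Cfsg.Agent.Char

open Cfsg Module
open scoped ComplexConjugate

universe u

variable {G : Type u} [Group G] [Fintype G] {M : Ideal AlgInt} {p : ℕ}

open scoped Classical in
theorem blockPart_eq (B : Set (IrrCharacter G)) (θ : G → ℂ) (g : G) :
    blockPart B θ g =
      ∑ χ : IrrCharacter G with χ ∈ B, classInner θ (χ : G → ℂ) * (χ : G → ℂ) g := by
  unfold blockPart
  rw [finsum_mem_irr]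
  refine Finset.sum_congr rfl fun χ _ => ?_
  congr 2
  exact Subsingleton.elim _ _

open scoped Classical in
theorem sum_blockCoeff_shift (B : Set (IrrCharacter G)) {θ : G → ℂ} (hθ : IsClassFunction G θ)
    (y : G) : ∑ k : G, blockCoeff B k * θ (k * y) = blockPart B θ y := by
  conv_lhs => rw [classFun_expansion hθ]
  simp only [Finset.sum_apply, Pi.smul_apply, smul_eq_mul, Finset.mul_sum]
  rw [Finset.sum_comm, blockPart_eq, Finset.sum_filter]
  refine Finset.sum_congr rfl fun η _ => ?_
  have h := sum_mul_shift η.2 (isClassFunction_blockCoeff B) y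
  rw [lam_blockCoeff] at h
  calc ∑ k, blockCoeff B k * (classInner θ (η : G → ℂ) * (η : G → ℂ) (k * y))
      = classInner θ (η : G → ℂ) * ∑ k, blockCoeff B k * (η : G → ℂ) (k * y) := by
        rw [Finset.mul_sum]; exact Finset.sum_congr rfl fun k _ => by ring
    _ = _ := by rw [h]; split_ifs <;> simp

/-- A function vanishing on regular elements has block parts vanishing there. -/
theorem blockPart_regular_eq_zero (hM : IsPModular p M) {B : Set (IrrCharacter G)}
    (hB : IsPBlock M B) {θ : G → ℂ} (hθ : ∀ c, ¬ p ∣ orderOf c → θ c = 0) {y : G}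
    (hy : ¬ p ∣ orderOf y) : blockPart B θ y = 0 := by
  classical
  rw [blockPart_eq]
  simp only [classInner, mul_assoc]
  rw [← Finset.mul_sum]
  simp only [Finset.sum_mul]
  rw [Finset.sum_comm, Finset.sum_eq_zero fun k _ => ?_, mul_zero]
  by_cases hk : p ∣ orderOf k
  · simp only [mul_assoc, ← Finset.mul_sum]
    have h := weak_orthogonality hM hB hy hk
    rw [finsum_mem_irr] at h
    rw [show ∑ χ : IrrCharacter G with χ ∈ B, conj ((χ : G → ℂ) k) * (χ : G → ℂ) y = 0 from by
      rw [← h]; exact Finset.sum_congr rfl fun χ _ => mul_comm _ _, mul_zero]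
  · exact Finset.sum_eq_zero fun χ _ => by rw [hθ k hk, zero_mul, zero_mul]

/-- The second main theorem for induced blocks. -/
theorem second_main_induced (hM : IsPModular p M) {H : Subgroup G} [Fintype H]
    {b : Set (IrrCharacter H)} {B : Set (IrrCharacter G)} (hind : IsInducedBlock M H b B) (h : H)
    {z : G} (hz : IsPPart p (h : G) z) (hC : Subgroup.centralizer ({z} : Set G) ≤ H)
    (χ : IrrCharacter G) (hχ : χ ∉ B) :
    ∑ k : H, blockCoeff b k * (χ : G → ℂ) ((k : G) * (h : G)) = 0 := by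
  classical
  have hP := pmod_prime hM
  refine second_main hM hind.1 h hz hC χ fun ξ hξ => ?_
  obtain ⟨χ0, hχ0⟩ := block_nonempty hP hind.2.1
  have h1 := induced_congr_fun hP (fun g => hind.2.2 ξ hξ χ0 hχ0 g)
    (isIntClassFun_blockCoeff hM (isPBlock_blockOf M χ))
  rw [lam_blockCoeff, if_neg, sub_zero] at h1
  · exact h1
  · exact fun hmem => hχ ((mem_block_iff hP hind.2.1 hχ0 χ).mpr (sameBlock_symm hP hmem))

section Sec

variable {x : G}

omit [Fintype G] in
theorem cent_mul_comm (c : Subgroup.centralizer ({x} : Set G)) : x * (c : G) = (c : G) * x :=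
  (Subgroup.mem_centralizer_singleton_iff.mp c.2).symm

/-- The restriction of a class function to the section of `x`. -/
def secFun (x : G) (θ : G → ℂ) : Subgroup.centralizer ({x} : Set G) → ℂ :=
  fun c => θ (x * (c : G))

omit [Fintype G] in
theorem isClassFunction_secFun {θ : G → ℂ} (hθ : IsClassFunction G θ) :
    IsClassFunction (Subgroup.centralizer ({x} : Set G)) (secFun x θ) := fun a k => by
  show θ (x * ((k : G) * a * (k : G)⁻¹)) = θ (x * (a : G))
  rw [show x * ((k : G) * a * (k : G)⁻¹) = (k : G) * (x * a) * (k : G)⁻¹ by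
    rw [← mul_assoc, ← mul_assoc, cent_mul_comm k]; group, hθ]

omit [Fintype G] in
theorem isPPart_mul (hx : ∃ k : ℕ, orderOf x = p ^ k) (y : Subgroup.centralizer ({x} : Set G))
    (hy : ¬ p ∣ orderOf y) : IsPPart p (x * (y : G)) x :=
  ⟨y, rfl, cent_mul_comm y, hx, by rwa [Subgroup.orderOf_coe]⟩

theorem isPGroup_zpowers (hp : p.Prime) (hx : ∃ k : ℕ, orderOf x = p ^ k) :
    IsPGroup p (Subgroup.zpowers x) := by
  haveI := Fact.mk hp
  obtain ⟨k, hk⟩ := hx
  exact IsPGroup.of_card (n := k) (by rw [Nat.card_zpowers, hk])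

omit [Fintype G] in
theorem centralizer_zpowers_eq :
    Subgroup.centralizer (Subgroup.zpowers x : Set G) = Subgroup.centralizer ({x} : Set G) := by
  rw [Subgroup.zpowers_eq_closure, Subgroup.centralizer_closure]

theorem exists_induced_centralizer (hM : IsPModular p M) (hx : ∃ k : ℕ, orderOf x = p ^ k)
    [Fintype (Subgroup.centralizer ({x} : Set G))]
    {b : Set (IrrCharacter (Subgroup.centralizer ({x} : Set G)))} (hb : IsPBlock M b) :
    ∃ B, IsInducedBlock M (Subgroup.centralizer ({x} : Set G)) b B :=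
  inducedBlockDefined_of_local hM (isPGroup_zpowers hM.1 hx)
    (Subgroup.zpowers_le.mpr (Subgroup.mem_centralizer_singleton_iff.mpr rfl))
    (le_of_eq centralizer_zpowers_eq)
    (centralizer_zpowers_eq (x := x) ▸ Subgroup.centralizer_le_normalizer _) hb

/-- Brauer's second main theorem. -/
theorem blockPart_secFun_eq_zero (hM : IsPModular p M) (hx : ∃ k : ℕ, orderOf x = p ^ k)
    [Fintype (Subgroup.centralizer ({x} : Set G))] {B : Set (IrrCharacter G)} (hB : IsPBlock M B)
    (χ : IrrCharacter G) (hχ : χ ∈ B)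
    {b : Set (IrrCharacter (Subgroup.centralizer ({x} : Set G)))} (hb : IsPBlock M b)
    (hnot : ¬ IsInducedBlock M (Subgroup.centralizer ({x} : Set G)) b B)
    (y : Subgroup.centralizer ({x} : Set G)) (hy : ¬ p ∣ orderOf y) :
    blockPart b (secFun x (χ : G → ℂ)) y = 0 := by
  classical
  have hP := pmod_prime hM
  obtain ⟨B', hB'⟩ := exists_induced_centralizer hM hx hb
  have hχ' : χ ∉ B' := fun h => hnot (by
    rwa [block_eq_blockOf hP hB hχ, ← block_eq_blockOf hP hB'.2.1 h])
  have hxm : x ∈ Subgroup.centralizer ({x} : Set G) := Subgroup.mem_centralizer_singleton_iff.mpr rfl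
  have h := second_main_induced hM hB' (⟨x, hxm⟩ * y) (z := x) (isPPart_mul hx y hy) le_rfl χ hχ'
  rw [← sum_blockCoeff_shift b (isClassFunction_secFun (isClassFunction_character (irr_isCharacter χ.2)))]
  refine Eq.trans ?_ h
  refine Finset.sum_congr rfl fun k _ => ?_
  congr 1
  show (χ : G → ℂ) (x * ((k : G) * y)) = (χ : G → ℂ) ((k : G) * (x * y))
  rw [← mul_assoc, cent_mul_comm k, mul_assoc]

open scoped Classical in
/-- A function on a section is the sum of its block parts. -/
theorem eq_sum_blockPart (hM : M.IsPrime) {θ : G → ℂ} (hθ : IsClassFunction G θ) (y : G) :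
    θ y = ∑ B ∈ (Finset.univ : Finset (IrrCharacter G)).image
      (fun χ : IrrCharacter G => blockOf M (χ : G → ℂ)), blockPart B θ y := by
  simp only [← fun B => sum_blockCoeff_shift B hθ y]
  rw [Finset.sum_comm]
  simp only [← Finset.sum_mul]
  have e : ∀ k : G, ∑ B ∈ (Finset.univ : Finset (IrrCharacter G)).image
      (fun χ : IrrCharacter G => blockOf M (χ : G → ℂ)), blockCoeff B k = (delta : G → ℂ) k := fun k => by
    rw [delta_eq_sum_blocks hM, Finset.sum_apply]
  simp [e, delta_apply]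

theorem eq_zero_of_no_induced (hM : IsPModular p M) (hx : ∃ k : ℕ, orderOf x = p ^ k)
    [Fintype (Subgroup.centralizer ({x} : Set G))] {B : Set (IrrCharacter G)} (hB : IsPBlock M B)
    (χ : IrrCharacter G) (hχ : χ ∈ B)
    (hnone : ∀ b, ¬ IsInducedBlock M (Subgroup.centralizer ({x} : Set G)) b B)
    (y : Subgroup.centralizer ({x} : Set G)) (hy : ¬ p ∣ orderOf y) :
    (χ : G → ℂ) (x * (y : G)) = 0 := by
  classical
  show secFun x (χ : G → ℂ) y = 0
  rw [eq_sum_blockPart (pmod_prime hM)
    (isClassFunction_secFun (isClassFunction_character (irr_isCharacter χ.2)))]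
  refine Finset.sum_eq_zero fun b hb => ?_
  obtain ⟨ξ, -, rfl⟩ := Finset.mem_image.mp hb
  exact blockPart_secFun_eq_zero hM hx hB χ hχ (isPBlock_blockOf M ξ) (hnone _) y hy

theorem mem_defect_of_ne_zero (hM : IsPModular p M) {B : Set (IrrCharacter G)} (hB : IsPBlock M B)
    {χ : IrrCharacter G} (hχ : χ ∈ B) {g : G} (hg : IsPPart p g x) (hne : (χ : G → ℂ) g ≠ 0) :
    ∃ E, IsDefectGroup p M B E ∧ x ∈ E := by
  classical
  haveI := Fact.mk hM.1
  haveI : Fintype (Subgroup.centralizer ({x} : Set G)) := Fintype.ofFinite _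
  obtain ⟨y, rfl, hxy, hx, hy⟩ := hg
  have hyc : y ∈ Subgroup.centralizer ({x} : Set G) :=
    Subgroup.mem_centralizer_singleton_iff.mpr hxy.eq.symm
  obtain ⟨b, hb⟩ : ∃ b, IsInducedBlock M (Subgroup.centralizer ({x} : Set G)) b B := by
    by_contra hno
    push Not at hno
    exact hne (eq_zero_of_no_induced hM hx hB χ hχ hno ⟨y, hyc⟩ (by rwa [Subgroup.orderOf_mk]))
  obtain ⟨D, hD⟩ := exists_isDefectGroup hM hb.1
  obtain ⟨E, hE, hle⟩ := induced_defect_le hM hb hD
  refine ⟨E, hE, hle ?_⟩
  set C := Subgroup.centralizer ({x} : Set G)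
  have hxm : x ∈ C := Subgroup.mem_centralizer_singleton_iff.mpr rfl
  let Z := Subgroup.zpowers (⟨x, hxm⟩ : C)
  have hZ : Z ≤ Subgroup.center C := Subgroup.zpowers_le.mpr (Subgroup.mem_center_iff.mpr fun c =>
    Subtype.ext (cent_mul_comm c).symm)
  haveI : Z.Normal := ⟨fun z hz g => by
    rw [Subgroup.mem_center_iff.mp (hZ hz) g]; simpa using hz⟩
  obtain ⟨k, hk⟩ := hx
  have hZp : IsPGroup p Z :=
    IsPGroup.of_card (n := k) (by rw [Nat.card_zpowers, Subgroup.orderOf_mk, hk])
  exact ⟨⟨x, hxm⟩, pCore_le_defectGroup hM hb.1 hD Z hZp (Subgroup.mem_zpowers _), rfl⟩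

/-- Block parts vanish on a section where the function vanishes. -/
theorem blockPart_eq_zero_of_section (hM : IsPModular p M) (hx : ∃ k : ℕ, orderOf x = p ^ k)
    [Fintype (Subgroup.centralizer ({x} : Set G))] {ϑ : G → ℂ} (hϑ : IsClassFunction G ϑ)
    (hzero : ∀ c : Subgroup.centralizer ({x} : Set G), ¬ p ∣ orderOf c → ϑ (x * (c : G)) = 0)
    {B : Set (IrrCharacter G)} (hB : IsPBlock M B) (y : Subgroup.centralizer ({x} : Set G))
    (hy : ¬ p ∣ orderOf y) : blockPart B ϑ (x * (y : G)) = 0 := by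
  classical
  have hP := pmod_prime hM
  set S := (Finset.univ : Finset (IrrCharacter (Subgroup.centralizer ({x} : Set G)))).image
    (fun ξ : IrrCharacter (Subgroup.centralizer ({x} : Set G)) =>
      blockOf M (ξ : Subgroup.centralizer ({x} : Set G) → ℂ)) with hS
  -- each local block sees only the block it induces
  have hlin : ∀ (b : Set (IrrCharacter (Subgroup.centralizer ({x} : Set G)))) (s : Finset (IrrCharacter G)),
      blockPart b (secFun x (fun g => ∑ χ ∈ s, classInner ϑ (χ : G → ℂ) * (χ : G → ℂ) g)) y =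
        ∑ χ ∈ s, classInner ϑ (χ : G → ℂ) * blockPart b (secFun x (χ : G → ℂ)) y := by
    intro b s
    simp only [blockPart_eq, secFun, classInner, Finset.sum_mul, Finset.mul_sum]
    rw [Finset.sum_comm (s := s)]
    refine Finset.sum_congr rfl fun η _ => ?_
    rw [Finset.sum_comm (s := s)]
    refine Finset.sum_congr rfl fun c _ => Finset.sum_congr rfl fun χ _ => ?_
    refine Finset.sum_congr rfl fun g _ => ?_
    ring
  set s := Finset.univ.filter (fun χ : IrrCharacter G => χ ∈ B)
  have h1 : blockPart B ϑ (x * (y : G)) =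
      ∑ b ∈ S, ∑ χ ∈ s, classInner ϑ (χ : G → ℂ) * blockPart b (secFun x (χ : G → ℂ)) y := by
    rw [blockPart_eq, Finset.sum_comm]
    refine Finset.sum_congr rfl fun χ _ => ?_
    rw [← Finset.mul_sum, ← eq_sum_blockPart hP
      (isClassFunction_secFun (isClassFunction_character (irr_isCharacter χ.2)))]
    rfl
  rw [h1]
  refine Finset.sum_eq_zero fun b hb => ?_
  obtain ⟨ξ, -, rfl⟩ := Finset.mem_image.mp hb
  have hb' := isPBlock_blockOf M ξ
  by_cases hind : IsInducedBlock M (Subgroup.centralizer ({x} : Set G)) (blockOf M (ξ : Subgroup.centralizer ({x} : Set G) → ℂ)) B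
  · rw [show ∑ χ ∈ s, classInner ϑ (χ : G → ℂ) * blockPart (blockOf M (ξ : Subgroup.centralizer ({x} : Set G) → ℂ))
      (secFun x (χ : G → ℂ)) y = ∑ χ : IrrCharacter G, classInner ϑ (χ : G → ℂ) *
        blockPart (blockOf M (ξ : Subgroup.centralizer ({x} : Set G) → ℂ)) (secFun x (χ : G → ℂ)) y from ?_, ← hlin]
    · rw [show (fun g => ∑ χ : IrrCharacter G, classInner ϑ (χ : G → ℂ) * (χ : G → ℂ) g) = ϑ from ?_]
      · exact blockPart_regular_eq_zero hM hb' hzero hy
      · funext g
        conv_rhs => rw [classFun_expansion hϑ]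
        simp
    · refine Finset.sum_subset (Finset.subset_univ _) fun χ _ hχ => ?_
      have hχB : χ ∉ B := fun h => hχ (Finset.mem_filter.mpr ⟨Finset.mem_univ _, h⟩)
      rw [blockPart_secFun_eq_zero hM hx (isPBlock_blockOf M χ) χ (self_mem_blockOf hP χ) hb' ?_ y hy,
        mul_zero]
      intro h2
      refine hχB ?_
      obtain ⟨χ0, hχ0⟩ := block_nonempty hP hB
      refine (mem_block_iff hP hB hχ0 χ).mpr fun g => ?_
      exact memLI_trans hP (memLI_symm hP (hind.2.2 ξ (self_mem_blockOf hP ξ) χ0 hχ0 g))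
        (h2.2.2 ξ (self_mem_blockOf hP ξ) χ (self_mem_blockOf hP χ) g)
  · refine Finset.sum_eq_zero fun χ hχ => ?_
    rw [blockPart_secFun_eq_zero hM hx hB χ (Finset.mem_filter.mp hχ).2 hb' hind y hy, mul_zero]

/-- Block parts vanish on a section where the function vanishes. -/
theorem blockPart_eq_zero_of_isPPart (hM : IsPModular p M) (hx : ∃ k : ℕ, orderOf x = p ^ k)
    {ϑ : G → ℂ} (hϑ : IsClassFunction G ϑ)
    (hzero : ∀ u z : G, IsPPart p u z → IsConj x z → ϑ u = 0) {B : Set (IrrCharacter G)}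
    (hB : IsPBlock M B) {u z : G} (hu : IsPPart p u z) (hxz : IsConj x z) :
    blockPart B ϑ u = 0 := by
  classical
  haveI : Fintype (Subgroup.centralizer ({x} : Set G)) := Fintype.ofFinite _
  obtain ⟨c, hc⟩ := isConj_iff.mp hxz
  obtain ⟨w, rfl, hzw, -, hw⟩ := hu
  have hord : orderOf (c⁻¹ * w * c) = orderOf w := by
    rw [show c⁻¹ * w * c = MulAut.conj c⁻¹ w by simp, MulEquiv.orderOf_eq]
  have hwc : c⁻¹ * w * c ∈ Subgroup.centralizer ({x} : Set G) := by
    refine Subgroup.mem_centralizer_singleton_iff.mpr ?_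
    calc c⁻¹ * w * c * x = c⁻¹ * (w * (c * x * c⁻¹)) * c := by group
      _ = c⁻¹ * ((c * x * c⁻¹) * w) * c := by rw [hc, hzw.eq]
      _ = x * (c⁻¹ * w * c) := by group
  have h := blockPart_eq_zero_of_section hM hx hϑ (fun d hd =>
    hzero _ x (isPPart_mul hx d hd) (IsConj.refl x)) hB ⟨_, hwc⟩ (by rwa [Subgroup.orderOf_mk, hord])
  have hcl : IsClassFunction G (blockPart B ϑ) := fun a k => by
    simp only [blockPart_eq, isClassFunction_character (irr_isCharacter (Subtype.prop _)) a k]
  rw [← hcl _ c] at h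
  rw [← h]
  congr 1
  show z * w = c * (x * (c⁻¹ * w * c)) * c⁻¹
  rw [← hc]; group

end Sec

end Cfsg.Agent.Char
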