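import Cfsg.Agent.Lib.Char.KleinFour
import Cfsg.Agent.Lib.Char.Convolution
import Cfsg.Agent.Lib.Char.Indicator
import Cfsg.Agent.Lib.Char.SectionPart
import Cfsg.Agent.Lib.Fusion.KleinSylowClasses

/-!
Groups with Sylow subgroups of order four: counting pairs of involutions and square roots.
-/

set_option autoImplicit false
set_option linter.unusedSectionVars false
open scoped ComplexConjugate
open Cfsg

namespace Cfsg.Agent.Char

universe u
variable {G : Type u} [Group G] [Fintype G] {M : Ideal AlgInt}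

/-- No normal 2-complement forces exponent two and one class of involutions. -/
theorem one_class_of_four (P : Sylow 2 G) (hP : Nat.card P = 4)
    (hnc : ¬ ∃ N : Subgroup G, N.Normal ∧ N.IsComplement' (P : Subgroup G)) :
    (∀ x : P, x * x = 1) ∧ ∀ s t : G, orderOf s = 2 → orderOf t = 2 → IsConj s t := by
  classical
  haveI : Fact (Nat.Prime 2) := ⟨Nat.prime_two⟩
  have hcard : Nat.card (P : Subgroup G) = 4 := hP
  have hncyc : ¬ IsCyclic (P : Subgroup G) := by
    intro hc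
    refine hnc (Fusion.hnpc_exists_complement (Fusion.hnpc_of_normalizer_le_centralizer P
      (IsCyclic.normalizer_le_centralizer ?_ hc)) P)
    refine (Nat.minFac_eq_two_iff _).mpr ?_
    exact dvd_trans (by rw [hcard]; norm_num) (P : Subgroup G).card_subgroup_dvd_card
  have hexp : Monoid.exponent (P : Subgroup G) = 2 :=
    (not_isCyclic_iff_exponent_eq_prime Nat.prime_two (by rw [hcard]; norm_num)).mp hncyc
  have hk : IsKleinFour (P : Subgroup G) := ⟨hcard, hexp⟩
  refine ⟨fun x => IsKleinFour.mul_self (G := (P : Subgroup G)) x, fun s t hs ht => ?_⟩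
  rcases Fusion.klein_sylow_dichotomy P hk with ⟨-, h⟩ | ⟨h, -⟩
  · exact absurd h hnc
  · obtain ⟨hsub, -⟩ := Nat.card_eq_one_iff_unique.mp h
    refine ConjClasses.mk_eq_mk_iff_isConj.mp ?_
    exact congrArg Subtype.val (@Subsingleton.elim _ hsub
      ⟨ConjClasses.mk s, s, hs, rfl⟩ ⟨ConjClasses.mk t, t, ht, rfl⟩)

open scoped Classical in
/-- Columns of the principal block at an element with a normal complement in its centralizer. -/
theorem section_principal_sum {p : ℕ} (hM : IsPModular p M) {x : G}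
    (hx : ∃ k : ℕ, orderOf x = p ^ k) [Fintype (Subgroup.centralizer ({x} : Set G))]
    (K : Subgroup (Subgroup.centralizer ({x} : Set G))) [K.Normal] (hK : ¬ p ∣ Nat.card K)
    (hreg : ∀ c, ¬ p ∣ orderOf c → c ∈ K) {k : ℕ} (hk : K.index = p ^ k)
    (c : IrrCharacter G → ℂ) :
    ∑ χ : IrrCharacter G with χ ∈ principalBlock M G, c χ * (χ : G → ℂ) x =
      (K.index : ℂ) * (Nat.card (Subgroup.centralizer ({x} : Set G)) : ℂ)⁻¹ *
        ∑ y : Subgroup.centralizer ({x} : Set G) with ¬ p ∣ orderOf y,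
          ∑ χ : IrrCharacter G, c χ * (χ : G → ℂ) (x * (y : G)) := by
  have hP := pmod_prime hM
  haveI := Fact.mk hM.1
  set b := principalBlock M (Subgroup.centralizer ({x} : Set G)) with hb
  have hbB : IsPBlock M b := isPBlock_principalBlock M
  have hB : IsPBlock M (principalBlock M G) := isPBlock_principalBlock M
  -- the block part at the identity
  have hone : ∀ f : Subgroup.centralizer ({x} : Set G) → ℂ, blockPart b f 1 =
      (K.index : ℂ) * (Nat.card (Subgroup.centralizer ({x} : Set G)) : ℂ)⁻¹ *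
        ∑ y : Subgroup.centralizer ({x} : Set G) with ¬ p ∣ orderOf y, f y := by
    intro f
    have hcol : ∀ y : Subgroup.centralizer ({x} : Set G),
        ∑ ξ : IrrCharacter (Subgroup.centralizer ({x} : Set G)) with ξ ∈ b,
          conj ((ξ : Subgroup.centralizer ({x} : Set G) → ℂ) y) *
            (ξ : Subgroup.centralizer ({x} : Set G) → ℂ) 1 =
          if ¬ p ∣ orderOf y then (K.index : ℂ) else 0 := by
      intro y
      split_ifs with hy
      · rw [Finset.sum_congr rfl fun ξ _ => mul_comm _ _]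
        have h := weak_orthogonality hM hbB (x := (1 : Subgroup.centralizer ({x} : Set G)))
          (by simp [hM.1.ne_one]) hy
        rwa [finsum_mem_irr] at h
      · rw [← sum_sq_trivial_on K hP]
        refine Finset.sum_congr ?_ fun ξ hξ => ?_
        · ext ξ
          simp only [Finset.mem_filter, Finset.mem_univ, true_and]
          exact mem_principal_iff_of_index hM K hK hk ξ
        · obtain ⟨d, hd⟩ := charOne_eq_natCast (irr_isCharacter ξ.2)
          rw [(Finset.mem_filter.mp hξ).2 y (hreg y hy), hd, Complex.conj_natCast]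
    rw [blockPart_eq]
    simp only [classInner, mul_assoc, ← Finset.mul_sum, Finset.sum_mul]
    rw [Finset.sum_comm]
    simp only [← Finset.mul_sum, hcol, mul_ite, mul_zero]
    rw [← Finset.sum_filter, mul_left_comm, Finset.mul_sum, Finset.mul_sum]
    congr 1
    rw [Finset.mul_sum]
    exact Finset.sum_congr rfl fun y _ => by ring
  -- only the principal block contributes
  have hpart : ∀ χ : IrrCharacter G, blockPart b (secFun x (χ : G → ℂ)) 1 =
      if χ ∈ principalBlock M G then (χ : G → ℂ) x else 0 := by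
    intro χ
    split_ifs with hχ
    · have h := eq_sum_blockPart hP (isClassFunction_secFun (x := x)
        (isClassFunction_character (irr_isCharacter χ.2))) (1 : Subgroup.centralizer ({x} : Set G))
      rw [Finset.sum_eq_single b] at h
      · rw [← h]; simp [secFun]
      · intro e he hne
        obtain ⟨ξ, -, rfl⟩ := Finset.mem_image.mp he
        exact blockPart_secFun_eq_zero hM hx hB χ hχ (isPBlock_blockOf M ξ)
          (fun hi => hne ((third_main hM hi).mp rfl)) 1 (by simp [hM.1.ne_one])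
      · intro he
        exact (he (Finset.mem_image.mpr ⟨⟨fun _ => 1, isIrrCharacter_one⟩, Finset.mem_univ _, rfl⟩)).elim
    · exact blockPart_secFun_eq_zero hM hx (isPBlock_blockOf M χ) χ (self_mem_blockOf hP χ) hbB
        (fun hi => hχ ((third_main hM hi).mpr rfl ▸ self_mem_blockOf hP χ)) 1 (by simp [hM.1.ne_one])
  have hR : ∀ y : Subgroup.centralizer ({x} : Set G),
      ∑ χ : IrrCharacter G, c χ * (χ : G → ℂ) (x * (y : G)) =
        ∑ χ : IrrCharacter G, c χ * secFun x (χ : G → ℂ) y := fun y => rfl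
  rw [Finset.sum_filter, Finset.sum_congr rfl fun y _ => hR y, Finset.sum_comm, Finset.mul_sum]
  refine Finset.sum_congr rfl fun χ _ => ?_
  rw [← Finset.mul_sum, mul_left_comm, ← hone, hpart, mul_ite, mul_zero]

variable {J : G}

theorem four_complement (P : Sylow 2 G) (hP : Nat.card P = 4) (hexp : ∀ x : P, x * x = 1)
    (hJ : J ∈ (P : Subgroup G)) (hJ1 : J ≠ 1) :
    ∃ K : Subgroup (Subgroup.centralizer ({J} : Set G)), K.Normal ∧ ¬ 2 ∣ Nat.card K ∧
      (∀ c, ¬ 2 ∣ orderOf c → c ∈ K) ∧ K.index = 4 ∧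
      ∀ u : Subgroup.centralizer ({J} : Set G), (u : G) ∈ (P : Subgroup G) → u ∈ K → u = 1 := by
  classical
  haveI : Fact (Nat.Prime 2) := ⟨Nat.prime_two⟩
  haveI : Fintype (Subgroup.centralizer ({J} : Set G)) := Fintype.ofFinite _
  have hnp := hnpc_centralizer_of_four P hP hexp hJ hJ1
  obtain ⟨K, hKn, hKc, hKreg⟩ := hnpc_iff_regular.1 hnp
  obtain ⟨S, N, hN, hc⟩ := hnp
  haveI := hN
  have hPC : (P : Subgroup G) ≤ Subgroup.centralizer ({J} : Set G) := fun a ha =>
    Subgroup.mem_centralizer_singleton_iff.2 (comm_of_exp_two hexp a ha J hJ)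
  have hS : Nat.card (S : Subgroup (Subgroup.centralizer ({J} : Set G))) = 4 := by
    rw [S.card_eq_multiplicity, ← (P.subtype hPC).card_eq_multiplicity, ← hP]
    exact Nat.card_congr (Subgroup.subgroupOfEquivOfLe hPC).toEquiv
  refine ⟨K, hKn, hKc, hKreg, ?_, fun u hu huK => ?_⟩
  · rw [eq_complement hKc hKreg hc, hc.symm.index_eq_card, hS]
  · by_contra hne
    refine hKc ((?_ : 2 ∣ orderOf u).trans
      (Subgroup.orderOf_mk u huK ▸ orderOf_dvd_natCard (⟨u, huK⟩ : K)))
    have h2 : u ^ 2 = 1 := Subtype.ext (by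
      have := congrArg Subtype.val (hexp ⟨u, hu⟩); rw [pow_two]; exact this)
    rw [orderOf_eq_prime h2 hne]

/-- The indicators of the principal block, weighted by the values at `J`, add up to zero. -/
theorem four_indicator (hM : IsPModular 2 M) (P : Sylow 2 G) (hP : Nat.card P = 4)
    (hexp : ∀ x : P, x * x = 1) (hJ : J ∈ (P : Subgroup G)) (hJ1 : J ≠ 1) :
    open scoped Classical in
    ∑ χ : IrrCharacter G with χ ∈ principalBlock M G, indicator2 (χ : G → ℂ) * (χ : G → ℂ) J = 0 := by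
  classical
  haveI : Fact (Nat.Prime 2) := ⟨Nat.prime_two⟩
  haveI : Fintype (Subgroup.centralizer ({J} : Set G)) := Fintype.ofFinite _
  obtain ⟨K, hKn, hKc, hKreg, hKi, -⟩ := four_complement P hP hexp hJ hJ1
  have hJ2 : orderOf J = 2 := orderOf_eq_prime
    (by have := congrArg Subtype.val (hexp ⟨J, hJ⟩); rw [← pow_two] at this; simpa using this) hJ1
  have hno4 : ∀ s : G, ¬ 4 ∣ orderOf s := by
    intro s h
    have hg := orderOf_pow_orderOf_div (orderOf_pos s).ne' h
    obtain ⟨Q, hQ⟩ := (IsPGroup.of_card (n := 2) (by rw [Nat.card_zpowers, hg]; norm_num) :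
      IsPGroup 2 (Subgroup.zpowers (s ^ (orderOf s / 4)))).exists_le_sylow
    obtain ⟨g, hgP⟩ := MulAction.exists_smul_eq G Q P
    have hm : g * s ^ (orderOf s / 4) * g⁻¹ ∈ (P : Subgroup G) := by
      rw [← hgP]; exact ⟨_, hQ (Subgroup.mem_zpowers _), rfl⟩
    have h2 : (g * s ^ (orderOf s / 4) * g⁻¹) ^ 2 = 1 := by
      have := congrArg Subtype.val (hexp ⟨_, hm⟩); rw [pow_two]; exact this
    have h3 := orderOf_dvd_of_pow_eq_one h2
    rw [← MulAut.conj_apply, MulEquiv.orderOf_eq, hg] at h3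
    omega
  rw [section_principal_sum hM ⟨1, by rw [hJ2, pow_one]⟩ K hKc hKreg (k := 2) (by rw [hKi]; norm_num)]
  refine mul_eq_zero_of_right _ (Finset.sum_eq_zero fun y hy => ?_)
  have hy' := (Finset.mem_filter.mp hy).2
  simp only [indicator2, mul_assoc, ← Finset.mul_sum, Finset.sum_mul]
  refine mul_eq_zero_of_right _ ?_
  rw [Finset.sum_comm]
  refine Finset.sum_eq_zero fun s _ => ?_
  rw [Finset.sum_congr rfl (g := fun χ : IrrCharacter G =>
    (χ : G → ℂ) (s * s) * conj ((χ : G → ℂ) (J * (y : G))⁻¹)) (fun χ _ => by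
      rw [← char_inv (irr_isCharacter χ.2), inv_inv]), second_orth, if_neg]
  intro hc
  obtain ⟨g, hg⟩ := isConj_iff.mp hc
  have h2 : 2 ∣ orderOf (J * (y : G)) := by
    rw [Commute.orderOf_mul_eq_mul_orderOf_of_coprime
      ((Subgroup.mem_centralizer_singleton_iff.mp y.2).symm : Commute J (y : G))
      (by rw [hJ2, Subgroup.orderOf_coe]; exact Nat.prime_two.coprime_iff_not_dvd.mpr hy'), hJ2]
    exact dvd_mul_right _ _
  have hord : orderOf (s ^ 2) = orderOf (J * (y : G)) := by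
    rw [pow_two, ← orderOf_inv (J * (y : G)), ← hg, ← MulAut.conj_apply, MulEquiv.orderOf_eq]
  have heven : 2 ∣ orderOf s := (hord.symm ▸ h2).trans (orderOf_pow_dvd 2)
  rw [orderOf_pow_of_dvd two_ne_zero heven] at hord
  exact hno4 s (by obtain ⟨m, hm⟩ := heven; rw [← hord] at h2; omega)

/-- The elements carrying `J` into the class of `u` under the centralizer of `J`. -/
noncomputable def fourSet (J g₀ : G) [Fintype (Subgroup.centralizer ({J} : Set G))] : Finset G :=
  open scoped Classical in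
  (Finset.univ : Finset (Subgroup.centralizer ({J} : Set G) × Subgroup.centralizer ({J} : Set G))).image
    fun cd => (cd.1 : G) * g₀ * (cd.2 : G)

theorem mem_fourSet [Fintype (Subgroup.centralizer ({J} : Set G))] {g₀ z : G} :
    z ∈ fourSet J g₀ ↔ ∃ c ∈ Subgroup.centralizer ({J} : Set G),
      z * J * z⁻¹ = c * (g₀ * J * g₀⁻¹) * c⁻¹ := by
  classical
  simp only [fourSet, Finset.mem_image, Finset.mem_univ, true_and, Prod.exists]
  constructor
  · rintro ⟨c, d, rfl⟩
    refine ⟨c, c.2, ?_⟩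
    have hd := Subgroup.mem_centralizer_singleton_iff.mp d.2
    calc (c : G) * g₀ * d * J * ((c : G) * g₀ * d)⁻¹
        = (c : G) * g₀ * ((d : G) * J) * ((c : G) * g₀ * d)⁻¹ := by group
      _ = _ := by rw [hd]; group
  · rintro ⟨c, hc, h⟩
    refine ⟨⟨c, hc⟩, ⟨(c * g₀)⁻¹ * z, Subgroup.mem_centralizer_singleton_iff.mpr ?_⟩, mul_inv_cancel_left _ _⟩
    calc (c * g₀)⁻¹ * z * J = (c * g₀)⁻¹ * (z * J * z⁻¹) * z := by group
      _ = J * ((c * g₀)⁻¹ * z) := by rw [h]; group

/-- Pairs of conjugates of `J` multiplying into the section of `J`. -/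
theorem four_count (hM : IsPModular 2 M) (P : Sylow 2 G) (hP : Nat.card P = 4)
    (hexp : ∀ x : P, x * x = 1) (hone : ∀ s t : G, orderOf s = 2 → orderOf t = 2 → IsConj s t)
    (hJ : J ∈ (P : Subgroup G)) (hJ1 : J ≠ 1) :
    open scoped Classical in
    (∑ χ : IrrCharacter G with χ ∈ principalBlock M G, (χ : G → ℂ) J ^ 3 / (χ : G → ℂ) 1) *
        ((Nat.card G : ℂ) * (Nat.card (Subgroup.centralizer ((P : Subgroup G) : Set G)) : ℂ) ^ 2) =
      8 * (Nat.card (Subgroup.centralizer ({J} : Set G)) : ℂ) ^ 3 := by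
  classical
  haveI : Fact (Nat.Prime 2) := ⟨Nat.prime_two⟩
  haveI : Fintype (Subgroup.centralizer ({J} : Set G)) := Fintype.ofFinite _
  obtain ⟨K, hKn, hKc, hKreg, hKi, hKP⟩ := four_complement P hP hexp hJ hJ1
  have hinv2 : ∀ u ∈ (P : Subgroup G), u * u = 1 := fun u hu => congrArg Subtype.val (hexp ⟨u, hu⟩)
  have hord2 : ∀ u ∈ (P : Subgroup G), u ≠ 1 → orderOf u = 2 := fun u hu h =>
    orderOf_eq_prime (by rw [pow_two]; exact hinv2 u hu) h
  have hJ2 := hord2 J hJ hJ1
  have hJJ : J * J = 1 := hinv2 J hJ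
  have hJi : J⁻¹ = J := inv_eq_of_mul_eq_one_left hJJ
  have hcomm := comm_of_exp_two (P := (P : Subgroup G)) hexp
  have hPC : (P : Subgroup G) ≤ Subgroup.centralizer ({J} : Set G) := fun a ha =>
    Subgroup.mem_centralizer_singleton_iff.2 (hcomm a ha J hJ)
  have hKmem : ∀ c : Subgroup.centralizer ({J} : Set G), c ∈ K ↔ ¬ 2 ∣ orderOf c :=
    fun c => ⟨fun hc h => hKc (h.trans (Subgroup.orderOf_mk c hc ▸ orderOf_dvd_natCard (⟨c, hc⟩ : K))),
      hKreg c⟩
  -- the quotient by the complement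
  set q := QuotientGroup.mk' K with hq
  let ι : (P : Subgroup G) →* Subgroup.centralizer ({J} : Set G) := Subgroup.inclusion hPC
  have hqinj : Function.Injective (q.comp ι) := by
    rw [← MonoidHom.ker_eq_bot_iff, Subgroup.eq_bot_iff_forall]
    intro u hu
    have h1 : ι u ∈ K := (QuotientGroup.eq_one_iff _).mp hu
    exact Subgroup.inclusion_injective hPC ((hKP _ u.2 h1).trans (map_one ι).symm)
  have hqsur : Function.Surjective (q.comp ι) :=
    ((Nat.bijective_iff_injective_and_card _).mpr ⟨hqinj, by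
      rw [← Subgroup.index_eq_card, hKi]; exact hP⟩).2
  have hqconj : ∀ (u : (P : Subgroup G)) (c : Subgroup.centralizer ({J} : Set G)),
      q (c * ι u * c⁻¹) = q (ι u) := by
    intro u c
    obtain ⟨w, hw⟩ := hqsur (q c)
    have hwu : w * u = u * w := Subtype.ext (hcomm _ w.2 _ u.2)
    rw [map_mul, map_mul, map_inv, ← hw]
    show q (ι w) * q (ι u) * (q (ι w))⁻¹ = q (ι u)
    rw [← map_mul, ← map_mul, hwu, map_mul, map_mul, mul_inv_cancel_right]
  -- conjugates of `J` in the four group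
  set T := Finset.univ.filter fun u : (P : Subgroup G) => (u : G) ≠ 1 ∧ (u : G) ≠ J with hT
  have hTcard : T.card = 2 := by
    have e : T = Finset.univ \ {1, ⟨J, hJ⟩} := by
      ext u
      simp only [hT, Finset.mem_filter, Finset.mem_sdiff, Finset.mem_univ, true_and, Finset.mem_insert,
        Finset.mem_singleton, not_or]
      exact and_congr (not_congr ⟨fun h => Subtype.ext h, fun h => by rw [h]; rfl⟩)
        (not_congr ⟨fun h => Subtype.ext h, fun h => by rw [h]⟩)
    rw [e, Finset.card_sdiff_of_subset (Finset.subset_univ _), Finset.card_univ,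
      Finset.card_pair (fun h => hJ1 (congrArg Subtype.val h).symm), ← Nat.card_eq_fintype_card,
      show Nat.card (P : Subgroup G) = 4 from hP]
  have hg₀ : ∀ u : (P : Subgroup G), ∃ g : G, (u : G) ≠ 1 → g * J * g⁻¹ = u := fun u => by
    by_cases hu : (u : G) = 1
    · exact ⟨1, fun h => absurd hu h⟩
    · obtain ⟨g, hg⟩ := isConj_iff.mp (hone J u hJ2 (hord2 u u.2 hu))
      exact ⟨g, fun _ => hg⟩
  choose g₀ hg₀ using hg₀
  set Z : ↥(P : Subgroup G) → Finset G := fun u => fourSet J (g₀ u) with hZ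
  have hZmem : ∀ (u : (P : Subgroup G)) (z : G), (u : G) ≠ 1 → z ∈ Z u →
      ∃ c : Subgroup.centralizer ({J} : Set G), z * J * z⁻¹ = ((c * ι u * c⁻¹ : _) : G) := by
    intro u z hu hz
    obtain ⟨c, hc, h⟩ := mem_fourSet.mp hz
    exact ⟨⟨c, hc⟩, by rw [h, hg₀ u hu]; rfl⟩
  have hfind : ∀ z : G, z * J * z⁻¹ ∈ Subgroup.centralizer ({J} : Set G) →
      ∃ u : (P : Subgroup G), (u : G) ≠ 1 ∧ z ∈ Z u := by
    intro z hz
    have ho : orderOf (⟨z * J * z⁻¹, hz⟩ : Subgroup.centralizer ({J} : Set G)) = 2 := by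
      rw [Subgroup.orderOf_mk, ← MulAut.conj_apply, MulEquiv.orderOf_eq, hJ2]
    obtain ⟨Q, hQ⟩ := (IsPGroup.of_card (n := 1) (by rw [Nat.card_zpowers, ho, pow_one]) :
      IsPGroup 2 (Subgroup.zpowers (⟨z * J * z⁻¹, hz⟩ : Subgroup.centralizer ({J} : Set G)))).exists_le_sylow
    obtain ⟨c, hc⟩ := MulAction.exists_smul_eq (Subgroup.centralizer ({J} : Set G)) Q (P.subtype hPC)
    have hm : c * ⟨z * J * z⁻¹, hz⟩ * c⁻¹ ∈ (P.subtype hPC : Subgroup (Subgroup.centralizer ({J} : Set G))) := by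
      rw [← hc]; exact ⟨_, hQ (Subgroup.mem_zpowers _), rfl⟩
    refine ⟨⟨_, hm⟩, fun h => ?_, mem_fourSet.mpr ⟨((c⁻¹ : _) : G), (c⁻¹).2, ?_⟩⟩
    · have h' : c * ⟨z * J * z⁻¹, hz⟩ * c⁻¹ = 1 := Subtype.ext h
      rw [conj_eq_one_iff] at h'
      rw [h', orderOf_one] at ho
      omega
    · have h1 : (c : G) * (z * J * z⁻¹) * (c : G)⁻¹ ≠ 1 := fun h => by
        rw [conj_eq_one_iff, conj_eq_one_iff] at h; exact hJ1 h
      rw [hg₀ _ h1]
      show z * J * z⁻¹ = (c : G)⁻¹ * ((c : G) * (z * J * z⁻¹) * (c : G)⁻¹) * ((c : G)⁻¹)⁻¹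
      group
  have hZcard : ∀ u ∈ T, (Z u).card * Nat.card (Subgroup.centralizer ((P : Subgroup G) : Set G)) =
      Nat.card (Subgroup.centralizer ({J} : Set G)) * Nat.card (Subgroup.centralizer ({J} : Set G)) := by
    intro u hu
    obtain ⟨hu1, huJ⟩ := (Finset.mem_filter.mp hu).2
    have hgen : ∀ k : G, k ∈ Subgroup.centralizer ({J} : Set G) → k * u = u * k →
        k ∈ Subgroup.centralizer ((P : Subgroup G) : Set G) := by
      intro k hk hku
      refine Subgroup.mem_centralizer_iff.mpr fun w hw => ?_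
      have hkJ := Subgroup.mem_centralizer_singleton_iff.mp hk
      set wP : (P : Subgroup G) := ⟨w, hw⟩
      have hall : (Finset.univ : Finset (P : Subgroup G)) = {1, ⟨J, hJ⟩, u, ⟨J, hJ⟩ * u} := by
        refine (Finset.eq_univ_of_card _ ?_).symm
        rw [← Nat.card_eq_fintype_card, show Nat.card (P : Subgroup G) = 4 from hP]
        have hJP : (⟨J, hJ⟩ : (P : Subgroup G)) ≠ 1 := fun h => hJ1 (congrArg Subtype.val h)
        have hu1' : u ≠ 1 := fun h => hu1 (by rw [h]; rfl)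
        have huJ' : u ≠ ⟨J, hJ⟩ := fun h => huJ (by rw [h])
        rw [Finset.card_insert_of_notMem (by
            simp only [Finset.mem_insert, Finset.mem_singleton, not_or]
            refine ⟨hJP.symm, hu1'.symm, fun h => huJ' ?_⟩
            calc u = ⟨J, hJ⟩ * (⟨J, hJ⟩ * u) := by rw [← mul_assoc, hexp ⟨J, hJ⟩, one_mul]
              _ = ⟨J, hJ⟩ := by rw [← h, mul_one]),
          Finset.card_insert_of_notMem (by
            simp only [Finset.mem_insert, Finset.mem_singleton, not_or]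
            exact ⟨huJ'.symm, fun h => hu1' (mul_eq_left.mp h.symm)⟩),
          Finset.card_pair (fun h => hJP (mul_eq_right.mp h.symm))]
      have hmem : wP ∈ ({1, ⟨J, hJ⟩, u, ⟨J, hJ⟩ * u} : Finset (P : Subgroup G)) := hall ▸ Finset.mem_univ _
      simp only [Finset.mem_insert, Finset.mem_singleton] at hmem
      rcases hmem with h | h | h | h <;>
        (have h' : w = _ := congrArg Subtype.val h; rw [h'])
      · simp
      · exact hkJ.symm
      · exact hku.symm
      · show J * (u : G) * k = k * (J * (u : G))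
        rw [mul_assoc, ← hku, ← mul_assoc, ← hkJ, mul_assoc]
    have hCPC : Subgroup.centralizer ((P : Subgroup G) : Set G) ≤ Subgroup.centralizer ({J} : Set G) :=
      Subgroup.centralizer_le (Set.singleton_subset_iff.mpr hJ)
    rw [← Nat.card_prod, Nat.card_eq_fintype_card, Nat.card_eq_fintype_card, ← Finset.card_univ (α := _ × _)]
    rw [Finset.card_eq_sum_card_image (fun cd : Subgroup.centralizer ({J} : Set G) ×
      Subgroup.centralizer ({J} : Set G) => (cd.1 : G) * g₀ u * (cd.2 : G)) Finset.univ]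
    rw [Finset.sum_congr rfl (g := fun _ => Fintype.card (Subgroup.centralizer ((P : Subgroup G) : Set G))),
      Finset.sum_const, smul_eq_mul]
    · rfl
    intro z hz
    obtain ⟨⟨c, d⟩, -, rfl⟩ := Finset.mem_image.mp hz
    rw [← Finset.card_univ]
    symm
    refine Finset.card_bij (fun e _ => (c * ⟨e, hCPC e.2⟩,
        (⟨(g₀ u)⁻¹ * (e : G)⁻¹ * g₀ u, Subgroup.mem_centralizer_singleton_iff.mpr ?_⟩ :
          Subgroup.centralizer ({J} : Set G)) * d)) ?_ ?_ ?_
    · have he : (e : G)⁻¹ * u = u * (e : G)⁻¹ :=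
        (Subgroup.mem_centralizer_iff.mp (inv_mem e.2) u u.2).symm
      rw [← hg₀ u hu1] at he
      calc (g₀ u)⁻¹ * (e : G)⁻¹ * g₀ u * J
          = (g₀ u)⁻¹ * ((e : G)⁻¹ * (g₀ u * J * (g₀ u)⁻¹)) * g₀ u := by group
        _ = J * ((g₀ u)⁻¹ * (e : G)⁻¹ * g₀ u) := by rw [he]; group
    · intro e _
      refine Finset.mem_filter.mpr ⟨Finset.mem_univ _, ?_⟩
      simp only [Subgroup.coe_mul]
      group
    · intro e _ e' _ h
      exact Subtype.ext (by simpa using congrArg (fun x => ((x.1 : _) : G)) h)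
    · rintro ⟨c', d'⟩ h
      have h' : (c' : G) * g₀ u * d' = c * g₀ u * d := (Finset.mem_filter.mp h).2
      have hek : ((c : G)⁻¹ * c') * u = u * ((c : G)⁻¹ * c') := by
        have e1 : (c : G)⁻¹ * c' = g₀ u * ((d : G) * (d' : G)⁻¹) * (g₀ u)⁻¹ := by
          calc (c : G)⁻¹ * c' = (c : G)⁻¹ * ((c' : G) * g₀ u * d') * ((d' : G)⁻¹ * (g₀ u)⁻¹) := by group
            _ = _ := by rw [h']; group
        have hd := Subgroup.mem_centralizer_singleton_iff.mp (d * d'⁻¹).2
        simp only [Subgroup.coe_mul, InvMemClass.coe_inv] at hd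
        rw [e1, ← hg₀ u hu1]
        calc g₀ u * ((d : G) * (d' : G)⁻¹) * (g₀ u)⁻¹ * (g₀ u * J * (g₀ u)⁻¹)
            = g₀ u * ((d : G) * (d' : G)⁻¹ * J) * (g₀ u)⁻¹ := by group
          _ = _ := by rw [hd]; group
      refine ⟨⟨(c : G)⁻¹ * c', hgen _ (mul_mem (inv_mem c.2) c'.2) hek⟩, Finset.mem_univ _, ?_⟩
      refine Prod.ext (Subtype.ext (by simp)) (Subtype.ext ?_)
      simp only [Subgroup.coe_mul]
      calc (g₀ u)⁻¹ * ((c : G)⁻¹ * c')⁻¹ * g₀ u * d = ((c' : G) * g₀ u)⁻¹ * (c * g₀ u * d) := by group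
        _ = d' := by rw [← h']; group
  -- the column identity
  have hc : ∀ (χ : IrrCharacter G) (g : G), (χ : G → ℂ) J ^ 2 / (χ : G → ℂ) 1 * (χ : G → ℂ) g =
      (Nat.card G : ℂ)⁻¹ * ((Nat.card G : ℂ)⁻¹ * ∑ z : G, ∑ w : G,
        (χ : G → ℂ) ((z * J * z⁻¹) * (w * J * w⁻¹)) * (χ : G → ℂ) g) := by
    intro χ g
    have hz : ∀ z : G, ∑ w : G, (χ : G → ℂ) ((z * J * z⁻¹) * (w * J * w⁻¹)) =
        (Nat.card G : ℂ) * (χ : G → ℂ) J * (χ : G → ℂ) J / (χ : G → ℂ) 1 := by
      intro z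
      rw [eq_div_iff (irr_one_ne_zero χ.2), mul_comm, sum_conj_mul χ.2,
        isClassFunction_character (irr_isCharacter χ.2)]
    simp only [← Finset.sum_mul, hz, Finset.sum_const, Finset.card_univ, ← Nat.card_eq_fintype_card, nsmul_eq_mul]
    have : (Nat.card G : ℂ) ≠ 0 := Nat.cast_ne_zero.mpr Nat.card_pos.ne'
    field_simp
  have hΨ : ∀ k : G, ∑ χ : IrrCharacter G, (χ : G → ℂ) J ^ 2 / (χ : G → ℂ) 1 * (χ : G → ℂ) k =
      (Nat.card G : ℂ)⁻¹ *
        ((Finset.univ : Finset (G × G)).filter fun zw => (zw.1 * J * zw.1⁻¹) * (zw.2 * J * zw.2⁻¹) = k⁻¹).card := by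
    intro k
    simp only [hc, ← Finset.mul_sum]
    rw [Finset.sum_comm]
    simp only [Finset.sum_comm (γ := IrrCharacter G)]
    have e : ∀ h : G, ∑ χ : IrrCharacter G, (χ : G → ℂ) h * (χ : G → ℂ) k =
        if IsConj h k⁻¹ then (Nat.card G : ℂ) / Nat.card {x : G // IsConj k⁻¹ x} else 0 := by
      intro h
      rw [← second_orth]
      exact Finset.sum_congr rfl fun χ _ => by rw [← char_inv (irr_isCharacter χ.2), inv_inv]
    simp only [e]
    rw [← Fintype.sum_prod_type' (f := fun z w => if IsConj ((z * J * z⁻¹) * (w * J * w⁻¹)) k⁻¹ then _ else _),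
      ← Finset.sum_filter, Finset.sum_const, nsmul_eq_mul]
    set F := fun zw : G × G => (zw.1 * J * zw.1⁻¹) * (zw.2 * J * zw.2⁻¹) with hF
    have hfib : ∀ h, IsConj k⁻¹ h → (Finset.univ.filter fun zw => F zw = h).card =
        (Finset.univ.filter fun zw => F zw = k⁻¹).card := by
      intro h hh
      obtain ⟨g, hg⟩ := isConj_iff.mp hh
      refine Finset.card_bij (fun zw _ => (g⁻¹ * zw.1, g⁻¹ * zw.2)) ?_ ?_ ?_
      · intro zw hzw
        have := (Finset.mem_filter.mp hzw).2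
        refine Finset.mem_filter.mpr ⟨Finset.mem_univ _, ?_⟩
        simp only [hF] at this ⊢
        calc g⁻¹ * zw.1 * J * (g⁻¹ * zw.1)⁻¹ * (g⁻¹ * zw.2 * J * (g⁻¹ * zw.2)⁻¹)
            = g⁻¹ * (zw.1 * J * zw.1⁻¹ * (zw.2 * J * zw.2⁻¹)) * g := by group
          _ = k⁻¹ := by rw [this, ← hg]; group
      · intro a _ b _ hab
        exact Prod.ext (mul_left_cancel (congrArg Prod.fst hab)) (mul_left_cancel (congrArg Prod.snd hab))
      · intro zw hzw
        have := (Finset.mem_filter.mp hzw).2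
        refine ⟨(g * zw.1, g * zw.2), Finset.mem_filter.mpr ⟨Finset.mem_univ _, ?_⟩, by simp⟩
        simp only [hF] at this ⊢
        calc g * zw.1 * J * (g * zw.1)⁻¹ * (g * zw.2 * J * (g * zw.2)⁻¹)
            = g * (zw.1 * J * zw.1⁻¹ * (zw.2 * J * zw.2⁻¹)) * g⁻¹ := by group
          _ = h := by rw [this, hg]
    have hsum : (Finset.univ.filter fun zw => IsConj (F zw) k⁻¹).card =
        Nat.card {x : G // IsConj k⁻¹ x} * (Finset.univ.filter fun zw => F zw = k⁻¹).card := by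
      rw [Finset.card_eq_sum_card_fiberwise (t := Finset.univ.filter fun h : G => IsConj k⁻¹ h)
        (f := F) (fun zw hzw => Finset.mem_filter.mpr ⟨Finset.mem_univ _, ((Finset.mem_filter.mp hzw).2).symm⟩),
        Finset.sum_congr rfl (g := fun _ => (Finset.univ.filter fun zw => F zw = k⁻¹).card) (fun h hh => by
          rw [← hfib h (Finset.mem_filter.mp hh).2, Finset.filter_filter]
          congr 1
          ext zw
          simp only [Finset.mem_filter, Finset.mem_univ, true_and]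
          exact ⟨fun h' => h'.2, fun h' => ⟨h' ▸ ((Finset.mem_filter.mp hh).2).symm, h'⟩⟩),
        Finset.sum_const, smul_eq_mul, Nat.card_eq_fintype_card, Fintype.card_subtype]
    rw [hsum, Nat.cast_mul]
    have h1 : (Nat.card {x : G // IsConj k⁻¹ x} : ℂ) ≠ 0 := Nat.cast_ne_zero.mpr (card_conjClass_ne_zero _)
    have h2 : (Nat.card G : ℂ) ≠ 0 := Nat.cast_ne_zero.mpr Nat.card_pos.ne'
    field_simp
    rfl
  -- the pairs over the section
  set F := fun zw : G × G => (zw.1 * J * zw.1⁻¹) * (zw.2 * J * zw.2⁻¹) with hF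
  set u' : ↥(P : Subgroup G) → ↥(P : Subgroup G) := fun u => u * ⟨J, hJ⟩ with hu'
  have hu'T : ∀ u ∈ T, (u' u : G) ≠ 1 ∧ u' u ∈ T := by
    intro u hu
    obtain ⟨hu1, huJ⟩ := (Finset.mem_filter.mp hu).2
    have h1 : (u : G) * J ≠ 1 := fun h => huJ (by rw [eq_inv_of_mul_eq_one_left h, hJi])
    exact ⟨h1, Finset.mem_filter.mpr ⟨Finset.mem_univ _, h1, fun h => hu1 (mul_eq_right.mp h)⟩⟩
  set S := Finset.univ.filter fun zw : G × G =>
    ∃ y : Subgroup.centralizer ({J} : Set G), ¬ 2 ∣ orderOf y ∧ F zw = J * (y : G) with hS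
  have hSeq : S = T.biUnion fun u => Z u ×ˢ Z (u' u) := by
    ext ⟨z, w⟩
    simp only [hS, Finset.mem_filter, Finset.mem_univ, true_and, Finset.mem_biUnion, Finset.mem_product]
    constructor
    · rintro ⟨y, hy, hzw⟩
      have hzw' : (z * J * z⁻¹) * (w * J * w⁻¹) = J * (y : G) := hzw
      have hJy : Commute J (y : G) := (Subgroup.mem_centralizer_singleton_iff.mp y.2).symm
      have h1 : IsPPart 2 (J * (y : G)) J :=
        ⟨y, rfl, hJy, ⟨1, by rw [hJ2, pow_one]⟩, by rwa [Subgroup.orderOf_coe]⟩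
      set a := z * J * z⁻¹ with ha
      have haa : a * a = 1 := by rw [ha, conj_mul, hJJ, mul_one, mul_inv_cancel]
      have hai : a⁻¹ = a := inv_eq_of_mul_eq_one_left haa
      have hainv : a * (J * (y : G)) * a⁻¹ = (J * (y : G))⁻¹ := by
        have e : ∀ α β : G, α * α = 1 → β * β = 1 → α * (α * β) * α⁻¹ = (α * β)⁻¹ := fun α β h1 h2 => by
          rw [mul_inv_rev, inv_eq_of_mul_eq_one_left h1, inv_eq_of_mul_eq_one_left h2, ← mul_assoc, h1, one_mul]
        rw [← hzw']
        exact e a (w * J * w⁻¹) haa (by rw [conj_mul, hJJ, mul_one, mul_inv_cancel])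
      have h2 : IsPPart 2 (J * (y : G))⁻¹ (a * J * a⁻¹) :=
        ⟨a * y * a⁻¹, by rw [conj_mul, hainv], hJy.map (MulAut.conj a).toMonoidHom,
          ⟨1, by rw [← MulAut.conj_apply, MulEquiv.orderOf_eq, hJ2, pow_one]⟩,
          by rw [← MulAut.conj_apply, MulEquiv.orderOf_eq, Subgroup.orderOf_coe]; exact hy⟩
      have h3 : IsPPart 2 (J * (y : G))⁻¹ J :=
        ⟨(y : G)⁻¹, by rw [mul_inv_rev, hJi]; exact hJy.inv_right.eq, hJy.inv_right,
          ⟨1, by rw [hJ2, pow_one]⟩, by rw [orderOf_inv, Subgroup.orderOf_coe]; exact hy⟩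
      have haC : a ∈ Subgroup.centralizer ({J} : Set G) :=
        Subgroup.mem_centralizer_singleton_iff.mpr
          (mul_inv_eq_iff_eq_mul.mp (isPPart_unique Nat.prime_two h2 h3))
      have hbC : w * J * w⁻¹ ∈ Subgroup.centralizer ({J} : Set G) := by
        rw [show w * J * w⁻¹ = a⁻¹ * (J * (y : G)) by rw [← hzw']; group]
        exact mul_mem (inv_mem haC) (mul_mem (hPC hJ) y.2)
      obtain ⟨u, hu1, hzu⟩ := hfind z haC
      obtain ⟨v, hv1, hwv⟩ := hfind w hbC
      obtain ⟨c, hcu⟩ := hZmem u z hu1 hzu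
      obtain ⟨d, hdv⟩ := hZmem v w hv1 hwv
      have hprod : (c * ι u * c⁻¹) * (d * ι v * d⁻¹) = ι ⟨J, hJ⟩ * y := Subtype.ext (by
        rw [Subgroup.coe_mul, ← hcu, ← hdv, hzw']; rfl)
      have huv : u * v = ⟨J, hJ⟩ := hqinj (by
        show q (ι (u * v)) = q (ι ⟨J, hJ⟩)
        have hy1 : q y = 1 := (QuotientGroup.eq_one_iff y).mpr (hKreg y hy)
        rw [map_mul ι, map_mul q, ← hqconj u c, ← hqconj v d, ← map_mul q, hprod, map_mul q, hy1, mul_one])
      have hv : v = u' u := by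
        calc v = u * (u * v) := by rw [← mul_assoc, hexp u, one_mul]
          _ = u' u := by rw [huv]
      refine ⟨u, Finset.mem_filter.mpr ⟨Finset.mem_univ _, hu1, fun h => hv1 ?_⟩, hzu, hv ▸ hwv⟩
      rw [hv, hu']
      show (u : G) * J = 1
      rw [h, hJJ]
    · rintro ⟨u, hu, hzu, hwv⟩
      obtain ⟨hu1, -⟩ := (Finset.mem_filter.mp hu).2
      obtain ⟨c, hcu⟩ := hZmem u z hu1 hzu
      obtain ⟨d, hdv⟩ := hZmem _ w (hu'T u hu).1 hwv
      refine ⟨(ι ⟨J, hJ⟩)⁻¹ * ((c * ι u * c⁻¹) * (d * ι (u' u) * d⁻¹)), (hKmem _).mp ?_, ?_⟩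
      · rw [← QuotientGroup.eq_one_iff]
        show q _ = 1
        rw [map_mul q, map_inv q, map_mul q (c * ι u * c⁻¹), hqconj, hqconj, ← map_mul q, ← map_mul ι,
          show u * u' u = ⟨J, hJ⟩ by rw [hu', ← mul_assoc, hexp u, one_mul], inv_mul_cancel]
      · show z * J * z⁻¹ * (w * J * w⁻¹) = _
        rw [hcu, hdv]
        simp only [Subgroup.coe_mul, InvMemClass.coe_inv]
        show _ = J * (J⁻¹ * _)
        rw [mul_inv_cancel_left]
  have hScard : S.card * Nat.card (Subgroup.centralizer ((P : Subgroup G) : Set G)) ^ 2 =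
      2 * Nat.card (Subgroup.centralizer ({J} : Set G)) ^ 4 := by
    rw [hSeq, Finset.card_biUnion, Finset.sum_mul, Finset.sum_congr rfl (g := fun _ =>
      Nat.card (Subgroup.centralizer ({J} : Set G)) ^ 4), Finset.sum_const, hTcard, smul_eq_mul]
    · intro u hu
      rw [Finset.card_product]
      calc (Z u).card * (Z (u' u)).card * Nat.card (Subgroup.centralizer ((P : Subgroup G) : Set G)) ^ 2
          = ((Z u).card * Nat.card (Subgroup.centralizer ((P : Subgroup G) : Set G))) *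
            ((Z (u' u)).card * Nat.card (Subgroup.centralizer ((P : Subgroup G) : Set G))) := by ring
        _ = _ := by rw [hZcard u hu, hZcard _ (hu'T u hu).2]; ring
    · intro u hu v hv huv
      rw [Function.onFun, Finset.disjoint_left]
      rintro ⟨z, w⟩ h1 h2
      obtain ⟨c, hc1⟩ := hZmem u z (Finset.mem_filter.mp hu).2.1 (Finset.mem_product.mp h1).1
      obtain ⟨d, hd1⟩ := hZmem v z (Finset.mem_filter.mp hv).2.1 (Finset.mem_product.mp h2).1
      refine huv (hqinj ?_)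
      show q (ι u) = q (ι v)
      rw [← hqconj u c, ← hqconj v d, show c * ι u * c⁻¹ = d * ι v * d⁻¹ from Subtype.ext (hc1.symm.trans hd1)]
  have hsum : ∑ y : Subgroup.centralizer ({J} : Set G) with ¬ 2 ∣ orderOf y,
      ∑ χ : IrrCharacter G, (χ : G → ℂ) J ^ 2 / (χ : G → ℂ) 1 * (χ : G → ℂ) (J * (y : G)) =
      (Nat.card G : ℂ)⁻¹ * S.card := by
    simp only [hΨ, ← Finset.mul_sum, ← Nat.cast_sum]
    congr 2
    rw [Finset.card_eq_sum_card_fiberwise (f := F)
      (t := (Finset.univ.filter fun y : Subgroup.centralizer ({J} : Set G) => ¬ 2 ∣ orderOf y).image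
        fun y : Subgroup.centralizer ({J} : Set G) => J * (y : G)) (s := S)
      (fun zw hzw => by
        obtain ⟨y, hy, e⟩ := (Finset.mem_filter.mp hzw).2
        exact Finset.mem_image.mpr ⟨y, (Finset.mem_filter (p := fun y : Subgroup.centralizer ({J} : Set G) => ¬ 2 ∣ orderOf y)).mpr ⟨Finset.mem_univ _, hy⟩, e.symm⟩),
      Finset.sum_image (fun a _ b _ h => Subtype.ext (mul_left_cancel h))]
    refine Finset.sum_bij (fun y _ => y⁻¹) ?_ ?_ ?_ ?_
    · intro y hy
      simpa using hy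
    · intro a _ b _ h
      exact inv_injective h
    · intro y hy
      exact ⟨y⁻¹, by simpa using hy, inv_inv y⟩
    · intro y hy
      have hcm : (J * (y : G))⁻¹ = J * ((y⁻¹ : Subgroup.centralizer ({J} : Set G)) : G) := by
        rw [mul_inv_rev, hJi, InvMemClass.coe_inv]
        exact ((show Commute J (y : G) from (Subgroup.mem_centralizer_singleton_iff.mp y.2).symm).inv_right).eq.symm
      rw [hcm]
      congr 1
      ext zw
      simp only [hS, Finset.mem_filter, Finset.mem_univ, true_and]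
      exact ⟨fun h => ⟨⟨y⁻¹, by rw [orderOf_inv]; exact (Finset.mem_filter.mp hy).2, h⟩, h⟩, fun h => h.2⟩
  have h := section_principal_sum hM ⟨1, by rw [hJ2, pow_one]⟩ K hKc hKreg (k := 2) (by rw [hKi]; norm_num)
    (fun χ => (χ : G → ℂ) J ^ 2 / (χ : G → ℂ) 1)
  rw [hsum, hKi] at h
  rw [Finset.sum_congr rfl (g := fun χ : IrrCharacter G => (χ : G → ℂ) J ^ 2 / (χ : G → ℂ) 1 * (χ : G → ℂ) J)
    (fun χ _ => by ring), h]
  have h1 : (Nat.card G : ℂ) ≠ 0 := Nat.cast_ne_zero.mpr Nat.card_pos.ne'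
  have h2 : (Nat.card (Subgroup.centralizer ({J} : Set G)) : ℂ) ≠ 0 := Nat.cast_ne_zero.mpr Nat.card_pos.ne'
  have h3 : (S.card : ℂ) * (Nat.card (Subgroup.centralizer ((P : Subgroup G) : Set G)) : ℂ) ^ 2 =
      2 * (Nat.card (Subgroup.centralizer ({J} : Set G)) : ℂ) ^ 4 := by exact_mod_cast hScard
  field_simp
  push_cast
  linear_combination 4 * h3

end Cfsg.Agent.Char

namespace Cfsg.Agent.Char

universe u
variable {G : Type u} [Group G] [Fintype G] {M : Ideal AlgInt}

theorem four_sylow_setup {g₀ : ℕ} (hg₀ : Odd g₀) (hG : Nat.card G = 4 * g₀)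
    (hnc : ¬ ∃ N : Subgroup G, N.Normal ∧ Nat.card N = g₀) (P : Sylow 2 G) :
    Nat.card P = 4 ∧ (∀ x : P, x * x = 1) ∧
      ∀ s t : G, orderOf s = 2 → orderOf t = 2 → IsConj s t := by
  haveI : Fact (Nat.Prime 2) := ⟨Nat.prime_two⟩
  have hP : Nat.card P = 4 := by
    have h := P.card_eq_multiplicity
    rw [hG, Nat.factorization_mul (by norm_num) (Nat.ne_of_odd_add (by simpa using hg₀) : g₀ ≠ 0)] at h
    rw [Finsupp.add_apply, show (4 : ℕ) = 2 ^ 2 by norm_num, Nat.Prime.factorization_pow Nat.prime_two,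
      Finsupp.single_eq_same, Nat.factorization_eq_zero_of_not_dvd
        (fun h => (Nat.not_even_iff_odd.mpr hg₀) (even_iff_two_dvd.mpr h))] at h
    simpa using h
  refine ⟨hP, one_class_of_four P hP ?_⟩
  rintro ⟨N, hN, hc⟩
  refine hnc ⟨N, hN, ?_⟩
  have h := hc.card_mul
  rw [show Nat.card (P : Subgroup G) = 4 from hP, hG] at h
  omega

/-- The two equations for the degrees. -/
theorem four_equations (hM : IsPModular 2 M) (P : Sylow 2 G) (hP : Nat.card P = 4)
    (hexp : ∀ x : P, x * x = 1) (hone : ∀ s t : G, orderOf s = 2 → orderOf t = 2 → IsConj s t)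
    {J : G} (hJ : J ∈ (P : Subgroup G)) (hJ2 : orderOf J = 2)
    {χ₁ χ₂ χ₃ : IrrCharacter G} {ε₁ ε₂ ε₃ : ℤ}
    (hB : principalBlock M G = {χ : IrrCharacter G | (χ : G → ℂ) = (fun _ => 1) ∨ χ = χ₁ ∨ χ = χ₂ ∨ χ = χ₃})
    (hdist : (χ₁ : G → ℂ) ≠ (fun _ => 1) ∧ (χ₂ : G → ℂ) ≠ (fun _ => 1) ∧ (χ₃ : G → ℂ) ≠ (fun _ => 1) ∧
      χ₁ ≠ χ₂ ∧ χ₁ ≠ χ₃ ∧ χ₂ ≠ χ₃)
    (hε : (ε₁ = 1 ∨ ε₁ = -1) ∧ (ε₂ = 1 ∨ ε₂ = -1) ∧ (ε₃ = 1 ∨ ε₃ = -1))
    (hval : (χ₁ : G → ℂ) J = ε₁ ∧ (χ₂ : G → ℂ) J = ε₂ ∧ (χ₃ : G → ℂ) J = ε₃) :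
    (1 + ε₁ * (charDegree (χ₁ : G → ℂ) : ℤ) + ε₂ * charDegree (χ₂ : G → ℂ) +
        ε₃ * charDegree (χ₃ : G → ℂ) = 0) ∧
      (1 + (ε₁ : ℚ) / charDegree (χ₁ : G → ℂ) + (ε₂ : ℚ) / charDegree (χ₂ : G → ℂ) +
          (ε₃ : ℚ) / charDegree (χ₃ : G → ℂ)) *
        ((Nat.card G : ℚ) * (Nat.card (Subgroup.centralizer ((P : Subgroup G) : Set G)) : ℚ) ^ 2) =
        8 * (Nat.card (Subgroup.centralizer ({J} : Set G)) : ℚ) ^ 3 ∧
      1 + indicator2 (χ₁ : G → ℂ) * ε₁ + indicator2 (χ₂ : G → ℂ) * ε₂ +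
        indicator2 (χ₃ : G → ℂ) * ε₃ = 0 := by
  classical
  obtain ⟨n1, n2, n3, h12, h13, h23⟩ := hdist
  obtain ⟨v1, v2, v3⟩ := hval
  have hJ1 : J ≠ 1 := fun h => by simp [h] at hJ2
  set one : IrrCharacter G := ⟨fun _ => 1, isIrrCharacter_one⟩ with hone'
  have hset : (Finset.univ.filter fun χ : IrrCharacter G => χ ∈ principalBlock M G) = {one, χ₁, χ₂, χ₃} := by
    ext χ
    simp only [Finset.mem_filter, Finset.mem_univ, true_and, hB, Set.mem_setOf_eq, Finset.mem_insert,
      Finset.mem_singleton]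
    exact or_congr ⟨fun h => Subtype.ext h, fun h => by rw [h]⟩ Iff.rfl
  have h01 : one ≠ χ₁ := fun h => n1 (by rw [← h])
  have h02 : one ≠ χ₂ := fun h => n2 (by rw [← h])
  have h03 : one ≠ χ₃ := fun h => n3 (by rw [← h])
  have hsum : ∀ F : IrrCharacter G → ℂ, ∑ χ : IrrCharacter G with χ ∈ principalBlock M G, F χ =
      F one + F χ₁ + F χ₂ + F χ₃ := fun F => by
    rw [hset, Finset.sum_insert (by simp [h01, h02, h03]), Finset.sum_insert (by simp [h12, h13]),
      Finset.sum_pair h23]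
    ring
  have hd : ∀ χ : IrrCharacter G, (χ : G → ℂ) 1 = (charDegree (χ : G → ℂ) : ℂ) := fun χ => by
    rw [char_one_eq_deg (irr_isCharacter χ.2), charDegree_eq_deg]
  have hd0 : ∀ χ : IrrCharacter G, (charDegree (χ : G → ℂ) : ℚ) ≠ 0 := fun χ => by
    rw [charDegree_eq_deg]; exact Nat.cast_ne_zero.mpr (deg_pos χ.2).ne'
  have o1 : (one : G → ℂ) J = 1 := rfl
  refine ⟨?_, ?_, ?_⟩
  · have h := weak_orthogonality hM (isPBlock_principalBlock (G := G) M) (x := (1 : G)) (y := J)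
      (by simp) (by rw [hJ2])
    rw [finsum_mem_irr, hsum] at h
    simp only [v1, v2, v3, o1, map_intCast, map_one, hd, show (charDegree (one : G → ℂ) : ℂ) = 1 from
      (hd one).symm] at h
    have h' : ((1 + ε₁ * (charDegree (χ₁ : G → ℂ) : ℤ) + ε₂ * charDegree (χ₂ : G → ℂ) +
        ε₃ * charDegree (χ₃ : G → ℂ) : ℤ) : ℂ) = 0 := by
      push_cast; linear_combination h
    exact_mod_cast h'
  · have h := four_count hM P hP hexp hone hJ hJ1
    rw [hsum] at h
    simp only [v1, v2, v3, o1, show (one : G → ℂ) 1 = 1 from rfl, one_pow, div_one] at h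
    have hc : ∀ e : ℤ, (e = 1 ∨ e = -1) → (e : ℂ) ^ 3 = (e : ℂ) := fun e he => by
      rcases he with rfl | rfl <;> norm_num
    rw [hc _ hε.1, hc _ hε.2.1, hc _ hε.2.2, hd, hd, hd] at h
    apply Rat.cast_injective (α := ℂ)
    push_cast
    exact h
  · have h := four_indicator hM P hP hexp hJ hJ1
    rw [hsum] at h
    rw [v1, v2, v3, o1] at h
    have hi : indicator2 (one : G → ℂ) = 1 := by
      simp [indicator2, hone', Nat.card_eq_fintype_card]
    rwa [hi, one_mul] at h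

end Cfsg.Agent.Char
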