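import Cfsg.Agent.Lib.Char.BrauerChain

/-!
# Conjugation of Brauer pairs
-/

set_option autoImplicit false

namespace Cfsg.Agent.Char

open Cfsg Module
open scoped ComplexConjugate

universe u

variable {G : Type u} [Group G] {M : Ideal AlgInt} {p : ℕ}

section Transport

variable {H K : Type u} [Group H] [Group K] [Fintype H] [Fintype K]

/-- Transport of irreducible characters along an isomorphism. -/
noncomputable def irrTransport (e : H ≃* K) (χ : IrrCharacter K) : IrrCharacter H :=
  ⟨fun x => (χ : K → ℂ) (e x), isIrrCharacter_comp_equiv e χ.2⟩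

theorem irrTransport_apply (e : H ≃* K) (χ : IrrCharacter K) (x : H) :
    (irrTransport e χ : H → ℂ) x = (χ : K → ℂ) (e x) := rfl

theorem irrTransport_symm (e : H ≃* K) (χ : IrrCharacter K) :
    irrTransport e.symm (irrTransport e χ) = χ :=
  Subtype.ext (funext fun x => by rw [irrTransport_apply, irrTransport_apply, e.apply_symm_apply])

theorem irrTransport_injective (e : H ≃* K) : Function.Injective (irrTransport e) := fun a b h => by
  rw [← irrTransport_symm e a, h, irrTransport_symm]

theorem omega_transport (e : H ≃* K) (χ : IrrCharacter K) (g : H) :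
    omega (irrTransport e χ : H → ℂ) g = omega (χ : K → ℂ) (e g) := by
  have hcard : Nat.card {x : K // IsConj (e g) x} = Nat.card {x : H // IsConj g x} := by
    refine Nat.card_congr (Equiv.subtypeEquiv e.symm.toEquiv fun x => ?_)
    constructor
    · intro h
      have := e.symm.toMonoidHom.map_isConj h
      simpa using this
    · intro h
      have := e.toMonoidHom.map_isConj h
      simpa using this
  rw [omega, omega, irrTransport_apply, irrTransport_apply, map_one, hcard]

theorem sameBlock_transport (e : H ≃* K) {χ ψ : IrrCharacter K}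
    (h : SameBlock M (χ : K → ℂ) (ψ : K → ℂ)) :
    SameBlock M (irrTransport e χ : H → ℂ) (irrTransport e ψ : H → ℂ) := fun g => by
  have h1 := h (e g)
  rwa [← omega_eq_centralChar, ← omega_eq_centralChar, ← omega_transport, ← omega_transport,
    omega_eq_centralChar, omega_eq_centralChar] at h1

theorem isPBlock_transport (e : H ≃* K) {b : Set (IrrCharacter K)} (hb : IsPBlock M b) :
    IsPBlock M (irrTransport e '' b) := by
  obtain ⟨ξ, rfl⟩ := hb
  refine ⟨irrTransport e ξ, Set.ext fun ψ => ⟨?_, fun h => ?_⟩⟩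
  · rintro ⟨η, hη, rfl⟩
    exact sameBlock_transport e hη
  · refine ⟨irrTransport e.symm ψ, ?_, by
      have := irrTransport_symm e.symm ψ
      rwa [MulEquiv.symm_symm] at this⟩
    have h1 := sameBlock_transport e.symm (χ := irrTransport e ξ) (ψ := ψ) h
    rw [irrTransport_symm] at h1
    exact h1

theorem blockCoeff_transport (e : H ≃* K) (b : Set (IrrCharacter K)) (x : H) :
    blockCoeff (irrTransport e '' b) x = blockCoeff b (e x) := by
  simp only [blockCoeff]
  rw [finsum_mem_image (Set.injOn_of_injective (irrTransport_injective e)),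
    Nat.card_congr e.toEquiv]
  simp only [irrTransport_apply, map_one]

end Transport

variable [Fintype G]

theorem mem_centralizer_map {Q : Subgroup G} (x : G) {c : G} :
    c ∈ Subgroup.centralizer (Q : Set G) ↔
      x * c * x⁻¹ ∈ Subgroup.centralizer ((Q.map (MulAut.conj x).toMonoidHom : Subgroup G) : Set G) := by
  constructor
  · rintro h _ ⟨w, hw, rfl⟩
    show x * w * x⁻¹ * (x * c * x⁻¹) = x * c * x⁻¹ * (x * w * x⁻¹)
    calc x * w * x⁻¹ * (x * c * x⁻¹) = x * (w * c) * x⁻¹ := by group
      _ = x * (c * w) * x⁻¹ := by rw [h w hw]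
      _ = _ := by group
  · intro h w hw
    have h1 : x * w * x⁻¹ * (x * c * x⁻¹) = x * c * x⁻¹ * (x * w * x⁻¹) :=
      h (x * w * x⁻¹) ⟨w, hw, rfl⟩
    calc w * c = x⁻¹ * (x * w * x⁻¹ * (x * c * x⁻¹)) * x := by group
      _ = x⁻¹ * (x * c * x⁻¹ * (x * w * x⁻¹)) * x := by rw [h1]
      _ = c * w := by group

/-- Conjugation between centralizers. -/
def centConj (Q : Subgroup G) (x : G) : Subgroup.centralizer (Q : Set G) ≃*
    Subgroup.centralizer ((Q.map (MulAut.conj x).toMonoidHom : Subgroup G) : Set G) where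
  toFun c := ⟨x * (c : G) * x⁻¹, (mem_centralizer_map x).mp c.2⟩
  invFun c := ⟨x⁻¹ * (c : G) * x, (mem_centralizer_map x).mpr (by
    rw [show x * (x⁻¹ * (c : G) * x) * x⁻¹ = c by group]; exact c.2)⟩
  left_inv c := Subtype.ext (by simp [mul_assoc])
  right_inv c := Subtype.ext (by simp [mul_assoc])
  map_mul' a b := Subtype.ext (by
    show x * ((a : G) * (b : G)) * x⁻¹ = x * (a : G) * x⁻¹ * (x * (b : G) * x⁻¹)
    group)

omit [Fintype G] in
theorem map_conj_mul (Q : Subgroup G) (x y : G) :
    (Q.map (MulAut.conj y).toMonoidHom).map (MulAut.conj x).toMonoidHom =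
      Q.map (MulAut.conj (x * y)).toMonoidHom := by
  rw [Subgroup.map_map]
  congr 1
  ext z
  simp

theorem conjBlock_eq (Q : Subgroup G) (x : G)
    (f : Set (IrrCharacter (Subgroup.centralizer (Q : Set G))))
    [Fintype (Subgroup.centralizer (Q : Set G))]
    [Fintype (Subgroup.centralizer ((Q.map (MulAut.conj x).toMonoidHom : Subgroup G) : Set G))] :
    conjBlock Q x f = irrTransport (centConj Q x).symm '' f := by
  ext ξ'
  constructor
  · rintro ⟨ξ, hξ, h⟩
    refine ⟨ξ, hξ, Subtype.ext (funext fun c' => ?_)⟩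
    rw [irrTransport_apply]
    exact (h ((centConj Q x).symm c') c' (by
      show (c' : G) = x * (x⁻¹ * (c' : G) * x) * x⁻¹
      group)).symm
  · rintro ⟨ξ, hξ, rfl⟩
    refine ⟨ξ, hξ, fun c c' h => ?_⟩
    rw [irrTransport_apply]
    exact congrArg _ ((MulEquiv.symm_apply_eq _).mpr (Subtype.ext h))

theorem isPBlock_conjBlock {Q : Subgroup G} (x : G)
    {f : Set (IrrCharacter (Subgroup.centralizer (Q : Set G)))} (hf : IsPBlock M f) :
    IsPBlock M (conjBlock Q x f) := by
  haveI := Fintype.ofFinite (Subgroup.centralizer (Q : Set G))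
  haveI := Fintype.ofFinite
    (Subgroup.centralizer ((Q.map (MulAut.conj x).toMonoidHom : Subgroup G) : Set G))
  rw [conjBlock_eq]
  exact isPBlock_transport _ hf

theorem subgroupBlockCoeff_conj (Q : Subgroup G) (x : G)
    (f : Set (IrrCharacter (Subgroup.centralizer (Q : Set G)))) (y : G) :
    subgroupBlockCoeff (Subgroup.centralizer ((Q.map (MulAut.conj x).toMonoidHom : Subgroup G) : Set G))
      (conjBlock Q x f) (x * y * x⁻¹) =
      subgroupBlockCoeff (Subgroup.centralizer (Q : Set G)) f y := by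
  haveI := Fintype.ofFinite (Subgroup.centralizer (Q : Set G))
  haveI := Fintype.ofFinite
    (Subgroup.centralizer ((Q.map (MulAut.conj x).toMonoidHom : Subgroup G) : Set G))
  rw [subgroupBlockCoeff_eq, subgroupBlockCoeff_eq, conjBlock_eq]
  by_cases hy : y ∈ Subgroup.centralizer (Q : Set G)
  · rw [extendByZero_mem _ _ hy, extendByZero_mem _ _ ((mem_centralizer_map x).mp hy),
      blockCoeff_transport]
    exact congrArg _ ((MulEquiv.symm_apply_eq _).mpr rfl)
  · rw [extendByZero_not_mem _ _ hy,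
      extendByZero_not_mem _ _ (fun h => hy ((mem_centralizer_map x).mpr h))]

theorem brOne_conj {T : Subgroup G} (x : G) {F F' : G → ℂ} (hF : ∀ y, F' (x * y * x⁻¹) = F y)
    {e : Set (IrrCharacter (Subgroup.centralizer (T : Set G)))} (h : BrOne M T F e) :
    BrOne M (T.map (MulAut.conj x).toMonoidHom) F' (conjBlock T x e) := by
  haveI := Fintype.ofFinite (Subgroup.centralizer (T : Set G))
  haveI := Fintype.ofFinite
    (Subgroup.centralizer ((T.map (MulAut.conj x).toMonoidHom : Subgroup G) : Set G))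
  rw [conjBlock_eq]
  rintro _ ⟨ξ, hξ, rfl⟩
  have h1 := h ξ hξ
  rw [brauerOmega_eq] at h1 ⊢
  convert h1 using 2
  simp only [lam, irrTransport_apply, map_one]
  congr 1
  refine (Fintype.sum_equiv (centConj T x).toEquiv _ _ fun c => ?_).symm
  simp only [MulEquiv.toEquiv_eq_coe, EquivLike.coe_coe, MulEquiv.symm_apply_apply, tr_apply]
  rw [show ((centConj T x c : Subgroup.centralizer
    ((T.map (MulAut.conj x).toMonoidHom : Subgroup G) : Set G)) : G) = x * (c : G) * x⁻¹ from rfl, hF]

theorem brauerPair_conj {Q : Subgroup G} (x : G)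
    {f : Set (IrrCharacter (Subgroup.centralizer (Q : Set G)))} (h : IsBrauerPair p M Q f) :
    IsBrauerPair p M (Q.map (MulAut.conj x).toMonoidHom) (conjBlock Q x f) :=
  ⟨h.1.map _, isPBlock_conjBlock x h.2⟩

theorem brauerPairOf_conj {B : Set (IrrCharacter G)} {Q : Subgroup G} (x : G)
    {f : Set (IrrCharacter (Subgroup.centralizer (Q : Set G)))} (h : IsBrauerPairOf p M B Q f) :
    IsBrauerPairOf p M B (Q.map (MulAut.conj x).toMonoidHom) (conjBlock Q x f) :=
  ⟨brauerPair_conj x h.1, h.2.1, brOne_conj x (fun y => isClassFunction_blockCoeff B y x) h.2.2⟩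

theorem normalSubpair_conj (hM : IsPModular p M) {Q T : Subgroup G} (x : G)
    {f : Set (IrrCharacter (Subgroup.centralizer (Q : Set G)))}
    {e : Set (IrrCharacter (Subgroup.centralizer (T : Set G)))} (h : IsNormalSubpair p M Q f T e) :
    IsNormalSubpair p M (Q.map (MulAut.conj x).toMonoidHom) (conjBlock Q x f)
      (T.map (MulAut.conj x).toMonoidHom) (conjBlock T x e) := by
  obtain ⟨hf, he, hQT, hTN, hst, hone⟩ := h
  haveI := Fintype.ofFinite (Subgroup.centralizer (Q : Set G))
  haveI := Fintype.ofFinite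
    (Subgroup.centralizer ((Q.map (MulAut.conj x).toMonoidHom : Subgroup G) : Set G))
  have hN : ∀ u ∈ T, x * u * x⁻¹ ∈
      Subgroup.normalizer ((Q.map (MulAut.conj x).toMonoidHom : Subgroup G) : Set G) := by
    intro u hu
    rw [← Subgroup.map_equiv_normalizer_eq]
    exact ⟨u, hTN hu, rfl⟩
  refine ⟨brauerPair_conj x hf, brauerPair_conj x he, Subgroup.map_mono hQT, ?_, ?_, ?_⟩
  · rintro _ ⟨u, hu, rfl⟩
    exact hN u hu
  · rintro _ ⟨u, hu, rfl⟩
    refine stabilizes_of_blockCoeff (pmod_prime hM) (hN u hu) (isPBlock_conjBlock x hf.2) fun y => ?_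
    show subgroupBlockCoeff _ _ (x * u * x⁻¹ * y * (x * u * x⁻¹)⁻¹) = _
    rw [show x * u * x⁻¹ * y * (x * u * x⁻¹)⁻¹ = x * (u * (x⁻¹ * y * x) * u⁻¹) * x⁻¹ by group,
      subgroupBlockCoeff_conj, blockCoeff_conj_eq_of_stabilizes (hTN hu) (hst u hu),
      ← subgroupBlockCoeff_conj Q x f]
    congr 1
    group
  · exact brOne_conj x (subgroupBlockCoeff_conj Q x f) hone

/-- Conjugation of pair indices. -/
def conjIdx (x : G) (a : BrauerPairIdx G) : BrauerPairIdx G :=
  ⟨a.1.map (MulAut.conj x).toMonoidHom, conjBlock a.1 x a.2⟩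

theorem subpair_rel_conj (hM : IsPModular p M) (x : G) {a b : BrauerPairIdx G}
    (h : Relation.ReflTransGen (NormalSubpairRel p M) a b) :
    Relation.ReflTransGen (NormalSubpairRel p M) (conjIdx x a) (conjIdx x b) :=
  h.lift (conjIdx x) fun _ _ hab => normalSubpair_conj hM x hab

theorem idx_ext (hM : M.IsPrime) {Q Q' : Subgroup G} (hQ : Q = Q')
    {f : Set (IrrCharacter (Subgroup.centralizer (Q : Set G)))} (hf : IsPBlock M f)
    {f' : Set (IrrCharacter (Subgroup.centralizer (Q' : Set G)))} (hf' : IsPBlock M f')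
    (h : ∀ y, subgroupBlockCoeff (Subgroup.centralizer (Q : Set G)) f y =
      subgroupBlockCoeff (Subgroup.centralizer (Q' : Set G)) f' y) :
    (⟨Q, f⟩ : BrauerPairIdx G) = ⟨Q', f'⟩ := by
  subst hQ
  haveI := Fintype.ofFinite (Subgroup.centralizer (Q : Set G))
  obtain rfl : f = f' := blockCoeff_inj hM hf hf' (funext fun c => by
    have := h c
    rwa [subgroupBlockCoeff_eq, subgroupBlockCoeff_eq, extendByZero_mem _ _ c.2,
      extendByZero_mem _ _ c.2] at this)
  rfl

theorem conjIdx_mul (hM : M.IsPrime) (x y : G) (a : BrauerPairIdx G) (ha : IsPBlock M a.2) :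
    conjIdx x (conjIdx y a) = conjIdx (x * y) a := by
  refine idx_ext hM (map_conj_mul a.1 x y)
    (isPBlock_conjBlock x (isPBlock_conjBlock y ha)) (isPBlock_conjBlock (x * y) ha) fun z => ?_
  obtain ⟨w, rfl⟩ : ∃ w, z = x * y * w * (x * y)⁻¹ :=
    ⟨(x * y)⁻¹ * z * (x * y), by group⟩
  rw [show subgroupBlockCoeff _ _ (x * y * w * (x * y)⁻¹) =
    subgroupBlockCoeff _ _ w from subgroupBlockCoeff_conj a.1 (x * y) a.2 w]
  rw [show x * y * w * (x * y)⁻¹ = x * (y * w * y⁻¹) * x⁻¹ by group]
  exact (subgroupBlockCoeff_conj _ x _ _).trans (subgroupBlockCoeff_conj a.1 y a.2 w)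

theorem conjIdx_one (hM : M.IsPrime) (a : BrauerPairIdx G) (ha : IsPBlock M a.2) :
    conjIdx 1 a = a := by
  refine idx_ext hM ?_ (isPBlock_conjBlock 1 ha) ha fun z => ?_
  · ext z
    simp
  · have := subgroupBlockCoeff_conj a.1 1 a.2 z
    simpa using this

end Cfsg.Agent.Char
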