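import Cfsg.Agent.Lib.Char.ThirdMain
import Cfsg.Agent.Lib.Char.SectionCount
import Cfsg.Agent.Lib.Fusion.Cores

/-!
# Normal subgroups of order prime to `p` and the principal block
-/

set_option autoImplicit false

namespace Cfsg.Agent.Char

open Cfsg Module
open scoped ComplexConjugate

universe u

variable {G : Type u} [Group G] [Fintype G] {M : Ideal AlgInt} {p : ℕ}

open scoped Classical in
/-- The indicator function of a subgroup. -/
noncomputable def subInd (N : Subgroup G) : G → ℂ := fun x => if x ∈ N then 1 else 0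

theorem intClassFun_subInd (hM : M.IsPrime) (N : Subgroup G) [N.Normal] :
    IsIntClassFun M (subInd N) := by
  classical
  refine ⟨fun a k => ?_, fun x => ?_⟩
  · exact if_congr ⟨fun h => by
      simpa [mul_assoc] using Subgroup.Normal.conj_mem ‹N.Normal› _ h k⁻¹,
      fun h => Subgroup.Normal.conj_mem ‹N.Normal› _ h k⟩ rfl rfl
  · simp only [subInd]
    split_ifs
    exacts [memLR_one hM, memLR_zero hM]

theorem sum_subInd (N : Subgroup G) : ∑ x : G, subInd N x = (Nat.card N : ℂ) := by
  classical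
  simp only [subInd, Finset.sum_boole]
  rw [Nat.card_eq_fintype_card, Fintype.card_subtype]

theorem lam_subInd_cases (hM : M.IsPrime) (N : Subgroup G) [N.Normal] (χ : IrrCharacter G) :
    lam (χ : G → ℂ) (subInd N) = 0 ∨ lam (χ : G → ℂ) (subInd N) = Nat.card N := by
  classical
  have hc := (intClassFun_subInd hM N).1
  have h : conv (subInd N) (subInd N) = (Nat.card N : ℂ) • subInd N := by
    funext x
    have e : ∀ y : G, subInd N y * subInd N (y⁻¹ * x) = subInd N x * subInd N y := by
      intro y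
      by_cases hy : y ∈ N
      · simp [subInd, hy, mul_mem_cancel_left (inv_mem hy)]
      · simp [subInd, hy]
    rw [conv, Finset.sum_congr rfl fun y _ => e y, ← Finset.mul_sum, sum_subInd, Pi.smul_apply,
      smul_eq_mul, mul_comm]
  have h1 := lam_conv χ.2 hc hc
  rw [h, lam_smul] at h1
  rcases eq_or_ne (lam (χ : G → ℂ) (subInd N)) 0 with h0 | h0
  · exact Or.inl h0
  · exact Or.inr (mul_right_cancel₀ h0 h1).symm

theorem trivial_on_iff_lam (N : Subgroup G) (χ : IrrCharacter G) :
    (∀ n ∈ N, (χ : G → ℂ) n = (χ : G → ℂ) 1) ↔ lam (χ : G → ℂ) (subInd N) = Nat.card N := by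
  classical
  have hsum : ∑ x : G, subInd N x * (χ : G → ℂ) x = ∑ x : G with x ∈ N, (χ : G → ℂ) x := by
    rw [Finset.sum_filter]
    simp [subInd]
  have hcard : ((Finset.univ.filter fun x => x ∈ N).card : ℂ) = Nat.card N := by
    rw [Nat.card_eq_fintype_card, Fintype.card_subtype]
  rw [lam, div_eq_iff (irr_one_ne_zero χ.2), hsum]
  constructor
  · intro h
    rw [Finset.sum_congr rfl fun x hx => h x (Finset.mem_filter.mp hx).2, Finset.sum_const,
      nsmul_eq_mul, hcard]
  · intro h n hn
    have hχ := irr_isCharacter χ.2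
    have h2 : ∑ x : G with x ∈ N, (((χ : G → ℂ) 1).re - ((χ : G → ℂ) x).re) = 0 := by
      have := congrArg Complex.re h
      rw [Complex.re_sum, ← hcard, Complex.mul_re] at this
      simp only [Complex.natCast_re, Complex.natCast_im, zero_mul, sub_zero] at this
      rw [Finset.sum_sub_distrib, this, Finset.sum_const, nsmul_eq_mul, sub_self]
    have h3 := (Finset.sum_eq_zero_iff_of_nonneg fun x _ =>
      sub_nonneg.mpr ((Complex.re_le_norm _).trans (char_norm_le hχ x))).mp h2 n
      (Finset.mem_filter.mpr ⟨Finset.mem_univ _, hn⟩)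
    obtain ⟨d, hd⟩ := charOne_eq_natCast hχ
    have hle := char_norm_le hχ n
    rw [sub_eq_zero, hd, Complex.natCast_re] at h3
    rw [hd, Complex.natCast_re] at hle
    have h4 := Complex.re_eq_norm.mp (le_antisymm (Complex.re_le_norm _) (hle.trans h3.le))
    rw [hd]
    exact Complex.ext (by rw [Complex.natCast_re]; exact h3.symm)
      (by rw [Complex.natCast_im]; exact (Complex.nonneg_iff.mp h4).2.symm)

/-- Triviality on a normal `p'`-subgroup is constant on blocks. -/
theorem trivial_on_of_sameBlock (hM : IsPModular p M) (N : Subgroup G) [N.Normal]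
    (hN : ¬ p ∣ Nat.card N) {χ ψ : IrrCharacter G}
    (hs : SameBlock M (χ : G → ℂ) (ψ : G → ℂ))
    (hχ : ∀ n ∈ N, (χ : G → ℂ) n = (χ : G → ℂ) 1) : ∀ n ∈ N, (ψ : G → ℂ) n = (ψ : G → ℂ) 1 := by
  have hP := pmod_prime hM
  rw [trivial_on_iff_lam] at hχ ⊢
  refine (lam_subInd_cases hP N ψ).resolve_left fun h0 => hN ?_
  have h := lam_congr hP χ.2 ψ.2 hs (intClassFun_subInd hP N).1 (intClassFun_subInd hP N).2
  rw [hχ, h0, sub_zero] at h
  exact (memLI_natCast_iff hM _).mp h

theorem principal_trivial_on (hM : IsPModular p M) (N : Subgroup G) [N.Normal]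
    (hN : ¬ p ∣ Nat.card N) {ψ : IrrCharacter G} (hψ : ψ ∈ principalBlock M G) :
    ∀ n ∈ N, (ψ : G → ℂ) n = (ψ : G → ℂ) 1 :=
  trivial_on_of_sameBlock hM N hN (χ := ⟨fun _ => 1, isIrrCharacter_one⟩) hψ (fun _ _ => rfl)

theorem regular_iff_mem_of_index (hp : p.Prime) (N : Subgroup G) [N.Normal] (hN : ¬ p ∣ Nat.card N)
    {k : ℕ} (hk : N.index = p ^ k) (x : G) : ¬ p ∣ orderOf x ↔ x ∈ N := by
  constructor
  · intro hx
    rw [← QuotientGroup.eq_one_iff, ← orderOf_eq_one_iff]
    refine Nat.eq_one_of_dvd_coprimes ((Nat.Coprime.pow_left k (hp.coprime_iff_not_dvd.mpr hx)))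
      ?_ (orderOf_map_dvd (QuotientGroup.mk' N) x)
    rw [← hk]
    exact orderOf_dvd_natCard _
  · intro hx h
    exact hN (h.trans (Subgroup.orderOf_mk x hx ▸ orderOf_dvd_natCard _))

/-- The principal block of a group with a normal `p`-complement. -/
theorem mem_principal_iff_of_index (hM : IsPModular p M) (N : Subgroup G) [N.Normal]
    (hN : ¬ p ∣ Nat.card N) {k : ℕ} (hk : N.index = p ^ k) (χ : IrrCharacter G) :
    χ ∈ principalBlock M G ↔ ∀ n ∈ N, (χ : G → ℂ) n = (χ : G → ℂ) 1 := by
  refine ⟨principal_trivial_on hM N hN, fun h => ?_⟩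
  have e : (regInd p : G → ℂ) = subInd N := by
    funext x
    by_cases hx : p ∣ orderOf x
    · rw [regInd_of_sing hx, subInd, if_neg fun h' => (regular_iff_mem_of_index hM.1 N hN hk x).mpr h' hx]
    · rw [regInd_of_reg hx, subInd, if_pos ((regular_iff_mem_of_index hM.1 N hN hk x).mp hx)]
  refine (lam_regInd_unit_iff hM χ).mp ?_
  rw [e, (trivial_on_iff_lam N χ).mp h]
  exact fun h0 => hN ((memLI_natCast_iff hM _).mp h0)

open scoped Classical in
theorem sum_sq_trivial_on (N : Subgroup G) [N.Normal] (hM : M.IsPrime) :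
    ∑ χ ∈ (Finset.univ : Finset (IrrCharacter G)).filter
        (fun χ : IrrCharacter G => ∀ n ∈ N, (χ : G → ℂ) n = (χ : G → ℂ) 1),
      (χ : G → ℂ) 1 * (χ : G → ℂ) 1 = (N.index : ℂ) := by
  have h := congrFun (classFun_eq_sum_idem (intClassFun_subInd hM N).1) 1
  have hN0 : (Nat.card N : ℂ) ≠ 0 := Nat.cast_ne_zero.mpr Nat.card_pos.ne'
  have hG : (Nat.card G : ℂ) = Nat.card N * N.index := by
    rw [← Nat.cast_mul, Subgroup.card_mul_index]
  rw [subInd, if_pos (one_mem N), Finset.sum_apply] at h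
  have e : ∀ χ : IrrCharacter G, (lam (χ : G → ℂ) (subInd N) • idem (χ : G → ℂ)) 1 =
      if (∀ n ∈ N, (χ : G → ℂ) n = (χ : G → ℂ) 1) then
        (N.index : ℂ)⁻¹ * ((χ : G → ℂ) 1 * (χ : G → ℂ) 1) else 0 := by
    intro χ
    obtain ⟨d, hd⟩ := charOne_eq_natCast (irr_isCharacter χ.2)
    have hc : conj ((χ : G → ℂ) 1) = (χ : G → ℂ) 1 := by rw [hd, map_natCast]
    rw [Pi.smul_apply, smul_eq_mul, idem, hc]
    split_ifs with h
    · rw [(trivial_on_iff_lam N χ).mp h, hG, mul_inv]
      field_simp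
    · rw [(lam_subInd_cases hM N χ).resolve_right fun h' => h ((trivial_on_iff_lam N χ).mpr h'),
        zero_mul]
  change 1 = ∑ χ : IrrCharacter G, (lam (χ : G → ℂ) (subInd N) • idem (χ : G → ℂ)) 1 at h
  rw [Finset.sum_congr rfl fun χ _ => e χ, ← Finset.sum_filter, ← Finset.mul_sum] at h
  exact (eq_of_inv_mul_eq_one h.symm).symm

open scoped Classical in
theorem classInner_classInd (h : G) {χ : G → ℂ} (hχ : IsClassFunction G χ) :
    classInner (classInd h) χ =
      (Nat.card (Subgroup.centralizer ({h} : Set G)) : ℂ)⁻¹ * conj (χ h) := by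
  rw [classInner]
  simp only [classInd, ite_mul, one_mul, zero_mul]
  rw [← Finset.sum_filter, Finset.sum_congr rfl (g := fun _ => conj (χ h)), Finset.sum_const,
    nsmul_eq_mul]
  · have hc := card_conjClass_mul_centralizer h
    have e : (Finset.univ.filter fun x => IsConj h x).card = Nat.card {x : G // IsConj h x} := by
      rw [Nat.card_eq_fintype_card, Fintype.card_subtype]
    rw [e, ← mul_assoc, ← hc]
    have h0 : (Nat.card {x : G // IsConj h x} : ℂ) ≠ 0 :=
      Nat.cast_ne_zero.mpr (card_conjClass_ne_zero h)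
    have h1 : (Nat.card (Subgroup.centralizer ({h} : Set G)) : ℂ) ≠ 0 :=
      Nat.cast_ne_zero.mpr Nat.card_pos.ne'
    push_cast
    field_simp
  · intro k hk
    obtain ⟨c, rfl⟩ := isConj_iff.mp (Finset.mem_filter.mp hk).2
    rw [hχ]

omit [Fintype G] in
theorem char_mul_of_ker [Finite G] {χ : G → ℂ} (h : IsCharacter G χ) {g : G} (hg : χ g = χ 1)
    (k : G) : χ (g * k) = χ k := by
  obtain ⟨n, ρ, rfl⟩ := h
  have hfr : ρ.character g = (finrank ℂ (Fin n → ℂ) : ℂ) := by rw [hg, Representation.char_one]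
  simp only [Representation.character, map_mul, (eq_id_iff ρ g).mp hfr, ← Module.End.one_eq_id,
    one_mul]

/-- The kernel of a set of characters as a subgroup. -/
def blockKerSub (B : Set (IrrCharacter G)) : Subgroup G where
  carrier := blockKer B
  one_mem' := fun χ _ => rfl
  mul_mem' {a b} ha hb := fun χ hχ => by
    rw [char_mul_of_ker (irr_isCharacter χ.2) (ha χ hχ) b, hb χ hχ]
  inv_mem' {a} ha := fun χ hχ => by
    obtain ⟨d, hd⟩ := charOne_eq_natCast (irr_isCharacter χ.2)
    rw [char_inv (irr_isCharacter χ.2), ha χ hχ, hd, map_natCast]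

theorem blockKerSub_normal (B : Set (IrrCharacter G)) : (blockKerSub B).Normal :=
  ⟨fun n hn g χ hχ => by
    rw [isClassFunction_character (irr_isCharacter χ.2) n g]; exact hn χ hχ⟩

theorem not_dvd_card_blockKerSub (hM : IsPModular p M) {B : Set (IrrCharacter G)}
    (hB : IsPBlock M B) : ¬ p ∣ Nat.card (blockKerSub B) := by
  classical
  intro hd
  haveI := Fact.mk hM.1
  obtain ⟨a, ha⟩ := exists_prime_orderOf_dvd_card' p hd
  have hsing : p ∣ orderOf (a : G) := by rw [Subgroup.orderOf_coe, ha]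
  have h := weak_orthogonality hM hB (x := 1) (y := (a : G)) (by simp [hM.1.ne_one]) hsing
  rw [finsum_mem_irr] at h
  obtain ⟨χ0, hχ0⟩ := block_nonempty (pmod_prime hM) hB
  have h2 : ∑ χ : IrrCharacter G with χ ∈ B, ((χ : G → ℂ) 1).re ^ 2 = 0 := by
    have := congrArg Complex.re h
    rw [Complex.re_sum, Complex.zero_re] at this
    rw [← this]
    refine Finset.sum_congr rfl fun χ hχ => ?_
    obtain ⟨d, hd⟩ := charOne_eq_natCast (irr_isCharacter χ.2)
    rw [show (χ : G → ℂ) (a : G) = (χ : G → ℂ) 1 from a.2 χ (Finset.mem_filter.mp hχ).2, hd,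
      map_natCast]
    simp [sq]
  have h3 := (Finset.sum_eq_zero_iff_of_nonneg fun χ _ => sq_nonneg _).mp h2 χ0
    (Finset.mem_filter.mpr ⟨Finset.mem_univ _, hχ0⟩)
  obtain ⟨d, hd⟩ := charOne_eq_natCast (irr_isCharacter χ0.2)
  rw [hd, Complex.natCast_re, sq_eq_zero_iff, Nat.cast_eq_zero] at h3
  exact irr_one_ne_zero χ0.2 (by rw [hd, h3, Nat.cast_zero])

section Sec

variable {x : G} [Fintype (Subgroup.centralizer ({x} : Set G))]

omit [Fintype (Subgroup.centralizer ({x} : Set G))] in
theorem isConj_section (hp : p.Prime) (hx : ∃ k : ℕ, orderOf x = p ^ k)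
    (y c : Subgroup.centralizer ({x} : Set G)) (hy : ¬ p ∣ orderOf y) (hc : ¬ p ∣ orderOf c) :
    IsConj (x * (y : G)) (x * (c : G)) ↔ IsConj y c := by
  constructor
  · intro h
    obtain ⟨g, hg⟩ := isConj_iff.mp h
    have h1 := isPPart_mul hx y hy
    obtain ⟨w, hw, hcm, ⟨k, hk⟩, hreg⟩ := h1
    have h2 : IsPPart p (x * (c : G)) (g * x * g⁻¹) := by
      refine ⟨g * w * g⁻¹, by rw [← hg, ← hw]; group, ?_, ⟨k, ?_⟩, ?_⟩
      · simpa [MulAut.conj_apply] using hcm.map (MulAut.conj g)
      · rw [← hk, ← MulAut.conj_apply, MulEquiv.orderOf_eq]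
      · rwa [← MulAut.conj_apply, MulEquiv.orderOf_eq]
    have h3 := isPPart_unique hp h2 (isPPart_mul hx c hc)
    have hgC : g ∈ Subgroup.centralizer ({x} : Set G) :=
      Subgroup.mem_centralizer_singleton_iff.mpr (by
        calc g * x = g * x * g⁻¹ * g := by group
          _ = x * g := by rw [h3])
    refine isConj_iff.mpr ⟨⟨g, hgC⟩, Subtype.ext ?_⟩
    show g * (y : G) * g⁻¹ = (c : G)
    calc g * (y : G) * g⁻¹ = (g * x * g⁻¹)⁻¹ * (g * (x * y) * g⁻¹) := by group
      _ = x⁻¹ * (x * c) := by rw [h3, hg]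
      _ = c := by group
  · intro h
    obtain ⟨g, hg⟩ := isConj_iff.mp h
    refine isConj_iff.mpr ⟨(g : G), ?_⟩
    rw [← hg]
    show (g : G) * (x * (y : G)) * (g : G)⁻¹ = x * ((g : G) * y * (g : G)⁻¹)
    rw [← mul_assoc, ← cent_mul_comm g]
    group

omit [Fintype (Subgroup.centralizer ({x} : Set G))] in
theorem card_centralizer_section (hp : p.Prime) (hx : ∃ k : ℕ, orderOf x = p ^ k)
    (y : Subgroup.centralizer ({x} : Set G)) (hy : ¬ p ∣ orderOf y) :
    Nat.card (Subgroup.centralizer ({x * (y : G)} : Set G)) =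
      Nat.card (Subgroup.centralizer ({y} : Set (Subgroup.centralizer ({x} : Set G)))) := by
  have e : (Subgroup.centralizer ({y} : Set (Subgroup.centralizer ({x} : Set G)))).map
      (Subgroup.centralizer ({x} : Set G)).subtype = Subgroup.centralizer ({x * (y : G)} : Set G) := by
    ext g
    constructor
    · rintro ⟨c, hc, rfl⟩
      refine Subgroup.mem_centralizer_singleton_iff.mpr ?_
      have h1 : (c : G) * y = y * c :=
        congrArg Subtype.val (Subgroup.mem_centralizer_singleton_iff.mp hc)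
      show (c : G) * (x * y) = x * y * c
      rw [← mul_assoc, ← cent_mul_comm c, mul_assoc, h1, mul_assoc]
    · intro hg
      have hg' := Subgroup.mem_centralizer_singleton_iff.mp hg
      obtain ⟨w, hw, hcm, ⟨k, hk⟩, hreg⟩ := isPPart_mul hx y hy
      have h2 : IsPPart p (x * (y : G)) (g * x * g⁻¹) := by
        refine ⟨g * w * g⁻¹, ?_, ?_, ⟨k, ?_⟩, ?_⟩
        · calc g * x * g⁻¹ * (g * w * g⁻¹) = g * (x * w) * g⁻¹ := by group
            _ = g * (x * y) * g⁻¹ := by rw [hw]
            _ = x * y := by rw [hg']; group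
        · simpa [MulAut.conj_apply] using hcm.map (MulAut.conj g)
        · rw [← hk, ← MulAut.conj_apply, MulEquiv.orderOf_eq]
        · rwa [← MulAut.conj_apply, MulEquiv.orderOf_eq]
      have h3 := isPPart_unique hp h2 (isPPart_mul hx y hy)
      have hgC : g ∈ Subgroup.centralizer ({x} : Set G) :=
        Subgroup.mem_centralizer_singleton_iff.mpr (by
          calc g * x = g * x * g⁻¹ * g := by group
            _ = x * g := by rw [h3])
      refine ⟨⟨g, hgC⟩, Subgroup.mem_centralizer_singleton_iff.mpr (Subtype.ext ?_), rfl⟩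
      show g * (y : G) = y * g
      refine mul_left_cancel (a := x) ?_
      rw [← mul_assoc, cent_mul_comm ⟨g, hgC⟩, mul_assoc, hg', mul_assoc]
  rw [← e, Subgroup.card_map_of_injective (Subgroup.subtype_injective _)]

open scoped Classical in
/-- Orthogonality of a block on a section. -/
theorem sum_block_section_orth (hM : IsPModular p M) (hx : ∃ k : ℕ, orderOf x = p ^ k)
    {B : Set (IrrCharacter G)} (hB : IsPBlock M B) (y y' : Subgroup.centralizer ({x} : Set G))
    (hy : ¬ p ∣ orderOf y) (hy' : ¬ p ∣ orderOf y') :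
    ∑ χ : IrrCharacter G with χ ∈ B, conj ((χ : G → ℂ) (x * (y : G))) * (χ : G → ℂ) (x * (y' : G)) =
      ∑ b ∈ ((Finset.univ : Finset (IrrCharacter (Subgroup.centralizer ({x} : Set G)))).image
        (fun ξ : IrrCharacter (Subgroup.centralizer ({x} : Set G)) =>
          blockOf M (ξ : Subgroup.centralizer ({x} : Set G) → ℂ))).filter
        (fun b => IsInducedBlock M (Subgroup.centralizer ({x} : Set G)) b B),
      ∑ ξ : IrrCharacter (Subgroup.centralizer ({x} : Set G)) with ξ ∈ b,
        conj ((ξ : _ → ℂ) y) * (ξ : _ → ℂ) y' := by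
  have hP := pmod_prime hM
  have hc := (intClassFun_classInd (G := G) hP (x * (y : G))).1
  have h := blockPart_section_eq hM hx hB hc y' hy'
  have hag : ∀ c : Subgroup.centralizer ({x} : Set G), ¬ p ∣ orderOf c →
      secFun x (classInd (x * (y : G))) c = classInd y c := fun c hc => by
    simp only [secFun, classInd, isConj_section hM.1 hx y c hy hc]
    congr 1
  rw [Finset.sum_congr rfl fun b hb => blockPart_regular_congr hM
    (Finset.mem_filter.mp hb).2.1 hag hy'] at h
  simp only [blockPart_eq] at h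
  simp only [classInner_classInd _ (isClassFunction_character (irr_isCharacter (Subtype.prop _))),
    mul_assoc, ← Finset.mul_sum, card_centralizer_section hM.1 hx y hy] at h
  exact mul_left_cancel₀ (inv_ne_zero (Nat.cast_ne_zero.mpr Nat.card_pos.ne')) h

open scoped Classical in
theorem principal_section_filter (hM : IsPModular p M) (hx : ∃ k : ℕ, orderOf x = p ^ k) :
    ((Finset.univ : Finset (IrrCharacter (Subgroup.centralizer ({x} : Set G)))).image
        (fun ξ : IrrCharacter (Subgroup.centralizer ({x} : Set G)) =>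
          blockOf M (ξ : Subgroup.centralizer ({x} : Set G) → ℂ))).filter
        (fun b => IsInducedBlock M (Subgroup.centralizer ({x} : Set G)) b (principalBlock M G)) =
      {principalBlock M (Subgroup.centralizer ({x} : Set G))} := by
  ext b
  rw [Finset.mem_filter, Finset.mem_singleton, Finset.mem_image]
  refine ⟨fun h => (third_main hM h.2).mp rfl, ?_⟩
  rintro rfl
  refine ⟨⟨⟨fun _ => 1, isIrrCharacter_one⟩, Finset.mem_univ _, rfl⟩, ?_⟩
  obtain ⟨B, hB⟩ := exists_induced_centralizer hM hx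
    (isPBlock_principalBlock (G := Subgroup.centralizer ({x} : Set G)) M)
  rwa [← (third_main hM hB).mpr rfl]

end Sec

end Cfsg.Agent.Char
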