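import Cfsg.Agent.Lib.Char.Glauberman

/-!
# Invariant characters and invariant classes for coprime solvable actions
-/

set_option autoImplicit false

namespace Cfsg.Agent.Char

open Cfsg Module

universe u v

/-- The fixed points of an action. -/
def fixSub {G : Type u} [Group G] {S : Type v} [Group S] (φ : S →* MulAut G) (N : Subgroup S) :
    Subgroup G where
  carrier := {g | ∀ n ∈ N, φ n g = g}
  one_mem' := fun n _ => map_one _
  mul_mem' := fun ha hb n hn => by rw [map_mul, ha n hn, hb n hn]
  inv_mem' := fun ha n hn => by rw [map_inv, ha n hn]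

theorem mem_fixSub {G : Type u} [Group G] {S : Type v} [Group S] {φ : S →* MulAut G}
    {N : Subgroup S} {g : G} : g ∈ fixSub φ N ↔ ∀ n ∈ N, φ n g = g := Iff.rfl

theorem fixSub_stable {G : Type u} [Group G] {S : Type v} [Group S] (φ : S →* MulAut G)
    {N : Subgroup S} [hN : N.Normal] (s : S) {g : G} (hg : g ∈ fixSub φ N) :
    φ s g ∈ fixSub φ N := by
  intro n hn
  rw [← MulAut.mul_apply, ← map_mul, show n * s = s * (s⁻¹ * n * s) by group, map_mul,
    MulAut.mul_apply, hg _ (hN.conj_mem' n hn s)]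

theorem card_invariant_eq : ∀ (n : ℕ) (S : Type v) [Group S] [Finite S] (G : Type u) [Group G]
    [Fintype G] (φ : S →* MulAut G), Nat.card S = n → Group.IsSolvable S →
    (Nat.card G).Coprime (Nat.card S) →
    Nat.card {χ : IrrCharacter G // ∀ s g, (χ : G → ℂ) (φ s g) = (χ : G → ℂ) g} =
      Nat.card {K : ConjClasses G //
        ∀ s g, ConjClasses.mk g = K → ConjClasses.mk (φ s g) = K} := by
  intro n
  induction n using Nat.strong_induction_on with
  | _ n ih =>
    intro S _ _ G _ _ φ hn hsol hco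
    classical
    rcases subsingleton_or_nontrivial S with hS | hS
    · have h1 : ∀ s g, φ s g = g := fun s g => by rw [Subsingleton.elim s 1, map_one]; rfl
      rw [Nat.card_congr (Equiv.subtypeUnivEquiv fun χ : IrrCharacter G => fun s g => by rw [h1]),
        Nat.card_congr (Equiv.subtypeUnivEquiv fun K : ConjClasses G => fun s g h => by
          rw [h1]; exact h), card_irr]
    obtain ⟨N, hN, hNne, hmin⟩ := Solv.exists_minimal_normal (G := S)
    obtain ⟨-, q, hq, -, hNp⟩ := Solv.minimal_normal_elementaryAbelian N inferInstance hNne hmin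
    obtain ⟨M, hM⟩ := exists_pModular hq
    haveI := Fact.mk hq
    have hNS : Nat.card N ∣ Nat.card S := Subgroup.card_subgroup_dvd_card N
    have hqN : q ∣ Nat.card N := by
      haveI := (Subgroup.nontrivial_iff_ne_bot N).2 hNne
      obtain ⟨k, hk, e⟩ := hNp.nontrivial_iff_card.mp inferInstance
      rw [e]
      exact dvd_pow_self q hk.ne'
    have hqG : ¬ q ∣ Nat.card G := fun h =>
      hq.ne_one (Nat.eq_one_of_dvd_coprimes hco h (hqN.trans hNS))
    let C := fixSub φ N
    let ι : C →* G := C.subtype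
    have h : CoprimeFix M q (φ.comp N.subtype) ι :=
      { pmod := hM, pgroup := hNp, coprime := hqG, inj := C.subtype_injective
        range := fun g => by
          rw [Subgroup.range_subtype]
          exact ⟨fun hg s => hg s s.2, fun hg n hn => hg ⟨n, hn⟩⟩ }
    let ψ₀ : S →* MulAut C :=
      { toFun := fun s =>
          { toFun := fun c => ⟨φ s c, fixSub_stable φ s c.2⟩
            invFun := fun c => ⟨φ s⁻¹ c, fixSub_stable φ s⁻¹ c.2⟩
            left_inv := fun c => Subtype.ext (show φ s⁻¹ (φ s c) = c by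
              rw [← MulAut.mul_apply, ← map_mul, inv_mul_cancel, map_one]; rfl)
            right_inv := fun c => Subtype.ext (show φ s (φ s⁻¹ c) = c by
              rw [← MulAut.mul_apply, ← map_mul, mul_inv_cancel, map_one]; rfl)
            map_mul' := fun a b => Subtype.ext (map_mul (φ s) _ _) }
        map_one' := MulEquiv.ext fun c => Subtype.ext (show φ 1 (c : G) = c by rw [map_one]; rfl)
        map_mul' := fun s t => MulEquiv.ext fun c =>
          Subtype.ext (show φ (s * t) (c : G) = φ s (φ t c) by rw [map_mul]; rfl) }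
    have hψ₀ : ∀ s (c : C), ι (ψ₀ s c) = φ s (ι c) := fun s c => rfl
    have hker : N ≤ ψ₀.ker := fun x hx =>
      MonoidHom.mem_ker.mpr (MulEquiv.ext fun c => Subtype.ext (c.2 x hx))
    let ψ : S ⧸ N →* MulAut C := QuotientGroup.lift N ψ₀ hker
    have hψ : ∀ (s : S), ψ (s : S ⧸ N) = ψ₀ s := fun s => rfl
    haveI : Fintype C := Fintype.ofFinite _
    have hcoC : (Nat.card C).Coprime (Nat.card (S ⧸ N)) :=
      (hco.coprime_dvd_left (Subgroup.card_subgroup_dvd_card C)).coprime_dvd_right
        (Subgroup.card_quotient_dvd_card N)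
    have hsolQ : Group.IsSolvable (S ⧸ N) :=
      Group.isSolvable_of_surjective (QuotientGroup.mk'_surjective N)
    have hIH := ih _ (hn ▸ Solv.card_quotient_lt N hNne) (S ⧸ N) C ψ rfl hsolQ hcoC
    have hnorm : ∀ s : S, ∀ x : N, ∃ y : N,
        ∀ g, φ s ((φ.comp N.subtype) x g) = (φ.comp N.subtype) y (φ s g) := fun s x => by
      refine ⟨⟨s * x * s⁻¹, hN.conj_mem x x.2 s⟩, fun g => ?_⟩
      show φ s (φ x g) = φ (s * x * s⁻¹) (φ s g)
      rw [← MulAut.mul_apply, ← map_mul, ← MulAut.mul_apply, ← map_mul]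
      congr 1
      group
    -- characters
    have e1 : Nat.card {β : IrrCharacter C // ∀ s g, (β : C → ℂ) (ψ s g) = (β : C → ℂ) g} =
        Nat.card {χ : IrrCharacter G // ∀ s g, (χ : G → ℂ) (φ s g) = (χ : G → ℂ) g} := by
      have hto : ∀ β : IrrCharacter C, (∀ s g, (β : C → ℂ) (ψ s g) = (β : C → ℂ) g) →
          ∀ s g, (h.corr β : G → ℂ) (φ s g) = (h.corr β : G → ℂ) g := fun β hβ s g => by
        have e := h.corr_comp (φ s) (ψ₀ s) (fun c => rfl) (hnorm s) β
        rw [show irrComp (ψ₀ s) β = β from Subtype.ext (funext fun c => hβ (s : S ⧸ N) c)] at e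
        exact (congrFun (congrArg Subtype.val e) g).symm
      refine Nat.card_eq_of_bijective (fun β => ⟨h.corr β.1, hto β.1 β.2⟩)
        ⟨fun a b hab => Subtype.ext (h.corr_injective (congrArg Subtype.val hab)), fun χ => ?_⟩
      obtain ⟨β, hβ⟩ := h.corr_surjective (χ := χ.1) fun x g => χ.2 x g
      refine ⟨⟨β, fun s g => ?_⟩, Subtype.ext hβ⟩
      obtain ⟨s, rfl⟩ := QuotientGroup.mk_surjective s
      have e := h.corr_comp (φ s) (ψ₀ s) (fun c => rfl) (hnorm s) β
      rw [hβ, show irrComp (φ s) χ.1 = χ.1 from Subtype.ext (funext fun x => χ.2 s x), ← hβ] at e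
      exact congrFun (congrArg Subtype.val (h.corr_injective e)) g
    -- classes
    have e2 : Nat.card {K : ConjClasses C //
          ∀ s g, ConjClasses.mk g = K → ConjClasses.mk (ψ s g) = K} =
        Nat.card {K : ConjClasses G //
          ∀ s g, ConjClasses.mk g = K → ConjClasses.mk (φ s g) = K} := by
      have hto : ∀ K : ConjClasses C, (∀ s g, ConjClasses.mk g = K → ConjClasses.mk (ψ s g) = K) →
          ∀ s g, ConjClasses.mk g = K.map ι → ConjClasses.mk (φ s g) = K.map ι := by
        intro K hK s g hg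
        obtain ⟨c, rfl⟩ := ConjClasses.exists_rep K
        have h1 : IsConj g (ι c) := ConjClasses.mk_eq_mk_iff_isConj.mp hg
        have h2 : IsConj (ψ₀ s c) c := ConjClasses.mk_eq_mk_iff_isConj.mp (hK (s : S ⧸ N) c rfl)
        exact ConjClasses.mk_eq_mk_iff_isConj.mpr
          (((φ s).toMonoidHom.map_isConj h1).trans (ι.map_isConj h2))
      refine Nat.card_eq_of_bijective (fun K => ⟨K.1.map ι, hto K.1 K.2⟩) ⟨?_, ?_⟩
      · rintro ⟨a, ha⟩ ⟨b, hb⟩ hab
        obtain ⟨c, rfl⟩ := ConjClasses.exists_rep a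
        obtain ⟨d, rfl⟩ := ConjClasses.exists_rep b
        exact Subtype.ext (ConjClasses.mk_eq_mk_iff_isConj.mpr (fixed_conj _ ι hq hNp hqG h.range
          h.inj (ConjClasses.mk_eq_mk_iff_isConj.mp (congrArg Subtype.val hab))))
      · rintro ⟨K, hK⟩
        obtain ⟨g, rfl⟩ := ConjClasses.exists_rep K
        obtain ⟨c, hc⟩ := exists_fixed_rep _ ι hq hNp hqG h.range (g := g) fun x =>
          (ConjClasses.mk_eq_mk_iff_isConj.mp (hK (x : S) g rfl)).symm
        refine ⟨⟨ConjClasses.mk c, fun s d hd => ?_⟩,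
          Subtype.ext (ConjClasses.mk_eq_mk_iff_isConj.mpr hc.symm)⟩
        obtain ⟨s, rfl⟩ := QuotientGroup.mk_surjective s
        have hd' : IsConj (ι d) g := (ι.map_isConj (ConjClasses.mk_eq_mk_iff_isConj.mp hd)).trans hc.symm
        have h3 : IsConj (φ s (ι d)) g := ((φ s).toMonoidHom.map_isConj hd').trans
          (ConjClasses.mk_eq_mk_iff_isConj.mp (hK s g rfl))
        exact ConjClasses.mk_eq_mk_iff_isConj.mpr
          (fixed_conj _ ι hq hNp hqG h.range h.inj (h3.trans hc))
    rw [← e1, ← e2, hIH]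

end Cfsg.Agent.Char

namespace Cfsg.Agent.Char

/-- Conjugation on a subgroup normalised by another. -/
def conjActHom {Γ : Type*} [Group Γ] (G S : Subgroup Γ)
    (h : ∀ s ∈ S, ∀ g ∈ G, s * g * s⁻¹ ∈ G) : S →* MulAut G where
  toFun s :=
    { toFun := fun g => ⟨s * g * (s : Γ)⁻¹, h s s.2 g g.2⟩
      invFun := fun g => ⟨(s : Γ)⁻¹ * g * s, by
        have := h _ (S.inv_mem s.2) g g.2
        rwa [inv_inv] at this⟩
      left_inv := fun g => Subtype.ext (by simp only; group)
      right_inv := fun g => Subtype.ext (by simp only; group)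
      map_mul' := fun a b => Subtype.ext (by simp only [Subgroup.coe_mul]; group) }
  map_one' := MulEquiv.ext fun g => Subtype.ext (by simp)
  map_mul' s t := MulEquiv.ext fun g => Subtype.ext (by simp [mul_assoc])

theorem conjActHom_coe {Γ : Type*} [Group Γ] (G S : Subgroup Γ)
    (h : ∀ s ∈ S, ∀ g ∈ G, s * g * s⁻¹ ∈ G) (s : S) (g : G) :
    ((conjActHom G S h s g : G) : Γ) = s * g * (s : Γ)⁻¹ := rfl

end Cfsg.Agent.Char
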