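import Cfsg.Agent.Lib.Char.DefectLocal
import Cfsg.Agent.Lib.Char.GlaubermanCount
import Cfsg.Agent.Lib.Char.RealClass

/-!
# Blocks of full defect for the prime two whose central characters are invariant under inversion
-/

set_option autoImplicit false

namespace Cfsg.Agent.Char

open Cfsg Module
open scoped ComplexConjugate

universe u

variable {G : Type u} [Group G] [Fintype G] {M : Ideal AlgInt}

omit [Fintype G] in
theorem card_conjClass_equiv (α : MulAut G) (g : G) :
    Nat.card {x : G // IsConj (α g) x} = Nat.card {x : G // IsConj g x} := by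
  refine Nat.card_congr (Equiv.subtypeEquiv α.symm.toEquiv fun x => ?_)
  constructor
  · intro h
    have := α.symm.toMonoidHom.map_isConj h
    simpa using this
  · intro h
    have := α.toMonoidHom.map_isConj h
    simpa using this

omit [Fintype G] in
theorem card_conjClass_inv (g : G) :
    Nat.card {x : G // IsConj g⁻¹ x} = Nat.card {x : G // IsConj g x} := by
  refine Nat.card_congr (Equiv.subtypeEquiv (Equiv.inv G) fun x => ?_)
  simp only [Equiv.inv_apply, isConj_iff]
  constructor
  · rintro ⟨c, hc⟩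
    exact ⟨c, by rw [← hc]; group⟩
  · rintro ⟨c, hc⟩
    exact ⟨c, inv_injective (by rw [← hc]; group)⟩

theorem omega_irrComp (α : MulAut G) (χ : IrrCharacter G) (g : G) :
    omega (irrComp α χ : G → ℂ) g = omega (χ : G → ℂ) (α g) := by
  rw [omega, omega, irrComp_apply, irrComp_apply, map_one, card_conjClass_equiv]

theorem omega_irrConj (χ : IrrCharacter G) (g : G) :
    omega (irrConj χ : G → ℂ) g = omega (χ : G → ℂ) g⁻¹ := by
  simp only [omega, irrConj_apply, ← char_inv (irr_isCharacter χ.2), card_conjClass_inv, inv_one]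

theorem sameBlock_irrComp (α : MulAut G) {χ ψ : IrrCharacter G}
    (h : SameBlock M (χ : G → ℂ) (ψ : G → ℂ)) :
    SameBlock M (irrComp α χ : G → ℂ) (irrComp α ψ : G → ℂ) := by
  intro g
  have := h (α g)
  rwa [← omega_eq_centralChar, ← omega_eq_centralChar, ← omega_irrComp, ← omega_irrComp,
    omega_eq_centralChar, omega_eq_centralChar] at this

theorem sameBlock_irrConj {χ ψ : IrrCharacter G}
    (h : SameBlock M (χ : G → ℂ) (ψ : G → ℂ)) :
    SameBlock M (irrConj χ : G → ℂ) (irrConj ψ : G → ℂ) := by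
  intro g
  have := h g⁻¹
  rwa [← omega_eq_centralChar, ← omega_eq_centralChar, ← omega_irrConj, ← omega_irrConj,
    omega_eq_centralChar, omega_eq_centralChar] at this

open scoped Classical in
/-- A union of blocks has integral coefficients. -/
theorem memLR_blockCoeff_union {p : ℕ} (hM : IsPModular p M) {A : Set (IrrCharacter G)}
    (hA : ∀ χ ψ : IrrCharacter G, χ ∈ A → SameBlock M (χ : G → ℂ) (ψ : G → ℂ) → ψ ∈ A) (g : G) :
    MemLocalRing M (blockCoeff A g) := by
  have hP := pmod_prime hM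
  rw [blockCoeff_eq, ← Finset.sum_fiberwise_of_maps_to
    (t := (Finset.univ.filter (· ∈ A)).image (fun χ : IrrCharacter G => blockOf M (χ : G → ℂ)))
    (g := fun χ : IrrCharacter G => blockOf M (χ : G → ℂ))
    (fun χ hχ => Finset.mem_image_of_mem _ hχ), Finset.sum_apply]
  refine memLR_sum hP _ _ fun B hB => ?_
  obtain ⟨χ, hχ, rfl⟩ := Finset.mem_image.mp hB
  have hχA : χ ∈ A := (Finset.mem_filter.mp hχ).2
  have e : ∑ ψ ∈ (Finset.univ.filter (· ∈ A)).filter
      (fun ψ : IrrCharacter G => blockOf M (ψ : G → ℂ) = blockOf M (χ : G → ℂ)), idem (ψ : G → ℂ) =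
      blockCoeff (blockOf M (χ : G → ℂ)) := by
    rw [blockCoeff_eq]
    refine Finset.sum_congr ?_ fun _ _ => rfl
    ext ψ
    simp only [Finset.mem_filter, Finset.mem_univ, true_and]
    exact ⟨fun h => h.2 ▸ self_mem_blockOf hP ψ,
      fun h => ⟨hA χ ψ hχA h, (blockOf_eq_of_sameBlock hP h).symm⟩⟩
  rw [e]
  exact memLR_blockCoeff hM (isPBlock_blockOf M χ) g

/-- In a group with central Sylow two-subgroup, a block equal to its conjugate is principal. -/
theorem principal_of_central_two (hM : IsPModular 2 M) (Z : Subgroup G) [Z.Normal]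
    (hZc : Z ≤ Subgroup.center G) (hZ : IsPGroup 2 Z) (hidx : Odd Z.index) {χ : IrrCharacter G}
    (h : SameBlock M (χ : G → ℂ) (irrConj χ : G → ℂ)) :
    SameBlock M (χ : G → ℂ) (fun _ => (1 : ℂ)) := by
  classical
  have hP := pmod_prime hM
  obtain ⟨η, hη, hηZ⟩ := exists_sameBlock_trivial_on hM Z hZ χ
  obtain ⟨φ, hφ⟩ := exists_quotient_char Z η hηZ
  haveI : Fintype (G ⧸ Z) := Fintype.ofFinite _
  have hodd : Odd (Nat.card (G ⧸ Z)) := hidx
  have hdeg : ¬ 2 ∣ deg (η : G → ℂ) := by
    have e : deg (η : G → ℂ) = deg (φ : G ⧸ Z → ℂ) := by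
      simp only [deg, ← hφ 1, QuotientGroup.mk_one]
    rw [e]
    intro hd
    exact (Nat.not_even_iff_odd.mpr hodd) (even_iff_two_dvd.mpr (hd.trans (deg_dvd_card φ.2)))
  -- `η` agrees with its conjugate
  have hreal : irrConj η = η := by
    by_contra hne
    have hs : SameBlock M (η : G → ℂ) (irrConj η : G → ℂ) :=
      sameBlock_trans hP (sameBlock_symm hP hη) (sameBlock_trans hP h (sameBlock_irrConj hη))
    -- the sum over a set of representatives
    let r : G ⧸ Z → G := fun q => preg 2 q.out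
    have hr : ∀ q : G ⧸ Z, (η : G → ℂ) (r q) = (φ : G ⧸ Z → ℂ) q := by
      intro q
      rw [← hφ]
      refine congrArg (φ : G ⧸ Z → ℂ) ?_
      have hx := exists_isPPart hM.1 q.out
      obtain ⟨x, hx⟩ := hx
      show ((preg 2 q.out : G) : G ⧸ Z) = q
      conv_rhs => rw [← Quotient.out_eq q]
      refine QuotientGroup.eq.mpr ?_
      show (preg 2 q.out)⁻¹ * q.out ∈ Z
      rw [preg_eq hM.1 hx]
      have e : (x⁻¹ * q.out)⁻¹ * q.out = q.out⁻¹ * x * q.out := by group
      rw [e]
      obtain ⟨_, -, -, ⟨k, hk⟩, -⟩ := hx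
      have h1 : (QuotientGroup.mk' Z x) = 1 := by
        rw [← orderOf_eq_one_iff]
        have hd1 : orderOf (QuotientGroup.mk' Z x) ∣ 2 ^ k := hk ▸ orderOf_map_dvd _ x
        have hd2 : orderOf (QuotientGroup.mk' Z x) ∣ Nat.card (G ⧸ Z) := orderOf_dvd_natCard _
        exact Nat.eq_one_of_dvd_coprimes ((Nat.coprime_two_left.mpr hodd).pow_left k) hd1 hd2
      have hxZ : x ∈ Z := (QuotientGroup.eq_one_iff x).mp h1
      exact Subgroup.Normal.conj_mem' ‹_› x hxZ q.out
    have hsum : ∀ ψ : IrrCharacter (G ⧸ Z), ∑ q : G ⧸ Z, (φ : G ⧸ Z → ℂ) q * conj ((ψ : G ⧸ Z → ℂ) q) =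
        (Nat.card (G ⧸ Z) : ℂ) * classInner (φ : G ⧸ Z → ℂ) (ψ : G ⧸ Z → ℂ) := fun ψ => by
      rw [classInner, ← mul_assoc, mul_inv_cancel₀ (Nat.cast_ne_zero.mpr Nat.card_pos.ne'), one_mul]
    have hne' : irrConj φ ≠ φ := by
      intro e
      refine hne (Subtype.ext (funext fun g => ?_))
      have := congrFun (congrArg Subtype.val e) (g : G ⧸ Z)
      simpa [irrConj_apply, hφ] using this
    have h0 : ∑ q : G ⧸ Z, (φ : G ⧸ Z → ℂ) q * (φ : G ⧸ Z → ℂ) q = 0 := by
      have := hsum (irrConj φ)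
      rw [irrC_orth, if_neg (Ne.symm hne'), mul_zero] at this
      simpa [irrConj_apply] using this
    have hcen : ∀ q : G ⧸ Z, MemLocalIdeal M
        ((φ : G ⧸ Z → ℂ) q * (φ : G ⧸ Z → ℂ) q - (φ : G ⧸ Z → ℂ) q * conj ((φ : G ⧸ Z → ℂ) q)) := by
      intro q
      rw [← mul_sub, ← hr]
      have h1 := hs (r q)
      rw [← omega_eq_centralChar, ← omega_eq_centralChar, omega, omega, irrConj_apply, irrConj_apply,
        conj_char_one (irr_isCharacter η.2), ← sub_div, ← mul_sub] at h1
      have hn : ¬ 2 ∣ Nat.card {x : G // IsConj (r q) x} := by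
        rw [card_conjClass_eq_index]
        intro hd
        have hZle : Z ≤ Subgroup.centralizer ({r q} : Set G) := fun z hz =>
          Subgroup.mem_centralizer_singleton_iff.mpr ((Subgroup.mem_center_iff.mp (hZc hz) (r q)).symm)
        exact (Nat.not_even_iff_odd.mpr hidx)
          (even_iff_two_dvd.mpr (hd.trans (Subgroup.index_dvd_of_le hZle)))
      have h2 := memLI_mul_right hP h1 (memLR_char hP (irr_isCharacter η.2) 1)
      rw [div_mul_cancel₀ _ (irr_one_ne_zero η.2)] at h2
      have h3 := (memLI_mul_mem hP (memLR_natCast hP _) (memLR_sub hP (memLR_char hP (irr_isCharacter η.2) _)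
        (by rw [← char_inv (irr_isCharacter η.2)]; exact memLR_char hP (irr_isCharacter η.2) _)) h2).resolve_left
          (fun h' => hn ((memLI_natCast_iff hM _).mp h'))
      exact memLI_mul_left hP (memLR_char hP (irr_isCharacter η.2) _) h3
    have h4 := memLI_sum hP Finset.univ _ fun q _ => hcen q
    rw [Finset.sum_sub_distrib, h0, zero_sub, hsum, irrC_orth, if_pos rfl, mul_one] at h4
    have h5 : MemLocalIdeal M (Nat.card (G ⧸ Z) : ℂ) := by simpa using memLI_neg hP h4
    exact (Nat.not_even_iff_odd.mpr hodd) (even_iff_two_dvd.mpr ((memLI_natCast_iff hM _).mp h5))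
  -- a real character of a group of odd order
  have hone : (φ : G ⧸ Z → ℂ) = fun _ => 1 := by
    by_contra hne
    have hre : ∀ q : G ⧸ Z, (φ : G ⧸ Z → ℂ) q⁻¹ = (φ : G ⧸ Z → ℂ) q := by
      intro q
      obtain ⟨g, rfl⟩ := QuotientGroup.mk_surjective q
      rw [char_inv (irr_isCharacter φ.2), hφ]
      exact congrFun (congrArg Subtype.val hreal) g
    have h0 : ∑ q : G ⧸ Z, (φ : G ⧸ Z → ℂ) q = 0 := by
      have h := irrC_orth φ ⟨_, isIrrCharacter_one⟩
      rw [if_neg (fun e => hne (congrArg Subtype.val e))] at h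
      simpa [classInner, Nat.card_pos.ne'] using h
    have hcong : MemLocalIdeal M ((∑ q : G ⧸ Z, (φ : G ⧸ Z → ℂ) q) - (φ : G ⧸ Z → ℂ) 1) := by
      -- pair each element with its inverse
      letI : MulAction (Multiplicative (ZMod 2)) (G ⧸ Z) :=
        { smul := fun s q => if s = 1 then q else q⁻¹
          one_smul := fun q => if_pos rfl
          mul_smul := fun s t q => by
            show (if s * t = 1 then q else q⁻¹) = if s = 1 then (if t = 1 then q else q⁻¹)
              else (if t = 1 then q else q⁻¹)⁻¹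
            have hcases : ∀ s : Multiplicative (ZMod 2), s = 1 ∨ s = Multiplicative.ofAdd 1 := by decide
            have h11 : Multiplicative.ofAdd (1 : ZMod 2) * Multiplicative.ofAdd 1 = 1 := by decide
            have h01 : Multiplicative.ofAdd (1 : ZMod 2) ≠ 1 := by decide
            rcases hcases s with rfl | rfl <;> rcases hcases t with rfl | rfl <;>
              simp [h11, h01] }
      have hG2 : IsPGroup 2 (Multiplicative (ZMod 2)) :=
        IsPGroup.of_card (n := 1) (by simp [Nat.card_eq_fintype_card])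
      have h := sum_fixedPoints_congr hM hG2 (fun q : G ⧸ Z => (φ : G ⧸ Z → ℂ) q)
        (fun q => memLR_char hP (irr_isCharacter φ.2) q) (fun s q => by
          show (φ : G ⧸ Z → ℂ) (if s = 1 then q else q⁻¹) = _
          split_ifs
          exacts [rfl, hre q])
      have e : Finset.univ.filter (· ∈ MulAction.fixedPoints (Multiplicative (ZMod 2)) (G ⧸ Z)) =
          {(1 : G ⧸ Z)} := by
        ext q
        simp only [Finset.mem_filter, Finset.mem_univ, true_and, Finset.mem_singleton]
        constructor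
        · intro hq
          have h1 : (if Multiplicative.ofAdd (1 : ZMod 2) = 1 then q else q⁻¹) = q := hq _
          rw [if_neg (by decide)] at h1
          have h2 : q ^ 2 = 1 := by
            rw [pow_two]
            nth_rw 1 [← h1]
            exact inv_mul_cancel q
          exact orderOf_eq_one_iff.mp (Nat.eq_one_of_dvd_coprimes (Nat.coprime_two_left.mpr hodd)
            (orderOf_dvd_of_pow_eq_one h2) (orderOf_dvd_natCard q))
        · rintro rfl s
          show (if s = 1 then (1 : G ⧸ Z) else 1⁻¹) = 1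
          simp
      rwa [e, Finset.sum_singleton] at h
    rw [h0, zero_sub, char_one_eq_deg (irr_isCharacter φ.2)] at hcong
    have h5 := (memLI_natCast_iff hM _).mp (by simpa using memLI_neg hP hcong)
    exact (Nat.not_even_iff_odd.mpr hodd) (even_iff_two_dvd.mpr (h5.trans (deg_dvd_card φ.2)))
  have e : (η : G → ℂ) = fun _ => 1 := funext fun g => by rw [← hφ, hone]
  exact e ▸ hη

set_option maxHeartbeats 400000 in
/-- A block of full defect for `2` whose central character is invariant under inversion on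
elements of odd order is the principal block. -/
theorem principal_of_inv_invariant (hM : IsPModular 2 M) {B : Set (IrrCharacter G)}
    (hB : IsPBlock M B) (hfull : blockDefect 2 B = (Nat.card G).factorization 2) {χ : IrrCharacter G}
    (hχ : χ ∈ B) (hinv : ∀ g : G, ¬ 2 ∣ orderOf g →
      MemLocalIdeal M (omega (χ : G → ℂ) g⁻¹ - omega (χ : G → ℂ) g)) :
    B = principalBlock M G := by
  classical
  have hP := pmod_prime hM
  haveI := Fact.mk hM.1
  obtain ⟨D, hD⟩ := exists_isDefectGroup hM hB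
  obtain ⟨y, hy, hyD⟩ := (isDefectGroup_iff B D).mp hD
  let P : Sylow 2 G := Sylow.ofCard D (by rw [card_defectGroup hM hB hD, hfull])
  set H := Subgroup.centralizer (D : Set G) with hH
  haveI : Fintype H := Fintype.ofFinite _
  have hHN : H ≤ Subgroup.normalizer (D : Set G) := Subgroup.centralizer_le_normalizer _
  have hDp : IsPGroup 2 D := P.isPGroup'
  obtain ⟨ξ, hξ⟩ := exists_brauer_char (H := H) hM hB hDp le_rfl hHN hyD.self_mem_centralizer hy.2.1
  have hres : ∀ f : G → ℂ, brRes D H f = fun x : H => f x := fun f => funext fun x => if_pos x.2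
  -- the normalizer acts on `H`
  let N := Subgroup.normalizer (D : Set G)
  have hnc : ∀ n ∈ N, ∀ x ∈ H, n * x * n⁻¹ ∈ H := by
    intro n hn x hx
    exact (conj_mem_centralizer_iff (H := N) le_rfl ⟨n, hn⟩ x).mpr hx
  let act : N →* MulAut H := conjActHom H N hnc
  obtain ⟨A, hmem⟩ : ∃ A : Set (IrrCharacter H), ∀ ψ, ψ ∈ A ↔
      ∃ n : N, SameBlock M (irrComp (act n) ξ : H → ℂ) (ψ : H → ℂ) := ⟨_, fun _ => Iff.rfl⟩
  have hA : ∀ a b : IrrCharacter H, a ∈ A → SameBlock M (a : H → ℂ) (b : H → ℂ) → b ∈ A :=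
    fun a b ha hab => let ⟨n, hn⟩ := (hmem a).mp ha
      (hmem b).mpr ⟨n, sameBlock_trans hP hn hab⟩
  set U := blockCoeff A with hU
  have hAn : ∀ (n : N) (ψ : IrrCharacter H), ψ ∈ A → irrComp (act n) ψ ∈ A := by
    intro n ψ hψ
    obtain ⟨m, hm⟩ := (hmem ψ).mp hψ
    refine (hmem _).mpr ⟨m * n, ?_⟩
    have h := sameBlock_irrComp (act n) hm
    rwa [show irrComp (act n) (irrComp (act m) ξ) = irrComp (act (m * n)) ξ from
      Subtype.ext (funext fun x => by simp [irrComp_apply, map_mul, MulAut.mul_apply])] at h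
  have hUn : ∀ (n : N) (x : H), U (act n x) = U x := by
    intro n x
    simp only [hU, blockCoeff_eq, Finset.sum_apply]
    refine Finset.sum_bij' (fun ψ _ => irrComp (act n) ψ) (fun ψ _ => irrComp (act n⁻¹) ψ)
      (fun ψ hψ => ?_) (fun ψ hψ => ?_) (fun ψ _ => ?_) (fun ψ _ => ?_) (fun ψ _ => ?_)
    · exact Finset.mem_filter.mpr ⟨Finset.mem_univ _, hAn n ψ (Finset.mem_filter.mp hψ).2⟩
    · exact Finset.mem_filter.mpr ⟨Finset.mem_univ _, hAn n⁻¹ ψ (Finset.mem_filter.mp hψ).2⟩
    · exact Subtype.ext (funext fun x => by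
        simp only [irrComp_apply, ← MulAut.mul_apply, ← map_mul, mul_inv_cancel, map_one]; rfl)
    · exact Subtype.ext (funext fun x => by
        simp only [irrComp_apply, ← MulAut.mul_apply, ← map_mul, inv_mul_cancel, map_one]; rfl)
    · simp [idem, irrComp_apply]
  have hUclass : IsClassFunction H U := isClassFunction_blockCoeff A
  have hUint : ∀ x, MemLocalRing M (U x) := fun x => memLR_blockCoeff_union hM hA x
  have hUreg : ∀ x : H, 2 ∣ orderOf x → U x = 0 := by
    intro x hx
    have : blockCoeff A x = 0 := by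
      rw [blockCoeff_eq, ← Finset.sum_fiberwise_of_maps_to
        (t := (Finset.univ.filter (· ∈ A)).image (fun ψ : IrrCharacter H => blockOf M (ψ : H → ℂ)))
        (g := fun ψ : IrrCharacter H => blockOf M (ψ : H → ℂ))
        (fun ψ hψ => Finset.mem_image_of_mem _ hψ), Finset.sum_apply]
      refine Finset.sum_eq_zero fun B' hB' => ?_
      obtain ⟨ψ, hψ, rfl⟩ := Finset.mem_image.mp hB'
      have hψA : ψ ∈ A := (Finset.mem_filter.mp hψ).2
      have h0 : blockCoeff (blockOf M (ψ : H → ℂ)) x = 0 := by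
        rw [blockCoeff, weak_orthogonality hM (isPBlock_blockOf M ψ) (by simp) hx, mul_zero]
      rw [← h0, blockCoeff_eq, Finset.sum_apply, Finset.sum_apply]
      refine Finset.sum_congr ?_ fun _ _ => rfl
      ext θ
      simp only [Finset.mem_filter, Finset.mem_univ, true_and]
      exact ⟨fun h => h.2 ▸ self_mem_blockOf hP θ,
        fun h => ⟨hA ψ θ hψA h, (blockOf_eq_of_sameBlock hP h).symm⟩⟩
    exact this
  -- fusion in the centralizer of a Sylow subgroup
  have hfus : ∀ a b : H, IsConj (a : G) b → ∃ n : N, act n a = b := by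
    intro a b hab
    obtain ⟨c, hc⟩ := isConj_iff.mp hab
    have ha : (a : G) ∈ Subgroup.centralizer (P : Set G) := a.2
    have hb : c⁻¹⁻¹ * (a : G) * c⁻¹ ∈ Subgroup.centralizer (P : Set G) := by
      rw [inv_inv, hc]; exact b.2
    obtain ⟨m, hm, he⟩ := P.conj_eq_normalizer_conj_of_mem_centralizer _ _ ha hb
    rw [inv_inv, hc] at he
    exact ⟨⟨m⁻¹, N.inv_mem hm⟩, Subtype.ext (by
      show m⁻¹ * (a : G) * m⁻¹⁻¹ = b
      rw [inv_inv, he])⟩
  let F : G → ℂ := fun g => if h : ∃ x : H, IsConj g x then U h.choose else 0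
  have hF : ∀ (g : G) (x : H), IsConj g x → F g = U x := by
    intro g x hgx
    have h : ∃ x : H, IsConj g x := ⟨x, hgx⟩
    obtain ⟨n, hn⟩ := hfus _ _ (h.choose_spec.symm.trans hgx)
    simp only [F, dif_pos h, ← hn, hUn]
  have hF0 : ∀ g : G, (¬ ∃ x : H, IsConj g x) → F g = 0 := fun g h => dif_neg h
  have hFc : IsClassFunction G F := by
    intro g k
    have hk : IsConj g (k * g * k⁻¹) := isConj_iff.mpr ⟨k, rfl⟩
    by_cases h : ∃ x : H, IsConj g x
    · obtain ⟨x, hx⟩ := h
      rw [hF g x hx, hF _ x (hk.symm.trans hx)]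
    · rw [hF0 g h, hF0 _ fun ⟨x, hx⟩ => h ⟨x, hk.trans hx⟩]
  have hFI : IsIntClassFun M F := ⟨hFc, fun g => by
    by_cases h : ∃ x : H, IsConj g x
    · obtain ⟨x, hx⟩ := h
      rw [hF g x hx]
      exact hUint x
    · rw [hF0 g h]
      exact memLR_zero hP⟩
  have hFH : (fun x : H => F x) = U := funext fun x => hF _ x (IsConj.refl _)
  let F' : G → ℂ := fun g => F g⁻¹
  have hF'c : IsClassFunction G F' := fun g k => by
    show F (k * g * k⁻¹)⁻¹ = F g⁻¹
    rw [← hFc g⁻¹ k]; group
  -- realness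
  have h1 : MemLocalIdeal M (lam (χ : G → ℂ) F' - lam (χ : G → ℂ) F) := by
    haveI := Fintype.ofFinite (ConjClasses G)
    have hc := isClassFunction_character (irr_isCharacter χ.2)
    have e : lam (χ : G → ℂ) F' = lam (fun g => (χ : G → ℂ) g⁻¹) F := by
      simp only [lam, inv_one]
      congr 1
      refine Fintype.sum_equiv (Equiv.inv G) _ _ fun x => ?_
      simp [F']
    have hc' : IsClassFunction G (fun g => (χ : G → ℂ) g⁻¹) := fun g k => by
      show (χ : G → ℂ) (k * g * k⁻¹)⁻¹ = (χ : G → ℂ) g⁻¹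
      rw [← hc g⁻¹ k]; group
    rw [e, lam_eq_sum_omega hc' hFc, lam_eq_sum_omega hc hFc, ← Finset.sum_sub_distrib]
    refine memLI_sum hP _ _ fun K _ => ?_
    rw [← mul_sub]
    by_cases hK : F K.out = 0
    · rw [hK, zero_mul]; exact memLI_zero hP
    refine memLI_mul_left hP (hFI.2 _) ?_
    have hKreg : ¬ 2 ∣ orderOf K.out := by
      intro hd
      by_cases h : ∃ x : H, IsConj K.out x
      · obtain ⟨x, hx⟩ := h
        refine hK (by
          rw [hF _ x hx]
          refine hUreg x ?_
          obtain ⟨k, hk⟩ := isConj_iff.mp hx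
          rw [← Subgroup.orderOf_coe, ← hk, ← MulAut.conj_apply, MulEquiv.orderOf_eq]
          exact hd)
      · exact hK (hF0 _ h)
    have := hinv _ hKreg
    rw [omega, omega, card_conjClass_inv] at this
    rw [omega, omega, inv_one]
    exact this
  have hξA : ξ ∈ A := (hmem ξ).mpr ⟨1, by
    rw [show irrComp (act 1) ξ = ξ from Subtype.ext (funext fun x => by rw [irrComp_apply, map_one]; rfl)]
    exact sameBlock_refl hP _⟩
  have h2 : ∀ f : G → ℂ, IsIntClassFun M f →
      MemLocalIdeal M (lam (ξ : H → ℂ) (fun x : H => f x) - lam (χ : G → ℂ) f) := fun f hf => by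
    have := hξ χ hχ f hf
    rwa [brLam, hres] at this
  have h3 : MemLocalIdeal M (lam (ξ : H → ℂ) (fun x : H => F' x) - 1) := by
    refine memLI_trans hP (h2 F' ⟨hF'c, fun g => hFI.2 _⟩) (memLI_trans hP h1 ?_)
    have h4 := h2 F hFI
    rw [hFH, hU, lam_blockCoeff, if_pos hξA] at h4
    exact memLI_symm hP h4
  have h5 : lam (ξ : H → ℂ) (fun x : H => F' x) = lam (irrConj ξ : H → ℂ) U := by
    rw [← hFH]
    simp only [lam, irrConj_apply, conj_char_one (irr_isCharacter ξ.2)]
    congr 1
    refine Fintype.sum_equiv (Equiv.inv H) _ _ fun x => ?_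
    simp [F', ← char_inv (irr_isCharacter ξ.2)]
  rw [h5, hU, lam_blockCoeff] at h3
  have hcA : irrConj ξ ∈ A := by
    by_contra hnot
    rw [if_neg hnot, zero_sub] at h3
    exact memLI_one_iff hP (by simpa using memLI_neg hP h3)
  obtain ⟨n, hn⟩ := (hmem _).mp hcA
  -- an odd power of `n` lies in the Sylow subgroup
  have hiter : ∀ k : ℕ, SameBlock M (irrComp (act (n ^ (2 * k))) ξ : H → ℂ) (ξ : H → ℂ) ∧
      SameBlock M (irrComp (act (n ^ (2 * k + 1))) ξ : H → ℂ) (irrConj ξ : H → ℂ) := by
    intro k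
    have hstep : ∀ j : ℕ, irrComp (act (n ^ (j + 1))) ξ = irrComp (act n) (irrComp (act (n ^ j)) ξ) :=
      fun j => Subtype.ext (funext fun x => by
        simp [irrComp_apply, pow_succ, MulAut.mul_apply])
    have hcc : ∀ θ : IrrCharacter H, irrComp (act n) (irrConj θ) = irrConj (irrComp (act n) θ) :=
      fun θ => rfl
    induction k with
    | zero =>
      refine ⟨?_, by simpa using hn⟩
      rw [show irrComp (act (n ^ (2 * 0))) ξ = ξ from Subtype.ext (funext fun x => by simp [irrComp_apply])]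
      exact sameBlock_refl hP _
    | succ k ih =>
      have he : SameBlock M (irrComp (act (n ^ (2 * (k + 1)))) ξ : H → ℂ) (ξ : H → ℂ) := by
        rw [show 2 * (k + 1) = (2 * k + 1) + 1 by ring, hstep]
        refine sameBlock_trans hP (sameBlock_irrComp (act n) ih.2) ?_
        rw [hcc]
        have := sameBlock_irrConj hn
        rwa [irrConj_irrConj] at this
      refine ⟨he, ?_⟩
      rw [hstep]
      exact sameBlock_trans hP (sameBlock_irrComp (act n) he) hn
  obtain ⟨e, m, hm, hcard⟩ := Nat.exists_eq_two_pow_mul_odd (Nat.card_pos (α := N)).ne'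
  obtain ⟨k, hk⟩ := hm
  subst hk
  have h2el : ∀ z : G, z ∈ N → (∃ j, orderOf z = 2 ^ j) → z ∈ D := by
    rintro z hz ⟨j, hj⟩
    have hzp : IsPGroup 2 (Subgroup.zpowers z) :=
      IsPGroup.of_card (n := j) (by rw [Nat.card_zpowers, hj])
    have hsup := hDp.to_sup_of_normal_left' hzp (Subgroup.zpowers_le.mpr hz)
    have := P.is_maximal' hsup le_sup_left
    exact this.le (Subgroup.mem_sup_right (Subgroup.mem_zpowers z))
  have hnm : ((n ^ (2 * k + 1) : N) : G) ∈ D := by
    refine h2el _ (n ^ (2 * k + 1) : N).2 ?_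
    have h1 : ((n ^ (2 * k + 1) : N) : G) ^ (2 ^ e) = 1 := by
      rw [← SubgroupClass.coe_pow, ← pow_mul, mul_comm, ← hcard, pow_card_eq_one', OneMemClass.coe_one]
    obtain ⟨j, -, hj⟩ := (Nat.dvd_prime_pow hM.1).mp (orderOf_dvd_of_pow_eq_one h1)
    exact ⟨j, hj⟩
  have hself : irrComp (act (n ^ (2 * k + 1))) ξ = ξ := Subtype.ext (funext fun x => by
    rw [irrComp_apply]
    refine congrArg (ξ : H → ℂ) (Subtype.ext ?_)
    show ((n ^ (2 * k + 1) : N) : G) * x * ((n ^ (2 * k + 1) : N) : G)⁻¹ = x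
    rw [x.2 _ hnm]
    group)
  have hreal := (hiter k).2
  rw [hself] at hreal
  -- the block of `ξ` is principal
  let Z := D.subgroupOf H
  have hZc : Z ≤ Subgroup.center H := fun z hz => Subgroup.mem_center_iff.mpr fun x =>
    Subtype.ext (x.2 _ (Subgroup.mem_subgroupOf.mp hz)).symm
  haveI : Z.Normal := ⟨fun z hz g => by
    rw [Subgroup.mem_center_iff.mp (hZc hz) g]; simpa using hz⟩
  have hZp : IsPGroup 2 Z := hDp.comap_of_injective H.subtype H.subtype_injective
  have hidx : Odd Z.index := by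
    rw [← Nat.not_even_iff_odd, even_iff_two_dvd]
    intro hd
    obtain ⟨q, hq⟩ := exists_prime_orderOf_dvd_card' (G := H ⧸ Z) 2 hd
    obtain ⟨x, rfl⟩ := QuotientGroup.mk_surjective q
    obtain ⟨j, m, hmodd, hxm⟩ := Nat.exists_eq_two_pow_mul_odd (orderOf_pos x).ne'
    have hz : x ^ m ∈ Z := by
      refine Subgroup.mem_subgroupOf.mpr (h2el _ (hHN (x ^ m : H).2) ?_)
      have h1 : ((x ^ m : H) : G) ^ (2 ^ j) = 1 := by
        rw [← SubgroupClass.coe_pow, ← pow_mul, mul_comm, ← hxm, pow_orderOf_eq_one, OneMemClass.coe_one]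
      obtain ⟨i, -, hi⟩ := (Nat.dvd_prime_pow hM.1).mp (orderOf_dvd_of_pow_eq_one h1)
      exact ⟨i, hi⟩
    have h0 : (x : H ⧸ Z) ^ m = 1 := (QuotientGroup.eq_one_iff _).mpr hz
    exact (Nat.not_even_iff_odd.mpr hmodd)
      (even_iff_two_dvd.mpr (hq ▸ orderOf_dvd_of_pow_eq_one h0))
  have hprin := principal_of_central_two hM Z hZc hZp hidx hreal
  have hsame : SameBlock M (χ : G → ℂ) (fun _ => (1 : ℂ)) := by
    refine sameBlock_of_lam hP (ψ := ⟨_, isIrrCharacter_one⟩) fun f hf => ?_
    refine memLI_trans hP (memLI_symm hP (h2 f hf)) ?_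
    have hfH : IsIntClassFun M (fun x : H => f x) := by
      have := intClassFun_brRes hP hHN hf
      rwa [hres] at this
    refine memLI_trans hP (lam_congr hP ξ.2 isIrrCharacter_one hprin hfH.1 hfH.2) ?_
    have h0 := sum_centralizer_congr hM hDp f hf.2 (fun u _ x => hf.1 x u)
    simp only [lam, mul_one, div_one]
    have e : ∑ x : G with x ∈ Subgroup.centralizer (D : Set G), f x = ∑ x : H, f x :=
      (Finset.sum_bij (fun (x : H) _ => (x : G)) (fun x _ => Finset.mem_filter.mpr ⟨Finset.mem_univ _, x.2⟩)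
        (fun a _ b _ h => Subtype.ext h)
        (fun g hg => ⟨⟨g, (Finset.mem_filter.mp hg).2⟩, Finset.mem_univ _, rfl⟩)
        (fun x _ => rfl)).symm
    rw [e] at h0
    exact memLI_symm hP h0
  rw [block_eq_blockOf hP hB hχ]
  exact blockOf_eq_of_sameBlock hP hsame

end Cfsg.Agent.Char
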