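import Cfsg.Agent.Lib.Char.Clifford
import Cfsg.Agent.Lib.Char.BrauerConj
import Cfsg.Agent.Lib.Char.PrincipalBlock
import Cfsg.Agent.Lib.Char.Inflate
import Cfsg.Agent.Lib.Char.RealBlock
import Cfsg.Agent.Lib.Char.GlaubermanOver
import Cfsg.Agent.Lib.Char.Height

/-!
# Blocks of normal subgroups covered by blocks
-/

set_option autoImplicit false

namespace Cfsg.Agent.Char

open Cfsg Module
open scoped ComplexConjugate

universe u

variable {G : Type u} [Group G] {M : Ideal AlgInt} {p : ℕ}
variable {N : Subgroup G} [hN : N.Normal] [Fintype N]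

set_option linter.unusedSectionVars false

/-- A block idempotent-like class function on a normal subgroup fixed by the whole group. -/
def GInvariant (N : Subgroup G) [N.Normal] (f : N → ℂ) : Prop :=
  ∀ (g : G) (n : N), f (MulAut.conjNormal g n) = f n

theorem classFun_of_ginv {f : N → ℂ} (hf : GInvariant N f) : IsClassFunction N f := fun a k => by
  rw [show k * a * k⁻¹ = MulAut.conjNormal (k : G) a from Subtype.ext (by
    simp [MulAut.conjNormal_apply])]
  exact hf k a

theorem irrComp_conj_mul (g h : G) (η : IrrCharacter N) :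
    irrComp (MulAut.conjNormal h) (irrComp (MulAut.conjNormal g) η) =
      irrComp (MulAut.conjNormal (g * h)) η := Subtype.ext (funext fun n => by
  simp only [irrComp_apply, map_mul]; rfl)

theorem irrComp_conj_one (η : IrrCharacter N) : irrComp (MulAut.conjNormal (1 : G)) η = η :=
  Subtype.ext (funext fun n => by rw [irrComp_apply, map_one]; rfl)

/-- The union of the conjugates of the block of `θ`. -/
def orbU (M : Ideal AlgInt) (θ : IrrCharacter N) : Set (IrrCharacter N) :=
  {η | ∃ g : G, SameBlock M (θ : N → ℂ) (irrComp (MulAut.conjNormal g) η : N → ℂ)}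

theorem irrComp_mem_orbU {θ η : IrrCharacter N} (h : η ∈ orbU M θ) (g : G) :
    irrComp (MulAut.conjNormal g) η ∈ orbU M θ := by
  obtain ⟨k, hk⟩ := h
  exact ⟨g⁻¹ * k, by rw [irrComp_conj_mul, mul_inv_cancel_left]; exact hk⟩

theorem orbU_self (hM : M.IsPrime) (θ : IrrCharacter N) : θ ∈ orbU M θ :=
  ⟨1, by rw [irrComp_conj_one]; exact sameBlock_refl hM _⟩

theorem orbU_closed (hM : M.IsPrime) {θ η ζ : IrrCharacter N} (h : η ∈ orbU M θ)
    (hs : SameBlock M (η : N → ℂ) (ζ : N → ℂ)) : ζ ∈ orbU M θ := by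
  obtain ⟨g, hg⟩ := h
  exact ⟨g, sameBlock_trans hM hg (sameBlock_irrComp _ hs)⟩

variable [Fintype G]

theorem image_orbU (θ : IrrCharacter N) (g : G) :
    irrTransport (MulAut.conjNormal g : N ≃* N) '' orbU M θ = orbU M θ := by
  ext η
  constructor
  · rintro ⟨ζ, hζ, rfl⟩; exact irrComp_mem_orbU hζ g
  · exact fun h => ⟨irrComp (MulAut.conjNormal g⁻¹) η, irrComp_mem_orbU h _, by
      show irrComp (MulAut.conjNormal g) (irrComp (MulAut.conjNormal g⁻¹) η) = η
      rw [irrComp_conj_mul, inv_mul_cancel, irrComp_conj_one]⟩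

theorem ginv_blockCoeff_orbU (θ : IrrCharacter N) : GInvariant N (blockCoeff (orbU M θ)) :=
  fun g n => by rw [← blockCoeff_transport, image_orbU]

theorem isClassFunction_extend {f : N → ℂ} (hf : GInvariant N f) :
    IsClassFunction G (extendByZero N f) := fun a k => by
  by_cases ha : a ∈ N
  · rw [extendByZero_mem N f ha, extendByZero_mem N f (hN.conj_mem a ha k)]
    exact Eq.trans (congrArg f (Subtype.ext (by simp [MulAut.conjNormal_apply]))) (hf k ⟨a, ha⟩)
  · rw [extendByZero_not_mem N f ha, extendByZero_not_mem]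
    exact fun h => ha (by simpa [mul_assoc] using hN.conj_mem _ h k⁻¹)

theorem lam_irrComp {f : N → ℂ} (hf : GInvariant N f) (g : G) (η : IrrCharacter N) :
    lam (irrComp (MulAut.conjNormal g) η : N → ℂ) f = lam (η : N → ℂ) f := by
  simp only [lam, irrComp_apply, map_one]
  congr 1
  exact Fintype.sum_equiv (MulAut.conjNormal g).toEquiv _ _ fun n => by
    show _ = f (MulAut.conjNormal g n) * _
    rw [hf]
    rfl

theorem exists_constituent (χ : IrrCharacter G) : ∃ θ : IrrCharacter N,
    classInner (fun n : N => (χ : G → ℂ) n) (θ : N → ℂ) ≠ 0 := by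
  by_contra h
  push Not at h
  have hc : IsClassFunction N (fun n : N => (χ : G → ℂ) n) :=
    isClassFunction_character (isCharacter_comp N.subtype (irr_isCharacter χ.2))
  have h1 := congrFun (classFun_expansion hc) 1
  rw [Finset.sum_apply, Finset.sum_eq_zero fun η _ => by rw [h η, zero_smul]; rfl] at h1
  exact irr_one_ne_zero χ.2 h1

theorem constituent_irrComp {χ : IrrCharacter G} {θ : IrrCharacter N}
    (h : classInner (fun n : N => (χ : G → ℂ) n) (θ : N → ℂ) ≠ 0) (g : G) :
    classInner (fun n : N => (χ : G → ℂ) n) (irrComp (MulAut.conjNormal g) θ : N → ℂ) ≠ 0 := by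
  rw [show (irrComp (MulAut.conjNormal g) θ : N → ℂ) = fun n => (θ : N → ℂ) (MulAut.conjNormal g n)
    from rfl, classInner_restrict_conj (isClassFunction_character (irr_isCharacter χ.2))]
  exact h

/-- A character takes the same value as its constituents on invariant functions of `N`. -/
theorem lam_extend_of_constituent {χ : IrrCharacter G} {θ : IrrCharacter N}
    (h : classInner (fun n : N => (χ : G → ℂ) n) (θ : N → ℂ) ≠ 0) {f : N → ℂ}
    (hf : GInvariant N f) :
    lam (χ : G → ℂ) (extendByZero N f) = lam (θ : N → ℂ) f := by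
  have hcl := clifford_restrict χ θ h
  have hψ : ∀ ψ ∈ cliffOrbit N θ,
      ∑ n : N, f n * (ψ : N → ℂ) n = lam (θ : N → ℂ) f * (ψ : N → ℂ) 1 := by
    intro ψ hψ
    obtain ⟨g, rfl⟩ := mem_cliffOrbit.mp hψ
    rw [← lam_irrComp hf g θ, lam, div_mul_cancel₀ _ (irr_one_ne_zero (Subtype.prop _))]
  have hval : ∀ n : N, (χ : G → ℂ) n = classInner (fun n : N => (χ : G → ℂ) n) (θ : N → ℂ) *
      ∑ ψ ∈ cliffOrbit N θ, (ψ : N → ℂ) n := fun n => by
    conv_lhs => rw [show (χ : G → ℂ) n = (fun n : N => (χ : G → ℂ) n) n from rfl, hcl]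
    simp [Finset.sum_apply]
  set a := classInner (fun n : N => (χ : G → ℂ) n) (θ : N → ℂ) with ha
  clear_value a
  rw [lam, sum_extendByZero_mul, div_eq_iff (irr_one_ne_zero χ.2)]
  calc ∑ n : N, f n * (χ : G → ℂ) n
      = a *
        ∑ ψ ∈ cliffOrbit N θ, ∑ n : N, f n * (ψ : N → ℂ) n := by
        simp only [hval, Finset.mul_sum]
        rw [Finset.sum_comm]
        exact Finset.sum_congr rfl fun _ _ => Finset.sum_congr rfl fun _ _ => by ring
    _ = lam (θ : N → ℂ) f * (a *
        ∑ ψ ∈ cliffOrbit N θ, (ψ : N → ℂ) (1 : N)) := by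
        rw [Finset.sum_congr rfl hψ, ← Finset.mul_sum]; ring
    _ = lam (θ : N → ℂ) f * (χ : G → ℂ) 1 := by rw [← hval]; rfl

theorem intClassFun_orbU (hM : IsPModular p M) (θ : IrrCharacter N) :
    IsIntClassFun M (blockCoeff (orbU M θ)) :=
  ⟨classFun_of_ginv (ginv_blockCoeff_orbU θ),
    memLR_blockCoeff_union hM fun _ _ => orbU_closed (pmod_prime hM)⟩

theorem intClassFun_extend (hM : M.IsPrime) {f : N → ℂ} (hf : GInvariant N f)
    (hint : ∀ n, MemLocalRing M (f n)) : IsIntClassFun M (extendByZero N f) :=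
  ⟨isClassFunction_extend hf, fun x => by
    by_cases hx : x ∈ N
    · rw [extendByZero_mem N f hx]; exact hint _
    · rw [extendByZero_not_mem N f hx]; exact memLR_zero hM⟩

/-- The constituents of characters in one block lie in conjugate blocks. -/
theorem mem_orbU_of_sameBlock (hM : IsPModular p M) {χ χ' : IrrCharacter G}
    (hs : SameBlock M (χ : G → ℂ) (χ' : G → ℂ)) {θ ψ : IrrCharacter N}
    (hθ : classInner (fun n : N => (χ : G → ℂ) n) (θ : N → ℂ) ≠ 0)
    (hψ : classInner (fun n : N => (χ' : G → ℂ) n) (ψ : N → ℂ) ≠ 0) : ψ ∈ orbU M θ := by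
  have hMp := pmod_prime hM
  have hi := intClassFun_orbU hM θ
  have hF := intClassFun_extend hMp (ginv_blockCoeff_orbU (M := M) θ) hi.2
  have h := lam_congr hMp χ.2 χ'.2 hs hF.1 hF.2
  rw [lam_extend_of_constituent hθ (ginv_blockCoeff_orbU θ),
    lam_extend_of_constituent hψ (ginv_blockCoeff_orbU θ), lam_blockCoeff, lam_blockCoeff,
    if_pos (orbU_self hMp θ)] at h
  by_contra hn
  rw [if_neg hn, sub_zero] at h
  exact memLI_one_iff hMp h

/-- Covering read off central characters. -/
theorem constituent_of_congr (hM : IsPModular p M) {χ : IrrCharacter G} {θ : IrrCharacter N}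
    (h : ∀ n : N, MemLocalIdeal M
      (centralChar (χ : G → ℂ) (n : G) - inducedCentralChar N (θ : N → ℂ) (n : G))) :
    ∃ θ' : IrrCharacter N, SameBlock M (θ : N → ℂ) (θ' : N → ℂ) ∧
      classInner (fun n : N => (χ : G → ℂ) n) (θ' : N → ℂ) ≠ 0 := by
  classical
  have hMp := pmod_prime hM
  obtain ⟨θ₁, hθ₁⟩ := exists_constituent (N := N) χ
  have hinv := ginv_blockCoeff_orbU (M := M) θ
  have hi := intClassFun_orbU hM θ
  set U := blockCoeff (orbU M θ) with hU
  have h1 : MemLocalIdeal M (lam (θ₁ : N → ℂ) U - lam (θ : N → ℂ) U) := by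
    have := Fintype.ofFinite (ConjClasses G)
    rw [← lam_extend_of_constituent hθ₁ hinv]
    obtain ⟨θ₀, hθ₀⟩ : ∃ χ₀ : IrrCharacter G,
        classInner (fun n : N => (χ₀ : G → ℂ) n) (θ : N → ℂ) ≠ 0 := by
      exact exists_constituent_over N θ
    rw [← lam_extend_of_constituent hθ₀ hinv]
    have hF := intClassFun_extend hMp hinv hi.2
    rw [lam_eq_sum_omega (isClassFunction_character (irr_isCharacter χ.2)) hF.1,
      lam_eq_sum_omega (isClassFunction_character (irr_isCharacter θ₀.2)) hF.1,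
      ← Finset.sum_sub_distrib]
    refine memLI_sum hMp _ _ fun C _ => ?_
    rw [← mul_sub]
    by_cases hx : C.out ∈ N
    · refine memLI_mul_left hMp (hF.2 _) ?_
      rw [omega_eq_centralChar, omega_eq_centralChar,
        (constituent_restrict_iff N θ₀ θ).mp hθ₀ ⟨_, hx⟩]
      exact h ⟨_, hx⟩
    · rw [extendByZero_not_mem N _ hx, zero_mul]
      exact memLI_zero hMp
  rw [hU, lam_blockCoeff, lam_blockCoeff, if_pos (orbU_self hMp θ)] at h1
  by_cases hm : θ₁ ∈ orbU M θ
  · obtain ⟨g, hg⟩ := hm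
    exact ⟨_, hg, constituent_irrComp hθ₁ g⟩
  · rw [if_neg hm, zero_sub] at h1
    exact absurd (by simpa using memLI_neg hMp h1) (memLI_one_iff (M := M) hMp)

/-- Over a normal subgroup of `p`-power index the covering block is unique. -/
theorem sameBlock_of_pIndex (hM : IsPModular p M) {k : ℕ} (hk : N.index = p ^ k)
    {χ χ' : IrrCharacter G} {θ θ' : IrrCharacter N}
    (hs : SameBlock M (θ : N → ℂ) (θ' : N → ℂ))
    (hθ : classInner (fun n : N => (χ : G → ℂ) n) (θ : N → ℂ) ≠ 0)
    (hθ' : classInner (fun n : N => (χ' : G → ℂ) n) (θ' : N → ℂ) ≠ 0) :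
    SameBlock M (χ : G → ℂ) (χ' : G → ℂ) := by
  have hMp := pmod_prime hM
  have hB := isPBlock_blockOf M χ
  set B := blockOf M (χ : G → ℂ) with hBdef
  have hb := isIntClassFun_blockCoeff hM hB
  set f : N → ℂ := fun n => blockCoeff B n with hf
  have hinv : GInvariant N f := fun g n => by
    show blockCoeff B (MulAut.conjNormal g n : G) = _
    rw [MulAut.conjNormal_apply, hb.1]
  have hext : extendByZero N f = blockCoeff B := by
    funext x
    by_cases hx : x ∈ N
    · rw [extendByZero_mem N f hx]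
    · rw [extendByZero_not_mem N f hx]
      have hd : p ∣ orderOf x := by
        by_contra hd
        refine hx ((QuotientGroup.eq_one_iff x).mp (orderOf_eq_one_iff.mp ?_))
        refine Nat.eq_one_of_dvd_coprimes
          (Nat.Coprime.pow_left k (hM.1.coprime_iff_not_dvd.mpr hd)) ?_
          (orderOf_map_dvd (QuotientGroup.mk' N) x)
        rw [← hk]
        exact orderOf_dvd_natCard _
      rw [blockCoeff, weak_orthogonality hM hB (by simp [hM.1.ne_one]) hd, mul_zero]
  have h := lam_congr hMp θ.2 θ'.2 hs (classFun_of_ginv hinv) (fun n => hb.2 _)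
  rw [← lam_extend_of_constituent hθ hinv, ← lam_extend_of_constituent hθ' hinv, hext,
    lam_blockCoeff, lam_blockCoeff, if_pos (self_mem_blockOf hMp χ)] at h
  by_contra hn
  rw [if_neg (show χ' ∉ B from hn), sub_zero] at h
  exact memLI_one_iff hMp h

/-- Irreducible characters of a `p'`-group are alone in their blocks. -/
theorem eq_of_sameBlock_of_coprime {H : Type u} [Group H] [Fintype H] (hM : IsPModular p M)
    (hH : ¬ p ∣ Nat.card H) {θ η : IrrCharacter H}
    (hs : SameBlock M (θ : H → ℂ) (η : H → ℂ)) : η = θ := by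
  have h0 : (Nat.card H).factorization p = 0 := Nat.factorization_eq_zero_of_not_dvd hH
  have h1 : η ∈ blockOf M (θ : H → ℂ) := hs
  rw [(singleton_iff_dexp hM θ).mpr
    (le_antisymm (dexp_le θ.2) (h0.le.trans (Nat.zero_le _)))] at h1
  exact h1

/-- Constituents in a normal `p'`-subgroup are constant on blocks. -/
theorem constituent_of_sameBlock (hM : IsPModular p M) (hN' : ¬ p ∣ Nat.card N)
    {χ ψ : IrrCharacter G} (hs : SameBlock M (χ : G → ℂ) (ψ : G → ℂ)) {θ : IrrCharacter N}
    (hθ : classInner (fun n : N => (χ : G → ℂ) n) (θ : N → ℂ) ≠ 0) :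
    classInner (fun n : N => (ψ : G → ℂ) n) (θ : N → ℂ) ≠ 0 := by
  obtain ⟨η, hη⟩ := exists_constituent (N := N) ψ
  obtain ⟨g, hg⟩ := mem_orbU_of_sameBlock hM hs hθ hη
  have := constituent_irrComp hη g
  rwa [eq_of_sameBlock_of_coprime hM hN' hg] at this

/-- Blocks of a quotient by a normal `p'`-subgroup. -/
theorem sameBlock_deflate (hM : IsPModular p M) (hN' : ¬ p ∣ Nat.card N)
    {χ ψ : IrrCharacter G} {χ' ψ' : IrrCharacter (G ⧸ N)}
    (hχ : ∀ g : G, (χ : G → ℂ) g = (χ' : G ⧸ N → ℂ) g)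
    (hψ : ∀ g : G, (ψ : G → ℂ) g = (ψ' : G ⧸ N → ℂ) g)
    (hs : SameBlock M (χ : G → ℂ) (ψ : G → ℂ)) :
    SameBlock M (χ' : G ⧸ N → ℂ) (ψ' : G ⧸ N → ℂ) := by
  classical
  have hMp := pmod_prime hM
  intro q
  have hN0 : (Nat.card N : ℂ) ≠ 0 := Nat.cast_ne_zero.mpr Nat.card_pos.ne'
  set f : G ⧸ N → ℂ := fun x => if IsConj q x then 1 else 0 with hf
  set F : G → ℂ := fun x => (Nat.card N : ℂ)⁻¹ * f x with hF
  have hFI : IsIntClassFun M F := by
    refine ⟨fun a k => ?_, fun x => memLR_mul hMp (memLR_inv_natCast hM hN') ?_⟩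
    · simp only [hF, hf, QuotientGroup.mk_mul, QuotientGroup.mk_inv]
      congr 1
      exact if_congr ⟨fun h => h.trans (isConj_iff.mpr ⟨(k : G ⧸ N)⁻¹, by group⟩),
        fun h => h.trans (isConj_iff.mpr ⟨(k : G ⧸ N), rfl⟩)⟩ rfl rfl
    · simp only [hf]
      split_ifs
      exacts [memLR_one hMp, memLR_zero hMp]
  have key : ∀ (φ : IrrCharacter G) (φ' : IrrCharacter (G ⧸ N)),
      (∀ g : G, (φ : G → ℂ) g = (φ' : G ⧸ N → ℂ) g) →
      lam (φ : G → ℂ) F = centralChar (φ' : G ⧸ N → ℂ) q := by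
    intro φ φ' h
    rw [← omega_eq_centralChar, ← lam_classInd _ (isClassFunction_character (irr_isCharacter φ'.2)) q,
      lam, lam, h 1, QuotientGroup.mk_one]
    congr 1
    simp only [hF, mul_assoc, h, ← Finset.mul_sum]
    rw [sum_comp_mk N (fun x => f x * (φ' : G ⧸ N → ℂ) x), inv_mul_cancel_left₀ hN0]
    simp only [hf]
    convert rfl
  rw [← key χ χ' hχ, ← key ψ ψ' hψ]
  exact lam_congr hMp χ.2 ψ.2 hs hFI.1 hFI.2

end Cfsg.Agent.Char
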