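import Cfsg.Agent.Lib.Char.GlaubermanCount
import Cfsg.Agent.Lib.Char.Coprime
import Cfsg.Agent.Lib.Char.ThompsonDegree
import Cfsg.Agent.Lib.Char.Linear
import Cfsg.Agent.Lib.Char.Clifford
import Cfsg.Agent.Lib.Char.PrincipalBlock
import Cfsg.Agent.Lib.Solv.PGroupPhi
import Cfsg.Agent.Lib.Fusion.TransferSplit
import Cfsg.Agent.S0867

/-!
# The kernel of the characters of degree prime to `p`
-/

set_option autoImplicit false

namespace Cfsg.Agent.Char

open Cfsg Module
open scoped ComplexConjugate

universe u

variable {G : Type u} [Group G] [Fintype G] {p : ℕ}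

theorem char_one_real {χ : G → ℂ} (h : IsCharacter G χ) : χ 1 = ((χ 1).re : ℂ) := by
  obtain ⟨n, hn⟩ := charOne_eq_natCast h
  simp [hn]

/-- A constituent of a character is one at the kernel. -/
theorem constituent_eq_at_ker {χ : G → ℂ} (hχ : IsCharacter G χ) {ψ : IrrCharacter G}
    (hψ : classInner χ (ψ : G → ℂ) ≠ 0) {x : G} (hx : χ x = χ 1) :
    (ψ : G → ℂ) x = (ψ : G → ℂ) 1 := by
  classical
  obtain ⟨m, hm⟩ := exists_decomposition hχ
  have hmψ : classInner χ (ψ : G → ℂ) = m ψ := decomposition_coeff m hm ψ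
  have hne : m ψ ≠ 0 := fun h => hψ (by rw [hmψ, h, Nat.cast_zero])
  have hval : ∀ y, χ y = ∑ θ : IrrCharacter G, (m θ : ℂ) * (θ : G → ℂ) y := fun y => by
    have := congrFun hm y; simpa using this
  have hle : ∀ θ : IrrCharacter G, ‖(θ : G → ℂ) x‖ ≤ ((θ : G → ℂ) 1).re :=
    fun θ => char_norm_le (irr_isCharacter θ.2) x
  have hre : ((ψ : G → ℂ) x).re = ((ψ : G → ℂ) 1).re := by
    have h := congrArg Complex.re ((hval x).symm.trans (hx.trans (hval 1)))
    simp only [Complex.re_sum, Complex.mul_re, Complex.natCast_re, Complex.natCast_im, zero_mul,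
      sub_zero] at h
    have h2 := (Finset.sum_eq_sum_iff_of_le (fun θ _ => mul_le_mul_of_nonneg_left
      ((Complex.re_le_norm _).trans (hle θ)) (Nat.cast_nonneg (m θ)))).mp h ψ (Finset.mem_univ _)
    exact mul_left_cancel₀ (Nat.cast_ne_zero.mpr hne) h2
  have h0 : ((ψ : G → ℂ) x).im = 0 := by
    have h1 := hle ψ
    rw [← hre, Complex.norm_eq_sqrt_sq_add_sq] at h1
    have h2 : 0 ≤ ((ψ : G → ℂ) x).re := (Real.sqrt_nonneg _).trans h1
    have h3 := (Real.sqrt_le_left h2).mp h1
    nlinarith
  rw [char_one_real (irr_isCharacter ψ.2)]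
  exact Complex.ext (by simpa using hre) (by simpa using h0)

/-- Some constituent of an induced character has degree prime to `p`. -/
theorem exists_pPrime_over (hp : p.Prime) (H : Subgroup G) [Fintype H] (η : IrrCharacter H)
    (hH : ¬ p ∣ H.index) (hη : ¬ p ∣ charDegree (η : H → ℂ)) :
    ∃ χ : IrrCharacter G, ¬ p ∣ charDegree (χ : G → ℂ) ∧
      classInner (fun h : H => (χ : G → ℂ) h) (η : H → ℂ) ≠ 0 := by
  classical
  obtain ⟨m, hm⟩ := exists_decomposition (isCharacter_indFun H (irr_isCharacter η.2))
  by_contra hne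
  push Not at hne
  refine hp.not_dvd_mul hH hη ?_
  have h1 : H.index * charDegree (η : H → ℂ) =
      ∑ χ : IrrCharacter G, m χ * charDegree (χ : G → ℂ) := by
    have h : indFun H (η : H → ℂ) 1 = ∑ χ : IrrCharacter G, (m χ : ℂ) * (χ : G → ℂ) 1 := by
      simpa using congrFun hm 1
    rw [indFun_one] at h
    simp only [char_one_eq_deg (irr_isCharacter η.2),
      fun χ : IrrCharacter G => char_one_eq_deg (irr_isCharacter χ.2)] at h
    exact_mod_cast h
  rw [h1]
  refine Finset.dvd_sum fun χ _ => ?_
  by_cases hd : p ∣ charDegree (χ : G → ℂ)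
  · exact hd.mul_left _
  · have h0 := hne χ hd
    rw [← classInner_symm, ← frobenius H (η : H → ℂ) (isClassFunction_character (irr_isCharacter χ.2)),
      decomposition_coeff m hm χ, map_natCast, Nat.cast_eq_zero] at h0
    rw [h0, zero_mul]
    exact dvd_zero p

/-- A character of degree prime to `p` has a linear constituent on a `p`-group. -/
theorem exists_linear_constituent [Fact p.Prime] (P : Subgroup G) [Fintype P] (hP : IsPGroup p P)
    {χ : IrrCharacter G} (hχ : ¬ p ∣ charDegree (χ : G → ℂ)) :
    ∃ lam : P →* ℂˣ, classInner (fun u : P => (χ : G → ℂ) u) (fun u => (lam u : ℂ)) ≠ 0 := by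
  classical
  have hc := isCharacter_comp P.subtype (irr_isCharacter χ.2)
  obtain ⟨m, hm⟩ := exists_decomposition hc
  obtain ⟨ψ, hm0, hψ⟩ : ∃ ψ : IrrCharacter P, m ψ ≠ 0 ∧ (ψ : P → ℂ) 1 = 1 := by
    by_contra hne
    push Not at hne
    refine hχ ?_
    have h : (χ : G → ℂ) 1 = ∑ ψ : IrrCharacter P, (m ψ : ℂ) * (ψ : P → ℂ) 1 := by
      simpa using congrFun hm 1
    simp only [fun ψ : IrrCharacter P => char_one_eq_deg (irr_isCharacter ψ.2),
      char_one_eq_deg (irr_isCharacter χ.2)] at h
    have h1 : charDegree (χ : G → ℂ) = ∑ ψ, m ψ * deg (ψ : P → ℂ) := by exact_mod_cast h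
    rw [h1]
    refine Finset.dvd_sum fun ψ _ => ?_
    by_cases h0 : m ψ = 0
    · simp [h0]
    refine Dvd.dvd.mul_left ?_ _
    obtain ⟨k, hk⟩ := IsPGroup.iff_card.mp hP
    obtain ⟨i, -, hi⟩ := (Nat.dvd_prime_pow Fact.out).mp (hk ▸ deg_dvd_card ψ.2)
    rw [hi]
    refine dvd_pow_self p fun hi0 => hne ψ h0 ?_
    rw [char_one_eq_deg (irr_isCharacter ψ.2), hi, hi0, pow_zero, Nat.cast_one]
  obtain ⟨l, hl⟩ := exists_hom_of_degree_one (irr_isCharacter ψ.2) hψ
  refine ⟨l, ?_⟩
  rw [← hl, show (fun u : P => (χ : G → ℂ) u) = (χ : G → ℂ) ∘ P.subtype from rfl,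
    decomposition_coeff m hm ψ]
  exact Nat.cast_ne_zero.mpr hm0

theorem mem_commutator_of_forall_linear {x : G} (h : ∀ l : G →* ℂˣ, l x = 1) :
    x ∈ commutator G := by
  by_contra hx
  have hne : (Abelianization.of x) ≠ 1 := fun h1 => hx (by
    rw [← Abelianization.ker_of]; exact h1)
  haveI : NeZero (Monoid.exponent (Abelianization G)) := ⟨Monoid.exponent_ne_zero_of_finite⟩
  obtain ⟨f, hf⟩ := CommGroup.exists_apply_ne_one_of_hasEnoughRootsOfUnity (Abelianization G) ℂ hne
  exact hf (h (f.comp Abelianization.of))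

theorem subsingleton_irr {C : Type u} [Group C] [Finite C] [Subsingleton C] :
    Subsingleton (IrrCharacter C) := by
  have := Fintype.ofFinite C
  haveI : Subsingleton (ConjClasses C) :=
    ⟨fun a b => ConjClasses.mk_surjective.forall₂.mpr (fun x y => by rw [Subsingleton.elim x y]) a b⟩
  refine (Nat.card_eq_one_iff_unique.mp ?_).1
  rw [card_irr]
  exact Nat.card_eq_one_iff_unique.mpr ⟨inferInstance, ⟨ConjClasses.mk 1⟩⟩

theorem nontrivial_irr {C : Type u} [Group C] [Finite C] [Nontrivial C] :
    Nontrivial (IrrCharacter C) := by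
  have := Fintype.ofFinite C
  obtain ⟨c, hc⟩ := exists_ne (1 : C)
  haveI : Nontrivial (ConjClasses C) :=
    ⟨ConjClasses.mk c, ConjClasses.mk 1, fun h => hc (isConj_one_left.mp
      (ConjClasses.mk_eq_mk_iff_isConj.mp h))⟩
  rw [← Finite.one_lt_card_iff_nontrivial, card_irr, Finite.one_lt_card_iff_nontrivial]
  infer_instance

/-- A character containing the trivial character on a normal subgroup is trivial there. -/
theorem trivial_on_of_constituent (N : Subgroup G) [N.Normal] [Fintype N] (χ : IrrCharacter G)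
    (h : classInner (fun n : N => (χ : G → ℂ) n)
      ((⟨fun _ => 1, isIrrCharacter_one⟩ : IrrCharacter N) : N → ℂ) ≠ 0) (n : N) :
    (χ : G → ℂ) n = (χ : G → ℂ) 1 := by
  refine constituent_trivial_on N χ (fun h0 => h ?_) n.2
  rw [← classInner_symm, ← frobenius N (fun _ => (1 : ℂ))
    (isClassFunction_character (irr_isCharacter χ.2)), h0, map_zero]

/-- Invariant characters of a normal `p'`-subgroup and the fixed points of a `p`-group. -/
theorem invariant_irr_iff [Fact p.Prime] (L : Subgroup G) [L.Normal] [Fintype L]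
    (hL : ¬ p ∣ Nat.card L) (P : Subgroup G) (hP : IsPGroup p P) :
    L ⊓ Subgroup.centralizer (P : Set G) = ⊥ ↔
      ∀ θ : IrrCharacter L, (∀ (a : P) (n : L), (θ : L → ℂ) (MulAut.conjNormal (a : G) n) =
        (θ : L → ℂ) n) → ∀ n : L, (θ : L → ℂ) n = 1 := by
  classical
  obtain ⟨M, hM⟩ := exists_pModular (Fact.out : p.Prime)
  let φ : P →* MulAut L := (MulAut.conjNormal).comp P.subtype
  set C : Subgroup L := (L ⊓ Subgroup.centralizer (P : Set G)).subgroupOf L with hC
  have hrange : ∀ g : L, g ∈ C.subtype.range ↔ ∀ s, φ s g = g := by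
    intro g
    rw [Subgroup.range_subtype, hC, Subgroup.mem_subgroupOf, Subgroup.mem_inf,
      Subgroup.mem_centralizer_iff]
    constructor
    · intro hg s
      refine Subtype.ext ?_
      show (s : G) * g * (s : G)⁻¹ = g
      rw [hg.2 s s.2, mul_inv_cancel_right]
    · intro hg
      refine ⟨g.2, fun s hs => ?_⟩
      exact mul_inv_eq_iff_eq_mul.mp (congrArg Subtype.val (hg ⟨s, hs⟩))
  have h : CoprimeFix M p φ C.subtype :=
    { pmod := hM, pgroup := hP, coprime := hL, inj := C.subtype_injective, range := hrange }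
  let one : IrrCharacter L := ⟨fun _ => 1, isIrrCharacter_one⟩
  constructor
  · intro hbot θ hθ n
    haveI : Subsingleton C := by
      rw [hC, hbot, Subgroup.bot_subgroupOf]
      infer_instance
    haveI := subsingleton_irr (C := C)
    obtain ⟨β, hβ⟩ := h.corr_surjective (χ := θ) hθ
    obtain ⟨β', hβ'⟩ := h.corr_surjective (χ := one) (fun _ _ => rfl)
    rw [← hβ, Subsingleton.elim β β', hβ']
  · intro hall
    by_contra hne
    haveI : Nontrivial C := by
      rw [Subgroup.nontrivial_iff_ne_bot, hC, Ne, Subgroup.subgroupOf_eq_bot, disjoint_iff]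
      intro h0
      rw [inf_eq_left.mpr inf_le_left] at h0
      exact hne h0
    haveI := nontrivial_irr (C := C)
    obtain ⟨β, β', hne'⟩ := exists_pair_ne (IrrCharacter C)
    refine hne' (h.corr_injective ?_)
    exact Subtype.ext (funext fun n => (hall _ (fun a k => h.corr_inv β a k) n).trans
      (hall _ (fun a k => h.corr_inv β' a k) n).symm)

/-- The subgroup where all the characters of degree prime to `p` equal their degree. -/
def kerPPrime (p : ℕ) (G : Type u) [Group G] [Finite G] : Subgroup G where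
  carrier := {g | ∀ χ : IrrCharacter G, ¬ p ∣ charDegree (χ : G → ℂ) →
    (χ : G → ℂ) g = (χ : G → ℂ) 1}
  mul_mem' := fun {a b} ha hb χ hχ => by
    rw [char_mul_of_ker (irr_isCharacter χ.2) (ha χ hχ)]
    exact hb χ hχ
  one_mem' := fun _ _ => rfl
  inv_mem' := fun {a} ha χ hχ => by
    have := Fintype.ofFinite G
    rw [char_inv (irr_isCharacter χ.2), ha χ hχ, conj_char_one (irr_isCharacter χ.2)]

theorem kerPPrime_normal : (kerPPrime p G).Normal :=
  ⟨fun n hn g χ hχ => by rw [isClassFunction_character (irr_isCharacter χ.2) n g, hn χ hχ]⟩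

theorem kerPPrime_eq [Fact p.Prime] (P : Sylow p G) (N : Subgroup G) [N.Normal]
    (hN : N ⊓ Subgroup.centralizer ((P : Subgroup G) : Set G) = ⊥)
    (hmax : ∀ L : Subgroup G, L.Normal → L ⊓ Subgroup.centralizer ((P : Subgroup G) : Set G) = ⊥ →
      L ≤ N) :
    kerPPrime p G = (N ⊔ ⁅(P : Subgroup G), (P : Subgroup G)⁆).normalCore := by
  classical
  have hp : p.Prime := Fact.out
  haveI := kerPPrime_normal (p := p) (G := G)
  refine le_antisymm (Subgroup.normal_le_normalCore.mpr ?_) ?_
  · -- the kernel has a normal `p`-complement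
    have hKP : kerPPrime p G ⊓ (P : Subgroup G) ≤ ⁅(P : Subgroup G), (P : Subgroup G)⁆ := by
      rintro x ⟨hxK, hxP⟩
      have hx : (⟨x, hxP⟩ : P) ∈ commutator P := by
        refine mem_commutator_of_forall_linear fun l => Units.ext ?_
        let η : IrrCharacter P := ⟨fun u => (l u : ℂ), isIrrCharacter_linear l⟩
        obtain ⟨χ, hχ, hcon⟩ := exists_pPrime_over hp (P : Subgroup G) η P.not_dvd_index
          (by rw [show charDegree (η : P → ℂ) = 1 by simp [η, charDegree]]; exact hp.not_dvd_one)
        have h := constituent_eq_at_ker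
          (isCharacter_comp (P : Subgroup G).subtype (irr_isCharacter χ.2)) (ψ := η) hcon
          (x := ⟨x, hxP⟩) (hxK χ hχ)
        simpa [η] using h
      have hmap : (commutator P).map (P : Subgroup G).subtype =
          ⁅(P : Subgroup G), (P : Subgroup G)⁆ := by
        rw [commutator_def, Subgroup.map_commutator, ← MonoidHom.range_eq_map,
          Subgroup.range_subtype]
      rw [← hmap]
      exact ⟨⟨x, hxP⟩, hx, rfl⟩
    have hnpc : HasNormalPComplement p (kerPPrime p G) := by
      refine Fusion.hnpc_normal_of_frattini _ P (hKP.trans ?_)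
      haveI : Group.IsNilpotent P := P.isPGroup'.isNilpotent
      calc ⁅(P : Subgroup G), (P : Subgroup G)⁆ = (commutator P).map (P : Subgroup G).subtype := by
            rw [commutator_def, Subgroup.map_commutator, ← MonoidHom.range_eq_map,
              Subgroup.range_subtype]
        _ ≤ _ := Subgroup.map_mono (Solv.commutator_le_frattini_pgroup P.isPGroup')
    set R := pResidual p (kerPPrime p G)
    set L : Subgroup G := R.map (kerPPrime p G).subtype with hLdef
    haveI : L.Normal := ConjAct.normal_of_characteristic_of_normal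
    have hLcard : ¬ p ∣ Nat.card L := by
      rw [hLdef, Subgroup.card_map_of_injective (kerPPrime p G).subtype_injective]
      exact fun hd => (Nat.Prime.dvd_iff_not_coprime hp).mp hd (Fusion.hnpc_iff.1 hnpc).symm
    have hLK : L ≤ kerPPrime p G := Subgroup.map_subtype_le _
    have := Fintype.ofFinite L
    have hLN : L ≤ N := by
      refine hmax L inferInstance ((invariant_irr_iff L hLcard _ P.isPGroup').mpr fun θ hθ => ?_)
      set H : Subgroup G := L ⊔ (P : Subgroup G) with hH
      have hLH : L ≤ H := le_sup_left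
      set L' := L.subgroupOf H
      let e : L' ≃* L := Subgroup.subgroupOfEquivOfLe hLH
      let ϑ : L' → ℂ := fun n => (θ : L → ℂ) (e n)
      have hϑ : IsIrrCharacter L' ϑ := isIrrCharacter_comp_equiv e θ.2
      have hinv : ∀ (g : H) (n : L'), ϑ ⟨g * n * g⁻¹,
          Subgroup.Normal.conj_mem inferInstance (n : H) n.2 g⟩ = ϑ n := by
        intro g n
        have hg : (g : G) ∈ ((L ⊔ (P : Subgroup G) : Subgroup G) : Set G) := g.2
        rw [Subgroup.normal_mul] at hg
        obtain ⟨l, hl, a, ha, hla⟩ := hg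
        show (θ : L → ℂ) _ = (θ : L → ℂ) (e n)
        rw [← hθ ⟨a, ha⟩ (e n), ← isClassFunction_character (irr_isCharacter θ.2)
          (MulAut.conjNormal a (e n)) ⟨l, hl⟩]
        refine congrArg _ (Subtype.ext ?_)
        show (g : G) * ((n : H) : G) * (g : G)⁻¹ = l * (a * ((n : H) : G) * a⁻¹) * l⁻¹
        rw [← hla]; group
      have hdeg : ϑ 1 = (charDegree (θ : L → ℂ) : ℂ) := by
        show (θ : L → ℂ) (e 1) = _
        rw [map_one]; exact char_one_eq_deg (irr_isCharacter θ.2)
      have hd : ¬ p ∣ charDegree (θ : L → ℂ) := fun hd => hLcard (hd.trans (deg_dvd_card θ.2))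
      have ho : ¬ p ∣ detOrder ϑ := by
        intro ho
        obtain ⟨n, ρ, hρ⟩ := irr_isCharacter hϑ
        have hdvd : detOrder ϑ ∣ Nat.card L := by
          rw [detOrder_eq ρ hρ, ← Nat.card_congr e.toEquiv]
          exact orderOf_dvd_of_pow_eq_one (MonoidHom.ext fun x => by
            rw [MonoidHom.pow_apply, ← map_pow, pow_card_eq_one', map_one, MonoidHom.one_apply])
        exact hLcard (ho.trans hdvd)
      obtain ⟨j, hj⟩ : ∃ j, L'.index = p ^ j := by
        obtain ⟨k, hk⟩ := IsPGroup.iff_card.mp P.isPGroup'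
        have h1 : L.relIndex H ∣ p ^ k := by
          rw [hH, Subgroup.relIndex_sup_left, ← hk]
          exact Subgroup.relIndex_dvd_card L (P : Subgroup G)
        obtain ⟨j, -, hj⟩ := (Nat.dvd_prime_pow hp).mp h1
        exact ⟨j, hj⟩
      obtain ⟨η, ⟨hη, hηres, -⟩, -⟩ := Cfsg.Agent.S0867.result L' ϑ hϑ hinv _ hdeg (by
        rw [hj]
        exact (((Nat.Prime.coprime_iff_not_dvd hp).2 (hp.not_dvd_mul ho hd)).pow_left j))
      have := Fintype.ofFinite H
      have hηd : charDegree η = charDegree (θ : L → ℂ) := by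
        have h1 := hηres 1
        rw [OneMemClass.coe_one, hdeg, char_one_eq_deg (irr_isCharacter hη)] at h1
        exact_mod_cast h1
      have hHi : ¬ p ∣ H.index := fun hdd =>
        P.not_dvd_index (hdd.trans (Subgroup.index_dvd_of_le le_sup_right))
      obtain ⟨χ, hχ, hcon⟩ := exists_pPrime_over hp H ⟨η, hη⟩ hHi (by rw [hηd]; exact hd)
      intro n
      have h1 := constituent_eq_at_ker (isCharacter_comp H.subtype (irr_isCharacter χ.2))
        (ψ := ⟨η, hη⟩) hcon (x := ⟨n, hLH n.2⟩) (hLK n.2 χ hχ)
      change η _ = η 1 at h1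
      have h2 : (θ : L → ℂ) n = (θ : L → ℂ) 1 := by
        have h3 := hηres (e.symm n)
        rw [show ((e.symm n : L') : H) = ⟨n, hLH n.2⟩ from rfl, h1,
          show η 1 = η ((1 : L') : H) by rw [OneMemClass.coe_one], hηres 1] at h3
        simpa [ϑ] using h3.symm
      -- a character equal to its degree everywhere is trivial
      have hall : ∀ k : L, (θ : L → ℂ) k = (θ : L → ℂ) 1 := by
        intro k
        have h1 := constituent_eq_at_ker (isCharacter_comp H.subtype (irr_isCharacter χ.2))
          (ψ := ⟨η, hη⟩) hcon (x := ⟨k, hLH k.2⟩) (hLK k.2 χ hχ)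
        change η _ = η 1 at h1
        have h3 := hηres (e.symm k)
        rw [show ((e.symm k : L') : H) = ⟨k, hLH k.2⟩ from rfl, h1,
          show η 1 = η ((1 : L') : H) by rw [OneMemClass.coe_one], hηres 1] at h3
        simpa [ϑ] using h3.symm
      have htriv : θ = ⟨fun _ => 1, isIrrCharacter_one⟩ := by
        by_contra hne
        have h0 := irrC_orth θ ⟨fun _ => 1, isIrrCharacter_one⟩
        rw [if_neg hne] at h0
        simp only [classInner, map_one, mul_one, hall, Finset.sum_const, nsmul_eq_mul,
          Finset.card_univ, ← Nat.card_eq_fintype_card] at h0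
        exact irr_one_ne_zero θ.2 (by
          rwa [← mul_assoc, inv_mul_cancel₀ (Nat.cast_ne_zero.mpr Nat.card_pos.ne'), one_mul] at h0)
      rw [htriv]
    -- the kernel is covered by `L` and `P`
    set T : Subgroup G := L ⊔ ((P : Subgroup G) ⊓ (kerPPrime p G))
    have h1 : T.relIndex (kerPPrime p G) ∣ L.relIndex (kerPPrime p G) := Subgroup.relIndex_dvd_of_le_left (kerPPrime p G) le_sup_left
    have h2 : T.relIndex (kerPPrime p G) ∣ (P : Subgroup G).relIndex (kerPPrime p G) := by
      rw [← Subgroup.inf_relIndex_right (P : Subgroup G) (kerPPrime p G)]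
      exact Subgroup.relIndex_dvd_of_le_left (kerPPrime p G) le_sup_right
    have h3 : ∃ j, L.relIndex (kerPPrime p G) = p ^ j := by
      obtain ⟨j, hj⟩ : ∃ j, R.index = p ^ j :=
        IsPGroup.iff_card.1 (Fusion.isPGroup_quotient_pResidual (G := kerPPrime p G) (p := p))
      refine ⟨j, ?_⟩
      rw [Subgroup.relIndex, hLdef, Subgroup.subgroupOf,
        Subgroup.comap_map_eq_self_of_injective (kerPPrime p G).subtype_injective, hj]
    have h4 : ¬ p ∣ (P : Subgroup G).relIndex (kerPPrime p G) := by
      intro hd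
      have e1 := Subgroup.relIndex_mul_relIndex ((P : Subgroup G) ⊓ (kerPPrime p G)) (P : Subgroup G)
        ((P : Subgroup G) ⊔ (kerPPrime p G)) inf_le_left le_sup_left
      have e2 := Subgroup.relIndex_mul_relIndex ((P : Subgroup G) ⊓ (kerPPrime p G)) (kerPPrime p G)
        ((P : Subgroup G) ⊔ (kerPPrime p G)) inf_le_right le_sup_right
      rw [Subgroup.relIndex_sup_right, Subgroup.inf_relIndex_right] at e2
      rw [show ((P : Subgroup G) ⊓ (kerPPrime p G)).relIndex (P : Subgroup G) = (kerPPrime p G).relIndex (P : Subgroup G) by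
        rw [inf_comm, Subgroup.inf_relIndex_right], ← e2, mul_comm] at e1
      have h0 : (kerPPrime p G).relIndex (P : Subgroup G) ≠ 0 := Subgroup.index_ne_zero_of_finite
      have e3 := Nat.eq_of_mul_eq_mul_right (Nat.pos_of_ne_zero h0) e1
      exact P.not_dvd_index ((e3.symm ▸ hd : p ∣ (P : Subgroup G).relIndex ((P : Subgroup G) ⊔ (kerPPrime p G))).trans
        (Dvd.intro _ (Subgroup.relIndex_mul_index le_sup_left)))
    obtain ⟨j, hj⟩ := h3
    rw [hj] at h1
    obtain ⟨i, -, hi⟩ := (Nat.dvd_prime_pow hp).mp h1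
    rw [hi] at h2
    have hi0 : i = 0 := by
      by_contra h0
      exact h4 ((dvd_pow_self p h0).trans h2)
    rw [hi0, pow_zero, Subgroup.relIndex_eq_one] at hi
    refine hi.trans (sup_le_sup hLN ?_)
    rw [inf_comm]; exact hKP
  · intro r hr χ hχ
    set R := (N ⊔ ⁅(P : Subgroup G), (P : Subgroup G)⁆).normalCore with hR
    have := Fintype.ofFinite N
    have := Fintype.ofFinite R
    -- `N` is a `p'`-group
    have hNp : ¬ p ∣ Nat.card N := by
      intro hd
      let A : MulAction P N := MulAction.compHom N ((MulAut.conjNormal (H := N)).comp (P : Subgroup G).subtype)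
      obtain ⟨n, hn, hne⟩ := (letI := A; P.isPGroup'.exists_fixed_point_of_prime_dvd_card_of_fixed_point
        (α := N) hd (a := 1) (fun a => map_one (MulAut.conjNormal (a : G))))
      have hmem : (n : G) ∈ N ⊓ Subgroup.centralizer ((P : Subgroup G) : Set G) := by
        refine ⟨n.2, Subgroup.mem_centralizer_iff.mpr fun w hw => ?_⟩
        exact mul_inv_eq_iff_eq_mul.mp (congrArg Subtype.val (hn ⟨w, hw⟩))
      rw [hN, Subgroup.mem_bot] at hmem
      exact hne (Subtype.ext hmem.symm)
    -- an invariant constituent on `N`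
    have hχN := isCharacter_comp N.subtype (irr_isCharacter χ.2)
    obtain ⟨m, hm⟩ := exists_decomposition hχN
    letI act : MulAction (P : Subgroup G) (IrrCharacter N) := irrConjAct N (P : Subgroup G)
    have hinv : ∀ (a : (P : Subgroup G)) (θ : IrrCharacter N),
        m (a • θ) * charDegree ((a • θ : IrrCharacter N) : N → ℂ) =
          m θ * charDegree (θ : N → ℂ) := by
      intro a θ
      have e1 : m (a • θ) = m θ := by
        have h := classInner_restrict_conj (N := N)
          (isClassFunction_character (irr_isCharacter χ.2)) (θ : N → ℂ) (a : G)⁻¹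
        have h' : (m (a • θ) : ℂ) = m θ :=
          (decomposition_coeff m hm (a • θ)).symm.trans (h.trans (decomposition_coeff m hm θ))
        exact_mod_cast h'
      have e2 : charDegree ((a • θ : IrrCharacter N) : N → ℂ) = charDegree (θ : N → ℂ) := by
        show charDegree (irrComp (MulAut.conjNormal (a : G)⁻¹) θ : N → ℂ) = _
        simp only [charDegree, irrComp_apply, map_one]
      rw [e1, e2]
    obtain ⟨θ, hθfix, hθm⟩ : ∃ θ : IrrCharacter N,
        θ ∈ MulAction.fixedPoints (P : Subgroup G) (IrrCharacter N) ∧ m θ ≠ 0 := by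
      by_contra hne
      push Not at hne
      refine hχ ((CharP.cast_eq_zero_iff (ZMod p) p _).mp ?_)
      have h := sum_eq_sum_fixed P.isPGroup' (fun θ : IrrCharacter N => m θ * charDegree (θ : N → ℂ)) hinv
      have hdeg : charDegree (χ : G → ℂ) = ∑ θ : IrrCharacter N, m θ * charDegree (θ : N → ℂ) := by
        have h : (χ : G → ℂ) 1 = ∑ θ : IrrCharacter N, (m θ : ℂ) * (θ : N → ℂ) 1 := by
          simpa using congrFun hm 1
        simp only [char_one_eq_deg (irr_isCharacter χ.2),
          fun θ : IrrCharacter N => char_one_eq_deg (irr_isCharacter θ.2)] at h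
        exact_mod_cast h
      rw [hdeg, h, Finset.sum_eq_zero fun θ hθ => by rw [hne θ (Finset.mem_filter.mp hθ).2, zero_mul],
        Nat.cast_zero]
    have hθ1 : ∀ n : N, (θ : N → ℂ) n = 1 := by
      refine (invariant_irr_iff N hNp (P : Subgroup G) P.isPGroup').mp hN θ fun a n => ?_
      have h1 := congrFun (congrArg Subtype.val (hθfix a⁻¹)) n
      change (θ : N → ℂ) (MulAut.conjNormal ((a⁻¹ : (P : Subgroup G)) : G)⁻¹ n) = _ at h1
      rwa [Subgroup.coe_inv, inv_inv] at h1
    have hNker : ∀ n : N, (χ : G → ℂ) n = (χ : G → ℂ) 1 := by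
      intro n
      have hη : θ = ⟨fun _ => 1, isIrrCharacter_one⟩ := Subtype.ext (funext hθ1)
      have hne : classInner (fun n : N => (χ : G → ℂ) n)
          ((⟨fun _ => 1, isIrrCharacter_one⟩ : IrrCharacter N) : N → ℂ) ≠ 0 := by
        rw [← hη, show (fun n : N => (χ : G → ℂ) n) = (χ : G → ℂ) ∘ N.subtype from rfl,
          decomposition_coeff m hm θ]
        exact Nat.cast_ne_zero.mpr hθm
      exact trivial_on_of_constituent N χ hne n
    -- the trivial character on `R`
    have hcon : classInner (fun x : R => (χ : G → ℂ) x)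
        ((⟨fun _ => 1, isIrrCharacter_one⟩ : IrrCharacter R) : R → ℂ) ≠ 0 := by
      obtain ⟨l, hl⟩ := exists_linear_constituent (P : Subgroup G) P.isPGroup' hχ
      let W : Subgroup G := R ⊓ ⁅(P : Subgroup G), (P : Subgroup G)⁆
      have hW : W ≤ (P : Subgroup G) := inf_le_right.trans (Subgroup.commutator_le_self _)
      have hNR : N ≤ R := Subgroup.normal_le_normalCore.mpr le_sup_left
      have := Fintype.ofFinite W
      have hbij : Function.Bijective fun nw : N × W =>
          (⟨(nw.1 : G) * nw.2, R.mul_mem (hNR nw.1.2) nw.2.2.1⟩ : R) := by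
        constructor
        · rintro ⟨n, w⟩ ⟨n', w'⟩ h
          have h' : (n : G) * w = n' * w' := congrArg Subtype.val h
          have hd : ((n' : G)⁻¹ * n : G) = w' * (w : G)⁻¹ := by
            rw [eq_mul_inv_iff_mul_eq, mul_assoc, h', inv_mul_cancel_left]
          have hone : ((n' : G)⁻¹ * n : G) = 1 := by
            have h1 : orderOf ((n' : G)⁻¹ * n : G) ∣ Nat.card N :=
              Subgroup.orderOf_dvd_natCard _ (N.mul_mem (N.inv_mem n'.2) n.2)
            obtain ⟨k, hk⟩ := IsPGroup.iff_orderOf.mp P.isPGroup'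
              ⟨_, (P : Subgroup G).mul_mem (hW w'.2) ((P : Subgroup G).inv_mem (hW w.2))⟩
            rw [Subgroup.orderOf_mk, ← hd] at hk
            rw [← orderOf_eq_one_iff, hk]
            rw [hk] at h1
            rcases Nat.eq_zero_or_pos k with rfl | hk0
            · exact pow_zero p
            · exact absurd ((dvd_pow_self p hk0.ne').trans h1) hNp
          have hn : n = n' := Subtype.ext (inv_mul_eq_one.mp hone).symm
          subst hn
          exact Prod.ext rfl (Subtype.ext (mul_left_cancel h'))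
        · intro x
          have hx := Subgroup.normalCore_le _ x.2
          rw [← SetLike.mem_coe, Subgroup.normal_mul] at hx
          obtain ⟨n, hn, w, hw, hnw⟩ := hx
          refine ⟨(⟨n, hn⟩, ⟨w, ?_, hw⟩), Subtype.ext hnw⟩
          rw [show w = n⁻¹ * (x : G) by rw [← hnw]; group]
          exact R.mul_mem (R.inv_mem (hNR hn)) x.2
      intro h0
      simp only [classInner, map_one, mul_one] at h0
      rw [← (Equiv.ofBijective _ hbij).sum_comp, Fintype.sum_prod_type] at h0
      simp only [Equiv.ofBijective_apply, char_mul_of_ker (irr_isCharacter χ.2) (hNker _),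
        Finset.sum_const, nsmul_eq_mul, mul_eq_zero, inv_eq_zero, Nat.cast_eq_zero,
        Nat.card_pos.ne', Finset.card_univ, Fintype.card_ne_zero, false_or] at h0
      obtain ⟨k, hk⟩ := exists_decomposition
        (isCharacter_comp (P : Subgroup G).subtype (irr_isCharacter χ.2))
      let η : IrrCharacter P := ⟨fun u => (l u : ℂ), isIrrCharacter_linear l⟩
      have hkη : k η ≠ 0 := fun h1 => hl (by
        rw [show (fun u : (P : Subgroup G) => (χ : G → ℂ) u) = (χ : G → ℂ) ∘ (P : Subgroup G).subtype
          from rfl, show (fun u => (l u : ℂ)) = (η : P → ℂ) from rfl, decomposition_coeff k hk η,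
          h1, Nat.cast_zero])
      let incl : W →* P := Subgroup.inclusion hW
      have hval : ∀ w : W, (χ : G → ℂ) w = ∑ ψ : IrrCharacter P, (k ψ : ℂ) * (ψ : P → ℂ) (incl w) :=
        fun w => by simpa [incl] using congrFun hk (incl w)
      have hnat : ∀ ψ : IrrCharacter P, ∃ a : ℕ,
          ∑ w : W, (ψ : P → ℂ) (incl w) = ((Nat.card W * a : ℕ) : ℂ) := by
        intro ψ
        obtain ⟨a, ha⟩ := classInner_natCast (isCharacter_comp incl (irr_isCharacter ψ.2))
          (isCharacter_one (G := W))
        refine ⟨a, ?_⟩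
        rw [Nat.cast_mul, ← ha, classInner]
        simp only [map_one, mul_one, Function.comp_apply]
        rw [mul_inv_cancel_left₀ (Nat.cast_ne_zero.mpr Nat.card_pos.ne')]
      choose a ha using hnat
      simp only [hval, ← Finset.mul_sum, Finset.sum_comm (γ := W)] at h0
      simp only [ha] at h0
      have h1 : ∑ ψ : IrrCharacter P, k ψ * (Nat.card W * a ψ) = 0 := by exact_mod_cast h0
      have h2 := (Finset.sum_eq_zero_iff.mp h1) η (Finset.mem_univ _)
      have hl1 : ∀ w : W, (l (incl w) : ℂ) = 1 := by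
        intro w
        obtain ⟨u, hu, huw⟩ : ∃ u ∈ commutator P, (u : G) = w := by
          have hw := w.2.2
          have hmap : (commutator P).map (P : Subgroup G).subtype =
              ⁅(P : Subgroup G), (P : Subgroup G)⁆ := by
            rw [commutator_def, Subgroup.map_commutator, ← MonoidHom.range_eq_map,
              Subgroup.range_subtype]
          rw [← hmap] at hw
          exact Subgroup.mem_map.mp hw
        rw [show incl w = u from Subtype.ext huw.symm,
          MonoidHom.mem_ker.mp (Abelianization.commutator_subset_ker l hu), Units.val_one]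
      have h3 := ha η
      simp only [η, hl1, Finset.sum_const, Finset.card_univ, nsmul_eq_mul, mul_one,
        ← Nat.card_eq_fintype_card, Nat.cast_inj] at h3
      rw [← h3] at h2
      exact (Nat.mul_ne_zero hkη Nat.card_pos.ne') h2
    exact trivial_on_of_constituent R χ hcon ⟨r, hr⟩

end Cfsg.Agent.Char
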