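import Cfsg.Agent.Lib.Char.FreeTrace
import Cfsg.Agent.Lib.Char.BlockBasic
import Cfsg.Agent.Lib.Char.Restrict

/-!
# Weak block orthogonality
-/

set_option autoImplicit false

namespace Cfsg.Agent.Char

open Cfsg Module
open scoped ComplexConjugate

universe u

variable {G : Type u} [Group G] [Fintype G] {M : Ideal AlgInt} {p : ℕ}

theorem conv_blockCoeff (B : Set (IrrCharacter G)) :
    conv (blockCoeff B) (blockCoeff B) = blockCoeff B := by
  classical
  have hc := isClassFunction_blockCoeff B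
  conv_rhs => rw [classFun_eq_sum_idem hc]
  rw [classFun_eq_sum_idem (isClassFunction_conv hc hc)]
  refine Finset.sum_congr rfl fun χ _ => ?_
  rw [lam_conv χ.2 hc hc, lam_blockCoeff]
  split_ifs <;> simp

theorem sum_blockCoeff_conj (B : Set (IrrCharacter G)) (x y : G) :
    ∑ z : G, blockCoeff B (z * y * z⁻¹ * x⁻¹) =
      ∑ᶠ χ ∈ B, (χ : G → ℂ) x * conj ((χ : G → ℂ) y) := by
  classical
  rw [finsum_mem_irr]
  simp only [blockCoeff_eq, Finset.sum_apply]
  rw [Finset.sum_comm]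
  refine Finset.sum_congr rfl fun χ _ => ?_
  have hχ := irr_isCharacter χ.2
  have key : ∑ z : G, (χ : G → ℂ) (z * y * z⁻¹ * x⁻¹) =
      (Nat.card G : ℂ) * (χ : G → ℂ) y * (χ : G → ℂ) x⁻¹ / (χ : G → ℂ) 1 := by
    set f : G → ℂ := fun a => if IsConj y a then 1 else 0 with hf
    have hfc : IsClassFunction G f := fun a k => by
      simp only [hf]
      exact if_congr ⟨fun h => h.trans (isConj_iff.mpr ⟨k⁻¹, by simp [mul_assoc]⟩),
        fun h => h.trans (isConj_iff.mpr ⟨k, rfl⟩)⟩ rfl rfl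
    have h1 := sum_mul_shift χ.2 hfc x⁻¹
    rw [show lam (χ : G → ℂ) f = omega (χ : G → ℂ) y from
      lam_classInd _ (isClassFunction_character hχ) y] at h1
    have h2 := sum_conj_eq y (fun a => (χ : G → ℂ) (a * x⁻¹))
    have h3 : ∑ z : G, (χ : G → ℂ) (z * y * z⁻¹ * x⁻¹) =
        ∑ z : G, (χ : G → ℂ) (z⁻¹ * y * z * x⁻¹) :=
      Fintype.sum_equiv (Equiv.inv G) _ _ fun z => by simp
    have h4 : ∑ a : G with IsConj y a, (χ : G → ℂ) (a * x⁻¹) =
        omega (χ : G → ℂ) y * (χ : G → ℂ) x⁻¹ := by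
      rw [← h1]
      simp only [hf, ite_mul, one_mul, zero_mul, ← Finset.sum_filter]
    rw [h3, h2, h4, omega, ← card_conjClass_mul_centralizer y, Nat.cast_mul]
    ring
  have hne := irr_one_ne_zero χ.2
  simp only [idem, ← Finset.mul_sum, ← map_sum, key]
  rw [map_div₀, map_mul, map_mul, map_natCast, conj_char_one hχ, char_inv hχ x, Complex.conj_conj]
  field_simp

theorem weak_orthogonality_inv (hM : IsPModular p M) {B : Set (IrrCharacter G)}
    (hB : IsPBlock M B) {x y : G} (hx : ¬ p ∣ orderOf x) (hy : p ∣ orderOf y) :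
    ∑ᶠ χ ∈ B, (χ : G → ℂ) x * conj ((χ : G → ℂ) y⁻¹) = 0 := by
  classical
  have hp := hM.1
  obtain ⟨⟨w, -, -, ⟨k, hk⟩, -⟩, hsreg, hcomm⟩ := preg_spec hp y
  set s := preg p y with hs
  set v := y * s⁻¹ with hv
  have hvs : v * s = y := by rw [hv, inv_mul_cancel_right]
  have hvne : v ≠ 1 := fun h => hsreg (by rw [h, one_mul] at hvs; rwa [hvs])
  have hcvs : Commute v s := by
    rw [hv]
    exact (hcomm.symm.mul_left (Commute.refl s).inv_left)
  -- the free action
  let H := Subgroup.zpowers v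
  let σ : H →* Equiv.Perm G :=
    { toFun := fun h => Equiv.mulRight (h : G)⁻¹
      map_one' := by ext; simp
      map_mul' := fun a b => by ext i; simp [mul_assoc] }
  let a0 : G × G := (x⁻¹, s)
  let K := Subgroup.zpowers a0
  let τ : K →* Equiv.Perm G :=
    { toFun := fun a => (Equiv.mulLeft (a : G × G).1).trans (Equiv.mulRight (a : G × G).2⁻¹)
      map_one' := by ext; simp
      map_mul' := fun a b => by ext i; simp [mul_assoc] }
  let F : Matrix G G ℂ := Matrix.of fun i j => blockCoeff B (i * j⁻¹)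
  have hbc := isClassFunction_blockCoeff B
  have hF : F * F = F := by
    ext i j
    rw [Matrix.mul_apply]
    simp only [F, Matrix.of_apply]
    conv_rhs => rw [← conv_blockCoeff B]
    refine Fintype.sum_equiv ((Equiv.inv G).trans (Equiv.mulLeft i)) _ _ fun l => ?_
    simp [mul_assoc]
  have hKcard : ¬ p ∣ Nat.card K := by
    rw [Nat.card_zpowers, Prod.orderOf_mk, orderOf_inv]
    intro h
    exact (hp.dvd_mul.mp (h.trans (Nat.lcm_dvd_mul _ _))).elim hx hsreg
  have hz := twistedFreeTrace_eq_zero (ι := G) (H := H) (K := K) hM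
    ⟨k, by rw [Nat.card_zpowers]; exact hk⟩
    (fun a b => by
      obtain ⟨i, hi⟩ := Subgroup.mem_zpowers_iff.mp a.2
      obtain ⟨j, hj⟩ := Subgroup.mem_zpowers_iff.mp b.2
      exact Subtype.ext (by simp [← hi, ← hj, ← zpow_add, add_comm]))
    σ (fun h i hi => by
      have : i * (h : G)⁻¹ = i := hi
      exact Subtype.ext (by simpa using this))
    hKcard
    (fun a b => by
      obtain ⟨i, hi⟩ := Subgroup.mem_zpowers_iff.mp a.2
      obtain ⟨j, hj⟩ := Subgroup.mem_zpowers_iff.mp b.2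
      exact Subtype.ext (by
        show (a : G × G) * b = b * a
        rw [← hi, ← hj, ← zpow_add, ← zpow_add, add_comm]))
    τ (fun a h i => by
      obtain ⟨n, hn⟩ := Subgroup.mem_zpowers_iff.mp a.2
      obtain ⟨m, hm⟩ := Subgroup.mem_zpowers_iff.mp h.2
      show (a : G × G).1 * (i * (h : G)⁻¹) * (a : G × G).2⁻¹ =
        (a : G × G).1 * i * (a : G × G).2⁻¹ * (h : G)⁻¹
      rw [← hn, ← hm]
      simp only [a0, Prod.pow_mk, Prod.smul_mk]
      have hc := ((hcvs.zpow_zpow m n).inv_inv).eq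
      simp only [mul_assoc]
      rw [hc])
    F hF (fun i j => memLR_blockCoeff hM hB _)
    (fun h i j => by
      show blockCoeff B (i * (h : G)⁻¹ * (j * (h : G)⁻¹)⁻¹) = blockCoeff B (i * j⁻¹)
      congr 1; group)
    (fun a i j => by
      show blockCoeff B ((a : G × G).1 * i * (a : G × G).2⁻¹ *
        ((a : G × G).1 * j * (a : G × G).2⁻¹)⁻¹) = blockCoeff B (i * j⁻¹)
      rw [show (a : G × G).1 * i * (a : G × G).2⁻¹ * ((a : G × G).1 * j * (a : G × G).2⁻¹)⁻¹ =
        (a : G × G).1 * (i * j⁻¹) * (a : G × G).1⁻¹ by group]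
      exact hbc _ _)
    (h0 := ⟨v⁻¹, inv_mem (Subgroup.mem_zpowers v)⟩)
    (fun h => hvne (inv_eq_one.mp (congrArg Subtype.val h)))
    ⟨a0, Subgroup.mem_zpowers a0⟩
  rw [← sum_blockCoeff_conj]
  -- transform the twisted trace
  have h5 : ∀ i : G, blockCoeff B (x⁻¹ * i * s⁻¹ * (i * v⁻¹⁻¹)⁻¹) =
      blockCoeff B (i * y⁻¹ * i⁻¹ * x⁻¹) := fun i => by
    rw [inv_inv, ← hvs]
    rw [show x⁻¹ * i * s⁻¹ * (i * v)⁻¹ = x⁻¹ * (i * (v * s)⁻¹ * i⁻¹ * x⁻¹) * x⁻¹⁻¹ by group]
    exact hbc _ _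
  have h6 : ∑ i : G, blockCoeff B (i * y⁻¹ * i⁻¹ * x⁻¹) = 0 :=
    (Finset.sum_congr rfl fun i _ => (h5 i).symm).trans hz
  exact h6

/-- Weak block orthogonality (Osima). -/
theorem weak_orthogonality (hM : IsPModular p M) {B : Set (IrrCharacter G)}
    (hB : IsPBlock M B) {x y : G} (hx : ¬ p ∣ orderOf x) (hy : p ∣ orderOf y) :
    ∑ᶠ χ ∈ B, (χ : G → ℂ) x * conj ((χ : G → ℂ) y) = 0 := by
  simpa using weak_orthogonality_inv hM hB hx (y := y⁻¹) (by rwa [orderOf_inv])

end Cfsg.Agent.Char
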