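import Cfsg.Agent.Lib.Char.OverCore
import Cfsg.Agent.Lib.Char.KerPPrime
import Cfsg.Agent.Lib.Char.CoverBlocks
import Cfsg.Agent.Lib.Char.Osima

/-!
# The block over an invariant character of the `p'`-core of a constrained group
-/

set_option autoImplicit false

namespace Cfsg.Agent.Char

open Cfsg Module
open scoped ComplexConjugate Classical

universe u

variable {G : Type u} [Group G] [Fintype G] {M : Ideal AlgInt} {p : ℕ}

theorem detOrder_comp_dvd {H : Type u} [Group H] [Finite H] (α : H →* H) {χ : H → ℂ}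
    (hχ : IsCharacter H χ) : detOrder (χ ∘ α) ∣ detOrder χ := by
  obtain ⟨n, ρ, hρ⟩ := hχ
  let σ : Representation ℂ H (Fin n → ℂ) := MonoidHom.comp ρ α
  have hσ : σ.character = χ ∘ α := by rw [← hρ]; rfl
  rw [detOrder_eq σ hσ, detOrder_eq ρ hρ]
  refine orderOf_dvd_of_pow_eq_one (MonoidHom.ext fun h => ?_)
  rw [MonoidHom.pow_apply, MonoidHom.one_apply,
    show detHom σ h = detHom ρ (α h) from Units.ext rfl, ← MonoidHom.pow_apply,
    pow_orderOf_eq_one, MonoidHom.one_apply]

theorem detOrder_dvd_card {H : Type u} [Group H] [Finite H] {χ : H → ℂ} (hχ : IsCharacter H χ) :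
    detOrder χ ∣ Nat.card H := by
  obtain ⟨n, ρ, hρ⟩ := hχ
  rw [detOrder_eq ρ hρ]
  exact orderOf_dvd_of_pow_eq_one (MonoidHom.ext fun x => by
    rw [MonoidHom.pow_apply, ← map_pow, pow_card_eq_one', map_one, MonoidHom.one_apply])

/-- The canonical extension to an overgroup of `p`-power index, invariant under the normalizer. -/
theorem exists_invariant_extension [Fact p.Prime] (N : Subgroup G) [N.Normal] [Fintype N]
    (hN : ¬ p ∣ Nat.card N) (H : Subgroup G) [Fintype H] (hNH : N ≤ H) {j : ℕ}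
    (hj : N.relIndex H = p ^ j) (θ : IrrCharacter N)
    (hθ : ∀ (g : G) (n : N), (θ : N → ℂ) (MulAut.conjNormal g n) = (θ : N → ℂ) n) :
    ∃ η : IrrCharacter H, (∀ (h : H) (hh : (h : G) ∈ N), (η : H → ℂ) h = (θ : N → ℂ) ⟨h, hh⟩) ∧
      charDegree (η : H → ℂ) = charDegree (θ : N → ℂ) ∧
      ∀ (g : G) (hg : ∀ h ∈ H, g * h * g⁻¹ ∈ H) (h : H),
        (η : H → ℂ) ⟨g * h * g⁻¹, hg h h.2⟩ = (η : H → ℂ) h := by
  set N' := N.subgroupOf H with hN'
  have := Fintype.ofFinite N'
  let e : N' ≃* N := Subgroup.subgroupOfEquivOfLe hNH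
  let ϑ : N' → ℂ := fun n => (θ : N → ℂ) (e n)
  have hϑ : IsIrrCharacter N' ϑ := isIrrCharacter_comp_equiv e θ.2
  have hinv : ∀ (g : H) (n : N'), ϑ ⟨g * n * g⁻¹,
      Subgroup.Normal.conj_mem inferInstance (n : H) n.2 g⟩ = ϑ n := by
    intro g n
    show (θ : N → ℂ) _ = (θ : N → ℂ) (e n)
    rw [← hθ (g : G) (e n)]
    exact congrArg _ (Subtype.ext rfl)
  have hdeg : ϑ 1 = (charDegree (θ : N → ℂ) : ℂ) := by
    show (θ : N → ℂ) (e 1) = _
    rw [map_one]; exact char_one_eq_deg (irr_isCharacter θ.2)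
  have hp : p.Prime := Fact.out
  have hd : ¬ p ∣ charDegree (θ : N → ℂ) := fun hd => hN (hd.trans (deg_dvd_card θ.2))
  have ho : ¬ p ∣ detOrder ϑ := fun ho => hN (by
    rw [← Nat.card_congr e.toEquiv]
    exact ho.trans (detOrder_dvd_card (irr_isCharacter hϑ)))
  have hcop : ∀ a : ℕ, ¬ p ∣ a → N'.index.Coprime a := fun a ha => by
    rw [show N'.index = p ^ j from hj]
    exact ((Nat.Prime.coprime_iff_not_dvd hp).2 ha).pow_left j
  obtain ⟨η, ⟨hη, hres, hdet⟩, huniq⟩ := Cfsg.Agent.S0867.result N' ϑ hϑ hinv _ hdeg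
    ((hcop _ ho).mul_right (hcop _ hd))
  have hval : ∀ (h : H) (hh : (h : G) ∈ N), η h = (θ : N → ℂ) ⟨h, hh⟩ := fun h hh =>
    hres ⟨h, hh⟩
  refine ⟨⟨η, hη⟩, hval, ?_, fun g hg h => ?_⟩
  · have h1 := hval 1 N.one_mem
    rw [char_one_eq_deg (irr_isCharacter hη),
      show (⟨((1 : H) : G), N.one_mem⟩ : N) = 1 from rfl,
      char_one_eq_deg (irr_isCharacter θ.2)] at h1
    exact_mod_cast h1
  · let f : H →* H :=
      { toFun := fun x => ⟨g * x * g⁻¹, hg x x.2⟩
        map_one' := Subtype.ext (by simp)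
        map_mul' := fun a b => Subtype.ext (by simp [mul_assoc]) }
    have hfinj : Function.Injective f := fun a b hab =>
      Subtype.ext (mul_left_cancel (mul_right_cancel (congrArg Subtype.val hab)))
    let α : H ≃* H := MulEquiv.ofBijective f (Finite.injective_iff_bijective.mp hfinj)
    have hχ' : IsIrrCharacter H (fun x => η (α x)) := isIrrCharacter_comp_equiv α hη
    have hres' : ∀ n : N', η (α n) = ϑ n := fun n => by
      rw [hval (α n) (Subgroup.Normal.conj_mem (inferInstance : N.Normal) ((n : H) : G) n.2 g)]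
      exact hθ g (e n)
    have hd' : ¬ p ∣ detOrder (fun x => η (α x)) := fun h' => ho (by
      rw [← hdet]
      exact h'.trans (detOrder_comp_dvd α.toMonoidHom (irr_isCharacter hη)))
    exact congrFun (huniq _ hχ' hres' (hcop _ hd')) h

theorem relIndex_eq_pow_of_le (hp : p.Prime) {N H L : Subgroup G} (hNL : N ≤ L) (hNH : N ≤ H)
    (hLH : L ≤ H) {j : ℕ} (hj : N.relIndex H = p ^ j) : ∃ i, N.relIndex L = p ^ i := by
  have h : N.relIndex L ∣ p ^ j := by
    rw [← hj, ← Subgroup.relIndex_mul_relIndex N L H hNL hLH]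
    exact Dvd.intro _ rfl
  obtain ⟨i, -, hi⟩ := (Nat.dvd_prime_pow hp).mp h
  exact ⟨i, hi⟩

/-- The data of a normal `p'`-subgroup `N` and a `p`-group `Q` whose centralizer lies in a normal
subgroup `L` of `p`-power index over `N`. -/
structure OverCtx (p : ℕ) (N L Q : Subgroup G) : Prop where
  normal : N.Normal
  lnormal : L.Normal
  coprime : ¬ p ∣ Nat.card N
  le : N ≤ L
  index : ∃ j, N.relIndex L = p ^ j
  qle : Q ≤ L
  pgroup : IsPGroup p Q
  cent : ∀ x ∈ Subgroup.centralizer (Q : Set G), ¬ p ∣ orderOf x → x ∈ L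

variable {N L Q : Subgroup G}

theorem OverCtx.mem_of_regular (h : OverCtx p N L Q) [Fact p.Prime] {x : G} (hxL : x ∈ L)
    (hx : ¬ p ∣ orderOf x) : x ∈ N := by
  haveI := h.normal
  obtain ⟨j, hj⟩ := h.index
  haveI : (N.subgroupOf L).Normal := inferInstance
  have h1 : ((⟨x, hxL⟩ : L) : L ⧸ N.subgroupOf L) ^ (p ^ j) = 1 := by
    rw [← hj]; exact pow_card_eq_one' (G := L ⧸ N.subgroupOf L)
  have h2 : ((⟨x, hxL⟩ : L) : L ⧸ N.subgroupOf L) ^ orderOf x = 1 := by
    rw [← QuotientGroup.mk_pow, QuotientGroup.eq_one_iff, Subgroup.mem_subgroupOf]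
    simp [pow_orderOf_eq_one]
  have h3 := pow_gcd_eq_one.mpr ⟨h1, h2⟩
  rwa [Nat.Coprime.gcd_eq_one (((Nat.Prime.coprime_iff_not_dvd Fact.out).mpr hx).pow_left j),
    pow_one, QuotientGroup.eq_one_iff] at h3

/-- Every character over `θ` is linked to one whose restriction to `L` is a multiple of the
canonical extension. -/
theorem OverCtx.exists_homogeneous (h : OverCtx p N L Q) [Fintype N] [Fintype L]
    (hM : IsPModular p M) (θ : IrrCharacter N) (η : IrrCharacter L)
    (hres : ∀ (l : L) (hl : (l : G) ∈ N), (η : L → ℂ) l = (θ : N → ℂ) ⟨l, hl⟩)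
    (hinv : ∀ (g : G) (l : L), (η : L → ℂ) ⟨g * l * g⁻¹, h.lnormal.conj_mem l l.2 g⟩ = (η : L → ℂ) l)
    (χ : IrrCharacter G) (hχ : classInner (fun n : N => (χ : G → ℂ) n) (θ : N → ℂ) ≠ 0) :
    ∃ χ' : IrrCharacter G, SameBlock M (χ : G → ℂ) (χ' : G → ℂ) ∧
      ∃ e : ℂ, ∀ l : L, (χ' : G → ℂ) l = e * (η : L → ℂ) l := by
  haveI := Fact.mk hM.1
  haveI := h.lnormal
  set R := indFun L (η : L → ℂ) with hR
  have hRc : IsCharacter G R := isCharacter_indFun L (irr_isCharacter η.2)
  have hne : classInner ((χ : G → ℂ) * regInd p) R ≠ 0 := by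
    have hcf : IsClassFunction G ((χ : G → ℂ) * regInd p) := fun a k => by
      simp only [Pi.mul_apply]
      rw [isClassFunction_character (irr_isCharacter χ.2) a k, isClassFunction_regInd p a k]
    rw [hR, frobenius_right L _ hcf]
    intro h0
    refine hχ ?_
    simp only [classInner, mul_eq_zero, inv_eq_zero, Nat.cast_eq_zero, Nat.card_pos.ne',
      false_or] at h0 ⊢
    rw [← h0]
    rw [← Finset.sum_filter_of_ne (p := fun l : L => (l : G) ∈ N)
      (f := fun l : L => ((χ : G → ℂ) * (regInd p : G → ℂ)) l * conj ((η : L → ℂ) l))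
      (fun l _ hl => by
        by_contra hlN
        refine hl ?_
        by_cases hs : p ∣ orderOf (l : G)
        · simp [regInd_of_sing hs]
        · exact absurd (h.mem_of_regular l.2 hs) hlN)]
    refine Finset.sum_bij (fun n _ => (⟨n, h.le n.2⟩ : L)) (fun n _ => by simp)
      (fun a _ b _ hab => Subtype.ext (congrArg (fun z : L => (z : G)) hab))
      (fun l hl => ⟨⟨l, (Finset.mem_filter.mp hl).2⟩, Finset.mem_univ _, Subtype.ext rfl⟩)
      fun n _ => ?_
    have hreg : ¬ p ∣ orderOf (n : G) := fun hd =>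
      h.coprime (hd.trans (Subgroup.orderOf_dvd_natCard _ n.2))
    rw [Pi.mul_apply, regInd_of_reg hreg, mul_one, hres ⟨n, h.le n.2⟩ n.2]
  rw [char_expansion hRc, classInner_sum_right] at hne
  obtain ⟨χ', -, hχ'⟩ := Finset.exists_ne_zero_of_sum_ne_zero hne
  rw [classInner_smul_right, ← einner] at hχ'
  refine ⟨χ', ?_, ?_⟩
  · by_contra hn
    exact hχ' (by rw [einner_eq_zero_of_not_sameBlock hM χ χ' hn, mul_zero])
  · have hcon : classInner (fun l : L => (χ' : G → ℂ) l) (η : L → ℂ) ≠ 0 := fun h0 => hχ' (by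
      rw [hR, frobenius L _ (isClassFunction_character (irr_isCharacter χ'.2)),
        ← classInner_symm, h0, map_zero, map_zero, zero_mul])
    have hcl := clifford_restrict χ' η hcon
    have horb : cliffOrbit L η = {η} := by
      ext ψ
      rw [mem_cliffOrbit, Finset.mem_singleton]
      constructor
      · rintro ⟨g, rfl⟩
        refine Subtype.ext (funext fun l => ?_)
        rw [irrComp_apply, ← hinv g l]
        rfl
      · rintro rfl
        exact ⟨1, Subtype.ext (funext fun l => by rw [irrComp_apply, map_one]; rfl)⟩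
    rw [horb, Finset.sum_singleton] at hcl
    exact ⟨_, fun l => congrFun hcl l⟩

/-- A `p'`-degree character over an invariant character. -/
theorem exists_pPrime_over_invariant [Fact p.Prime] (N : Subgroup G) [N.Normal] [Fintype N]
    (hN : ¬ p ∣ Nat.card N) (θ : IrrCharacter N)
    (hθ : ∀ (g : G) (n : N), (θ : N → ℂ) (MulAut.conjNormal g n) = (θ : N → ℂ) n) :
    ∃ χ : IrrCharacter G, ¬ p ∣ charDegree (χ : G → ℂ) ∧
      classInner (fun n : N => (χ : G → ℂ) n) (θ : N → ℂ) ≠ 0 := by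
  obtain ⟨P⟩ : Nonempty (Sylow p G) := inferInstance
  set H : Subgroup G := N ⊔ (P : Subgroup G) with hH
  have := Fintype.ofFinite H
  obtain ⟨j, hj⟩ : ∃ j, N.relIndex H = p ^ j := by
    obtain ⟨k, hk⟩ := IsPGroup.iff_card.mp P.isPGroup'
    have h1 : N.relIndex H ∣ p ^ k := by
      rw [hH, Subgroup.relIndex_sup_left, ← hk]
      exact Subgroup.relIndex_dvd_card N (P : Subgroup G)
    obtain ⟨j, -, hj⟩ := (Nat.dvd_prime_pow Fact.out).mp h1
    exact ⟨j, hj⟩
  obtain ⟨η, hres, hdeg, -⟩ := exists_invariant_extension N hN H le_sup_left hj θ hθ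
  have hd : ¬ p ∣ charDegree (θ : N → ℂ) := fun hd => hN (hd.trans (deg_dvd_card θ.2))
  obtain ⟨χ, hχ, hcon⟩ := exists_pPrime_over Fact.out H η
    (fun hdd => P.not_dvd_index (hdd.trans (Subgroup.index_dvd_of_le le_sup_right)))
    (by rw [hdeg]; exact hd)
  refine ⟨χ, hχ, ?_⟩
  obtain ⟨m, hm⟩ := exists_decomposition (isCharacter_comp H.subtype (irr_isCharacter χ.2))
  have hmη : m η ≠ 0 := fun h0 => hcon (by
    rw [show (fun x : H => (χ : G → ℂ) x) = (χ : G → ℂ) ∘ H.subtype from rfl,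
      decomposition_coeff m hm η, h0, Nat.cast_zero])
  let incl : N →* H := Subgroup.inclusion le_sup_left
  obtain ⟨k, hk⟩ : ∃ k : IrrCharacter H → ℕ, ∀ ψ : IrrCharacter H,
      classInner ((ψ : H → ℂ) ∘ incl) (θ : N → ℂ) = k ψ :=
    ⟨fun ψ => (classInner_natCast (isCharacter_comp incl (irr_isCharacter ψ.2))
      (irr_isCharacter θ.2)).choose, fun ψ => (classInner_natCast
      (isCharacter_comp incl (irr_isCharacter ψ.2)) (irr_isCharacter θ.2)).choose_spec⟩
  have hval : (fun n : N => (χ : G → ℂ) n) =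
      ∑ ψ : IrrCharacter H, (m ψ : ℂ) • ((ψ : H → ℂ) ∘ incl) := by
    funext n
    simpa [incl] using congrFun hm (incl n)
  rw [hval, classInner_sum_left]
  simp only [classInner_smul_left, hk]
  intro h0
  have h1 : ∑ ψ : IrrCharacter H, m ψ * k ψ = 0 := by exact_mod_cast h0
  have hkη : k η ≠ 0 := fun h2 => by
    have h3 := hk η
    rw [h2, Nat.cast_zero, show (η : H → ℂ) ∘ incl = (θ : N → ℂ) from
      funext fun n => hres (incl n) n.2, irr_self θ.2] at h3
    exact one_ne_zero h3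
  exact Nat.mul_ne_zero hmη hkη ((Finset.sum_eq_zero_iff.mp h1) η (Finset.mem_univ _))

/-- The characters over an invariant character form one block, of full defect. -/
theorem OverCtx.isPBlock (h : OverCtx p N L Q) [Fintype N] (hM : IsPModular p M)
    (θ : IrrCharacter N)
    (hθ : ∀ (g : G) (n : N), (θ : N → ℂ) ⟨g * n * g⁻¹, h.normal.conj_mem n n.2 g⟩ = (θ : N → ℂ) n)
    (B : Set (IrrCharacter G))
    (hB : ∀ χ : IrrCharacter G, χ ∈ B ↔ classInner (fun n : N => (χ : G → ℂ) n) (θ : N → ℂ) ≠ 0) :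
    IsPBlock M B ∧ ∀ S : Sylow p G, IsDefectGroup p M B S := by
  have hP := pmod_prime hM
  haveI := Fact.mk hM.1
  haveI := h.normal
  haveI := h.lnormal
  have := Fintype.ofFinite L
  have hθ' : ∀ (g : G) (n : N), (θ : N → ℂ) (MulAut.conjNormal g n) = (θ : N → ℂ) n := fun g n => by
    rw [← hθ g n]; exact congrArg _ (Subtype.ext rfl)
  obtain ⟨j, hj⟩ := h.index
  obtain ⟨η, hres, hdeg, hinv⟩ := exists_invariant_extension N h.coprime L h.le hj θ hθ'
  have hinv' : ∀ (g : G) (l : L),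
      (η : L → ℂ) ⟨g * l * g⁻¹, h.lnormal.conj_mem l l.2 g⟩ = (η : L → ℂ) l :=
    fun g l => hinv g (fun x hx => h.lnormal.conj_mem x hx g) l
  have hnorm : ∀ (χ : IrrCharacter G) (e : ℂ), (∀ l : L, (χ : G → ℂ) l = e * (η : L → ℂ) l) →
      classInner (fun n : N => (χ : G → ℂ) n) (fun n : N => (χ : G → ℂ) n) =
        classInner (fun l : L => (χ : G → ℂ) l) (fun l : L => (χ : G → ℂ) l) := by
    intro χ e he
    rw [show (fun l : L => (χ : G → ℂ) l) = e • (η : L → ℂ) from funext he,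
      show (fun n : N => (χ : G → ℂ) n) = e • (θ : N → ℂ) from funext fun n => by
        rw [he ⟨n, h.le n.2⟩, hres ⟨n, h.le n.2⟩ n.2]; rfl,
      classInner_smul_left, classInner_smul_right, classInner_smul_left, classInner_smul_right,
      irr_self θ.2, irr_self η.2]
  have hsame : ∀ χ ψ : IrrCharacter G, classInner (fun n : N => (χ : G → ℂ) n) (θ : N → ℂ) ≠ 0 →
      classInner (fun n : N => (ψ : G → ℂ) n) (θ : N → ℂ) ≠ 0 →
      SameBlock M (χ : G → ℂ) (ψ : G → ℂ) := by
    intro χ ψ hχ hψ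
    obtain ⟨χ', hs, e, he⟩ := h.exists_homogeneous hM θ η hres hinv' χ hχ
    obtain ⟨ψ', hs', e', he'⟩ := h.exists_homogeneous hM θ η hres hinv' ψ hψ
    have hω : ∀ g : G, ¬ p ∣ orderOf g →
        MemLocalIdeal M (omega (χ' : G → ℂ) g - omega (ψ' : G → ℂ) g) := by
      intro g hgreg
      by_cases hc : ∃ x, IsConj g x ∧ x ∈ Subgroup.centralizer (Q : Set G)
      · obtain ⟨x, hx, hxc⟩ := hc
        obtain ⟨c, hc'⟩ := isConj_iff.mp hx
        have hxreg : ¬ p ∣ orderOf x := by
          rw [← hc', ← MulAut.conj_apply, MulEquiv.orderOf_eq]; exact hgreg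
        have hgL : g ∈ L := by
          have := h.lnormal.conj_mem x (h.cent x hxc hxreg) c⁻¹
          rwa [← hc', inv_inv, show c⁻¹ * (c * g * c⁻¹) * c = g by group] at this
        have key : ∀ (φ : IrrCharacter G) (a : ℂ), (∀ l : L, (φ : G → ℂ) l = a * (η : L → ℂ) l) →
            omega (φ : G → ℂ) g =
              (Nat.card {y : G // IsConj g y} : ℂ) * (η : L → ℂ) ⟨g, hgL⟩ / (η : L → ℂ) 1 := by
          intro φ a ha
          have h1 : (φ : G → ℂ) 1 = a * (η : L → ℂ) 1 := ha 1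
          have ha0 : a ≠ 0 := fun h0 => irr_one_ne_zero φ.2 (by rw [h1, h0, zero_mul])
          rw [omega, h1, show (φ : G → ℂ) g = a * (η : L → ℂ) ⟨g, hgL⟩ from ha ⟨g, hgL⟩]
          field_simp
        rw [key χ' e he, key ψ' e' he', sub_self]
        exact memLI_zero hP
      · push Not at hc
        exact memLI_sub hP
          (omega_memLI_of_norm_eq hM h.coprime h.le h.qle h.pgroup χ' (hnorm χ' e he) hc)
          (omega_memLI_of_norm_eq hM h.coprime h.le h.qle h.pgroup ψ' (hnorm ψ' e' he') hc)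
    -- the idempotent of a block is supported on regular elements
    refine sameBlock_trans hP hs (sameBlock_trans hP ?_ (sameBlock_symm hP hs'))
    have hC := isPBlock_blockOf M χ'
    have hI := isIntClassFun_blockCoeff hM hC
    have := Fintype.ofFinite (ConjClasses G)
    have hcongr : MemLocalIdeal M (lam (χ' : G → ℂ) (blockCoeff (blockOf M (χ' : G → ℂ))) -
        lam (ψ' : G → ℂ) (blockCoeff (blockOf M (χ' : G → ℂ)))) := by
      rw [lam_eq_sum_omega (isClassFunction_character (irr_isCharacter χ'.2)) hI.1,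
        lam_eq_sum_omega (isClassFunction_character (irr_isCharacter ψ'.2)) hI.1,
        ← Finset.sum_sub_distrib]
      refine memLI_sum hP _ _ fun C _ => ?_
      rw [← mul_sub]
      by_cases hr : p ∣ orderOf C.out
      · rw [blockCoeff, weak_orthogonality hM hC (by simp [hM.1.ne_one]) hr, mul_zero, zero_mul]
        exact memLI_zero hP
      · exact memLI_mul_left hP (hI.2 _) (hω _ hr)
    rw [lam_blockCoeff, lam_blockCoeff, if_pos (self_mem_blockOf hP χ')] at hcongr
    by_contra hn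
    rw [if_neg (show ψ' ∉ blockOf M (χ' : G → ℂ) from hn), sub_zero] at hcongr
    exact memLI_one_iff hP hcongr
  obtain ⟨χ₀, hd₀, hcon₀⟩ := exists_pPrime_over_invariant N h.coprime θ hθ'
  have hBeq : B = blockOf M (χ₀ : G → ℂ) := by
    ext χ
    rw [hB]
    exact ⟨fun hχ => hsame χ₀ χ hcon₀ hχ, fun hs => constituent_of_sameBlock hM h.coprime hs hcon₀⟩
  have hblock : IsPBlock M B := ⟨χ₀, hBeq⟩
  refine ⟨hblock, fun S => ?_⟩
  obtain ⟨D, hD⟩ := exists_isDefectGroup hM hblock
  have hmin : dmin p B = 0 := by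
    have h0 : χ₀ ∈ B := (hB χ₀).mpr hcon₀
    have h1 := dmin_le (p := p) h0
    have h2 : dexp p (χ₀ : G → ℂ) = 0 := Nat.factorization_eq_zero_of_not_dvd hd₀
    omega
  have hdef : blockDefect p B = (Nat.card G).factorization p := by
    have h1 := dmin_add_defect (p := p) (block_nonempty hP hblock)
    omega
  obtain ⟨g₀, hg₀, hDg⟩ := (isDefectGroup_iff B D).mp hD
  obtain ⟨P₁, hP₁⟩ := hDg.isPGroup.exists_le_sylow
  have heq : D = (P₁ : Subgroup G) := Subgroup.eq_of_le_of_card_ge hP₁ (by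
    rw [card_defectGroup hM hblock hD, hdef, P₁.card_eq_multiplicity])
  obtain ⟨t, ht⟩ := MulAction.exists_smul_eq G P₁ S
  have h2 := isDefectGroup_conj hM hD t
  rw [heq] at h2
  rw [← ht, Sylow.coe_subgroup_smul]
  exact h2

end Cfsg.Agent.Char
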