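import Cfsg.Agent.Lib.Solv.SmallRank
import Cfsg.Agent.Lib.Char.DihedralBlock.Nilpotent
import Cfsg.Agent.Lib.Fusion.QuasiDihedral
import Cfsg.Agent.S4492
import Cfsg.Agent.Lib.Char.ItoConverse
import Mathlib.GroupTheory.Perm.Cycle.Type

/-!
# Solvable groups whose Sylow `2`-subgroup has a long cyclic subgroup of index two

In such a group without normal subgroup of odd order the elements of odd order form at most two classes.
-/

set_option autoImplicit false
set_option linter.style.haveILetI false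
set_option linter.unusedSectionVars false

namespace Cfsg.Agent.Char

open Cfsg

/-- A cyclic subgroup of index two outside which all orders are smaller. -/
def LongCyclic (S : Type*) [Group S] : Prop :=
  ∃ x : S, (Subgroup.zpowers x).index = 2 ∧ ∀ s : S, s ∉ Subgroup.zpowers x → orderOf s < orderOf x

theorem LongCyclic.of_equiv {S T : Type*} [Group S] [Group T] (h : LongCyclic S) (e : S ≃* T) : LongCyclic T := by
  obtain ⟨x, hi, ho⟩ := h
  refine ⟨e x, ?_, fun s hs => ?_⟩
  · rw [show Subgroup.zpowers (e x) = (Subgroup.zpowers x).map (e : S →* T) from (MonoidHom.map_zpowers (e : S →* T) x).symm,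
      Subgroup.index_map_equiv]
    exact hi
  · have hs' : e.symm s ∉ Subgroup.zpowers x := fun h => hs (by
      obtain ⟨i, hi⟩ := Subgroup.mem_zpowers_iff.mp h
      exact ⟨i, by simp only; rw [← map_zpow, hi, MulEquiv.apply_symm_apply]⟩)
    have := ho _ hs'
    rwa [MulEquiv.orderOf_eq, ← MulEquiv.orderOf_eq e x] at this

theorem longCyclic_dihedral {N : ℕ} (hN : 3 ≤ N) : LongCyclic (DihedralGroup N) := by
  haveI : NeZero N := ⟨by omega⟩
  refine ⟨DihedralGroup.r 1, ?_, fun s hs => ?_⟩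
  · have h1 := (Subgroup.zpowers (DihedralGroup.r (1 : ZMod N))).card_mul_index
    rw [Nat.card_zpowers, DihedralGroup.orderOf_r_one, DihedralGroup.nat_card, mul_comm 2 N] at h1
    exact Nat.eq_of_mul_eq_mul_left (by omega) h1
  · rcases s with i | i
    · refine absurd ⟨(i.val : ℤ), ?_⟩ hs
      simp only [zpow_natCast, DihedralGroup.r_one_pow, ZMod.natCast_zmod_val]
    · rw [DihedralGroup.orderOf_sr, DihedralGroup.orderOf_r_one]
      omega

theorem longCyclic_quasiDihedral {S : Type*} [Group S] [Finite S] (h : IsQuasiDihedral S) : LongCyclic S := by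
  obtain ⟨n, ⟨D⟩⟩ := Fusion.exists_qdData' h
  refine ⟨D.x, D.index_zpowers, fun s hs => ?_⟩
  obtain ⟨i, rfl | rfl⟩ := D.exists_form s
  · exact absurd (Subgroup.zpow_mem_zpowers _ _) hs
  · have h8 : 2 ^ 3 ≤ 2 ^ n := Nat.pow_le_pow_right two_pos D.hn
    rw [D.ox]
    rcases Int.even_or_odd i with hi | hi
    · rw [D.refl_orderOf_even hi]; omega
    · rw [D.refl_orderOf_odd hi]; omega

universe u

variable {X : Type u} [Group X] [Finite X]

/-- An element of odd order normalising a `2`-subgroup with a long cyclic subgroup centralises it. -/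
theorem LongCyclic.centralizes {S : Subgroup X} (hS : IsPGroup 2 S) (h : LongCyclic S) {t : X}
    (ht : t ∈ Subgroup.normalizer (S : Set X)) (hodd : Odd (orderOf t)) :
    t ∈ Subgroup.centralizer (S : Set X) := by
  haveI : Fintype X := Fintype.ofFinite _
  obtain ⟨x, hi, ho⟩ := h
  set α := Subgroup.normalizerMonoidHom S ⟨t, ht⟩ with hα
  have hcoe : ∀ w : S, ((α w : S) : X) = t * (w : X) * t⁻¹ := fun w => rfl
  have hαx : α x ∈ Subgroup.zpowers x := by
    by_contra hn
    exact absurd (ho _ hn) (by rw [MulEquiv.orderOf_eq]; exact lt_irrefl _)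
  obtain ⟨c, hc⟩ : ∃ c : ℕ, x ^ c = α x := mem_powers_iff_mem_zpowers.mpr hαx
  obtain ⟨k, hk⟩ := IsPGroup.iff_orderOf.mp hS x
  have hx : t * (x : X) * t⁻¹ = (x : X) := by
    refine DihBlock.commute_of_zpowers ⟨k, ?_⟩ hodd (c := c) ?_
    · rw [Subgroup.orderOf_coe, hk]
    · rw [← hcoe, ← hc, SubmonoidClass.coe_pow]
  have hR : ∀ w ∈ Subgroup.zpowers x, t * (w : X) * t⁻¹ = (w : X) := by
    rintro _ ⟨i, rfl⟩
    simp only [SubgroupClass.coe_zpow]
    rw [← conj_zpow, hx]
  refine Subgroup.mem_centralizer_iff.mpr fun s hs => ?_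
  suffices h : t * s * t⁻¹ = s by
    calc s * t = t * s * t⁻¹ * t := by rw [h]
      _ = t * s := by group
  by_cases hsR : (⟨s, hs⟩ : S) ∈ Subgroup.zpowers x
  · exact hR _ hsR
  · set s' : S := ⟨s, hs⟩ with hs'
    have hαs : α s' ∉ Subgroup.zpowers x := fun h1 => by
      have h2 := hR _ h1
      rw [hcoe] at h2
      have h3 : t * s * t⁻¹ = s := by
        calc t * s * t⁻¹ = t⁻¹ * (t * (t * s * t⁻¹) * t⁻¹) * t := by group
          _ = t⁻¹ * (t * s * t⁻¹) * t := by rw [show t * (t * s * t⁻¹) * t⁻¹ = t * s * t⁻¹ from h2]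
          _ = s := by group
      exact hsR (by
        have : α s' = s' := Subtype.ext (by rw [hcoe]; exact h3)
        rwa [this] at h1)
    have hd : s'⁻¹ * α s' ∈ Subgroup.zpowers x :=
      (Subgroup.mul_mem_iff_of_index_two hi).mpr ⟨fun h1 => absurd (inv_mem_iff.mp h1) hsR,
        fun h1 => absurd h1 hαs⟩
    set d : X := s⁻¹ * (t * s * t⁻¹) with hdd
    have hdfix : t * d * t⁻¹ = d := hR _ hd
    have hit : ∀ n : ℕ, t ^ n * s * (t ^ n)⁻¹ = s * d ^ n := by
      intro n
      induction n with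
      | zero => simp
      | succ n ih =>
        calc t ^ (n + 1) * s * (t ^ (n + 1))⁻¹ = t * (t ^ n * s * (t ^ n)⁻¹) * t⁻¹ := by rw [pow_succ']; group
          _ = t * s * t⁻¹ * (t * d * t⁻¹) ^ n := by rw [ih, conj_pow]; group
          _ = s * d * d ^ n := by rw [hdfix]; congr 1; rw [hdd]; group
          _ = s * d ^ (n + 1) := by rw [mul_assoc, ← pow_succ']
    have h1 := hit (orderOf t)
    simp only [pow_orderOf_eq_one, one_mul, inv_one, mul_one] at h1
    have h2 : d ^ orderOf t = 1 := (mul_eq_left.mp h1.symm)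
    obtain ⟨j, hj⟩ := IsPGroup.iff_orderOf.mp hS (s'⁻¹ * α s')
    have h3 : d = 1 := orderOf_eq_one_iff.mp (Nat.eq_one_of_dvd_coprimes
      ((Nat.coprime_two_left.mpr hodd).pow_left j)
      (by rw [← hj, ← Subgroup.orderOf_coe]; rfl) (orderOf_dvd_of_pow_eq_one h2))
    rw [hdd, inv_mul_eq_one] at h3
    exact h3.symm

/-- The regular elements form at most two classes. -/
theorem two_regular_classes (hsol : Group.IsSolvable X) (h0 : pPrimeCore 2 X = ⊥) (S : Sylow 2 X)
    (hS : LongCyclic (S : Subgroup X)) :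
    ∃ x₀ : X, ∀ q : X, Odd (orderOf q) → q = 1 ∨ IsConj q x₀ := by
  haveI : Fact (Nat.Prime 2) := ⟨Nat.prime_two⟩
  haveI : Fintype X := Fintype.ofFinite _
  set Q := pCore 2 X with hQdef
  haveI : Q.Normal := Solv.pCore_normal 2
  have hQp : IsPGroup 2 Q := Fusion.isPGroup_pCore 2 X
  have hQS : Q ≤ (S : Subgroup X) := Fusion.pCore_le_sylow S
  have hC : Subgroup.centralizer (Q : Set X) ≤ Q :=
    centralizer_pCore_le_of_pSolvable (isPSolvable_of_isSolvable Nat.prime_two _ rfl hsol) h0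
  have hodd1 : ∀ q ∈ Q, Odd (orderOf q) → q = 1 := fun q hq ho => by
    obtain ⟨k, hk⟩ := IsPGroup.iff_orderOf.mp hQp ⟨q, hq⟩
    rw [Subgroup.orderOf_mk] at hk
    exact orderOf_eq_one_iff.mp (Nat.eq_one_of_dvd_coprimes ((Nat.coprime_two_left.mpr ho).pow_left k)
      (hk ▸ dvd_rfl) dvd_rfl)
  -- the Frattini quotient of `Q` is small
  have hsmall : Nat.card (↥Q ⧸ frattini ↥Q) ≤ 2 ^ 2 := by
    obtain ⟨x, hi, -⟩ := hS
    set f : Q →* (S : Subgroup X) := Subgroup.inclusion hQS with hf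
    set R := (Subgroup.zpowers x).comap f with hR
    haveI : IsCyclic R :=
      isCyclic_of_injective ((f.comp R.subtype).codRestrict (Subgroup.zpowers x) fun w => w.2)
        fun a b hab => Subtype.ext (Subgroup.inclusion_injective hQS (congrArg Subtype.val hab))
    obtain ⟨c, hc⟩ := IsCyclic.exists_generator (α := R)
    have hcR : Subgroup.zpowers (c : Q) = R := by
      refine le_antisymm (Subgroup.zpowers_le.mpr c.2) fun w hw => ?_
      obtain ⟨i, hi⟩ := Subgroup.mem_zpowers_iff.mp (hc ⟨w, hw⟩)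
      exact Subgroup.mem_zpowers_iff.mpr ⟨i, by rw [← SubgroupClass.coe_zpow, hi]⟩
    refine Solv.card_frattini_quot_le_of_cyclic_index hQp (c : Q) (Nat.le_of_dvd two_pos ?_)
    rw [hcR, hR, Subgroup.index_comap]
    haveI := Subgroup.normal_of_index_eq_two hi
    exact (Subgroup.relIndex_dvd_index_of_normal _ _).trans (dvd_of_eq hi)
  -- the action on it
  have hmap : ∀ a : MulAut Q, (frattini ↥Q).map (a : ↥Q →* ↥Q) = frattini ↥Q := fun a =>
    Subgroup.characteristic_iff_map_eq.1 inferInstance a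
  let β : X → MulAut (↥Q ⧸ frattini ↥Q) := fun g =>
    QuotientGroup.congr (frattini ↥Q) (frattini ↥Q) (MulAut.conjNormal g) (hmap _)
  have hβmk : ∀ (g : X) (w : Q), β g (w : ↥Q ⧸ frattini ↥Q) =
      ((MulAut.conjNormal g w : Q) : ↥Q ⧸ frattini ↥Q) :=
    fun g w => QuotientGroup.congr_mk _ _ _ _ _
  let W := {w : ↥Q ⧸ frattini ↥Q // w ≠ 1}
  let φ : X →* Equiv.Perm W := MonoidHom.mk'
    (fun g => (β g).toEquiv.subtypeEquiv fun w =>
      (not_congr (MulEquiv.map_eq_one_iff (β g))).symm)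
    (fun g g' => Equiv.ext fun w => by
      obtain ⟨w, hw⟩ := w
      induction w using QuotientGroup.induction_on with | _ w
      refine Subtype.ext ?_
      show β (g * g') (w : ↥Q ⧸ frattini ↥Q) = β g (β g' (w : ↥Q ⧸ frattini ↥Q))
      rw [hβmk, hβmk, hβmk, map_mul, MulAut.mul_apply])
  have hkerφ : ∀ g, g ∈ φ.ker ↔ ∀ w : ↥Q ⧸ frattini ↥Q, β g w = w := fun g => by
    rw [MonoidHom.mem_ker]
    refine ⟨fun h w => ?_, fun h => Equiv.ext fun w => Subtype.ext (h w.1)⟩
    by_cases hw : w = 1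
    · rw [hw, map_one]
    · exact congrArg Subtype.val (Equiv.congr_fun h ⟨w, hw⟩)
  have hQker : Q ≤ φ.ker := fun q hq => (hkerφ q).mpr fun w => by
    induction w using QuotientGroup.induction_on with | _ w
    rw [hβmk]
    have e : MulAut.conjNormal q w = (⟨q, hq⟩ : Q) * w * (⟨q, hq⟩ : Q)⁻¹ :=
      Subtype.ext (by simp [MulAut.conjNormal_apply])
    rw [e, QuotientGroup.mk_mul, QuotientGroup.mk_mul, QuotientGroup.mk_inv,
      Solv.quotient_mul_comm (frattini ↥Q) (Solv.commutatorElement_mem_frattini hQp) (⟨q, hq⟩ : Q) (w : _),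
      mul_inv_cancel_right]
  have hker1 : ∀ t ∈ φ.ker, Odd (orderOf t) → t = 1 := fun t ht ho => by
    refine hodd1 t (hC ?_) ho
    refine Solv.centralizes_of_frattini Q hQp t (by rw [Subgroup.normalizer_eq_top]; trivial)
      (Nat.coprime_two_right.mpr ho) fun x hx => ?_
    have h1 := (hkerφ t).mp ht ((⟨x, hx⟩ : Q)⁻¹ : Q)
    rw [hβmk, eq_comm, QuotientGroup.eq] at h1
    refine ⟨_, h1, ?_⟩
    simp [MulAut.conjNormal_apply, commutatorElement_def, mul_assoc]
  have hkerp : IsPGroup 2 φ.ker := IsPGroup.iff_orderOf.mpr fun t => by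
    have h0 := (orderOf_pos (t : X)).ne'
    set k := (orderOf (t : X)).factorization 2
    have hodd : Odd (orderOf ((t : X) ^ 2 ^ k)) := by
      rw [orderOf_pow' _ (pow_ne_zero _ two_ne_zero),
        Nat.gcd_eq_right (Nat.ordProj_dvd _ _)]
      exact Nat.odd_iff.mpr (Nat.two_dvd_ne_zero.mp (Nat.not_dvd_ordCompl Nat.prime_two h0))
    have h1 := hker1 _ (pow_mem t.2 _) hodd
    rw [← Subgroup.orderOf_coe]
    obtain ⟨j, -, hj⟩ := (Nat.dvd_prime_pow Nat.prime_two).mp (orderOf_dvd_of_pow_eq_one h1)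
    exact ⟨j, hj⟩
  have hkQ : φ.ker = Q := le_antisymm (Fusion.le_pCore hkerp) hQker
  have hW : Nat.card W ≤ 3 := by
    have h1 : Nat.card W + 1 = Nat.card (↥Q ⧸ frattini ↥Q) := by
      haveI := Fintype.ofFinite (↥Q ⧸ frattini ↥Q)
      classical
      rw [Nat.card_eq_fintype_card, Nat.card_eq_fintype_card, Fintype.card_subtype_compl,
        Fintype.card_subtype_eq, Nat.sub_add_cancel Fintype.card_pos]
    omega
  have hr6 : Nat.card φ.range ∣ 6 := by
    refine (Subgroup.card_subgroup_dvd_card _).trans ?_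
    rw [Nat.card_perm]
    exact Nat.factorial_dvd_factorial hW
  have hcard : Nat.card X = Nat.card φ.range * Nat.card Q := by
    rw [Subgroup.card_eq_card_quotient_mul_card_subgroup φ.ker,
      Nat.card_congr (QuotientGroup.quotientKerEquivRange φ).toEquiv, hkQ]
  have hφord : ∀ q, Odd (orderOf q) → orderOf (φ q) ∣ Nat.card φ.range ∧ Odd (orderOf (φ q)) := fun q ho =>
    ⟨by rw [← Subgroup.orderOf_mk (H := φ.range) (φ q) ⟨q, rfl⟩]; exact orderOf_dvd_natCard _,
      ho.of_dvd_nat (orderOf_map_dvd φ q)⟩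
  by_cases hall : ∀ q : X, Odd (orderOf q) → q = 1
  · exact ⟨1, fun q ho => Or.inl (hall q ho)⟩
  push Not at hall
  obtain ⟨x₀, hx₀o, hx₀1⟩ := hall
  have hr3 : Nat.card φ.range = 3 ∨ Nat.card φ.range = 6 := by
    obtain ⟨hd, ho⟩ := hφord x₀ hx₀o
    have hne : orderOf (φ x₀) ≠ 1 := fun h => hx₀1 (hker1 x₀ (orderOf_eq_one_iff.mp h) hx₀o)
    have := Nat.le_of_dvd (by norm_num) hr6
    have := Nat.le_of_dvd Nat.card_pos hd
    have hpos := orderOf_pos (φ x₀)
    rw [Nat.odd_iff] at ho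
    interval_cases h : Nat.card φ.range <;> omega
  rcases hr3 with hr | hr
  · exfalso
    obtain ⟨a, ha⟩ := IsPGroup.iff_card.mp hQp
    have hSQ : (S : Subgroup X) = Q := by
      refine (Subgroup.eq_of_le_of_card_ge hQS ?_).symm
      rw [S.card_eq_multiplicity, hcard, hr, ha, Nat.factorization_mul (by norm_num) (pow_ne_zero _ two_ne_zero),
        Finsupp.add_apply, Nat.Prime.factorization_pow Nat.prime_two, Finsupp.single_eq_same,
        Nat.factorization_eq_zero_of_not_dvd (by norm_num : ¬ 2 ∣ 3), zero_add]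
    refine hx₀1 (hodd1 x₀ (hC ?_) hx₀o)
    have := hS.centralizes S.isPGroup' (t := x₀) ?_ hx₀o
    · rwa [hSQ] at this
    · rw [hSQ, Subgroup.normalizer_eq_top]; trivial
  · have hW3 : Nat.card W = 3 := by
      have h1 : Nat.card φ.range ≤ Nat.card (Equiv.Perm W) := Subgroup.card_le_card_group _
      rw [hr, Nat.card_perm] at h1
      interval_cases h : Nat.card W <;> simp_all
    have htop : φ.range = ⊤ := Subgroup.eq_top_of_card_eq _ (by rw [hr, Nat.card_perm, hW3]; rfl)
    have hord3 : ∀ q, Odd (orderOf q) → q ≠ 1 → orderOf (φ q) = 3 ∧ orderOf q = 3 := fun q ho hq => by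
      obtain ⟨hd, ho'⟩ := hφord q ho
      have hne : orderOf (φ q) ≠ 1 := fun h => hq (hker1 q (orderOf_eq_one_iff.mp h) ho)
      rw [hr] at hd
      have h3 : orderOf (φ q) = 3 := by
        have := Nat.le_of_dvd (by norm_num) hd
        rw [Nat.odd_iff] at ho'
        interval_cases h : orderOf (φ q) <;> omega
      refine ⟨h3, Nat.dvd_antisymm (orderOf_dvd_of_pow_eq_one (hker1 _ ?_ ?_)) (h3 ▸ orderOf_map_dvd φ q)⟩
      · rw [MonoidHom.mem_ker, map_pow, ← h3, pow_orderOf_eq_one]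
      · exact ho.of_dvd_nat (orderOf_pow_dvd 3)
    refine ⟨x₀, fun q ho => or_iff_not_imp_left.mpr fun hq => ?_⟩
    classical
    haveI : Fintype W := Fintype.ofFinite _
    obtain ⟨hφq, hq3⟩ := hord3 q ho hq
    obtain ⟨hφx, hx3⟩ := hord3 x₀ hx₀o hx₀1
    have hthree : ∀ π : Equiv.Perm W, orderOf π = 3 → π.cycleType = {3} := fun π hπ => by
      haveI : Fact (Nat.Prime 3) := ⟨Nat.prime_three⟩
      obtain ⟨n, hn⟩ := Equiv.Perm.cycleType_prime_order (hπ.symm ▸ Nat.prime_three : (orderOf π).Prime)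
      rw [hπ] at hn
      have h1 := π.sum_cycleType
      have h2 := Finset.card_le_univ π.support
      rw [hn, Multiset.sum_replicate, smul_eq_mul] at h1
      rw [← h1, ← Nat.card_eq_fintype_card, hW3] at h2
      rw [hn, show n = 0 by omega]
      rfl
    have hconj : IsConj (φ q) (φ x₀) :=
      Equiv.Perm.isConj_iff_cycleType_eq.mpr ((hthree _ hφq).trans (hthree _ hφx).symm)
    obtain ⟨π, hπ⟩ := isConj_iff.mp hconj
    obtain ⟨t, rfl⟩ : π ∈ φ.range := htop ▸ Subgroup.mem_top π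
    set q' := t * q * t⁻¹ with hq'
    have hφq' : φ q' = φ x₀ := by rw [hq', map_mul, map_mul, map_inv, hπ]
    have hq'3 : orderOf q' = 3 := by
      rw [hq', show t * q * t⁻¹ = MulAut.conj t q from rfl, MulEquiv.orderOf_eq, hq3]
    haveI : Fact (Nat.Prime 3) := ⟨Nat.prime_three⟩
    set U := (Subgroup.zpowers (φ x₀)).comap φ with hU
    obtain ⟨a, ha⟩ := IsPGroup.iff_card.mp hQp
    have hUcard : (Nat.card U).factorization 3 = 1 := by
      have h1 : Nat.card U = Nat.card (Subgroup.zpowers (φ x₀)) * Nat.card Q := by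
        rw [← hkQ]
        have h2 := Subgroup.card_mul_index (φ.ker.subgroupOf U)
        rw [Nat.card_congr (Subgroup.subgroupOfEquivOfLe (Subgroup.ker_le_comap φ _)).toEquiv] at h2
        rw [← h2, mul_comm]
        congr 1
        show φ.ker.relIndex U = _
        rw [Subgroup.relIndex_ker, hU, Subgroup.map_comap_eq, htop, top_inf_eq]
      rw [h1, Nat.card_zpowers, hφx, ha, Nat.factorization_mul (by norm_num) (pow_ne_zero _ two_ne_zero),
        Finsupp.add_apply, Nat.Prime.factorization_self Nat.prime_three,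
        Nat.factorization_eq_zero_of_not_dvd (fun h => by
          have := Nat.prime_three.dvd_of_dvd_pow h
          norm_num at this)]
    let xU : U := ⟨x₀, Subgroup.mem_zpowers _⟩
    let qU : U := ⟨q', show φ q' ∈ Subgroup.zpowers (φ x₀) by rw [hφq']; exact Subgroup.mem_zpowers _⟩
    let P₁ : Sylow 3 U := Sylow.ofCard (Subgroup.zpowers qU) (by
      rw [hUcard, Nat.card_zpowers, ← Subgroup.orderOf_coe, show (qU : X) = q' from rfl, hq'3, pow_one])
    let P₂ : Sylow 3 U := Sylow.ofCard (Subgroup.zpowers xU) (by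
      rw [hUcard, Nat.card_zpowers, ← Subgroup.orderOf_coe, show (xU : X) = x₀ from rfl, hx3, pow_one])
    obtain ⟨v, hv⟩ := MulAction.exists_smul_eq U P₁ P₂
    have hmem : MulAut.conj v qU ∈ (v • P₁ : Sylow 3 U) := by
      rw [← SetLike.mem_coe, Sylow.coe_smul]
      exact Set.smul_mem_smul_set (a := MulAut.conj v) (Subgroup.mem_zpowers qU)
    rw [hv] at hmem
    obtain ⟨i, hi⟩ := Subgroup.mem_zpowers_iff.mp (hmem : MulAut.conj v qU ∈ Subgroup.zpowers xU)
    have hi' : x₀ ^ i = (v : X) * q' * (v : X)⁻¹ := congrArg Subtype.val hi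
    have h1 := congrArg φ hi'
    obtain ⟨j, hj⟩ := Subgroup.mem_zpowers_iff.mp (v.2 : φ (v : X) ∈ Subgroup.zpowers (φ x₀))
    rw [map_zpow, map_mul, map_mul, map_inv, hφq', ← hj, (Commute.zpow_self (φ x₀) j).eq,
      mul_inv_cancel_right] at h1
    have h3 : x₀ ^ i = x₀ ^ (1 : ℤ) := by
      rw [zpow_eq_zpow_iff_modEq, hx3, ← hφx, ← zpow_eq_zpow_iff_modEq, zpow_one]
      exact h1
    rw [zpow_one] at h3
    refine (isConj_iff.mpr ⟨(v : X) * t, ?_⟩)
    rw [← h3, hi', hq']
    group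

end Cfsg.Agent.Char
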