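import Cfsg.Agent.Lib.Char.Linear
import Cfsg.Agent.Lib.Char.Galois

/-!
# Burnside: coprime vanishing, prime power classes, two-prime groups
-/

set_option autoImplicit false

namespace Cfsg.Agent.Char

open Cfsg Module
open scoped ComplexConjugate

universe u w

variable {G : Type u} [Group G] [Finite G] {V : Type w} [AddCommGroup V] [Module ℂ V]
  [FiniteDimensional ℂ V]

theorem char_div_deg_isIntegral {χ : G → ℂ} (h : IsIrrCharacter G χ) (g : G)
    (hcop : Nat.Coprime (deg χ) (Subgroup.centralizer ({g} : Set G)).index) :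
    IsIntegral ℤ (χ g / χ 1) := by
  set h' := (Subgroup.centralizer ({g} : Set G)).index with hh
  obtain ⟨a, b, hab⟩ := Nat.isCoprime_iff_coprime.mpr hcop
  have hd : χ 1 = ((deg χ : ℤ) : ℂ) := by
    rw [char_one_eq_deg (irr_isCharacter h)]; norm_num
  have hne := irr_one_ne_zero h
  have hω : omega χ g = ((h' : ℤ) : ℂ) * χ g / χ 1 := by
    rw [omega, card_conjClass_eq_index, ← hh]; norm_num
  have key : χ g / χ 1 = (a : ℂ) * χ g + (b : ℂ) * omega χ g := by
    have hab' : (a : ℂ) * ((deg χ : ℤ) : ℂ) + (b : ℂ) * ((h' : ℤ) : ℂ) = 1 := by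
      exact_mod_cast hab
    rw [← hd] at hab'
    rw [hω]
    field_simp
    linear_combination (-(χ g)) * hab'
  rw [key]
  exact ((isIntegral_algebraMap (x := a)).mul (char_isIntegral (irr_isCharacter h) g)).add
    ((isIntegral_algebraMap (x := b)).mul (omega_isIntegral h g))

theorem deg_character (ρ : Representation ℂ G V) : deg ρ.character = finrank ℂ V := by
  simp [deg, Representation.char_one]

/-- Burnside: coprime degree and class size gives vanishing or scalar action. -/
theorem vanish_or_full (ρ : Representation ℂ G V) (hρ : ρ.IsIrreducible) (g : G)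
    (hcop : Nat.Coprime (finrank ℂ V) (Subgroup.centralizer ({g} : Set G)).index) :
    ρ.character g = 0 ∨ ‖ρ.character g‖ = (finrank ℂ V : ℝ) := by
  obtain ⟨μ, hμ, htr, -⟩ := exists_eigenvalues ρ g
  have h1 : ρ.character g = ∑ i, μ i := by simpa using htr 1
  have hI := char_div_deg_isIntegral (isIrrCharacter_character ρ hρ) g (by rwa [deg_character])
  rw [Representation.char_one, h1] at hI
  have := eigen_avg_zero_or_full μ (orderOf g) (orderOf_pos g).ne' hμ (by simpa using hI)
  simpa [h1] using this

theorem finrank_eq_one_of_trivial {ρ : Representation ℂ G V} (hρ : ρ.IsIrreducible)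
    (h : ∀ g, ρ g = LinearMap.id) : finrank ℂ V = 1 := by
  have := Fintype.ofFinite G
  have h0 := irr_self (isIrrCharacter_character ρ hρ)
  have hc : ∀ g, ρ.character g = (finrank ℂ V : ℂ) := fun g => (eq_id_iff ρ g).mpr (h g)
  simp only [classInner, hc, map_natCast, Finset.sum_const, Finset.card_univ, nsmul_eq_mul,
    ← Nat.card_eq_fintype_card] at h0
  rw [← mul_assoc, inv_mul_cancel₀ (Nat.cast_ne_zero.mpr (Nat.card_pos (α := G)).ne'), one_mul] at h0
  have : finrank ℂ V * finrank ℂ V = 1 := by exact_mod_cast h0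
  exact Nat.eq_one_of_mul_eq_one_left this

/-- In a simple group a nontrivial class of prime power size forces prime order. -/
theorem prime_card_of_prime_power_class [IsSimpleGroup G] {p k : ℕ} (hp : p.Prime) {g : G}
    (hg : g ≠ 1) (hclass : (Subgroup.centralizer ({g} : Set G)).index = p ^ k) :
    (Nat.card G).Prime := by
  classical
  have := Fintype.ofFinite G
  suffices hc : ∀ a b : G, a * b = b * a by
    letI : CommGroup G := { ‹Group G› with mul_comm := hc }
    exact IsSimpleGroup.prime_card
  by_contra hnc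
  have hk : k ≠ 0 := by
    rintro rfl
    rw [pow_zero, Subgroup.index_eq_one] at hclass
    have hgc : g ∈ Subgroup.center G := by
      rw [Subgroup.mem_center_iff]
      intro x
      exact (Subgroup.mem_centralizer_singleton_iff.mp (hclass ▸ Subgroup.mem_top x)).symm ▸ rfl
    rcases Subgroup.Normal.eq_bot_or_eq_top (inferInstance : (Subgroup.center G).Normal) with h | h
    · exact hg (by simpa [h] using hgc)
    · exact hnc fun a b =>
        (Subgroup.mem_center_iff.mp (h ▸ Subgroup.mem_top b : b ∈ Subgroup.center G)) a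
  have hzero : ∀ χ : IrrCharacter G, (χ : G → ℂ) ≠ (fun _ => 1) → ¬ p ∣ deg (χ : G → ℂ) →
      (χ : G → ℂ) g = 0 := by
    rintro ⟨_, n, ρ, hρ, rfl⟩ hne hpd
    change ρ.character g = 0
    change ¬ ρ.character = _ at hne
    change ¬ p ∣ deg ρ.character at hpd
    rw [deg_character] at hpd
    rcases vanish_or_full ρ hρ g
      (by rw [hclass]; exact ((hp.coprime_iff_not_dvd.mpr hpd).symm).pow_right k) with h | h
    · exact h
    exfalso
    obtain ⟨ω, hω⟩ := (eq_scalar_iff ρ g).mp h
    let Z : Subgroup G :=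
      { carrier := {x | ∀ y, Commute (ρ x) (ρ y)}
        one_mem' := fun y => by rw [map_one]; exact Commute.one_left _
        mul_mem' := fun {a b} ha hb y => by rw [map_mul]; exact (ha y).mul_left (hb y)
        inv_mem' := fun {a} ha y => by
          have hu : Commute (ρ a) (ρ y) := ha y
          have e1 : ρ a⁻¹ * ρ a = 1 := by rw [← map_mul, inv_mul_cancel, map_one]
          have e2 : ρ a * ρ a⁻¹ = 1 := by rw [← map_mul, mul_inv_cancel, map_one]
          calc ρ a⁻¹ * ρ y = ρ a⁻¹ * (ρ y * ρ a) * ρ a⁻¹ := by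
                rw [mul_assoc, mul_assoc, e2, mul_one]
            _ = ρ y * ρ a⁻¹ := by rw [← hu.eq, ← mul_assoc, e1, one_mul] }
    have hgZ : g ∈ Z := fun y => by
      rw [hω, ← Module.End.one_eq_id]; exact (Commute.one_left _).smul_left ω
    have hZn : Z.Normal := ⟨fun a ha b y => by
      have h1 : Commute (ρ a) (ρ b⁻¹) := ha b⁻¹
      have e : ρ (b * a * b⁻¹) = ρ a := by
        rw [map_mul, map_mul, mul_assoc, h1.eq, ← mul_assoc, ← map_mul, mul_inv_cancel, map_one,
          one_mul]
      rw [e]; exact ha y⟩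
    rcases hZn.eq_bot_or_eq_top with hb | ht
    · exact hg (by simpa [hb] using hgZ)
    rcases (inferInstance : ρ.ker.Normal).eq_bot_or_eq_top with hb | htk
    · refine hnc fun a b => ?_
      have hcomm : Commute (ρ a) (ρ b) := (ht ▸ Subgroup.mem_top a : a ∈ Z) b
      exact (MonoidHom.ker_eq_bot_iff ρ).mp hb (by rw [map_mul, map_mul, hcomm.eq])
    · have htriv : ∀ x, ρ x = LinearMap.id := fun x =>
        MonoidHom.mem_ker.mp (htk ▸ Subgroup.mem_top x : x ∈ ρ.ker)
      refine hne (funext fun x => ?_)
      rw [(eq_id_iff ρ x).mpr (htriv x), finrank_eq_one_of_trivial hρ htriv, Nat.cast_one]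
  -- column orthogonality
  have hreg := regular_sum g
  rw [if_neg hg] at hreg
  set e1 : IrrCharacter G := ⟨fun _ => 1, isIrrCharacter_one⟩
  rw [← Finset.add_sum_erase _ _ (Finset.mem_univ e1)] at hreg
  simp only [e1, one_mul] at hreg
  have hdiv : ∀ χ : IrrCharacter G, χ ≠ e1 →
      IsIntegral ℤ ((χ : G → ℂ) 1 * (χ : G → ℂ) g / (p : ℂ)) := by
    intro χ hχ
    by_cases hpd : p ∣ deg (χ : G → ℂ)
    · obtain ⟨c, hc⟩ := hpd
      rw [char_one_eq_deg (irr_isCharacter χ.2), hc, Nat.cast_mul, mul_assoc,
        mul_div_cancel_left₀ _ (Nat.cast_ne_zero.mpr hp.ne_zero)]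
      exact (isIntegral_natCast _).mul (char_isIntegral (irr_isCharacter χ.2) g)
    · rw [hzero χ (fun h => hχ (Subtype.ext h)) hpd, mul_zero, zero_div]
      exact isIntegral_zero
  have hint : IsIntegral ℤ (((1 / p : ℚ)) : ℂ) := by
    have : IsIntegral ℤ (∑ χ ∈ Finset.univ.erase e1,
        (χ : G → ℂ) 1 * (χ : G → ℂ) g / (p : ℂ)) :=
      IsIntegral.sum _ fun χ hχ => hdiv χ (Finset.ne_of_mem_erase hχ)
    rw [← Finset.sum_div, eq_neg_of_add_eq_zero_right hreg, neg_div] at this
    simpa using this.neg
  obtain ⟨m, hm⟩ := isIntegral_rat_cast_imp hint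
  have hp0 : (p : ℚ) ≠ 0 := Nat.cast_ne_zero.mpr hp.ne_zero
  have hmp : (m : ℚ) * p = 1 := by rw [hm]; simp [hp0]
  have : (p : ℤ) ∣ 1 := ⟨m, by rw [mul_comm]; exact_mod_cast hmp.symm⟩
  exact hp.ne_one (by exact_mod_cast Int.eq_one_of_dvd_one (by positivity) this)

/-- Burnside's two-prime theorem. -/
theorem isSolvable_of_two_primes {p q : ℕ} (hp : p.Prime) (hq : q.Prime) :
    ∀ (n : ℕ) {G : Type u} [Group G] [Finite G], Nat.card G = n →
      (∀ r : ℕ, r.Prime → r ∣ n → r = p ∨ r = q) → Group.IsSolvable G := by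
  intro n
  induction n using Nat.strong_induction_on with
  | _ n ih =>
    intro G _ _ hn hpr
    rcases subsingleton_or_nontrivial G with h | h
    · infer_instance
    by_cases hs : IsSimpleGroup G
    · obtain ⟨r, hr, hrn⟩ := Nat.exists_prime_and_dvd (n := Nat.card G)
        (Finite.one_lt_card (α := G)).ne'
      have := Fact.mk hr
      obtain ⟨P⟩ := (inferInstance : Nonempty (Sylow r G))
      have hPne : Nontrivial P := by
        rw [← Finite.one_lt_card_iff_nontrivial, P.card_eq_multiplicity]
        exact Nat.one_lt_pow (hr.factorization_pos_of_dvd Nat.card_pos.ne' hrn).ne' hr.one_lt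
      have : Nontrivial (Subgroup.center P) := P.isPGroup'.center_nontrivial
      obtain ⟨⟨z, hz⟩, hz1⟩ := exists_ne (1 : Subgroup.center P)
      have hgne : (z : G) ≠ 1 := fun h => hz1 (Subtype.ext (Subtype.ext h))
      have hle : (P : Subgroup G) ≤ Subgroup.centralizer ({(z : G)} : Set G) := fun x hx => by
        rw [Subgroup.mem_centralizer_singleton_iff]
        exact congrArg Subtype.val (Subgroup.mem_center_iff.mp hz ⟨x, hx⟩)
      have hdvd : (Subgroup.centralizer ({(z : G)} : Set G)).index ∣ (P : Subgroup G).index :=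
        Subgroup.index_dvd_of_le hle
      have hnd : ¬ r ∣ (Subgroup.centralizer ({(z : G)} : Set G)).index :=
        fun h => P.not_dvd_index (h.trans hdvd)
      set m := (Subgroup.centralizer ({(z : G)} : Set G)).index with hm
      obtain ⟨s, hs', hfs⟩ : ∃ s : ℕ, s.Prime ∧ ∀ t : ℕ, t.Prime → t ∣ m → t = s := by
        refine ⟨if r = p then q else p, by split_ifs <;> assumption, fun t ht htm => ?_⟩
        have htn : t ∣ n := hn ▸ (htm.trans (Subgroup.index_dvd_card _))
        have htr : t ≠ r := fun h => hnd (h ▸ htm)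
        rcases hpr t ht htn with h | h <;> rcases hpr r hr (hn ▸ hrn) with h' | h' <;>
          split_ifs with h'' <;> subst_vars <;> tauto
      have hprime := prime_card_of_prime_power_class hs' hgne
        (k := m.primeFactorsList.length)
        (Nat.eq_prime_pow_of_unique_prime_dvd Subgroup.index_ne_zero_of_finite (hfs _))
      have := Fact.mk hprime
      have : IsCyclic G := isCyclic_of_prime_card rfl
      exact isSolvable_of_comm fun a b => mul_comm' a b
    · obtain ⟨N, hN, hNb, hNt⟩ : ∃ N : Subgroup G, N.Normal ∧ N ≠ ⊥ ∧ N ≠ ⊤ := by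
        by_contra hne
        push Not at hne
        exact hs ⟨fun H hH => or_iff_not_imp_left.mpr (hne H hH)⟩
      have h1 : Nat.card N < n := hn ▸ lt_of_le_of_ne (Subgroup.card_le_card_group N)
        (fun h => hNt (Subgroup.card_eq_iff_eq_top N |>.mp h))
      have hNc : 1 < Nat.card N :=
        Finite.one_lt_card_iff_nontrivial.mpr ((Subgroup.nontrivial_iff_ne_bot N).mpr hNb)
      have h2 : Nat.card (G ⧸ N) < n := by
        rw [← hn, Subgroup.card_eq_card_quotient_mul_card_subgroup N]
        exact lt_mul_of_one_lt_right Nat.card_pos hNc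
      have s1 := ih _ h1 rfl fun r hr hd => hpr r hr (hn ▸ hd.trans (Subgroup.card_subgroup_dvd_card N))
      have s2 := ih _ h2 rfl fun r hr hd => hpr r hr (hn ▸ hd.trans (Subgroup.card_quotient_dvd_card N))
      exact Group.isSolvable_of_ker_le_range N.subtype (QuotientGroup.mk' N)
        (by simp [QuotientGroup.ker_mk'])

end Cfsg.Agent.Char
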