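import Mathlib

/-!
A stem extension of an alternating group of degree 4, 5 or at least 8 has kernel of order at most two.
-/

set_option linter.style.haveILetI false
set_option linter.unusedSectionVars false

open Equiv Equiv.Perm
open scoped commutatorElement

namespace Cfsg.Agent.Char

universe u

variable {Γ : Type u} [Group Γ] [Finite Γ] {n : ℕ}

/-- The cycle `a ↦ b ↦ c ↦ a`. -/
def cyc3 (a b c : Fin n) : Perm (Fin n) := swap a b * swap b c

theorem cyc3_apply_one {a b c : Fin n} (hab : a ≠ b) (hac : a ≠ c) : cyc3 a b c a = b := by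
  rw [cyc3, Perm.mul_apply, swap_apply_of_ne_of_ne hab hac, swap_apply_left]

theorem cyc3_apply_two {a b c : Fin n} (hac : a ≠ c) (hbc : b ≠ c) : cyc3 a b c b = c := by
  rw [cyc3, Perm.mul_apply, swap_apply_left, swap_apply_of_ne_of_ne hac.symm hbc.symm]

theorem cyc3_apply_three (a b c : Fin n) : cyc3 a b c c = a := by
  rw [cyc3, Perm.mul_apply, swap_apply_right, swap_apply_right]

theorem cyc3_apply_other {a b c x : Fin n} (h1 : x ≠ a) (h2 : x ≠ b) (h3 : x ≠ c) : cyc3 a b c x = x := by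
  rw [cyc3, Perm.mul_apply, swap_apply_of_ne_of_ne h2 h3, swap_apply_of_ne_of_ne h1 h2]

theorem cyc3_conj (σ : Perm (Fin n)) (a b c : Fin n) : σ * cyc3 a b c * σ⁻¹ = cyc3 (σ a) (σ b) (σ c) := by
  rw [cyc3, cyc3, swap_apply_apply, swap_apply_apply]
  group

theorem transfer_central_pow (A : Subgroup Γ) (hA : IsMulCommutative A) {z : Γ}
    (hz : z ∈ Subgroup.center Γ) (hzG : z ∈ commutator Γ) (hzA : z ∈ A) : z ^ A.index = 1 := by
  letI : CommGroup A := { (inferInstance : Group A) with mul_comm := hA.is_comm.comm }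
  haveI : A.FiniteIndex := inferInstance
  have key : ∀ (k : ℕ) (g₀ : Γ), g₀⁻¹ * z ^ k * g₀ ∈ A → g₀⁻¹ * z ^ k * g₀ = z ^ k := fun k g₀ _ => by
    rw [mul_assoc, ← Subgroup.mem_center_iff.1 ((Subgroup.center Γ).pow_mem hz k) g₀, inv_mul_cancel_left]
  have h := MonoidHom.transfer_eq_pow (MonoidHom.id A) z key
  have h1 : MonoidHom.transfer (MonoidHom.id A) z = 1 :=
    MonoidHom.mem_ker.1 (Abelianization.commutator_subset_ker _ hzG)
  rw [h1] at h
  exact (congrArg Subtype.val h).symm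

variable (π : Γ →* Perm (Fin n))

theorem lift_fix_comm (hn : n ≤ 5 ∨ 8 ≤ n) (hr : π.range = alternatingGroup (Fin n))
    (hker : π.ker ≤ Subgroup.center Γ) {p q r : Fin n} (hpq : p ≠ q) (hpr : p ≠ r) (hqr : q ≠ r)
    {c g : Γ} (hc : π c = cyc3 p q r) (hp : π g p = p) (hq : π g q = q) (hrr : π g r = r) :
    g * c = c * g := by
  classical
  set s : Finset (Fin n) := ({p, q, r} : Finset (Fin n))ᶜ with hs
  have hcard : s.card = n - 3 := by
    rw [hs, Finset.card_compl, Fintype.card_fin, Finset.card_eq_three.2 ⟨p, q, r, hpq, hpr, hqr, rfl⟩]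
  have hfix : ∀ {u : Γ}, π u p = p → π u q = q → π u r = r → π ⁅u, c⁆ = 1 := by
    intro u h1 h2 h3
    rw [map_commutatorElement, commutatorElement_def, hc, cyc3_conj, h1, h2, h3, mul_inv_cancel]
  -- lifts of permutations fixing the three points
  have hlift : ∀ k : alternatingGroup s, ∃ u : Γ,
      π u = (alternatingGroup.ofSubtype s k : Perm (Fin n)) := fun k => by
    have h : (alternatingGroup.ofSubtype s k : Perm (Fin n)) ∈ π.range := by
      rw [hr]; exact (alternatingGroup.ofSubtype s k).2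
    exact h
  have hmv : ∀ (k : alternatingGroup s) (x : Fin n), x ∉ s →
      (alternatingGroup.ofSubtype s k : Perm (Fin n)) x = x := fun k x hx => by
    rw [alternatingGroup.coe_ofSubtype]
    exact Perm.ofSubtype_apply_of_not_mem _ hx
  have hgk : ∃ k : alternatingGroup s, π g = (alternatingGroup.ofSubtype s k : Perm (Fin n)) := by
    have hgA : π g ∈ alternatingGroup (Fin n) := by rw [← hr]; exact ⟨g, rfl⟩
    have hsupp : (π g).support ⊆ s := fun x hx => by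
      rw [hs, Finset.mem_compl]
      simp only [Finset.mem_insert, Finset.mem_singleton]
      rw [Perm.mem_support] at hx
      rintro (rfl | rfl | rfl) <;> contradiction
    obtain ⟨k, hk⟩ := (alternatingGroup.mem_range_ofSubtype_iff s (⟨π g, hgA⟩ : alternatingGroup (Fin n))).2 hsupp
    exact ⟨k, (congrArg Subtype.val hk).symm⟩
  obtain ⟨k, hk⟩ := hgk
  have hcomm : ∀ u v : Γ, π u = π v → u * c = c * u → v * c = c * v := fun u v e h => by
    have hz : u⁻¹ * v ∈ Subgroup.center Γ := hker (by rw [MonoidHom.mem_ker, map_mul, map_inv, e, inv_mul_cancel])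
    have := Subgroup.mem_center_iff.1 hz c
    calc v * c = u * ((u⁻¹ * v) * c) := by group
      _ = u * (c * (u⁻¹ * v)) := by rw [this]
      _ = (u * c) * (u⁻¹ * v) := by group
      _ = c * v := by rw [h]; group
  rcases hn with hn | hn
  · have hb := alternatingGroup.eq_bot_of_card_le_two (α := s) (by rw [Nat.card_eq_finsetCard, hcard]; omega)
    have hk1 : k = 1 := Subtype.ext (Subgroup.mem_bot.1 ((SetLike.ext_iff.1 hb _).1 k.2))
    rw [hk1, map_one] at hk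
    exact hcomm 1 g (by rw [map_one]; exact hk.symm) (by simp)
  let M : Subgroup (alternatingGroup s) :=
    { carrier := {k | ∀ u, π u = (alternatingGroup.ofSubtype s k : Perm (Fin n)) → u * c = c * u}
      one_mem' := fun u hu => hcomm 1 u (by rw [map_one, hu, map_one]; rfl) (by simp)
      mul_mem' := fun {a b} ha hb u hu => by
        obtain ⟨x, hx⟩ := hlift a
        obtain ⟨y, hy⟩ := hlift b
        refine hcomm (x * y) u (by rw [map_mul, hx, hy, hu, map_mul, Subgroup.coe_mul]) ?_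
        rw [mul_assoc, hb y hy, ← mul_assoc, ha x hx, mul_assoc]
      inv_mem' := fun {a} ha u hu => by
        have h := ha u⁻¹ (by rw [map_inv, hu, map_inv, Subgroup.coe_inv, inv_inv])
        calc u * c = u * (c * u⁻¹) * u := by group
          _ = u * (u⁻¹ * c) * u := by rw [h]
          _ = c * u := by group }
  have hM : commutator (alternatingGroup s) ≤ M := by
    rw [commutator_def, Subgroup.commutator_le]
    intro a _ b _ u hu
    obtain ⟨x, hx⟩ := hlift a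
    obtain ⟨y, hy⟩ := hlift b
    refine hcomm ⁅x, y⁆ u (by rw [map_commutatorElement, hx, hy, hu, map_commutatorElement]; simp [commutatorElement_def]) ?_
    have hout : ∀ z, z = p ∨ z = q ∨ z = r → z ∉ s := fun z hz => by
      rw [hs, Finset.mem_compl, not_not]
      simpa using hz
    have hcc : ∀ w : Γ, ∀ k : alternatingGroup s, π w = (alternatingGroup.ofSubtype s k : Perm (Fin n)) →
        ⁅w, c⁆ ∈ Subgroup.center Γ := fun w k hw => hker (MonoidHom.mem_ker.2 (hfix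
        (by rw [hw, hmv k p (hout p (Or.inl rfl))]) (by rw [hw, hmv k q (hout q (Or.inr (Or.inl rfl)))])
        (by rw [hw, hmv k r (hout r (Or.inr (Or.inr rfl)))])))
    have hwc : ∀ w : Γ, ⁅w, c⁆ ∈ Subgroup.center Γ → ∀ t, w * c = ⁅w, c⁆ * (c * w) ∧ t * ⁅w, c⁆ = ⁅w, c⁆ * t :=
      fun w hw t => ⟨by simp [commutatorElement_def, mul_assoc], Subgroup.mem_center_iff.1 hw t⟩
    have cx := hcc x a hx
    have cy := hcc y b hy
    -- conjugation by `x` and by `y` multiply `c` by central elements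
    have h1 : x * c * x⁻¹ = ⁅x, c⁆ * c := by simp [commutatorElement_def, mul_assoc]
    have h2 : y * c * y⁻¹ = ⁅y, c⁆ * c := by simp [commutatorElement_def, mul_assoc]
    have h3 : ∀ w : Γ, ⁅w, c⁆ ∈ Subgroup.center Γ → w⁻¹ * c * w = ⁅w, c⁆⁻¹ * c := fun w hw => by
      have e := Subgroup.mem_center_iff.1 (inv_mem hw)
      calc w⁻¹ * c * w = w⁻¹ * (⁅w, c⁆⁻¹ * (w * c * w⁻¹)) * w := by simp [commutatorElement_def, mul_assoc]
        _ = ⁅w, c⁆⁻¹ * c := by rw [← mul_assoc w⁻¹, e w⁻¹]; group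
    have h4 : ⁅x, y⁆ * c * ⁅x, y⁆⁻¹ = c := by
      rw [show ⁅x, y⁆ * c * ⁅x, y⁆⁻¹ = x * (y * (x⁻¹ * (y⁻¹ * c * y) * x) * y⁻¹) * x⁻¹ by
        simp [commutatorElement_def, mul_assoc], h3 y cy,
        show x⁻¹ * (⁅y, c⁆⁻¹ * c) * x = ⁅y, c⁆⁻¹ * (x⁻¹ * c * x) by
          rw [← mul_assoc x⁻¹, Subgroup.mem_center_iff.1 (inv_mem cy) x⁻¹]; group,
        h3 x cx, ← mul_assoc (⁅y, c⁆⁻¹)]
      have hz : ⁅y, c⁆⁻¹ * ⁅x, c⁆⁻¹ ∈ Subgroup.center Γ := mul_mem (inv_mem cy) (inv_mem cx)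
      rw [show y * (⁅y, c⁆⁻¹ * ⁅x, c⁆⁻¹ * c) * y⁻¹ = ⁅y, c⁆⁻¹ * ⁅x, c⁆⁻¹ * (y * c * y⁻¹) by
          rw [← mul_assoc y, Subgroup.mem_center_iff.1 hz y]; group, h2,
        ← mul_assoc (⁅y, c⁆⁻¹ * ⁅x, c⁆⁻¹), show x * (⁅y, c⁆⁻¹ * ⁅x, c⁆⁻¹ * ⁅y, c⁆ * c) * x⁻¹ =
          ⁅y, c⁆⁻¹ * ⁅x, c⁆⁻¹ * ⁅y, c⁆ * (x * c * x⁻¹) by
          rw [← mul_assoc x, Subgroup.mem_center_iff.1 (mul_mem hz cy) x]; group, h1]
      rw [mul_assoc (⁅y, c⁆⁻¹), Subgroup.mem_center_iff.1 cy (⁅x, c⁆⁻¹)]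
      group
    calc ⁅x, y⁆ * c = ⁅x, y⁆ * c * ⁅x, y⁆⁻¹ * ⁅x, y⁆ := by group
      _ = c * ⁅x, y⁆ := by rw [h4]
  have htop : k ∈ commutator (alternatingGroup s) := by
    rw [commutator_alternatingGroup_eq_top (α := s) (by rw [Nat.card_eq_finsetCard, hcard]; omega)]
    trivial
  exact hM htop g hk

/-- Three points are moved to any three points by an even permutation. -/
theorem exists_even_triple (h5 : 5 ≤ n) {p q r a b c : Fin n} (hpq : p ≠ q) (hpr : p ≠ r) (hqr : q ≠ r)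
    (hab : a ≠ b) (hac : a ≠ c) (hbc : b ≠ c) :
    ∃ σ : Perm (Fin n), σ ∈ alternatingGroup (Fin n) ∧ σ p = a ∧ σ q = b ∧ σ r = c := by
  classical
  obtain ⟨σ, hσ⟩ := Equiv.Perm.exists_extending_pair ![p, q, r] ![a, b, c]
    (by intro i j; fin_cases i <;> fin_cases j <;> simp_all [eq_comm])
    (by intro i j; fin_cases i <;> fin_cases j <;> simp_all [eq_comm])
  have h0 : σ p = a := hσ 0
  have h1 : σ q = b := hσ 1
  have h2 : σ r = c := hσ 2
  rcases Int.units_eq_one_or (Perm.sign σ) with h | h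
  · exact ⟨σ, Equiv.Perm.mem_alternatingGroup.2 h, h0, h1, h2⟩
  obtain ⟨x, hx, y, hy, hxy⟩ := Finset.one_lt_card.1 (show 1 < ({a, b, c} : Finset (Fin n))ᶜ.card by
    rw [Finset.card_compl, Fintype.card_fin, Finset.card_eq_three.2 ⟨a, b, c, hab, hac, hbc, rfl⟩]
    omega)
  simp only [Finset.mem_compl, Finset.mem_insert, Finset.mem_singleton, not_or] at hx hy
  refine ⟨swap x y * σ, Equiv.Perm.mem_alternatingGroup.2 (by rw [map_mul, sign_swap hxy, h]; rfl), ?_, ?_, ?_⟩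
  · rw [Perm.mul_apply, h0, swap_apply_of_ne_of_ne (Ne.symm hx.1) (Ne.symm hy.1)]
  · rw [Perm.mul_apply, h1, swap_apply_of_ne_of_ne (Ne.symm hx.2.1) (Ne.symm hy.2.1)]
  · rw [Perm.mul_apply, h2, swap_apply_of_ne_of_ne (Ne.symm hx.2.2) (Ne.symm hy.2.2)]

/-- An equivariant family of lifts of the three-cycles. -/
theorem exists_cycle_lifts (h5 : 5 ≤ n) (hn : n ≤ 5 ∨ 8 ≤ n) (hr : π.range = alternatingGroup (Fin n))
    (hker : π.ker ≤ Subgroup.center Γ) :
    ∃ L : Fin n → Fin n → Fin n → Γ, ∀ a b c, a ≠ b → a ≠ c → b ≠ c →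
      π (L a b c) = cyc3 a b c ∧ L b c a = L a b c ∧ L a c b = (L a b c)⁻¹ ∧
      L a b c * L a b c = (L a b c)⁻¹ ∧
      ∀ g : Γ, g * L a b c * g⁻¹ = L (π g a) (π g b) (π g c) := by
  classical
  have hlift : ∀ σ ∈ alternatingGroup (Fin n), ∃ u : Γ, π u = σ := fun σ h => by
    have h' : σ ∈ π.range := by rw [hr]; exact h
    exact h'
  let k₀ : Fin n := ⟨0, by omega⟩
  let k₁ : Fin n := ⟨1, by omega⟩
  let k₂ : Fin n := ⟨2, by omega⟩
  let k₃ : Fin n := ⟨3, by omega⟩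
  let k₄ : Fin n := ⟨4, by omega⟩
  have d01 : k₀ ≠ k₁ := by simp [k₀, k₁]
  have d02 : k₀ ≠ k₂ := by simp [k₀, k₂]
  have d03 : k₀ ≠ k₃ := by simp [k₀, k₃]
  have d04 : k₀ ≠ k₄ := by simp [k₀, k₄]
  have d12 : k₁ ≠ k₂ := by simp [k₁, k₂]
  have d13 : k₁ ≠ k₃ := by simp [k₁, k₃]
  have d14 : k₁ ≠ k₄ := by simp [k₁, k₄]
  have d23 : k₂ ≠ k₃ := by simp [k₂, k₃]
  have d24 : k₂ ≠ k₄ := by simp [k₂, k₄]
  have d34 : k₃ ≠ k₄ := by simp [k₃, k₄]
  have hcycA : ∀ {a b c : Fin n}, a ≠ b → b ≠ c → cyc3 a b c ∈ alternatingGroup (Fin n) := fun h1 h2 => by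
    rw [Equiv.Perm.mem_alternatingGroup, cyc3, map_mul, sign_swap h1, sign_swap h2]
    rfl
  obtain ⟨A, hA⟩ := hlift _ (hcycA d01 d12 (c := k₂))
  obtain ⟨B, hB⟩ := hlift _ (hcycA d23 d34 (c := k₄))
  obtain ⟨H, hH⟩ := hlift (swap k₀ k₃ * swap k₁ k₄) (by
    rw [Equiv.Perm.mem_alternatingGroup, map_mul, sign_swap d03, sign_swap d14]; rfl)
  have hHa : ∀ x, π H x = swap k₀ k₃ (swap k₁ k₄ x) := fun x => by rw [hH, Perm.mul_apply]
  have e0 : π H k₀ = k₃ := by rw [hHa, swap_apply_of_ne_of_ne d01 d04, swap_apply_left]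
  have e3 : π H k₃ = k₀ := by rw [hHa, swap_apply_of_ne_of_ne d13.symm d34, swap_apply_right]
  have e1 : π H k₁ = k₄ := by rw [hHa, swap_apply_left, swap_apply_of_ne_of_ne d04.symm d34.symm]
  have e4 : π H k₄ = k₁ := by rw [hHa, swap_apply_right, swap_apply_of_ne_of_ne d01.symm d13]
  have e2 : π H k₂ = k₂ := by rw [hHa, swap_apply_of_ne_of_ne d12.symm d24, swap_apply_of_ne_of_ne d02.symm d23]
  have hcyc : ∀ {a b c : Fin n}, a ≠ b → a ≠ c → b ≠ c → cyc3 b c a = cyc3 a b c := by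
    intro a b c h1 h2 h3
    ext x : 1
    rcases eq_or_ne x a with rfl | ha
    · rw [cyc3_apply_three, cyc3_apply_one h1 h2]
    rcases eq_or_ne x b with rfl | hb
    · rw [cyc3_apply_one h3 h1.symm, cyc3_apply_two h2 h3]
    rcases eq_or_ne x c with rfl | hc
    · rw [cyc3_apply_two h1.symm h2.symm, cyc3_apply_three]
    rw [cyc3_apply_other hb hc ha, cyc3_apply_other ha hb hc]
  have hcomm : ∀ {A' B' : Γ}, A'⁻¹ * A ∈ π.ker → B'⁻¹ * B ∈ π.ker → ⁅A', B'⁆ = ⁅A, B⁆ := by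
    intro A' B' ha hb
    obtain ⟨z, hz, rfl⟩ : ∃ z ∈ Subgroup.center Γ, A = A' * z := ⟨_, hker ha, by group⟩
    obtain ⟨w, hw, rfl⟩ : ∃ w ∈ Subgroup.center Γ, B = B' * w := ⟨_, hker hb, by group⟩
    have hz' := Subgroup.mem_center_iff.1 hz
    have hw' := Subgroup.mem_center_iff.1 hw
    calc ⁅A', B'⁆ = A' * B' * A'⁻¹ * B'⁻¹ := commutatorElement_def _ _
      _ = A' * (z * B') * (z⁻¹ * (w * A'⁻¹)) * (w⁻¹ * B'⁻¹) := by
          rw [← hz' B', ← hw' A'⁻¹]
          have e : ∀ t, t * z⁻¹ = z⁻¹ * t := Subgroup.mem_center_iff.1 (inv_mem hz)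
          calc _ = A' * B' * (z * z⁻¹) * A'⁻¹ * (w * w⁻¹) * B'⁻¹ := by group
            _ = _ := by group
      _ = ⁅A' * z, B' * w⁆ := by
          rw [commutatorElement_def, mul_inv_rev, mul_inv_rev]
          rw [← hw' A'⁻¹]
          have e : ∀ t, t * z⁻¹ = z⁻¹ * t := Subgroup.mem_center_iff.1 (inv_mem hz)
          calc _ = A' * z * B' * z⁻¹ * (w * A'⁻¹) * (w⁻¹ * B'⁻¹) := by rw [hw' A'⁻¹]; group
            _ = A' * z * B' * (z⁻¹ * w) * A'⁻¹ * (w⁻¹ * B'⁻¹) := by group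
            _ = A' * z * B' * (w * z⁻¹) * A'⁻¹ * (w⁻¹ * B'⁻¹) := by rw [e w]
            _ = _ := by group
  -- the base cycle
  set c₁ := ⁅A, B⁆ with hc₁
  have hπc : π c₁ = cyc3 k₀ k₃ k₂ := by
    rw [hc₁, map_commutatorElement, hA, hB, commutatorElement_def, cyc3_conj]
    rw [cyc3_apply_three, cyc3_apply_other d03.symm d13.symm d23.symm, cyc3_apply_other d04.symm d14.symm d24.symm]
    ext x : 1
    rw [Perm.mul_apply]
    have hinv : ∀ {u v w : Fin n}, u ≠ v → u ≠ w → v ≠ w → (cyc3 u v w)⁻¹ v = u ∧ (cyc3 u v w)⁻¹ w = v ∧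
        (cyc3 u v w)⁻¹ u = w := fun h1 h2 h3 =>
      ⟨Equiv.Perm.inv_eq_iff_eq.2 (cyc3_apply_one h1 h2).symm, Equiv.Perm.inv_eq_iff_eq.2 (cyc3_apply_two h2 h3).symm,
        Equiv.Perm.inv_eq_iff_eq.2 (cyc3_apply_three _ _ _).symm⟩
    obtain ⟨i3, i4, i2⟩ := hinv d23 d24 d34
    rcases eq_or_ne x k₀ with rfl | hx0
    · rw [Equiv.Perm.inv_eq_iff_eq.2 (cyc3_apply_other d02 d03 d04).symm, cyc3_apply_one d03 d04, cyc3_apply_one d03 d02]
    rcases eq_or_ne x k₂ with rfl | hx2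
    · rw [i2, cyc3_apply_three, cyc3_apply_three]
    rcases eq_or_ne x k₃ with rfl | hx3
    · rw [i3, cyc3_apply_other d02.symm d23 d24, cyc3_apply_two d02 d23.symm]
    rcases eq_or_ne x k₄ with rfl | hx4
    · rw [i4, cyc3_apply_two d04 d34, cyc3_apply_other d04.symm d34.symm d24.symm]
    rw [Equiv.Perm.inv_eq_iff_eq.2 (cyc3_apply_other hx2 hx3 hx4).symm, cyc3_apply_other hx0 hx3 hx4,
      cyc3_apply_other hx0 hx3 hx2]
  have hHc : H * c₁ * H⁻¹ = c₁⁻¹ := by
    rw [hc₁, commutatorElement_inv, show H * ⁅A, B⁆ * H⁻¹ = ⁅H * A * H⁻¹, H * B * H⁻¹⁆ by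
      simp [commutatorElement_def, mul_assoc]]
    have p1 : π (H * A * H⁻¹) = π B := by
      rw [map_mul, map_mul, map_inv, hA, hB, cyc3_conj, e0, e1, e2, hcyc d23 d24 d34]
    have p2 : π (H * B * H⁻¹) = π A := by
      rw [map_mul, map_mul, map_inv, hA, hB, cyc3_conj, e2, e3, e4, hcyc d02.symm d12.symm d01]
    obtain ⟨z, hz, hzz⟩ : ∃ z ∈ π.ker, H * A * H⁻¹ = B * z :=
      ⟨B⁻¹ * (H * A * H⁻¹), by rw [MonoidHom.mem_ker, map_mul, map_inv, p1, inv_mul_cancel], by group⟩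
    obtain ⟨w, hw, hww⟩ : ∃ w ∈ π.ker, H * B * H⁻¹ = A * w :=
      ⟨A⁻¹ * (H * B * H⁻¹), by rw [MonoidHom.mem_ker, map_mul, map_inv, p2, inv_mul_cancel], by group⟩
    rw [hzz, hww]
    have hz' := Subgroup.mem_center_iff.1 (hker hz)
    have hw' := Subgroup.mem_center_iff.1 (hker hw)
    have hzi := Subgroup.mem_center_iff.1 (inv_mem (hker hz))
    rw [commutatorElement_def, commutatorElement_def, mul_inv_rev, mul_inv_rev]
    calc B * z * (A * w) * (z⁻¹ * B⁻¹) * (w⁻¹ * A⁻¹) = B * (z * A) * (w * z⁻¹) * B⁻¹ * (w⁻¹ * A⁻¹) := by group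
      _ = B * (A * z) * (z⁻¹ * w) * B⁻¹ * (w⁻¹ * A⁻¹) := by rw [← hz' A, hzi w]
      _ = B * A * (w * B⁻¹) * (w⁻¹ * A⁻¹) := by group
      _ = B * A * (B⁻¹ * w) * (w⁻¹ * A⁻¹) := by rw [← hw' B⁻¹]
      _ = _ := by group
  -- make the order three
  have hcub : c₁ ^ 3 ∈ π.ker := by
    rw [MonoidHom.mem_ker, map_pow, hπc]
    have h3 : cyc3 k₀ k₃ k₂ ^ 3 = 1 := by
      ext x : 1
      simp only [pow_succ, pow_zero, one_mul, Perm.mul_apply, Perm.one_apply]
      rcases eq_or_ne x k₀ with rfl | ha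
      · rw [cyc3_apply_one d03 d02, cyc3_apply_two d02 d23.symm, cyc3_apply_three]
      rcases eq_or_ne x k₃ with rfl | hb
      · rw [cyc3_apply_two d02 d23.symm, cyc3_apply_three, cyc3_apply_one d03 d02]
      rcases eq_or_ne x k₂ with rfl | hc
      · rw [cyc3_apply_three, cyc3_apply_one d03 d02, cyc3_apply_two d02 d23.symm]
      simp only [cyc3_apply_other ha hb hc]
    exact h3
  have hsix : (c₁ ^ 3) ^ 2 = 1 := by
    have h : H * c₁ ^ 3 * H⁻¹ = (c₁ ^ 3)⁻¹ := by rw [← conj_pow, hHc, inv_pow]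
    rw [Subgroup.mem_center_iff.1 (hker hcub) H, mul_inv_cancel_right] at h
    rw [sq]
    exact mul_eq_one_iff_eq_inv.2 h
  set c₀ := c₁ ^ 4 with hc₀
  have hc₀π : π c₀ = cyc3 k₀ k₃ k₂ := by
    rw [hc₀, map_pow, pow_succ, ← map_pow, MonoidHom.mem_ker.1 hcub, one_mul, hπc]
  have hHc₀ : H * c₀ * H⁻¹ = c₀⁻¹ := by rw [hc₀, ← conj_pow, hHc, inv_pow]
  -- transport
  have hg : ∀ a b c : Fin n, ∃ g : Γ, (a ≠ b ∧ a ≠ c ∧ b ≠ c) → π g k₀ = a ∧ π g k₃ = b ∧ π g k₂ = c := by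
    intro a b c
    by_cases h : a ≠ b ∧ a ≠ c ∧ b ≠ c
    · obtain ⟨σ, hσ, h1, h2, h3⟩ := exists_even_triple h5 d03 d02 d23.symm h.1 h.2.1 h.2.2
      obtain ⟨g, rfl⟩ := hlift σ hσ
      exact ⟨g, fun _ => ⟨h1, h2, h3⟩⟩
    · exact ⟨1, fun h' => absurd h' h⟩
  choose G hG using hg
  refine ⟨fun a b c => G a b c * c₀ * (G a b c)⁻¹, ?_⟩
  have hwd : ∀ a b c, a ≠ b → a ≠ c → b ≠ c → ∀ g : Γ, π g k₀ = a → π g k₃ = b → π g k₂ = c →
      g * c₀ * g⁻¹ = G a b c * c₀ * (G a b c)⁻¹ := by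
    intro a b c h1 h2 h3 g g1 g2 g3
    obtain ⟨q1, q2, q3⟩ := hG a b c ⟨h1, h2, h3⟩
    have e : ∀ x : Fin n, π g x = π (G a b c) x → π ((G a b c)⁻¹ * g) x = x := fun x hx => by
      rw [map_mul, map_inv, Perm.mul_apply, hx, Equiv.Perm.inv_eq_iff_eq.2 rfl]
    have h := lift_fix_comm π hn hr hker d03 d02 d23.symm hc₀π (e _ (g1.trans q1.symm))
      (e _ (g2.trans q2.symm)) (e _ (g3.trans q3.symm))
    calc g * c₀ * g⁻¹ = G a b c * (((G a b c)⁻¹ * g) * c₀) * g⁻¹ := by group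
      _ = _ := by rw [h]; group
  intro a b c h1 h2 h3
  obtain ⟨q1, q2, q3⟩ := hG a b c ⟨h1, h2, h3⟩
  refine ⟨?_, ?_, ?_, ?_, ?_⟩
  · rw [map_mul, map_mul, map_inv, hc₀π, cyc3_conj, q1, q2, q3]
  · show G b c a * c₀ * (G b c a)⁻¹ = G a b c * c₀ * (G a b c)⁻¹
    rw [← hwd b c a h3 h1.symm h2.symm (G a b c * c₀)]
    · group
    · rw [map_mul, hc₀π, Perm.mul_apply, cyc3_apply_one d03 d02, q2]
    · rw [map_mul, hc₀π, Perm.mul_apply, cyc3_apply_two d02 d23.symm, q3]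
    · rw [map_mul, hc₀π, Perm.mul_apply, cyc3_apply_three, q1]
  · show G a c b * c₀ * (G a c b)⁻¹ = (G a b c * c₀ * (G a b c)⁻¹)⁻¹
    -- use the inversion, after rotating by the cycle itself
    rw [← hwd a c b h2 h1 h3.symm (G a b c * (c₀ ^ 2 * H))]
    · have : c₀ ^ 2 * H * c₀ * (c₀ ^ 2 * H)⁻¹ = c₀⁻¹ := by
        calc c₀ ^ 2 * H * c₀ * (c₀ ^ 2 * H)⁻¹ = c₀ ^ 2 * (H * c₀ * H⁻¹) * (c₀ ^ 2)⁻¹ := by group
          _ = c₀⁻¹ := by rw [hHc₀]; group
      calc G a b c * (c₀ ^ 2 * H) * c₀ * (G a b c * (c₀ ^ 2 * H))⁻¹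
          = G a b c * (c₀ ^ 2 * H * c₀ * (c₀ ^ 2 * H)⁻¹) * (G a b c)⁻¹ := by group
        _ = _ := by rw [this]; group
    all_goals rw [map_mul, map_mul, map_pow, hc₀π, Perm.mul_apply, Perm.mul_apply, pow_two, Perm.mul_apply]
    · rw [e0, cyc3_apply_two d02 d23.symm, cyc3_apply_three, q1]
    · rw [e3, cyc3_apply_one d03 d02, cyc3_apply_two d02 d23.symm, q3]
    · rw [e2, cyc3_apply_three, cyc3_apply_one d03 d02, q2]
  · show G a b c * c₀ * (G a b c)⁻¹ * (G a b c * c₀ * (G a b c)⁻¹) = (G a b c * c₀ * (G a b c)⁻¹)⁻¹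
    have h12 : c₀ * c₀ = c₀⁻¹ := by
      refine eq_inv_of_mul_eq_one_left ?_
      calc c₀ * c₀ * c₀ = ((c₁ ^ 3) ^ 2) ^ 2 := by rw [hc₀]; group
        _ = 1 := by rw [hsix, one_pow]
    calc _ = G a b c * (c₀ * c₀) * (G a b c)⁻¹ := by group
      _ = _ := by rw [h12]; group
  · intro g
    show g * (G a b c * c₀ * (G a b c)⁻¹) * g⁻¹ = G (π g a) (π g b) (π g c) * c₀ * (G (π g a) (π g b) (π g c))⁻¹
    rw [← hwd (π g a) (π g b) (π g c) ((π g).injective.ne h1) ((π g).injective.ne h2) ((π g).injective.ne h3) (g * G a b c)]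
    · group
    all_goals rw [map_mul, Perm.mul_apply]
    · rw [q1]
    · rw [q2]
    · rw [q3]

section lifts

variable {L : Fin n → Fin n → Fin n → Γ}

/-- The group generated by lifts of cycles inside `S`. -/
def altK (L : Fin n → Fin n → Fin n → Γ) (β : Γ) (S : Finset (Fin n)) : Subgroup Γ :=
  Subgroup.closure ({β} ∪ {x | ∃ a ∈ S, ∃ b ∈ S, ∃ c ∈ S, a ≠ b ∧ a ≠ c ∧ b ≠ c ∧ x = L a b c})

variable (hL : ∀ a b c, a ≠ b → a ≠ c → b ≠ c →
    π (L a b c) = cyc3 a b c ∧ L b c a = L a b c ∧ L a c b = (L a b c)⁻¹ ∧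
    L a b c * L a b c = (L a b c)⁻¹ ∧
    ∀ g : Γ, g * L a b c * g⁻¹ = L (π g a) (π g b) (π g c))
  {β : Γ} (hβπ : π β = 1) (hβc : β ∈ Subgroup.center Γ)
  (hrel : ∀ a b i j, a ≠ b → a ≠ i → a ≠ j → b ≠ i → b ≠ j → i ≠ j →
    L b a i * L a b j = β * L b j i)

include hL hβπ in
theorem altK_fix {S : Finset (Fin n)} {g : Γ} (hg : g ∈ altK L β S) {x : Fin n} (hx : x ∉ S) :
    π g x = x := by
  induction hg using Subgroup.closure_induction with
  | mem y hy =>
    rcases hy with rfl | ⟨a, ha, b, hb, c, hc, h1, h2, h3, rfl⟩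
    · rw [hβπ, Perm.one_apply]
    · rw [(hL a b c h1 h2 h3).1, cyc3_apply_other (fun e : x = a => hx (e ▸ ha)) (fun e : x = b => hx (e ▸ hb))
        (fun e : x = c => hx (e ▸ hc))]
  | one => rw [map_one, Perm.one_apply]
  | mul y z _ _ h1 h2 => rw [map_mul, Perm.mul_apply, h2, h1]
  | inv y _ h => rw [map_inv, Equiv.Perm.inv_eq_iff_eq.2 h.symm]

include hL hβπ hβc hrel in
theorem altK_insert {S : Finset (Fin n)} {m : Fin n} (hm : m ∉ S) {g : Γ} (hg : g ∈ altK L β (insert m S)) :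
    g ∈ altK L β S ∨ ∃ i ∈ S, ∃ j ∈ S, i ≠ j ∧ ∃ k ∈ altK L β S, g = L m i j * k := by
  have hβm : β ∈ altK L β S := Subgroup.subset_closure (Or.inl rfl)
  have hLm : ∀ {a b c}, a ∈ S → b ∈ S → c ∈ S → a ≠ b → a ≠ c → b ≠ c → L a b c ∈ altK L β S :=
    fun ha hb hc h1 h2 h3 => Subgroup.subset_closure (Or.inr ⟨_, ha, _, hb, _, hc, h1, h2, h3, rfl⟩)
  have hne : ∀ {a}, a ∈ S → a ≠ m := fun ha e => hm (e ▸ ha)
  have hbeta := Subgroup.mem_center_iff.1 hβc
  set P : Γ → Prop := fun g =>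
    g ∈ altK L β S ∨ ∃ i ∈ S, ∃ j ∈ S, i ≠ j ∧ ∃ k ∈ altK L β S, g = L m i j * k with hP
  -- change of representative
  have hrep : ∀ i ∈ S, ∀ j ∈ S, ∀ j' ∈ S, i ≠ j → i ≠ j' → ∀ k ∈ altK L β S,
      ∃ k' ∈ altK L β S, L m i j * k = L m i j' * k' := by
    intro i hi j hj j' hj' hij hij' k hk
    rcases eq_or_ne j j' with rfl | hjj
    · exact ⟨k, hk, rfl⟩
    refine ⟨β * L i j j' * k, mul_mem (mul_mem hβm (hLm hi hj hj' hij hij' hjj)) hk, ?_⟩
    have h := hrel m i j' j (hne hi).symm (hne hj').symm (hne hj).symm hij' hij hjj.symm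
    have e : L i m j' = (L m i j')⁻¹ := by
      rw [← (hL m i j' (hne hi).symm (hne hj').symm hij').2.2.1,
        ← (hL i m j' (hne hi) hij' (hne hj').symm).2.1]
    rw [e, inv_mul_eq_iff_eq_mul] at h
    rw [h]
    simp only [mul_assoc]
  have hin : ∀ x ∈ altK L β S, ∀ g, P g → P (x * g) := by
    rintro x hx g (hg | ⟨i, hi, j, hj, hij, k, hk, rfl⟩)
    · exact Or.inl (mul_mem hx hg)
    have hσ : ∀ y ∈ S, π x y ∈ S := fun y hy => by
      by_contra h
      exact h (by rwa [(π x).injective (altK_fix π hL hβπ hx h)])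
    refine Or.inr ⟨π x i, hσ i hi, π x j, hσ j hj, (π x).injective.ne hij, x * k, mul_mem hx hk, ?_⟩
    have h := (hL m i j (hne hi).symm (hne hj).symm hij).2.2.2.2 x
    rw [altK_fix π hL hβπ hx hm] at h
    rw [← h]
    group
  have hstar : ∀ a ∈ S, ∀ c ∈ S, a ≠ c → ∀ g, P g → P (L m a c * g) := by
    rintro a ha c hc hac g (hg | ⟨i, hi, j, hj, hij, k, hk, rfl⟩)
    · exact Or.inr ⟨a, ha, c, hc, hac, g, hg, rfl⟩
    rcases eq_or_ne i c with rfl | hic
    · obtain ⟨k', hk', e⟩ := hrep i hi j hj a ha hij hac.symm k hk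
      refine Or.inl ?_
      rw [e, ← mul_assoc, (hL m a i (hne ha).symm (hne hi).symm hac).2.2.1, mul_inv_cancel, one_mul]
      exact hk'
    rcases eq_or_ne i a with rfl | hia
    · obtain ⟨k', hk', e⟩ := hrep i hi j hj c hc hij hic k hk
      refine Or.inr ⟨c, hc, i, hi, hic.symm, k', hk', ?_⟩
      rw [e, ← mul_assoc]
      congr 1
      rw [(hL m i c (hne hi).symm (hne hc).symm hic).2.2.1]
      exact (hL m i c (hne hi).symm (hne hc).symm hic).2.2.2.1
    obtain ⟨k', hk', e⟩ := hrep i hi j hj a ha hij hia k hk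
    refine Or.inr ⟨i, hi, c, hc, hic, β * k', mul_mem hβm hk', ?_⟩
    have h := hrel a m c i (hne ha) hac hia.symm (hne hc).symm (hne hi).symm hic.symm
    have e1 : L m i a = L a m i := by
      rw [(hL a m i (hne ha) hia.symm (hne hi).symm).2.1]
    rw [e, ← mul_assoc, e1, h, mul_assoc, ← mul_assoc (L m i c), hbeta (L m i c), mul_assoc]
  have hgen : ∀ x ∈ {β} ∪ {x | ∃ a ∈ insert m S, ∃ b ∈ insert m S, ∃ c ∈ insert m S,
      a ≠ b ∧ a ≠ c ∧ b ≠ c ∧ x = L a b c}, ∀ g, P g → (P (x * g) ∧ P (x⁻¹ * g)) := by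
    rintro x (rfl | ⟨a, ha, b, hb, c, hc, h1, h2, h3, rfl⟩) g hg
    · exact ⟨hin _ hβm g hg, hin _ (inv_mem hβm) g hg⟩
    have ha' := Finset.mem_insert.1 ha
    have hb' := Finset.mem_insert.1 hb
    have hc' := Finset.mem_insert.1 hc
    have key : ∀ u v, u ∈ S → v ∈ S → u ≠ v → L a b c = L m u v → P (L a b c * g) ∧ P ((L a b c)⁻¹ * g) :=
      fun u v hu hv huv e => ⟨e ▸ hstar u hu v hv huv g hg, by
        rw [e, ← (hL m u v (hne hu).symm (hne hv).symm huv).2.2.1]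
        exact hstar v hv u hu huv.symm g hg⟩
    rcases ha' with hma | haS
    · exact key b c (hb'.resolve_left fun e => h1 (hma.trans e.symm)) (hc'.resolve_left fun e => h2 (hma.trans e.symm))
        h3 (by rw [hma])
    rcases hb' with hmb | hbS
    · exact key c a (hc'.resolve_left fun e => h3 (hmb.trans e.symm)) haS h2.symm
        (by rw [← hmb, (hL a b c h1 h2 h3).2.1])
    rcases hc' with hmc | hcS
    · exact key a b haS hbS h1 (by rw [← hmc, ← (hL c a b h2.symm h3.symm h1).2.1])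
    exact ⟨hin _ (hLm haS hbS hcS h1 h2 h3) g hg, hin _ (inv_mem (hLm haS hbS hcS h1 h2 h3)) g hg⟩
  change P g
  induction hg using Subgroup.closure_induction_left with
  | one => exact Or.inl (one_mem _)
  | mul_left x hx y _ ih => exact (hgen x hx y ih).1
  | inv_mul_cancel x hx y _ ih => exact (hgen x hx y ih).2

include hL hβπ hβc hrel in
theorem altK_kernel (S : Finset (Fin n)) : ∀ g ∈ altK L β S, π g = 1 → g ∈ Subgroup.zpowers β := by
  induction S using Finset.induction_on with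
  | empty =>
    intro g hg _
    refine (Subgroup.closure_le _).2 ?_ hg
    rintro x (rfl | ⟨a, ha, -⟩)
    · exact Subgroup.mem_zpowers _
    · simp at ha
  | insert m S hm ih =>
    intro g hg h1
    rcases altK_insert π hL hβπ hβc hrel hm hg with hg | ⟨i, hi, j, hj, hij, k, hk, rfl⟩
    · exact ih g hg h1
    have h := DFunLike.congr_fun h1 m
    rw [map_mul, Perm.mul_apply, altK_fix π hL hβπ hk hm, (hL m i j (fun e : m = i => hm (e ▸ hi)) (fun e : m = j => hm (e ▸ hj)) hij).1,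
      cyc3_apply_one (fun e : m = i => hm (e ▸ hi)) (fun e : m = j => hm (e ▸ hj)), Perm.one_apply] at h
    exact absurd (h ▸ hi) hm

end lifts

theorem stem_alt_kernel_le_two (hn4 : 5 ≤ n) (hn : n ≤ 5 ∨ 8 ≤ n) (hr : π.range = alternatingGroup (Fin n))
    (hker : π.ker ≤ Subgroup.center Γ) (hZ : π.ker ≤ commutator Γ) : Nat.card π.ker ≤ 2 := by
  classical
  obtain ⟨L, hL⟩ := exists_cycle_lifts π hn4 hn hr hker
  -- the square of a product of two cycles with two common points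
  let F : (Fin 4 → Fin n) → Γ := fun t => (L (t 0) (t 1) (t 2) * L (t 0) (t 1) (t 3)) ^ 2
  have hne : ∀ t : Fin 4 → Fin n, Function.Injective t → ∀ i j, i ≠ j → t i ≠ t j := fun t ht i j h e => h (ht e)
  have hFker : ∀ t, Function.Injective t → π (F t) = 1 := by
    intro t ht
    have a := hne t ht
    rw [map_pow, map_mul, (hL _ _ _ (a 0 1 (by decide)) (a 0 2 (by decide)) (a 1 2 (by decide))).1,
      (hL _ _ _ (a 0 1 (by decide)) (a 0 3 (by decide)) (a 1 3 (by decide))).1]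
    ext x : 1
    rw [sq]
    simp only [Perm.mul_apply, Perm.one_apply]
    rcases eq_or_ne x (t 0) with rfl | h0
    · rw [cyc3_apply_one (a 0 1 (by decide)) (a 0 3 (by decide)), cyc3_apply_two (a 0 2 (by decide)) (a 1 2 (by decide)),
        cyc3_apply_other (a 2 0 (by decide)) (a 2 1 (by decide)) (a 2 3 (by decide)), cyc3_apply_three]
    rcases eq_or_ne x (t 1) with rfl | h1
    · rw [cyc3_apply_two (a 0 3 (by decide)) (a 1 3 (by decide)),
        cyc3_apply_other (a 3 0 (by decide)) (a 3 1 (by decide)) (a 3 2 (by decide)), cyc3_apply_three,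
        cyc3_apply_one (a 0 1 (by decide)) (a 0 2 (by decide))]
    rcases eq_or_ne x (t 2) with rfl | h2
    · rw [cyc3_apply_other (a 2 0 (by decide)) (a 2 1 (by decide)) (a 2 3 (by decide)), cyc3_apply_three,
        cyc3_apply_one (a 0 1 (by decide)) (a 0 3 (by decide)), cyc3_apply_two (a 0 2 (by decide)) (a 1 2 (by decide))]
    rcases eq_or_ne x (t 3) with rfl | h3
    · rw [cyc3_apply_three, cyc3_apply_one (a 0 1 (by decide)) (a 0 2 (by decide)),
        cyc3_apply_two (a 0 3 (by decide)) (a 1 3 (by decide)),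
        cyc3_apply_other (a 3 0 (by decide)) (a 3 1 (by decide)) (a 3 2 (by decide))]
    rw [cyc3_apply_other h0 h1 h3, cyc3_apply_other h0 h1 h2, cyc3_apply_other h0 h1 h3, cyc3_apply_other h0 h1 h2]
  have hFc : ∀ t, Function.Injective t → F t ∈ Subgroup.center Γ := fun t ht =>
    hker (MonoidHom.mem_ker.2 (hFker t ht))
  have hFeven : ∀ t, Function.Injective t → ∀ σ ∈ alternatingGroup (Fin n), F (fun i => σ (t i)) = F t := by
    intro t ht σ hσ
    obtain ⟨g, rfl⟩ : σ ∈ π.range := by rw [hr]; exact hσ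
    have a := hne t ht
    show (L (π g (t 0)) (π g (t 1)) (π g (t 2)) * L (π g (t 0)) (π g (t 1)) (π g (t 3))) ^ 2 = F t
    rw [← (hL _ _ _ (a 0 1 (by decide)) (a 0 2 (by decide)) (a 1 2 (by decide))).2.2.2.2 g,
      ← (hL _ _ _ (a 0 1 (by decide)) (a 0 3 (by decide)) (a 1 3 (by decide))).2.2.2.2 g,
      show g * L (t 0) (t 1) (t 2) * g⁻¹ * (g * L (t 0) (t 1) (t 3) * g⁻¹) =
        g * (L (t 0) (t 1) (t 2) * L (t 0) (t 1) (t 3)) * g⁻¹ by group, conj_pow]
    show g * F t * g⁻¹ = F t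
    rw [Subgroup.mem_center_iff.1 (hFc t ht) g, mul_inv_cancel_right]
  have hFswap : ∀ t, Function.Injective t → F (fun i => swap (t 2) (t 3) (t i)) = F t := by
    intro t ht
    have a := hne t ht
    show (L (swap (t 2) (t 3) (t 0)) (swap (t 2) (t 3) (t 1)) (swap (t 2) (t 3) (t 2)) *
      L (swap (t 2) (t 3) (t 0)) (swap (t 2) (t 3) (t 1)) (swap (t 2) (t 3) (t 3))) ^ 2 = F t
    rw [swap_apply_of_ne_of_ne (a 0 2 (by decide)) (a 0 3 (by decide)),
      swap_apply_of_ne_of_ne (a 1 2 (by decide)) (a 1 3 (by decide)), swap_apply_left, swap_apply_right]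
    set x := L (t 0) (t 1) (t 2)
    set y := L (t 0) (t 1) (t 3)
    have h := Subgroup.mem_center_iff.1 (hFc t ht) x⁻¹
    calc (y * x) ^ 2 = x⁻¹ * (x * y) ^ 2 * x := by simp [sq, mul_assoc]
      _ = F t * x⁻¹ * x := by rw [h]
      _ = F t := by group
  have hFall : ∀ t, Function.Injective t → ∀ σ : Perm (Fin n), F (fun i => σ (t i)) = F t := by
    intro t ht σ
    rcases Int.units_eq_one_or (Perm.sign σ) with h | h
    · exact hFeven t ht σ (Equiv.Perm.mem_alternatingGroup.2 h)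
    have hsw : t 2 ≠ t 3 := hne t ht 2 3 (by decide)
    have h' : σ * swap (t 2) (t 3) ∈ alternatingGroup (Fin n) := by
      rw [Equiv.Perm.mem_alternatingGroup, map_mul, h, sign_swap hsw]; rfl
    have e := hFeven _ ((swap (t 2) (t 3)).injective.comp ht) _ h'
    refine Eq.trans ?_ (e.trans (hFswap t ht))
    have e' : (fun i => σ (t i)) = fun i => (σ * swap (t 2) (t 3)) ((⇑(swap (t 2) (t 3)) ∘ t) i) := funext fun i => by simp
    exact e' ▸ rfl
  let t₀ : Fin 4 → Fin n := fun i => ⟨i, by omega⟩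
  have ht₀ : Function.Injective t₀ := fun i j h => Fin.ext (by simpa [t₀, Fin.ext_iff] using h)
  set β := F t₀ with hβ
  have hconst : ∀ a b i j, a ≠ b → a ≠ i → a ≠ j → b ≠ i → b ≠ j → i ≠ j →
      (L a b i * L a b j) ^ 2 = β := by
    intro a b i j h1 h2 h3 h4 h5 h6
    obtain ⟨σ, hσ⟩ := Equiv.Perm.exists_extending_pair t₀ ![a, b, i, j] ht₀
      (by intro x y; fin_cases x <;> fin_cases y <;> simp_all [eq_comm])
    rw [hβ, ← hFall t₀ ht₀ σ]
    show _ = (L (σ (t₀ 0)) (σ (t₀ 1)) (σ (t₀ 2)) * L (σ (t₀ 0)) (σ (t₀ 1)) (σ (t₀ 3))) ^ 2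
    rw [hσ 0, hσ 1, hσ 2, hσ 3]
    rfl
  have hβπ : π β = 1 := hFker t₀ ht₀
  have hβc : β ∈ Subgroup.center Γ := hFc t₀ ht₀
  have hb := Subgroup.mem_center_iff.1 hβc
  -- the inverse of `β` is `β`
  have hβ2 : β * β = 1 := by
    have d : ∀ i j : Fin 4, i ≠ j → t₀ i ≠ t₀ j := fun i j h e => h (ht₀ e)
    have e1 := hconst (t₀ 0) (t₀ 1) (t₀ 2) (t₀ 3) (d 0 1 (by decide)) (d 0 2 (by decide)) (d 0 3 (by decide))
      (d 1 2 (by decide)) (d 1 3 (by decide)) (d 2 3 (by decide))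
    have e2 := hconst (t₀ 1) (t₀ 0) (t₀ 3) (t₀ 2) (d 1 0 (by decide)) (d 1 3 (by decide)) (d 1 2 (by decide))
      (d 0 3 (by decide)) (d 0 2 (by decide)) (d 3 2 (by decide))
    have i1 : L (t₀ 1) (t₀ 0) (t₀ 3) = (L (t₀ 0) (t₀ 1) (t₀ 3))⁻¹ := by
      rw [← (hL _ _ _ (d 0 1 (by decide)) (d 0 3 (by decide)) (d 1 3 (by decide))).2.2.1,
        ← (hL _ _ _ (d 1 0 (by decide)) (d 1 3 (by decide)) (d 0 3 (by decide))).2.1]
    have i2 : L (t₀ 1) (t₀ 0) (t₀ 2) = (L (t₀ 0) (t₀ 1) (t₀ 2))⁻¹ := by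
      rw [← (hL _ _ _ (d 0 1 (by decide)) (d 0 2 (by decide)) (d 1 2 (by decide))).2.2.1,
        ← (hL _ _ _ (d 1 0 (by decide)) (d 1 2 (by decide)) (d 0 2 (by decide))).2.1]
    rw [i1, i2, ← mul_inv_rev, inv_pow, e1] at e2
    nth_rewrite 1 [← e2]
    rw [inv_mul_cancel]
  have hrel : ∀ a b i j, a ≠ b → a ≠ i → a ≠ j → b ≠ i → b ≠ j → i ≠ j →
      L b a i * L a b j = β * L b j i := by
    intro a b i j h1 h2 h3 h4 h5 h6
    set x := L a b i with hx
    set y := L a b j with hy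
    have i1 : L b a i = x⁻¹ := by
      rw [hx, ← (hL a b i h1 h2 h4).2.2.1, ← (hL b a i h1.symm h4 h2).2.1]
    rw [i1]
    have hsq := hconst a b i j h1 h2 h3 h4 h5 h6
    rw [← hx, ← hy] at hsq
    have hy2 : y * y = y⁻¹ := (hL a b j h1 h3 h5).2.2.2.1
    -- the conjugate of `x` by `y`
    have hconj : y * x * y⁻¹ = L b j i := by
      rw [hy, hx, (hL a b i h1 h2 h4).2.2.2.2, (hL a b j h1 h3 h5).1, cyc3_apply_one h1 h3, cyc3_apply_two h3 h5,
        cyc3_apply_other h2.symm h4.symm h6]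
    rw [← hconj]
    have hyxy : y * x * y = β * x⁻¹ := by
      calc y * x * y = x⁻¹ * (x * y) ^ 2 := by simp [sq, mul_assoc]
        _ = β * x⁻¹ := by rw [hsq, hb x⁻¹]
    calc x⁻¹ * y = β⁻¹ * (β * x⁻¹) * y := by group
      _ = β⁻¹ * (y * x * y) * y := by rw [hyxy]
      _ = β⁻¹ * (y * x * (y * y)) := by group
      _ = β * (y * x * y⁻¹) := by rw [hy2, inv_eq_of_mul_eq_one_left hβ2]
  -- the generated group
  set K := altK L β Finset.univ with hK
  have hsurj : ∀ g : Γ, ∃ k ∈ K, π k = π g := by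
    intro g
    have hgA : π g ∈ Subgroup.closure {σ : Perm (Fin n) | IsThreeCycle σ} := by
      rw [Equiv.Perm.closure_three_cycles_eq_alternating, ← hr]; exact ⟨g, rfl⟩
    have hle : Subgroup.closure {σ : Perm (Fin n) | IsThreeCycle σ} ≤ K.map π := by
      rw [Subgroup.closure_le]
      intro σ hσ
      obtain ⟨a, ha⟩ : σ.support.Nonempty := Finset.card_pos.1 (by rw [hσ.card_support]; norm_num)
      have hd := hσ.nodup_iff_mem_support.2 ha
      simp only [List.nodup_cons, List.mem_cons, List.not_mem_nil, or_false, not_or, List.nodup_nil, and_true] at hd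
      obtain ⟨⟨h1, h2⟩, h3, -⟩ := hd
      refine ⟨L a (σ a) (σ (σ a)), Subgroup.subset_closure (Or.inr ⟨_, Finset.mem_univ _, _, Finset.mem_univ _,
        _, Finset.mem_univ _, h1, h2, h3, rfl⟩), ?_⟩
      rw [(hL _ _ _ h1 h2 h3).1]
      exact (hσ.eq_swap_mul_swap_iff_mem_support.2 ha).symm
    exact hle hgA
  have hcomm : commutator Γ ≤ K := by
    rw [commutator_def, Subgroup.commutator_le]
    intro x _ y _
    obtain ⟨k, hk, ek⟩ := hsurj x
    obtain ⟨l, hl, el⟩ := hsurj y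
    have hz : ∀ {u v : Γ}, π u = π v → v * u⁻¹ ∈ Subgroup.center Γ := fun e =>
      hker (by rw [MonoidHom.mem_ker, map_mul, map_inv, e, mul_inv_cancel])
    obtain ⟨z, hzc, rfl⟩ : ∃ z ∈ Subgroup.center Γ, x = z * k := ⟨_, hz ek, by group⟩
    obtain ⟨w, hwc, rfl⟩ : ∃ w ∈ Subgroup.center Γ, y = w * l := ⟨_, hz el, by group⟩
    have e : ⁅z * k, w * l⁆ = ⁅k, l⁆ := by
      have z1 := Subgroup.mem_center_iff.1 (inv_mem hzc)
      have w1 := Subgroup.mem_center_iff.1 hwc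
      rw [commutatorElement_def, commutatorElement_def, mul_inv_rev, mul_inv_rev]
      calc z * k * (w * l) * (k⁻¹ * z⁻¹) * (l⁻¹ * w⁻¹) = z * (k * w) * l * k⁻¹ * (z⁻¹ * l⁻¹) * w⁻¹ := by group
        _ = z * (w * k) * l * k⁻¹ * (l⁻¹ * z⁻¹) * w⁻¹ := by rw [w1 k, ← z1 l⁻¹]
        _ = z * w * (k * l * k⁻¹ * l⁻¹) * (z⁻¹ * w⁻¹) := by group
        _ = (k * l * k⁻¹ * l⁻¹) * (z * w) * (z⁻¹ * w⁻¹) := by
            rw [← Subgroup.mem_center_iff.1 (mul_mem hzc hwc) (k * l * k⁻¹ * l⁻¹)]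
        _ = k * l * k⁻¹ * l⁻¹ := by rw [z1 w⁻¹ |>.symm]; group
    rw [e, commutatorElement_def]
    exact mul_mem (mul_mem (mul_mem hk hl) (inv_mem hk)) (inv_mem hl)
  have hle : π.ker ≤ Subgroup.zpowers β := fun z hz =>
    altK_kernel π hL hβπ hβc hrel Finset.univ z (hcomm (hZ hz)) (MonoidHom.mem_ker.1 hz)
  refine (Nat.card_le_card_of_injective _ (Subgroup.inclusion_injective hle)).trans ?_
  rw [Nat.card_zpowers]
  exact Nat.le_of_dvd two_pos (orderOf_dvd_of_pow_eq_one (by rw [sq, hβ2]))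

theorem stem_alt_four (hr : π.range = alternatingGroup (Fin n)) (h4 : n = 4)
    (hker : π.ker ≤ Subgroup.center Γ) (hZ : π.ker ≤ commutator Γ) : Nat.card π.ker ≤ 2 := by
  classical
  subst h4
  have hA : ∀ σ : Perm (Fin 4), Perm.sign σ = 1 → ∃ g : Γ, π g = σ := fun σ h => by
    have : σ ∈ π.range := by rw [hr]; exact Equiv.Perm.mem_alternatingGroup.2 h
    exact this
  obtain ⟨u, hu⟩ := hA (swap 0 1 * swap 2 3) (by decide)
  obtain ⟨v, hv⟩ := hA (swap 0 2 * swap 1 3) (by decide)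
  obtain ⟨t, ht⟩ := hA (swap 0 1 * swap 1 2) (by decide)
  set w := ⁅u, v⁆ with hw
  have hwk : w ∈ π.ker := by
    rw [MonoidHom.mem_ker, hw, map_commutatorElement, hu, hv]; decide
  have huk : u * u ∈ π.ker := by rw [MonoidHom.mem_ker, map_mul, hu]; decide
  have hw2 : w * w = 1 := by
    have hw' := Subgroup.mem_center_iff.1 (hker hwk)
    have huc := Subgroup.mem_center_iff.1 (hker huk)
    have h1 : w = u * w * u⁻¹ := by rw [hw' u, mul_inv_cancel_right]
    nth_rewrite 1 [h1]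
    calc u * w * u⁻¹ * w = (u * u) * v * (u * u)⁻¹ * v⁻¹ := by rw [hw]; simp [commutatorElement_def, mul_assoc]
      _ = 1 := by rw [← huc v]; group
  haveI hWn : (Subgroup.zpowers w).Normal := ⟨fun a ha g => by
    have hc : a ∈ Subgroup.center Γ := (Subgroup.zpowers_le.2 (hker hwk)) ha
    rwa [Subgroup.mem_center_iff.1 hc g, mul_inv_cancel_right]⟩
  set q := QuotientGroup.mk' (Subgroup.zpowers w) with hq
  have hqs : Function.Surjective q := QuotientGroup.mk'_surjective _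
  have hle : π.ker ≤ Subgroup.zpowers w := by
    intro z hz
    rw [← QuotientGroup.ker_mk' (Subgroup.zpowers w), MonoidHom.mem_ker]
    have hzc : ∀ z ∈ π.ker, q z ∈ Subgroup.center (Γ ⧸ Subgroup.zpowers w) := fun z hz =>
      Subgroup.mem_center_iff.2 fun g => by
        obtain ⟨g, rfl⟩ := hqs g
        rw [← map_mul, ← map_mul, Subgroup.mem_center_iff.1 (hker hz) g]
    have hzG : q z ∈ commutator (Γ ⧸ Subgroup.zpowers w) := by
      have : q z ∈ (commutator Γ).map q := ⟨z, hZ hz, rfl⟩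
      rwa [commutator_def, Subgroup.map_commutator, Subgroup.map_top_of_surjective q hqs, ← commutator_def] at this
    have hcomm : ∀ (S : Set Γ), (∀ a ∈ S, ∀ b ∈ S, q a * q b = q b * q a) →
        IsMulCommutative ((Subgroup.closure S ⊔ π.ker).map q) := by
      intro S hS
      rw [Subgroup.map_sup, MonoidHom.map_closure, ← Subgroup.closure_eq (π.ker.map q), ← Subgroup.closure_union]
      refine Subgroup.isMulCommutative_closure ?_
      rintro a (⟨a, ha, rfl⟩ | ⟨a, ha, rfl⟩) b (⟨b, hb, rfl⟩ | ⟨b, hb, rfl⟩)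
      · exact hS a ha b hb
      · exact Subgroup.mem_center_iff.1 (hzc b hb) _
      · exact (Subgroup.mem_center_iff.1 (hzc a ha) _).symm
      · exact Subgroup.mem_center_iff.1 (hzc b hb) _
    have hidx : ∀ (S : Set Γ), ((Subgroup.closure S ⊔ π.ker).map q).index ∣
        ((Subgroup.closure (π '' S)).subgroupOf π.range).index := by
      intro S
      refine (Subgroup.index_map_dvd _ hqs).trans (dvd_of_eq ?_)
      rw [← Subgroup.comap_map_eq, MonoidHom.map_closure]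
      rw [show π = π.range.subtype.comp π.rangeRestrict from rfl, ← Subgroup.comap_comap,
        Subgroup.index_comap_of_surjective _ π.rangeRestrict_surjective]
      rfl
    have hz3 : q z ^ ((Subgroup.closure ({u, v} : Set Γ) ⊔ π.ker).map q).index = 1 := by
      refine transfer_central_pow _ (hcomm _ ?_) (hzc z hz) hzG ⟨z, Subgroup.mem_sup_right hz, rfl⟩
      have huv : q u * q v = q v * q u := by
        rw [← commutatorElement_eq_one_iff_mul_comm, ← map_commutatorElement, ← hw, ← MonoidHom.mem_ker,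
          QuotientGroup.ker_mk']
        exact Subgroup.mem_zpowers w
      rintro a (rfl | rfl) b (rfl | rfl) <;> first | rfl | exact huv | exact huv.symm
    have hz4 : q z ^ ((Subgroup.closure ({t} : Set Γ) ⊔ π.ker).map q).index = 1 := by
      refine transfer_central_pow _ (hcomm _ ?_) (hzc z hz) hzG ⟨z, Subgroup.mem_sup_right hz, rfl⟩
      rintro a rfl b rfl; rfl
    have hA12 : Nat.card π.range = 12 := by rw [hr, Nat.card_eq_fintype_card]; decide
    have i3 : ((Subgroup.closure ({u, v} : Set Γ) ⊔ π.ker).map q).index ∣ 3 := by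
      refine (hidx _).trans ?_
      have h4 : 4 ∣ Nat.card ((Subgroup.closure (π '' ({u, v} : Set Γ))).subgroupOf π.range) := by
        have hle : Subgroup.closure (π '' ({u, v} : Set Γ)) ≤ π.range := by
          rw [Subgroup.closure_le]; rintro - ⟨a, -, rfl⟩; exact ⟨a, rfl⟩
        rw [Nat.card_congr (Subgroup.subgroupOfEquivOfLe hle).toEquiv]
        set H := Subgroup.closure (π '' ({u, v} : Set Γ))
        have hmu : π u ∈ H := Subgroup.subset_closure ⟨u, by simp, rfl⟩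
        have hmv : π v ∈ H := Subgroup.subset_closure ⟨v, by simp, rfl⟩
        let V : Subgroup (Perm (Fin 4)) :=
          { carrier := {σ | σ = 1 ∨ σ = π u ∨ σ = π v ∨ σ = π u * π v}
            one_mem' := Or.inl rfl
            mul_mem' := by
              rw [hu, hv]; rintro a b (rfl | rfl | rfl | rfl) (rfl | rfl | rfl | rfl) <;>
                simp only [Set.mem_setOf_eq] <;> decide
            inv_mem' := by rw [hu, hv]; rintro a (rfl | rfl | rfl | rfl) <;> simp only [Set.mem_setOf_eq] <;> decide }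
        have hVH : V ≤ H := by
          rintro σ (rfl | rfl | rfl | rfl)
          exacts [one_mem _, hmu, hmv, mul_mem hmu hmv]
        have h2 : Nat.card V = 4 := by
          rw [show Nat.card V = Nat.card ↥({σ | σ = 1 ∨ σ = π u ∨ σ = π v ∨ σ = π u * π v} : Set (Perm (Fin 4))) from rfl,
            hu, hv, Nat.card_eq_fintype_card]
          decide
        exact (dvd_of_eq h2.symm).trans (Subgroup.card_dvd_of_le hVH)
      have h := ((Subgroup.closure (π '' ({u, v} : Set Γ))).subgroupOf π.range).card_mul_index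
      rw [hA12] at h
      obtain ⟨c, hc⟩ := h4
      rw [hc, mul_assoc] at h
      exact ⟨c, by rw [mul_comm]; omega⟩
    have i4 : ((Subgroup.closure ({t} : Set Γ) ⊔ π.ker).map q).index ∣ 4 := by
      refine (hidx _).trans ?_
      have hle : Subgroup.closure (π '' ({t} : Set Γ)) ≤ π.range := by
        rw [Subgroup.closure_le]; rintro - ⟨a, -, rfl⟩; exact ⟨a, rfl⟩
      have h := ((Subgroup.closure (π '' ({t} : Set Γ))).subgroupOf π.range).card_mul_index
      rw [hA12, Nat.card_congr (Subgroup.subgroupOfEquivOfLe hle).toEquiv, Set.image_singleton, ← Subgroup.zpowers_eq_closure,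
        Nat.card_zpowers, ht, orderOf_eq_prime (p := 3) (by decide) (by decide)] at h
      rw [Set.image_singleton, ← Subgroup.zpowers_eq_closure, ht]
      exact ⟨1, by omega⟩
    obtain ⟨x, hx⟩ := i3
    obtain ⟨y, hy⟩ := i4
    have e3 : q z ^ 3 = 1 := by rw [hx, pow_mul, hz3, one_pow]
    have e4 : q z ^ 4 = 1 := by rw [hy, pow_mul, hz4, one_pow]
    rwa [pow_succ, e3, one_mul] at e4
  refine (Nat.card_le_card_of_injective _ (Subgroup.inclusion_injective hle)).trans ?_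
  rw [Nat.card_zpowers]
  exact Nat.le_of_dvd two_pos (orderOf_dvd_of_pow_eq_one (by rw [sq, hw2]))

end Cfsg.Agent.Char
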