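import Cfsg.Agent.Lib.Char.DihedralSection

/-!
# Pairs of involutions with prescribed 2-part of the product: dihedral Sylow 2-subgroups
-/

set_option autoImplicit false
set_option linter.unusedSectionVars false
set_option linter.style.haveILetI false

namespace Cfsg.Agent.Char

open Cfsg DihedralGroup
open Cfsg.Agent.Fusion (SylIn sylIn_top)

universe u

variable {G : Type u} [Group G] [Fintype G]

/-- The involution in the 2-part of `g` is `z`. -/
def HasTwoInv (g z : G) : Prop := ∃ x, IsPPart 2 g x ∧ x ≠ 1 ∧ x ^ (orderOf x / 2) = z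

omit [Fintype G] in
theorem HasTwoInv.conj {g z : G} (h : HasTwoInv g z) (t : G) :
    HasTwoInv (t * g * t⁻¹) (t * z * t⁻¹) := by
  obtain ⟨x, ⟨y, hxy, hc, ⟨k, hk⟩, hy⟩, hx1, hz⟩ := h
  have ho : ∀ a : G, orderOf (t * a * t⁻¹) = orderOf a := fun a => by
    rw [show t * a * t⁻¹ = MulAut.conj t a from rfl, MulEquiv.orderOf_eq]
  refine ⟨t * x * t⁻¹, ⟨t * y * t⁻¹, ?_, ?_, ⟨k, by rw [ho, hk]⟩, by rwa [ho]⟩,
    fun e => hx1 (conj_eq_one_iff.1 e), ?_⟩
  · rw [← hxy]; group
  · simpa [MulAut.conj_apply] using hc.map (MulAut.conj t)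
  · rw [ho, conj_pow, hz]

theorem HasTwoInv.unique {g z z' : G} (h : HasTwoInv g z) (h' : HasTwoInv g z') : z = z' := by
  obtain ⟨x, hx, -, rfl⟩ := h
  obtain ⟨x', hx', -, rfl⟩ := h'
  rw [isPPart_unique Nat.prime_two hx hx']

omit [Fintype G] in
theorem HasTwoInv.orderOf_eq {g z : G} (h : HasTwoInv g z) : orderOf z = 2 := by
  obtain ⟨x, ⟨y, -, -, ⟨k, hk⟩, -⟩, hx1, rfl⟩ := h
  rcases k with _ | k
  · exact absurd (orderOf_eq_one_iff.1 (by rw [hk, pow_zero])) hx1
  · rw [hk, pow_succ, Nat.mul_div_cancel _ two_pos, orderOf_pow' x (by positivity), hk,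
      Nat.gcd_eq_right (dvd_pow_self 2 (Nat.succ_ne_zero k) |> fun _ => Dvd.intro 2 (pow_succ 2 k).symm),
      pow_succ, Nat.mul_div_cancel_left _ (by positivity)]

omit [Fintype G] in
theorem HasTwoInv.inv {g z : G} (h : HasTwoInv g z) : HasTwoInv g⁻¹ z := by
  have hz : z⁻¹ = z := inv_eq_of_mul_eq_one_left (by rw [← pow_two, ← h.orderOf_eq, pow_orderOf_eq_one])
  obtain ⟨x, ⟨y, hxy, hc, hk, hy⟩, hx1, hxz⟩ := h
  refine ⟨x⁻¹, ⟨y⁻¹, by rw [← hxy, mul_inv_rev, hc.inv_inv.eq], hc.inv_inv, by rwa [orderOf_inv],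
    by rwa [orderOf_inv]⟩, fun e => hx1 (inv_eq_one.1 e), ?_⟩
  rw [orderOf_inv, inv_pow, hxz, hz]

theorem exists_hasTwoInv {g : G} (hg : 2 ∣ orderOf g) : ∃ z, HasTwoInv g z := by
  obtain ⟨x, hx⟩ := exists_isPPart Nat.prime_two g
  refine ⟨_, x, hx, fun e => ?_, rfl⟩
  obtain ⟨y, hxy, -, -, hy⟩ := hx
  exact hy (by rw [← one_mul y, ← e, hxy]; exact hg)

/-- An involution in a factor of the product fixes the involution of the product. -/
theorem HasTwoInv.commute_factor {u v z : G} (hu : u * u = 1) (hv : v * v = 1)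
    (h : HasTwoInv (u * v) z) : u * z = z * u ∧ v * z = z * v := by
  have hui : u⁻¹ = u := inv_eq_of_mul_eq_one_left hu
  have hvi : v⁻¹ = v := inv_eq_of_mul_eq_one_left hv
  have e1 : u * (u * v) * u⁻¹ = (u * v)⁻¹ := by
    rw [← mul_assoc, hu, one_mul, mul_inv_rev, hvi]
  have e2 : v * (u * v) * v⁻¹ = (u * v)⁻¹ := by
    rw [mul_inv_rev, hui, hvi, mul_assoc, mul_assoc, hv, mul_one]
  constructor
  · exact mul_inv_eq_iff_eq_mul.1 ((e1 ▸ h.conj u).unique h.inv)
  · exact mul_inv_eq_iff_eq_mul.1 ((e2 ▸ h.conj v).unique h.inv)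

variable {P : Sylow 2 G} {N : ℕ} [NeZero N] {ι : DihedralGroup N →* G}

/-- The parity sign. -/
noncomputable def dihSign (h2 : 2 ∣ N) (i : ZMod N) : ℂ :=
  if ZMod.castHom h2 (ZMod 2) i = 0 then 1 else -1

theorem dihSign_add (h2 : 2 ∣ N) (i j : ZMod N) :
    dihSign h2 (i + j) = dihSign h2 i * dihSign h2 j := by
  have key : ∀ a b : ZMod 2, (a + b = 0 ↔ (a = 0 ↔ b = 0)) := by decide
  simp only [dihSign, map_add, key]
  split_ifs <;> simp_all

theorem dihSign_one (h2 : 2 ∣ N) : dihSign h2 1 = -1 := by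
  rw [dihSign, map_one, if_neg (by decide)]

theorem dihSign_sq (h2 : 2 ∣ N) (i : ZMod N) : dihSign h2 i * dihSign h2 i = 1 := by
  unfold dihSign; split_ifs <;> simp

theorem dihSign_neg (h2 : 2 ∣ N) (i : ZMod N) : dihSign h2 (-i) = dihSign h2 i := by
  have key : ∀ a : ZMod 2, -a = a := by decide
  simp only [dihSign, map_neg, key]

theorem dihSign_sum (h2 : 2 ∣ N) : ∑ i : ZMod N, dihSign h2 i = 0 := by
  have h : ∑ i : ZMod N, dihSign h2 i = ∑ i : ZMod N, dihSign h2 (i + 1) :=
    (Fintype.sum_equiv (Equiv.addRight 1) _ _ fun i => rfl).symm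
  simp only [dihSign_add, dihSign_one, ← Finset.sum_mul] at h
  linear_combination h / 2

theorem dihSign_natCast (h2 : 2 ∣ N) (l : ℕ) : dihSign h2 (l : ZMod N) = (-1) ^ l := by
  induction l with
  | zero => simp [dihSign]
  | succ l ih => rw [Nat.cast_succ, dihSign_add, ih, dihSign_one, pow_succ]

/-- The weight of a rotation. -/
noncomputable def dihW (h2 : 2 ∣ N) (i : ZMod N) : ℂ :=
  (if i = ((N / 2 : ℕ) : ZMod N) then (N : ℂ) else 0) + 1 - dihSign h2 i

/-- The weight of an element of the dihedral group. -/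
noncomputable def dihWD (h2 : 2 ∣ N) : DihedralGroup N → ℂ
  | .r i => dihW h2 i
  | .sr _ => 0

theorem DihSyl.dihW_zero (h : DihSyl P ι) : dihW h.two_dvd (0 : ZMod N) = 0 := by
  rw [dihW, if_neg (Ne.symm h.half_ne), dihSign, map_zero, if_pos rfl]; ring

theorem DihSyl.dihW_neg (h : DihSyl P ι) (i : ZMod N) :
    dihW h.two_dvd (-i) = dihW h.two_dvd i := by
  have hh := neg_eq_of_add_eq_zero_left h.half_add
  simp only [dihW, dihSign_neg, neg_eq_iff_eq_neg, hh]

theorem DihSyl.dihSign_half (h : DihSyl P ι) :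
    dihSign h.two_dvd ((N / 2 : ℕ) : ZMod N) = 1 := by
  obtain ⟨q, hq⟩ := h.four
  rw [dihSign_natCast, show N / 2 = 2 * q by omega, pow_mul]
  norm_num

open scoped Classical in
theorem card_filter_conj_eq {J z s : G} (hs : s * J * s⁻¹ = z) :
    (Finset.univ.filter fun t : G => t * J * t⁻¹ = z).card =
      Nat.card (Subgroup.centralizer ({J} : Set G)) := by
  classical
  rw [Nat.card_eq_fintype_card, Fintype.card_subtype]
  refine Finset.card_bij' (fun t _ => s⁻¹ * t) (fun c _ => s * c) ?_ ?_ (by simp) (by simp)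
  · intro t ht
    simp only [Finset.mem_filter, Finset.mem_univ, true_and] at ht ⊢
    rw [Subgroup.mem_centralizer_singleton_iff]
    rw [← hs] at ht
    calc s⁻¹ * t * J = s⁻¹ * (t * J * t⁻¹) * t := by group
      _ = s⁻¹ * (s * J * s⁻¹) * t := by rw [ht]
      _ = J * (s⁻¹ * t) := by group
  · intro c hc
    simp only [Finset.mem_filter, Finset.mem_univ, true_and] at hc ⊢
    rw [Subgroup.mem_centralizer_singleton_iff] at hc
    calc s * c * J * (s * c)⁻¹ = s * (c * J) * c⁻¹ * s⁻¹ := by group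
      _ = s * (J * c) * c⁻¹ * s⁻¹ := by rw [hc]
      _ = s * J * s⁻¹ := by group
      _ = z := hs

/-- The odd core of the centralizer of the central involution, inside the group. -/
theorem DihSyl.exists_core (h : DihSyl P ι) :
    ∃ L : Subgroup G, L ≤ Subgroup.centralizer ({dihJ ι} : Set G) ∧ ¬ 2 ∣ Nat.card L ∧
      (∀ c ∈ Subgroup.centralizer ({dihJ ι} : Set G), ∀ w ∈ L, c * w * c⁻¹ ∈ L) ∧
      (∀ y ∈ Subgroup.centralizer ({dihJ ι} : Set G), ¬ 2 ∣ orderOf y → y ∈ L) ∧
      Nat.card (Subgroup.centralizer ({dihJ ι} : Set G)) = 2 * N * Nat.card L := by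
  classical
  haveI : Fact (Nat.Prime 2) := ⟨Nat.prime_two⟩
  set C := Subgroup.centralizer ({dihJ ι} : Set G) with hC
  haveI : Fintype C := Fintype.ofFinite _
  obtain ⟨hnp, hfac⟩ := h.cent_J
  obtain ⟨K, hKn, hKc, hKreg⟩ := hnpc_iff_regular.1 hnp
  haveI := hKn
  refine ⟨K.map C.subtype, Subgroup.map_subtype_le _,
    by rwa [Subgroup.card_map_of_injective C.subtype_injective], ?_, ?_, ?_⟩
  · rintro c hc _ ⟨w, hw, rfl⟩
    exact ⟨(⟨c, hc⟩ : C) * w * (⟨c, hc⟩ : C)⁻¹, hKn.conj_mem _ hw _, rfl⟩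
  · intro y hy hy2
    exact ⟨⟨y, hy⟩, hKreg _ (by rwa [Subgroup.orderOf_mk]), rfl⟩
  · rw [Subgroup.card_map_of_injective C.subtype_injective, ← K.index_mul_card]
    congr 1
    obtain ⟨S, Q, hQ, hc⟩ := hnp
    haveI := hQ
    rw [eq_complement hKc hKreg hc, hc.symm.index_eq_card, S.card_eq_multiplicity, hfac]

theorem DihSyl.mem_cent (h : DihSyl P ι) (d : DihedralGroup N) :
    ι d ∈ Subgroup.centralizer ({dihJ ι} : Set G) :=
  Subgroup.mem_centralizer_singleton_iff.2 (by
    rw [← map_mul, ← map_mul, Fusion.DihedralFours.center_r_half h.two_dvd])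

theorem DihSyl.core_unique (h : DihSyl P ι) {L : Subgroup G} (hodd : ¬ 2 ∣ Nat.card L)
    {d e : DihedralGroup N} {w v : G} (hw : w ∈ L) (hv : v ∈ L) (he : ι d * w = ι e * v) :
    d = e ∧ w = v := by
  have h1 : ι (e⁻¹ * d) = v * w⁻¹ := by
    rw [map_mul, map_inv]
    calc (ι e)⁻¹ * ι d = (ι e)⁻¹ * (ι d * w) * w⁻¹ := by group
      _ = (ι e)⁻¹ * (ι e * v) * w⁻¹ := by rw [he]
      _ = v * w⁻¹ := by group
  have h2 : ι (e⁻¹ * d) = 1 := by
    obtain ⟨k, hk⟩ := h.ppower (e⁻¹ * d)
    rcases k with _ | k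
    · exact orderOf_eq_one_iff.1 (by rw [hk, pow_zero])
    · exfalso
      refine hodd ((dvd_pow_self 2 (Nat.succ_ne_zero k)).trans ?_)
      rw [← hk, h1, ← Subgroup.orderOf_mk (v * w⁻¹) (L.mul_mem hv (L.inv_mem hw))]
      exact orderOf_dvd_natCard _
  have h3 : d = e := (inv_mul_eq_one.1 (h.map_eq_one h2)).symm
  subst h3
  exact ⟨rfl, mul_left_cancel he⟩

theorem core_mul {L : Subgroup G} (hnorm : ∀ c ∈ Subgroup.centralizer ({dihJ ι} : Set G), ∀ w ∈ L,
      c * w * c⁻¹ ∈ L) (h : DihSyl P ι) {d e : DihedralGroup N} {w v : G} (hw : w ∈ L) (hv : v ∈ L) :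
    ∃ u ∈ L, ι d * w * (ι e * v) = ι (d * e) * u :=
  ⟨(ι e)⁻¹ * w * ι e * v, L.mul_mem (by simpa using hnorm _ (inv_mem (h.mem_cent e)) w hw) hv,
    by rw [map_mul]; group⟩

theorem DihSyl.core_surj (h : DihSyl P ι) {L : Subgroup G}
    (hle : L ≤ Subgroup.centralizer ({dihJ ι} : Set G)) (hodd : ¬ 2 ∣ Nat.card L)
    (hcard : Nat.card (Subgroup.centralizer ({dihJ ι} : Set G)) = 2 * N * Nat.card L) :
    Function.Bijective (fun p : DihedralGroup N × L =>
      (⟨ι p.1 * p.2, mul_mem (h.mem_cent p.1) (hle p.2.2)⟩ :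
        Subgroup.centralizer ({dihJ ι} : Set G))) := by
  refine (Nat.bijective_iff_injective_and_card _).2 ⟨fun p q he => ?_, ?_⟩
  · obtain ⟨e1, e2⟩ := h.core_unique hodd p.2.2 q.2.2 (congrArg Subtype.val he)
    exact Prod.ext e1 (Subtype.ext e2)
  · rw [Nat.card_prod, DihedralGroup.nat_card, hcard]

theorem DihSyl.rot_sq_power (h : DihSyl P ι) {j : ZMod N} (hj : j ≠ 0) :
    ι (r j) ^ (orderOf (ι (r j)) / 2) = dihJ ι := by
  have hti : HasTwoInv (ι (r j)) (ι (r j) ^ (orderOf (ι (r j)) / 2)) :=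
    ⟨_, ⟨1, mul_one _, Commute.one_right _, h.ppower _, by simp⟩, fun e => hj (h.rot_eq_one e), rfl⟩
  have ho := hti.orderOf_eq
  rw [← map_pow, r_pow] at ho ⊢
  rw [orderOf_injective ι h.inj] at ho
  rcases Solv.DihedralClasses.involution_cases' ho with e | ⟨k, e⟩
  · rw [e]
  · cases e

open scoped Classical in
/-- The sum over pairs of conjugates of the central involution. -/
theorem DihSyl.pair_sum (h : DihSyl P ι)
    (hconj : ∀ u : G, orderOf u = 2 → IsConj (dihJ ι) u)
    (Θ : G → ℂ) (hcl : IsClassFunction G Θ) (hΘ0 : ∀ g, ¬ 2 ∣ orderOf g → Θ g = 0)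
    (hΘ : ∀ i : ZMod N, i ≠ 0 → ∀ y, Commute (ι (r i)) y → ¬ 2 ∣ orderOf y →
      Θ (ι (r i) * y) = dihW h.two_dvd i) :
    ∑ a : G, ∑ b : G, Θ (a * dihJ ι * a⁻¹ * (b * dihJ ι * b⁻¹)) =
      2 * (Nat.card G : ℂ) * (Nat.card (Subgroup.centralizer ({dihJ ι} : Set G)) : ℂ) ^ 3 *
        (1 / (Nat.card (Subgroup.centralizer ({dihJ ι, ι (sr 0)} : Set G)) : ℂ) +
          1 / (Nat.card (Subgroup.centralizer ({dihJ ι, ι (sr (-1))} : Set G)) : ℂ)) ^ 2 := by
  classical
  haveI : Fact (Nat.Prime 2) := ⟨Nat.prime_two⟩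
  have h2 := h.two_dvd
  set J := dihJ ι with hJdef
  set C := Subgroup.centralizer ({J} : Set G) with hCdef
  have hJ2 : orderOf J = 2 := by
    refine orderOf_eq_prime ?_ fun e => h.half_ne (h.rot_eq_one e)
    rw [pow_two, hJdef, dihJ, ← map_mul, r_mul_r, h.half_add, ← DihedralGroup.one_def, map_one]
  set W : G → ℂ := fun g => if HasTwoInv g J then Θ g else 0 with hW
  -- only pairs centralizing the involution count
  have stepB : ∀ g : G, ∑ t : G, W (t⁻¹ * g * t) = (Nat.card C : ℂ) * Θ g := by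
    intro g
    have hiff : ∀ t : G, W (t⁻¹ * g * t) = if HasTwoInv g (t * J * t⁻¹) then Θ g else 0 := by
      intro t
      have e : Θ (t⁻¹ * g * t) = Θ g := by simpa using hcl g t⁻¹
      have e2 : HasTwoInv (t⁻¹ * g * t) J ↔ HasTwoInv g (t * J * t⁻¹) :=
        ⟨fun h' => by simpa [mul_assoc] using h'.conj t,
         fun h' => by simpa [mul_assoc] using h'.conj t⁻¹⟩
      simp only [hW, e, e2]
    rw [Finset.sum_congr rfl fun t _ => hiff t]
    by_cases hg : 2 ∣ orderOf g
    · obtain ⟨z, hz⟩ := exists_hasTwoInv hg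
      obtain ⟨s, hs⟩ := isConj_iff.1 (hconj z hz.orderOf_eq)
      rw [← Finset.sum_filter, Finset.sum_const, nsmul_eq_mul]
      congr 1
      rw [show Nat.card C = _ from (card_filter_conj_eq hs).symm]
      congr 1
      refine congrArg Finset.card (Finset.filter_congr fun t _ => ⟨fun h' => h'.unique hz, fun e => by rw [e]; exact hz⟩)
    · simp [hΘ0 g hg]
  have stepC : (Nat.card C : ℂ) * ∑ a : G, ∑ b : G, Θ (a * J * a⁻¹ * (b * J * b⁻¹)) =
      (Nat.card G : ℂ) * ∑ a : G, ∑ b : G, W (a * J * a⁻¹ * (b * J * b⁻¹)) := by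
    rw [Finset.mul_sum, Finset.sum_congr rfl fun a _ => Finset.mul_sum _ _ _]
    simp only [← stepB]
    rw [Finset.sum_congr rfl fun a _ => Finset.sum_comm, Finset.sum_comm,
      Finset.sum_congr rfl fun t _ => show ∑ a : G, ∑ b : G, W (t⁻¹ * (a * J * a⁻¹ * (b * J * b⁻¹)) * t) =
        ∑ a : G, ∑ b : G, W (a * J * a⁻¹ * (b * J * b⁻¹)) from
        Fintype.sum_equiv (Equiv.mulLeft t⁻¹) _ _ fun a =>
          Fintype.sum_equiv (Equiv.mulLeft t⁻¹) _ _ fun b => by
            simp only [Equiv.coe_mulLeft]; congr 1; group,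
      Finset.sum_const, Finset.card_univ, nsmul_eq_mul, Nat.card_eq_fintype_card]
  -- conjugates of the involution are all involutions
  have stepD : ∀ F : G → ℂ, ∑ a : G, F (a * J * a⁻¹) =
      (Nat.card C : ℂ) * ∑ u : G with orderOf u = 2, F u := by
    intro F
    rw [← Finset.sum_fiberwise_of_maps_to (g := fun a => a * J * a⁻¹)
      (t := Finset.univ.filter fun u : G => orderOf u = 2) (fun a _ => by
        simp only [Finset.mem_filter, Finset.mem_univ, true_and]
        rw [show a * J * a⁻¹ = MulAut.conj a J from rfl, MulEquiv.orderOf_eq, hJ2]), Finset.mul_sum]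
    refine Finset.sum_congr rfl fun u hu => ?_
    obtain ⟨s, hs⟩ := isConj_iff.1 (hconj u (Finset.mem_filter.1 hu).2)
    rw [Finset.sum_congr rfl fun a ha => congrArg F (Finset.mem_filter.1 ha).2, Finset.sum_const,
      nsmul_eq_mul, card_filter_conj_eq hs]
  obtain ⟨L, hLC, hLodd, hLnorm, hLreg, hLcard⟩ := h.exists_core
  set k := Nat.card L with hk
  set Φ := Equiv.ofBijective _ (h.core_surj hLC hLodd hLcard) with hΦ
  have hΦv : ∀ p : DihedralGroup N × L, ((Φ p : C) : G) = ι p.1 * p.2 := fun p => rfl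
  have hsurj : ∀ c ∈ C, ∃ d, ∃ w ∈ L, c = ι d * w := fun c hc => by
    obtain ⟨p, hp⟩ := Φ.surjective ⟨c, hc⟩
    exact ⟨p.1, p.2, p.2.2, by rw [← hΦv p, hp]⟩
  -- the weight on the centralizer
  have stepF : ∀ d, ∀ w ∈ L, W (ι d * w) = dihWD h2 d := by
    intro d w hw
    by_cases hg : 2 ∣ orderOf (ι d * w)
    swap
    · have hm := hLreg _ (mul_mem (h.mem_cent d) (hLC hw)) hg
      have hd : d = 1 :=
        (h.core_unique (w := w) (v := ι d * w) hLodd hw hm (e := 1)
          (by rw [map_one, one_mul])).1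
      subst hd
      simp only [hW, hΘ0 _ hg, ite_self]
      exact h.dihW_zero.symm
    obtain ⟨x, hx⟩ := exists_isPPart Nat.prime_two (ι d * w)
    have hxC : x ∈ C := by
      refine Subgroup.mem_centralizer_singleton_iff.2 ?_
      have hgJ : J * (ι d * w) * J⁻¹ = ι d * w := by
        rw [mul_inv_eq_iff_eq_mul]
        exact (Subgroup.mem_centralizer_singleton_iff.1 (mul_mem (h.mem_cent d) (hLC hw))).symm
      have h' : IsPPart 2 (ι d * w) (J * x * J⁻¹) := by
        obtain ⟨y, hxy, hc, ⟨m, hm⟩, hy⟩ := hx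
        refine ⟨J * y * J⁻¹, by rw [← hgJ, ← hxy]; group,
          by simpa [MulAut.conj_apply] using hc.map (MulAut.conj J), ⟨m, ?_⟩, ?_⟩
        · rw [show J * x * J⁻¹ = MulAut.conj J x from rfl, MulEquiv.orderOf_eq, hm]
        · rwa [show J * y * J⁻¹ = MulAut.conj J y from rfl, MulEquiv.orderOf_eq]
      exact (mul_inv_eq_iff_eq_mul.1 (isPPart_unique Nat.prime_two h' hx)).symm
    obtain ⟨y, hxy, hc, ⟨m, hm⟩, hy⟩ := hx
    have hyL : y ∈ L := hLreg y (by
      rw [show y = x⁻¹ * (ι d * w) by rw [← hxy]; group]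
      exact mul_mem (inv_mem hxC) (mul_mem (h.mem_cent d) (hLC hw))) hy
    have hPC : (P : Subgroup G) ≤ C := h.range ▸ (by rintro _ ⟨e, rfl⟩; exact h.mem_cent e)
    obtain ⟨c, hcC, hc'⟩ := ((sylIn_top P).mono hPC le_top).conj_le
      (IsPGroup.of_card (p := 2) (n := m) (by rw [Nat.card_zpowers, hm]) :
        IsPGroup 2 (Subgroup.zpowers x)) (Subgroup.zpowers_le.2 hxC)
    obtain ⟨d', hd'⟩ := h.range ▸ hc' (Fusion.conj_mem_cj (Subgroup.mem_zpowers x))
    obtain ⟨e, l, hl, rfl⟩ := hsurj c hcC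
    have hed : e * d = d' * e := by
      obtain ⟨u1, hu1, he1⟩ := core_mul hLnorm h (d := e) (e := d) hl (L.mul_mem hw (L.inv_mem hyL))
      refine (h.core_unique hLodd hu1 hl ?_).1
      rw [← he1, map_mul, mul_assoc (ι d'), hd']
      rw [show ι d * (w * y⁻¹) = x by rw [← mul_assoc, ← hxy]; group]
      group
    set c := ι e * l with hcdef
    have hcJ : ∀ n : ℕ, x ^ n = J ↔ (ι d') ^ n = J := by
      intro n
      rw [hd', conj_pow, mul_inv_eq_iff_eq_mul, ← Subgroup.mem_centralizer_singleton_iff.1 hcC]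
      exact ⟨fun e => by rw [e], fun e => mul_left_cancel e⟩
    have hx' : IsPPart 2 (ι d * w) x := ⟨y, hxy, hc, ⟨m, hm⟩, hy⟩
    have hx1 : x ≠ 1 := fun e => hy (by rw [← one_mul y, ← e, hxy]; exact hg)
    have hord : orderOf x = orderOf (ι d') := by
      rw [hd', show c * x * c⁻¹ = MulAut.conj c x from rfl, MulEquiv.orderOf_eq]
    have hWiff : HasTwoInv (ι d * w) J ↔ (ι d') ^ (orderOf (ι d') / 2) = J := by
      rw [← hcJ, ← hord]
      exact ⟨fun ⟨x', hp, _, hz⟩ => by rwa [isPPart_unique Nat.prime_two hx' hp],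
        fun hz => ⟨x, hx', hx1, hz⟩⟩
    have hΘc : Θ (ι d * w) = Θ (ι d' * (c * y * c⁻¹)) := by
      rw [hd', ← hcl (ι d * w) c, ← hxy]
      congr 1; group
    cases d' with
    | sr j =>
      have hord2 : orderOf (ι (sr j)) = 2 := by rw [orderOf_injective ι h.inj, orderOf_sr]
      simp only [hW]
      rw [if_neg fun hh => by
        have := hWiff.1 hh
        rw [hord2, Nat.div_self two_pos, pow_one] at this
        cases h.inj this]
      cases d with
      | r i => cases e <;> simp at hed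
      | sr i => rfl
    | r j =>
      have hj : j ≠ 0 := fun e0 => hx1 (orderOf_eq_one_iff.1 (by
        rw [hord, e0, ← DihedralGroup.one_def, map_one, orderOf_one]))
      simp only [hW]
      rw [if_pos (hWiff.2 (h.rot_sq_power hj)), hΘc, hΘ j hj]
      · cases d with
        | r i =>
          cases e with
          | r b =>
            rw [r_mul_r, r_mul_r, r.injEq] at hed
            have : j = i := by linear_combination -hed
            rw [this]; rfl
          | sr b =>
            rw [sr_mul_r, r_mul_sr, sr.injEq] at hed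
            have : j = -i := by linear_combination hed
            rw [this, h.dihW_neg]; rfl
        | sr i => cases e <;> simp at hed
      · rw [hd']; simpa [MulAut.conj_apply] using hc.map (MulAut.conj c)
      · rwa [show c * y * c⁻¹ = MulAut.conj c y from rfl, MulEquiv.orderOf_eq]
  -- the numbers of involutions in the cosets
  set n : DihedralGroup N → ℕ := fun d =>
    (Finset.univ.filter fun w : L => orderOf (ι d * (w : G)) = 2).card with hn
  have stepG : ∀ F : G → ℂ, ∑ u : G with (orderOf u = 2 ∧ u ∈ C), F u =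
      ∑ d : DihedralGroup N, ∑ w : L, if orderOf (ι d * (w : G)) = 2 then F (ι d * w) else 0 := by
    intro F
    rw [← Fintype.sum_prod_type (f := fun p : DihedralGroup N × L =>
      if orderOf (ι p.1 * (p.2 : G)) = 2 then F (ι p.1 * p.2) else 0), ← Finset.sum_filter]
    refine (Finset.sum_bij (fun p _ => ι p.1 * (p.2 : G)) ?_ ?_ ?_ (fun p _ => rfl)).symm
    · intro p hp
      simp only [Finset.mem_filter, Finset.mem_univ, true_and] at hp ⊢
      exact ⟨hp, mul_mem (h.mem_cent _) (hLC p.2.2)⟩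
    · intro p _ q _ he
      obtain ⟨e1, e2⟩ := h.core_unique hLodd p.2.2 q.2.2 he
      exact Prod.ext e1 (Subtype.ext e2)
    · intro u hu
      simp only [Finset.mem_filter, Finset.mem_univ, true_and] at hu
      obtain ⟨d, w, hw, rfl⟩ := hsurj u hu.2
      exact ⟨(d, ⟨w, hw⟩), Finset.mem_filter.2 ⟨Finset.mem_univ _, hu.1⟩, rfl⟩
  have stepT : ∑ a : G, ∑ b : G, W (a * J * a⁻¹ * (b * J * b⁻¹)) =
      (Nat.card C : ℂ) ^ 2 * ∑ d : DihedralGroup N, ∑ e : DihedralGroup N,
        (n d : ℂ) * (n e : ℂ) * dihWD h2 (d * e) := by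
    rw [stepD fun u => ∑ b : G, W (u * (b * J * b⁻¹)), Finset.sum_congr rfl fun u _ =>
      stepD fun v => W (u * v), ← Finset.mul_sum, ← mul_assoc, ← pow_two]
    congr 1
    have hcent : ∀ u v : G, orderOf u = 2 → orderOf v = 2 → W (u * v) ≠ 0 → u ∈ C ∧ v ∈ C := by
      intro u v hu hv hne
      simp only [hW] at hne
      have hti : HasTwoInv (u * v) J := by
        by_contra h'; exact hne (if_neg h')
      have := hti.commute_factor (by rw [← pow_two, ← hu, pow_orderOf_eq_one])
        (by rw [← pow_two, ← hv, pow_orderOf_eq_one])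
      exact ⟨Subgroup.mem_centralizer_singleton_iff.2 this.1,
        Subgroup.mem_centralizer_singleton_iff.2 this.2⟩
    rw [← Finset.sum_subset (s₁ := Finset.univ.filter fun u : G => orderOf u = 2 ∧ u ∈ C)
      (fun u hu => Finset.mem_filter.2 ⟨Finset.mem_univ _, (Finset.mem_filter.1 hu).2.1⟩)
      (fun u hu hnu => Finset.sum_eq_zero fun v hv => by
        by_contra hne
        exact hnu (Finset.mem_filter.2 ⟨Finset.mem_univ _, (Finset.mem_filter.1 hu).2,
          (hcent u v (Finset.mem_filter.1 hu).2 (Finset.mem_filter.1 hv).2 hne).1⟩))]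
    rw [Finset.sum_congr rfl fun u hu => (Finset.sum_subset
      (s₁ := Finset.univ.filter fun v : G => orderOf v = 2 ∧ v ∈ C)
      (fun v hv => Finset.mem_filter.2 ⟨Finset.mem_univ _, (Finset.mem_filter.1 hv).2.1⟩)
      (fun v hv hnv => by
        by_contra hne
        exact hnv (Finset.mem_filter.2 ⟨Finset.mem_univ _, (Finset.mem_filter.1 hv).2,
          (hcent u v (Finset.mem_filter.1 hu).2.1 (Finset.mem_filter.1 hv).2 hne).2⟩))).symm,
      stepG]
    refine Finset.sum_congr rfl fun d _ => ?_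
    simp only [stepG, hn]
    rw [← Finset.sum_filter, Finset.sum_congr rfl fun (w : L) _ => Finset.sum_congr rfl fun e _ =>
      show (∑ v : L, if orderOf (ι e * (v : G)) = 2 then W (ι d * w * (ι e * v)) else 0) =
        ((Finset.univ.filter fun v : L => orderOf (ι e * (v : G)) = 2).card : ℂ) * dihWD h2 (d * e) by
      rw [← Finset.sum_filter, Finset.sum_congr rfl fun (v : L) _ => by
        obtain ⟨u, hu, he⟩ := core_mul hLnorm h (d := d) (e := e) w.2 v.2
        rw [he, stepF _ u hu], Finset.sum_const, nsmul_eq_mul],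
      Finset.sum_const, nsmul_eq_mul, Finset.mul_sum]
    exact Finset.sum_congr rfl fun e _ => (mul_assoc _ _ _).symm
  -- rotations contribute nothing
  have hnrot : ∀ i : ZMod N, i ≠ ((N / 2 : ℕ) : ZMod N) → n (r i) = 0 := by
    intro i hi
    refine Finset.card_eq_zero.2 (Finset.filter_eq_empty_iff.2 fun w _ ho => ?_)
    have hsq : ι (r i) * (w : G) * (ι (r i) * w) = 1 := by
      rw [← pow_two, ← ho, pow_orderOf_eq_one]
    obtain ⟨u, hu, he⟩ := core_mul hLnorm h (d := r i) (e := r i) w.2 w.2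
    rw [he] at hsq
    have h0 := (h.core_unique hLodd hu L.one_mem (e := 1) (by rw [hsq, map_one, one_mul])).1
    rw [r_mul_r, DihedralGroup.one_def, r.injEq] at h0
    rcases Fusion.zmod_double_eq_zero h0 with e | e
    · subst e
      rw [← DihedralGroup.one_def, map_one, one_mul] at ho
      refine hLodd ?_
      rw [← ho, Subgroup.orderOf_coe]
      exact orderOf_dvd_natCard _
    · exact hi e
  -- the reflections
  have hfour : ∀ a : ZMod N, n (sr a) * Nat.card (Subgroup.centralizer ({J, ι (sr a)} : Set G)) = 4 * k := by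
    intro a
    set s := ι (sr a) with hs
    have hs2 : s * s = 1 := by rw [hs, ← map_mul, sr_mul_self, map_one]
    set E := {w : L // s * (w : G) = (w : G) * s} with hE
    have hsC := h.mem_cent (sr a)
    have hmemiff : ∀ g : G, g ∈ Subgroup.centralizer ({J, s} : Set G) ↔ g ∈ C ∧ s * g = g * s := by
      intro g
      rw [Subgroup.mem_centralizer_iff, hCdef, Subgroup.mem_centralizer_singleton_iff]
      simp only [Set.mem_insert_iff, Set.mem_singleton_iff, forall_eq_or_imp, forall_eq]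
      exact and_congr eq_comm Iff.rfl
    have hcent : Nat.card (Subgroup.centralizer ({J, s} : Set G)) = 4 * Nat.card E := by
      rw [← (Fusion.DihedralFours.four_klein h2 a).card_four, ← Nat.card_prod]
      refine (Nat.card_congr (Equiv.ofBijective (fun p : Fusion.DihedralFours.four N a × E =>
        (⟨ι (p.1 : DihedralGroup N) * ((p.2.1 : L) : G), (hmemiff _).2
          ⟨mul_mem (h.mem_cent _) (hLC p.2.1.2), by
            have e1 : s * ι (p.1 : DihedralGroup N) = ι (p.1 : DihedralGroup N) * s := by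
              rw [hs, ← map_mul, ← map_mul, Subgroup.mem_centralizer_singleton_iff.1 p.1.2]
            rw [← mul_assoc, e1, mul_assoc, p.2.2, ← mul_assoc]⟩⟩ :
          Subgroup.centralizer ({J, s} : Set G))) ⟨fun p q he => ?_, fun g => ?_⟩)).symm
      · obtain ⟨e1, e2⟩ := h.core_unique hLodd p.2.1.2 q.2.1.2 (congrArg Subtype.val he)
        exact Prod.ext (Subtype.ext e1) (Subtype.ext (Subtype.ext e2))
      · obtain ⟨hgC, hgs⟩ := (hmemiff _).1 g.2
        obtain ⟨d, w, hw, hd⟩ := hsurj _ hgC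
        obtain ⟨u, hu, he⟩ := core_mul hLnorm h (d := d) (e := sr a) hw L.one_mem
        have e1 : ι (sr a * d) * w = ι (d * sr a) * u := by
          rw [← he, mul_one, map_mul, mul_assoc, ← hd, ← hs, hgs]
        have hcomm := (h.core_unique hLodd hw hu e1).1
        have hws : s * w = w * s := by
          have : ι d * (s * w) = ι d * (w * s) := by
            calc ι d * (s * w) = ι (d * sr a) * w := by rw [map_mul, hs, mul_assoc]
              _ = s * (ι d * w) := by rw [← hcomm, map_mul, hs, mul_assoc]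
              _ = ι d * w * s := by rw [← hd, hgs]
              _ = _ := mul_assoc _ _ _
          exact mul_left_cancel this
        exact ⟨(⟨d, Subgroup.mem_centralizer_singleton_iff.2 hcomm.symm⟩, ⟨⟨w, hw⟩, hws⟩),
          Subtype.ext hd.symm⟩
    have hkodd : Odd k := Nat.not_even_iff_odd.1 fun he => hLodd (even_iff_two_dvd.1 he)
    obtain ⟨m, hm⟩ := hkodd
    set q : L → L := fun w => w ^ (m + 1) with hq
    have hqsq : ∀ w : L, q w * q w = w := fun w => by
      rw [hq, ← pow_add, show m + 1 + (m + 1) = k + 1 by omega, pow_succ, hk, pow_card_eq_one', one_mul]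
    have hinv : ∀ w : L, orderOf (s * (w : G)) = 2 ↔ s * (w : G) * s⁻¹ = (w : G)⁻¹ := by
      intro w
      rw [inv_eq_of_mul_eq_one_left hs2, eq_inv_iff_mul_eq_one]
      constructor
      · intro ho
        rw [mul_assoc _ s (w : G), ← pow_two, ← ho, pow_orderOf_eq_one]
      · intro he
        refine orderOf_eq_prime (by rw [pow_two, ← mul_assoc]; exact he) fun e => ?_
        have := (h.core_unique hLodd w.2 L.one_mem (d := sr a) (e := 1)
          (by rw [map_one, one_mul]; exact e)).1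
        cases this
    have hcard : Nat.card {w : L // orderOf (s * (w : G)) = 2} * Nat.card E = k := by
      rw [← Nat.card_prod, hk]
      refine Nat.card_congr (Equiv.ofBijective (fun p => p.2.1 * q p.1.1) ⟨?_, ?_⟩)
      · rintro ⟨⟨w, hw⟩, ⟨e, he⟩⟩ ⟨⟨w', hw'⟩, ⟨e', he'⟩⟩ heq
        have hcj : ∀ (v : L) (f : L), orderOf (s * (v : G)) = 2 → s * (f : G) = (f : G) * s →
            s * ((f * q v : L) : G) * s⁻¹ = ((f * (q v)⁻¹ : L) : G) := by
          intro v f hv hf
          have h1 : s * (q v : G) * s⁻¹ = ((q v : G))⁻¹ := by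
            rw [hq, SubmonoidClass.coe_pow, ← conj_pow, (hinv v).1 hv, inv_pow]
          rw [Subgroup.coe_mul, Subgroup.coe_mul, InvMemClass.coe_inv, ← h1]
          calc s * ((f : G) * (q v : G)) * s⁻¹ = s * (f : G) * s⁻¹ * (s * (q v : G) * s⁻¹) := by group
            _ = _ := by rw [mul_inv_eq_iff_eq_mul.2 hf]
        have heq1 : e * q w = e' * q w' := heq
        have heq2 : e * (q w)⁻¹ = e' * (q w')⁻¹ := Subtype.ext (by
          rw [← hcj w e hw he, ← hcj w' e' hw' he', heq1])
        have hww : w = w' := by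
          rw [← hqsq w, ← hqsq w']
          have h1 : (e * (q w)⁻¹)⁻¹ * (e * q w) = (e' * (q w')⁻¹)⁻¹ * (e' * q w') := by rw [heq1, heq2]
          calc q w * q w = (e * (q w)⁻¹)⁻¹ * (e * q w) := by group
            _ = (e' * (q w')⁻¹)⁻¹ * (e' * q w') := h1
            _ = q w' * q w' := by group
        subst hww
        simp [mul_right_cancel heq1]
      · intro l
        have hl' : s * (l : G) * s⁻¹ ∈ L := hLnorm s hsC _ l.2
        set w : L := (⟨_, hl'⟩ : L)⁻¹ * l with hw
        have hwinv : s * (w : G) * s⁻¹ = (w : G)⁻¹ := by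
          simp only [hw, Subgroup.coe_mul, InvMemClass.coe_inv, inv_eq_of_mul_eq_one_left hs2, mul_inv_rev]
          calc s * (s * ((l : G)⁻¹ * s) * (l : G)) * s
              = (s * s) * ((l : G)⁻¹ * s * (l : G) * s) := by group
            _ = (l : G)⁻¹ * s * (l : G) * s := by rw [hs2, one_mul]
            _ = _ := by rw [inv_inv]; group
        refine ⟨(⟨w, (hinv w).2 hwinv⟩, ⟨l * (q w)⁻¹, ?_⟩), inv_mul_cancel_right l (q w)⟩
        have h1 : s * (q w : G) * s⁻¹ = ((q w : G))⁻¹ := by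
          rw [hq, SubmonoidClass.coe_pow, ← conj_pow, hwinv, inv_pow]
        rw [← mul_inv_eq_iff_eq_mul, Subgroup.coe_mul, InvMemClass.coe_inv]
        calc s * ((l : G) * (q w : G)⁻¹) * s⁻¹
            = s * (l : G) * s⁻¹ * (s * (q w : G) * s⁻¹)⁻¹ := by group
          _ = (l : G) * (w : G)⁻¹ * (q w : G) := by rw [h1]; simp [hw, mul_assoc]
          _ = (l : G) * ((q w : G) * (q w : G))⁻¹ * (q w : G) := by
              rw [← Subgroup.coe_mul, hqsq]
          _ = _ := by group
    have hnE : Nat.card {w : L // orderOf (s * (w : G)) = 2} = n (sr a) := by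
      rw [Nat.card_eq_fintype_card, Fintype.card_subtype]
    rw [hcent, ← hnE, ← mul_assoc, mul_comm _ 4, mul_assoc, hcard]
  have hcinv : ∀ a j : ZMod N, Nat.card (Subgroup.centralizer ({J, ι (sr (a + (j + j)))} : Set G)) =
      Nat.card (Subgroup.centralizer ({J, ι (sr a)} : Set G)) := by
    intro a j
    have hJc : MulAut.conj (ι (r (-j))) J = J := by
      rw [MulAut.conj_apply, Subgroup.mem_centralizer_singleton_iff.1 (h.mem_cent _), mul_inv_cancel_right]
    have hsc : MulAut.conj (ι (r (-j))) (ι (sr a)) = ι (sr (a + (j + j))) := by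
      rw [MulAut.conj_apply, ← map_inv, ← map_mul, ← map_mul, Solv.DihedralClasses.conj_sr]
    refine (Nat.card_congr ((MulAut.conj (ι (r (-j)))).toEquiv.subtypeEquiv fun g => ?_)).symm
    simp only [Subgroup.mem_centralizer_iff, Set.mem_insert_iff, Set.mem_singleton_iff,
      forall_eq_or_imp, forall_eq]
    refine and_congr ?_ ?_
    · conv_rhs => rw [← hJc, MulEquiv.toEquiv_eq_coe, EquivLike.coe_coe, ← map_mul, ← map_mul]
      exact (MulEquiv.injective _).eq_iff.symm
    · conv_rhs => rw [← hsc, MulEquiv.toEquiv_eq_coe, EquivLike.coe_coe, ← map_mul, ← map_mul]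
      exact (MulEquiv.injective _).eq_iff.symm
  set c0 := Nat.card (Subgroup.centralizer ({J, ι (sr (0 : ZMod N))} : Set G)) with hc0
  set c1 := Nat.card (Subgroup.centralizer ({J, ι (sr (-1 : ZMod N))} : Set G)) with hc1
  have hc0' : (c0 : ℂ) ≠ 0 := Nat.cast_ne_zero.2 Nat.card_pos.ne'
  have hc1' : (c1 : ℂ) ≠ 0 := Nat.cast_ne_zero.2 Nat.card_pos.ne'
  set α : ℂ := 2 * k * (1 / c0 + 1 / c1) with hα
  set β : ℂ := 2 * k * (1 / c0 - 1 / c1) with hβ
  have hnval : ∀ a : ZMod N, (n (sr a) : ℂ) = α + β * dihSign h2 a := by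
    intro a
    have hmain := hfour a
    rcases Solv.DihedralClasses.eq_two_mul_or a with ⟨j, rfl⟩ | ⟨j, rfl⟩
    · rw [show j + j = 0 + (j + j) by ring, hcinv, ← hc0] at hmain
      rw [dihSign_add, dihSign_sq, mul_one]
      have : (n (sr (j + j)) : ℂ) * c0 = 4 * k := by
        rw [zero_add] at hmain
        rw [← Nat.cast_mul, hmain]; push_cast; ring
      rw [hα, hβ]; field_simp; linear_combination (c1 : ℂ) * this
    · rw [show 1 + (j + j) = -1 + ((j + 1) + (j + 1)) by ring, hcinv, ← hc1,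
        ← show 1 + (j + j) = -1 + ((j + 1) + (j + 1)) by ring] at hmain
      rw [dihSign_add, dihSign_add, dihSign_sq, dihSign_one, mul_one]
      have : (n (sr (1 + (j + j))) : ℂ) * c1 = 4 * k := by rw [← Nat.cast_mul, hmain]; push_cast; ring
      rw [hα, hβ]; field_simp; linear_combination (c0 : ℂ) * this
  have stepS : ∑ d : DihedralGroup N, ∑ e : DihedralGroup N, (n d : ℂ) * (n e : ℂ) * dihWD h2 (d * e) =
      2 * (N : ℂ) ^ 2 * α ^ 2 := by
    have hsplit : ∀ F : DihedralGroup N → ℂ, ∑ d, F d = (∑ i, F (r i)) + ∑ i, F (sr i) := by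
      intro F
      rw [← Fintype.sum_equiv DihedralGroup.equivSum.symm (fun x => F (DihedralGroup.equivSum.symm x)) F
        (fun x => rfl), Fintype.sum_sum_type]
      rfl
    have hrr : ∀ i j : ZMod N, (n (r i) : ℂ) * (n (r j) : ℂ) * dihWD h2 (r i * r j) = 0 := by
      intro i j
      by_cases hi : i = ((N / 2 : ℕ) : ZMod N)
      · by_cases hj : j = ((N / 2 : ℕ) : ZMod N)
        · rw [r_mul_r, hi, hj, h.half_add, show dihWD h2 (r 0) = dihW h2 0 from rfl, h.dihW_zero, mul_zero]
        · rw [hnrot j hj, Nat.cast_zero, mul_zero, zero_mul]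
      · rw [hnrot i hi, Nat.cast_zero, zero_mul, zero_mul]
    simp only [hsplit, hrr, r_mul_sr, sr_mul_r, sr_mul_sr,
      show ∀ i, dihWD h2 (sr i) = 0 from fun i => rfl, mul_zero, Finset.sum_const_zero, zero_add,
      add_zero, show ∀ i, dihWD h2 (r i) = dihW h2 i from fun i => rfl, hnval]
    have hdiff : ∀ a b : ZMod N, dihW h2 (b - a) =
        (if b = a + ((N / 2 : ℕ) : ZMod N) then (N : ℂ) else 0) + 1 - dihSign h2 a * dihSign h2 b := by
      intro a b
      rw [dihW, show dihSign h2 (b - a) = dihSign h2 a * dihSign h2 b by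
        rw [sub_eq_add_neg, dihSign_add, dihSign_neg, mul_comm]]
      simp only [sub_eq_iff_eq_add']
    rw [Finset.sum_congr rfl fun a _ => Finset.sum_congr rfl fun b _ =>
      show (α + β * dihSign h2 a) * (α + β * dihSign h2 b) * dihW h2 (b - a) =
        (if b = a + ((N / 2 : ℕ) : ZMod N)
          then (α + β * dihSign h2 a) * (α + β * dihSign h2 b) * (N : ℂ) else 0) +
        (α + β * dihSign h2 a) * (α + β * dihSign h2 b) -
        (α + β * dihSign h2 a) * (α + β * dihSign h2 b) * (dihSign h2 a * dihSign h2 b) by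
        rw [hdiff]; split_ifs <;> ring]
    simp only [Finset.sum_sub_distrib, Finset.sum_add_distrib]
    simp only [Finset.sum_ite_eq', Finset.mem_univ, if_true, dihSign_add, h.dihSign_half, mul_one]
    have s1 : ∀ A B : ℂ, ∑ a : ZMod N, (A + B * dihSign h2 a) = N * A := fun A B => by
      rw [Finset.sum_add_distrib, ← Finset.mul_sum, dihSign_sum, Finset.sum_const, Finset.card_univ,
        ZMod.card, nsmul_eq_mul]; ring
    have s2 : ∀ A B : ℂ, ∑ a : ZMod N, (A + B * dihSign h2 a) * dihSign h2 a = N * B := fun A B => by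
      simp only [add_mul, mul_assoc, dihSign_sq, Finset.sum_add_distrib, ← Finset.mul_sum, dihSign_sum,
        Finset.sum_const, Finset.card_univ, ZMod.card, nsmul_eq_mul]; ring
    have s3 : ∑ a : ZMod N, (α + β * dihSign h2 a) * (α + β * dihSign h2 a) = N * (α ^ 2 + β ^ 2) := by
      rw [Finset.sum_congr rfl fun a _ => show (α + β * dihSign h2 a) * (α + β * dihSign h2 a) =
        (α ^ 2 + β ^ 2) + 2 * α * β * dihSign h2 a by
          linear_combination β ^ 2 * dihSign_sq h2 a, s1]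
    have d1 : ∑ a : ZMod N, ∑ b : ZMod N, (α + β * dihSign h2 a) * (α + β * dihSign h2 b) = (N * α) ^ 2 := by
      rw [← Finset.sum_mul_sum, s1]; ring
    have d2 : ∑ a : ZMod N, ∑ b : ZMod N, (α + β * dihSign h2 a) * (α + β * dihSign h2 b) *
        (dihSign h2 a * dihSign h2 b) = (N * β) ^ 2 := by
      rw [Finset.sum_congr rfl fun a _ => Finset.sum_congr rfl fun b _ =>
        mul_mul_mul_comm (α + β * dihSign h2 a) (α + β * dihSign h2 b) (dihSign h2 a) (dihSign h2 b),
        ← Finset.sum_mul_sum, s2]; ring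
    have d3 : ∑ a : ZMod N, (α + β * dihSign h2 a) * (α + β * dihSign h2 a) * (N : ℂ) =
        N * (N * (α ^ 2 + β ^ 2)) := by
      rw [← Finset.sum_mul, s3]; ring
    rw [d1, d2, d3]
    ring
  have hCne : (Nat.card C : ℂ) ≠ 0 := Nat.cast_ne_zero.2 Nat.card_pos.ne'
  refine mul_left_cancel₀ hCne ?_
  rw [stepC, stepT, stepS, hα, show Nat.card C = 2 * N * k from hLcard]
  push_cast
  ring

end Cfsg.Agent.Char
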