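import Cfsg.Agent.Lib.Char.DihedralPrincipal
import Cfsg.Agent.Lib.Char.DihedralPairs
import Cfsg.Agent.Lib.Char.Convolution

/-!
# The order formula for one class of involutions: dihedral Sylow 2-subgroups
-/

set_option autoImplicit false
set_option linter.unusedSectionVars false
set_option linter.style.haveILetI false

namespace Cfsg.Agent.Char

open Cfsg DihedralGroup

universe u

theorem telescope_pair_sum {η : ℂ} (hη : η ≠ 0) (m : ℕ) :
    (η - 1) * ∑ j ∈ Finset.range m, (η ^ (j + 1) + (η ^ (j + 1))⁻¹) =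
      η ^ (m + 1) - η + 1 - (η ^ m)⁻¹ := by
  induction m with
  | zero => simp
  | succ m ih =>
    rw [Finset.sum_range_succ, mul_add, ih]
    have h : η * (η ^ (m + 1))⁻¹ = (η ^ m)⁻¹ := by
      rw [pow_succ, mul_inv, ← mul_assoc, mul_comm η, mul_assoc, mul_inv_cancel₀ hη, mul_one]
    rw [pow_succ η (m + 1)]
    linear_combination h

theorem alt_pair_sum {η s : ℂ} (m : ℕ) (hs : η ^ (m + 1) = s) (hs2 : s * s = 1) :
    ∑ j ∈ Finset.range m, (η ^ (j + 1) + (η ^ (j + 1))⁻¹) =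
      if η = 1 then 2 * (m : ℂ) else -(1 + s) := by
  split_ifs with h1
  · subst h1; simp; ring
  have hη : η ≠ 0 := fun e => by
    rw [e, zero_pow (by omega)] at hs
    rw [← hs, zero_mul] at hs2
    exact zero_ne_one hs2
  have hinv : (η ^ m)⁻¹ = η * s := by
    refine inv_eq_of_mul_eq_one_right ?_
    rw [← mul_assoc, ← pow_succ, hs, hs2]
  refine mul_left_cancel₀ (sub_ne_zero.2 h1) ?_
  rw [telescope_pair_sum hη, hinv, hs]
  ring

variable {G : Type u} [Group G] [Fintype G] {M : Ideal AlgInt}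
variable {P : Sylow 2 G} {N : ℕ} [NeZero N] {ι : DihedralGroup N →* G}

theorem sum_pair_irr (χ : IrrCharacter G) (J : G) :
    ∑ a : G, ∑ b : G, (χ : G → ℂ) (a * J * a⁻¹ * (b * J * b⁻¹)) =
      (Nat.card G : ℂ) ^ 2 * ((χ : G → ℂ) J) ^ 2 / (χ : G → ℂ) 1 := by
  have h1 : (χ : G → ℂ) 1 ≠ 0 := irr_one_ne_zero χ.2
  rw [eq_div_iff h1, Finset.sum_mul, Finset.sum_congr rfl fun a _ => show
      (∑ b : G, (χ : G → ℂ) (a * J * a⁻¹ * (b * J * b⁻¹))) * (χ : G → ℂ) 1 =
        (Nat.card G : ℂ) * (χ : G → ℂ) J * (χ : G → ℂ) J by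
    rw [mul_comm, sum_conj_mul χ.2, isClassFunction_character (irr_isCharacter χ.2) J a],
    Finset.sum_const, Finset.card_univ, nsmul_eq_mul, ← Nat.card_eq_fintype_card]
  ring

/-- The order formula. -/
theorem DihSyl.order_formula (h : DihSyl P ι) (hM : IsPModular 2 M)
    (hc0 : IsConj (dihJ ι) (ι (sr 0))) (hc1 : IsConj (dihJ ι) (ι (sr (-1))))
    (χ : IrrCharacter G) (hχ : χ ∈ principalBlock M G) (hne : χ ≠ irrOne) (δ : ℤ)
    (hδ : δ = 1 ∨ δ = -1)
    (hval : ∀ l : ℕ, 0 < l → l < N → (χ : G → ℂ) (ι (r (l : ZMod N))) = δ) :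
    (charDegree (χ : G → ℂ) : ℤ) ≠ δ ∧
    (Nat.card G : ℚ) * ((charDegree (χ : G → ℂ) : ℚ) - δ) ^ 2 =
      2 * (charDegree (χ : G → ℂ) : ℚ) * ((charDegree (χ : G → ℂ) : ℚ) + δ) *
        (Nat.card (Subgroup.centralizer ({dihJ ι} : Set G)) : ℚ) ^ 3 *
        (1 / (Nat.card (Subgroup.centralizer ({dihJ ι, ι (sr 0)} : Set G)) : ℚ) +
          1 / (Nat.card (Subgroup.centralizer ({dihJ ι, ι (sr (-1))} : Set G)) : ℚ)) ^ 2 := by
  classical
  have h2 := h.two_dvd
  obtain ⟨q, hq⟩ := h.four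
  have hN0 := NeZero.ne N
  set H := 2 * q with hHdef
  have hH : N = 2 * H := by omega
  have hζ := Complex.isPrimitiveRoot_exp N hN0
  set ζ := Complex.exp (2 * Real.pi * Complex.I / N) with hζdef
  obtain ⟨c, c2, c3, f, d, d2, d3, hd, hd2, hd3, -, -, -, -, -, -, -, -, hmem, hvals, hreg⟩ :=
    h.principal_block hM hζ H hH
  have hζH : ζ ^ H = -1 :=
    (hζ.pow (NeZero.pos N) (show N = H * 2 by omega)).eq_neg_one_of_two_right
  have hcast : ∀ a b : ℤ, (a : ℂ) = b → a = b := fun a b e => Int.cast_injective e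
  -- identify the character
  obtain ⟨rfl, rfl⟩ : χ = c ∧ δ = d := by
    rcases (hmem χ).1 hχ with e | e | e | e | ⟨j, e⟩
    · exact absurd e hne
    · refine ⟨e, hcast _ _ ?_⟩
      rw [← hval 1 one_pos (by omega), e, (hvals 1 one_pos (by omega)).1]
    · exfalso
      have e1 := hval 1 one_pos (by omega)
      have e2 := hval 2 two_pos (by omega)
      rw [e, (hvals 1 one_pos (by omega)).2.1] at e1
      rw [e, (hvals 2 two_pos (by omega)).2.1] at e2
      have : (2 : ℂ) * d2 = 0 := by linear_combination e1 - e2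
      rcases hd2 with rfl | rfl <;> simp at this
    · exfalso
      have e1 := hval 1 one_pos (by omega)
      have e2 := hval 2 two_pos (by omega)
      rw [e, (hvals 1 one_pos (by omega)).2.2.1] at e1
      rw [e, (hvals 2 two_pos (by omega)).2.2.1] at e2
      have : (2 : ℂ) * d3 = 0 := by linear_combination e1 - e2
      rcases hd3 with rfl | rfl <;> simp at this
    · exfalso
      have e1 := hval H (by omega) (by omega)
      rw [e, (hvals H (by omega) (by omega)).2.2.2 j, mul_comm ((j : ℕ) + 1) H, pow_mul, hζH] at e1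
      rcases hd with rfl | rfl <;> rcases hδ with rfl | rfl <;>
        rcases neg_one_pow_eq_or ℂ ((j : ℕ) + 1) with e' | e' <;> rw [e'] at e1 <;> norm_num at e1
  have hd2' : (δ : ℂ) * δ = 1 := by rcases hδ with rfl | rfl <;> simp
  set x : ℂ := (χ : G → ℂ) 1 with hx
  have hxd : x = ((charDegree (χ : G → ℂ) : ℚ) : ℂ) := by
    rw [hx, charDegree_spec]; push_cast; rfl
  have hf1 : ∀ j, (f j : G → ℂ) 1 = x + δ := fun j => by
    have := (hreg 1 (by simp) j).2
    rw [← hx] at this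
    linear_combination (-(δ : ℂ)) * this + ((x : ℂ) - (f j : G → ℂ) 1) * hd2'
  have halt : ∑ j : Fin (H - 1), (-1 : ℂ) ^ ((j : ℕ) + 1) = -1 := by
    rw [Fin.sum_univ_eq_sum_range (fun j => (-1 : ℂ) ^ (j + 1))]
    simp only [pow_succ, ← Finset.sum_mul, neg_one_geom_sum]
    rw [if_neg (Nat.not_even_iff_odd.2 ⟨q - 1, by omega⟩)]
    ring
  set Θ : G → ℂ := fun g => 1 + (δ : ℂ) * (χ : G → ℂ) g +
    (δ : ℂ) * ∑ j : Fin (H - 1), (-1) ^ ((j : ℕ) + 1) * (f j : G → ℂ) g with hΘdef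
  have hconj : ∀ u : G, orderOf u = 2 → IsConj (dihJ ι) u := by
    intro u hu
    obtain ⟨w, hw⟩ := h.exists_conj ⟨1, by rw [hu, pow_one]⟩
    have ho : orderOf w = 2 := by
      obtain ⟨g, hg⟩ := isConj_iff.1 hw
      rw [← orderOf_injective ι h.inj, ← hg, show g * u * g⁻¹ = MulAut.conj g u from rfl,
        MulEquiv.orderOf_eq, hu]
    have hsr : ∀ a j : ZMod N, IsConj (ι (sr a)) (ι (sr (a + (j + j)))) := fun a j =>
      isConj_iff.2 ⟨ι (r (-j)), by
        rw [← map_inv, ← map_mul, ← map_mul, Solv.DihedralClasses.conj_sr]⟩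
    refine IsConj.trans ?_ hw.symm
    rcases Solv.DihedralClasses.involution_cases' ho with rfl | ⟨a, rfl⟩
    · exact IsConj.refl _
    · rcases Solv.DihedralClasses.eq_two_mul_or a with ⟨j, rfl⟩ | ⟨j, rfl⟩
      · exact hc0.trans (by simpa using hsr 0 j)
      · rw [show 1 + (j + j) = -1 + ((j + 1) + (j + 1)) by ring]
        exact hc1.trans (hsr _ _)
  have hcl : IsClassFunction G Θ := fun g t => by
    simp only [hΘdef, isClassFunction_character (irr_isCharacter χ.2) g t,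
      fun j => isClassFunction_character (irr_isCharacter (f j).2) g t]
  have hΘ0 : ∀ g, ¬ 2 ∣ orderOf g → Θ g = 0 := by
    intro g hg
    simp only [hΘdef]
    rw [Finset.mul_sum, Finset.sum_congr rfl fun (j : Fin (H - 1)) _ =>
      show (δ : ℂ) * ((-1) ^ ((j : ℕ) + 1) * (f j : G → ℂ) g) =
        (-1) ^ ((j : ℕ) + 1) * (1 + δ * (χ : G → ℂ) g) by
      rw [(hreg g hg j).2]; ring, ← Finset.sum_mul, halt]
    ring
  have hΘ : ∀ i : ZMod N, i ≠ 0 → ∀ y, Commute (ι (r i)) y → ¬ 2 ∣ orderOf y →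
      Θ (ι (r i) * y) = dihW h2 i := by
    intro i hi y hcy hy
    have hnp : HasNormalPComplement 2 (Subgroup.centralizer ({ι (r i)} : Set G)) := by
      by_cases hii : i + i = 0
      · rcases Fusion.zmod_double_eq_zero hii with e | e
        · exact absurd e hi
        · subst e; exact h.cent_J.1
      · exact (h.cent_rot hii).1
    have hsec := (nilp_section hM (h.ppower (r i)) hnp).1
    simp only [hΘdef]
    rw [hsec χ hχ y hcy hy, Finset.sum_congr rfl fun j _ => by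
      rw [hsec (f j) ((hmem _).2 (Or.inr (Or.inr (Or.inr (Or.inr ⟨j, rfl⟩))))) y hcy hy]]
    obtain ⟨l, hlN, rfl⟩ : ∃ l < N, (l : ZMod N) = i :=
      ⟨i.val, ZMod.val_lt i, ZMod.natCast_rightInverse i⟩
    have hl0 : 0 < l := Nat.pos_of_ne_zero fun e => hi (by rw [e, Nat.cast_zero])
    obtain ⟨v1, -, -, v4⟩ := hvals l hl0 hlN
    rw [v1, Finset.sum_congr rfl fun j _ => by rw [v4 j]]
    have hterm : ∀ j : ℕ, (-1 : ℂ) ^ (j + 1) * ((δ : ℂ) * (ζ ^ ((j + 1) * l) + (ζ ^ ((j + 1) * l))⁻¹)) =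
        (δ : ℂ) * ((-ζ ^ l) ^ (j + 1) + ((-ζ ^ l) ^ (j + 1))⁻¹) := by
      intro j
      rw [mul_comm (j + 1) l, pow_mul, neg_pow (ζ ^ l), mul_inv, ← inv_pow (-1 : ℂ), inv_neg, inv_one]
      ring
    rw [Finset.sum_congr rfl fun (j : Fin (H - 1)) _ => hterm j, ← Finset.mul_sum, ← mul_assoc, hd2', one_mul,
      Fin.sum_univ_eq_sum_range (fun j => (-ζ ^ l) ^ (j + 1) + ((-ζ ^ l) ^ (j + 1))⁻¹),
      alt_pair_sum (s := (-1) ^ l) _ (by
        rw [show H - 1 + 1 = H by omega, neg_pow, ← pow_mul, mul_comm l, pow_mul ζ, hζH,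
          show (-1 : ℂ) ^ H = 1 from Even.neg_one_pow ⟨q, by omega⟩, one_mul])
        (by rw [← mul_pow]; simp), dihW, dihSign_natCast]
    have hiff : -ζ ^ l = 1 ↔ l = H := by
      constructor
      · intro e
        refine hζ.pow_inj hlN (by omega) ?_
        rw [hζH, ← e, neg_neg]
      · rintro rfl; rw [hζH, neg_neg]
    have hiff2 : ((l : ZMod N) = ((N / 2 : ℕ) : ZMod N)) ↔ l = H := by
      rw [show N / 2 = H by omega]
      constructor
      · intro e
        have := congrArg ZMod.val e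
        rwa [ZMod.val_natCast_of_lt hlN, ZMod.val_natCast_of_lt (by omega)] at this
      · rintro rfl; rfl
    simp only [hiff, hiff2, hd2']
    split_ifs with hlH
    · rw [hlH, show (-1 : ℂ) ^ H = 1 from Even.neg_one_pow ⟨q, by omega⟩, Nat.cast_sub (by omega),
        hH]
      push_cast; ring
    · ring
  have hsum := h.pair_sum hconj Θ hcl hΘ0 hΘ
  have hJval : ∀ j, ((f j : G → ℂ) (dihJ ι)) ^ 2 = 4 := fun j => by
    rw [dihJ, show N / 2 = H by omega, (hvals H (by omega) (by omega)).2.2.2 j,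
      mul_comm ((j : ℕ) + 1) H, pow_mul, hζH]
    rcases neg_one_pow_eq_or ℂ ((j : ℕ) + 1) with e' | e' <;> rw [e'] <;>
      rcases hδ with rfl | rfl <;> norm_num
  have hχJ : ((χ : G → ℂ) (dihJ ι)) ^ 2 = 1 := by
    rw [dihJ, show N / 2 = H by omega, (hvals H (by omega) (by omega)).1, pow_two, hd2']
  have hlhs : ∑ a : G, ∑ b : G, Θ (a * dihJ ι * a⁻¹ * (b * dihJ ι * b⁻¹)) =
      (Nat.card G : ℂ) ^ 2 * (1 + (δ : ℂ) / x - 4 * δ / (x + δ)) := by
    simp only [hΘdef, Finset.sum_add_distrib, ← Finset.mul_sum, Finset.sum_const, Finset.card_univ,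
      sum_pair_irr, hχJ, ← hx]
    rw [Finset.sum_congr rfl fun a _ => Finset.sum_comm, Finset.sum_comm,
      Finset.sum_congr rfl fun (j : Fin (H - 1)) _ => show (∑ a : G, ∑ b : G, (-1) ^ ((j : ℕ) + 1) *
        (f j : G → ℂ) (a * dihJ ι * a⁻¹ * (b * dihJ ι * b⁻¹))) =
          (-1) ^ ((j : ℕ) + 1) * ((Nat.card G : ℂ) ^ 2 * 4 / (x + δ)) by
        simp only [← Finset.mul_sum, sum_pair_irr, hJval, hf1], ← Finset.sum_mul, halt]
    simp only [nsmul_eq_mul, Nat.card_eq_fintype_card]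
    ring
  have hx0 : x ≠ 0 := irr_one_ne_zero χ.2
  have j0 : Fin (H - 1) := ⟨0, by omega⟩
  have hxd0 : x + δ ≠ 0 := hf1 j0 ▸ irr_one_ne_zero (f j0).2
  have hG0 : (Nat.card G : ℂ) ≠ 0 := Nat.cast_ne_zero.2 Nat.card_pos.ne'
  rw [hlhs] at hsum
  have hkey : (Nat.card G : ℂ) * (x - δ) ^ 2 = 2 * x * (x + δ) *
      (Nat.card (Subgroup.centralizer ({dihJ ι} : Set G)) : ℂ) ^ 3 *
        (1 / (Nat.card (Subgroup.centralizer ({dihJ ι, ι (sr 0)} : Set G)) : ℂ) +
          1 / (Nat.card (Subgroup.centralizer ({dihJ ι, ι (sr (-1))} : Set G)) : ℂ)) ^ 2 := by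
    refine mul_left_cancel₀ hG0 ?_
    calc (Nat.card G : ℂ) * ((Nat.card G : ℂ) * (x - δ) ^ 2)
        = ((Nat.card G : ℂ) ^ 2 * (1 + (δ : ℂ) / x - 4 * δ / (x + δ))) * (x * (x + δ)) := by
          rw [show (1 + (δ : ℂ) / x - 4 * δ / (x + δ)) = (x - δ) ^ 2 / (x * (x + δ)) by
            field_simp; linear_combination (0 : ℂ) * hd2']
          field_simp
      _ = _ := by rw [hsum]; ring
  rw [hxd] at hkey
  have hQ : (Nat.card G : ℚ) * ((charDegree (χ : G → ℂ) : ℚ) - δ) ^ 2 =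
      2 * (charDegree (χ : G → ℂ) : ℚ) * ((charDegree (χ : G → ℂ) : ℚ) + δ) *
        (Nat.card (Subgroup.centralizer ({dihJ ι} : Set G)) : ℚ) ^ 3 *
        (1 / (Nat.card (Subgroup.centralizer ({dihJ ι, ι (sr 0)} : Set G)) : ℚ) +
          1 / (Nat.card (Subgroup.centralizer ({dihJ ι, ι (sr (-1))} : Set G)) : ℚ)) ^ 2 :=
    (Rat.cast_injective (α := ℂ)) (by push_cast at hkey ⊢; exact hkey)
  refine ⟨fun e => ?_, hQ⟩
  have e' : (charDegree (χ : G → ℂ) : ℚ) = δ := by exact_mod_cast e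
  rw [e', sub_self, zero_pow two_ne_zero, mul_zero] at hQ
  have hp : 0 < (charDegree (χ : G → ℂ) : ℤ) := charDegree_pos' χ
  have hδ1 : (δ : ℚ) = 1 := by
    rcases hδ with rfl | rfl
    · norm_num
    · omega
  rw [hδ1] at hQ
  have h3 : (0 : ℚ) < Nat.card (Subgroup.centralizer ({dihJ ι} : Set G)) := Nat.cast_pos.2 Nat.card_pos
  have h4 : (0 : ℚ) < Nat.card (Subgroup.centralizer ({dihJ ι, ι (sr 0)} : Set G)) :=
    Nat.cast_pos.2 Nat.card_pos
  have h5 : (0 : ℚ) < Nat.card (Subgroup.centralizer ({dihJ ι, ι (sr (-1))} : Set G)) :=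
    Nat.cast_pos.2 Nat.card_pos
  exact (ne_of_gt (by positivity)) hQ.symm

end Cfsg.Agent.Char
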