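import Mathlib

/-!
# Integral vectors of norms two and three with pairwise products one
-/

set_option autoImplicit false

namespace Cfsg.Agent.Char

variable {X : Type*}

theorem small_norm {B : Finset X} {w : X → ℤ} {m : ℕ} (hm : m ≤ 3)
    (h : ∑ x ∈ B, w x * w x = m) :
    (∀ x ∈ B, w x = -1 ∨ w x = 0 ∨ w x = 1) ∧ (B.filter fun x => w x ≠ 0).card = m := by
  classical
  have hsum : ∑ x ∈ B.filter (fun x => w x ≠ 0), w x * w x = m := by
    rw [← h]
    refine Finset.sum_subset (Finset.filter_subset _ _) fun x hx hn => ?_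
    have : w x = 0 := by
      by_contra hne
      exact hn (Finset.mem_filter.2 ⟨hx, hne⟩)
    rw [this, mul_zero]
  have h1 : ∀ x ∈ B, w x = -1 ∨ w x = 0 ∨ w x = 1 := by
    intro x hx
    have hle : w x * w x ≤ m := by
      rw [← h]; exact Finset.single_le_sum (f := fun y => w y * w y) (fun y _ => mul_self_nonneg _) hx
    have : w x ≤ 1 ∧ -1 ≤ w x := by
      constructor
      · by_contra hc
        have : (2 : ℤ) * 2 ≤ w x * w x := mul_le_mul (by omega) (by omega) (by norm_num) (by omega)
        omega
      · by_contra hc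
        have h2 : (2 : ℤ) * 2 ≤ (-w x) * (-w x) := mul_le_mul (by omega) (by omega) (by norm_num) (by omega)
        rw [neg_mul_neg] at h2
        omega
    omega
  refine ⟨h1, ?_⟩
  have h2 : ∀ x ∈ B.filter (fun x => w x ≠ 0), w x * w x = 1 := by
    intro x hx
    rw [Finset.mem_filter] at hx
    rcases h1 x hx.1 with e | e | e
    · rw [e]; norm_num
    · exact absurd e hx.2
    · rw [e]; norm_num
  rw [Finset.sum_congr rfl h2, Finset.sum_const, nsmul_one] at hsum
  exact_mod_cast hsum

theorem norm_two_split [DecidableEq X] {B : Finset X} {w : X → ℤ} {d : X → ℤ}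
    (hd : ∀ x ∈ B, 1 ≤ d x) (h : ∑ x ∈ B, w x * w x = 2) (hdeg : ∑ x ∈ B, w x * d x = 1) :
    ∃ a b, a ∈ B ∧ b ∈ B ∧ a ≠ b ∧
      ∀ x ∈ B, w x = (if x = a then 1 else 0) + (if x = b then -1 else 0) := by
  obtain ⟨h1, h2⟩ := small_norm (m := 2) (by norm_num) (by exact_mod_cast h)
  obtain ⟨p, q, hpq, he⟩ := Finset.card_eq_two.1 h2
  have hp : p ∈ B ∧ w p ≠ 0 := Finset.mem_filter.1 (he ▸ Finset.mem_insert_self _ _)
  have hq : q ∈ B ∧ w q ≠ 0 :=
    Finset.mem_filter.1 (he ▸ Finset.mem_insert_of_mem (Finset.mem_singleton_self _))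
  have hz : ∀ x ∈ B, x ≠ p → x ≠ q → w x = 0 := by
    intro x hx hxp hxq
    by_contra hne
    have : x ∈ ({p, q} : Finset X) := he ▸ Finset.mem_filter.2 ⟨hx, hne⟩
    simp [hxp, hxq] at this
  have hs : w p * d p + w q * d q = 1 := by
    rw [← hdeg, ← Finset.sum_pair (f := fun x => w x * d x) hpq]
    refine Finset.sum_subset (Finset.insert_subset hp.1 (Finset.singleton_subset_iff.2 hq.1))
      fun x hx hn => ?_
    simp only [Finset.mem_insert, Finset.mem_singleton, not_or] at hn
    rw [hz x hx hn.1 hn.2, zero_mul]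
  have hd1 := hd p hp.1
  have hd2 := hd q hq.1
  rcases h1 p hp.1 with e | e | e
  · rcases h1 q hq.1 with e' | e' | e'
    · rw [e, e'] at hs; omega
    · exact absurd e' hq.2
    · refine ⟨q, p, hq.1, hp.1, Ne.symm hpq, fun x hx => ?_⟩
      by_cases x1 : x = p
      · subst x1; simp [hpq, e]
      by_cases x2 : x = q
      · subst x2; simp [x1, e']
      · simp [x1, x2, hz x hx x1 x2]
  · exact absurd e hp.2
  · rcases h1 q hq.1 with e' | e' | e'
    · refine ⟨p, q, hp.1, hq.1, hpq, fun x hx => ?_⟩
      by_cases x1 : x = p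
      · subst x1; simp [hpq, e]
      by_cases x2 : x = q
      · subst x2; simp [x1, e']
      · simp [x1, x2, hz x hx x1 x2]
    · exact absurd e' hq.2
    · rw [e, e'] at hs; omega

/-- The common constituent of the vectors. -/
theorem dih_select [DecidableEq X] {J : Type*} [Fintype J] {B : Finset X} (w : J → X → ℤ)
    (R d : X → ℤ) (hd : ∀ x ∈ B, 1 ≤ d x)
    (hn : ∀ j, ∑ x ∈ B, w j x * w j x = 2) (hR : ∑ x ∈ B, R x * R x = 3)
    (hij : ∀ i j, i ≠ j → ∑ x ∈ B, w i x * w j x = 1) (hwR : ∀ j, ∑ x ∈ B, w j x * R x = 1)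
    (hdeg : ∀ j, ∑ x ∈ B, w j x * d x = 1) (hdR : ∑ x ∈ B, R x * d x = 1)
    (hJ : Fintype.card J = 1 ∨ 3 ≤ Fintype.card J) :
    ∃ (e r s : ℤ) (c a b : X) (f : J → X), (e = 1 ∨ e = -1) ∧ (r = 1 ∨ r = -1) ∧ (s = 1 ∨ s = -1) ∧
      c ∈ B ∧ a ∈ B ∧ b ∈ B ∧ (∀ j, f j ∈ B) ∧ c ≠ a ∧ c ≠ b ∧ a ≠ b ∧ Function.Injective f ∧
      (∀ j, f j ≠ c ∧ f j ≠ a ∧ f j ≠ b) ∧
      (∀ j, ∀ x ∈ B, w j x = (if x = c then e else 0) + (if x = f j then -e else 0)) ∧
      (∀ x ∈ B, R x = (if x = c then e else 0) + (if x = a then r else 0) +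
        (if x = b then s else 0)) := by
  classical
  choose A C hA hC hAC hw using fun j => norm_two_split hd (hn j) (hdeg j)
  have hinner : ∀ (j : J) (F : X → ℤ), ∑ x ∈ B, w j x * F x = F (A j) - F (C j) := by
    intro j F
    rw [Finset.sum_congr rfl fun x hx => show w j x * F x =
      (if x = A j then F x else 0) - (if x = C j then F x else 0) by
        rw [hw j x hx]; split_ifs <;> ring]
    rw [Finset.sum_sub_distrib, Finset.sum_ite_eq', Finset.sum_ite_eq', if_pos (hA j), if_pos (hC j)]
  have hpair : ∀ i j, i ≠ j → (A j = A i ∧ C j ≠ C i) ∨ (A j ≠ A i ∧ C j = C i) := by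
    intro i j hne
    have h := hij j i hne.symm
    rw [hinner, hw i _ (hA j), hw i _ (hC j)] at h
    by_cases h1 : A j = A i <;> by_cases h2 : C j = C i <;>
      by_cases h3 : A j = C i <;> by_cases h4 : C j = A i <;>
      simp [h1, h2, h3, h4, hAC i, (hAC i).symm] at h ⊢
  obtain ⟨hR1, hR3⟩ := small_norm (m := 3) (by norm_num) (by exact_mod_cast hR)
  have hRw : ∀ j, (R (A j) = 1 ∧ R (C j) = 0) ∨ (R (A j) = 0 ∧ R (C j) = -1) := by
    intro j
    have h := hwR j
    rw [hinner] at h
    rcases hR1 _ (hA j) with e | e | e <;> rcases hR1 _ (hC j) with e' | e' | e' <;>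
      rw [e, e'] at h <;> omega
  have hne' : Nonempty J := Fintype.card_pos_iff.1 (by omega)
  obtain ⟨j0⟩ := hne'
  -- the sign and the common vertex
  obtain ⟨e, c, f, he, hc, hRc, hfB, hfR, hfi, hfc, hwf⟩ :
      ∃ (e : ℤ) (c : X) (f : J → X), (e = 1 ∨ e = -1) ∧ c ∈ B ∧ R c = e ∧ (∀ j, f j ∈ B) ∧
        (∀ j, R (f j) = 0) ∧ Function.Injective f ∧ (∀ j, f j ≠ c) ∧
        ∀ j, ∀ x ∈ B, w j x = (if x = c then e else 0) + (if x = f j then -e else 0) := by
    by_cases hall : ∀ j, A j = A j0
    · have hinj : Function.Injective C := fun i j hij' => by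
        by_contra hne
        rcases hpair i j hne with h | h
        · exact h.2 hij'.symm
        · exact h.1 ((hall j).trans (hall i).symm)
      rcases hRw j0 with hr | hr
      · refine ⟨1, A j0, C, Or.inl rfl, hA j0, hr.1, hC, fun j => ?_, hinj,
          fun j => by rw [← hall j]; exact (hAC j).symm, fun j x hx => by rw [hw j x hx, hall j]⟩
        rcases hRw j with h | h
        · exact h.2
        · rw [hall j, hr.1] at h; omega
      · rcases hJ with h1 | h3
        · haveI : Subsingleton J := Fintype.card_le_one_iff_subsingleton.1 h1.le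
          refine ⟨-1, C j0, A, Or.inr rfl, hC j0, hr.2, hA,
            fun j => by rw [Subsingleton.elim j j0]; exact hr.1,
            fun i j _ => Subsingleton.elim i j,
            fun j => by rw [Subsingleton.elim j j0]; exact hAC j0, fun j x hx => ?_⟩
          rw [Subsingleton.elim j j0, hw j0 x hx, neg_neg, add_comm]
        · exfalso
          have hRC : ∀ j, R (C j) = -1 := fun j => by
            rcases hRw j with h | h
            · rw [hall j, hr.1] at h; omega
            · exact h.2
          have heq : Finset.univ.image C = B.filter fun x => R x ≠ 0 := by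
            refine Finset.eq_of_subset_of_card_le ?_ ?_
            · intro x hx
              obtain ⟨j, -, rfl⟩ := Finset.mem_image.1 hx
              exact Finset.mem_filter.2 ⟨hC j, by rw [hRC]; norm_num⟩
            · rw [hR3, Finset.card_image_of_injective _ hinj, Finset.card_univ]; exact h3
          have hnp : ∀ x ∈ B, R x * d x ≤ 0 := by
            intro x hx
            by_cases h0 : R x = 0
            · rw [h0, zero_mul]
            · obtain ⟨j, -, rfl⟩ := Finset.mem_image.1 (heq ▸ Finset.mem_filter.2 ⟨hx, h0⟩)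
              rw [hRC]; have := hd _ hx; omega
          have := Finset.sum_nonpos hnp
          omega
    · push Not at hall
      obtain ⟨k, hk⟩ := hall
      have hCk : C k = C j0 := by
        rcases hpair j0 k (fun e => hk (by rw [e])) with h | h
        · exact absurd h.1 hk
        · exact h.2
      have hallC : ∀ j, C j = C j0 := by
        intro j
        by_contra hne
        have hj0 : j ≠ j0 := fun e => hne (by rw [e])
        have hjk : j ≠ k := fun e => hne (by rw [e, hCk])
        rcases hpair j0 j (Ne.symm hj0) with h | h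
        · rcases hpair k j (Ne.symm hjk) with h' | h'
          · exact hk (h'.1.symm.trans h.1)
          · exact hne (h'.2.trans hCk)
        · exact hne h.2
      have hinj : Function.Injective A := fun i j hij' => by
        by_contra hne
        rcases hpair i j hne with h | h
        · exact h.2 ((hallC j).trans (hallC i).symm)
        · exact h.1 hij'.symm
      have h3 : 3 ≤ Fintype.card J := by
        rcases hJ with h1 | h3
        · haveI : Subsingleton J := Fintype.card_le_one_iff_subsingleton.1 h1.le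
          exact absurd (by rw [Subsingleton.elim k j0]) hk
        · exact h3
      rcases hRw j0 with hr | hr
      · exfalso
        have hRA : ∀ j, R (A j) = 1 := fun j => by
          rcases hRw j with h | h
          · exact h.1
          · rw [hallC j, hr.2] at h; omega
        have heq : Finset.univ.image A = B.filter fun x => R x ≠ 0 := by
          refine Finset.eq_of_subset_of_card_le ?_ ?_
          · intro x hx
            obtain ⟨j, -, rfl⟩ := Finset.mem_image.1 hx
            exact Finset.mem_filter.2 ⟨hA j, by rw [hRA]; norm_num⟩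
          · rw [hR3, Finset.card_image_of_injective _ hinj, Finset.card_univ]; exact h3
        have hsum : (Fintype.card J : ℤ) ≤ ∑ x ∈ B, R x * d x := by
          rw [← Finset.sum_subset (Finset.filter_subset (fun x => R x ≠ 0) B) (fun x hx hn => by
            have : R x = 0 := by
              by_contra hne
              exact hn (Finset.mem_filter.2 ⟨hx, hne⟩)
            rw [this, zero_mul]), ← heq, Finset.sum_image fun a _ b _ hab => hinj hab]
          calc (Fintype.card J : ℤ) = ∑ _j : J, (1 : ℤ) := by simp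
            _ ≤ _ := Finset.sum_le_sum fun j _ => by rw [hRA, one_mul]; exact hd _ (hA j)
        omega
      · refine ⟨-1, C j0, A, Or.inr rfl, hC j0, hr.2, hA, fun j => ?_, hinj,
          fun j => by rw [← hallC j]; exact hAC j,
          fun j x hx => by rw [hw j x hx, hallC j, neg_neg, add_comm]⟩
        rcases hRw j with h | h
        · rw [hallC j, hr.2] at h; omega
        · exact h.1
  have hcm : c ∈ B.filter fun x => R x ≠ 0 :=
    Finset.mem_filter.2 ⟨hc, by rcases he with rfl | rfl <;> rw [hRc] <;> norm_num⟩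
  obtain ⟨a, b, hab, hs2⟩ := Finset.card_eq_two.1
    (show ((B.filter fun x => R x ≠ 0).erase c).card = 2 by
      rw [Finset.card_erase_of_mem hcm, hR3])
  have ha : a ∈ (B.filter fun x => R x ≠ 0).erase c := hs2 ▸ Finset.mem_insert_self _ _
  have hb : b ∈ (B.filter fun x => R x ≠ 0).erase c :=
    hs2 ▸ Finset.mem_insert_of_mem (Finset.mem_singleton_self _)
  rw [Finset.mem_erase, Finset.mem_filter] at ha hb
  refine ⟨e, R a, R b, c, a, b, f, he, ?_, ?_, hc, ha.2.1, hb.2.1, hfB, Ne.symm ha.1, Ne.symm hb.1,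
    hab, hfi, fun j => ⟨hfc j, fun h => ha.2.2 (h ▸ hfR j), fun h => hb.2.2 (h ▸ hfR j)⟩, hwf, ?_⟩
  · rcases hR1 a ha.2.1 with h | h | h
    · exact Or.inr h
    · exact absurd h ha.2.2
    · exact Or.inl h
  · rcases hR1 b hb.2.1 with h | h | h
    · exact Or.inr h
    · exact absurd h hb.2.2
    · exact Or.inl h
  intro x hx
  by_cases hxc : x = c
  · subst hxc; simp [Ne.symm ha.1, Ne.symm hb.1, hRc]
  by_cases hxa : x = a
  · subst hxa; simp [hxc, hab]
  by_cases hxb : x = b
  · subst hxb; simp [hxc, hxa]
  have : R x = 0 := by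
    by_contra hne
    have hm : x ∈ ({a, b} : Finset X) :=
      hs2 ▸ Finset.mem_erase.2 ⟨hxc, Finset.mem_filter.2 ⟨hx, hne⟩⟩
    simp [hxa, hxb] at hm
  simp [hxc, hxa, hxb, this]

end Cfsg.Agent.Char
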