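import Cfsg.Agent.Lib.Char.FongSwan

/-!
# Consequences of Fong–Swan: decomposition numbers, degree-weighted sums
-/

open scoped ComplexConjugate
open Cfsg Module

set_option autoImplicit false
set_option linter.style.haveILetI false
set_option linter.unusedSectionVars false

namespace Cfsg.Agent.Char.Fong

universe u

variable {G : Type u} [Group G] [Fintype G] {M : Ideal AlgInt} {p : ℕ}

/-- Decomposition numbers of a `p`-solvable group. -/
theorem decomposition (hp : p.Prime) (hG : IsPSolvable p G) :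
    ∃ (S : Finset (IrrCharacter G)) (d : IrrCharacter G → IrrCharacter G → ℕ),
      (∀ φ ∈ S, ∀ φ' ∈ S, d φ' φ = if φ' = φ then 1 else 0) ∧
      (∀ (χ : IrrCharacter G) (g : G), ¬ p ∣ orderOf g →
        (χ : G → ℂ) g = ∑ φ ∈ S, (d χ φ : ℂ) * (φ : G → ℂ) g) ∧
      ∀ φ ∈ S, ∀ x : G, p ∣ orderOf x → ∑ χ : IrrCharacter G, (d χ φ : ℂ) * (χ : G → ℂ) x = 0 := by
  classical
  obtain ⟨S, Φ, h1, h2, h3, h4, h5⟩ := fong_swan hp hG
  have hnat : ∀ (χ φ : IrrCharacter G), ∃ k : ℕ, φ ∈ S → classInner (χ : G → ℂ) (Φ φ) = k := by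
    intro χ φ
    by_cases hφ : φ ∈ S
    · obtain ⟨k, hk⟩ := classInner_natCast (irr_isCharacter χ.2) (h1 φ hφ)
      exact ⟨k, fun _ => hk⟩
    · exact ⟨0, fun h => absurd h hφ⟩
  choose d hd using hnat
  refine ⟨Finset.univ.filter (· ∈ S), d, ?_, ?_, ?_⟩
  · intro φ hφ φ' hφ'
    simp only [Finset.mem_filter, Finset.mem_univ, true_and] at hφ hφ'
    split_ifs with h
    · subst h
      exact_mod_cast (hd φ' φ' hφ').symm.trans (h3 φ' hφ')
    · exact_mod_cast (hd φ' φ hφ).symm.trans (h4 φ hφ φ' hφ' (Ne.symm h))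
  · intro χ g hg
    set f : G → ℂ := (χ : G → ℂ) - ∑ φ ∈ Finset.univ.filter (· ∈ S), (d χ φ : ℂ) • (φ : G → ℂ) with hf
    have hfc : IsClassFunction G f := fun a k => by
      simp only [hf, Pi.sub_apply, Finset.sum_apply, Pi.smul_apply,
        isClassFunction_character (irr_isCharacter (Subtype.prop _)) a k]
    have horth : ∀ φ ∈ S, classInner f (Φ φ) = 0 := by
      intro φ hφ
      rw [hf, classInner_sub_left, classInner_sum_left, Finset.sum_eq_single φ, classInner_smul_left,
        h3 φ hφ, mul_one, hd χ φ hφ, sub_self]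
      · intro φ' hφ' hne
        simp only [Finset.mem_filter, Finset.mem_univ, true_and] at hφ'
        rw [classInner_smul_left, h4 φ hφ φ' hφ' (Ne.symm hne), mul_zero]
      · intro h; exact absurd (Finset.mem_filter.2 ⟨Finset.mem_univ φ, hφ⟩) h
    have h := h5 f hfc horth g hg
    simp only [hf, Pi.sub_apply, Finset.sum_apply, Pi.smul_apply, smul_eq_mul] at h
    exact sub_eq_zero.1 h
  · intro φ hφ x hx
    simp only [Finset.mem_filter, Finset.mem_univ, true_and] at hφ
    rw [← h2 φ hφ x hx]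
    conv_rhs => rw [char_expansion (h1 φ hφ)]
    rw [Finset.sum_apply]
    refine Finset.sum_congr rfl fun χ _ => ?_
    rw [Pi.smul_apply, smul_eq_mul, ← classInner_symm (χ : G → ℂ) (Φ φ), hd χ φ hφ, map_natCast]

/-- Columns at regular and singular elements orthogonal: the coefficients are local integers. -/
theorem memLR_blockCoeff_of_column_orth (hM : IsPModular p M) {A : Set (IrrCharacter G)}
    [DecidablePred (· ∈ A)]
    (hA : ∀ h x : G, ¬ p ∣ orderOf h → p ∣ orderOf x →
      ∑ χ : IrrCharacter G with χ ∈ A, conj ((χ : G → ℂ) h) * (χ : G → ℂ) x = 0) (g : G) :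
    MemLocalRing M (blockCoeff A g) := by
  classical
  have hP := pmod_prime hM
  haveI := Fact.mk hM.1
  set F := Finset.univ.filter fun χ : IrrCharacter G => χ ∈ A with hF
  let Φ : G → G → ℂ := fun h x => ∑ χ ∈ F, conj ((χ : G → ℂ) h) * (χ : G → ℂ) x
  have hvan : ∀ h x : G, ¬ p ∣ orderOf h → p ∣ orderOf x → Φ h x = 0 := hA
  have hval : blockCoeff A g = (Nat.card G : ℂ)⁻¹ * Φ g 1 := by
    rw [blockCoeff, finsum_mem_irr]
    congr 1
    refine Finset.sum_congr ?_ fun χ _ => mul_comm _ _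
    ext χ; simp [hF]
  by_cases hg : p ∣ orderOf g
  · have h0 : Φ g 1 = 0 := by
      have h1 := congrArg conj (hvan 1 g (by simp [hM.1.ne_one]) hg)
      rw [map_zero, map_sum] at h1
      rw [← h1]
      exact Finset.sum_congr rfl fun χ _ => by rw [map_mul, Complex.conj_conj, mul_comm]
    rw [hval, h0, mul_zero]
    exact memLR_zero hP
  obtain ⟨P⟩ := (inferInstance : Nonempty (Sylow p G))
  haveI := Fintype.ofFinite (P : Subgroup G)
  choose n hn using fun χ : IrrCharacter G => classInner_natCast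
    (isCharacter_comp (P : Subgroup G).subtype (irr_isCharacter χ.2))
    (isCharacter_one (G := (P : Subgroup G)))
  have hsum : Φ g 1 = (Nat.card (P : Subgroup G) : ℂ) * ∑ χ ∈ F, conj ((χ : G → ℂ) g) * n χ := by
    have h1 : ∑ v : (P : Subgroup G), Φ g v = Φ g 1 := by
      rw [Finset.sum_eq_single (1 : (P : Subgroup G))]
      · rfl
      · intro v _ hv
        refine hvan g v hg ?_
        obtain ⟨k, hk⟩ := IsPGroup.iff_orderOf.mp P.2 v
        rcases k with _ | k
        · exact absurd (orderOf_eq_one_iff.mp (by simpa using hk)) hv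
        · rw [Subgroup.orderOf_coe, hk]
          exact dvd_pow_self p (by omega)
      · exact fun h => absurd (Finset.mem_univ _) h
    rw [← h1, Finset.mul_sum, Finset.sum_comm]
    refine Finset.sum_congr rfl fun χ _ => ?_
    rw [← hn χ, classInner, ← Finset.mul_sum]
    have : (Nat.card (P : Subgroup G) : ℂ) ≠ 0 := Nat.cast_ne_zero.mpr Nat.card_pos.ne'
    simp only [Function.comp_apply, Subgroup.coe_subtype, map_one, mul_one]
    field_simp
  have hcard : (Nat.card G : ℂ) = (Nat.card (P : Subgroup G) : ℂ) * (P : Subgroup G).index := by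
    rw [← Nat.cast_mul, Subgroup.card_mul_index]
  have hP0 : (Nat.card (P : Subgroup G) : ℂ) ≠ 0 := Nat.cast_ne_zero.mpr Nat.card_pos.ne'
  rw [hval, hsum, hcard, mul_inv, mul_mul_mul_comm, inv_mul_cancel₀ hP0, one_mul]
  exact memLR_mul hP (memLR_inv_natCast hM P.not_dvd_index) (memLR_sum hP _ _ fun χ _ =>
    memLR_mul hP (conj_char_memLR hP (irr_isCharacter χ.2) g) (memLR_natCast hP _))

/-- A set whose degree-weighted sum vanishes on singular elements is a union of blocks. -/
theorem weighted_union_of_blocks (hM : IsPModular p M) (hG : IsPSolvable p G) (U : Set (IrrCharacter G))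
    (hU : ∀ x : G, p ∣ orderOf x → ∑ᶠ χ ∈ U, (χ : G → ℂ) 1 * (χ : G → ℂ) x = 0)
    {χ ψ : IrrCharacter G} (hχ : χ ∈ U) (hs : SameBlock M (χ : G → ℂ) (ψ : G → ℂ)) : ψ ∈ U := by
  classical
  obtain ⟨S, d, hd1, hd2, hd3⟩ := decomposition hM.1 hG
  have hclosed : ∀ (η : IrrCharacter G), ∀ φ ∈ S, d η φ ≠ 0 → (η ∈ U ↔ φ ∈ U) := by
    intro η
    set θ : G → ℂ := ∑ χ : IrrCharacter G, (if χ ∈ U then (χ : G → ℂ) 1 else 0) • (χ : G → ℂ) with hθ
    have hθin : ∀ ξ : IrrCharacter G, classInner θ (ξ : G → ℂ) = if ξ ∈ U then (ξ : G → ℂ) 1 else 0 := by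
      intro ξ
      rw [hθ, classInner_sum_left]
      simp only [classInner_smul_left, irrC_orth, mul_ite, mul_one, mul_zero, Finset.sum_ite_eq', Finset.mem_univ, if_true]
    have hθ0 : ∀ x : G, p ∣ orderOf x → θ x = 0 := by
      intro x hx
      rw [← hU x hx, finsum_mem_irr, hθ, Finset.sum_apply, Finset.sum_filter]
      refine Finset.sum_congr rfl fun χ _ => ?_
      simp only [Pi.smul_apply, smul_eq_mul]
      split_ifs <;> simp
    have hlin : classInner θ (η : G → ℂ) = ∑ φ ∈ S, (d η φ : ℂ) * classInner θ (φ : G → ℂ) := by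
      simp only [classInner, Finset.mul_sum]
      rw [Finset.sum_comm]
      refine Finset.sum_congr rfl fun x _ => ?_
      by_cases hx : p ∣ orderOf x
      · simp [hθ0 x hx]
      · rw [hd2 η x hx, map_sum, Finset.mul_sum, Finset.mul_sum]
        refine Finset.sum_congr rfl fun φ _ => ?_
        rw [map_mul, map_natCast]
        ring
    simp only [hθin] at hlin
    have hdeg := hd2 η 1 (by simp [hM.1.ne_one])
    choose k hk using fun ξ : IrrCharacter G => charOne_eq_natCast (irr_isCharacter ξ.2)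
    simp only [hk] at hlin hdeg
    have h2 : k η = ∑ φ ∈ S, d η φ * k φ := by exact_mod_cast hdeg
    have h3 : (if η ∈ U then k η else 0) = ∑ φ ∈ S, if φ ∈ U then d η φ * k φ else 0 := by
      have : ((if η ∈ U then k η else 0 : ℕ) : ℂ) = ((∑ φ ∈ S, if φ ∈ U then d η φ * k φ else 0 : ℕ) : ℂ) := by
        push_cast
        rw [hlin]
        refine Finset.sum_congr rfl fun φ _ => ?_
        split_ifs <;> simp
      exact_mod_cast this
    intro φ hφ hne
    have hk0 : k φ ≠ 0 := fun h0 => irr_one_ne_zero φ.2 (by rw [hk, h0, Nat.cast_zero])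
    constructor
    · intro hη
      by_contra hφU
      rw [if_pos hη] at h3
      have hlt : (∑ φ ∈ S, if φ ∈ U then d η φ * k φ else 0) < ∑ φ ∈ S, d η φ * k φ :=
        Finset.sum_lt_sum (fun i _ => by split_ifs <;> simp)
          ⟨φ, hφ, by rw [if_neg hφU]; exact Nat.pos_of_ne_zero (mul_ne_zero hne hk0)⟩
      omega
    · intro hφU
      by_contra hη
      rw [if_neg hη] at h3
      have := (Finset.sum_eq_zero_iff).1 h3.symm φ hφ
      rw [if_pos hφU] at this
      exact mul_ne_zero hne hk0 this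
  refine union_of_blocks (pmod_prime hM) (memLR_blockCoeff_of_column_orth hM fun h x hh hx => ?_) hχ hs
  have hexp : ∀ η : IrrCharacter G, conj ((η : G → ℂ) h) = ∑ φ ∈ S, (d η φ : ℂ) * conj ((φ : G → ℂ) h) := by
    intro η
    rw [hd2 η h hh, map_sum]
    exact Finset.sum_congr rfl fun φ _ => by rw [map_mul, map_natCast]
  rw [Finset.sum_congr rfl fun (η : IrrCharacter G) _ => show conj ((η : G → ℂ) h) * (η : G → ℂ) x =
      ∑ φ ∈ S, conj ((φ : G → ℂ) h) * ((d η φ : ℂ) * (η : G → ℂ) x) by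
    rw [hexp, Finset.sum_mul]; exact Finset.sum_congr rfl fun φ _ => by ring, Finset.sum_comm]
  refine Finset.sum_eq_zero fun φ hφ => ?_
  rw [← Finset.mul_sum]
  refine mul_eq_zero_of_right _ ?_
  by_cases hφU : φ ∈ U
  · refine Eq.trans (Finset.sum_subset (Finset.subset_univ _) fun η _ hη => ?_) (hd3 φ hφ x hx)
    by_cases h0 : d η φ = 0
    · simp [h0]
    · exact absurd (Finset.mem_filter.2 ⟨Finset.mem_univ η, (hclosed η φ hφ h0).2 hφU⟩) hη
  · refine Finset.sum_eq_zero fun η hη => ?_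
    by_cases h0 : d η φ = 0
    · simp [h0]
    · exact absurd ((hclosed η φ hφ h0).1 (Finset.mem_filter.1 hη).2) hφU

end Cfsg.Agent.Char.Fong
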