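import Cfsg.Agent.Lib.Char.DihedralColumns
import Cfsg.Agent.Lib.Char.DihedralSelect
import Cfsg.Agent.Lib.Char.FongSwanBlocks

/-!
# The principal 2-block for dihedral Sylow 2-subgroups
-/

set_option autoImplicit false
set_option linter.unusedSectionVars false
set_option linter.style.haveILetI false

namespace Cfsg.Agent.Char

open Cfsg DihedralGroup
open scoped ComplexConjugate

universe u

variable {G : Type u} [Group G] [Fintype G] {M : Ideal AlgInt}

theorem charDegree_spec (χ : IrrCharacter G) :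
    (χ : G → ℂ) 1 = (charDegree (χ : G → ℂ) : ℂ) := by
  obtain ⟨n, hn⟩ := charOne_eq_natCast (irr_isCharacter χ.2)
  rw [charDegree, hn, Complex.natCast_re, Nat.floor_natCast]

theorem charDegree_pos' (χ : IrrCharacter G) : 1 ≤ (charDegree (χ : G → ℂ) : ℤ) := by
  have h : charDegree (χ : G → ℂ) ≠ 0 := fun e =>
    irr_one_ne_zero χ.2 (by rw [charDegree_spec, e, Nat.cast_zero])
  omega

theorem invol_parity {χ : G → ℂ} (h : IsCharacter G χ) {t : G} (ht : t ^ 2 = 1) :
    ∃ z d : ℤ, χ t = z ∧ χ 1 = d ∧ 2 ∣ z - d := by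
  obtain ⟨n, ρ, rfl⟩ := h
  obtain ⟨μ, hμ, htr, -⟩ := exists_eigenvalues ρ t
  have h1 : ρ.character t = ∑ i, μ i := by simpa using htr 1
  have h0 : ρ.character 1 = ∑ _i : Fin (Module.finrank ℂ (Fin n → ℂ)), (1 : ℂ) := by simpa using htr 0
  have hi : ∀ i, ∃ z : ℤ, μ i = z ∧ 2 ∣ z - 1 := fun i => by
    have h2 : μ i ^ 2 = 1 := by
      obtain ⟨k, hk⟩ := orderOf_dvd_of_pow_eq_one ht
      rw [hk, pow_mul, hμ i, one_pow]
    rcases sq_eq_one_iff.1 h2 with e | e
    · exact ⟨1, by simp [e], by norm_num⟩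
    · exact ⟨-1, by simp [e], by norm_num⟩
  choose z hz hz2 using hi
  refine ⟨∑ i, z i, ∑ _i : Fin (Module.finrank ℂ (Fin n → ℂ)), 1, by rw [h1]; simp [hz], by rw [h0]; simp, ?_⟩
  rw [← Finset.sum_sub_distrib]
  exact Finset.dvd_sum fun i _ => hz2 i

variable {P : Sylow 2 G} {N : ℕ} [NeZero N] {ι : DihedralGroup N →* G} {ζ : ℂ}

/-- A member of the principal block vanishing off the regular elements is trivial. -/
theorem eq_irrOne_of_vanish (hM : IsPModular 2 M) {χ : IrrCharacter G}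
    (hχ : χ ∈ principalBlock M G) (hv : ∀ g : G, 2 ∣ orderOf g → (χ : G → ℂ) g = 0) :
    χ = irrOne := by
  classical
  have hP := pmod_prime hM
  have hA : ∀ g : G, MemLocalRing M (blockCoeff ({χ} : Set (IrrCharacter G)) g) :=
    Fong.memLR_blockCoeff_of_column_orth hM fun a x _ hx => Finset.sum_eq_zero fun η hη => by
      rw [show η = χ from (Finset.mem_filter.1 hη).2, hv x hx, mul_zero]
  exact (union_of_blocks hP hA (χ := χ) rfl (ψ := irrOne) (sameBlock_symm hP hχ)).symm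

/-- The principal block. -/
theorem DihSyl.principal_block (h : DihSyl P ι) (hM : IsPModular 2 M) (hζ : IsPrimitiveRoot ζ N)
    (H : ℕ) (hH : N = 2 * H) :
    ∃ (χ₁ χ₂ χ₃ : IrrCharacter G) (χ' : Fin (H - 1) → IrrCharacter G) (δ₁ δ₂ δ₃ : ℤ),
      (δ₁ = 1 ∨ δ₁ = -1) ∧ (δ₂ = 1 ∨ δ₂ = -1) ∧ (δ₃ = 1 ∨ δ₃ = -1) ∧ Function.Injective χ' ∧
      χ₁ ≠ irrOne ∧ χ₂ ≠ irrOne ∧ χ₃ ≠ irrOne ∧ χ₁ ≠ χ₂ ∧ χ₁ ≠ χ₃ ∧ χ₂ ≠ χ₃ ∧
      (∀ j, χ' j ≠ χ₁ ∧ χ' j ≠ χ₂ ∧ χ' j ≠ χ₃ ∧ χ' j ≠ irrOne) ∧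
      (∀ χ, χ ∈ principalBlock M G ↔
        χ = irrOne ∨ χ = χ₁ ∨ χ = χ₂ ∨ χ = χ₃ ∨ ∃ j, χ = χ' j) ∧
      (∀ l : ℕ, 0 < l → l < N →
        (χ₁ : G → ℂ) (ι (r (l : ZMod N))) = δ₁ ∧
        (χ₂ : G → ℂ) (ι (r (l : ZMod N))) = δ₂ * (-1) ^ (l + 1) ∧
        (χ₃ : G → ℂ) (ι (r (l : ZMod N))) = δ₃ * (-1) ^ (l + 1) ∧
        ∀ j : Fin (H - 1), (χ' j : G → ℂ) (ι (r (l : ZMod N))) =
          δ₁ * (ζ ^ (((j : ℕ) + 1) * l) + (ζ ^ (((j : ℕ) + 1) * l))⁻¹)) ∧
      ∀ ρ : G, ¬ 2 ∣ orderOf ρ → ∀ j : Fin (H - 1),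
        1 + δ₁ * (χ₁ : G → ℂ) ρ = -δ₂ * (χ₂ : G → ℂ) ρ - δ₃ * (χ₃ : G → ℂ) ρ ∧
        1 + δ₁ * (χ₁ : G → ℂ) ρ = δ₁ * (χ' j : G → ℂ) ρ := by
  classical
  have hP := pmod_prime hM
  obtain ⟨k, hk⟩ := h.pow
  obtain ⟨q, hq⟩ := h.four
  have hH2 : 2 ≤ H := by
    have := NeZero.ne N
    omega
  have hcard : H - 1 = 1 ∨ 3 ≤ H - 1 := by
    rcases k with _ | _ | _ | k
    · omega
    · omega
    · omega
    · have : 8 ≤ N := hk ▸ (show 8 ≤ 2 ^ (k + 3) from
        le_trans (by norm_num) (Nat.pow_le_pow_right (by norm_num) (by omega : 3 ≤ k + 3)))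
      omega
  set hf : ZMod N := (H : ZMod N) with hfdef
  have hhalf : ((N / 2 : ℕ) : ZMod N) = hf := by rw [hfdef, show N / 2 = H by omega]
  have hf0 : hf ≠ 0 := hhalf ▸ h.half_ne
  have hfneg : -hf = hf := neg_eq_of_add_eq_zero_left (hhalf ▸ h.half_add)
  set idx : Fin (H - 1) → ZMod N := fun j => (((j : ℕ) + 1 : ℕ) : ZMod N) with hidx
  have hval : ∀ j, (idx j).val = (j : ℕ) + 1 := fun j =>
    ZMod.val_natCast_of_lt (by have := j.2; omega)
  have hfval : hf.val = H := ZMod.val_natCast_of_lt (by omega)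
  have hidx0 : ∀ j, idx j ≠ 0 := fun j e => by
    have := hval j; rw [e, ZMod.val_zero] at this; omega
  have hidxne : ∀ j, idx j ≠ hf := fun j e => by
    have := hval j; rw [e, hfval] at this; have := j.2; omega
  have hidxinj : ∀ i j, idx i = idx j → i = j := fun i j e => by
    have h1 := hval i; rw [e, hval j] at h1; exact Fin.ext (by omega)
  have hidxneg : ∀ i j, idx i ≠ -idx j := fun i j e => by
    have h1 := hval i
    haveI : NeZero (idx j) := ⟨hidx0 j⟩
    rw [e, ZMod.val_neg_of_ne_zero, hval j] at h1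
    have := i.2; have := j.2; omega
  have hidxnegh : ∀ j, idx j ≠ -hf := fun j => hfneg.symm ▸ hidxne j
  have hcases : ∀ a : ZMod N, a ≠ 0 → a = hf ∨ ∃ j, a = idx j ∨ a = -idx j := by
    intro a ha
    have h1 : 0 < a.val := Nat.pos_of_ne_zero fun e => ha ((ZMod.val_eq_zero a).1 e)
    have h2 := ZMod.val_lt a
    rcases lt_trichotomy a.val H with h3 | h3 | h3
    · refine Or.inr ⟨⟨a.val - 1, by omega⟩, Or.inl ?_⟩
      simp only [hidx]
      rw [show a.val - 1 + 1 = a.val by omega, ZMod.natCast_rightInverse a]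
    · exact Or.inl (by rw [← ZMod.natCast_rightInverse a, h3])
    · refine Or.inr ⟨⟨N - a.val - 1, by omega⟩, Or.inr ?_⟩
      simp only [hidx]
      rw [show N - a.val - 1 + 1 = N - a.val by omega, Nat.cast_sub h2.le, ZMod.natCast_self,
        ZMod.natCast_rightInverse a, zero_sub, neg_neg]
  set B := (dihB0 M G).erase irrOne with hB
  have h1B : (irrOne : IrrCharacter G) ∈ dihB0 M G := mem_dihB0.2 (irrOne_mem hP)
  have hone : (dihV hζ ι · (irrOne : IrrCharacter G)) = fun a => if a = 0 then 0 else -1 := by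
    funext a
    split_ifs with e
    · subst e; exact dihV_zero hζ _
    · exact dihV_irrOne hζ e
  have hgram : ∀ a b : ZMod N, a ≠ 0 → b ≠ 0 →
      ∑ χ ∈ B, dihV hζ ι a χ * dihV hζ ι b χ =
        (if a = b then 1 else 0) + (if a = -b then 1 else 0) + 1 := by
    intro a b ha hb
    have := h.gram hM hζ ha hb
    rw [← Finset.add_sum_erase _ _ h1B, dihV_irrOne hζ ha, dihV_irrOne hζ hb, ← hB] at this
    omega
  have hrel : ∀ (a : ZMod N), a ≠ 0 → ∀ ρ : G, ¬ 2 ∣ orderOf ρ →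
      ∑ χ ∈ B, (dihV hζ ι a χ : ℂ) * (χ : G → ℂ) ρ = 1 := by
    intro a ha ρ hρ
    have := h.regular_rel hM hζ a hρ
    rw [← Finset.add_sum_erase _ _ h1B, dihV_irrOne hζ ha, ← hB, irrOne_apply] at this
    push_cast at this
    linear_combination this
  have hdeg : ∀ a : ZMod N, a ≠ 0 →
      ∑ χ ∈ B, dihV hζ ι a χ * (charDegree (χ : G → ℂ) : ℤ) = 1 := by
    intro a ha
    have := hrel a ha 1 (by simp)
    simp only [charDegree_spec, ← Int.cast_natCast (R := ℂ), ← Int.cast_mul, ← Int.cast_sum] at this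
    exact_mod_cast this
  obtain ⟨e, r', s', c, a, b, f, he, hr, hs, hc, ha, hb, hfB, hca, hcb, hab, hfi, hfne, hw, hR⟩ :=
    dih_select (B := B) (fun j χ => dihV hζ ι (idx j) χ) (fun χ => dihV hζ ι hf χ)
      (fun χ => (charDegree (χ : G → ℂ) : ℤ)) (fun χ _ => charDegree_pos' χ)
      (fun j => by rw [hgram _ _ (hidx0 j) (hidx0 j), if_pos rfl, if_neg (hidxneg j j)]; rfl)
      (by rw [hgram _ _ hf0 hf0, if_pos rfl, if_pos hfneg.symm]; rfl)
      (fun i j hij => by
        rw [hgram _ _ (hidx0 i) (hidx0 j), if_neg fun e => hij (hidxinj i j e),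
          if_neg (hidxneg i j)]; rfl)
      (fun j => by
        rw [hgram _ _ (hidx0 j) hf0, if_neg (hidxne j), if_neg (hidxnegh j)]; rfl)
      (fun j => hdeg _ (hidx0 j)) (hdeg _ hf0) (by rwa [Fintype.card_fin])
  have hmemB : ∀ χ ∈ B, χ ≠ irrOne ∧ χ ∈ principalBlock M G := fun χ hχ =>
    ⟨(Finset.mem_erase.1 hχ).1, mem_dihB0.1 (Finset.mem_erase.1 hχ).2⟩
  -- multiplicities
  have hvc : ∀ x : ZMod N, x ≠ 0 → dihV hζ ι x c = e := by
    have hi : ∀ j, dihV hζ ι (idx j) c = e := fun j => by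
      rw [show dihV hζ ι (idx j) c = _ from hw j c hc, if_pos rfl, if_neg (Ne.symm (hfne j).1), add_zero]
    intro x hx
    rcases hcases x hx with rfl | ⟨j, rfl | rfl⟩
    · rw [show dihV hζ ι hf c = _ from hR c hc, if_pos rfl, if_neg hca, if_neg hcb, add_zero, add_zero]
    · exact hi j
    · rw [dihV_neg, hi]
  have hvab : ∀ (y : IrrCharacter G) (t : ℤ), y ∈ B → y ≠ c → (∀ j, y ≠ f j) →
      dihV hζ ι hf y = t → ∀ x : ZMod N, dihV hζ ι x y = if x = hf then t else 0 := by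
    intro y t hy hyc hyf hyt x
    by_cases hx : x = 0
    · rw [hx, dihV_zero, if_neg (Ne.symm hf0)]
    rcases hcases x hx with rfl | ⟨j, rfl | rfl⟩
    · rw [if_pos rfl, hyt]
    · rw [if_neg (hidxne j), show dihV hζ ι (idx j) y = _ from hw j y hy, if_neg hyc,
        if_neg (hyf j), add_zero]
    · rw [if_neg fun h' => hidxne j (by rw [← hfneg, ← h', neg_neg]), dihV_neg,
        show dihV hζ ι (idx j) y = _ from hw j y hy, if_neg hyc, if_neg (hyf j), add_zero]
  have hva := hvab a r' ha (Ne.symm hca) (fun j => Ne.symm (hfne j).2.1)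
    (by rw [show dihV hζ ι hf a = _ from hR a ha, if_neg (Ne.symm hca), if_pos rfl, if_neg hab,
      zero_add, add_zero])
  have hvb := hvab b s' hb (Ne.symm hcb) (fun j => Ne.symm (hfne j).2.2)
    (by rw [show dihV hζ ι hf b = _ from hR b hb, if_neg (Ne.symm hcb), if_neg (Ne.symm hab),
      if_pos rfl, zero_add, zero_add])
  have hvf : ∀ j x, dihV hζ ι x (f j) =
      (if x = idx j then -e else 0) + (if x = -idx j then -e else 0) := by
    intro j x
    have hi : ∀ i, dihV hζ ι (idx i) (f j) = if i = j then -e else 0 := fun i => by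
      rw [show dihV hζ ι (idx i) (f j) = _ from hw i _ (hfB j), if_neg (hfne j).1, zero_add]
      simp only [hfi.eq_iff, eq_comm]
    by_cases hx : x = 0
    · rw [hx, dihV_zero, if_neg (Ne.symm (hidx0 j)), if_neg (Ne.symm (neg_ne_zero.2 (hidx0 j))),
        add_zero]
    rcases hcases x hx with rfl | ⟨i, rfl | rfl⟩
    · rw [show dihV hζ ι hf (f j) = _ from hR _ (hfB j), if_neg (hfne j).1, if_neg (hfne j).2.1,
        if_neg (hfne j).2.2, if_neg (Ne.symm (hidxne j)),
        if_neg fun h' => hidxne j (by rw [← hfneg, h', neg_neg]), add_zero]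
    · rw [hi, if_neg (hidxneg i j), add_zero]
      by_cases hij : i = j
      · rw [if_pos hij, if_pos (by rw [hij])]
      · rw [if_neg hij, if_neg fun h' => hij (hidxinj i j h')]
    · rw [dihV_neg, hi, if_neg (Ne.symm (hidxneg j i)), zero_add]
      by_cases hij : i = j
      · rw [if_pos hij, if_pos (by rw [hij])]
      · rw [if_neg hij, if_neg fun h' => hij (hidxinj i j (neg_inj.1 h'))]
  -- values
  have hne : ∀ l : ℕ, 0 < l → l < N → (l : ZMod N) ≠ 0 := fun l h1 h2 e => by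
    rw [ZMod.natCast_eq_zero_iff] at e; exact absurd (Nat.le_of_dvd h1 e) (by omega)
  have hEh : ∀ l : ℕ, dihE hζ ((l : ZMod N) * hf) = (-1) ^ l := fun l => by
    rw [hfdef, dihE_mul_nat, pow_mul, show ζ ^ H = -1 from
      (hζ.pow (NeZero.pos N) (show N = H * 2 by omega)).eq_neg_one_of_two_right]
  have hvalc : ∀ i : ZMod N, i ≠ 0 → (c : G → ℂ) (ι (r i)) = -(e : ℂ) := by
    intro i hi
    rw [dihV_value hζ c hi, Finset.sum_congr rfl fun x _ => show dihE hζ (i * x) *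
        (dihV hζ ι x c : ℂ) = (e : ℂ) * dihE hζ (i * x) - (if x = 0 then (e : ℂ) else 0) by
      by_cases hx : x = 0
      · subst hx; simp [dihV_zero, AddChar.map_zero_eq_one]
      · rw [hvc x hx, if_neg hx, sub_zero, mul_comm],
      Finset.sum_sub_distrib, ← Finset.mul_sum, dihE_sum_left, if_neg hi, Finset.sum_ite_eq',
      if_pos (Finset.mem_univ _), mul_zero, zero_sub]
  have hvalab : ∀ (y : IrrCharacter G) (t : ℤ),
      (∀ x : ZMod N, dihV hζ ι x y = if x = hf then t else 0) →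
      ∀ i : ZMod N, i ≠ 0 → (y : G → ℂ) (ι (r i)) = (t : ℂ) * dihE hζ (i * hf) := by
    intro y t hy i hi
    rw [dihV_value hζ y hi, Finset.sum_eq_single hf (fun x _ hx => by simp [hy x, hx])
      (fun h' => absurd (Finset.mem_univ _) h'), hy, if_pos rfl, mul_comm]
  have hvalf : ∀ j, ∀ i : ZMod N, i ≠ 0 → (f j : G → ℂ) (ι (r i)) =
      -(e : ℂ) * (dihE hζ (i * idx j) + (dihE hζ (i * idx j))⁻¹) := by
    intro j i hi
    rw [dihV_value hζ (f j) hi]
    simp only [hvf j, Int.cast_add, Int.cast_ite, Int.cast_neg, Int.cast_zero, mul_add, mul_ite,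
      mul_zero, Finset.sum_add_distrib, Finset.sum_ite_eq', Finset.mem_univ, if_true,
      AddChar.map_neg_eq_inv, mul_neg]
    ring
  refine ⟨c, a, b, f, -e, -r', -s', by omega, by omega, by omega, hfi, (hmemB c hc).1, (hmemB a ha).1,
    (hmemB b hb).1, hca, hcb, hab, fun j => ⟨(hfne j).1, (hfne j).2.1, (hfne j).2.2, (hmemB _ (hfB j)).1⟩,
    fun χ => ⟨fun hχ => ?_, ?_⟩, fun l hl0 hlN => ?_, fun ρ hρ j => ?_⟩
  rotate_left
  · rintro (rfl | rfl | rfl | rfl | ⟨j, rfl⟩)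
    exacts [irrOne_mem hP, (hmemB _ hc).2, (hmemB _ ha).2, (hmemB _ hb).2, (hmemB _ (hfB j)).2]
  · have hi := hne l hl0 hlN
    refine ⟨?_, ?_, ?_, fun j => ?_⟩
    · rw [hvalc _ hi]; push_cast; rfl
    · rw [hvalab a r' hva _ hi, hEh]; push_cast; ring
    · rw [hvalab b s' hvb _ hi, hEh]; push_cast; ring
    · rw [hvalf j _ hi, hidx, dihE_mul_nat]; push_cast; ring
  · have hsum : ∀ (F : IrrCharacter G → ℤ) (y z : IrrCharacter G) (t t' : ℤ), y ∈ B → z ∈ B →
        (∀ x ∈ B, F x = (if x = y then t else 0) + (if x = z then t' else 0)) →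
        ∑ x ∈ B, (F x : ℂ) * (x : G → ℂ) ρ =
          (t : ℂ) * (y : G → ℂ) ρ + (t' : ℂ) * (z : G → ℂ) ρ := by
      intro F y z t t' hy hz hF
      rw [Finset.sum_congr rfl fun x hx => show (F x : ℂ) * (x : G → ℂ) ρ =
          (if x = y then (t : ℂ) * (x : G → ℂ) ρ else 0) +
            (if x = z then (t' : ℂ) * (x : G → ℂ) ρ else 0) by
        rw [hF x hx]; split_ifs <;> push_cast <;> ring]
      rw [Finset.sum_add_distrib, Finset.sum_ite_eq', Finset.sum_ite_eq', if_pos hy, if_pos hz]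
    have h1 := hrel _ (hidx0 j) ρ hρ
    rw [hsum _ c (f j) e (-e) hc (hfB j) (hw j)] at h1
    have h2 := hrel _ hf0 ρ hρ
    rw [Finset.sum_congr rfl fun x hx => show (dihV hζ ι hf x : ℂ) * (x : G → ℂ) ρ =
        (if x = c then (e : ℂ) * (x : G → ℂ) ρ else 0) +
          (if x = a then (r' : ℂ) * (x : G → ℂ) ρ else 0) +
          (if x = b then (s' : ℂ) * (x : G → ℂ) ρ else 0) by
      rw [show dihV hζ ι hf x = _ from hR x hx]; split_ifs <;> push_cast <;> ring,
      Finset.sum_add_distrib, Finset.sum_add_distrib, Finset.sum_ite_eq', Finset.sum_ite_eq',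
      Finset.sum_ite_eq', if_pos hc, if_pos ha, if_pos hb] at h2
    push_cast at h1 ⊢
    exact ⟨by linear_combination -h2, by linear_combination -h1⟩
  -- there are no further characters
  by_contra hnot
  push Not at hnot
  obtain ⟨hn1, hnc, hna, hnb, hnf⟩ := hnot
  have hχB : χ ∈ B := Finset.mem_erase.2 ⟨hn1, mem_dihB0.2 hχ⟩
  have hv0 : ∀ x : ZMod N, dihV hζ ι x χ = 0 := by
    intro x
    by_cases hx : x = 0
    · rw [hx, dihV_zero]
    rcases hcases x hx with rfl | ⟨j, rfl | rfl⟩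
    · rw [show dihV hζ ι hf χ = _ from hR χ hχB, if_neg hnc, if_neg hna, if_neg hnb, add_zero, add_zero]
    · rw [show dihV hζ ι (idx j) χ = _ from hw j χ hχB, if_neg hnc, if_neg (hnf j), add_zero]
    · rw [dihV_neg, show dihV hζ ι (idx j) χ = _ from hw j χ hχB, if_neg hnc, if_neg (hnf j), add_zero]
  have hrot : ∀ i : ZMod N, i ≠ 0 → (χ : G → ℂ) (ι (r i)) = 0 := fun i hi => by
    rw [dihV_value hζ χ hi]; simp [hv0]
  refine hn1 (eq_irrOne_of_vanish hM hχ fun g hg => ?_)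
  haveI : Fact (Nat.Prime 2) := ⟨Nat.prime_two⟩
  obtain ⟨x, hx⟩ := exists_isPPart Nat.prime_two g
  obtain ⟨y, hxy, hcomm, hx2, hy⟩ := hx
  have hx1 : x ≠ 1 := fun e' => hy (by rw [← one_mul y, ← e', hxy]; exact hg)
  have htrans : ∀ d, IsConj x (ι d) → (∀ y', Commute (ι d) y' → ¬ 2 ∣ orderOf y' →
      (χ : G → ℂ) (ι d * y') = 0) → (χ : G → ℂ) g = 0 := by
    intro d hd hzero
    obtain ⟨u, hu⟩ := isConj_iff.1 hd
    rw [← hxy, ← isClassFunction_character (irr_isCharacter χ.2) (x * y) u,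
      show u * (x * y) * u⁻¹ = (u * x * u⁻¹) * (u * y * u⁻¹) by group, hu]
    refine hzero _ ?_ ?_
    · rw [← hu]
      show u * x * u⁻¹ * (u * y * u⁻¹) = u * y * u⁻¹ * (u * x * u⁻¹)
      calc u * x * u⁻¹ * (u * y * u⁻¹) = u * (x * y) * u⁻¹ := by group
        _ = u * (y * x) * u⁻¹ := by rw [hcomm.eq]
        _ = _ := by group
    · rwa [show u * y * u⁻¹ = (MulAut.conj u).toMonoidHom y by simp,
        orderOf_injective _ (MulAut.conj u).injective]
  rcases h.two_cases hx2 hx1 with ⟨i, hi, hconj⟩ | ⟨i, hiJ, hconj⟩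
  · refine htrans _ hconj fun y' hc' hy' => ?_
    have hnp : HasNormalPComplement 2 (Subgroup.centralizer ({ι (r i)} : Set G)) := by
      by_cases hii : i + i = 0
      · rcases Fusion.zmod_double_eq_zero hii with e' | e'
        · exact absurd e' hi
        · subst e'; exact h.cent_J.1
      · exact (h.cent_rot hii).1
    rw [(nilp_section hM (h.ppower _) hnp).1 χ hχ y' hc' hy', hrot i hi]
  · refine htrans _ hconj fun y' hc' hy' => ?_
    obtain ⟨hnp, hfac⟩ := h.cent_refl hiJ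
    rw [(nilp_section hM (h.ppower _) hnp).1 χ hχ y' hc' hy']
    have hsq : (ι (sr i)) ^ 2 = 1 := by
      rw [pow_two, ← map_mul, sr_mul_self, map_one]
    choose z hz using fun η : IrrCharacter G => char_involution_int (irr_isCharacter η.2) hsq
    have hsum : ∑ η ∈ dihB0 M G, z η * z η = 4 := by
      have h4 := (nilp_section hM (h.ppower (sr i)) hnp).2
      rw [hfac] at h4
      simp only [hz, map_intCast] at h4
      rw [dihB0]
      exact_mod_cast h4
    have hJ2 : (dihJ ι) ^ 2 = 1 := by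
      rw [pow_two, ← map_mul, r_mul_r, h.half_add, ← DihedralGroup.one_def, map_one]
    have hodd : ∀ y : IrrCharacter G, ((y : G → ℂ) (dihJ ι) = 1 ∨ (y : G → ℂ) (dihJ ι) = -1) →
        1 ≤ z y * z y := by
      intro y hy1
      obtain ⟨z1, d1, hz1, hd1, hp1⟩ := invol_parity (irr_isCharacter y.2) hsq
      obtain ⟨z2, d2, hz2, hd2, hp2⟩ := invol_parity (irr_isCharacter y.2) hJ2
      have e1 : z y = z1 := Int.cast_injective ((hz y).symm.trans hz1)
      have e2 : d1 = d2 := Int.cast_injective (hd1.symm.trans hd2)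
      have e3 : z2 = 1 ∨ z2 = -1 := by
        rcases hy1 with e' | e'
        · exact Or.inl (Int.cast_injective (α := ℂ) (by rw [← hz2, e', Int.cast_one]))
        · exact Or.inr (Int.cast_injective (α := ℂ) (by rw [← hz2, e', Int.cast_neg, Int.cast_one]))
      have hne0 : z y ≠ 0 := by omega
      have := mul_self_pos.2 hne0
      omega
    have hsign : ∀ (t : ℤ) (l : ℕ), (t = 1 ∨ t = -1) →
        ((t : ℂ) * (-1) ^ l = 1 ∨ (t : ℂ) * (-1) ^ l = -1) := by
      intro t l ht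
      rcases ht with rfl | rfl <;> rcases neg_one_pow_eq_or ℂ l with e' | e' <;> simp [e']
    have hzc : 1 ≤ z c * z c := hodd c (by
      rw [dihJ, hhalf, hvalc hf hf0]; rcases he with rfl | rfl <;> simp)
    have hza : 1 ≤ z a * z a := hodd a (by
      rw [dihJ, hhalf, hvalab a r' hva hf hf0, hfdef, hEh H]; exact hsign r' H hr)
    have hzb : 1 ≤ z b * z b := hodd b (by
      rw [dihJ, hhalf, hvalab b s' hvb hf hf0, hfdef, hEh H]; exact hsign s' H hs)
    have hz1 : z (irrOne : IrrCharacter G) = 1 := by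
      have := hz (irrOne : IrrCharacter G)
      rw [irrOne_apply] at this
      exact_mod_cast this.symm
    have hle : ∑ η ∈ ({χ, irrOne, c, a, b} : Finset (IrrCharacter G)), z η * z η ≤ 4 := by
      rw [← hsum]
      refine Finset.sum_le_sum_of_subset_of_nonneg ?_ fun η _ _ => mul_self_nonneg _
      simp [Finset.insert_subset_iff, mem_dihB0, hχ, irrOne_mem hP, (hmemB c hc).2, (hmemB a ha).2,
        (hmemB b hb).2]
    rw [Finset.sum_insert (by simp [hn1, hnc, hna, hnb]), Finset.sum_insert (by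
        simp [Ne.symm (hmemB c hc).1, Ne.symm (hmemB a ha).1, Ne.symm (hmemB b hb).1]),
      Finset.sum_insert (by simp [hca, hcb]), Finset.sum_pair hab, hz1] at hle
    have : z χ = 0 := by
      by_contra hne0
      have := mul_self_pos.2 hne0
      omega
    rw [hz, this, Int.cast_zero]

end Cfsg.Agent.Char
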