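import Cfsg.Agent.Lib.Char.DihedralSelect

/-!
# Integral vectors of norm three with pairwise products two
-/

set_option autoImplicit false

namespace Cfsg.Agent.Char

variable {X Y : Type*}

/-- Five triples meeting pairwise in two points have two common points. -/
theorem triples_common [DecidableEq Y] {J : Type*} [Fintype J] (F : J → Finset Y)
    (h3 : ∀ j, (F j).card = 3) (h2 : ∀ i j, i ≠ j → (F i ∩ F j).card = 2)
    (hJ : 5 ≤ Fintype.card J) : ∃ p q, p ≠ q ∧ ∀ j, p ∈ F j ∧ q ∈ F j := by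
  classical
  obtain ⟨i, j, hij⟩ := Fintype.exists_pair_of_one_lt_card (α := J) (by omega)
  by_cases hall : ∀ k, F i ∩ F j ⊆ F k
  · obtain ⟨p, q, hpq, he⟩ := Finset.card_eq_two.1 (h2 i j hij)
    exact ⟨p, q, hpq, fun k => ⟨hall k (he ▸ Finset.mem_insert_self _ _),
      hall k (he ▸ Finset.mem_insert_of_mem (Finset.mem_singleton_self _))⟩⟩
  push Not at hall
  obtain ⟨k, hk⟩ := hall
  exfalso
  have hki : k ≠ i := fun e => hk (e ▸ Finset.inter_subset_left)
  have hkj : k ≠ j := fun e => hk (e ▸ Finset.inter_subset_right)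
  set U := F i ∪ F j with hU
  -- a triple leaving `U` contains the common pair of `i` and `j`
  have hout : ∀ l, ¬ F l ⊆ U → ∀ m, F m ⊆ U → m ≠ l → F l ∩ U ⊆ F m := by
    intro l hl m hm hne
    have h1 : (F l ∩ U).card ≤ 2 := by
      have hlt : (F l ∩ U).card < (F l).card := Finset.card_lt_card
        ⟨Finset.inter_subset_left, fun hc => hl fun x hx => (Finset.mem_inter.1 (hc hx)).2⟩
      rw [h3] at hlt; omega
    have h4 : F m ∩ F l = F l ∩ U := Finset.eq_of_subset_of_card_le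
      (fun x hx => Finset.mem_inter.2 ⟨(Finset.mem_inter.1 hx).2, hm (Finset.mem_inter.1 hx).1⟩)
      (by rw [h2 m l hne]; exact h1)
    exact h4 ▸ Finset.inter_subset_left
  have hne1 : ∀ l, ¬ F l ⊆ U → i ≠ l := fun l hl e => hl (e ▸ Finset.subset_union_left)
  have hne2 : ∀ l, ¬ F l ⊆ U → j ≠ l := fun l hl e => hl (e ▸ Finset.subset_union_right)
  have hlU : ∀ l, ¬ F l ⊆ U → F l ∩ U = F i ∩ F j := by
    intro l hl
    refine Finset.eq_of_subset_of_card_le (Finset.subset_inter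
      (hout l hl i Finset.subset_union_left (hne1 l hl))
      (hout l hl j Finset.subset_union_right (hne2 l hl))) ?_
    rw [h2 i j hij]
    calc 2 = (F l ∩ F i).card := (h2 l i (hne1 l hl).symm).symm
      _ ≤ (F l ∩ U).card := Finset.card_le_card
          (Finset.inter_subset_inter_left Finset.subset_union_left)
  have hkU : F k ⊆ U := by
    by_contra hc
    exact hk (hlU k hc ▸ Finset.inter_subset_left)
  have hallU : ∀ l, F l ⊆ U := by
    intro l
    by_contra hc
    refine hk ?_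
    rw [← hlU l hc]
    exact hout l hc k hkU fun e => hc (e ▸ hkU)
  have hU4 : U.card = 4 := by
    have := Finset.card_union_add_card_inter (F i) (F j)
    rw [h2 i j hij, h3, h3, ← hU] at this
    omega
  have hinj : Function.Injective F := fun a b e => by
    by_contra hne
    have := h2 a b hne
    rw [e, Finset.inter_self, h3] at this
    omega
  have hle : (Finset.univ.image F).card ≤ (Finset.powersetCard 3 U).card := Finset.card_le_card
    fun s hs => by
      obtain ⟨l, -, rfl⟩ := Finset.mem_image.1 hs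
      exact Finset.mem_powersetCard.2 ⟨hallU l, h3 l⟩
  rw [Finset.card_image_of_injective _ hinj, Finset.card_powersetCard, hU4, Finset.card_univ,
    show Nat.choose 4 3 = 4 from rfl] at hle
  omega

/-- The common constituents of the vectors. -/
theorem homo_select [DecidableEq X] {J : Type*} [Fintype J] {B : Finset X} (w : J → X → ℤ)
    (d : X → ℤ) (hd : ∀ x ∈ B, 1 ≤ d x) (hn : ∀ j, ∑ x ∈ B, w j x * w j x = 3)
    (hij : ∀ i j, i ≠ j → ∑ x ∈ B, w i x * w j x = 2) (hdeg : ∀ j, ∑ x ∈ B, w j x * d x = 1)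
    (hJ : 5 ≤ Fintype.card J) :
    ∃ (e₂ e₃ s : ℤ) (a b : X) (f : J → X), (e₂ = 1 ∨ e₂ = -1) ∧ (e₃ = 1 ∨ e₃ = -1) ∧
      (s = 1 ∨ s = -1) ∧ a ∈ B ∧ b ∈ B ∧ a ≠ b ∧ (∀ j, f j ∈ B) ∧ Function.Injective f ∧
      (∀ j, f j ≠ a ∧ f j ≠ b) ∧
      ∀ j, ∀ x ∈ B, w j x =
        (if x = a then e₂ else 0) + (if x = b then e₃ else 0) + (if x = f j then s else 0) := by
  classical
  have hsm : ∀ j, (∀ x ∈ B, w j x = -1 ∨ w j x = 0 ∨ w j x = 1) ∧
      (B.filter fun x => w j x ≠ 0).card = 3 := fun j =>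
    small_norm (m := 3) le_rfl (by exact_mod_cast hn j)
  set S : J → Finset X := fun j => B.filter fun x => w j x ≠ 0 with hS
  have hpm : ∀ j, ∀ x ∈ S j, x ∈ B ∧ (w j x = 1 ∨ w j x = -1) := fun j x hx => by
    obtain ⟨hxB, hne⟩ := Finset.mem_filter.1 hx
    rcases (hsm j).1 x hxB with e | e | e
    exacts [⟨hxB, Or.inr e⟩, absurd e hne, ⟨hxB, Or.inl e⟩]
  set T : J → Finset (X × ℤ) := fun j => (S j).image fun x => (x, w j x) with hT
  have hmT : ∀ j p, p ∈ T j ↔ p.1 ∈ S j ∧ w j p.1 = p.2 := by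
    intro j p
    simp only [hT, Finset.mem_image]
    constructor
    · rintro ⟨x, hx, rfl⟩; exact ⟨hx, rfl⟩
    · rintro ⟨h1, h2⟩; exact ⟨p.1, h1, by rw [h2]⟩
  have hinj : ∀ j, Function.Injective fun x => (x, w j x) := fun j a b e => congrArg Prod.fst e
  have hT3 : ∀ j, (T j).card = 3 := fun j => by
    simp only [hT]
    rw [Finset.card_image_of_injective _ (hinj j)]; exact (hsm j).2
  have key : ∀ i j, i ≠ j → (T i ∩ T j).card = 2 ∧ ∀ x ∈ S i, x ∈ S j → w i x = w j x := by
    intro i j hne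
    set A := (S i ∩ S j).filter fun x => w i x = w j x with hA
    set D := (S i ∩ S j).filter fun x => w i x ≠ w j x with hD
    have hsum : ∑ x ∈ S i ∩ S j, w i x * w j x = 2 := by
      rw [← hij i j hne]
      refine Finset.sum_subset (fun x hx => (hpm i x (Finset.mem_inter.1 hx).1).1) fun x hx hn => ?_
      by_contra h0
      rw [mul_eq_zero, not_or] at h0
      exact hn (Finset.mem_inter.2 ⟨Finset.mem_filter.2 ⟨hx, h0.1⟩, Finset.mem_filter.2 ⟨hx, h0.2⟩⟩)
    have hA1 : ∀ x ∈ A, w i x * w j x = 1 := fun x hx => by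
      obtain ⟨h1, h2⟩ := Finset.mem_filter.1 hx
      rw [← h2]
      rcases (hpm i x (Finset.mem_inter.1 h1).1).2 with e | e <;> rw [e] <;> norm_num
    have hD1 : ∀ x ∈ D, w i x * w j x = -1 := fun x hx => by
      obtain ⟨h1, h2⟩ := Finset.mem_filter.1 hx
      rcases (hpm i x (Finset.mem_inter.1 h1).1).2 with e | e <;>
        rcases (hpm j x (Finset.mem_inter.1 h1).2).2 with e' | e' <;>
        rw [e, e'] at h2 ⊢ <;> first | exact absurd rfl h2 | norm_num
    have hsplit : (A.card : ℤ) - D.card = 2 := by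
      rw [← hsum, ← Finset.sum_filter_add_sum_filter_not (S i ∩ S j) (fun x => w i x = w j x),
        ← hA, Finset.sum_congr rfl hA1, ← hD, Finset.sum_congr rfl hD1]
      simp [sub_eq_add_neg]
    have hle : A.card + D.card ≤ 3 := by
      rw [hA, hD, Finset.card_filter_add_card_filter_not]
      exact (Finset.card_le_card Finset.inter_subset_left).trans_eq (hsm i).2
    have hAD : A.card = 2 ∧ D.card = 0 := by omega
    refine ⟨?_, fun x hi hj => ?_⟩
    · have : T i ∩ T j = A.image fun x => (x, w i x) := by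
        ext p
        simp only [Finset.mem_inter, hmT, Finset.mem_image, hA, Finset.mem_filter]
        constructor
        · rintro ⟨⟨h1, h2⟩, ⟨h3, h4⟩⟩
          exact ⟨p.1, ⟨⟨h1, h3⟩, h2.trans h4.symm⟩, by rw [h2]⟩
        · rintro ⟨x, ⟨⟨h1, h3⟩, h2⟩, rfl⟩
          exact ⟨⟨h1, rfl⟩, h3, h2.symm⟩
      rw [this, Finset.card_image_of_injective _ (hinj i)]
      exact hAD.1
    · by_contra hc
      have : x ∈ D := Finset.mem_filter.2 ⟨Finset.mem_inter.2 ⟨hi, hj⟩, hc⟩
      rw [Finset.card_eq_zero.1 hAD.2] at this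
      simp at this
  obtain ⟨p, q, hpq, hpqT⟩ := triples_common T hT3 (fun i j h => (key i j h).1) hJ
  have hne' : Nonempty J := Fintype.card_pos_iff.1 (by omega)
  obtain ⟨j0⟩ := hne'
  have hp0 := (hmT j0 p).1 (hpqT j0).1
  have hq0 := (hmT j0 q).1 (hpqT j0).2
  have hab : p.1 ≠ q.1 := fun e => hpq (Prod.ext e (by rw [← hp0.2, ← hq0.2, e]))
  have hpS : ∀ j, p.1 ∈ S j ∧ q.1 ∈ S j ∧ w j p.1 = p.2 ∧ w j q.1 = q.2 := fun j =>
    ⟨((hmT j p).1 (hpqT j).1).1, ((hmT j q).1 (hpqT j).2).1, ((hmT j p).1 (hpqT j).1).2,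
      ((hmT j q).1 (hpqT j).2).2⟩
  have hex : ∀ j, ∃ f, S j = {p.1, q.1, f} ∧ f ≠ p.1 ∧ f ≠ q.1 := by
    intro j
    have hsub : ({p.1, q.1} : Finset X) ⊆ S j :=
      Finset.insert_subset (hpS j).1 (Finset.singleton_subset_iff.2 (hpS j).2.1)
    obtain ⟨f, hf⟩ := Finset.card_eq_one.1 (show (S j \ {p.1, q.1}).card = 1 by
      rw [Finset.card_sdiff_of_subset hsub, Finset.card_pair hab]
      have : (S j).card = 3 := (hsm j).2
      omega)
    have hfm : f ∈ S j \ {p.1, q.1} := hf ▸ Finset.mem_singleton_self f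
    rw [Finset.mem_sdiff] at hfm
    simp only [Finset.mem_insert, Finset.mem_singleton, not_or] at hfm
    refine ⟨f, ?_, hfm.2.1, hfm.2.2⟩
    conv_lhs => rw [← Finset.union_sdiff_of_subset hsub, hf]
    ext x; simp [or_assoc]
  choose f hfS hfp hfq using hex
  have hfmem : ∀ j, f j ∈ S j := fun j => by rw [hfS j]; simp
  have hfinj : Function.Injective f := fun i j e => by
    by_contra hne
    obtain ⟨hc, heq⟩ := key i j hne
    have : T i = T j := by
      ext x
      rw [hmT, hmT]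
      have hSS : S i = S j := by rw [hfS i, hfS j, e]
      constructor
      · rintro ⟨h1, h2⟩; exact ⟨hSS ▸ h1, by rw [← heq _ h1 (hSS ▸ h1), h2]⟩
      · rintro ⟨h1, h2⟩; exact ⟨hSS ▸ h1, by rw [heq _ (hSS ▸ h1) h1, h2]⟩
    rw [this, Finset.inter_self, hT3] at hc
    omega
  have hval : ∀ j, ∀ x ∈ B, w j x =
      (if x = p.1 then p.2 else 0) + (if x = q.1 then q.2 else 0) +
        (if x = f j then w j (f j) else 0) := by
    intro j x hx
    by_cases x1 : x = p.1
    · subst x1; simp [hab, Ne.symm (hfp j), (hpS j).2.2.1]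
    by_cases x2 : x = q.1
    · subst x2; simp [x1, Ne.symm (hfq j), (hpS j).2.2.2]
    by_cases x3 : x = f j
    · subst x3; simp [x1, x2]
    have : x ∉ S j := by rw [hfS j]; simp [x1, x2, x3]
    have : w j x = 0 := by
      by_contra hne
      exact this (Finset.mem_filter.2 ⟨hx, hne⟩)
    simp [x1, x2, x3, this]
  have hdeg' : ∀ j, w j p.1 * d p.1 + w j q.1 * d q.1 + w j (f j) * d (f j) = 1 := by
    intro j
    rw [← hdeg j, ← Finset.sum_subset (show S j ⊆ B from Finset.filter_subset _ _) fun x hx hn => by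
      have : w j x = 0 := by
        by_contra hne
        exact hn (Finset.mem_filter.2 ⟨hx, hne⟩)
      rw [this, zero_mul], hfS j, Finset.sum_insert (by simp [hab, Ne.symm (hfp j)]),
      Finset.sum_pair (Ne.symm (hfq j))]
    ring
  have hsame : ∀ j, w j (f j) = w j0 (f j0) := by
    intro j
    have h1 := hdeg' j
    have h2 := hdeg' j0
    rw [(hpS j).2.2.1, (hpS j).2.2.2] at h1
    rw [(hpS j0).2.2.1, (hpS j0).2.2.2] at h2
    have hd1 := hd _ (hpm j _ (hfmem j)).1
    have hd2 := hd _ (hpm j0 _ (hfmem j0)).1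
    rcases (hpm j _ (hfmem j)).2 with e | e <;> rcases (hpm j0 _ (hfmem j0)).2 with e' | e' <;>
      rw [e] at h1 ⊢ <;> rw [e'] at h2 ⊢ <;> omega
  refine ⟨p.2, q.2, w j0 (f j0), p.1, q.1, f, hp0.2 ▸ (hpm j0 _ hp0.1).2, hq0.2 ▸ (hpm j0 _ hq0.1).2,
    (hpm j0 _ (hfmem j0)).2, (hpm j0 _ hp0.1).1, (hpm j0 _ hq0.1).1, hab,
    fun j => (hpm j _ (hfmem j)).1, hfinj, fun j => ⟨hfp j, hfq j⟩, fun j x hx => ?_⟩
  rw [hval j x hx, hsame j]

/-- The arithmetic of the degree equation. -/
theorem homo_degree_eq {δ₂ δ₃ a b : ℤ} (h2 : δ₂ = 1 ∨ δ₂ = -1) (h3 : δ₃ = 1 ∨ δ₃ = -1)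
    (ha : 1 ≤ a) (hb : 1 ≤ b) (hao : Odd a) (hbo : Odd b)
    (h : (1 + δ₂ * a + δ₃ * b) * (a * b + δ₂ * b + δ₃ * a) = 9 * (a * b)) :
    δ₂ = 1 ∧ δ₃ = 1 ∧ a = 1 ∧ b = 1 := by
  have mixed : ∀ a b : ℤ, 1 ≤ a → 1 ≤ b → Odd a → Odd b →
      (1 + a - b) * (a * b + b - a) = 9 * (a * b) → False := by
    intro a b ha hb hao hbo h
    obtain ⟨d, rfl⟩ : ∃ d, a = b + d := ⟨a - b, by ring⟩
    have heven : Even d := by simpa using hao.sub_odd hbo
    have h' : (b + d) * b * (d - 8) = d * (d + 1) := by nlinarith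
    have hpos : 1 ≤ (b + d) * b := one_le_mul_of_one_le_of_one_le ha hb
    have hd8 : 9 ≤ d := by
      by_contra hc
      have hneg : (b + d) * b * (d - 8) ≤ 0 :=
        mul_nonpos_of_nonneg_of_nonpos (by omega) (by omega)
      have hd0 : d = 0 ∨ d = -1 := by
        by_contra hd
        push Not at hd
        rcases lt_or_gt_of_ne hd.1 with hh | hh
        · nlinarith [mul_pos (show (0 : ℤ) < -d by omega) (show (0 : ℤ) < -(d + 1) by omega)]
        · nlinarith [mul_pos hh (show (0 : ℤ) < d + 1 by omega)]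
      rcases hd0 with rfl | rfl <;> nlinarith
    obtain ⟨k, rfl⟩ := hbo
    rcases eq_or_lt_of_le (show (0 : ℤ) ≤ k by omega) with e | e
    · subst e
      nlinarith
    · have h12 : d ≤ 12 := by
        nlinarith [mul_le_mul_of_nonneg_right
          (mul_le_mul (show (3 : ℤ) + d ≤ 2 * k + 1 + d by omega) (show (3 : ℤ) ≤ 2 * k + 1 by omega)
            (by norm_num) (by omega)) (show (0 : ℤ) ≤ d - 8 by omega)]
      obtain ⟨l, rfl⟩ := heven
      have : l = 5 ∨ l = 6 := by omega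
      rcases this with rfl | rfl
      · have : k ≤ 2 := by nlinarith
        interval_cases k <;> omega
      · have : k ≤ 1 := by nlinarith
        interval_cases k <;> omega
  rcases h2 with rfl | rfl <;> rcases h3 with rfl | rfl
  · have e : a * (b - 1) ^ 2 + b * (a - 1) ^ 2 + (a - b) ^ 2 = 0 := by linear_combination h
    have h1 := mul_nonneg (show (0 : ℤ) ≤ a by omega) (sq_nonneg (b - 1))
    have h2 := mul_nonneg (show (0 : ℤ) ≤ b by omega) (sq_nonneg (a - 1))
    have h3 := sq_nonneg (a - b)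
    have e1 : a * (b - 1) ^ 2 = 0 := by omega
    have e2 : b * (a - 1) ^ 2 = 0 := by omega
    rw [mul_eq_zero, sq_eq_zero_iff] at e1 e2
    exact ⟨rfl, rfl, by omega, by omega⟩
  · exact (mixed a b ha hb hao hbo (by linear_combination h)).elim
  · exact (mixed b a hb ha hbo hao (by linear_combination h)).elim
  · exfalso
    by_cases h1 : a = 1
    · subst h1; nlinarith
    by_cases h1' : b = 1
    · subst h1'; nlinarith
    nlinarith [mul_le_mul (show (2 : ℤ) ≤ a - 1 by obtain ⟨k, rfl⟩ := hao; omega)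
      (show (2 : ℤ) ≤ b - 1 by obtain ⟨k, rfl⟩ := hbo; omega) (by norm_num) (by omega),
      mul_pos (show (0 : ℤ) < a by omega) (show (0 : ℤ) < b by omega)]

end Cfsg.Agent.Char
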