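import Cfsg.Agent.Lib.Char.HomocyclicColumns
import Cfsg.Agent.Lib.Char.HomocyclicSelect
import Cfsg.Agent.Lib.Char.DihedralPrincipal
import Cfsg.Agent.Lib.Char.DihedralOrder

/-!
# Groups with homocyclic Sylow 2-subgroups of rank two
-/

set_option autoImplicit false
set_option linter.unusedSectionVars false
set_option linter.style.haveILetI false

namespace Cfsg.Agent.Char

open Cfsg
open scoped ComplexConjugate

universe u

variable {G : Type u} [Group G] [Fintype G] {M : Ideal AlgInt}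
variable {N : ℕ} [NeZero N] {P : Sylow 2 G} {ι : Multiplicative (HV N) →* G}
variable {φ : HV N ≃+ HV N}

/-- The constituents attached to a nontrivial linear character of the Sylow subgroup. -/
theorem HomoData.principal_part (h : HomoData P ι φ) (hM : IsPModular 2 M)
    {μ₀ : AddChar (HV N) ℂ} (hμ₀ : μ₀ ≠ 0) :
    ∃ (c d f : IrrCharacter G) (δ₂ δ₃ δ : ℤ), (δ₂ = 1 ∨ δ₂ = -1) ∧ (δ₃ = 1 ∨ δ₃ = -1) ∧
      (δ = 1 ∨ δ = -1) ∧ c ∈ principalBlock M G ∧ d ∈ principalBlock M G ∧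
      f ∈ principalBlock M G ∧ c ≠ irrOne ∧
      (∀ x : HV N, x ≠ 0 → (c : G → ℂ) (hev ι x) = δ₂ ∧ (d : G → ℂ) (hev ι x) = δ₃ ∧
        (f : G → ℂ) (hev ι x) = δ * (μ₀ x + μ₀ (φ x) + μ₀ (φ (φ x)))) ∧
      ∀ ρ : G, ¬ 2 ∣ orderOf ρ →
        1 + δ₂ * (c : G → ℂ) ρ + δ₃ * (d : G → ℂ) ρ = δ * (f : G → ℂ) ρ := by
  classical
  have hP := pmod_prime hM
  set B := (dihB0 M G).erase irrOne with hB
  have h1B : (irrOne : IrrCharacter G) ∈ dihB0 M G := mem_dihB0.2 (irrOne_mem hP)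
  have hcube : ∀ μ : AddChar (HV N) ℂ, hTw φ (hTw φ (hTw φ μ)) = μ := fun μ =>
    DFunLike.ext _ _ fun x => by rw [hTw_apply, hTw_apply, hTw_apply, h.cube]
  have hsurj : Function.Surjective fun x : HV N => φ x - x := by
    refine Finite.injective_iff_surjective.1 fun a b e => ?_
    have : φ (a - b) = a - b := by
      change φ a - a = φ b - b at e
      rw [map_sub]
      linear_combination e
    exact sub_eq_zero.1 (h.free _ this)
  have hfreeT : ∀ μ : AddChar (HV N) ℂ, hTw φ μ = μ → μ = 0 := fun μ hμ =>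
    AddChar.eq_zero_iff.2 fun y => by
      obtain ⟨x, rfl⟩ := hsurj y
      simp only
      rw [AddChar.map_sub_eq_div, ← hTw_apply, hμ, div_self]
      exact (AddChar.val_isUnit μ x).ne_zero
  have htw0 : ∀ μ : AddChar (HV N) ℂ, μ ≠ 0 → hTw φ μ ≠ 0 := fun μ hμ e => hμ <| by
    rw [← hcube μ, e]
    exact DFunLike.ext _ _ fun x => by simp [hTw_apply]
  set orb : AddChar (HV N) ℂ → Finset (AddChar (HV N) ℂ) := fun μ =>
    {μ, hTw φ μ, hTw φ (hTw φ μ)} with horb
  have hrot : ∀ μ, orb (hTw φ μ) = orb μ := fun μ => by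
    ext ν
    simp only [horb, Finset.mem_insert, Finset.mem_singleton, hcube]
    tauto
  have horbeq : ∀ μ ν, μ ∈ orb ν → orb μ = orb ν := by
    intro μ ν hμ
    simp only [horb, Finset.mem_insert, Finset.mem_singleton] at hμ
    rcases hμ with e | e | e <;> subst e
    · rfl
    · exact hrot ν
    · rw [hrot, hrot]
  have hself : ∀ μ, μ ∈ orb μ := fun μ => by simp [horb]
  set S := (Finset.univ.erase (0 : AddChar (HV N) ℂ)).image orb with hS
  have hrep : ∀ j : {s // s ∈ S}, ∃ μ, μ ≠ 0 ∧ orb μ = j.1 := fun j => by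
    obtain ⟨μ, hμ, e⟩ := Finset.mem_image.1 j.2
    exact ⟨μ, (Finset.mem_erase.1 hμ).1, e⟩
  choose r hr0 hr using hrep
  have hcard : 5 ≤ Fintype.card {s // s ∈ S} := by
    rw [Fintype.card_coe]
    have h1 := Finset.card_le_mul_card_image (f := orb) (Finset.univ.erase (0 : AddChar (HV N) ℂ)) 3
      (fun s hs => by
        obtain ⟨μ, -, rfl⟩ := Finset.mem_image.1 hs
        refine le_trans (Finset.card_le_card fun ν hν => ?_) (Finset.card_le_three : (orb μ).card ≤ 3)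
        obtain ⟨-, e⟩ := Finset.mem_filter.1 hν
        have := hself ν
        rwa [e] at this)
    rw [Finset.card_erase_of_mem (Finset.mem_univ _), Finset.card_univ, AddChar.card_eq, hv_card,
      ← hS] at h1
    have h16 : 4 * 4 ≤ N * N :=
      Nat.mul_le_mul (Nat.le_of_dvd (NeZero.pos N) h.four) (Nat.le_of_dvd (NeZero.pos N) h.four)
    omega
  have hgram : ∀ a b : AddChar (HV N) ℂ, a ≠ 0 → b ≠ 0 →
      ∑ χ ∈ B, homV ι a χ * homV ι b χ =
        (if a = b then 1 else 0) + (if a = hTw φ b then 1 else 0) +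
          (if a = hTw φ (hTw φ b) then 1 else 0) + 2 := by
    intro a b ha hb
    have := h.gram hM ha hb
    rw [← Finset.add_sum_erase _ _ h1B, homV_irrOne ha, homV_irrOne hb, ← hB] at this
    omega
  have hrel : ∀ a : AddChar (HV N) ℂ, a ≠ 0 → ∀ ρ : G, ¬ 2 ∣ orderOf ρ →
      ∑ χ ∈ B, (homV ι a χ : ℂ) * (χ : G → ℂ) ρ = 1 := by
    intro a ha ρ hρ
    have := h.regular_rel hM a hρ
    rw [← Finset.add_sum_erase _ _ h1B, homV_irrOne ha, ← hB, irrOne_apply] at this
    push_cast at this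
    linear_combination this
  have hdeg : ∀ a : AddChar (HV N) ℂ, a ≠ 0 →
      ∑ χ ∈ B, homV ι a χ * (charDegree (χ : G → ℂ) : ℤ) = 1 := by
    intro a ha
    have := hrel a ha 1 (by simp)
    simp only [charDegree_spec, ← Int.cast_natCast (R := ℂ), ← Int.cast_mul, ← Int.cast_sum] at this
    exact_mod_cast this
  obtain ⟨e₂, e₃, s, a, b, f, he₂, he₃, hs, ha, hb, hab, hfB, hfi, hfne, hw⟩ :=
    homo_select (B := B) (fun j χ => homV ι (r j) χ) (fun χ => (charDegree (χ : G → ℂ) : ℤ))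
      (fun χ _ => charDegree_pos' χ)
      (fun j => by
        rw [hgram _ _ (hr0 j) (hr0 j), if_pos rfl, if_neg fun e => hr0 j (hfreeT _ e.symm),
          if_neg fun e => hr0 j (hfreeT _ (by nth_rewrite 1 [e]; exact hcube (r j)))]
        rfl)
      (fun i j hij => by
        have hni : r i ∉ orb (r j) := fun hm =>
          hij (Subtype.ext (by rw [← hr i, ← hr j]; exact horbeq _ _ hm))
        simp only [horb, Finset.mem_insert, Finset.mem_singleton, not_or] at hni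
        rw [hgram _ _ (hr0 i) (hr0 j), if_neg hni.1, if_neg hni.2.1, if_neg hni.2.2]
        rfl)
      (fun j => hdeg _ (hr0 j)) hcard
  have hv : ∀ μ : AddChar (HV N) ℂ, μ ≠ 0 → ∃ j : {s // s ∈ S}, j.1 = orb μ ∧
      ∀ χ, homV ι μ χ = homV ι (r j) χ := by
    intro μ hμ
    have hmem : orb μ ∈ S :=
      Finset.mem_image.2 ⟨μ, Finset.mem_erase.2 ⟨hμ, Finset.mem_univ _⟩, rfl⟩
    refine ⟨⟨_, hmem⟩, rfl, fun χ => ?_⟩
    have hm : μ ∈ orb (r ⟨_, hmem⟩) := by rw [hr]; exact hself μ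
    simp only [horb, Finset.mem_insert, Finset.mem_singleton] at hm
    have hgen : ∀ μ' ν' : AddChar (HV N) ℂ,
        μ' = ν' ∨ μ' = hTw φ ν' ∨ μ' = hTw φ (hTw φ ν') → homV ι μ' χ = homV ι ν' χ := by
      rintro μ' ν' (rfl | rfl | rfl) <;> simp only [h.homV_tw]
    exact hgen _ _ hm
  obtain ⟨j₀, hj₀, hv₀⟩ := hv μ₀ hμ₀
  have hva : ∀ μ : AddChar (HV N) ℂ, μ ≠ 0 → homV ι μ a = e₂ := fun μ hμ => by
    obtain ⟨j, -, e⟩ := hv μ hμ
    rw [e, show homV ι (r j) a = _ from hw j a ha, if_pos rfl, if_neg hab,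
      if_neg (Ne.symm (hfne j).1), add_zero, add_zero]
  have hvb : ∀ μ : AddChar (HV N) ℂ, μ ≠ 0 → homV ι μ b = e₃ := fun μ hμ => by
    obtain ⟨j, -, e⟩ := hv μ hμ
    rw [e, show homV ι (r j) b = _ from hw j b hb, if_pos rfl, if_neg (Ne.symm hab),
      if_neg (Ne.symm (hfne j).2), zero_add, add_zero]
  have hconst : ∀ (χ : IrrCharacter G) (t : ℤ),
      (∀ μ : AddChar (HV N) ℂ, μ ≠ 0 → homV ι μ χ = t) →
      ∀ x : HV N, x ≠ 0 → (χ : G → ℂ) (hev ι x) = -(t : ℂ) := by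
    intro χ t ht x hx
    rw [homV_value χ hx, Finset.sum_congr rfl fun (μ : AddChar (HV N) ℂ) _ => show
        μ x * (homV ι μ χ : ℂ) = (t : ℂ) * μ x - (if μ = 0 then (t : ℂ) else 0) by
      by_cases hμ : μ = 0
      · subst hμ; simp [homV_zero]
      · rw [ht μ hμ, if_neg hμ]; ring,
      Finset.sum_sub_distrib, ← Finset.mul_sum, AddChar.sum_apply_eq_ite, if_neg hx,
      Finset.sum_ite_eq', if_pos (Finset.mem_univ _)]
    ring
  refine ⟨a, b, f j₀, -e₂, -e₃, s, by omega, by omega, hs,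
    mem_dihB0.1 (Finset.mem_erase.1 ha).2, mem_dihB0.1 (Finset.mem_erase.1 hb).2,
    mem_dihB0.1 (Finset.mem_erase.1 (hfB j₀)).2, (Finset.mem_erase.1 ha).1,
    fun x hx => ⟨?_, ?_, ?_⟩, fun ρ hρ => ?_⟩
  · rw [hconst a e₂ hva x hx, Int.cast_neg]
  · rw [hconst b e₃ hvb x hx, Int.cast_neg]
  · have hvf : ∀ μ : AddChar (HV N) ℂ,
        homV ι μ (f j₀) = if μ ∈ orb μ₀ then s else 0 := by
      intro μ
      by_cases hμ : μ = 0
      · subst hμ
        rw [homV_zero, if_neg]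
        simp only [horb, Finset.mem_insert, Finset.mem_singleton, not_or]
        exact ⟨Ne.symm hμ₀, Ne.symm (htw0 _ hμ₀), Ne.symm (htw0 _ (htw0 _ hμ₀))⟩
      obtain ⟨j, hj, e⟩ := hv μ hμ
      rw [e, show homV ι (r j) (f j₀) = _ from hw j _ (hfB j₀), if_neg (hfne j₀).1,
        if_neg (hfne j₀).2, zero_add, zero_add]
      refine if_congr ⟨fun e' => ?_, fun e' => ?_⟩ rfl rfl
      · obtain rfl := hfi e'
        rw [← hj₀, hj]
        exact hself μ
      · exact congrArg f (Subtype.ext (hj₀.trans ((horbeq _ _ e').symm.trans hj.symm)))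
    have hne : μ₀ ≠ hTw φ μ₀ ∧ μ₀ ≠ hTw φ (hTw φ μ₀) ∧ hTw φ μ₀ ≠ hTw φ (hTw φ μ₀) :=
      ⟨fun e => hμ₀ (hfreeT _ e.symm),
        fun e => hμ₀ (hfreeT _ (by nth_rewrite 1 [e]; exact hcube μ₀)),
        fun e => htw0 _ hμ₀ (hfreeT _ e.symm)⟩
    rw [homV_value (f j₀) hx]
    simp only [hvf, Int.cast_ite, Int.cast_zero, mul_ite, mul_zero, Finset.sum_ite_mem,
      Finset.univ_inter]
    simp only [horb]
    rw [Finset.sum_insert (by simp [hne.1, hne.2.1]), Finset.sum_pair hne.2.2]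
    simp only [hTw_apply]
    ring
  · have h1 := hrel _ (hr0 j₀) ρ hρ
    rw [Finset.sum_congr rfl fun χ hχ => show (homV ι (r j₀) χ : ℂ) * (χ : G → ℂ) ρ =
        (if χ = a then (e₂ : ℂ) * (χ : G → ℂ) ρ else 0) +
          (if χ = b then (e₃ : ℂ) * (χ : G → ℂ) ρ else 0) +
          (if χ = f j₀ then (s : ℂ) * (χ : G → ℂ) ρ else 0) by
      rw [show homV ι (r j₀) χ = _ from hw j₀ χ hχ]; split_ifs <;> push_cast <;> ring,
      Finset.sum_add_distrib, Finset.sum_add_distrib, Finset.sum_ite_eq', Finset.sum_ite_eq',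
      Finset.sum_ite_eq', if_pos ha, if_pos hb, if_pos (hfB j₀)] at h1
    push_cast
    linear_combination -h1

/-- The two-part of a product of two involutions is inverted. -/
theorem isConj_inv_of_ppart {t u x : G} (ht : t * t = 1) (hu : u * u = 1)
    (hx : IsPPart 2 (t * u) x) : IsConj x x⁻¹ := by
  obtain ⟨y, hxy, hc, hx2, hy⟩ := hx
  refine isConj_iff.2 ⟨t, isPPart_unique Nat.prime_two (g := (t * u)⁻¹) ?_ ?_⟩
  · refine ⟨t * y * t⁻¹, ?_, ?_, ?_, ?_⟩
    · have ht' : t⁻¹ = t := inv_eq_of_mul_eq_one_left ht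
      have hu' : u⁻¹ = u := inv_eq_of_mul_eq_one_left hu
      calc t * x * t⁻¹ * (t * y * t⁻¹) = t * (x * y) * t⁻¹ := by group
        _ = t * t * (u * t⁻¹) := by rw [hxy]; group
        _ = (t * u)⁻¹ := by rw [ht, one_mul, mul_inv_rev, hu']
    · show t * x * t⁻¹ * (t * y * t⁻¹) = t * y * t⁻¹ * (t * x * t⁻¹)
      calc t * x * t⁻¹ * (t * y * t⁻¹) = t * (x * y) * t⁻¹ := by group
        _ = t * (y * x) * t⁻¹ := by rw [hc.eq]
        _ = _ := by group
    · rwa [show t * x * t⁻¹ = (MulAut.conj t).toMonoidHom x by simp,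
        orderOf_injective _ (MulAut.conj t).injective]
    · rwa [show t * y * t⁻¹ = (MulAut.conj t).toMonoidHom y by simp,
        orderOf_injective _ (MulAut.conj t).injective]
  · refine ⟨y⁻¹, ?_, hc.inv_inv, by rwa [orderOf_inv], by rwa [orderOf_inv]⟩
    rw [← mul_inv_rev, ← hc.eq, hxy]

/-- A nontrivial linear character which is trivial on all centralizers in the Sylow subgroup. -/
theorem HomoData.exists_linear (h : HomoData P ι φ) (hM : IsPModular 2 M) :
    ∃ l : G →* ℂˣ, (∃ g, l g ≠ 1) ∧ (∀ x, l (hev ι x) = 1) ∧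
      ∀ (x : HV N), x ≠ 0 → ∀ y : G, Commute (hev ι x) y → ¬ 2 ∣ orderOf y → l y = 1 := by
  classical
  have hN : 4 ≤ N := Nat.le_of_dvd (NeZero.pos N) h.four
  obtain ⟨ν, hν⟩ := (AddChar.exists_apply_ne_zero (a := (((2 : ℕ) : ZMod N), (0 : ZMod N)))).2
    (fun e => by
      have := congrArg Prod.fst e
      simp only [Prod.fst_zero, ZMod.natCast_eq_zero_iff] at this
      exact absurd (Nat.le_of_dvd two_pos this) (by omega))
  have hμ0 : ν + ν ≠ 0 := fun e => hν <| by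
    have := AddChar.eq_zero_iff.1 e ((1 : ZMod N), (0 : ZMod N))
    rwa [AddChar.add_apply, ← AddChar.map_add_eq_mul, Prod.mk_add_mk, add_zero,
      ← Nat.cast_one, ← Nat.cast_add] at this
  have hμinv : ∀ x : HV N, x + x = 0 → (ν + ν) x = 1 := fun x hx => by
    rw [AddChar.add_apply, ← AddChar.map_add_eq_mul, hx, AddChar.map_zero_eq_one]
  obtain ⟨c, d, f, δ₂, δ₃, δ, hδ₂, hδ₃, hδ, hcB, hdB, hfB, hc1, hval, hreg⟩ :=
    h.principal_part hM hμ0
  have hval3 : ∀ x : HV N, x ≠ 0 → x + x = 0 → (f : G → ℂ) (hev ι x) = δ * 3 := by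
    intro x hx hxx
    rw [(hval x hx).2.2, hμinv x hxx, hμinv _ (by rw [← map_add, hxx, map_zero]),
      hμinv _ (by rw [← map_add, ← map_add, hxx, map_zero, map_zero])]
    norm_num
  have hsq : ∀ {t : ℤ}, (t = 1 ∨ t = -1) → (t : ℂ) * t = 1 := by
    rintro t (rfl | rfl) <;> simp
  set Θ : G → ℂ := fun g =>
    1 + (δ₂ : ℂ) * (c : G → ℂ) g + (δ₃ : ℂ) * (d : G → ℂ) g - (δ : ℂ) * (f : G → ℂ) g with hΘdef
  have hcl : ∀ g t : G, Θ (t * g * t⁻¹) = Θ g := fun g t => by
    simp only [hΘdef, isClassFunction_character (irr_isCharacter c.2) g t,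
      isClassFunction_character (irr_isCharacter d.2) g t,
      isClassFunction_character (irr_isCharacter f.2) g t]
  have hprod : ∀ t u : G, t * t = 1 → u * u = 1 → Θ (t * u) = 0 := by
    intro t u ht hu
    obtain ⟨x, hx⟩ := exists_isPPart Nat.prime_two (t * u)
    have hinv := isConj_inv_of_ppart ht hu hx
    obtain ⟨y, hxy, hcomm, hx2, hy⟩ := hx
    obtain ⟨w, hw⟩ := h.exists_conj hx2
    obtain ⟨g, hg⟩ := isConj_iff.1 hw
    have hwneg : IsConj (hev ι w) (hev ι (-w)) := by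
      refine hw.symm.trans (hinv.trans ?_)
      refine isConj_iff.2 ⟨g, ?_⟩
      rw [hev_neg, ← hg, conj_inv]
    have hww : w + w = 0 := by
      rcases h.conj_cases hwneg with e | e | e
      · nth_rewrite 1 [← e]
        exact neg_add_cancel w
      · have e2 : φ (φ w) = w := by rw [← e, map_neg, ← e, neg_neg]
        have e3 : φ w = w := by
          conv_lhs => rw [← e2]
          exact h.cube w
        rw [h.free w e3, add_zero]
      · have e2 : φ w = w := by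
          have := congrArg φ e
          rw [h.cube, map_neg] at this
          -- `φ w = -w`, hence `φ (φ w) = w`
          have e1 : φ w = -w := by rw [← neg_neg (φ w), this]
          have e3 : φ (φ w) = w := by rw [e1, map_neg, e1, neg_neg]
          conv_lhs => rw [← e3]
          exact h.cube w
        rw [h.free w e2, add_zero]
    have hgy : g * (t * u) * g⁻¹ = hev ι w * (g * y * g⁻¹) := by
      rw [← hxy, ← hg]; group
    rw [← hcl (t * u) g, hgy]
    have hy' : ¬ 2 ∣ orderOf (g * y * g⁻¹) := by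
      rwa [show g * y * g⁻¹ = (MulAut.conj g).toMonoidHom y by simp,
        orderOf_injective _ (MulAut.conj g).injective]
    by_cases hw0 : w = 0
    · subst hw0
      rw [hev_zero, one_mul]
      simp only [hΘdef]
      rw [hreg _ hy']
      ring
    have hcy : Commute (hev ι w) (g * y * g⁻¹) := by
      rw [← hg]
      show g * x * g⁻¹ * (g * y * g⁻¹) = g * y * g⁻¹ * (g * x * g⁻¹)
      calc g * x * g⁻¹ * (g * y * g⁻¹) = g * (x * y) * g⁻¹ := by group
        _ = g * (y * x) * g⁻¹ := by rw [hcomm.eq]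
        _ = _ := by group
    have hsec := (nilp_section hM (h.ppower w) (h.cent hw0).1).1
    simp only [hΘdef]
    rw [hsec c hcB _ hcy hy', hsec d hdB _ hcy hy', hsec f hfB _ hcy hy', (hval w hw0).1,
      (hval w hw0).2.1, hval3 w hw0 hww, hsq hδ₂, hsq hδ₃, ← mul_assoc, hsq hδ]
    norm_num
  -- an involution
  set z₀ : HV N := (((N / 2 : ℕ) : ZMod N), 0) with hz₀
  have h2 : 2 ∣ N := (dvd_mul_right 2 2).trans h.four
  have hzz : z₀ + z₀ = 0 := Prod.ext
    (by
      show ((N / 2 : ℕ) : ZMod N) + ((N / 2 : ℕ) : ZMod N) = 0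
      rw [← Nat.cast_add, ← two_mul, Nat.mul_div_cancel' h2, ZMod.natCast_self])
    (add_zero _)
  have hz0 : z₀ ≠ 0 := fun e =>
    Fusion.DihedralFours.half_ne_zero h2 (congrArg Prod.fst e)
  set J := hev ι z₀ with hJdef
  have hJ2 : J * J = 1 := by rw [hJdef, ← hev_add, hzz, hev_zero]
  have hJconj : ∀ a : G, a * J * a⁻¹ * (a * J * a⁻¹) = 1 := fun a => by
    rw [show a * J * a⁻¹ * (a * J * a⁻¹) = a * (J * J) * a⁻¹ by group, hJ2, mul_one, mul_inv_cancel]
  have hsum : ∑ a : G, ∑ b : G, Θ (a * J * a⁻¹ * (b * J * b⁻¹)) = 0 :=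
    Finset.sum_eq_zero fun a _ => Finset.sum_eq_zero fun b _ => hprod _ _ (hJconj a) (hJconj b)
  have hexp : ∑ a : G, ∑ b : G, Θ (a * J * a⁻¹ * (b * J * b⁻¹)) = (Nat.card G : ℂ) ^ 2 *
      (1 + (δ₂ : ℂ) / (c : G → ℂ) 1 + (δ₃ : ℂ) / (d : G → ℂ) 1 - 9 * δ / (f : G → ℂ) 1) := by
    simp only [hΘdef, Finset.sum_sub_distrib, Finset.sum_add_distrib, ← Finset.mul_sum,
      Finset.sum_const, Finset.card_univ, sum_pair_irr, hJdef, (hval z₀ hz0).1,
      (hval z₀ hz0).2.1, hval3 z₀ hz0 hzz, nsmul_eq_mul, Nat.card_eq_fintype_card]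
    have e2 : ((δ₂ : ℂ)) ^ 2 = 1 := by rw [pow_two, hsq hδ₂]
    have e3 : ((δ₃ : ℂ)) ^ 2 = 1 := by rw [pow_two, hsq hδ₃]
    have e1 : ((δ : ℂ) * 3) ^ 2 = 9 := by rw [mul_pow, pow_two, hsq hδ]; norm_num
    rw [e1, e2, e3]
    ring
  rw [hexp, mul_eq_zero] at hsum
  replace hsum := hsum.resolve_left (pow_ne_zero _ (Nat.cast_ne_zero.2 Nat.card_pos.ne'))
  have hreg1 := hreg 1 (by simp)
  have hc0 : (c : G → ℂ) 1 ≠ 0 := irr_one_ne_zero c.2
  have hd0 : (d : G → ℂ) 1 ≠ 0 := irr_one_ne_zero d.2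
  have hf0 : (f : G → ℂ) 1 ≠ 0 := irr_one_ne_zero f.2
  have e0 : ((c : G → ℂ) 1 * (d : G → ℂ) 1 + δ₂ * (d : G → ℂ) 1 + δ₃ * (c : G → ℂ) 1) *
      (f : G → ℂ) 1 - 9 * δ * ((c : G → ℂ) 1 * (d : G → ℂ) 1) = 0 := by
    field_simp at hsum
    linear_combination hsum
  have e1 : (1 + δ₂ * (c : G → ℂ) 1 + δ₃ * (d : G → ℂ) 1) *
      ((c : G → ℂ) 1 * (d : G → ℂ) 1 + δ₂ * (d : G → ℂ) 1 + δ₃ * (c : G → ℂ) 1) =
      9 * ((c : G → ℂ) 1 * (d : G → ℂ) 1) := by
    rw [hreg1]
    linear_combination (δ : ℂ) * e0 + (9 * ((c : G → ℂ) 1 * (d : G → ℂ) 1)) * hsq hδ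
  rw [charDegree_spec, charDegree_spec] at e1
  set A : ℕ := charDegree (c : G → ℂ)
  set B : ℕ := charDegree (d : G → ℂ)
  have e1' : (1 + δ₂ * (A : ℤ) + δ₃ * B) * ((A : ℤ) * B + δ₂ * B + δ₃ * A) = 9 * ((A : ℤ) * B) := by
    exact_mod_cast e1
  have hodd : ∀ (χ : IrrCharacter G) (t : ℤ), (t = 1 ∨ t = -1) → (χ : G → ℂ) J = t →
      Odd ((charDegree (χ : G → ℂ) : ℤ)) := by
    intro χ t ht hv
    obtain ⟨z, k, hz, hk, hp⟩ := invol_parity (irr_isCharacter χ.2) (t := J) (by rw [pow_two, hJ2])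
    have e2 : z = t := Int.cast_injective (hz.symm.trans hv)
    have e3 : k = (charDegree (χ : G → ℂ) : ℤ) :=
      Int.cast_injective (α := ℂ) (by rw [← hk, charDegree_spec, Int.cast_natCast])
    rw [Int.odd_iff]
    omega
  obtain ⟨rfl, -, hA, -⟩ := homo_degree_eq hδ₂ hδ₃ (charDegree_pos' c) (charDegree_pos' d)
    (hodd c δ₂ hδ₂ (hval z₀ hz0).1) (hodd d δ₃ hδ₃ (hval z₀ hz0).2.1) e1'
  have hcone : (c : G → ℂ) 1 = 1 := by
    rw [charDegree_spec, show charDegree (c : G → ℂ) = 1 by exact_mod_cast hA, Nat.cast_one]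
  obtain ⟨l, hl⟩ := exists_hom_of_degree_one (irr_isCharacter c.2) hcone
  refine ⟨l, ?_, fun x => ?_, fun x hx y hc hy => ?_⟩
  · by_contra hno
    push Not at hno
    refine hc1 (Subtype.ext ?_)
    rw [hl]
    funext g
    rw [hno g, Units.val_one]
    rfl
  · by_cases hx : x = 0
    · rw [hx, hev_zero, map_one]
    · refine Units.ext ?_
      rw [← congrFun hl, (hval x hx).1]
      simp
  · have := (nilp_section hM (h.ppower x) (h.cent hx).1).1 c hcB y hc hy
    rw [hl] at this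
    simp only [map_mul, Units.val_mul] at this
    exact Units.ext ((mul_eq_left₀ (Units.ne_zero _)).1 this)

/-- The Sylow subgroup is normal. -/
theorem homocyclic_sylow_two (P : Sylow 2 G) (ι : Multiplicative (HV N) →* G) (hN4 : 4 ∣ N)
    (hNk : ∃ k, N = 2 ^ k) (hinj : Function.Injective ι) (hrange : ι.range = (P : Subgroup G))
    (hO : ∀ K : Subgroup G, K.Normal → Odd (Nat.card K) → K = ⊥) :
    (P : Subgroup G).Normal ∧ Subgroup.centralizer (P : Set G) = (P : Subgroup G) ∧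
      ((P : Subgroup G).index = 1 ∨ (P : Subgroup G).index = 3) := by
  classical
  haveI : Fact (Nat.Prime 2) := ⟨Nat.prime_two⟩
  have hab : (P : Subgroup G) ≤ Subgroup.centralizer ((P : Subgroup G) : Set G) := by
    intro a ha
    refine Subgroup.mem_centralizer_iff.2 fun b hb => ?_
    obtain ⟨x, rfl⟩ := hrange.ge ha
    obtain ⟨y, rfl⟩ := hrange.ge hb
    rw [← map_mul, ← map_mul, mul_comm]
  rcases homocyclic_data P ι hN4 hNk hinj hrange with hnp | ⟨φ, h⟩
  · obtain ⟨K, hK, hKc, hKreg⟩ := hnpc_iff_regular.1 hnp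
    have hbot : K = ⊥ := hO K hK (Nat.odd_iff.2 (by omega))
    have htop : (P : Subgroup G) = ⊤ := by
      refine (P.is_maximal' (Q := ⊤) (fun g => ?_) le_top).symm
      obtain ⟨x, y, hxy, -, ⟨k, hk⟩, hy⟩ := exists_isPPart Nat.prime_two (g : G)
      have hy1 : y = 1 := Subgroup.mem_bot.1 (hbot ▸ hKreg y hy)
      refine ⟨k, Subtype.ext ?_⟩
      rw [Subgroup.coe_pow, ← hxy, hy1, mul_one, ← hk, pow_orderOf_eq_one]
      rfl
    have hcen : Subgroup.centralizer ((P : Subgroup G) : Set G) = (P : Subgroup G) :=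
      le_antisymm (by rw [htop]; exact le_top) hab
    exact ⟨htop ▸ inferInstance, hcen, Or.inl (by rw [htop, Subgroup.index_top])⟩
  obtain ⟨M, hM⟩ := exists_pModular Nat.prime_two
  obtain ⟨l, ⟨g₁, hg₁⟩, hlP, hlC⟩ := h.exists_linear hM
  set K := l.ker with hKdef
  have hx₀ : ((1 : ZMod N), (0 : ZMod N)) ≠ 0 := fun e => by
    have h1 : ((1 : ℕ) : ZMod N) = 0 := by rw [Nat.cast_one]; exact congrArg Prod.fst e
    rw [ZMod.natCast_eq_zero_iff] at h1
    have := Nat.le_of_dvd (NeZero.pos N) h.four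
    have := Nat.le_of_dvd one_pos h1
    omega
  have hPK : (P : Subgroup G) ≤ K := fun g hg => by
    obtain ⟨x, rfl⟩ := h.exists_eq hg
    exact MonoidHom.mem_ker.2 (hlP x)
  have hCK : Subgroup.centralizer ((P : Subgroup G) : Set G) ≤ K := by
    intro g hg
    obtain ⟨x, y, hxy, hc, ⟨k, hk⟩, hy⟩ := exists_isPPart Nat.prime_two g
    have hcz : ∀ z : G, z ∈ Subgroup.zpowers g → Commute (hev ι ((1 : ZMod N), (0 : ZMod N))) z :=
      fun z hz => by
        obtain ⟨i, rfl⟩ := Subgroup.mem_zpowers_iff.1 hz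
        exact (show Commute (hev ι ((1 : ZMod N), (0 : ZMod N))) g from
          Subgroup.mem_centralizer_iff.1 hg _ (h.mem _)).zpow_right i
    have hyg : y ∈ Subgroup.zpowers g := by
      have := preg_mem_zpowers Nat.prime_two g (Subgroup.mem_zpowers g)
      rwa [preg_eq Nat.prime_two (⟨y, hxy, hc, ⟨k, hk⟩, hy⟩ : IsPPart 2 g x), ← hxy,
        inv_mul_cancel_left, hxy] at this
    have hly : l y = 1 := hlC _ hx₀ y (hcz y hyg) hy
    have hlx : l x = 1 := by
      obtain ⟨w, hw⟩ := h.exists_conj ⟨k, hk⟩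
      obtain ⟨u, hu⟩ := isConj_iff.1 hw
      have := hlP w
      rwa [← hu, map_mul, map_mul, map_inv, mul_comm (l u), mul_assoc, mul_inv_cancel, mul_one]
        at this
    rw [hKdef, MonoidHom.mem_ker, ← hxy, map_mul, hlx, hly, one_mul]
  -- no element of the normalizer in the kernel moves the Sylow subgroup
  have hNK : ¬ Subgroup.normalizer ((P : Subgroup G) : Set G) ≤ K := by
    intro hle
    refine hg₁ (MonoidHom.mem_ker.1 ?_)
    have := Sylow.normalizer_sup_eq_top (P.subtype hPK)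
    rw [Sylow.coe_subtype, Subgroup.map_subgroupOf_eq_of_le hPK] at this
    rw [sup_eq_right.2 hle] at this
    exact this.ge (Subgroup.mem_top g₁)
  have hfix : ∀ n ∈ Subgroup.normalizer ((P : Subgroup G) : Set G), n ∈ K →
      ∀ x, n * hev ι x * n⁻¹ = hev ι x := by
    intro n hn hnK
    by_contra hmove
    refine hNK fun m hm => ?_
    have hC : ∀ c : G, (∀ x, c * hev ι x * c⁻¹ = hev ι x) → c ∈ K := fun c hc =>
      hCK (Subgroup.mem_centralizer_iff.2 fun p hp => by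
        obtain ⟨x, rfl⟩ := h.exists_eq hp
        nth_rewrite 1 [← hc x]
        group)
    -- some power of `n` acts as `φ`
    have hgen : ∃ q ∈ K, ∀ x, q * hev ι x * q⁻¹ = hev ι (φ x) := by
      rcases h.norm n hn with q | q | q
      · exact absurd q hmove
      · exact ⟨n, hnK, q⟩
      · refine ⟨n * n, K.mul_mem hnK hnK, fun x => ?_⟩
        rw [show n * n * hev ι x * (n * n)⁻¹ = n * (n * hev ι x * n⁻¹) * n⁻¹ by group, q, q, h.cube]
    obtain ⟨q, hqK, hq⟩ := hgen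
    have hqi : ∀ x, q⁻¹ * hev ι (φ x) * q = hev ι x := fun x => by rw [← hq x]; group
    rcases h.norm m hm with e | e | e
    · exact hC m e
    · have : q⁻¹ * m ∈ K := hC _ fun x => by
        rw [show q⁻¹ * m * hev ι x * (q⁻¹ * m)⁻¹ = q⁻¹ * (m * hev ι x * m⁻¹) * q by group, e, hqi]
      exact (K.mul_mem_cancel_left (K.inv_mem hqK)).1 this
    · have : q⁻¹ * q⁻¹ * m ∈ K := hC _ fun x => by
        rw [show q⁻¹ * q⁻¹ * m * hev ι x * (q⁻¹ * q⁻¹ * m)⁻¹ =
          q⁻¹ * (q⁻¹ * (m * hev ι x * m⁻¹) * q) * q by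
            simp only [mul_inv_rev, inv_inv, mul_assoc], e, hqi, hqi]
      exact (K.mul_mem_cancel_left (K.mul_mem (K.inv_mem hqK) (K.inv_mem hqK))).1 this
  haveI : Fintype K := Fintype.ofFinite _
  have hnpK : HasNormalPComplement 2 K := by
    refine Fusion.hnpc_of_normalizer_le_centralizer (P.subtype hPK) fun c hc => ?_
    have hcN : (c : G) ∈ Subgroup.normalizer ((P : Subgroup G) : Set G) := by
      refine Fusion.mem_normalizer_of_cj_le ?_
      rintro _ ⟨p, hp, rfl⟩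
      exact (Subgroup.mem_normalizer_iff.1 hc ⟨p, hPK hp⟩).1 hp
    refine Subgroup.mem_centralizer_iff.2 fun p hp => Subtype.ext ?_
    obtain ⟨y, hy⟩ := h.exists_eq (g := (p : G)) hp
    show (p : G) * c = c * p
    rw [← hy]
    nth_rewrite 1 [← hfix c hcN c.2 y]
    group
  obtain ⟨L, hLn, hLc, hLreg⟩ := hnpc_iff_regular.1 hnpK
  have hL : L.map K.subtype = ⊥ := by
    refine hO _ ⟨fun a ha g => ?_⟩ ?_
    · obtain ⟨w, hw, rfl⟩ := ha
      have hconjK : g * (w : G) * g⁻¹ ∈ K := l.normal_ker.conj_mem _ w.2 g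
      refine ⟨⟨_, hconjK⟩, hLreg _ fun h2 => hLc ?_, rfl⟩
      rw [Subgroup.orderOf_mk, show g * (w : G) * g⁻¹ = (MulAut.conj g).toMonoidHom w by simp,
        orderOf_injective _ (MulAut.conj g).injective, Subgroup.orderOf_coe] at h2
      exact h2.trans (Subgroup.orderOf_dvd_natCard _ hw)
    · rw [Subgroup.card_map_of_injective K.subtype_injective]
      exact Nat.odd_iff.2 (by omega)
  have hKP : K = (P : Subgroup G) := by
    refine P.is_maximal' (fun g => ?_) hPK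
    obtain ⟨x, y, hxy, hc, ⟨k, hk⟩, hy⟩ := exists_isPPart Nat.prime_two (g : G)
    have hyK : y ∈ K := by
      have := preg_mem_zpowers Nat.prime_two (g : G) g.2
      rwa [preg_eq Nat.prime_two (⟨y, hxy, hc, ⟨k, hk⟩, hy⟩ : IsPPart 2 (g : G) x), ← hxy,
        inv_mul_cancel_left] at this
    have hy1 : y = 1 := by
      have hm : y ∈ L.map K.subtype :=
        ⟨⟨y, hyK⟩, hLreg _ (by rwa [Subgroup.orderOf_mk]), rfl⟩
      rw [hL] at hm
      exact Subgroup.mem_bot.1 hm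
    refine ⟨k, Subtype.ext ?_⟩
    rw [Subgroup.coe_pow, ← hxy, hy1, mul_one, ← hk, pow_orderOf_eq_one]
    rfl
  haveI hPn : (P : Subgroup G).Normal := hKP ▸ l.normal_ker
  have hcen : Subgroup.centralizer ((P : Subgroup G) : Set G) = (P : Subgroup G) :=
    le_antisymm (hKP ▸ hCK) hab
  refine ⟨hPn, hcen, Or.inr ?_⟩
  obtain ⟨n, hn⟩ := h.act
  have hC : ∀ c : G, (∀ x, c * hev ι x * c⁻¹ = hev ι x) → c ∈ (P : Subgroup G) := fun c hc =>
    hcen.le (Subgroup.mem_centralizer_iff.2 fun p hp => by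
      obtain ⟨x, rfl⟩ := h.exists_eq hp
      nth_rewrite 1 [← hc x]
      group)
  have hn3 : n ^ 3 ∈ (P : Subgroup G) := hC _ fun x => by
    rw [show n ^ 3 * hev ι x * (n ^ 3)⁻¹ = n * (n * (n * hev ι x * n⁻¹) * n⁻¹) * n⁻¹ by
        simp only [pow_succ, pow_zero, one_mul, mul_inv_rev, mul_assoc],
      hn, hn, hn, h.cube]
  have hnP : n ∉ (P : Subgroup G) := fun hm => hx₀ (h.free _ (h.ev_inj (by
    rw [← hn, ← Subgroup.mem_centralizer_iff.1 (hab hm) _ (h.mem _), mul_inv_cancel_right])))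
  set π := QuotientGroup.mk' (P : Subgroup G) with hπ
  have hπn : orderOf (π n) = 3 := orderOf_eq_prime
    (by rw [← map_pow, hπ, QuotientGroup.mk'_apply, QuotientGroup.eq_one_iff]; exact hn3)
    (by rw [hπ, QuotientGroup.mk'_apply, Ne, QuotientGroup.eq_one_iff]; exact hnP)
  have hgen : Subgroup.zpowers (π n) = ⊤ := by
    refine eq_top_iff.2 fun q _ => ?_
    obtain ⟨g, rfl⟩ := QuotientGroup.mk'_surjective (P : Subgroup G) q
    have hgN : g ∈ Subgroup.normalizer ((P : Subgroup G) : Set G) := by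
      rw [Subgroup.normalizer_eq_top (H := (P : Subgroup G))]; exact Subgroup.mem_top g
    have key : ∀ i : ℤ, (n ^ i)⁻¹ * g ∈ (P : Subgroup G) → π g ∈ Subgroup.zpowers (π n) :=
      fun i hi => Subgroup.mem_zpowers_iff.2 ⟨i, by
        rw [← map_zpow, hπ, QuotientGroup.mk'_apply, QuotientGroup.mk'_apply, QuotientGroup.eq]
        exact hi⟩
    have hni : ∀ x, n⁻¹ * hev ι (φ x) * n = hev ι x := fun x => by rw [← hn x]; group
    rcases h.norm g hgN with e | e | e
    · exact key 0 (hC _ fun x => by simpa using e x)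
    · exact key 1 (hC _ fun x => by
        rw [zpow_one, show n⁻¹ * g * hev ι x * (n⁻¹ * g)⁻¹ = n⁻¹ * (g * hev ι x * g⁻¹) * n by group,
          e, hni])
    · exact key 2 (hC _ fun x => by
        rw [show (n ^ (2 : ℤ))⁻¹ * g * hev ι x * ((n ^ (2 : ℤ))⁻¹ * g)⁻¹ =
          n⁻¹ * (n⁻¹ * (g * hev ι x * g⁻¹) * n) * n by
            simp only [zpow_two, mul_inv_rev, inv_inv, mul_assoc], e, hni, hni])
  rw [Subgroup.index, ← hπn, ← Nat.card_zpowers, hgen, Subgroup.card_top]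

end Cfsg.Agent.Char
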