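import Cfsg.Agent.Lib.Char.Q8Block

/-!
# The principal block: quaternion Sylow subgroups of order eight
-/

set_option autoImplicit false
set_option linter.unusedSectionVars false
set_option linter.style.haveILetI false

namespace Cfsg.Agent.Char

open Cfsg
open scoped ComplexConjugate

universe u

variable {G : Type u} [Group G] [Fintype G] {M : Ideal AlgInt} {x : G} [Fintype (q8C x)]

/-- The three nontrivial characters of the four in `G`. -/
theorem Q8Fus.erase_card (h : Q8Fus x) (hM : IsPModular 2 M) [DecidableEq (IrrCharacter G)] :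
    ((q8four M x).erase irrOne).card = 3 := by
  rw [Finset.card_erase_of_mem (h.irrOne_mem_four hM), (h.four_sq hM).2]

theorem three_signs {ι : Type*} {E : Finset ι} (hE : E.card = 3) {s : ι → ℤ}
    (h1 : ∀ c ∈ E, s c = 1 ∨ s c = -1) (hs : ∑ c ∈ E, s c = -1) :
    ∃ k ∈ E, s k = 1 ∧ ∀ c ∈ E, c ≠ k → s c = -1 := by
  classical
  obtain ⟨a, b, c, hab, hac, hbc, rfl⟩ := Finset.card_eq_three.mp hE
  rw [Finset.sum_insert (by simp [hab, hac]), Finset.sum_pair hbc] at hs
  have ha := h1 a (by simp)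
  have hb := h1 b (by simp)
  have hc := h1 c (by simp)
  rcases ha with ha | ha
  · refine ⟨a, by simp, ha, fun d hd hne => ?_⟩
    simp only [Finset.mem_insert, Finset.mem_singleton] at hd
    rcases hd with rfl | rfl | rfl
    · exact absurd rfl hne
    · omega
    · omega
  rcases hb with hb | hb
  · refine ⟨b, by simp, hb, fun d hd hne => ?_⟩
    simp only [Finset.mem_insert, Finset.mem_singleton] at hd
    rcases hd with rfl | rfl | rfl
    · exact ha
    · exact absurd rfl hne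
    · omega
  · refine ⟨c, by simp, by omega, fun d hd hne => ?_⟩
    simp only [Finset.mem_insert, Finset.mem_singleton] at hd
    rcases hd with rfl | rfl | rfl
    · exact ha
    · exact hb
    · exact absurd rfl hne

/-- The shape of a column: signs on the four, and one further entry. -/
theorem Q8Fus.column_shape (h : Q8Fus x) (hM : IsPModular 2 M) {j : IrrCharacter (q8C x)}
    (hj : j ∈ q8three M (q8x x)) :
    (∀ χ ∈ q8four M x, q8r x χ j * q8r x χ j = 1) ∧
    (∃ k ∈ q8four M x, k ≠ irrOne ∧ q8u x k * q8r x k j = 1 ∧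
      ∀ χ ∈ q8four M x, χ ≠ irrOne → χ ≠ k → q8u x χ * q8r x χ j = -1) ∧
    (∃ q ∈ principalBlock M G, q ∉ q8four M x ∧ (q8r x q j = 2 ∨ q8r x q j = -2) ∧
      ∀ χ ∈ principalBlock M G, χ ∉ q8four M x → χ ≠ q → q8r x χ j = 0) := by
  classical
  set B := Finset.univ.filter fun χ : IrrCharacter G => χ ∈ principalBlock M G
  have hFB : q8four M x ⊆ B := fun χ hχ =>
    Finset.mem_filter.mpr ⟨Finset.mem_univ _, (mem_q8four.mp hχ).1⟩
  have hrr : ∑ χ ∈ B, q8r x χ j * q8r x χ j = 8 := by rw [h.sum_r_r hM hj hj, if_pos rfl]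
  rw [← Finset.sum_sdiff hFB] at hrr
  have hu0 : ∀ χ ∈ B \ q8four M x, q8u x χ = 0 := fun χ hχ => by
    rw [Finset.mem_sdiff] at hχ
    by_contra hne
    exact hχ.2 (mem_q8four.mpr ⟨(Finset.mem_filter.mp hχ.1).2, hne⟩)
  have hout : ∀ χ ∈ B \ q8four M x, (2 : ℤ) ∣ q8r x χ j := fun χ hχ => by
    have e := (h.q8r_spec hM χ (Finset.mem_filter.mp (Finset.mem_sdiff.mp hχ).1).2 hj).2
    rwa [hu0 χ hχ, sub_zero] at e
  have hin : ∀ χ ∈ q8four M x, 1 ≤ q8r x χ j * q8r x χ j := fun χ hχ => by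
    have e := (h.q8r_spec hM χ (mem_q8four.mp hχ).1 hj).2
    have hu := (h.four_sq hM).1 χ hχ
    suffices h0' : q8r x χ j ≠ 0 by
      have : (0 : ℤ) < q8r x χ j * q8r x χ j := mul_self_pos.mpr h0'
      omega
    intro h0
    rw [h0, zero_sub, dvd_neg] at e
    obtain ⟨l, hl⟩ := e
    rw [hl] at hu
    rcases Int.mul_eq_one_iff_eq_one_or_neg_one.mp hu with ⟨e1, -⟩ | ⟨e1, -⟩ <;> omega
  have hnn : 0 ≤ ∑ χ ∈ B \ q8four M x, q8r x χ j * q8r x χ j :=
    Finset.sum_nonneg fun χ _ => mul_self_nonneg _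
  have hF4 := (h.four_sq hM).2
  have hone : ∀ χ ∈ q8four M x, q8r x χ j * q8r x χ j = 1 := by
    intro χ hχ
    by_contra hne
    have hge := hin χ hχ
    have h9 : 9 ≤ q8r x χ j * q8r x χ j := by
      have hodd : ¬ (2 : ℤ) ∣ q8r x χ j := by
        intro hd
        have e := (h.q8r_spec hM χ (mem_q8four.mp hχ).1 hj).2
        obtain ⟨l, hl⟩ : (2 : ℤ) ∣ q8u x χ := by simpa using dvd_sub hd e
        have hu := (h.four_sq hM).1 χ hχ
        rw [hl] at hu
        rcases Int.mul_eq_one_iff_eq_one_or_neg_one.mp hu with ⟨e1, -⟩ | ⟨e1, -⟩ <;> omega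
      have h1 : q8r x χ j ≠ 1 := fun e => hne (by rw [e]; rfl)
      have h2 : q8r x χ j ≠ -1 := fun e => hne (by rw [e]; rfl)
      rcases (show 3 ≤ q8r x χ j ∨ q8r x χ j ≤ -3 by omega) with e | e <;> nlinarith
    have := Finset.single_le_sum (f := fun ψ => q8r x ψ j * q8r x ψ j)
      (fun ψ _ => mul_self_nonneg _) hχ
    linarith
  have hsout : ∑ χ ∈ B \ q8four M x, q8r x χ j * q8r x χ j = 4 := by
    rw [Finset.sum_congr rfl hone, Finset.sum_const, hF4] at hrr
    simpa using eq_sub_of_add_eq hrr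
  refine ⟨hone, ?_, ?_⟩
  · have hur : ∑ χ ∈ B, q8u x χ * q8r x χ j = 0 := by exact_mod_cast h.sum_u_r hM hj
    rw [← Finset.sum_sdiff hFB, Finset.sum_eq_zero (fun χ hχ => by rw [hu0 χ hχ, zero_mul]),
      zero_add, ← Finset.add_sum_erase _ _ (h.irrOne_mem_four hM), h.q8u_one, h.q8r_one hM hj] at hur
    obtain ⟨k, hk, hk1, hk2⟩ := three_signs (h.erase_card hM)
      (s := fun χ => q8u x χ * q8r x χ j) (fun χ hχ => by
        have hχ' := (Finset.mem_erase.mp hχ).2
        refine Int.eq_one_or_neg_one_of_mul_eq_one (v := q8u x χ * q8r x χ j) ?_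
        calc q8u x χ * q8r x χ j * (q8u x χ * q8r x χ j) =
            q8u x χ * q8u x χ * (q8r x χ j * q8r x χ j) := by ring
          _ = 1 := by rw [(h.four_sq hM).1 χ hχ', hone χ hχ', mul_one]) (by omega)
    exact ⟨k, (Finset.mem_erase.mp hk).2, (Finset.mem_erase.mp hk).1, hk1,
      fun χ hχ h1 h2 => hk2 χ (Finset.mem_erase.mpr ⟨h1, hχ⟩) h2⟩
  · obtain ⟨q, hq, hq0⟩ := Finset.exists_ne_zero_of_sum_ne_zero (s := B \ q8four M x)
      (f := fun χ => q8r x χ j * q8r x χ j) (by rw [hsout]; norm_num)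
    obtain ⟨l, hl⟩ := hout q hq
    have hl0 : l ≠ 0 := fun e => hq0 (by simp [hl, e])
    have hle := Finset.single_le_sum (f := fun ψ => q8r x ψ j * q8r x ψ j)
      (fun ψ _ => mul_self_nonneg _) hq
    rw [hsout, hl] at hle
    have hl1 : l = 1 ∨ l = -1 := by
      have : 0 < l * l := mul_self_pos.mpr hl0
      have : l ≤ 1 ∧ -1 ≤ l := by constructor <;> nlinarith
      omega
    have hqsq : q8r x q j * q8r x q j = 4 := by rcases hl1 with e | e <;> rw [hl, e] <;> norm_num
    refine ⟨q, (Finset.mem_filter.mp (Finset.mem_sdiff.mp hq).1).2, (Finset.mem_sdiff.mp hq).2, ?_,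
      fun χ hχ hχF hne => ?_⟩
    · rcases hl1 with e | e <;> rw [hl, e] <;> norm_num
    · by_contra hr0
      have hmem : χ ∈ (B \ q8four M x).erase q := Finset.mem_erase.mpr
        ⟨hne, Finset.mem_sdiff.mpr ⟨Finset.mem_filter.mpr ⟨Finset.mem_univ _, hχ⟩, hχF⟩⟩
      rw [← Finset.add_sum_erase _ _ hq, hqsq] at hsout
      have h2 := Finset.single_le_sum (f := fun ψ => q8r x ψ j * q8r x ψ j)
        (fun ψ _ => mul_self_nonneg _) hmem
      have := mul_self_pos.mpr hr0
      linarith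

open scoped Classical in
theorem Q8Fus.sum_outside (h : Q8Fus x) (hM : IsPModular 2 M)
    (f : IrrCharacter G → ℂ) {q : IrrCharacter G} (hq : q ∈ principalBlock M G)
    (hqF : q ∉ q8four M x)
    (hz : ∀ χ ∈ principalBlock M G, χ ∉ q8four M x → χ ≠ q → f χ = 0) :
    ∑ χ : IrrCharacter G with χ ∈ principalBlock M G, f χ = f q + ∑ χ ∈ q8four M x, f χ := by
  rw [← Finset.sum_insert hqF]
  refine (Finset.sum_subset (fun χ hχ => ?_) fun χ hχ hn => ?_).symm
  · rcases Finset.mem_insert.mp hχ with rfl | hχ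
    · exact Finset.mem_filter.mpr ⟨Finset.mem_univ _, hq⟩
    · exact Finset.mem_filter.mpr ⟨Finset.mem_univ _, (mem_q8four.mp hχ).1⟩
  · rw [Finset.mem_insert, not_or] at hn
    exact hz χ (Finset.mem_filter.mp hχ).2 hn.2 hn.1

/-- Split a sum over the four at one of them. -/
theorem Q8Fus.four_split (h : Q8Fus x) (hM : IsPModular 2 M) [DecidableEq (IrrCharacter G)]
    (f : IrrCharacter G → ℂ) {k : IrrCharacter G} (hk : k ∈ q8four M x) (hk1 : k ≠ irrOne) :
    ∑ χ ∈ q8four M x, f χ = f irrOne + f k + ∑ χ ∈ ((q8four M x).erase irrOne).erase k, f χ := by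
  rw [← Finset.add_sum_erase _ _ (h.irrOne_mem_four hM),
    ← Finset.add_sum_erase _ _ (Finset.mem_erase.mpr ⟨hk1, hk⟩), add_assoc]

theorem Q8Fus.u_sum_deg (h : Q8Fus x) (hM : IsPModular 2 M) :
    ∑ χ ∈ q8four M x, (q8u x χ : ℂ) * (χ : G → ℂ) 1 = 0 :=
  h.col_four hM (z := 1) ⟨1, one_mul 1, Commute.one_left 1, ⟨0, by simp⟩, by simp⟩ (fun hh => by
    have := h.ord
    rw [isConj_one_right.mp hh, orderOf_one] at this
    omega)

theorem Q8Fus.not_conj_one_t (h : Q8Fus x) : ¬ IsConj (1 : G) (x * x) := fun hh => by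
  have := h.orderOf_sq
  rw [isConj_one_right.mp hh, orderOf_one] at this
  omega

/-- Different columns have different positive entries. -/
theorem Q8Fus.plus_inj (h : Q8Fus x) (hM : IsPModular 2 M) {i j : IrrCharacter (q8C x)}
    (hi : i ∈ q8three M (q8x x)) (hj : j ∈ q8three M (q8x x)) (hij : i ≠ j) {k : IrrCharacter G}
    (hk : k ∈ q8four M x) (hk1 : k ≠ irrOne) (hki : q8u x k * q8r x k i = 1)
    (hkj : q8u x k * q8r x k j = 1) : False := by
  classical
  obtain ⟨-, ⟨ki, hkiF, hki1, hkis, hkio⟩, q, hqB, hqF, hqv, hqz⟩ := h.column_shape hM hi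
  obtain ⟨-, ⟨kj, hkjF, hkj1, hkjs, hkjo⟩, q', hqB', hqF', hqv', hqz'⟩ := h.column_shape hM hj
  have ei : ki = k := by
    by_contra hne
    have := hkio k hk hk1 (Ne.symm hne)
    omega
  have ej : kj = k := by
    by_contra hne
    have := hkjo k hk hk1 (Ne.symm hne)
    omega
  subst ei
  have hsum : ∀ χ ∈ q8four M x, q8r x χ i = q8r x χ j := by
    intro χ hχ
    have hu : q8u x χ * q8u x χ = 1 := (h.four_sq hM).1 χ hχ
    have : q8u x χ * q8r x χ i = q8u x χ * q8r x χ j := by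
      by_cases h1 : χ = irrOne
      · rw [h1, h.q8r_one hM hi, h.q8r_one hM hj]
      by_cases h2 : χ = ki
      · rw [h2, hki, hkj]
      · rw [hkio χ hχ h1 h2, hkjo χ hχ h1 (ej ▸ h2)]
    calc q8r x χ i = q8u x χ * (q8u x χ * q8r x χ i) := by rw [← mul_assoc, hu, one_mul]
      _ = q8u x χ * (q8u x χ * q8r x χ j) := by rw [this]
      _ = q8r x χ j := by rw [← mul_assoc, hu, one_mul]
  -- the outside entries cancel
  have hdot := h.sum_r_r hM hi hj
  rw [if_neg hij] at hdot
  have hdot' := h.sum_outside hM (fun χ => (q8r x χ i : ℂ) * (q8r x χ j : ℂ)) hqB hqF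
    (fun χ h1 h2 h3 => by rw [hqz χ h1 h2 h3, Int.cast_zero, zero_mul])
  have hF : ∑ χ ∈ q8four M x, (q8r x χ i : ℂ) * (q8r x χ j : ℂ) = 4 := by
    rw [Finset.sum_congr rfl (g := fun _ => (1 : ℂ)) fun χ hχ => by
      rw [← hsum χ hχ]; exact_mod_cast (h.column_shape hM hi).1 χ hχ]
    rw [Finset.sum_const, (h.four_sq hM).2]
    norm_num
  rw [hF] at hdot'
  have hq4 : q8r x q i * q8r x q j = -4 := by
    have e : (0 : ℂ) = ((q8r x q i * q8r x q j + 4 : ℤ) : ℂ) := by
      push_cast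
      rw [← hdot']
      exact_mod_cast hdot.symm
    have : (0 : ℤ) = q8r x q i * q8r x q j + 4 := by exact_mod_cast e
    omega
  have hqq : q = q' := by
    by_contra hne
    rw [hqz' q hqB hqF hne, mul_zero] at hq4
    omega
  subst hqq
  have hneg : q8r x q j = -q8r x q i := by
    rcases hqv with e | e <;> rcases hqv' with e' | e' <;> rw [e, e'] at hq4 ⊢ <;> omega
  -- hence the four degrees
  have hg : IsPPart 2 (1 : G) 1 := ⟨1, one_mul 1, Commute.one_left 1, ⟨0, by simp⟩, by simp⟩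
  have s1 := h.sum_r_col hM hi hg h.not_conj_one_t
  have s2 := h.sum_r_col hM hj hg h.not_conj_one_t
  rw [h.sum_outside hM _ hqB hqF (fun χ h1 h2 h3 => by rw [hqz χ h1 h2 h3, Int.cast_zero, zero_mul])] at s1
  rw [h.sum_outside hM _ hqB hqF (fun χ h1 h2 h3 => by rw [hqz' χ h1 h2 h3, Int.cast_zero, zero_mul]),
    hneg, Finset.sum_congr rfl (g := fun χ => (q8r x χ i : ℂ) * (χ : G → ℂ) 1) fun χ hχ => by
      rw [hsum χ hχ]] at s2
  push_cast at s2
  have hS : ∑ χ ∈ q8four M x, (q8r x χ i : ℂ) * (χ : G → ℂ) 1 = 0 := by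
    linear_combination (s1 + s2) / 2
  have hU := h.u_sum_deg hM
  have huk : (q8u x ki : ℂ) = (q8r x ki i : ℂ) := by
    have : q8u x ki = q8r x ki i := by
      rcases Int.mul_eq_one_iff_eq_one_or_neg_one.mp hkis with ⟨a, b⟩ | ⟨a, b⟩ <;> omega
    rw [this]
  rw [h.four_split hM _ hkiF hki1, h.q8r_one hM hi,
    Finset.sum_congr rfl (g := fun χ => -((q8u x χ : ℂ) * (χ : G → ℂ) 1)) fun χ hχ => by
      obtain ⟨h2, h1, hχF⟩ : χ ≠ ki ∧ χ ≠ irrOne ∧ χ ∈ q8four M x := by simpa using hχ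
      have e : q8r x χ i = -q8u x χ := by
        have := hkio χ hχF h1 h2
        have hu : q8u x χ * q8u x χ = 1 := (h.four_sq hM).1 χ hχF
        calc q8r x χ i = q8u x χ * (q8u x χ * q8r x χ i) := by rw [← mul_assoc, hu, one_mul]
          _ = -q8u x χ := by rw [this]; ring
      rw [e]; push_cast; ring,
    Finset.sum_neg_distrib] at hS
  rw [h.four_split hM _ hkiF hki1, h.q8u_one, irrOne_apply] at hU
  rw [irrOne_apply, ← huk] at hS
  obtain ⟨d, hd⟩ := charOne_eq_natCast (irr_isCharacter ki.2)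
  rw [hd] at hU hS
  push_cast at hU hS
  have he : (q8u x ki : ℂ) * d = -1 := by linear_combination (hU + hS) / 2
  have he' : q8u x ki * (d : ℤ) = -1 := by exact_mod_cast he
  rcases Int.eq_one_or_neg_one_of_mul_eq_neg_one he' with e | e
  · rw [e] at he'; omega
  · rw [e] at he'
    have hd1 : (ki : G → ℂ) 1 = 1 := by
      rw [hd, show d = 1 by omega, Nat.cast_one]
    rw [h.q8u_linear hd1] at e
    omega

/-- Different columns have different outside entries. -/
theorem Q8Fus.outside_inj (h : Q8Fus x) (hM : IsPModular 2 M) {i j : IrrCharacter (q8C x)}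
    (hi : i ∈ q8three M (q8x x)) (hj : j ∈ q8three M (q8x x)) (hij : i ≠ j) {q : IrrCharacter G}
    (hqB : q ∈ principalBlock M G) (hqF : q ∉ q8four M x) (hq : q8r x q i ≠ 0) :
    q8r x q j = 0 := by
  classical
  obtain ⟨-, ⟨ki, hkiF, hki1, hkis, hkio⟩, qi, hqiB, hqiF, -, hqz⟩ := h.column_shape hM hi
  obtain ⟨-, ⟨kj, hkjF, hkj1, hkjs, hkjo⟩, -⟩ := h.column_shape hM hj
  have hkne : ki ≠ kj := fun e => h.plus_inj hM hi hj hij hkiF hki1 hkis (e ▸ hkjs)
  have hqq : q = qi := by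
    by_contra hne
    exact hq (hqz q hqB hqF hne)
  subst hqq
  have hdot := h.sum_r_r hM hi hj
  rw [if_neg hij] at hdot
  have hdot' := h.sum_outside hM (fun χ => (q8r x χ i : ℂ) * (q8r x χ j : ℂ)) hqB hqF
    (fun χ h1 h2 h3 => by rw [hqz χ h1 h2 h3, Int.cast_zero, zero_mul])
  have hs : ∀ χ ∈ q8four M x, (q8r x χ i : ℂ) * (q8r x χ j : ℂ) =
      ((q8u x χ * q8r x χ i * (q8u x χ * q8r x χ j) : ℤ) : ℂ) := fun χ hχ => by
    push_cast
    linear_combination (-(q8r x χ i : ℂ) * q8r x χ j) * h.four_sq_x hM hχ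
  have hF : ∑ χ ∈ q8four M x, (q8r x χ i : ℂ) * (q8r x χ j : ℂ) = 0 := by
    rw [h.four_split hM _ hkiF hki1, h.q8r_one hM hi, h.q8r_one hM hj, hs ki hkiF, hkis,
      hkjo ki hkiF hki1 hkne, ← Finset.add_sum_erase _ _ (Finset.mem_erase.mpr
        ⟨hkne.symm, Finset.mem_erase.mpr ⟨hkj1, hkjF⟩⟩), hs kj hkjF, hkjs,
      hkio kj hkjF hkj1 hkne.symm,
      Finset.sum_congr rfl (g := fun _ => (1 : ℂ)) fun χ hχ => by
        obtain ⟨h3, h2, h1, hχF⟩ : χ ≠ kj ∧ χ ≠ ki ∧ χ ≠ irrOne ∧ χ ∈ q8four M x := by simpa using hχ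
        rw [hs χ hχF, hkio χ hχF h1 h2, hkjo χ hχF h1 h3]
        norm_num,
      Finset.sum_const, Finset.card_erase_of_mem (Finset.mem_erase.mpr
        ⟨hkne.symm, Finset.mem_erase.mpr ⟨hkj1, hkjF⟩⟩),
      Finset.card_erase_of_mem (Finset.mem_erase.mpr ⟨hki1, hkiF⟩), h.erase_card hM]
    norm_num
  rw [hF, add_zero] at hdot'
  have e : (q8r x q i : ℂ) * (q8r x q j : ℂ) = 0 := by
    rw [← hdot']
    exact_mod_cast hdot
  have e' : q8r x q i * q8r x q j = 0 := by exact_mod_cast e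
  exact (mul_eq_zero.mp e').resolve_left hq

/-- The value at the involution. -/
theorem Q8Fus.value_t_one (h : Q8Fus x) (hM : IsPModular 2 M) (χ : IrrCharacter G)
    (hχ : χ ∈ principalBlock M G) : (χ : G → ℂ) (x * x) =
      ∑ i ∈ q8three M (q8x x), (q8r x χ i : ℂ) / 2 * q8zeta (q8x x) i 1 := by
  have := h.value_t hM χ hχ 1 (by simp)
  rw [Subgroup.coe_one, mul_one] at this
  rw [this]
  refine Finset.sum_congr rfl fun i hi => ?_
  rw [(h.q8r_spec hM χ hχ hi).1]
  ring

/-- One of the four has the involution in its kernel. -/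
theorem Q8Fus.exists_kernel_char (h : Q8Fus x) (hM : IsPModular 2 M) (ht : OddInvol (x * x)) :
    ∃ χ : IrrCharacter G, χ ≠ irrOne ∧ (χ : G → ℂ) (x * x) = (χ : G → ℂ) 1 := by
  classical
  have hL := h.local_hyp
  obtain ⟨j, hj⟩ : (q8three M (q8x x)).Nonempty := by
    refine Finset.card_pos.mp ?_
    have : q8three M (q8x x) = (q8four M (q8x x)).erase irrOne := by
      ext ψ; simp [mem_q8three]
    rw [this, Finset.card_erase_of_mem (hL.irrOne_mem_four hM), (hL.four_sq hM).2]
    norm_num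
  obtain ⟨-, ⟨k, hkF, hk1, hks, hko⟩, q, hqB, hqF, hqv, hqz⟩ := h.column_shape hM hj
  refine ⟨k, hk1, ?_⟩
  have hkB := (mem_q8four.mp hkF).1
  set σ : ℂ := (q8r x q j : ℂ) / 2 with hσdef
  have hσ : σ * σ = 1 := by
    rw [hσdef]
    rcases hqv with e | e <;> rw [e] <;> norm_num
  set Z := q8zeta (q8x x) j 1 with hZ
  have hzsum := hL.zeta_sum hM (g := (1 : q8C x)) (by simp)
  have hsk : ∀ i ∈ q8three M (q8x x), (q8u x k : ℂ) * q8r x k i = if i = j then 1 else -1 := by
    intro i hi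
    split_ifs with e
    · subst e; exact_mod_cast hks
    · obtain ⟨-, ⟨k', hk'F, hk'1, hk's, hk'o⟩, -⟩ := h.column_shape hM hi
      have hne : k ≠ k' := fun e' => h.plus_inj hM hi hj e hkF hk1 (e' ▸ hk's) hks
      exact_mod_cast hk'o k hkF hk1 hne
  have hA : (q8u x k : ℂ) * (k : G → ℂ) (x * x) = Z - 1 := by
    rw [h.value_t_one hM k hkB, Finset.mul_sum]
    rw [Finset.sum_congr rfl (g := fun i => (if i = j then q8zeta (q8x x) i 1 else 0) -
      q8zeta (q8x x) i 1 / 2) fun i hi => by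
        rw [← mul_assoc, ← mul_div_assoc, hsk i hi]
        split_ifs <;> ring]
    rw [Finset.sum_sub_distrib, Finset.sum_ite_eq', if_pos hj, ← Finset.sum_div, hzsum]
    norm_num
    rfl
  have haq : (q : G → ℂ) (x * x) = σ * Z := by
    rw [h.value_t_one hM q hqB, Finset.sum_eq_single j]
    · intro i hi hne
      rw [h.outside_inj hM hj hi hne.symm hqB hqF (by rcases hqv with e | e <;> omega),
        Int.cast_zero, zero_div, zero_mul]
    · exact fun hn => absurd hj hn
  have hg : IsPPart 2 (1 : G) 1 := ⟨1, one_mul 1, Commute.one_left 1, ⟨0, by simp⟩, by simp⟩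
  set T := ((q8four M x).erase irrOne).erase k
  have hneg : ∀ χ ∈ T, (q8r x χ j : ℂ) = -(q8u x χ : ℂ) := by
    intro χ hχ
    obtain ⟨h2, h1, hχF⟩ : χ ≠ k ∧ χ ≠ irrOne ∧ χ ∈ q8four M x := by simpa [T] using hχ
    have e : (q8u x χ : ℂ) * q8r x χ j = -1 := by exact_mod_cast hko χ hχF h1 h2
    linear_combination (q8u x χ : ℂ) * e - (q8r x χ j : ℂ) * h.four_sq_x hM hχF
  have hrk : (q8r x k j : ℂ) = (q8u x k : ℂ) := by
    have e : (q8u x k : ℂ) * q8r x k j = 1 := by exact_mod_cast hks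
    linear_combination (q8u x k : ℂ) * e - (q8r x k j : ℂ) * h.four_sq_x hM hkF
  -- degrees
  have hU := h.u_sum_deg hM
  rw [h.four_split hM _ hkF hk1, h.q8u_one, irrOne_apply] at hU
  have hR := h.sum_r_col hM hj hg h.not_conj_one_t
  rw [h.sum_outside hM _ hqB hqF (fun χ a b c => by rw [hqz χ a b c, Int.cast_zero, zero_mul]),
    h.four_split hM _ hkF hk1, h.q8r_one hM hj, irrOne_apply, hrk,
    Finset.sum_congr rfl (g := fun χ => -((q8u x χ : ℂ) * (χ : G → ℂ) 1)) fun χ hχ => by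
      rw [hneg χ hχ]; ring, Finset.sum_neg_distrib] at hR
  -- squares
  have hsq : ∀ r : IrrCharacter G → ℤ,
      (∀ g z : G, IsPPart 2 g z → z = 1 →
        ∑ χ : IrrCharacter G with χ ∈ principalBlock M G, (r χ : ℂ) * (χ : G → ℂ) g = 0) →
      ∑ χ : IrrCharacter G with χ ∈ principalBlock M G,
        (r χ : ℂ) * ((χ : G → ℂ) (x * x) ^ 2 / (χ : G → ℂ) 1) = 0 := by
    intro r hr
    have e := sum_coeff_sq_div ht (fun χ => if χ ∈ principalBlock M G then (r χ : ℂ) else 0)
      (fun g hg' => by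
        simp only [ite_mul, zero_mul]
        rw [← Finset.sum_filter]
        exact hr g 1 ⟨g, one_mul g, Commute.one_left g, ⟨0, by simp⟩,
          fun hd => Nat.not_even_iff_odd.mpr hg' (even_iff_two_dvd.mpr hd)⟩ rfl)
    simp only [ite_mul, zero_mul] at e
    rwa [← Finset.sum_filter] at e
  have hQu := hsq (q8u x) (fun g z hgz hz => h.col hM hgz (by
    rw [hz]
    intro hh
    have := h.ord
    rw [isConj_one_right.mp hh, orderOf_one] at this
    omega))
  have hQu' : ∑ χ ∈ q8four M x, (q8u x χ : ℂ) * ((χ : G → ℂ) (x * x) ^ 2 / (χ : G → ℂ) 1) = 0 := by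
    rw [← hQu]
    refine Finset.sum_subset (fun χ hχ => Finset.mem_filter.mpr
      ⟨Finset.mem_univ _, (mem_q8four.mp hχ).1⟩) fun χ hχ hn => ?_
    have : q8u x χ = 0 := by
      by_contra hne
      exact hn (mem_q8four.mpr ⟨(Finset.mem_filter.mp hχ).2, hne⟩)
    rw [this, Int.cast_zero, zero_mul]
  rw [h.four_split hM _ hkF hk1, h.q8u_one, irrOne_apply, irrOne_apply] at hQu'
  have hQr := hsq (fun χ => q8r x χ j) (fun g z hgz hz => h.sum_r_col hM hj hgz (hz ▸ h.not_conj_one_t))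
  rw [h.sum_outside hM _ hqB hqF (fun χ a b c => by rw [hqz χ a b c, Int.cast_zero, zero_mul]),
    h.four_split hM _ hkF hk1, h.q8r_one hM hj, irrOne_apply, irrOne_apply, hrk,
    Finset.sum_congr rfl (g := fun χ => -((q8u x χ : ℂ) * ((χ : G → ℂ) (x * x) ^ 2 / (χ : G → ℂ) 1)))
      fun χ hχ => by rw [hneg χ hχ]; ring, Finset.sum_neg_distrib, haq] at hQr
  push_cast at hU hR hQu' hQr
  have hqσ : (q8r x q j : ℂ) = 2 * σ := by rw [hσdef]; ring
  rw [hqσ] at hR hQr
  set u := (q8u x k : ℂ)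
  set a := (k : G → ℂ) (x * x)
  set d := (k : G → ℂ) 1
  set dq := (q : G → ℂ) 1
  have hu : u * u = 1 := h.four_sq_x hM hkF
  have hd : d ≠ 0 := irr_one_ne_zero k.2
  have hdq : dq ≠ 0 := irr_one_ne_zero q.2
  have eD : σ * dq = -(1 + u * d) := by linear_combination (hR + hU) / 2
  have eQ : σ * ((σ * Z) ^ 2 / dq) = -(1 + u * (a ^ 2 / d)) := by linear_combination (hQr + hQu') / 2
  have eZ : Z = 1 + u * a := by linear_combination -hA
  rw [eZ] at eQ
  field_simp at eQ
  have key : (a - d) ^ 2 * u = 0 := by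
    linear_combination (d + u * a ^ 2) * eD - σ * eQ + ((1 + u * a) ^ 2 * d * (σ * σ + 1)) * hσ
  have hu0 : u ≠ 0 := fun e => by rw [e, mul_zero] at hu; exact zero_ne_one hu
  exact sub_eq_zero.mp (pow_eq_zero_iff two_ne_zero |>.mp ((mul_eq_zero.mp key).resolve_right hu0))

/-- The principal block has seven characters. -/
theorem Q8Fus.card_principal (h : Q8Fus x) (hM : IsPModular 2 M) :
    Nat.card (principalBlock M G) = 7 := by
  classical
  have hP := pmod_prime hM
  have hL := h.local_hyp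
  choose q hqB hqF hqv hqz using fun (j : {j // j ∈ q8three M (q8x x)}) =>
    (h.column_shape hM j.2).2.2
  have hinj : Function.Injective q := by
    intro i j hij
    by_contra hne
    have hne' : (i : IrrCharacter (q8C x)) ≠ j := fun e => hne (Subtype.ext e)
    have hnz : q8r x (q i) i ≠ 0 := by rcases hqv i with e | e <;> omega
    have := h.outside_inj hM i.2 j.2 hne' (hqB i) (hqF i) hnz
    rw [hij] at this
    rcases hqv j with e | e <;> omega
  set S := q8four M x ∪ (Finset.univ.image q) with hS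
  have hB : ∀ χ, χ ∈ principalBlock M G ↔ χ ∈ S := by
    intro χ
    refine ⟨fun hχ => ?_, fun hχ => ?_⟩
    · by_contra hn
      simp only [hS, Finset.mem_union, Finset.mem_image, Finset.mem_univ, true_and, not_or,
        not_exists] at hn
      obtain ⟨hnF, hnq⟩ := hn
      have hu0 : q8u x χ = 0 := by
        by_contra hne
        exact hnF (mem_q8four.mpr ⟨hχ, hne⟩)
      have hr0 : ∀ i ∈ q8three M (q8x x), q8r x χ i = 0 := fun i hi =>
        hqz ⟨i, hi⟩ χ hχ hnF (fun e => hnq ⟨i, hi⟩ e.symm)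
      have hcf := isClassFunction_character (irr_isCharacter χ.2)
      have hvan : ∀ g : G, 2 ∣ orderOf g → (χ : G → ℂ) g = 0 := by
        intro g hg
        obtain ⟨z, hz⟩ := exists_isPPart Nat.prime_two g
        obtain ⟨w, hw, hzw, hk, hwo⟩ := id hz
        rcases h.two_element hk with rfl | e | e
        · rw [one_mul] at hw
          exact absurd (hw ▸ hg) hwo
        · obtain ⟨c, hc⟩ := isConj_iff.mp e
          have hc' : Commute (x * x) (c * w * c⁻¹) := by
            rw [← hc]; simpa [MulAut.conj_apply] using hzw.map (MulAut.conj c)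
          have hwC : c * w * c⁻¹ ∈ q8C x := Subgroup.mem_centralizer_singleton_iff.mpr hc'.symm.eq
          rw [← hcf g c, ← hw, show c * (z * w) * c⁻¹ = c * z * c⁻¹ * (c * w * c⁻¹) by group, hc,
            h.value_t hM χ hχ ⟨_, hwC⟩
              (by rwa [Subgroup.orderOf_mk, ← MulAut.conj_apply, MulEquiv.orderOf_eq])]
          refine Finset.sum_eq_zero fun i hi => ?_
          have e' := (h.q8r_spec hM χ hχ hi).1
          rw [hr0 i hi, Int.cast_zero, eq_comm, mul_eq_zero] at e'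
          rw [e'.resolve_left (by norm_num), mul_zero, zero_mul]
        · obtain ⟨c, hc⟩ := isConj_iff.mp e
          rw [← hcf g c, ← hw, show c * (z * w) * c⁻¹ = c * z * c⁻¹ * (c * w * c⁻¹) by group, hc,
            h.section_const hM χ hχ
              (by rw [← hc]; simpa [MulAut.conj_apply] using hzw.map (MulAut.conj c))
              (by rwa [← MulAut.conj_apply, MulEquiv.orderOf_eq]), ← h.q8u_spec, hu0, Int.cast_zero]
      have hclosed : ∀ a ∈ ({χ} : Set (IrrCharacter G)), ∀ b ∉ ({χ} : Set (IrrCharacter G)),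
          einner 2 (a : G → ℂ) (b : G → ℂ) = 0 := by
        intro a ha b hb
        rw [Set.mem_singleton_iff] at ha hb
        subst ha
        rw [einner, show (a : G → ℂ) * regInd 2 = (a : G → ℂ) from funext fun g => by
          by_cases hg : 2 ∣ orderOf g
          · rw [Pi.mul_apply, regInd_of_sing hg, mul_zero, hvan g hg]
          · rw [Pi.mul_apply, regInd_of_reg hg, mul_one],
          irrC_orth, if_neg (Ne.symm hb)]
      have h1 : (irrOne : IrrCharacter G) = χ := mem_of_linked_closed hM hclosed rfl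
        (sameBlock_symm hP hχ)
      rw [← h1] at hu0
      rw [h.q8u_one] at hu0
      exact one_ne_zero hu0
    · simp only [hS, Finset.mem_union, Finset.mem_image, Finset.mem_univ, true_and] at hχ
      rcases hχ with hχ | ⟨i, rfl⟩
      · exact (mem_q8four.mp hχ).1
      · exact hqB i
  rw [Nat.card_congr (Equiv.subtypeEquivRight hB : principalBlock M G ≃ S),
    Nat.card_eq_fintype_card, Fintype.card_coe, hS, Finset.card_union_of_disjoint,
    Finset.card_image_of_injective _ hinj, (h.four_sq hM).2, Finset.card_univ, Fintype.card_coe]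
  · have : q8three M (q8x x) = (q8four M (q8x x)).erase irrOne := by
      ext ψ; simp [mem_q8three]
    rw [this, Finset.card_erase_of_mem (hL.irrOne_mem_four hM), (hL.four_sq hM).2]
  · rw [Finset.disjoint_left]
    intro χ hχ hχ'
    obtain ⟨i, -, rfl⟩ := Finset.mem_image.mp hχ'
    exact hqF i hχ

end Cfsg.Agent.Char
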