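import Cfsg.Agent.Lib.Char.Ortho
import Cfsg.Agent.Lib.Char.Central

/-!
# Exceptional characters from an isometry
-/

set_option autoImplicit false
set_option linter.unusedSectionVars false

namespace Cfsg.Agent.Char

open Cfsg Module
open scoped ComplexConjugate

universe u

variable {G : Type u} [Group G] [Fintype G]

/-- The integer coordinates of a generalized character. -/
theorem exists_int_coords {θ : G → ℂ} (h : IsGeneralizedCharacter G θ) :
    ∃ z : IrrCharacter G → ℤ, θ = ∑ χ, (z χ : ℂ) • (χ : G → ℂ) ∧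
      ∀ χ : IrrCharacter G, classInner θ (χ : G → ℂ) = z χ := by
  classical
  obtain ⟨a, b, ha, hb, rfl⟩ := h
  obtain ⟨m, hm⟩ := exists_decomposition ha
  obtain ⟨n, hn⟩ := exists_decomposition hb
  refine ⟨fun χ => (m χ : ℤ) - n χ, ?_, fun χ => ?_⟩
  · rw [hm, hn, ← Finset.sum_sub_distrib]
    refine Finset.sum_congr rfl fun χ _ => ?_
    funext x
    simp [sub_mul]
  · rw [classInner_sub_left, decomposition_coeff m hm, decomposition_coeff n hn]
    push_cast
    ring

/-- The norm of an integral combination. -/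
theorem classInner_int_combination {θ : G → ℂ} {z : IrrCharacter G → ℤ}
    (hz : θ = ∑ χ, (z χ : ℂ) • (χ : G → ℂ)) : classInner θ θ = ((∑ χ, z χ * z χ : ℤ) : ℂ) := by
  classical
  conv_lhs => rw [hz]
  rw [classInner_sum_left, Int.cast_sum]
  refine Finset.sum_congr rfl fun χ _ => ?_
  rw [classInner_smul_left, classInner_sum_right, Finset.sum_eq_single χ]
  · rw [classInner_smul_right, irr_self χ.2, mul_one, Int.cast_mul, map_intCast]
  · intro ψ _ hne
    rw [classInner_smul_right, irrC_orth, if_neg hne.symm, mul_zero]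
  · simp

/-- A generalized character of degree zero and norm two is a difference of two irreducibles. -/
theorem exists_pair_of_norm_two {θ : G → ℂ} (h : IsGeneralizedCharacter G θ) (h1 : θ 1 = 0)
    (h2 : classInner θ θ = 2) :
    ∃ a b : IrrCharacter G, a ≠ b ∧ θ = (a : G → ℂ) - (b : G → ℂ) := by
  classical
  obtain ⟨z, hz, -⟩ := exists_int_coords h
  rw [classInner_int_combination hz] at h2
  have hsum : ∑ χ, z χ * z χ = 2 := by exact_mod_cast h2
  set S := Finset.univ.filter fun χ => z χ ≠ 0 with hS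
  have hge : ∀ χ ∈ S, 1 ≤ z χ * z χ := fun χ hχ =>
    mul_self_pos.mpr (by simpa [hS] using hχ)
  have hSsum : ∑ χ ∈ S, z χ * z χ = 2 := by
    rw [← hsum, hS]
    exact Finset.sum_filter_of_ne fun χ _ hne hz0 => hne (by simp [hz0])
  have hone : ∀ χ, z χ = 0 ∨ z χ = 1 ∨ z χ = -1 := fun χ => by
    have hle : z χ * z χ ≤ 2 := hsum ▸
      Finset.single_le_sum (f := fun χ => z χ * z χ) (fun ψ _ => mul_self_nonneg _)
        (Finset.mem_univ χ)
    have : z χ ≤ 1 ∧ -1 ≤ z χ := by constructor <;> nlinarith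
    omega
  have hcard : S.card = 2 := by
    have : ∑ χ ∈ S, z χ * z χ = ∑ _χ ∈ S, (1 : ℤ) := Finset.sum_congr rfl fun χ hχ => by
      have : z χ ≠ 0 := by simpa [hS] using hχ
      rcases hone χ with h | h | h <;> simp_all
    rw [hSsum, Finset.sum_const, nsmul_one] at this
    omega
  obtain ⟨a, b, hab, hSab⟩ := Finset.card_eq_two.mp hcard
  have hθ : θ = (z a : ℂ) • (a : G → ℂ) + (z b : ℂ) • (b : G → ℂ) := by
    rw [hz, ← Finset.sum_pair (f := fun χ => (z χ : ℂ) • (χ : G → ℂ)) hab, ← hSab, hS]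
    exact (Finset.sum_filter_of_ne (p := fun χ => z χ ≠ 0) fun χ _ hne hz0 => hne (by simp [hz0])).symm
  have ha0 : z a ≠ 0 := by
    have : a ∈ S := hSab ▸ Finset.mem_insert_self _ _
    simpa [hS] using this
  have hb0 : z b ≠ 0 := by
    have : b ∈ S := hSab ▸ Finset.mem_insert_of_mem (Finset.mem_singleton_self _)
    simpa [hS] using this
  have hdeg : (z a : ℂ) * (a : G → ℂ) 1 + (z b : ℂ) * (b : G → ℂ) 1 = 0 := by
    rw [← h1, hθ]
    rfl
  rw [char_one_eq_deg (irr_isCharacter a.2), char_one_eq_deg (irr_isCharacter b.2)] at hdeg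
  have hdeg' : z a * (deg (a : G → ℂ) : ℤ) + z b * (deg (b : G → ℂ) : ℤ) = 0 := by
    exact_mod_cast hdeg
  have pa : (0 : ℤ) < deg (a : G → ℂ) := by exact_mod_cast deg_pos a.2
  have pb : (0 : ℤ) < deg (b : G → ℂ) := by exact_mod_cast deg_pos b.2
  rcases hone a with ha | ha | ha <;> rcases hone b with hb | hb | hb <;>
    first
    | exact absurd ha ha0
    | exact absurd hb hb0
    | (rw [ha, hb] at hdeg'; omega)
    | (refine ⟨a, b, hab, ?_⟩; rw [hθ, ha, hb]; simp [sub_eq_add_neg]; done)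
    | (refine ⟨b, a, hab.symm, ?_⟩; rw [hθ, ha, hb]; simp [sub_eq_add_neg, add_comm])

/-- Exceptional characters. -/
theorem exists_exceptional (n : ℕ) (i₀ : Fin n) (τ : Fin n → (G → ℂ)) (h0 : τ i₀ = 0)
    (hgen : ∀ i, IsGeneralizedCharacter G (τ i)) (hone : ∀ i, τ i 1 = 0)
    (hgram : ∀ i j, i ≠ i₀ → j ≠ i₀ → classInner (τ i) (τ j) = if i = j then 2 else 1) :
    ∃ ε : ℂ, (ε = 1 ∨ ε = -1) ∧ ∃ μ : Fin n → (G → ℂ), (∀ i, IsIrrCharacter G (μ i)) ∧
      Function.Injective μ ∧ ∀ i, τ i = ε • (μ i - μ i₀) := by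
  classical
  have hex : ∀ i, ∃ a b : IrrCharacter G, i ≠ i₀ → a ≠ b ∧ τ i = (a : G → ℂ) - (b : G → ℂ) := by
    intro i
    by_cases hi : i = i₀
    · exact ⟨⟨_, isIrrCharacter_one⟩, ⟨_, isIrrCharacter_one⟩, fun h => absurd hi h⟩
    · obtain ⟨a, b, h⟩ := exists_pair_of_norm_two (hgen i) (hone i)
        (by rw [hgram i i hi hi, if_pos rfl])
      exact ⟨a, b, fun _ => h⟩
  choose a b hab using hex
  have hor : ∀ i j, i ≠ i₀ → j ≠ i₀ → i ≠ j →
      (a i = a j ∧ b i ≠ b j) ∨ (a i ≠ a j ∧ b i = b j) := by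
    intro i j hi hj hij
    have h := hgram i j hi hj
    rw [if_neg hij, (hab i hi).2, (hab j hj).2, classInner_sub_left, classInner_sub_right,
      classInner_sub_right, irrC_orth, irrC_orth, irrC_orth, irrC_orth] at h
    have hi' := (hab i hi).1
    have hj' := (hab j hj).1
    split_ifs at h <;> norm_num at h <;> (first | tauto | (exfalso; simp_all))
  -- a common endpoint gives the family
  have finish : ∀ (ε : ℂ), (ε = 1 ∨ ε = -1) → ∀ (f : Fin n → IrrCharacter G) (c : IrrCharacter G),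
      (∀ i, i ≠ i₀ → f i ≠ c ∧ τ i = ε • ((f i : G → ℂ) - (c : G → ℂ))) →
      ∃ ε : ℂ, (ε = 1 ∨ ε = -1) ∧ ∃ μ : Fin n → (G → ℂ), (∀ i, IsIrrCharacter G (μ i)) ∧
        Function.Injective μ ∧ ∀ i, τ i = ε • (μ i - μ i₀) := by
    intro ε hε f c hfc
    refine ⟨ε, hε, fun i => if i = i₀ then (c : G → ℂ) else (f i : G → ℂ), fun i => ?_, ?_,
      fun i => ?_⟩
    · dsimp only
      split_ifs
      · exact c.2
      · exact (f i).2
    · intro i j hij
      dsimp only at hij
      by_cases hi : i = i₀ <;> by_cases hj : j = i₀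
      · rw [hi, hj]
      · rw [if_pos hi, if_neg hj] at hij
        exact absurd (Subtype.ext hij.symm) (hfc j hj).1
      · rw [if_neg hi, if_pos hj] at hij
        exact absurd (Subtype.ext hij) (hfc i hi).1
      · rw [if_neg hi, if_neg hj] at hij
        by_contra hne
        have h := hgram i j hi hj
        rw [if_neg hne] at h
        have h2 := hgram i i hi hi
        rw [if_pos rfl] at h2
        have e : τ j = τ i := by rw [(hfc i hi).2, (hfc j hj).2, hij]
        rw [e, h2] at h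
        norm_num at h
    · by_cases hi : i = i₀
      · simp [hi, h0]
      · simp only [hi, if_false, if_true]
        exact (hfc i hi).2
  by_cases hA : ∀ i j, i ≠ i₀ → j ≠ i₀ → a i = a j
  · by_cases hn : ∃ k, k ≠ i₀
    · obtain ⟨k, hk⟩ := hn
      refine finish (-1) (Or.inr rfl) b (a k) fun i hi => ?_
      obtain ⟨h1, h2⟩ := hab i hi
      rw [← hA i k hi hk]
      exact ⟨h1.symm, by rw [h2, neg_one_smul, neg_sub]⟩
    · exact finish 1 (Or.inl rfl) a ⟨_, isIrrCharacter_one⟩ fun i hi => absurd ⟨i, hi⟩ hn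
  · push Not at hA
    obtain ⟨i, j, hi, hj, hne⟩ := hA
    have hij : i ≠ j := fun h => hne (h ▸ rfl)
    have hbij : b i = b j := ((hor i j hi hj hij).resolve_left fun h => hne h.1).2
    refine finish 1 (Or.inl rfl) a (b i) fun k hk => ?_
    have hbk : b k = b i := by
      by_contra hbk
      have hki : k ≠ i := fun h => hbk (h ▸ rfl)
      have hkj : k ≠ j := fun h => hbk (h ▸ hbij.symm)
      rcases hor k i hk hi hki with ⟨h1, -⟩ | ⟨-, h1⟩
      · rcases hor k j hk hj hkj with ⟨h2, -⟩ | ⟨-, h2⟩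
        · exact hne (h1.symm.trans h2)
        · exact hbk (h2.trans hbij.symm)
      · exact hbk h1
    obtain ⟨h1, h2⟩ := hab k hk
    rw [← hbk]
    exact ⟨h1, by rw [h2, one_smul]⟩

end Cfsg.Agent.Char
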