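import Cfsg.Agent.Lib.Char.BrauerChar
import Cfsg.Agent.Lib.Char.MonomialNilp
import Mathlib.Algebra.Module.CharacterModule
import Mathlib

/-!
Duality for spans of induced characters: the theorems of Artin and Brauer on induced characters.
-/

set_option autoImplicit false
set_option linter.style.haveILetI false
set_option linter.unusedSectionVars false
open scoped ComplexConjugate
open Cfsg

namespace Cfsg.Agent.Char

universe u
variable {G : Type u} [Group G] [Fintype G]

/-- A criterion for a multiple of an irreducible character to lie in a span of generalized characters. -/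
theorem smul_mem_of_dual (V : AddSubgroup (G → ℂ)) (χ₀ : IrrCharacter G) (N : ℕ)
    (h : ∀ θ : G → ℂ, IsClassFunction G θ →
      (∀ f ∈ V, IsCharacter G f → ∃ z : ℤ, classInner θ f = z) →
        (∀ χ : IrrCharacter G, ∃ q : ℚ, classInner θ (χ : G → ℂ) = q) →
        ∃ z : ℤ, (N : ℂ) * classInner θ (χ₀ : G → ℂ) = z) :
    (N : ℂ) • (χ₀ : G → ℂ) ∈ V := by
  classical
  let Φ : (IrrCharacter G → ℤ) →+ (G → ℂ) :=
    { toFun := fun z => ∑ χ, (z χ : ℂ) • (χ : G → ℂ)
      map_zero' := by simp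
      map_add' := fun a b => by simp [add_smul, Finset.sum_add_distrib] }
  let W : AddSubgroup (IrrCharacter G → ℤ) := V.comap Φ
  by_contra hnot
  let e : IrrCharacter G → (IrrCharacter G → ℤ) := fun χ => Pi.single χ 1
  have hΦe : ∀ χ, Φ (e χ) = (χ : G → ℂ) := fun χ => by
    show ∑ ψ, ((e χ ψ : ℤ) : ℂ) • (ψ : G → ℂ) = _
    rw [Finset.sum_eq_single χ (fun ψ _ hψ => by simp [e, hψ]) (fun hh => absurd (Finset.mem_univ χ) hh)]
    simp [e]
  have hne : (QuotientAddGroup.mk (N • e χ₀) : (IrrCharacter G → ℤ) ⧸ W) ≠ 0 := by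
    rw [ne_eq, QuotientAddGroup.eq_zero_iff]
    intro hw
    apply hnot
    have := AddSubgroup.mem_comap.1 hw
    rwa [map_nsmul, hΦe, ← Nat.cast_smul_eq_nsmul ℂ] at this
  obtain ⟨c, hc⟩ := CharacterModule.exists_character_apply_ne_zero_of_ne_zero hne
  let cf : (IrrCharacter G → ℤ) →+ AddCircle (1 : ℚ) :=
    AddMonoidHom.comp (show ((IrrCharacter G → ℤ) ⧸ W) →+ AddCircle (1 : ℚ) from c) (QuotientAddGroup.mk' W)
  have hcW : ∀ w ∈ W, cf w = 0 := fun w hw => by
    show c (QuotientAddGroup.mk w) = 0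
    rw [(QuotientAddGroup.eq_zero_iff w).2 hw]
    exact map_zero _
  have hq0 : ∀ χ, ∃ q : ℚ, (q : AddCircle (1 : ℚ)) = cf (e χ) := fun χ =>
    QuotientAddGroup.mk_surjective _
  choose q hq using hq0
  let θ : G → ℂ := ∑ χ, (q χ : ℂ) • (χ : G → ℂ)
  have hθc : IsClassFunction G θ := fun a k => by
    simp only [θ, Finset.sum_apply, Pi.smul_apply, isClassFunction_character (irr_isCharacter (Subtype.prop _)) a k]
  have hθq : ∀ ψ : IrrCharacter G, classInner θ (ψ : G → ℂ) = q ψ := fun ψ => by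
    simp only [θ, classInner_sum_left, classInner_smul_left, irrC_orth, mul_ite, mul_one, mul_zero,
      Finset.sum_ite_eq', Finset.mem_univ, if_true]
  have hθV : ∀ f ∈ V, IsCharacter G f → ∃ z : ℤ, classInner θ f = z := by
    intro f hf hfc
    obtain ⟨m, hm⟩ := exists_decomposition hfc
    have hmW : (fun χ => (m χ : ℤ)) ∈ W := by
      rw [AddSubgroup.mem_comap]
      show ∑ χ, (((m χ : ℤ)) : ℂ) • (χ : G → ℂ) ∈ V
      simp only [Int.cast_natCast, Nat.cast_smul_eq_nsmul ℂ]
      rw [← hm]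
      exact hf
    have hexp : (fun χ => (m χ : ℤ)) = ∑ χ, m χ • e χ := by
      funext ψ
      simp [e, Finset.sum_apply, Pi.single_apply]
    have h0 := hcW _ hmW
    rw [hexp, map_sum] at h0
    simp only [map_nsmul, ← hq] at h0
    have h1 : ((∑ χ, m χ • q χ : ℚ) : AddCircle (1 : ℚ)) = 0 := by
      rw [← h0]
      exact map_sum (QuotientAddGroup.mk' (AddSubgroup.zmultiples (1 : ℚ))) _ _
    obtain ⟨z, hz⟩ := AddCircle.coe_eq_zero_iff _ |>.1 h1
    refine ⟨z, ?_⟩
    rw [hm, classInner_sum_right]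
    simp only [← Nat.cast_smul_eq_nsmul ℂ, classInner_smul_right, Complex.conj_natCast, hθq]
    have : ((∑ χ, m χ • q χ : ℚ) : ℂ) = (z : ℂ) := by rw [← hz]; simp
    rw [← this]
    simp [nsmul_eq_mul]
  obtain ⟨z, hz⟩ := h θ hθc hθV fun χ => ⟨q χ, hθq χ⟩
  apply hc
  show cf (N • e χ₀) = 0
  rw [map_nsmul, ← hq, ← QuotientAddGroup.mk_nsmul]
  refine AddCircle.coe_eq_zero_iff _ |>.2 ⟨z, ?_⟩
  rw [hθq] at hz
  simp only [zsmul_one, nsmul_eq_mul]
  exact_mod_cast hz.symm

/-- The characters induced from linear characters of subgroups in a family. -/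
def indLinSet (P : Subgroup G → Prop) : Set (G → ℂ) :=
  {f | ∃ (K : Subgroup G) (l : K →* ℂˣ), P K ∧ f = indFun K (fun k => (l k : ℂ))}

theorem exists_list_of_mem_closure {P : Subgroup G → Prop} {f : G → ℂ}
    (hf : f ∈ AddSubgroup.closure (indLinSet P)) :
    ∃ l : List ((K : Subgroup G) × ((K →* ℂˣ) × ℤ)), (∀ t ∈ l, P t.1) ∧
      f = (l.map fun t => (t.2.2 : ℂ) • indFun t.1 (fun k => (t.2.1 k : ℂ))).sum := by
  induction hf using AddSubgroup.closure_induction with
  | mem x hx =>
    obtain ⟨K, lam, hK, rfl⟩ := hx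
    exact ⟨[⟨K, lam, 1⟩], by simp [hK], by simp⟩
  | zero => exact ⟨[], by simp, by simp⟩
  | add x y _ _ hx hy =>
    obtain ⟨a, ha, rfl⟩ := hx
    obtain ⟨b, hb, rfl⟩ := hy
    refine ⟨a ++ b, fun t ht => ?_, by simp⟩
    rcases List.mem_append.1 ht with h | h
    exacts [ha t h, hb t h]
  | neg x _ hx =>
    obtain ⟨a, ha, rfl⟩ := hx
    refine ⟨a.map fun t => ⟨t.1, t.2.1, -t.2.2⟩, fun t ht => ?_, ?_⟩
    · obtain ⟨t', ht', rfl⟩ := List.mem_map.1 ht
      exact ha t' ht'
    · clear ha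
      rename_i hmem
      clear hmem
      induction a with
      | nil => simp
      | cons t a ih' =>
        simp only [List.map_cons, List.sum_cons, neg_add, Int.cast_neg, neg_smul]
        congr 1

theorem exists_list_smul {P : Subgroup G → Prop} {χ : G → ℂ} (hχ : IsCharacter G χ) (N : ℕ)
    (h : ∀ ψ : IrrCharacter G, (N : ℂ) • (ψ : G → ℂ) ∈ AddSubgroup.closure (indLinSet P)) :
    ∃ l : List ((K : Subgroup G) × ((K →* ℂˣ) × ℤ)), (∀ t ∈ l, P t.1) ∧
      (N : ℂ) • χ = (l.map fun t => (t.2.2 : ℂ) • indFun t.1 (fun k => (t.2.1 k : ℂ))).sum := by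
  apply exists_list_of_mem_closure
  obtain ⟨m, hm⟩ := exists_decomposition hχ
  rw [hm, Finset.smul_sum]
  refine AddSubgroup.sum_mem _ fun ψ _ => ?_
  rw [smul_comm]
  exact AddSubgroup.nsmul_mem _ (h ψ) _

theorem isCharacter_hom (K : Subgroup G) (l : K →* ℂˣ) : IsCharacter K (fun k => (l k : ℂ)) := by
  let ρ : Representation ℂ K ℂ :=
    { toFun := fun k => (l k : ℂ) • LinearMap.id
      map_one' := by simp; rfl
      map_mul' := fun a b => by ext; simp; ring }
  have h := isCharacter_character ρ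
  have e : ρ.character = fun k => (l k : ℂ) := by
    funext k
    simp [ρ, Representation.character]
  rwa [e] at h

/-- Artin's induction theorem. -/
theorem artin_induction {χ : G → ℂ} (hχ : IsCharacter G χ) :
    ∃ l : List ((A : Subgroup G) × ((A →* ℂˣ) × ℤ)), (∀ t ∈ l, IsCyclic t.1) ∧
      (Nat.card G : ℂ) • χ = (l.map fun t => (t.2.2 : ℂ) • indFun t.1 (fun k => (t.2.1 k : ℂ))).sum := by
  classical
  refine exists_list_smul (P := fun A => IsCyclic A) hχ (Nat.card G) fun ψ => smul_mem_of_dual _ ψ _ fun θ hθ hV hQ => ?_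
  have hint : ∀ x : G, IsIntegral ℤ (θ x) := by
    intro x
    set A := Subgroup.zpowers x
    haveI := Fintype.ofFinite A
    have hres : IsClassFunction A (fun a : A => θ a) := fun a k => hθ a k
    have hab : ∀ a b : A, a * b = b * a := fun a b => mul_comm' a b
    rw [show θ x = (fun a : A => θ a) ⟨x, Subgroup.mem_zpowers x⟩ from rfl, classFun_expansion hres,
      Finset.sum_apply]
    refine IsIntegral.sum _ fun μ _ => ?_
    obtain ⟨l, hl⟩ := exists_hom_of_degree_one (irr_isCharacter μ.2) (forall_linear_iff_comm.1 hab μ)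
    obtain ⟨z, hz⟩ := hV (indFun A (μ : A → ℂ))
      (AddSubgroup.subset_closure ⟨A, l, inferInstance, by congr 1⟩)
      (isCharacter_indFun A (irr_isCharacter μ.2))
    rw [frobenius_right A _ hθ] at hz
    simp only [Pi.smul_apply, smul_eq_mul, hz]
    exact (isIntegral_algebraMap (x := z)).mul (char_isIntegral (irr_isCharacter μ.2) _)
  obtain ⟨q, hq⟩ := hQ ψ
  have hI : IsIntegral ℤ (((Nat.card G * q : ℚ)) : ℂ) := by
    push_cast
    rw [← hq]
    simp only [classInner]
    rw [← mul_assoc, mul_inv_cancel₀ (Nat.cast_ne_zero.2 Nat.card_pos.ne'), one_mul]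
    exact IsIntegral.sum _ fun x _ => (hint x).mul
      ((char_isIntegral (irr_isCharacter ψ.2) x).map (starRingEnd ℂ).toIntAlgHom)
  obtain ⟨z, hz⟩ := isIntegral_rat_cast_imp hI
  refine ⟨z, ?_⟩
  rw [hq]
  exact_mod_cast hz.symm

theorem isElementary_of_equiv {p : ℕ} {A B : Type*} [Group A] [Group B] (e : A ≃* B)
    (h : IsElementary p A) : IsElementary p B := by
  obtain ⟨x, hx, hcop, k, hk⟩ := h
  refine ⟨e x, Subgroup.mem_center_iff.2 fun b => ?_, by rwa [MulEquiv.orderOf_eq], k, ?_⟩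
  · obtain ⟨a, rfl⟩ := e.surjective b
    rw [← map_mul, ← map_mul, Subgroup.mem_center_iff.1 hx a]
  · rw [← hk, show e x = e.toMonoidHom x from rfl, ← MonoidHom.map_zpowers e.toMonoidHom]
    exact Subgroup.index_map_equiv (Subgroup.zpowers x) e

theorem isElementary_subgroup {p : ℕ} (hp : p.Prime) {E : Type*} [Group E] [Finite E]
    (h : IsElementary p E) (H : Subgroup E) : IsElementary p H := by
  obtain ⟨x, hx, hcop, k, hk⟩ := h
  haveI hn : (Subgroup.zpowers x).Normal := ⟨fun y hy g => by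
    have hyc : y ∈ Subgroup.center E := (Subgroup.zpowers_le.2 hx) hy
    rw [Subgroup.mem_center_iff.1 hyc g]
    simpa using hy⟩
  haveI : IsCyclic ((Subgroup.zpowers x).subgroupOf H) :=
    isCyclic_of_injective
      (f := { toFun := fun y : (Subgroup.zpowers x).subgroupOf H =>
                (⟨((y : H) : E), Subgroup.mem_subgroupOf.1 y.2⟩ : Subgroup.zpowers x)
              map_one' := rfl
              map_mul' := fun _ _ => rfl })
      (fun a b hab => Subtype.ext (Subtype.ext (congrArg (fun z : Subgroup.zpowers x => (z : E)) hab)))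
  obtain ⟨y, hy⟩ := IsCyclic.exists_generator (α := (Subgroup.zpowers x).subgroupOf H)
  refine ⟨(y : H), Subgroup.mem_center_iff.2 fun g => Subtype.ext ?_, ?_, ?_⟩
  · exact Subgroup.mem_center_iff.1 ((Subgroup.zpowers_le.2 hx) (Subgroup.mem_subgroupOf.1 y.2)) g
  · refine Nat.Coprime.coprime_dvd_left ?_ hcop
    rw [← Subgroup.orderOf_coe (y : H), ← Nat.card_zpowers x]
    exact Subgroup.orderOf_dvd_natCard _ (Subgroup.mem_subgroupOf.1 y.2)
  · have hgen : Subgroup.zpowers (y : H) = (Subgroup.zpowers x).subgroupOf H := by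
      refine le_antisymm (Subgroup.zpowers_le.2 y.2) fun z hz => ?_
      obtain ⟨i, hi⟩ := Subgroup.mem_zpowers_iff.1 (hy ⟨z, hz⟩)
      exact Subgroup.mem_zpowers_iff.2 ⟨i, by
        simpa using congrArg (fun w : (Subgroup.zpowers x).subgroupOf H => (w : H)) hi⟩
    rw [hgen]
    obtain ⟨j, -, hj⟩ := (Nat.dvd_prime_pow hp).1 (hk ▸
      (Subgroup.relIndex_dvd_index_of_normal (Subgroup.zpowers x) H))
    exact ⟨j, hj⟩

theorem isNilpotent_of_isElementary {p : ℕ} (hp : p.Prime) {E : Type*} [Group E] [Finite E]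
    (h : IsElementary p E) : Group.IsNilpotent E := by
  obtain ⟨x, hx, -, k, hk⟩ := h
  haveI : Fact p.Prime := ⟨hp⟩
  haveI hn : (Subgroup.zpowers x).Normal := ⟨fun y hy g => by
    have hyc : y ∈ Subgroup.center E := (Subgroup.zpowers_le.2 hx) hy
    rw [Subgroup.mem_center_iff.1 hyc g]
    simpa using hy⟩
  haveI : Group.IsNilpotent (E ⧸ Subgroup.zpowers x) :=
    (IsPGroup.of_card (n := k) (by rw [← Subgroup.index_eq_card, hk])).isNilpotent
  refine Subgroup.isNilpotent_of_ker_le_center (QuotientGroup.mk' (Subgroup.zpowers x)) ?_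
  rw [QuotientGroup.ker_mk']
  exact Subgroup.zpowers_le.2 hx

/-- Brauer's induction theorem. -/
theorem brauer_induction {χ : G → ℂ} (hχ : IsCharacter G χ) :
    ∃ l : List ((E : Subgroup G) × ((E →* ℂˣ) × ℤ)), (∀ t ∈ l, ∃ p : ℕ, p.Prime ∧ IsElementary p t.1) ∧
      χ = (l.map fun t => (t.2.2 : ℂ) • indFun t.1 (fun e => (t.2.1 e : ℂ))).sum := by
  classical
  suffices h : ∀ ψ : IrrCharacter G, ((1 : ℕ) : ℂ) • (ψ : G → ℂ) ∈
      AddSubgroup.closure (indLinSet fun E : Subgroup G => ∃ p : ℕ, p.Prime ∧ IsElementary p E) by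
    obtain ⟨l, hl, he⟩ := exists_list_smul hχ 1 h
    exact ⟨l, hl, by simpa using he⟩
  intro ψ
  refine smul_mem_of_dual _ ψ 1 fun θ hθ hV hQ => ?_
  have hgen : IsGeneralizedCharacter G θ := by
    refine brauer_characterization hθ fun E p hp hE => ?_
    haveI := Fintype.ofFinite E
    haveI := isNilpotent_of_isElementary hp hE
    have hz : ∀ μ : IrrCharacter E, ∃ z : ℤ, classInner (fun e : E => θ e) (μ : E → ℂ) = z := by
      intro μ
      obtain ⟨H, lam, hl⟩ := monomial_of_nilpotent (Nat.card E) E rfl (μ : E → ℂ) μ.2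
      have hmem : indFun E (μ : E → ℂ) ∈
          AddSubgroup.closure (indLinSet fun E : Subgroup G => ∃ p : ℕ, p.Prime ∧ IsElementary p E) := by
        apply AddSubgroup.subset_closure
        refine ⟨H.map E.subtype,
          lam.comp (Subgroup.equivMapOfInjective H E.subtype E.subtype_injective).symm.toMonoidHom,
          ⟨p, hp, isElementary_of_equiv (Subgroup.equivMapOfInjective H E.subtype E.subtype_injective)
            (isElementary_subgroup hp hE H)⟩, ?_⟩
        rw [hl]
        exact indFun_map_subtype H lam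
      obtain ⟨z, hz⟩ := hV (indFun E (μ : E → ℂ)) hmem (isCharacter_indFun E (irr_isCharacter μ.2))
      exact ⟨z, by rw [← frobenius_right E _ hθ]; exact hz⟩
    choose z hz using hz
    have e : (fun e : E => θ e) = ∑ μ : IrrCharacter E, (z μ : ℂ) • (μ : E → ℂ) := by
      refine (classFun_expansion (f := fun e : E => θ e) fun a k => hθ a k).trans
        (Finset.sum_congr rfl fun μ _ => by rw [hz])
    rw [e]
    exact isGeneralizedCharacter_of_int z
  obtain ⟨a, b, ha, hb, rfl⟩ := hgen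
  obtain ⟨m, hm⟩ := classInner_natCast ha (irr_isCharacter ψ.2)
  obtain ⟨n, hn⟩ := classInner_natCast hb (irr_isCharacter ψ.2)
  exact ⟨(m : ℤ) - n, by rw [classInner_sub_left, hm, hn]; push_cast; ring⟩

end Cfsg.Agent.Char
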