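import Cfsg.Agent.Lib.Char.Induced
import Cfsg.Agent.Lib.Char.Regular

/-!
# The third main theorem
-/

set_option autoImplicit false

namespace Cfsg.Agent.Char

open Cfsg Module
open scoped ComplexConjugate

universe u

variable {G : Type u} [Group G] [Fintype G] {M : Ideal AlgInt} {p : ℕ}

theorem isPGroup_of_ppower (hp : p.Prime) {x : G} (hx : ∃ k : ℕ, orderOf x = p ^ k) :
    IsPGroup p (Subgroup.zpowers x) := by
  haveI := Fact.mk hp
  obtain ⟨k, hk⟩ := hx
  exact IsPGroup.of_card (n := k) (by rw [Nat.card_zpowers, hk])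

omit [Fintype G] in
theorem mem_sylow_of_commute [Fact p.Prime] (P : Sylow p G) {x : G}
    (hx : IsPGroup p (Subgroup.zpowers x)) (hc : x ∈ Subgroup.centralizer ((P : Subgroup G) : Set G)) :
    x ∈ (P : Subgroup G) := by
  have h := P.isPGroup'.to_sup_of_normal_left' hx
    ((Subgroup.zpowers_le.mpr hc).trans (Subgroup.centralizer_le_normalizer _))
  have e := P.is_maximal' h le_sup_left
  rw [← e]
  exact Subgroup.mem_sup_right (Subgroup.mem_zpowers x)

open scoped Classical in
theorem card_regular_centralizer_sylow [Fact p.Prime] (P : Sylow p G) :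
    ¬ p ∣ Nat.card {x : Subgroup.centralizer ((P : Subgroup G) : Set G) // ¬ p ∣ orderOf x} := by
  set C := Subgroup.centralizer ((P : Subgroup G) : Set G)
  have hp : p.Prime := Fact.out
  obtain ⟨S⟩ := (inferInstance : Nonempty (Sylow p C))
  -- every `p`-element of `C` lies in `P`
  have hPS : (P : Subgroup G).subgroupOf C = (S : Subgroup C) := by
    have hpg : IsPGroup p ((P : Subgroup G).subgroupOf C) :=
      P.isPGroup'.comap_of_injective C.subtype (Subgroup.subtype_injective C)
    refine S.is_maximal' hpg fun s hs => ?_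
    refine mem_sylow_of_commute P ?_ s.2
    have h1 : IsPGroup p (Subgroup.zpowers s) :=
      S.isPGroup'.to_le (Subgroup.zpowers_le.mpr hs)
    have h2 := h1.map C.subtype
    rwa [MonoidHom.map_zpowers] at h2
  have hmem : ∀ x : C, (∃ k : ℕ, orderOf x = p ^ k) → x ∈ (S : Subgroup C) := fun x hx => by
    rw [← hPS]
    refine mem_sylow_of_commute P ?_ x.2
    refine isPGroup_of_ppower hp ?_
    rwa [Subgroup.coe_subtype, Subgroup.orderOf_coe]
  have hcom : ∀ (s : (S : Subgroup C)) (y : C), Commute (s : C) y := fun s y => by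
    have hs : ((s : C) : G) ∈ (P : Subgroup G) := Subgroup.mem_subgroupOf.mp (hPS.symm ▸ s.2 : (s : C) ∈ (P : Subgroup G).subgroupOf C)
    exact Subtype.ext (y.2 _ hs)
  have e : Prod (↥(S : Subgroup C)) {x : C // ¬ p ∣ orderOf x} ≃ C := by
    refine Equiv.ofBijective (fun a => (a.1 : C) * (a.2 : C)) ⟨?_, ?_⟩
    · rintro ⟨s, y⟩ ⟨s', y'⟩ h
      obtain ⟨k, hk⟩ := IsPGroup.iff_orderOf.mp S.isPGroup' s
      obtain ⟨k', hk'⟩ := IsPGroup.iff_orderOf.mp S.isPGroup' s'
      rw [← Subgroup.orderOf_coe] at hk hk'
      have h1 := preg_of_mul hp (hcom s y) ⟨k, hk⟩ y.2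
      have h2 := preg_of_mul hp (hcom s' y') ⟨k', hk'⟩ y'.2
      have hy : (y : C) = y' := by
        rw [← h1, ← h2]
        exact congrArg (preg p) h
      simp only [hy, mul_left_inj, Subtype.coe_inj] at h
      rw [h, Subtype.ext hy]
    · intro x
      obtain ⟨z, y, hzy, -, hz, hy⟩ := exists_isPPart hp x
      exact ⟨⟨⟨z, hmem z hz⟩, ⟨y, hy⟩⟩, hzy⟩
  have hcard : Nat.card (S : Subgroup C) * Nat.card {x : C // ¬ p ∣ orderOf x} = Nat.card C := by
    rw [← Nat.card_prod, Nat.card_congr e]
  intro hd
  have h1 : p ^ ((Nat.card C).factorization p + 1) ∣ Nat.card C := by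
    rw [pow_succ]
    conv_rhs => rw [← hcard, S.card_eq_multiplicity]
    exact Nat.mul_dvd_mul_left _ hd
  exact Nat.pow_succ_factorization_not_dvd Nat.card_pos.ne' hp h1

open scoped Classical in
theorem not_memLI_card_regular (hM : IsPModular p M) :
    ¬ MemLocalIdeal M (∑ x : G, (regInd p : G → ℂ) x) := by
  have hP := pmod_prime hM
  haveI := Fact.mk hM.1
  obtain ⟨P⟩ := (inferInstance : Nonempty (Sylow p G))
  have h := sum_centralizer_congr hM P.isPGroup' (regInd p)
    (fun x => by simp only [regInd]; split_ifs; exacts [memLR_zero hP, memLR_one hP])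
    (fun u _ x => isClassFunction_regInd p x u)
  intro h0
  have h1 : MemLocalIdeal M
      (∑ x : G with x ∈ Subgroup.centralizer ((P : Subgroup G) : Set G), (regInd p : G → ℂ) x) := by
    have := memLI_sub hP h0 h
    simpa using this
  refine card_regular_centralizer_sylow P ((memLI_natCast_iff hM _).mp ?_)
  have e : (Nat.card {x : Subgroup.centralizer ((P : Subgroup G) : Set G) // ¬ p ∣ orderOf x} : ℂ) =
      ∑ x : G with x ∈ Subgroup.centralizer ((P : Subgroup G) : Set G), (regInd p : G → ℂ) x := by
    rw [Nat.card_eq_fintype_card, Fintype.card_subtype, Finset.card_filter, Nat.cast_sum,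
      Finset.sum_subtype (Finset.univ.filter fun x => x ∈ Subgroup.centralizer ((P : Subgroup G) : Set G))
        (p := fun x => x ∈ Subgroup.centralizer ((P : Subgroup G) : Set G)) (fun x => by simp)]
    refine Finset.sum_congr rfl fun x _ => ?_
    simp only [regInd, Subgroup.orderOf_coe]
    split_ifs <;> simp
  rwa [e]

theorem intClassFun_regInd (hM : M.IsPrime) : IsIntClassFun M (regInd p : G → ℂ) :=
  ⟨isClassFunction_regInd p, fun x => by
    simp only [regInd]; split_ifs; exacts [memLR_zero hM, memLR_one hM]⟩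

/-- The sum of the regular elements detects the principal block. -/
theorem lam_regInd_unit_iff (hM : IsPModular p M) (χ : IrrCharacter G) :
    ¬ MemLocalIdeal M (lam (χ : G → ℂ) (regInd p)) ↔ χ ∈ principalBlock M G := by
  classical
  have hP := pmod_prime hM
  set e1 : IrrCharacter G := ⟨fun _ => 1, isIrrCharacter_one⟩ with he1
  have h1 : lam (e1 : G → ℂ) (regInd p) = ∑ x : G, (regInd p : G → ℂ) x := by
    simp [lam, e1]
  constructor
  · intro h
    by_contra hne
    refine h ?_
    have hz := einner_eq_zero_of_not_sameBlock (p := p) hM e1 χ hne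
    have hsum : ∑ x : G, (regInd p : G → ℂ) x * (χ : G → ℂ) x = 0 := by
      have hz' : classInner ((χ : G → ℂ) * regInd p) (e1 : G → ℂ) = 0 := by
        show einner p (χ : G → ℂ) (e1 : G → ℂ) = 0
        rw [← einner_conj, hz, map_zero]
      simp only [classInner, e1, Pi.mul_apply, map_one, mul_one, mul_eq_zero, inv_eq_zero,
        Nat.cast_eq_zero, Nat.card_pos.ne', false_or] at hz'
      rw [← hz']
      exact Finset.sum_congr rfl fun x _ => mul_comm _ _
    rw [lam, hsum, zero_div]
    exact memLI_zero hP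
  · intro h h0
    refine not_memLI_card_regular (G := G) hM ?_
    rw [← h1]
    exact memLI_congr hP (lam_congr hP e1.2 χ.2 h (isClassFunction_regInd p)
      (intClassFun_regInd hP).2) h0

theorem isPBlock_principalBlock (M : Ideal AlgInt) : IsPBlock M (principalBlock M G) :=
  ⟨⟨fun _ => 1, isIrrCharacter_one⟩, rfl⟩

theorem eq_principal_iff (hM : IsPModular p M) {B : Set (IrrCharacter G)} (hB : IsPBlock M B)
    {χ : IrrCharacter G} (hχ : χ ∈ B) :
    B = principalBlock M G ↔ χ ∈ principalBlock M G :=
  ⟨fun h => h ▸ hχ, fun h => block_disjoint (pmod_prime hM) hB (isPBlock_principalBlock M) hχ h⟩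

omit [Fintype G] in
theorem regInd_restrict (H : Subgroup G) :
    (fun x : H => (regInd p : G → ℂ) (x : G)) = regInd p := by
  funext x
  simp [regInd, Subgroup.orderOf_coe]

/-- Brauer's third main theorem. -/
theorem third_main (hM : IsPModular p M) {H : Subgroup G} [Fintype H]
    {b : Set (IrrCharacter H)} {B : Set (IrrCharacter G)} (hind : IsInducedBlock M H b B) :
    B = principalBlock M G ↔ b = principalBlock M H := by
  classical
  have hP := pmod_prime hM
  obtain ⟨χ, hχ⟩ := block_nonempty hP hind.2.1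
  obtain ⟨ξ, hξ⟩ := block_nonempty hP hind.1
  rw [eq_principal_iff hM hind.2.1 hχ, eq_principal_iff hM hind.1 hξ, ← lam_regInd_unit_iff hM χ,
    ← lam_regInd_unit_iff hM ξ]
  have h := induced_congr_fun hP (hind.2.2 ξ hξ χ hχ) (intClassFun_regInd (p := p) hP)
  rw [regInd_restrict] at h
  exact not_congr ⟨fun h0 => memLI_congr hP h h0, fun h0 => memLI_congr hP (memLI_symm hP h) h0⟩

/-- The Brauer pairs of the principal block are principal. -/
theorem third_main_brauer (hM : IsPModular p M) {Q : Subgroup G} (hQ : IsPGroup p Q)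
    [Fintype (Subgroup.centralizer (Q : Set G))] (ξ : IrrCharacter (Subgroup.centralizer (Q : Set G))) :
    MemLocalIdeal M (brLam Q (Subgroup.centralizer (Q : Set G))
        (ξ : Subgroup.centralizer (Q : Set G) → ℂ) (blockCoeff (principalBlock M G)) - 1) ↔
      ξ ∈ principalBlock M (Subgroup.centralizer (Q : Set G)) := by
  classical
  have hP := pmod_prime hM
  obtain ⟨B, hB, hone, hΦ⟩ := (isCentralHom_brLam hM hQ le_rfl
    (Subgroup.centralizer_le_normalizer _) ξ).exists_block hM
  obtain ⟨χ, hχ⟩ := block_nonempty hP hB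
  have hres : brRes Q (Subgroup.centralizer (Q : Set G)) (regInd p : G → ℂ) = regInd p := by
    funext x
    rw [brRes, if_pos x.2]
    exact congrFun (regInd_restrict (p := p) (Subgroup.centralizer (Q : Set G))) x
  have h1 := hΦ χ hχ _ (intClassFun_regInd (p := p) hP)
  rw [brLam, hres] at h1
  have h2 := hΦ χ hχ _ (isIntClassFun_blockCoeff hM (isPBlock_principalBlock (G := G) M))
  rw [lam_blockCoeff] at h2
  rw [← lam_regInd_unit_iff hM ξ]
  constructor
  · intro h h0
    by_cases hmem : χ ∈ principalBlock M G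
    · exact (lam_regInd_unit_iff hM χ).mpr hmem (memLI_congr hP (memLI_symm hP h1) h0)
    · rw [if_neg hmem, sub_zero] at h2
      refine memLI_one_iff hP ?_
      have := memLI_sub hP h2 h
      simpa using this
  · intro h
    have hmem : χ ∈ principalBlock M G := (lam_regInd_unit_iff hM χ).mp fun h0 =>
      h (memLI_congr hP h1 h0)
    rwa [if_pos hmem] at h2

end Cfsg.Agent.Char
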