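import Cfsg.Agent.Lib.Char.Convolution
import Cfsg.Agent.Lib.Char.Codegree
import Cfsg.Agent.Lib.Char.SectionPart
import Cfsg.Agent.Lib.Char.ThirdMain
import Cfsg.Agent.Lib.Char.PrincipalBlock
import Cfsg.Agent.Lib.Fusion.Cores
import Cfsg.Agent.Lib.Fusion.Involutions

/-!
# Isolated involutions: first facts
-/

set_option autoImplicit false
set_option linter.unusedSectionVars false
set_option linter.style.haveILetI false

namespace Cfsg.Agent.Char

open Cfsg
open scoped ComplexConjugate

universe u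

variable {G : Type u} [Group G]

/-- An involution all whose products with its conjugates have odd order. -/
structure OddInvol (t : G) : Prop where
  sq : t * t = 1
  ne_one : t ≠ 1
  odd : ∀ g : G, Odd (orderOf (t * (g * t * g⁻¹)))

/-- Every element of order two of `Z(G mod O(G))` statement form. -/
def CentralModCore (t : G) : Prop := ∀ g : G, t * g * t⁻¹ * g⁻¹ ∈ oddCore G

theorem OddInvol.inv_eq {t : G} (h : OddInvol t) : t⁻¹ = t := inv_eq_of_mul_eq_one_left h.sq

theorem OddInvol.orderOf_eq {t : G} (h : OddInvol t) : orderOf t = 2 :=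
  orderOf_eq_prime (by rw [pow_two, h.sq]) h.ne_one

theorem OddInvol.conj {t : G} (h : OddInvol t) (a : G) : OddInvol (a * t * a⁻¹) := by
  refine ⟨?_, fun e => h.ne_one (conj_eq_one_iff.mp e), fun g => ?_⟩
  · rw [show a * t * a⁻¹ * (a * t * a⁻¹) = a * (t * t) * a⁻¹ by group, h.sq]
    group
  · rw [show a * t * a⁻¹ * (g * (a * t * a⁻¹) * g⁻¹) =
      MulAut.conj a (t * (a⁻¹ * g * a * t * (a⁻¹ * g * a)⁻¹)) by simp [MulAut.conj_apply]; group,
      MulEquiv.orderOf_eq]
    exact h.odd _

theorem OddInvol.eq_of_commute {t g : G} (h : OddInvol t) (hc : Commute t (g * t * g⁻¹)) :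
    g * t * g⁻¹ = t := by
  have h2 : (t * (g * t * g⁻¹)) ^ 2 = 1 := by
    rw [hc.mul_pow, pow_two, h.sq, one_mul, pow_two,
      show g * t * g⁻¹ * (g * t * g⁻¹) = g * (t * t) * g⁻¹ by group, h.sq]
    group
  have h1 : orderOf (t * (g * t * g⁻¹)) = 1 := by
    rcases (Nat.dvd_prime Nat.prime_two).mp (orderOf_dvd_of_pow_eq_one h2) with e | e
    · exact e
    · exact absurd (e ▸ h.odd g) (by decide)
  rw [orderOf_eq_one_iff] at h1
  exact (mul_eq_one_iff_eq_inv'.mp h1).trans h.inv_eq

/-- Two involutions with product of odd order are conjugate by a power of the product. -/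
theorem exists_zpowers_conj {a b : G} (ha : a * a = 1) (hb : b * b = 1)
    (hodd : Odd (orderOf (a * b))) : ∃ c ∈ Subgroup.zpowers (a * b), c * a * c⁻¹ = b := by
  obtain ⟨k, hk⟩ := hodd
  have hinv : ∀ j : ℕ, a * (a * b) ^ j * a = ((a * b) ^ j)⁻¹ := fun j => by
    have h1 : a * (a * b) * a⁻¹ = (a * b)⁻¹ := by
      rw [mul_inv_rev, inv_eq_of_mul_eq_one_left hb, inv_eq_of_mul_eq_one_left ha]
      rw [← mul_assoc, ha, one_mul]
    have h2 := conj_pow (i := j) (a := a) (b := a * b)
    rw [h1, inv_pow, inv_eq_of_mul_eq_one_left ha] at h2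
    exact h2.symm
  refine ⟨(a * b) ^ k, Subgroup.pow_mem _ (Subgroup.mem_zpowers _) _, ?_⟩
  have h1 : (a * b) ^ (2 * k + 1) = 1 := hk ▸ pow_orderOf_eq_one _
  calc (a * b) ^ k * a * ((a * b) ^ k)⁻¹ = (a * b) ^ k * a * (a * (a * b) ^ k * a) := by rw [hinv]
    _ = (a * b) ^ k * (a * a) * (a * b) ^ k * a := by group
    _ = (a * b) ^ (2 * k) * a := by rw [ha, mul_one, ← pow_add, two_mul]
    _ = (a * b) ^ (2 * k) * ((a * b) * b) := by rw [mul_assoc a b b, hb, mul_one]
    _ = b := by rw [← mul_assoc, ← pow_succ, h1, one_mul]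

theorem CentralModCore.of_central {t : G} (h : ∀ g : G, t * g = g * t) : CentralModCore t :=
  fun g => by rw [h g]; simp

theorem OddInvol.central_of_conj {t : G} (h : OddInvol t)
    (hc : ∀ g : G, Commute t (g * t * g⁻¹)) : ∀ g : G, t * g = g * t := fun g => by
  have := h.eq_of_commute (hc g)
  rw [mul_inv_eq_iff_eq_mul] at this
  exact this.symm

theorem OddInvol.subgroup {t : G} (h : OddInvol t) {K : Subgroup G} (ht : t ∈ K) :
    OddInvol (⟨t, ht⟩ : K) := by
  refine ⟨Subtype.ext h.sq, fun e => h.ne_one (congrArg Subtype.val e), fun g => ?_⟩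
  rw [← Subgroup.orderOf_coe]
  exact h.odd g

variable [Finite G]

theorem OddInvol.map {t : G} (h : OddInvol t) {H : Type u} [Group H] (f : G →* H)
    (hf : Function.Surjective f) (hne : f t ≠ 1) : OddInvol (f t) := by
  refine ⟨by rw [← map_mul, h.sq, map_one], hne, fun g => ?_⟩
  obtain ⟨g, rfl⟩ := hf g
  rw [← map_inv, ← map_mul, ← map_mul, ← map_mul]
  exact Odd.of_dvd_nat (h.odd g) (orderOf_map_dvd f _)

/-- The odd core of a normal subgroup of a group without odd core is trivial. -/
theorem oddCore_normal_eq_bot (hO : oddCore G = ⊥) (K : Subgroup G) [hK : K.Normal] :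
    oddCore K = ⊥ := by
  have hn : ((oddCore K).map K.subtype).Normal := by
    constructor
    rintro _ ⟨k, hk, rfl⟩ g
    have := (Fusion.map_pPrimeCore_equiv (p := 2) (MulAut.conjNormal g : MulAut K)).le
      (Subgroup.mem_map_of_mem _ hk)
    exact ⟨_, this, MulAut.conjNormal_apply g k⟩
  have h1 : (oddCore K).map K.subtype ≤ oddCore G := Fusion.le_pPrimeCore (hn := hn) (by
    rw [Subgroup.card_map_of_injective K.subtype_injective]
    exact Fusion.card_pPrimeCore_coprime 2 K)
  rw [hO, Subgroup.map_le_iff_le_comap] at h1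
  rw [eq_bot_iff]
  intro k hk
  exact Subtype.ext (h1 hk)

/-- An isolated involution in a proper normal subgroup is central. -/
theorem central_of_normal_mem {t : G} (ht : OddInvol t) (hO : oddCore G = ⊥)
    (hIH : ∀ K : Subgroup G, K ≠ ⊤ → ∀ h : t ∈ K, CentralModCore (⟨t, h⟩ : K))
    (K : Subgroup G) [K.Normal] (hK : K ≠ ⊤) (htK : t ∈ K) : ∀ g : G, t * g = g * t := by
  refine ht.central_of_conj fun g => ?_
  have h := hIH K hK htK ⟨g * t * g⁻¹, ‹K.Normal›.conj_mem t htK g⟩
  rw [oddCore_normal_eq_bot hO K, Subgroup.mem_bot] at h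
  have h' := congrArg Subtype.val h
  simp only [Subgroup.coe_mul, Subgroup.coe_inv, Subgroup.coe_one] at h'
  rw [mul_inv_eq_one, mul_inv_eq_iff_eq_mul] at h'
  exact h'

/-- An isolated involution in the kernel of a nontrivial character is central. -/
theorem central_of_char_kernel {t : G} (ht : OddInvol t) (hO : oddCore G = ⊥)
    (hIH : ∀ K : Subgroup G, K ≠ ⊤ → ∀ h : t ∈ K, CentralModCore (⟨t, h⟩ : K))
    (χ : IrrCharacter G) (hne : (χ : G → ℂ) ≠ fun _ => 1)
    (hχt : (χ : G → ℂ) t = (χ : G → ℂ) 1) : ∀ g : G, t * g = g * t := by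
  classical
  haveI := Fintype.ofFinite G
  obtain ⟨K, hKn, hK⟩ := exists_charKernel (irr_isCharacter χ.2)
  haveI := hKn
  refine central_of_normal_mem ht hO hIH K (fun htop => hne ?_) ((hK t).mpr hχt)
  have hconst : ∀ g, (χ : G → ℂ) g = (χ : G → ℂ) 1 := fun g =>
    (hK g).mp (htop ▸ Subgroup.mem_top g)
  by_contra hne
  have h1 := irr_orth χ.2 isIrrCharacter_one
  rw [if_neg hne, classInner] at h1
  simp only [hconst, map_one, mul_one, Finset.sum_const, Finset.card_univ, nsmul_eq_mul,
    mul_eq_zero, inv_eq_zero, Nat.cast_eq_zero] at h1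
  rcases h1 with h1 | h1 | h1
  · exact Nat.card_pos.ne' h1
  · exact Fintype.card_ne_zero h1
  · exact irr_one_ne_zero χ.2 h1

/-- The squares of the values at an isolated involution, weighted by a class function vanishing on
odd-order elements. -/
theorem sum_coeff_sq_div [Fintype G] {t : G} (ht : OddInvol t) (c : IrrCharacter G → ℂ)
    (hc : ∀ g : G, Odd (orderOf g) → ∑ χ : IrrCharacter G, c χ * (χ : G → ℂ) g = 0) :
    ∑ χ : IrrCharacter G, c χ * ((χ : G → ℂ) t ^ 2 / (χ : G → ℂ) 1) = 0 := by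
  have hG : (Nat.card G : ℂ) ≠ 0 := Nat.cast_ne_zero.mpr Nat.card_pos.ne'
  refine (mul_eq_zero.mp (?_ : (Nat.card G : ℂ) * _ = 0)).resolve_left hG
  rw [Finset.mul_sum]
  have e : ∀ χ : IrrCharacter G, (Nat.card G : ℂ) * (c χ * ((χ : G → ℂ) t ^ 2 / (χ : G → ℂ) 1)) =
      ∑ s : G, c χ * (χ : G → ℂ) (t * (s * t * s⁻¹)) := fun χ => by
    have h := sum_conj_mul χ.2 t t
    have hne := irr_one_ne_zero χ.2
    rw [← Finset.mul_sum, mul_left_comm]
    congr 1
    field_simp
    linear_combination -h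
  rw [Finset.sum_congr rfl fun χ _ => e χ, Finset.sum_comm]
  exact Finset.sum_eq_zero fun s _ => hc _ (ht.odd s)

variable {p : ℕ} {M : Ideal AlgInt}

/-- Principal block characters on a section are constant on cosets of a normal `p'`-subgroup. -/
theorem principal_section_const [Fintype G] (hM : IsPModular p M) {x : G}
    (hx : ∃ k : ℕ, orderOf x = p ^ k) (N : Subgroup (Subgroup.centralizer ({x} : Set G))) [N.Normal]
    (hN : ¬ p ∣ Nat.card N) (χ : IrrCharacter G) (hχ : χ ∈ principalBlock M G)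
    (y n : Subgroup.centralizer ({x} : Set G)) (hn : n ∈ N) (hy : ¬ p ∣ orderOf y)
    (hyn : ¬ p ∣ orderOf (n * y)) :
    (χ : G → ℂ) (x * ((n * y : Subgroup.centralizer ({x} : Set G)) : G)) =
      (χ : G → ℂ) (x * (y : G)) := by
  classical
  have hP := pmod_prime hM
  letI := Fintype.ofFinite (Subgroup.centralizer ({x} : Set G))
  set b₀ := principalBlock M (Subgroup.centralizer ({x} : Set G))
  have hcf := isClassFunction_secFun (x := x) (isClassFunction_character (irr_isCharacter χ.2))
  have hsec : ∀ w : Subgroup.centralizer ({x} : Set G), ¬ p ∣ orderOf w →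
      secFun x (χ : G → ℂ) w = blockPart b₀ (secFun x (χ : G → ℂ)) w := by
    intro w hw
    rw [eq_sum_blockPart hP hcf w]
    refine Finset.sum_eq_single b₀ (fun b hb hne => ?_) (fun h => ?_)
    · obtain ⟨ξ, -, rfl⟩ := Finset.mem_image.mp hb
      refine blockPart_secFun_eq_zero hM hx (isPBlock_principalBlock M) χ hχ
        (isPBlock_blockOf M ξ) (fun hind => hne ?_) w hw
      exact (third_main hM hind).mp rfl
    · obtain ⟨ξ, hξ⟩ := block_nonempty hP (isPBlock_principalBlock (G := Subgroup.centralizer ({x} : Set G)) M)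
      exact absurd (Finset.mem_image.mpr ⟨ξ, Finset.mem_univ _,
        (block_eq_blockOf hP (isPBlock_principalBlock M) hξ).symm⟩) h
  show secFun x (χ : G → ℂ) (n * y) = secFun x (χ : G → ℂ) y
  rw [hsec _ hy, hsec _ hyn, blockPart_eq, blockPart_eq]
  refine Finset.sum_congr rfl fun ξ hξ => ?_
  rw [char_mul_of_ker (irr_isCharacter ξ.2)
    (principal_trivial_on hM N hN (Finset.mem_filter.mp hξ).2 n hn)]

end Cfsg.Agent.Char
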