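import Cfsg.Agent.Lib.Char.QuatDerived
import Cfsg.Agent.Lib.Char.Exceptional
import Cfsg.Agent.Lib.Char.IndSpan
import Cfsg.Agent.Lib.Char.IsolatedBase

/-!
# The exceptional character of a group with quaternion Sylow 2-subgroups of order at least sixteen
-/

set_option autoImplicit false
set_option linter.unusedSectionVars false
set_option linter.style.haveILetI false

namespace Cfsg.Agent.Char

open Cfsg
open scoped ComplexConjugate

universe u

variable {G : Type u} [Group G] [Finite G] (S : Sylow 2 G) {n : ℕ}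
  (e : (S : Subgroup G) ≃* QuaternionGroup (2 ^ (n + 2)))

/-- The generator inside the Sylow subgroup of the centralizer. -/
noncomputable def qg0 : (qP S e : Subgroup (qC S e)) :=
  ⟨⟨qgen S e, qgen_mem_qC S e⟩, (mem_qP S e).mpr (Subgroup.mem_zpowers _)⟩

theorem qg0_gen (x : (qP S e : Subgroup (qC S e))) : x ∈ Subgroup.zpowers (qg0 S e) := by
  obtain ⟨k, hk⟩ := Subgroup.mem_zpowers_iff.mp ((mem_qP S e).mp x.2)
  refine Subgroup.mem_zpowers_iff.mpr ⟨k, Subtype.ext (Subtype.ext ?_)⟩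
  simpa [qg0] using hk

theorem orderOf_qg0 : orderOf (qg0 S e) = 2 ^ (n + 3) := by
  rw [← Subgroup.orderOf_coe, ← Subgroup.orderOf_coe]
  exact orderOf_qgen S e

theorem orderOf_I_unit : orderOf (Units.mk0 Complex.I Complex.I_ne_zero) ∣ orderOf (qg0 S e) := by
  refine orderOf_dvd_of_pow_eq_one (Units.ext ?_)
  rw [orderOf_qg0, Units.val_pow_eq_pow_val, Units.val_mk0, Units.val_one,
    show 2 ^ (n + 3) = 4 * 2 ^ (n + 1) by ring, pow_mul, Complex.I_pow_four, one_pow]

/-- The faithful-modulo-`⟨a⁴⟩` linear character of the centralizer. -/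
noncomputable def qmu : qC S e →* ℂˣ :=
  (monoidHomOfForallMemZpowers (qg0_gen S e) (orderOf_I_unit S e)).comp (qf S e)

theorem qmu_spec (c : qC S e) : ∃ j : ℕ, qf S e c = qg0 S e ^ j ∧ (qmu S e c : ℂ) = Complex.I ^ j := by
  obtain ⟨j, hj⟩ := (mem_powers_iff_mem_zpowers.mpr (qg0_gen S e (qf S e c)))
  refine ⟨j, hj.symm, ?_⟩
  rw [qmu, MonoidHom.comp_apply, ← (hj : qg0 S e ^ j = qf S e c), map_pow,
    monoidHomOfForallMemZpowers_apply_gen, Units.val_pow_eq_pow_val, Units.val_mk0]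

theorem qmu_gen_sq : (qmu S e ⟨qgen S e, qgen_mem_qC S e⟩ : ℂ) ^ 2 = -1 := by
  have h : qf S e (qg0 S e : qC S e) = qg0 S e ^ (qP S e : Subgroup (qC S e)).index := by
    rw [qf, MonoidHom.transferSylow_eq_pow _ _ _ (qg0 S e).2]
    rfl
  have hodd : Odd (qP S e : Subgroup (qC S e)).index :=
    Nat.odd_iff.mpr (Nat.two_dvd_ne_zero.mp (qP S e).not_dvd_index)
  obtain ⟨k, hk⟩ := hodd
  show (qmu S e (qg0 S e : qC S e) : ℂ) ^ 2 = -1
  rw [qmu, MonoidHom.comp_apply, h, map_pow, monoidHomOfForallMemZpowers_apply_gen,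
    Units.val_pow_eq_pow_val, Units.val_mk0, ← pow_mul, mul_comm, pow_mul, Complex.I_sq, hk,
    pow_succ, pow_mul, neg_one_sq, one_pow, one_mul]

theorem qmu_dvd {c : qC S e} (h : (qmu S e c : ℂ) ≠ 1) : 2 ^ (n + 2) ∣ orderOf (c : G) := by
  obtain ⟨j, hj, hval⟩ := qmu_spec S e c
  rw [hval] at h
  have h4 : ¬ 4 ∣ j := by
    rintro ⟨k, rfl⟩
    exact h (by rw [pow_mul, Complex.I_pow_four, one_pow])
  rw [Subgroup.orderOf_coe]
  refine dvd_trans ?_ (orderOf_map_dvd (qf S e) c)
  rw [hj, orderOf_pow, orderOf_qg0]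
  obtain ⟨i, hi, hgi⟩ := (Nat.dvd_prime_pow Nat.prime_two).mp (Nat.gcd_dvd_left (2 ^ (n + 3)) j)
  rw [hgi, Nat.pow_div hi two_pos]
  refine pow_dvd_pow 2 ?_
  by_contra hlt
  apply h4
  have : 2 ^ 2 ∣ 2 ^ i := pow_dvd_pow 2 (by omega)
  exact this.trans (hgi ▸ Nat.gcd_dvd_right _ _)

theorem qmu_conj (c : qC S e) :
    qmu S e ⟨qb S e * c * (qb S e)⁻¹, conj_mem_qC S e (qb_mem S e) c.2⟩ = (qmu S e c)⁻¹ := by
  let β : qC S e →* qC S e :=
    { toFun := fun x => ⟨qb S e * x * (qb S e)⁻¹, conj_mem_qC S e (qb_mem S e) x.2⟩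
      map_one' := Subtype.ext (by simp)
      map_mul' := fun x y => Subtype.ext (by simp [mul_assoc]) }
  show qmu S e (β c) = (qmu S e c)⁻¹
  obtain ⟨⟨k, p⟩, rfl⟩ := (qf_compl S e).2 c
  dsimp only
  have hk1 : ∀ x : qC S e, Odd (orderOf x) → qmu S e x = 1 := fun x hx => by
    rw [qmu, MonoidHom.comp_apply, MonoidHom.mem_ker.mp ((qf_ker_iff S e).mpr hx), map_one]
  have hk := (qf_ker_iff S e).mp k.2
  have hbk : Odd (orderOf (β k)) := Odd.of_dvd_nat hk (orderOf_map_dvd β _)
  have hp : β p = (p : qC S e)⁻¹ := by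
    obtain ⟨j, hj⟩ := Subgroup.mem_zpowers_iff.mp ((mem_qP S e).mp p.2)
    refine Subtype.ext ?_
    show qb S e * ((p : qC S e) : G) * (qb S e)⁻¹ = ((p : qC S e) : G)⁻¹
    rw [← hj, ← conj_zpow, qb_conj, inv_zpow]
  rw [map_mul, map_mul, hk1 _ hbk, hp, map_inv, map_mul (qmu S e), hk1 _ hk, one_mul, one_mul]

variable [Fintype G]

/-- The class function inducing the exceptional character. -/
noncomputable def qfun : qC S e → ℂ := (fun _ => 1) - fun c => (qmu S e c : ℂ)

/-- The exceptional generalized character. -/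
noncomputable def qTheta : G → ℂ := indFun (qC S e) (qfun S e)

theorem isGenChar_qTheta : IsGeneralizedCharacter G (qTheta S e) := by
  refine ⟨indFun (qC S e) (fun c => ((1 : qC S e →* ℂˣ) c : ℂ)),
    indFun (qC S e) (fun c => (qmu S e c : ℂ)), ?_, ?_, ?_⟩
  · exact isCharacter_indFun _ (isCharacter_linear _)
  · exact isCharacter_indFun _ (isCharacter_linear _)
  · rw [qTheta, qfun, indFun_sub]
    simp

theorem qTheta_eq_zero {g : G} (hg : ¬ 4 ∣ orderOf g) : qTheta S e g = 0 := by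
  rw [qTheta, indFun]
  refine mul_eq_zero_of_right _ (Finset.sum_eq_zero fun x _ => ?_)
  by_cases hm : x⁻¹ * g * x ∈ qC S e
  · rw [extendByZero_mem _ _ hm]
    by_contra hne
    apply hg
    have hne' : (qmu S e ⟨_, hm⟩ : ℂ) ≠ 1 := fun h => hne (by simp [qfun, h])
    have h := qmu_dvd S e hne'
    rw [show orderOf (x⁻¹ * g * x) = orderOf g by
      have := orderOf_injective (MulAut.conj x⁻¹).toMonoidHom (MulAut.conj x⁻¹).injective g
      simpa using this] at h
    exact (show 2 ^ 2 ∣ 2 ^ (n + 2) from pow_dvd_pow 2 (by omega)).trans h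
  · exact extendByZero_not_mem _ _ hm

theorem qTheta_on_qC (y : qC S e) :
    qTheta S e y = (2 : ℂ) - (qmu S e y : ℂ) - (((qmu S e y)⁻¹ : ℂˣ) : ℂ) := by
  classical
  have hterm : ∀ x : G, extendByZero (qC S e) (qfun S e) (x⁻¹ * (y : G) * x) =
      (if x ∈ qC S e then qfun S e y else 0) +
        (if x * qb S e ∈ qC S e then (1 : ℂ) - (((qmu S e y)⁻¹ : ℂˣ) : ℂ) else 0) := by
    intro x
    by_cases hx : x ∈ qC S e
    · have hxb : ¬ x * qb S e ∈ qC S e := fun h => qb_not_mem S e (by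
        simpa using (qC S e).mul_mem ((qC S e).inv_mem hx) h)
      rw [if_pos hx, if_neg hxb, add_zero]
      have hm : x⁻¹ * (y : G) * x ∈ qC S e :=
        (qC S e).mul_mem ((qC S e).mul_mem ((qC S e).inv_mem hx) y.2) hx
      rw [extendByZero_mem _ _ hm]
      have : (⟨_, hm⟩ : qC S e) = ⟨x, hx⟩⁻¹ * y * ⟨x, hx⟩ := rfl
      simp only [qfun, Pi.sub_apply]
      rw [this, map_mul, map_mul, map_inv, mul_comm _ (qmu S e y), mul_assoc, inv_mul_cancel,
        mul_one]
    rw [if_neg hx, zero_add]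
    by_cases hxb : x * qb S e ∈ qC S e
    · rw [if_pos hxb]
      set c : qC S e := ⟨x * qb S e, hxb⟩
      have hx' : x = (c : G) * (qb S e)⁻¹ := by simp [c]
      set w : qC S e := c⁻¹ * y * c
      have hm : x⁻¹ * (y : G) * x = qb S e * (w : G) * (qb S e)⁻¹ := by
        rw [hx']; simp only [w, Subgroup.coe_mul, Subgroup.coe_inv]; group
      rw [hm, extendByZero_mem _ _ (conj_mem_qC S e (qb_mem S e) w.2)]
      simp only [qfun, Pi.sub_apply]
      rw [qmu_conj, map_mul, map_mul, map_inv, mul_comm _ (qmu S e y), mul_assoc, inv_mul_cancel,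
        mul_one]
    rw [if_neg hxb]
    by_cases hm : x⁻¹ * (y : G) * x ∈ qC S e
    · rw [extendByZero_mem _ _ hm]
      by_contra hne
      have hne' : (qmu S e ⟨_, hm⟩ : ℂ) ≠ 1 := fun h => hne (by simp [qfun, h])
      have h := qmu_dvd S e hne'
      have hH : x ∈ qH S e := mem_qH_of_conj S e hm h (by simpa [mul_assoc] using y.2)
      rcases mem_qH_cases S e hH with h1 | h1
      · exact hx h1
      · exact hxb h1
    · exact extendByZero_not_mem _ _ hm
  simp only [qTheta, indFun]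
  rw [Finset.sum_congr rfl fun x _ => hterm x, Finset.sum_add_distrib,
    Finset.sum_ite, Finset.sum_ite, Finset.sum_const_zero, Finset.sum_const_zero, add_zero,
    add_zero, Finset.sum_const, Finset.sum_const, nsmul_eq_mul, nsmul_eq_mul]
  have c1 : (Finset.univ.filter fun x : G => x ∈ qC S e).card = Nat.card (qC S e) := by
    rw [← Fintype.card_subtype, ← Nat.card_eq_fintype_card]
  have c2 : (Finset.univ.filter fun x : G => x * qb S e ∈ qC S e).card = Nat.card (qC S e) := by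
    rw [← Fintype.card_subtype, ← Nat.card_eq_fintype_card]
    exact Nat.card_congr ((Equiv.mulRight (qb S e)).subtypeEquiv fun x => by simp)
  rw [c1, c2, ← mul_add, ← mul_assoc, inv_mul_cancel₀ (Nat.cast_ne_zero.mpr Nat.card_pos.ne'),
    one_mul]
  simp only [qfun, Pi.sub_apply]
  ring

theorem qTheta_inner_one : classInner (qTheta S e) (fun _ => 1) = 1 := by
  classical
  haveI := Fintype.ofFinite (qC S e)
  rw [qTheta, frobenius _ _ (fun g h => rfl), qfun, classInner_sub_left]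
  have h1 : classInner (fun c : qC S e => (qmu S e c : ℂ)) (fun _ => 1) = 0 := by
    rw [irr_orth (isIrrCharacter_linear _) isIrrCharacter_one, if_neg]
    intro h
    have := congrFun h ⟨qgen S e, qgen_mem_qC S e⟩
    have h2 := qmu_gen_sq S e
    rw [this] at h2
    norm_num at h2
  rw [irr_self isIrrCharacter_one, h1, sub_zero]

theorem qTheta_norm : classInner (qTheta S e) (qTheta S e) = 3 := by
  classical
  haveI := Fintype.ofFinite (qC S e)
  conv_lhs => arg 1; rw [qTheta]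
  rw [frobenius (qC S e) (qfun S e) (χ := qTheta S e) (isClassFunction_indFun _ _)]
  rw [show (fun h : qC S e => qTheta S e h) = ((fun _ : qC S e => (1 : ℂ)) - fun c => (qmu S e c : ℂ)) +
      ((fun _ : qC S e => (1 : ℂ)) - fun c => (((qmu S e)⁻¹ c : ℂˣ) : ℂ)) from by
    funext h
    rw [qTheta_on_qC]
    simp only [Pi.add_apply, Pi.sub_apply, MonoidHom.inv_apply]
    ring]
  have hg := qmu_gen_sq S e
  have o : ∀ f g : qC S e →* ℂˣ, classInner (fun c => (f c : ℂ)) (fun c => (g c : ℂ)) =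
      if f = g then 1 else 0 := by
    intro f g
    rw [irr_orth (isIrrCharacter_linear f) (isIrrCharacter_linear g)]
    refine if_congr ⟨fun h => MonoidHom.ext fun c => Units.ext (congrFun h c), fun h => h ▸ rfl⟩
      rfl rfl
  have e1 : (fun _ : qC S e => (1 : ℂ)) = fun c => (((1 : qC S e →* ℂˣ) c : ℂˣ) : ℂ) := by simp
  have n1 : qmu S e ≠ 1 := fun h => by rw [h] at hg; norm_num at hg
  have n2 : qmu S e ≠ (qmu S e)⁻¹ := fun h => by
    have h' := congrArg (fun f : qC S e →* ℂˣ => ((f ⟨qgen S e, qgen_mem_qC S e⟩ : ℂˣ) : ℂ)) h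
    simp only [MonoidHom.inv_apply, Units.val_inv_eq_inv_val] at h'
    have h2 : (qmu S e ⟨qgen S e, qgen_mem_qC S e⟩ : ℂ) * qmu S e ⟨qgen S e, qgen_mem_qC S e⟩ = 1 := by
      nth_rewrite 2 [h']
      exact mul_inv_cancel₀ (Units.ne_zero _)
    rw [← pow_two, hg] at h2
    norm_num at h2
  have n3 : (1 : qC S e →* ℂˣ) ≠ (qmu S e)⁻¹ := fun h => n1 (by
    ext c
    have h' := DFunLike.congr_fun h c
    rw [MonoidHom.one_apply, MonoidHom.inv_apply, eq_comm, inv_eq_one] at h'
    rw [h']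
    rfl)
  rw [qfun, classInner_add_right]
  simp only [classInner_sub_left, classInner_sub_right]
  rw [e1]
  simp only [o, if_neg n1, if_neg n1.symm, if_neg n2, if_neg n3, if_pos trivial]
  norm_num

theorem exists_exceptional_pair : ∃ χ₁ χ₂ : IrrCharacter G,
    (χ₁ : G → ℂ) ≠ (fun _ => 1) ∧ (χ₂ : G → ℂ) ≠ (fun _ => 1) ∧
      (χ₁ : G → ℂ) 1 = (χ₂ : G → ℂ) 1 + 1 ∧
      (fun g => 1 - (χ₁ : G → ℂ) g + (χ₂ : G → ℂ) g) = qTheta S e := by
  classical
  obtain ⟨z, hz, hzc⟩ := exists_int_coords (isGenChar_qTheta S e)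
  set one : IrrCharacter G := ⟨fun _ => 1, isIrrCharacter_one⟩
  have hz1 : z one = 1 := by
    have h := hzc one
    rw [qTheta_inner_one] at h
    exact_mod_cast h.symm
  have hsum : ∑ χ, z χ * z χ = 3 := by
    have h := classInner_int_combination hz
    rw [qTheta_norm] at h
    exact_mod_cast h.symm
  have hrest : ∑ χ ∈ Finset.univ.erase one, z χ * z χ = 2 := by
    rw [← Finset.add_sum_erase _ _ (Finset.mem_univ one), hz1] at hsum
    linarith
  set T := (Finset.univ.erase one).filter fun χ => z χ ≠ 0 with hT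
  have hone : ∀ χ ∈ T, z χ = 1 ∨ z χ = -1 := fun χ hχ => by
    have hle : z χ * z χ ≤ 2 := hrest ▸
      Finset.single_le_sum (f := fun χ => z χ * z χ) (fun ψ _ => mul_self_nonneg _)
        (Finset.mem_filter.mp hχ).1
    have : z χ ≤ 1 ∧ -1 ≤ z χ := by constructor <;> nlinarith
    have := (Finset.mem_filter.mp hχ).2
    omega
  have hcard : T.card = 2 := by
    have : ∑ χ ∈ T, z χ * z χ = ∑ _χ ∈ T, (1 : ℤ) := Finset.sum_congr rfl fun χ hχ => by
      rcases hone χ hχ with h | h <;> simp [h]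
    rw [hT, Finset.sum_filter_of_ne (p := fun χ => z χ ≠ 0)
      (fun χ _ hne hz0 => hne (by simp [hz0])), hrest,
      Finset.sum_const, nsmul_one] at this
    rw [hT]
    exact_mod_cast this.symm
  obtain ⟨χa, χb, hab, hTab⟩ := Finset.card_eq_two.mp hcard
  have hθ : ∀ g, qTheta S e g = 1 + z χa * (χa : G → ℂ) g + z χb * (χb : G → ℂ) g := by
    intro g
    rw [hz]
    simp only [Finset.sum_apply, Pi.smul_apply, smul_eq_mul]
    rw [← Finset.add_sum_erase _ _ (Finset.mem_univ one), hz1,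
      ← Finset.sum_filter_of_ne (p := fun χ => z χ ≠ 0) (s := Finset.univ.erase one)
        (fun χ _ hne hz0 => hne (by simp [hz0])), ← hT, hTab, Finset.sum_pair hab]
    simp [one, add_assoc]
  have hne : ∀ χ ∈ T, (χ : G → ℂ) ≠ (fun _ => 1) := fun χ hχ h =>
    (Finset.mem_erase.mp (Finset.mem_filter.mp hχ).1).1 (Subtype.ext h)
  have ha := hTab ▸ Finset.mem_insert_self χa {χb}
  have hb := hTab ▸ Finset.mem_insert_of_mem (Finset.mem_singleton_self χb)
  have h1 := hθ 1
  rw [qTheta_eq_zero S e (by simp)] at h1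
  obtain ⟨da, hda⟩ := charOne_eq_natCast (irr_isCharacter χa.2)
  obtain ⟨db, hdb⟩ := charOne_eq_natCast (irr_isCharacter χb.2)
  have hda0 : da ≠ 0 := fun h => irr_one_ne_zero χa.2 (by rw [hda, h, Nat.cast_zero])
  have hdb0 : db ≠ 0 := fun h => irr_one_ne_zero χb.2 (by rw [hdb, h, Nat.cast_zero])
  rw [hda, hdb] at h1
  have h1' : (0 : ℤ) = 1 + z χa * da + z χb * db := by exact_mod_cast h1
  rcases hone χa ha with za | za <;> rcases hone χb hb with zb | zb <;> rw [za, zb] at h1' hθ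
  · omega
  · refine ⟨χb, χa, hne _ hb, hne _ ha, ?_, funext fun g => ?_⟩
    · rw [hda, hdb]; exact_mod_cast (show (db : ℤ) = da + 1 by omega)
    · rw [hθ]; push_cast; ring
  · refine ⟨χa, χb, hne _ ha, hne _ hb, ?_, funext fun g => ?_⟩
    · rw [hda, hdb]; exact_mod_cast (show (da : ℤ) = db + 1 by omega)
    · rw [hθ]; push_cast; ring
  · exact absurd ((hne _ ha)) (fun _ => by
      have : (da : ℤ) + db = 1 := by omega
      omega)

/-- The central involution of the Sylow subgroup. -/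
def qt : G := qgen S e ^ 2 ^ (n + 2)

theorem orderOf_qt : orderOf (qt S e) = 2 := by
  rw [qt, orderOf_pow_of_dvd (by positivity) (by rw [orderOf_qgen]; exact pow_dvd_pow 2 (by omega)),
    orderOf_qgen, Nat.pow_div (by omega) two_pos, show n + 3 - (n + 2) = 1 by omega]
  norm_num

theorem involution_eq_qt {g : G} (hg : g ∈ (S : Subgroup G)) (h2 : orderOf g = 2) :
    g = qt S e := by
  obtain ⟨x, rfl⟩ := qel_surj S e hg
  rcases x with i | i
  · have hmem : qel S e (QuaternionGroup.a i) ∈ Subgroup.zpowers (qgen S e) := by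
      rw [quat_a_eq_pow, qel_pow]
      exact Subgroup.pow_mem _ (Subgroup.mem_zpowers _) _
    have h1 : qel S e (QuaternionGroup.a i) ^ 2 = 1 :=
      orderOf_dvd_iff_pow_eq_one.mp h2.dvd
    have hz := mem_of_pow_card (K := Subgroup.zpowers (qt S e))
      (by rw [Subgroup.zpowers_le, qt]; exact Subgroup.pow_mem _ (Subgroup.mem_zpowers _) _)
      (Subgroup.isCyclic_zpowers _) hmem (by rw [Nat.card_zpowers, orderOf_qt]; exact h1)
    obtain ⟨k, hk⟩ := Subgroup.mem_zpowers_iff.mp hz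
    rw [← zpow_mod_orderOf, orderOf_qt] at hk
    rcases Int.emod_two_eq_zero_or_one k with h | h <;> push_cast at hk <;> rw [h] at hk
    · rw [← hk] at h2
      simp at h2
    · simpa using hk.symm
  · rw [orderOf_qel, QuaternionGroup.orderOf_xa] at h2
    omega

theorem oddInvol_qt : OddInvol (qt S e) := by
  have ht := orderOf_qt S e
  have htS : qt S e ∈ S := Subgroup.pow_mem _ (qel_mem S e _) _
  refine ⟨by rw [← pow_two, ← ht, pow_orderOf_eq_one], fun h => by simp [h] at ht, ?_⟩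
  exact Fusion.odd_orderOf_mul_of_isolated ht htS fun g hg =>
    involution_eq_qt S e hg ((orderOf_injective (MulAut.conj g).toMonoidHom
      (MulAut.conj g).injective _).trans ht)

/-- The central involution lies in the kernel of a nonlinear character. -/
theorem exists_kernel_char : ∃ χ : IrrCharacter G, (χ : G → ℂ) 1 ≠ 1 ∧
    (χ : G → ℂ) (qt S e) = (χ : G → ℂ) 1 := by
  classical
  obtain ⟨χ₁, χ₂, n1, n2, hdeg, hθ⟩ := exists_exceptional_pair S e
  set one : IrrCharacter G := ⟨fun _ => 1, isIrrCharacter_one⟩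
  have h12 : χ₁ ≠ χ₂ := fun h => by rw [h] at hdeg; exact one_ne_zero (left_eq_add.mp hdeg)
  have h10 : χ₁ ≠ one := fun h => n1 (congrArg Subtype.val h)
  have h20 : χ₂ ≠ one := fun h => n2 (congrArg Subtype.val h)
  let c : IrrCharacter G → ℂ := fun χ =>
    if χ = one then 1 else if χ = χ₁ then -1 else if χ = χ₂ then 1 else 0
  have hsum : ∀ F : IrrCharacter G → ℂ, ∑ χ, c χ * F χ = F one - F χ₁ + F χ₂ := by
    intro F
    rw [← Finset.sum_subset (Finset.subset_univ ({one, χ₁, χ₂} : Finset (IrrCharacter G))),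
      Finset.sum_insert (by simp [h10.symm, h20.symm]), Finset.sum_pair h12]
    · simp [c, h10, h20, h12.symm]
      ring
    · intro χ _ hχ
      simp only [Finset.mem_insert, Finset.mem_singleton, not_or] at hχ
      simp [c, hχ.1, hχ.2.1, hχ.2.2]
  have hodd : ∀ g : G, ¬ 4 ∣ orderOf g → 1 - (χ₁ : G → ℂ) g + (χ₂ : G → ℂ) g = 0 := fun g hg =>
    (congrFun hθ g).trans (qTheta_eq_zero S e hg)
  have h1 := sum_coeff_sq_div (oddInvol_qt S e) c (fun g hg => by
    rw [hsum (fun χ => (χ : G → ℂ) g)]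
    exact hodd g fun h4 => (Nat.not_even_iff_odd.mpr hg)
      (even_iff_two_dvd.mpr (dvd_trans ⟨2, rfl⟩ h4)))
  rw [hsum (fun χ => (χ : G → ℂ) (qt S e) ^ 2 / (χ : G → ℂ) 1)] at h1
  have ht := hodd (qt S e) (by rw [orderOf_qt]; decide)
  refine ⟨χ₁, fun h => irr_one_ne_zero χ₂.2 (by linear_combination h - hdeg), ?_⟩
  have hd1 := irr_one_ne_zero χ₁.2
  have hd2 := irr_one_ne_zero χ₂.2
  simp only [show (one : G → ℂ) = fun _ => 1 from rfl, one_pow, div_one] at h1
  field_simp at h1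
  have e1 : (χ₁ : G → ℂ) (qt S e) = (χ₂ : G → ℂ) (qt S e) + 1 := by linear_combination -ht
  rw [e1, hdeg] at h1 ⊢
  have : ((χ₂ : G → ℂ) 1 - (χ₂ : G → ℂ) (qt S e)) ^ 2 = 0 := by linear_combination h1
  have := pow_eq_zero_iff two_ne_zero |>.mp this
  linear_combination -this

end Cfsg.Agent.Char
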