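import Cfsg.Agent.Lib.Char.IsolatedStep
import Cfsg.Agent.Lib.Char.Q8Main
import Cfsg.Agent.Lib.Char.QuatExceptional
import Cfsg.Agent.Lib.Fusion.IsolatedInvolution
import Cfsg.Agent.Lib.Solv.UniqueSub
import Cfsg.Agent.S0950

/-!
# Glauberman's theorem on isolated involutions
-/

set_option autoImplicit false
set_option linter.unusedSectionVars false
set_option linter.style.haveILetI false

namespace Cfsg.Agent.Char

open Cfsg
open scoped ComplexConjugate

universe u

variable {G : Type u} [Group G] [Finite G]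

/-- With no nontrivial odd core, a proper Sylow 2-subgroup has no normal complement. -/
theorem no_complement_of_oddCore_bot (hO : oddCore G = ⊥) (S : Sylow 2 G)
    (hS : (S : Subgroup G) ≠ ⊤) (N : Subgroup G) [N.Normal] :
    ¬ Subgroup.IsComplement' N (S : Subgroup G) := by
  intro hN
  have h1 : Nat.card N = (S : Subgroup G).index := hN.index_eq_card.symm
  have h2 : N ≤ oddCore G := Fusion.le_pPrimeCore (by
    rw [h1]
    exact Nat.coprime_comm.mp (Nat.prime_two.coprime_iff_not_dvd.mpr S.not_dvd_index))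
  rw [hO, le_bot_iff] at h2
  subst h2
  rw [Subgroup.isComplement'_bot_left] at hN
  exact hS hN

/-- A quaternion Sylow subgroup of order eight without normal complement fuses all elements of
order four. -/
theorem q8Fus_of_no_complement (S : Sylow 2 G) (e : (S : Subgroup G) ≃* QuaternionGroup 2)
    (hnc : ∀ N : Subgroup G, N.Normal → ¬ Subgroup.IsComplement' N (S : Subgroup G)) :
    ∃ x : G, x ∈ (S : Subgroup G) ∧ Q8Fus x := by
  classical
  haveI : Fact (Nat.Prime 2) := ⟨Nat.prime_two⟩
  set el : QuaternionGroup 2 → G := fun q => ((e.symm q : (S : Subgroup G)) : G) with hel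
  have hord : ∀ q, orderOf (el q) = orderOf q := fun q => by
    simp [hel, Subgroup.orderOf_coe]
  set x := el (QuaternionGroup.a 1) with hx
  have hx4 : orderOf x = 4 := by
    rw [hx, hord, QuaternionGroup.orderOf_a_one]
  have hxi : IsConj x⁻¹ x := by
    refine isConj_iff.mpr ⟨el (QuaternionGroup.xa 0), ?_⟩
    simp only [hx, hel, ← Subgroup.coe_inv, ← Subgroup.coe_mul, ← map_inv, ← map_mul]
    congr 2
  refine ⟨x, (e.symm _).2, ⟨⟨S, ⟨e⟩⟩, hx4, fun y hy => ?_⟩⟩
  have hyp : IsPGroup 2 (Subgroup.zpowers y) :=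
    IsPGroup.of_card (n := 2) (by rw [Nat.card_zpowers, hy]; rfl)
  obtain ⟨R, hR⟩ := hyp.exists_le_sylow
  obtain ⟨g, hg⟩ := MulAction.exists_smul_eq G R S
  have hy'S : g * y * g⁻¹ ∈ (S : Subgroup G) := by
    rw [← hg]
    exact Subgroup.mem_map_of_mem _ (hR (Subgroup.mem_zpowers y))
  have hyy : IsConj y (g * y * g⁻¹) := isConj_iff.mpr ⟨g, rfl⟩
  refine hyy.trans ?_
  set w := g * y * g⁻¹ with hw
  have hw4 : orderOf w = 4 :=
    (orderOf_injective (MulAut.conj g).toMonoidHom (MulAut.conj g).injective y).trans hy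
  obtain ⟨n, -, hn⟩ := Cfsg.Agent.S0950.result S e hnc (Subgroup.zpowers w)
    (Subgroup.zpowers x) (Subgroup.zpowers_le.mpr hy'S) (Subgroup.zpowers_le.mpr (e.symm _).2)
    (by rw [Nat.card_zpowers, hw4]) (by rw [Nat.card_zpowers, hx4])
  have hm : n * w * n⁻¹ ∈ Subgroup.zpowers x := by
    rw [hn]
    exact Subgroup.mem_map_of_mem _ (Subgroup.mem_zpowers w)
  have hwn : IsConj w (n * w * n⁻¹) := isConj_iff.mpr ⟨n, rfl⟩
  refine hwn.trans ?_
  have ho : orderOf (n * w * n⁻¹) = 4 :=
    (orderOf_injective (MulAut.conj n).toMonoidHom (MulAut.conj n).injective w).trans hw4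
  obtain ⟨k, hk⟩ := (mem_powers_iff_mem_zpowers.mpr hm : n * w * n⁻¹ ∈ Submonoid.powers x)
  simp only at hk
  rw [← pow_mod_orderOf, hx4] at hk
  have hk4 : k % 4 < 4 := Nat.mod_lt _ (by norm_num)
  rw [← hk] at ho ⊢
  interval_cases hh : k % 4
  · simp at ho
  · rw [pow_one]
  · rw [orderOf_pow' _ two_ne_zero, hx4] at ho
    norm_num at ho
  · have : x ^ 3 = x⁻¹ := by
      refine eq_inv_of_mul_eq_one_left ?_
      rw [← pow_succ, show (3 : ℕ) + 1 = orderOf x from hx4.symm, pow_orderOf_eq_one]
    rw [this]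
    exact hxi

/-- Unique involutions in a Sylow subgroup around an involution with no commuting partner. -/
theorem central_in_sylow {t : G} (ht : OddInvol t)
    (hun : ∀ x : G, x * x = 1 → Commute t x → x = 1 ∨ x = t) (S : Sylow 2 G)
    (htS : t ∈ (S : Subgroup G)) :
    (∀ s ∈ (S : Subgroup G), t * s = s * t) ∧
      ∀ x ∈ (S : Subgroup G), x * x = 1 → x = 1 ∨ x = t := by
  classical
  haveI : Fact (Nat.Prime 2) := ⟨Nat.prime_two⟩
  haveI : Nontrivial (S : Subgroup G) :=
    ⟨⟨⟨t, htS⟩, 1, fun e => ht.ne_one (congrArg Subtype.val e)⟩⟩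
  have hne : Nontrivial (Subgroup.center (S : Subgroup G)) := S.2.center_nontrivial
  have hd : 2 ∣ Nat.card (Subgroup.center (S : Subgroup G)) := by
    obtain ⟨k, hk⟩ := (S.2.to_subgroup (Subgroup.center (S : Subgroup G))).exists_card_eq
    have : 1 < Nat.card (Subgroup.center (S : Subgroup G)) := Finite.one_lt_card
    rcases Nat.eq_zero_or_pos k with rfl | hk0
    · simp [hk] at this
    · exact hk ▸ dvd_pow_self 2 hk0.ne'
  obtain ⟨z, hz⟩ := exists_prime_orderOf_dvd_card' 2 hd
  rw [← Subgroup.orderOf_coe, ← Subgroup.orderOf_coe] at hz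
  have hzz : ((z : (S : Subgroup G)) : G) * ((z : (S : Subgroup G)) : G) = 1 := by
    rw [← pow_two]
    exact orderOf_dvd_iff_pow_eq_one.mp hz.dvd
  have hzc : ∀ s ∈ (S : Subgroup G), ((z : (S : Subgroup G)) : G) * s =
      s * ((z : (S : Subgroup G)) : G) := fun s hs =>
    (congrArg Subtype.val (Subgroup.mem_center_iff.mp z.2 ⟨s, hs⟩)).symm
  have hzt : ((z : (S : Subgroup G)) : G) = t := by
    refine (hun _ hzz (hzc t htS).symm).resolve_left fun e => ?_
    rw [e, orderOf_one] at hz
    exact absurd hz (by decide)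
  rw [hzt] at hzc
  exact ⟨hzc, fun x hx hxx => hun x hxx (hzc x hx)⟩

theorem zStar_aux : ∀ (N : ℕ) (G : Type u) [Group G] [Finite G], Nat.card G = N →
    ∀ t : G, OddInvol t → CentralModCore t := by
  intro N
  induction N using Nat.strong_induction_on with
  | _ N ih =>
    intro G _ _ hN t ht
    classical
    haveI : Fact (Nat.Prime 2) := ⟨Nat.prime_two⟩
    have hIH : ZStarBelow G := fun H _ _ hlt s hs => ih _ (hN ▸ hlt) H rfl s hs
    by_cases hO : oddCore G = ⊥
    swap
    · have hmem : ∀ g : G, g ∈ oddCore G ↔ QuotientGroup.mk' (oddCore G) g = 1 :=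
        fun g => (QuotientGroup.eq_one_iff g).symm
      have hlt : Nat.card (G ⧸ oddCore G) < Nat.card G := by
        rw [Subgroup.card_eq_card_quotient_mul_card_subgroup (oddCore G)]
        exact lt_mul_of_one_lt_right Nat.card_pos ((Subgroup.one_lt_card_iff_ne_bot _).mpr hO)
      have htO : QuotientGroup.mk' (oddCore G) t ≠ 1 := fun e => by
        have h1 := Subgroup.orderOf_dvd_natCard (oddCore G) ((hmem t).mpr e)
        rw [ht.orderOf_eq] at h1
        exact (Nat.not_even_iff_odd.mpr (card_oddCore_odd G)) (even_iff_two_dvd.mpr h1)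
      intro g
      have h := hIH (G ⧸ oddCore G) hlt _
        (ht.map _ (QuotientGroup.mk'_surjective _) htO) (QuotientGroup.mk' _ g)
      have hb : oddCore (G ⧸ oddCore G) = ⊥ :=
        Fusion.pPrimeCore_quotient_eq_bot (p := 2) (G := G)
      rw [hb, Subgroup.mem_bot] at h
      rw [hmem, map_mul, map_mul, map_mul, map_inv, map_inv]
      exact h
    refine CentralModCore.of_central ?_
    by_cases hc : ∃ x : G, x * x = 1 ∧ x ≠ 1 ∧ x ≠ t ∧ Commute t x
    · obtain ⟨x, hx, hx1, hxt, hxc⟩ := hc
      exact central_of_commuting_involution hO hIH ht hx hx1 hxt hxc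
    push Not at hc
    obtain ⟨S, hS⟩ := (IsPGroup.of_card (n := 1)
      (by rw [Nat.card_zpowers, ht.orderOf_eq, pow_one]) :
        IsPGroup 2 (Subgroup.zpowers t)).exists_le_sylow
    have htS : t ∈ (S : Subgroup G) := hS (Subgroup.mem_zpowers t)
    obtain ⟨hcS, hun⟩ := central_in_sylow ht (fun x hx hxc => by
      by_contra hne
      push Not at hne
      exact hc x hx hne.1 hne.2 hxc) S htS
    by_cases htop : (S : Subgroup G) = ⊤
    · exact fun g => hcS g (htop ▸ Subgroup.mem_top g)
    have hnc := no_complement_of_oddCore_bot hO S htop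
    have hu : Solv.UniqueOrderP 2 (S : Subgroup G) := by
      intro a b ha hb hb1
      have key : ∀ c : (S : Subgroup G), c ^ 2 = 1 → c = 1 ∨ (c : G) = t := fun c hc2 => by
        rcases hun (c : G) c.2 (by rw [← pow_two, ← Subgroup.coe_pow, hc2]; rfl) with e | e
        · exact Or.inl (Subtype.ext e)
        · exact Or.inr e
      rcases key a ha with rfl | ea
      · exact one_mem _
      · rw [Subtype.ext (ea.trans ((key b hb).resolve_left hb1).symm) (a1 := a) (a2 := b)]
        exact Subgroup.mem_zpowers b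
    have hkill : ∀ n : ℕ, ((S : Subgroup G) ≃* QuaternionGroup (2 ^ (n + 1))) →
        ∀ g : G, t * g = g * t := by
      intro n
      letI := Fintype.ofFinite G
      cases n with
      | zero =>
        intro e
        obtain ⟨x, hxS, hx⟩ := q8Fus_of_no_complement S e fun N hN => @hnc N hN
        letI := Fintype.ofFinite (q8C x)
        obtain ⟨M, hM⟩ := exists_pModular Nat.prime_two
        have hxt : x * x = t :=
          (hun _ (mul_mem hxS hxS) (by rw [← pow_two, ← hx.orderOf_sq, pow_orderOf_eq_one])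
            ).resolve_left hx.sq_ne_one
        obtain ⟨χ, hne, hχ⟩ := hx.exists_kernel_char hM (hxt.symm ▸ ht)
        rw [hxt] at hχ
        exact central_of_char_kernel ht hO (hIH.proper ht) χ
          (fun e => hne (Subtype.ext e)) hχ
      | succ n =>
        intro e
        obtain ⟨χ, hne, hχ⟩ := exists_kernel_char S e
        have hqt : qt S e = t := by
          refine (hun _ (Subgroup.pow_mem _ (qel_mem S e _) _) (oddInvol_qt S e).sq).resolve_left
            (oddInvol_qt S e).ne_one
        rw [hqt] at hχ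
        exact central_of_char_kernel ht hO (hIH.proper ht) χ
          (fun e => hne (congrFun e 1)) hχ
    have hcyc : ¬ IsCyclic (S : Subgroup G) := by
      intro h
      have h2 : (Nat.card G).minFac = 2 :=
        (Nat.minFac_eq_two_iff _).mpr (ht.orderOf_eq ▸ orderOf_dvd_natCard t)
      exact hnc _ (IsCyclic.isComplement' h2 h)
    rcases Solv.cyclic_or_quaternion S.2 hu with h | ⟨-, n, ⟨e⟩⟩
    · exact absurd h hcyc
    rcases n with _ | n
    · rw [pow_zero] at e
      haveI := QuaternionGroup.quaternionGroup_one_isCyclic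
      exact absurd (isCyclic_of_surjective e.symm e.symm.surjective) hcyc
    exact hkill n e

/-- Glauberman's theorem: an isolated involution is central modulo the odd core. -/
theorem zStar {t : G} (ht : OddInvol t) : CentralModCore t :=
  zStar_aux _ G rfl t ht

theorem oddInvol_of_isolated_sylow {z : G} (hz : orderOf z = 2) {P : Sylow 2 G} (hP : z ∈ P)
    (h : ∀ g : G, g * z * g⁻¹ ∈ P → g * z * g⁻¹ = z) : OddInvol z :=
  ⟨by rw [← pow_two, ← hz, pow_orderOf_eq_one], fun e => by simp [e] at hz,
    fun g => Fusion.odd_orderOf_mul_of_isolated hz hP h g⟩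

/-- The theorem for `IsIsolatedInvolution`. -/
theorem zStar_isolated {z : G} (hz : Cfsg.IsIsolatedInvolution z) :
    ∀ g : G, z * g * z⁻¹ * g⁻¹ ∈ oddCore G :=
  zStar ⟨by rw [← pow_two, ← hz.1, pow_orderOf_eq_one], fun e => by simp [e] at hz; simpa using hz.1,
    Fusion.isolated_odd hz⟩

/-- An isolated involution with trivial odd core is central. -/
theorem zStar_central {t : G} (ht : OddInvol t) (hO : oddCore G = ⊥) :
    ∀ g : G, t * g = g * t := by
  intro g
  have h := zStar ht g
  rw [hO, Subgroup.mem_bot, mul_inv_eq_one, mul_inv_eq_iff_eq_mul] at h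
  exact h

end Cfsg.Agent.Char
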