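import Cfsg.Agent.Lib.Char.BrauerHom
import Cfsg.Agent.Lib.Char.Height
import Cfsg.Agent.Lib.Solv.Basic

/-!
# The correspondence of Glauberman for actions of coprime `p`-groups
-/

set_option autoImplicit false

namespace Cfsg.Agent.Char

open Cfsg Module
open scoped ComplexConjugate

universe u v

variable {M : Ideal AlgInt} {p : ℕ}

open scoped Classical in
/-- Orbit sums of an invariant function reduce to the sum over the fixed points. -/
theorem sum_fixedPoints_congr {X S : Type*} [Fintype X] [Group S] [MulAction S X]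
    (hM : IsPModular p M) (hS : IsPGroup p S) (F : X → ℂ) (hF : ∀ x, MemLocalRing M (F x))
    (hinv : ∀ (s : S) (x : X), F (s • x) = F x) :
    MemLocalIdeal M ((∑ x, F x) - ∑ x ∈ Finset.univ.filter (· ∈ MulAction.fixedPoints S X), F x) := by
  have hP := pmod_prime hM
  haveI := Fact.mk hM.1
  rw [show (∑ x, F x) - ∑ x ∈ Finset.univ.filter (· ∈ MulAction.fixedPoints S X), F x =
      ∑ x ∈ Finset.univ.filter (¬ · ∈ MulAction.fixedPoints S X), F x by
    rw [← Finset.sum_filter_add_sum_filter_not Finset.univ (· ∈ MulAction.fixedPoints S X),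
      add_sub_cancel_left]]
  set r : X → Quotient (MulAction.orbitRel S X) := fun x => Quotient.mk _ x with hr
  rw [← Finset.sum_fiberwise (Finset.univ.filter (¬ · ∈ MulAction.fixedPoints S X)) r]
  refine memLI_sum hP _ _ fun q _ => ?_
  set T := (Finset.univ.filter (¬ · ∈ MulAction.fixedPoints S X)).filter fun x => r x = q
  rcases T.eq_empty_or_nonempty with hT | ⟨x1, hx1⟩
  · rw [hT, Finset.sum_empty]; exact memLI_zero hP
  obtain ⟨hx1f, hx1q⟩ := Finset.mem_filter.mp hx1
  have hx1n : x1 ∉ MulAction.fixedPoints S X := (Finset.mem_filter.mp hx1f).2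
  have hmem : ∀ y, y ∈ T ↔ y ∈ MulAction.orbit S x1 := by
    intro y
    constructor
    · intro hy
      exact MulAction.orbitRel_apply.mp (Quotient.exact ((Finset.mem_filter.mp hy).2.trans hx1q.symm))
    · intro hy
      refine Finset.mem_filter.mpr ⟨Finset.mem_filter.mpr ⟨Finset.mem_univ _, fun hfix => hx1n ?_⟩,
        (Quotient.sound (MulAction.orbitRel_apply.mpr hy)).trans hx1q⟩
      obtain ⟨s, rfl⟩ := hy
      have := hfix s⁻¹
      rw [inv_smul_smul] at this
      exact this ▸ hfix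
  have hconst : ∀ y ∈ T, F y = F x1 := fun y hy => by
    obtain ⟨s, rfl⟩ := (hmem y).mp hy
    exact hinv s x1
  rw [Finset.sum_congr rfl hconst, Finset.sum_const, nsmul_eq_mul]
  refine memLI_mul_right hP ((memLI_natCast_iff hM _).mpr ?_) (hF x1)
  obtain ⟨k, hk⟩ := hS.card_orbit x1
  have hset : MulAction.orbit S x1 = (T : Set X) := Set.ext fun y => (hmem y).symm
  rw [hset, Nat.card_coe_set_eq, Set.ncard_coe_finset] at hk
  rw [hk]
  refine dvd_pow_self p fun hk0 => hx1n fun s => ?_
  rw [hk0, pow_zero, Finset.card_eq_one] at hk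
  obtain ⟨z, hz⟩ := hk
  have h1 : x1 = z := Finset.mem_singleton.mp (hz ▸ hx1)
  have h2 : s • x1 ∈ T := (hmem _).mpr (MulAction.mem_orbit x1 s)
  rw [hz, Finset.mem_singleton, ← h1] at h2
  exact h2

section Fusion

variable {G : Type u} [Group G] [Finite G] {S : Type v} [Group S] (φ : S →* MulAut G)

/-- A coprime `p`-group fixes a point in each invariant set of size prime to `p`. -/
theorem exists_fixed_of_card (hp : p.Prime) (hS : IsPGroup p S) (A : Set G)
    (hA : ∀ s, ∀ a ∈ A, φ s a ∈ A) (hcard : ¬ p ∣ Nat.card A) : ∃ a ∈ A, ∀ s, φ s a = a := by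
  haveI := Fact.mk hp
  letI : MulAction S A :=
    { smul := fun s a => ⟨φ s a, hA s a a.2⟩
      one_smul := fun a => Subtype.ext (show φ 1 (a : G) = a by rw [map_one]; rfl)
      mul_smul := fun s t a => Subtype.ext (show φ (s * t) (a : G) = φ s (φ t a) by
        rw [map_mul]; rfl) }
  obtain ⟨a, ha⟩ := hS.nonempty_fixed_point_of_prime_not_dvd_card A hcard
  exact ⟨a, a.2, fun s => congrArg Subtype.val (ha s)⟩

variable {C : Type u} [Group C] (ι : C →* G)

theorem fixed_conj (hp : p.Prime) (hS : IsPGroup p S) (hco : ¬ p ∣ Nat.card G)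
    (hC : ∀ g, g ∈ ι.range ↔ ∀ s, φ s g = g) (hι : Function.Injective ι) {c c' : C}
    (h : IsConj (ι c) (ι c')) : IsConj c c' := by
  obtain ⟨k, hk⟩ := isConj_iff.mp h
  have hfix : ∀ s (d : C), φ s (ι d) = ι d := fun s d => (hC _).mp ⟨d, rfl⟩ s
  have hA : ∀ s, ∀ a ∈ {g : G | g * ι c * g⁻¹ = ι c'}, φ s a ∈ {g : G | g * ι c * g⁻¹ = ι c'} := by
    intro s a ha
    have := congrArg (φ s) ha
    simp only [map_mul, map_inv, hfix] at this
    exact this
  have hcard : ¬ p ∣ Nat.card {g : G | g * ι c * g⁻¹ = ι c'} := by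
    intro hd
    refine hco (hd.trans ?_)
    have e : ({g : G | g * ι c * g⁻¹ = ι c'}) ≃
        Subgroup.centralizer ({ι c} : Set G) :=
      { toFun := fun g => ⟨k⁻¹ * g, Subgroup.mem_centralizer_singleton_iff.mpr (by
          have hg : (g : G) * ι c * (g : G)⁻¹ = k * ι c * k⁻¹ := g.2.trans hk.symm
          calc k⁻¹ * g * ι c = k⁻¹ * (g * ι c * (g : G)⁻¹) * g := by group
            _ = ι c * (k⁻¹ * g) := by rw [hg]; group)⟩
        invFun := fun z => ⟨k * z, by
          show k * (z : G) * ι c * (k * (z : G))⁻¹ = ι c'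
          have hz := Subgroup.mem_centralizer_singleton_iff.mp z.2
          calc k * (z : G) * ι c * (k * (z : G))⁻¹
              = k * ((z : G) * ι c * (z : G)⁻¹) * k⁻¹ := by group
            _ = k * ι c * k⁻¹ := by rw [hz]; group
            _ = ι c' := hk⟩
        left_inv := fun g => Subtype.ext (by simp)
        right_inv := fun z => Subtype.ext (by simp) }
    rw [Nat.card_congr e]
    exact Subgroup.card_subgroup_dvd_card _
  obtain ⟨a, ha, hfa⟩ := exists_fixed_of_card φ hp hS _ hA hcard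
  obtain ⟨d, rfl⟩ := (hC a).mpr hfa
  exact isConj_iff.mpr ⟨d, hι (by simpa using ha)⟩

theorem exists_fixed_rep (hp : p.Prime) (hS : IsPGroup p S) (hco : ¬ p ∣ Nat.card G)
    (hC : ∀ g, g ∈ ι.range ↔ ∀ s, φ s g = g) {g : G} (hg : ∀ s, IsConj g (φ s g)) :
    ∃ c : C, IsConj g (ι c) := by
  have hcard : ¬ p ∣ Nat.card {x : G | IsConj g x} := fun hd => hco (hd.trans (by
    show Nat.card {x : G // IsConj g x} ∣ _
    rw [card_conjClass_eq_index]
    exact Subgroup.index_dvd_card _))
  obtain ⟨a, ha, hfa⟩ := exists_fixed_of_card φ hp hS _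
    (fun s a (ha : IsConj g a) =>
      show IsConj g (φ s a) from (hg s).trans ((φ s).toMonoidHom.map_isConj ha)) hcard
  obtain ⟨c, rfl⟩ := (hC a).mpr hfa
  exact ⟨c, ha⟩

end Fusion

section Action

variable {G : Type u} [Group G] [Fintype G]

theorem isIrrCharacter_comp_equiv {H : Type*} [Group H] [Fintype H] (e : H ≃* G) {χ : G → ℂ}
    (h : IsIrrCharacter G χ) : IsIrrCharacter H (fun x => χ (e x)) := by
  refine isIrr_of_norm_one (isCharacter_comp e.toMonoidHom (irr_isCharacter h)) ?_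
  have h1 := irr_self h
  rw [classInner] at h1 ⊢
  rw [Nat.card_congr e.toEquiv,
    Fintype.sum_equiv e.toEquiv (fun x => χ (e x) * conj (χ (e x))) (fun g => χ g * conj (χ g))
      (fun x => rfl)]
  exact h1

/-- Irreducible characters composed with an automorphism. -/
noncomputable def irrComp (α : MulAut G) (χ : IrrCharacter G) : IrrCharacter G :=
  ⟨fun g => (χ : G → ℂ) (α g), isIrrCharacter_comp_equiv α χ.2⟩

@[simp] theorem irrComp_apply (α : MulAut G) (χ : IrrCharacter G) (g : G) :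
    (irrComp α χ : G → ℂ) g = (χ : G → ℂ) (α g) := rfl

variable {S : Type v} [Group S] (φ : S →* MulAut G)

/-- The action on irreducible characters. -/
@[reducible] noncomputable def irrAction : MulAction S (IrrCharacter G) where
  smul s χ := irrComp (φ s⁻¹) χ
  one_smul χ := Subtype.ext (funext fun g => show (χ : G → ℂ) (φ 1⁻¹ g) = _ by
    rw [inv_one, map_one]; rfl)
  mul_smul s t χ := Subtype.ext (funext fun g => show (χ : G → ℂ) (φ (s * t)⁻¹ g) =
      (χ : G → ℂ) (φ t⁻¹ (φ s⁻¹ g)) by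
    rw [mul_inv_rev, map_mul]; rfl)

theorem lam_comp (α : MulAut G) (χ : G → ℂ) (f : G → ℂ) :
    lam (fun g => χ (α g)) (fun g => f (α g)) = lam χ f := by
  simp only [lam, map_one]
  congr 1
  exact Fintype.sum_equiv α.toEquiv _ _ fun x => rfl

theorem memLR_idem (hM : IsPModular p M) (hco : ¬ p ∣ Nat.card G) (χ : IrrCharacter G) (g : G) :
    MemLocalRing M (idem (χ : G → ℂ) g) := by
  have hP := pmod_prime hM
  have hc := irr_isCharacter χ.2
  refine memLR_mul hP (memLR_inv_natCast hM hco) (memLR_mul hP (memLR_char hP hc 1) ?_)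
  rw [← char_inv hc]
  exact memLR_char hP hc _

theorem conv_idem (χ ψ : IrrCharacter G) :
    conv (idem (χ : G → ℂ)) (idem (ψ : G → ℂ)) =
      if χ = ψ then idem (χ : G → ℂ) else 0 := by
  classical
  have h1 := isClassFunction_idem (irr_isCharacter χ.2)
  have h2 := isClassFunction_idem (irr_isCharacter ψ.2)
  conv_lhs => rw [classFun_eq_sum_idem (isClassFunction_conv h1 h2)]
  simp only [fun θ : IrrCharacter G => lam_conv θ.2 h1 h2, lam_idem, ite_mul, one_mul, zero_mul,
    ite_smul, one_smul, zero_smul]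
  split_ifs with he
  · subst he
    rw [Finset.sum_eq_single χ]
    · simp
    · intro θ _ hθ; simp [hθ]
    · simp
  · refine Finset.sum_eq_zero fun θ _ => ?_
    split_ifs with a b <;> first | rfl | exact absurd (a.symm.trans b) he

end Action

section Correspondence

variable {G : Type u} [Group G] [Fintype G] {S : Type v} [Group S] (φ : S →* MulAut G)
  {C : Type u} [Group C] [Fintype C] (ι : C →* G)

theorem res_conv (hM : IsPModular p M) (hS : IsPGroup p S) (hι : Function.Injective ι)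
    (hC : ∀ g, g ∈ ι.range ↔ ∀ s, φ s g = g) {f g : G → ℂ}
    (hf : ∀ x, MemLocalRing M (f x)) (hg : ∀ x, MemLocalRing M (g x))
    (hfi : ∀ s x, f (φ s x) = f x) (hgi : ∀ s x, g (φ s x) = g x) (c : C) :
    MemLocalIdeal M (conv f g (ι c) - conv (f ∘ ι) (g ∘ ι) c) := by
  classical
  letI : MulAction S G := MulAction.compHom G φ
  have hfix : ∀ s (d : C), φ s (ι d) = ι d := fun s d => (hC _).mp ⟨d, rfl⟩ s
  have h := sum_fixedPoints_congr hM hS (fun y => f y * g (y⁻¹ * ι c))
    (fun y => memLR_mul (pmod_prime hM) (hf _) (hg _)) (fun s y => by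
      show f (φ s y) * g ((φ s y)⁻¹ * ι c) = _
      rw [hfi, ← hfix s c, ← map_inv, ← map_mul, hgi, hfix])
  have hrange : Finset.univ.filter (· ∈ MulAction.fixedPoints S G) = Finset.univ.image ι := by
    ext y
    simp only [Finset.mem_filter, Finset.mem_univ, true_and, Finset.mem_image]
    exact ⟨fun hy => (hC y).mpr hy, fun hy => (hC y).mp hy⟩
  rw [hrange, Finset.sum_image fun a _ b _ hab => hι hab] at h
  simpa only [conv, Function.comp_apply, map_mul, map_inv] using h

/-- The hypotheses of the correspondence. -/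
structure CoprimeFix (M : Ideal AlgInt) (p : ℕ) (φ : S →* MulAut G) (ι : C →* G) : Prop where
  pmod : IsPModular p M
  pgroup : IsPGroup p S
  coprime : ¬ p ∣ Nat.card G
  inj : Function.Injective ι
  range : ∀ g, g ∈ ι.range ↔ ∀ s, φ s g = g

variable {φ ι}

/-- The value of `β` at the image of the idempotent of `χ`. -/
noncomputable def glE (ι : C →* G) (χ : G → ℂ) (β : C → ℂ) : ℂ := lam β (idem χ ∘ ι)

theorem CoprimeFix.coprimeC (h : CoprimeFix M p φ ι) : ¬ p ∣ Nat.card C := fun hd =>
  h.coprime (hd.trans (Subgroup.card_dvd_of_injective ι h.inj))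

theorem isClassFunction_comp {f : G → ℂ} (hf : IsClassFunction G f) (ι : C →* G) :
    IsClassFunction C (f ∘ ι) := fun a k => by simp [hf (ι a) (ι k)]

theorem CoprimeFix.memLR_glE (h : CoprimeFix M p φ ι) (χ : IrrCharacter G) (β : IrrCharacter C) :
    MemLocalRing M (glE ι (χ : G → ℂ) (β : C → ℂ)) :=
  memLR_lam (pmod_prime h.pmod) β.2 (isClassFunction_comp (isClassFunction_idem (irr_isCharacter χ.2)) ι)
    fun _ => memLR_idem h.pmod h.coprime χ _

theorem idem_inv {χ : IrrCharacter G} (hχ : ∀ s g, (χ : G → ℂ) (φ s g) = (χ : G → ℂ) g) (s : S)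
    (g : G) : idem (χ : G → ℂ) (φ s g) = idem (χ : G → ℂ) g := by
  simp [idem, hχ]

theorem CoprimeFix.glE_mul (h : CoprimeFix M p φ ι) {χ ψ : IrrCharacter G}
    (hχ : ∀ s g, (χ : G → ℂ) (φ s g) = (χ : G → ℂ) g)
    (hψ : ∀ s g, (ψ : G → ℂ) (φ s g) = (ψ : G → ℂ) g) (β : IrrCharacter C) :
    MemLocalIdeal M ((open scoped Classical in if χ = ψ then glE ι (χ : G → ℂ) (β : C → ℂ) else 0) -
      glE ι (χ : G → ℂ) (β : C → ℂ) * glE ι (ψ : G → ℂ) (β : C → ℂ)) := by
  classical
  have hP := pmod_prime h.pmod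
  have h1 := isClassFunction_idem (irr_isCharacter χ.2)
  have h2 := isClassFunction_idem (irr_isCharacter ψ.2)
  rw [glE, glE, ← lam_conv β.2 (isClassFunction_comp h1 ι) (isClassFunction_comp h2 ι)]
  have e : (if χ = ψ then lam (β : C → ℂ) (idem (χ : G → ℂ) ∘ ι) else 0) =
      lam (β : C → ℂ) (conv (idem (χ : G → ℂ)) (idem (ψ : G → ℂ)) ∘ ι) := by
    rw [conv_idem]
    split_ifs
    · rfl
    · simp [lam]
  rw [e, ← lam_sub]
  exact memLI_lam hP β.2 (fun a k => by
    simp only [Pi.sub_apply, isClassFunction_comp (isClassFunction_conv h1 h2) ι a k,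
      isClassFunction_conv (isClassFunction_comp h1 ι) (isClassFunction_comp h2 ι) a k])
    fun c => res_conv φ ι h.pmod h.pgroup h.inj h.range (memLR_idem h.pmod h.coprime χ)
      (memLR_idem h.pmod h.coprime ψ) (idem_inv hχ) (idem_inv hψ) c

open scoped Classical in
/-- The invariant characters, as a finset. -/
noncomputable def invSet (φ : S →* MulAut G) : Finset (IrrCharacter G) :=
  Finset.univ.filter fun χ => ∀ s g, (χ : G → ℂ) (φ s g) = (χ : G → ℂ) g

theorem mem_invSet {χ : IrrCharacter G} :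
    χ ∈ invSet φ ↔ ∀ s g, (χ : G → ℂ) (φ s g) = (χ : G → ℂ) g := by
  classical
  simp [invSet]

theorem CoprimeFix.expansion (h : CoprimeFix M p φ ι) {f : G → ℂ} (hf : IsIntClassFun M f)
    (hfi : ∀ s x, f (φ s x) = f x) (β : IrrCharacter C) :
    MemLocalIdeal M (lam (β : C → ℂ) (f ∘ ι) -
      ∑ χ ∈ invSet φ, lam (χ : G → ℂ) f * glE ι (χ : G → ℂ) (β : C → ℂ)) := by
  classical
  have hP := pmod_prime h.pmod
  letI := irrAction φ
  set F : IrrCharacter G → ℂ := fun χ => lam (χ : G → ℂ) f * glE ι (χ : G → ℂ) (β : C → ℂ)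
  have e : lam (β : C → ℂ) (f ∘ ι) = ∑ χ, F χ := by
    conv_lhs => rw [classFun_eq_sum_idem hf.1]
    rw [show (∑ χ : IrrCharacter G, lam (χ : G → ℂ) f • idem (χ : G → ℂ)) ∘ ι =
        ∑ χ : IrrCharacter G, lam (χ : G → ℂ) f • (idem (χ : G → ℂ) ∘ ι) by
      funext c; simp, lam_sum]
    exact Finset.sum_congr rfl fun χ _ => lam_smul _ _ _
  have hfix : invSet φ = Finset.univ.filter (· ∈ MulAction.fixedPoints S (IrrCharacter G)) := by
    ext χ
    simp only [mem_invSet, Finset.mem_filter, Finset.mem_univ, true_and, MulAction.mem_fixedPoints]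
    constructor
    · exact fun hχ s => Subtype.ext (funext fun g => hχ s⁻¹ g)
    · intro hχ s g
      have : (χ : G → ℂ) (φ s⁻¹⁻¹ g) = (χ : G → ℂ) g := congrFun (congrArg Subtype.val (hχ s⁻¹)) g
      rwa [inv_inv] at this
  rw [e, hfix]
  refine sum_fixedPoints_congr h.pmod h.pgroup F
    (fun χ => memLR_mul hP (memLR_lam hP χ.2 hf.1 hf.2) (h.memLR_glE χ β)) fun s χ => ?_
  have e1 : lam ((s • χ : IrrCharacter G) : G → ℂ) f = lam (χ : G → ℂ) f := by
    have hf' : f = fun x => f (φ s⁻¹ x) := funext fun x => (hfi s⁻¹ x).symm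
    calc lam ((s • χ : IrrCharacter G) : G → ℂ) f
        = lam (fun g => (χ : G → ℂ) (φ s⁻¹ g)) (fun x => f (φ s⁻¹ x)) :=
          congrArg (lam (fun g => (χ : G → ℂ) (φ s⁻¹ g))) hf'
      _ = _ := lam_comp (φ s⁻¹) _ f
  have e2 : glE ι ((s • χ : IrrCharacter G) : G → ℂ) (β : C → ℂ) =
      glE ι (χ : G → ℂ) (β : C → ℂ) := by
    simp only [glE]
    congr 1
    funext c
    show _ * ((χ : G → ℂ) (φ s⁻¹ 1) * conj ((χ : G → ℂ) (φ s⁻¹ (ι c)))) = _
    rw [map_one, (h.range _).mp ⟨c, rfl⟩]
    rfl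
  simp only [F, e1, e2]

theorem CoprimeFix.exists_unique (h : CoprimeFix M p φ ι) (β : IrrCharacter C) :
    ∃ χ ∈ invSet φ, MemLocalIdeal M (glE ι (χ : G → ℂ) (β : C → ℂ) - 1) ∧
      ∀ ψ ∈ invSet φ, ψ ≠ χ → MemLocalIdeal M (glE ι (ψ : G → ℂ) (β : C → ℂ)) := by
  classical
  have hP := pmod_prime h.pmod
  have hd : (delta : G → ℂ) ∘ ι = delta := by
    funext c
    rw [Function.comp_apply, delta_apply, delta_apply]
    simp [map_eq_one_iff ι h.inj]
  have h1 := h.expansion (intClassFun_delta hP) (fun s x => by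
    rw [delta_apply, delta_apply]
    simp [map_eq_one_iff (φ s) (φ s).injective]) β
  rw [hd, lam_delta β.2] at h1
  simp only [fun χ : IrrCharacter G => lam_delta χ.2, one_mul] at h1
  obtain ⟨χ, hχ, hne⟩ : ∃ χ ∈ invSet φ, ¬ MemLocalIdeal M (glE ι (χ : G → ℂ) (β : C → ℂ)) := by
    by_contra hall
    push Not at hall
    exact memLI_one_iff hP (memLI_congr hP h1 (memLI_sum hP _ _ hall))
  refine ⟨χ, hχ, ?_, fun ψ hψ hne' => ?_⟩
  · have hm := h.glE_mul (mem_invSet.mp hχ) (mem_invSet.mp hχ) β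
    rw [if_pos rfl] at hm
    set e := glE ι (χ : G → ℂ) (β : C → ℂ)
    have : MemLocalIdeal M (e * (e - 1)) := by
      rw [show e * (e - 1) = -(e - e * e) by ring]; exact memLI_neg hP hm
    exact (memLI_mul_mem hP (h.memLR_glE χ β) (memLR_sub hP (h.memLR_glE χ β) (memLR_one hP))
      this).resolve_left hne
  · have hm := h.glE_mul (mem_invSet.mp hψ) (mem_invSet.mp hχ) β
    rw [if_neg hne', zero_sub] at hm
    exact (memLI_mul_mem hP (h.memLR_glE ψ β) (h.memLR_glE χ β)
      (by simpa using memLI_neg hP hm)).resolve_right hne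

/-- The Glauberman correspondent. -/
noncomputable def CoprimeFix.corr (h : CoprimeFix M p φ ι) (β : IrrCharacter C) : IrrCharacter G :=
  Classical.choose (h.exists_unique β)

theorem CoprimeFix.corr_inv (h : CoprimeFix M p φ ι) (β : IrrCharacter C) (s : S) (g : G) :
    (h.corr β : G → ℂ) (φ s g) = (h.corr β : G → ℂ) g :=
  mem_invSet.mp (Classical.choose_spec (h.exists_unique β)).1 s g

theorem CoprimeFix.corr_glE (h : CoprimeFix M p φ ι) (β : IrrCharacter C) :
    MemLocalIdeal M (glE ι (h.corr β : G → ℂ) (β : C → ℂ) - 1) :=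
  (Classical.choose_spec (h.exists_unique β)).2.1

theorem CoprimeFix.glE_eq_zero (h : CoprimeFix M p φ ι) (β : IrrCharacter C) {ψ : IrrCharacter G}
    (hψ : ∀ s g, (ψ : G → ℂ) (φ s g) = (ψ : G → ℂ) g) (hne : ψ ≠ h.corr β) :
    MemLocalIdeal M (glE ι (ψ : G → ℂ) (β : C → ℂ)) :=
  (Classical.choose_spec (h.exists_unique β)).2.2 ψ (mem_invSet.mpr hψ) hne

theorem CoprimeFix.corr_eq_iff (h : CoprimeFix M p φ ι) (β : IrrCharacter C) {ψ : IrrCharacter G}
    (hψ : ∀ s g, (ψ : G → ℂ) (φ s g) = (ψ : G → ℂ) g) :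
    h.corr β = ψ ↔ ¬ MemLocalIdeal M (glE ι (ψ : G → ℂ) (β : C → ℂ)) := by
  have hP := pmod_prime h.pmod
  constructor
  · rintro rfl hI
    exact memLI_one_iff hP (memLI_congr hP (memLI_symm hP (h.corr_glE β)) hI)
  · intro hne
    by_contra h'
    exact hne (h.glE_eq_zero β hψ (Ne.symm h'))

theorem CoprimeFix.lam_corr (h : CoprimeFix M p φ ι) {f : G → ℂ} (hf : IsIntClassFun M f)
    (hfi : ∀ s x, f (φ s x) = f x) (β : IrrCharacter C) :
    MemLocalIdeal M (lam (β : C → ℂ) (f ∘ ι) - lam (h.corr β : G → ℂ) f) := by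
  classical
  have hP := pmod_prime h.pmod
  refine memLI_trans hP (h.expansion hf hfi β) ?_
  rw [← Finset.add_sum_erase _ _ (mem_invSet.mpr (h.corr_inv β))]
  have h1 : MemLocalIdeal M (lam (h.corr β : G → ℂ) f * glE ι (h.corr β : G → ℂ) (β : C → ℂ) -
      lam (h.corr β : G → ℂ) f) := by
    simpa [mul_sub] using memLI_mul_left hP (memLR_lam hP (h.corr β).2 hf.1 hf.2) (h.corr_glE β)
  have h2 : MemLocalIdeal M (∑ χ ∈ (invSet φ).erase (h.corr β),
      lam (χ : G → ℂ) f * glE ι (χ : G → ℂ) (β : C → ℂ)) :=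
    memLI_sum hP _ _ fun χ hχ => memLI_mul_left hP (memLR_lam hP χ.2 hf.1 hf.2)
      (h.glE_eq_zero β (mem_invSet.mp (Finset.mem_of_mem_erase hχ)) (Finset.ne_of_mem_erase hχ))
  have := memLI_add hP h1 h2
  rwa [show ∀ a b c : ℂ, a - c + b = a + b - c from fun a b c => by ring] at this

theorem CoprimeFix.corr_injective (h : CoprimeFix M p φ ι) : Function.Injective h.corr := by
  classical
  intro β β' he
  have hP := pmod_prime h.pmod
  have hs : SameBlock M (β : C → ℂ) (β' : C → ℂ) := by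
    intro c
    have hfix : ∀ s, φ s (ι c) = ι c := fun s => (h.range _).mp ⟨c, rfl⟩ s
    have hres : classInd (ι c) ∘ ι = classInd c := by
      funext x
      simp only [Function.comp_apply, classInd]
      by_cases hx : IsConj c x
      · rw [if_pos hx, if_pos (ι.map_isConj hx)]
      · rw [if_neg hx, if_neg fun h' =>
          hx (fixed_conj φ ι h.pmod.1 h.pgroup h.coprime h.range h.inj h')]
    have hfi : ∀ s x, classInd (ι c) (φ s x) = classInd (ι c) x := fun s x => by
      have hiff : IsConj (ι c) (φ s x) ↔ IsConj (ι c) x := by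
        constructor
        · intro h'
          have e : φ s⁻¹ (φ s x) = x := by
            rw [← MulAut.mul_apply, ← map_mul, inv_mul_cancel, map_one, MulAut.one_apply]
          have h'' : IsConj (φ s⁻¹ (ι c)) (φ s⁻¹ (φ s x)) := (φ s⁻¹).toMonoidHom.map_isConj h'
          rwa [hfix, e] at h''
        · intro h'
          simpa [hfix] using (φ s).toMonoidHom.map_isConj h'
      simp only [classInd, hiff]
    have h1 := h.lam_corr (intClassFun_classInd hP (ι c)) hfi β
    have h2 := h.lam_corr (intClassFun_classInd hP (ι c)) hfi β'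
    rw [← he] at h2
    rw [hres] at h1 h2
    rw [← omega_eq_centralChar, ← omega_eq_centralChar,
      ← lam_classInd' (isClassFunction_character (irr_isCharacter β.2)),
      ← lam_classInd' (isClassFunction_character (irr_isCharacter β'.2))]
    exact memLI_trans hP h1 (memLI_symm hP h2)
  have hb : blockOf M (β : C → ℂ) = {β} := by
    refine (singleton_iff_dexp h.pmod β).mpr ?_
    have h0 := Nat.factorization_eq_zero_of_not_dvd h.coprimeC
    have := dexp_le (p := p) β.2
    omega
  exact (Set.mem_singleton_iff.mp (hb ▸ (show β' ∈ blockOf M (β : C → ℂ) from hs))).symm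

theorem CoprimeFix.corr_surjective (h : CoprimeFix M p φ ι) {χ : IrrCharacter G}
    (hχ : ∀ s g, (χ : G → ℂ) (φ s g) = (χ : G → ℂ) g) : ∃ β, h.corr β = χ := by
  classical
  have hP := pmod_prime h.pmod
  by_contra hno
  push Not at hno
  have hv : MemLocalIdeal M (idem (χ : G → ℂ) (ι 1)) := by
    rw [← Function.comp_apply (f := idem (χ : G → ℂ)),
      classFun_eq_sum_idem (isClassFunction_comp (isClassFunction_idem (irr_isCharacter χ.2)) ι),
      Finset.sum_apply]
    exact memLI_sum hP _ _ fun β _ => memLI_mul_right hP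
      (h.glE_eq_zero β hχ (Ne.symm (hno β))) (memLR_idem h.pmod h.coprimeC β 1)
  rw [map_one, idem, conj_char_one (irr_isCharacter χ.2), char_one_eq_deg (irr_isCharacter χ.2)] at hv
  have hn : ¬ MemLocalIdeal M ((deg (χ : G → ℂ) : ℂ)) := fun h' =>
    h.coprime (((memLI_natCast_iff h.pmod _).mp h').trans (deg_dvd_card χ.2))
  have hLR := memLR_natCast hP (deg (χ : G → ℂ))
  have h2 := memLI_mul_left hP (memLR_natCast hP (Nat.card G)) hv
  rw [← mul_assoc, mul_inv_cancel₀ (Nat.cast_ne_zero.mpr Nat.card_pos.ne'), one_mul] at h2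
  exact hn ((memLI_mul_mem hP hLR hLR h2).elim id id)

theorem CoprimeFix.multiplicity (h : CoprimeFix M p φ ι) {χ : IrrCharacter G}
    (hχ : ∀ s g, (χ : G → ℂ) (φ s g) = (χ : G → ℂ) g) (β : IrrCharacter C) {m : ℕ}
    (hm : classInner ((χ : G → ℂ) ∘ ι) (β : C → ℂ) = m) :
    (h.corr β = χ → ((m : ℤ) ≡ 1 [ZMOD p] ∨ (m : ℤ) ≡ -1 [ZMOD p])) ∧
      (h.corr β ≠ χ → p ∣ m) := by
  classical
  have hP := pmod_prime h.pmod
  haveI := Fact.mk h.pmod.1
  have hcG : (Nat.card G : ℂ) ≠ 0 := Nat.cast_ne_zero.mpr Nat.card_pos.ne'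
  have hcC : (Nat.card C : ℂ) ≠ 0 := Nat.cast_ne_zero.mpr Nat.card_pos.ne'
  have hχd := char_one_eq_deg (irr_isCharacter χ.2)
  have hβd := char_one_eq_deg (irr_isCharacter β.2)
  set n := deg (χ : G → ℂ)
  set b := deg (β : C → ℂ)
  have hb0 : (b : ℂ) ≠ 0 := Nat.cast_ne_zero.mpr (deg_pos β.2).ne'
  have key : (Nat.card G : ℂ) * (b : ℂ) * glE ι (χ : G → ℂ) (β : C → ℂ) =
      (n : ℂ) * (Nat.card C : ℂ) * (m : ℂ) := by
    have hcm : conj (classInner ((χ : G → ℂ) ∘ ι) (β : C → ℂ)) = m := by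
      rw [hm, Complex.conj_natCast]
    rw [classInner, map_mul, map_inv₀, Complex.conj_natCast, map_sum] at hcm
    rw [glE, lam, hβd, ← hcm]
    simp only [Function.comp_apply, idem, hχd, map_mul, Complex.conj_conj, mul_assoc,
      ← Finset.mul_sum]
    field_simp
  have hG : (p : ℤ) ∣ (Nat.card G : ℤ) - (Nat.card C : ℤ) := by
    letI : MulAction S G := MulAction.compHom G φ
    have h0 := h.pgroup.card_modEq_card_fixedPoints G
    have e : Nat.card (MulAction.fixedPoints S G) = Nat.card C :=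
      Nat.card_congr ((Equiv.setCongr (Set.ext fun g => (h.range g).symm)).trans
        (MonoidHom.ofInjective h.inj).symm.toEquiv)
    rw [e] at h0
    exact Int.ModEq.dvd (Int.natCast_modEq_iff.mpr h0.symm)
  have hGu : ¬ (p : ℤ) ∣ (Nat.card G : ℤ) := fun h' => h.coprime (Int.natCast_dvd_natCast.mp h')
  have hbu : ¬ p ∣ b := fun h' => h.coprimeC (h'.trans (deg_dvd_card β.2))
  have hnu : ¬ p ∣ n := fun h' => h.coprime (h'.trans (deg_dvd_card χ.2))
  have hp' := Nat.prime_iff_prime_int.mp h.pmod.1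
  constructor
  · intro he
    subst he
    have h1 : MemLocalIdeal M ((Nat.card G : ℂ) * (b : ℂ) * (glE ι _ (β : C → ℂ) - 1)) :=
      memLI_mul_left hP (memLR_mul hP (memLR_natCast hP _) (memLR_natCast hP _)) (h.corr_glE β)
    rw [mul_sub, key, mul_one] at h1
    have hA : (p : ℤ) ∣ (n : ℤ) * Nat.card C * m - Nat.card G * b := by
      refine (memLI_intCast_iff h.pmod _).mp ?_
      push_cast
      exact h1
    -- second congruence, from the value at the identity
    have hB : (p : ℤ) ∣ (b : ℤ) * m - n := by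
      refine (memLI_intCast_iff h.pmod _).mp ?_
      push_cast
      have hev : MemLocalIdeal M (idem (h.corr β : G → ℂ) (ι 1) - idem (β : C → ℂ) 1) := by
        have hi := isClassFunction_comp (isClassFunction_idem (irr_isCharacter (h.corr β).2)) ι
        rw [← Function.comp_apply (f := idem (h.corr β : G → ℂ)), classFun_eq_sum_idem hi,
          Finset.sum_apply, ← Finset.add_sum_erase _ _ (Finset.mem_univ β)]
        have a1 := memLI_mul_right hP (h.corr_glE β) (memLR_idem h.pmod h.coprimeC β 1)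
        have a2 : MemLocalIdeal M (∑ x ∈ Finset.univ.erase β,
            (lam (x : C → ℂ) (idem (h.corr β : G → ℂ) ∘ ι) • idem (x : C → ℂ)) 1) :=
          memLI_sum hP _ _ fun x hx => memLI_mul_right hP (h.glE_eq_zero x hχ
            fun e => Finset.ne_of_mem_erase hx (h.corr_injective e).symm)
            (memLR_idem h.pmod h.coprimeC x 1)
        refine (congrArg (MemLocalIdeal M) ?_).mp (memLI_add hP a1 a2)
        rw [glE, Pi.smul_apply, smul_eq_mul]
        ring
      rw [map_one, idem, idem, conj_char_one (irr_isCharacter (h.corr β).2),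
        conj_char_one (irr_isCharacter β.2), hχd, hβd] at hev
      have h2 := memLI_mul_left hP (memLR_mul hP (memLR_natCast hP (Nat.card G))
        (memLR_natCast hP (Nat.card C))) hev
      have h3 : MemLocalIdeal M (((Nat.card C : ℂ) * n * n - (Nat.card G : ℂ) * b * b)) := by
        refine (congrArg (MemLocalIdeal M) ?_).mp h2
        field_simp
      have h4 := memLI_sub hP (memLI_mul_right hP h3 (memLR_natCast hP m))
        (memLI_mul_right hP h1 (memLR_natCast hP n))
      -- now cancel the unit `|G| b`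
      have h5 : MemLocalIdeal M (((Nat.card G : ℂ) * b) * ((n : ℂ) - b * m)) := by
        refine (congrArg (MemLocalIdeal M) ?_).mp h4
        ring
      have hu : ¬ MemLocalIdeal M ((Nat.card G : ℂ) * b) := memLR_unit_mul_not hP
        (memLR_natCast hP _) (memLR_natCast hP _)
        (fun h' => h.coprime ((memLI_natCast_iff h.pmod _).mp h'))
        (fun h' => hbu ((memLI_natCast_iff h.pmod _).mp h'))
      have h6 := (memLI_mul_mem hP (memLR_mul hP (memLR_natCast hP _) (memLR_natCast hP _))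
        (memLR_sub hP (memLR_natCast hP _) (memLR_mul hP (memLR_natCast hP _) (memLR_natCast hP _)))
        h5).resolve_left hu
      exact memLI_symm hP h6
    have hC : (p : ℤ) ∣ ((Nat.card C : ℤ) * b) * (((m : ℤ) - 1) * ((m : ℤ) + 1)) := by
      have := dvd_add (dvd_sub hA (hB.mul_left ((Nat.card C : ℤ) * m) |>.mul_left (-1)))
        (hG.mul_right (b : ℤ))
      refine (congrArg ((p : ℤ) ∣ ·) ?_).mp this
      ring
    rcases hp'.dvd_or_dvd hC with h' | h'
    · rcases hp'.dvd_or_dvd h' with h'' | h''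
      · exact absurd (Int.natCast_dvd_natCast.mp h'') h.coprimeC
      · exact absurd (Int.natCast_dvd_natCast.mp h'') hbu
    · rcases hp'.dvd_or_dvd h' with h'' | h''
      · exact Or.inl (Int.modEq_iff_dvd.mpr (by simpa using h''.neg_right))
      · exact Or.inr (Int.modEq_iff_dvd.mpr (by simpa [sub_eq_add_neg, add_comm] using h''.neg_right))
  · intro he
    have h1 := memLI_mul_left hP (memLR_mul hP (memLR_natCast hP (Nat.card G)) (memLR_natCast hP b))
      (h.glE_eq_zero β hχ (Ne.symm he))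
    rw [key] at h1
    have : p ∣ n * Nat.card C * m := (memLI_natCast_iff h.pmod _).mp (by push_cast; exact h1)
    rcases h.pmod.1.dvd_mul.mp this with h' | h'
    · exact absurd h' (fun h'' => (h.pmod.1.dvd_mul.mp h'').elim hnu h.coprimeC)
    · exact h'

theorem CoprimeFix.corr_comp (h : CoprimeFix M p φ ι) (α : MulAut G) (γ : MulAut C)
    (hαγ : ∀ c, α (ι c) = ι (γ c)) (hn : ∀ s, ∃ s', ∀ g, α (φ s g) = φ s' (α g))
    (β : IrrCharacter C) : h.corr (irrComp γ β) = irrComp α (h.corr β) := by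
  have hinv : ∀ s g, (irrComp α (h.corr β) : G → ℂ) (φ s g) = (irrComp α (h.corr β) : G → ℂ) g := by
    intro s g
    obtain ⟨s', hs'⟩ := hn s
    rw [irrComp_apply, irrComp_apply, hs', h.corr_inv]
  rw [h.corr_eq_iff _ hinv]
  have e : idem (irrComp α (h.corr β) : G → ℂ) ∘ ι =
      fun c => (idem (h.corr β : G → ℂ) ∘ ι) (γ c) := by
    funext c
    simp only [Function.comp_apply, idem, irrComp_apply, hαγ, map_one]
  rw [glE, e, show (irrComp γ β : C → ℂ) = fun c => (β : C → ℂ) (γ c) from rfl, lam_comp]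
  exact fun hI => memLI_one_iff (pmod_prime h.pmod)
    (memLI_congr (pmod_prime h.pmod) (memLI_symm (pmod_prime h.pmod) (h.corr_glE β)) hI)

end Correspondence

end Cfsg.Agent.Char
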