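import Cfsg.Agent.Lib.Char.Linear
import Cfsg.Agent.Lib.Char.Convolution
import Cfsg.Agent.Lib.Char.PPartElem
import Cfsg.Agent.Lib.Solv.Generation
import Mathlib.GroupTheory.SchurZassenhaus

/-!
# Characters multiplicative on elements of coprime prime power order
-/

set_option autoImplicit false
set_option linter.unusedSectionVars false
set_option linter.style.haveILetI false

namespace Cfsg.Agent.Char.MultCoprime

open Cfsg Cfsg.Agent.Char
open scoped ComplexConjugate commutatorElement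

universe u

variable {G : Type u} [Group G] [Fintype G]

theorem linear_mul {χ : IrrCharacter G} (h : (χ : G → ℂ) 1 = 1) :
    ∃ l : G →* ℂˣ, (χ : G → ℂ) = fun g => (l g : ℂ) :=
  exists_hom_of_degree_one (irr_isCharacter χ.2) h

/-- Nonlinear characters vanish at `z`. -/
def Vanish (z : G) : Prop := ∀ χ : IrrCharacter G, (χ : G → ℂ) 1 ≠ 1 → (χ : G → ℂ) z = 0

theorem sum_of_vanish {g z : G} (hz : Vanish z) (hgz : g⁻¹ * z ∈ commutator G) :
    ∑ χ : IrrCharacter G, (χ : G → ℂ) g * conj ((χ : G → ℂ) z) = ((commutator G).index : ℂ) := by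
  classical
  rw [← card_linear (G := G), Nat.card_eq_fintype_card, Fintype.card_subtype,
    Finset.card_eq_sum_ones, Nat.cast_sum, Finset.sum_filter]
  refine Finset.sum_congr rfl fun χ _ => ?_
  split_ifs with h1
  · obtain ⟨l, hl⟩ := linear_mul h1
    have h2 : l g⁻¹ * l z = 1 := by
      rw [← map_mul]
      exact Abelianization.commutator_subset_ker l hgz
    have h3 : l g = l z := by
      rw [map_inv] at h2
      exact inv_mul_eq_one.mp h2
    have hn : ‖(l z : ℂ)‖ = 1 :=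
      Complex.norm_eq_one_of_pow_eq_one (linear_pow_card l z) (orderOf_pos z).ne'
    simp only [hl, h3, Nat.cast_one]
    rw [Complex.mul_conj, Complex.normSq_eq_norm_sq, hn]
    simp
  · rw [hz χ h1, map_zero, mul_zero]

theorem isConj_of_vanish {g z : G} (hz : Vanish z) (hgz : g⁻¹ * z ∈ commutator G) : IsConj g z := by
  classical
  have h := sum_of_vanish hz hgz
  rw [second_orth] at h
  by_contra hne
  rw [if_neg hne] at h
  exact Subgroup.index_ne_zero_of_finite (Nat.cast_eq_zero.mp h.symm)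

theorem card_centralizer_of_vanish {z : G} (hz : Vanish z) :
    Nat.card (Subgroup.centralizer ({z} : Set G)) = (commutator G).index := by
  classical
  have h := sum_of_vanish hz (by rw [inv_mul_cancel]; exact one_mem _ : z⁻¹ * z ∈ commutator G)
  rw [second_orth, if_pos (IsConj.refl z), ← card_conjClass_mul_centralizer z, Nat.cast_mul,
    mul_div_cancel_left₀ _ (Nat.cast_ne_zero.mpr (card_conjClass_ne_zero z))] at h
  exact_mod_cast h

theorem vanish_of_card_le {g : G}
    (h : Nat.card (Subgroup.centralizer ({g} : Set G)) ≤ (commutator G).index) : Vanish g := by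
  classical
  intro χ hχ
  have h2 := second_orth g g
  rw [if_pos (IsConj.refl g), ← card_conjClass_mul_centralizer g, Nat.cast_mul,
    mul_div_cancel_left₀ _ (Nat.cast_ne_zero.mpr (card_conjClass_ne_zero g))] at h2
  have h3 : ∑ ψ : IrrCharacter G, ‖(ψ : G → ℂ) g‖ ^ 2 =
      (Nat.card (Subgroup.centralizer ({g} : Set G)) : ℝ) := by
    have := congrArg Complex.re h2
    rw [Complex.re_sum, Complex.natCast_re] at this
    rw [← this]
    refine Finset.sum_congr rfl fun ψ _ => ?_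
    rw [Complex.mul_conj, Complex.ofReal_re, Complex.normSq_eq_norm_sq]
  have h4 : ∑ ψ : IrrCharacter G, (if (ψ : G → ℂ) 1 = 1 then (1 : ℝ) else 0) =
      ((commutator G).index : ℝ) := by
    rw [← card_linear (G := G), Nat.card_eq_fintype_card, Fintype.card_subtype, Finset.sum_boole]
  have h5 : ∀ ψ ∈ (Finset.univ : Finset (IrrCharacter G)),
      0 ≤ ‖(ψ : G → ℂ) g‖ ^ 2 - (if (ψ : G → ℂ) 1 = 1 then (1 : ℝ) else 0) := by
    intro ψ _
    split_ifs with h1
    · obtain ⟨l, hl⟩ := linear_mul h1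
      simp only [hl, Complex.norm_eq_one_of_pow_eq_one (linear_pow_card l g) (orderOf_pos g).ne']
      norm_num
    · simp
  have h6 : ∑ ψ : IrrCharacter G,
      (‖(ψ : G → ℂ) g‖ ^ 2 - (if (ψ : G → ℂ) 1 = 1 then (1 : ℝ) else 0)) = 0 := by
    refine le_antisymm ?_ (Finset.sum_nonneg h5)
    rw [Finset.sum_sub_distrib, h3, h4, sub_nonpos]
    exact_mod_cast h
  have h7 := (Finset.sum_eq_zero_iff_of_nonneg h5).mp h6 χ (Finset.mem_univ _)
  rw [if_neg hχ, sub_zero, sq_eq_zero_iff, norm_eq_zero] at h7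
  exact h7

theorem vanish_mul {x y : G}
    (h : ∀ (χ : IrrCharacter G) (t : G),
      (χ : G → ℂ) (x * (t * y * t⁻¹)) = (χ : G → ℂ) x * (χ : G → ℂ) (t * y * t⁻¹)) :
    Vanish (x * y) := by
  intro χ hχ
  have h1 := sum_conj_mul χ.2 x y
  have h2 : ∀ t, (χ : G → ℂ) (x * (t * y * t⁻¹)) = (χ : G → ℂ) x * (χ : G → ℂ) y := fun t => by
    rw [h, isClassFunction_character (irr_isCharacter χ.2) y t]
  rw [Finset.sum_congr rfl (fun t _ => h2 t), Finset.sum_const, Finset.card_univ, nsmul_eq_mul,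
    ← Nat.card_eq_fintype_card] at h1
  have h3 : ((χ : G → ℂ) 1 - 1) * ((Nat.card G : ℂ) * ((χ : G → ℂ) x * (χ : G → ℂ) y)) = 0 := by
    linear_combination h1
  have h4 := ((mul_eq_zero.mp ((mul_eq_zero.mp h3).resolve_left (sub_ne_zero.mpr hχ))).resolve_left
    (Nat.cast_ne_zero.mpr Nat.card_pos.ne'))
  have := h χ 1
  simp only [one_mul, inv_one, mul_one] at this
  rw [this, h4]

theorem isCyclic_of_fpf {p : ℕ} [Fact p.Prime] {A D : Subgroup G} (hA : IsMulCommutative A)
    (hD : IsPGroup p D) (hD1 : D ≠ ⊥) (hAD : A ≤ Subgroup.normalizer (D : Set G))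
    (hco : (Nat.card A).Coprime (Nat.card D))
    (hfpf : ∀ a ∈ A, a ≠ 1 → ∀ d ∈ D, a * d = d * a → d = 1) : IsCyclic A := by
  by_contra hnc
  refine hD1 (le_bot_iff.mp ((Solv.gen_pgroup A hA _ D rfl hD hAD hco).trans
    (iSup_le fun B => iSup_le fun hB => ?_)))
  obtain ⟨hBA, a, -, haA⟩ := hB
  have hB1 : B ≠ ⊥ := by
    rintro rfl
    rw [bot_sup_eq] at haA
    exact hnc (haA ▸ inferInstance)
  obtain ⟨b, hb, hb1⟩ := (Subgroup.ne_bot_iff_exists_ne_one.mp hB1 : ∃ b : B, b ≠ 1) |>.elim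
    fun b hb => (⟨b.1, b.2, fun h => hb (Subtype.ext h)⟩ : ∃ b : G, b ∈ B ∧ b ≠ 1)
  intro d hd
  exact hfpf b (hBA hb) hb1 d hd.1 (Subgroup.mem_centralizer_iff.mp hd.2 b hb)

theorem exists_pow_primeOrder {a : G} (ha : a ≠ 1) :
    ∃ (m q : ℕ), q.Prime ∧ orderOf (a ^ m) = q := by
  obtain ⟨q, hq, hqa⟩ := Nat.exists_prime_and_dvd (fun h => ha (orderOf_eq_one_iff.mp h))
  exact ⟨orderOf a / q, q, hq, orderOf_pow_orderOf_div (orderOf_pos a).ne' hqa⟩

theorem commute_of_commutator_le_bot {H : Subgroup G} (hH : H ⊓ commutator G = ⊥) :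
    IsMulCommutative H := by
  refine ⟨⟨fun x y => Subtype.ext ?_⟩⟩
  have h1 : ⁅(x : G), (y : G)⁆ ∈ H ⊓ commutator G := by
    refine ⟨H.mul_mem (H.mul_mem (H.mul_mem x.2 y.2) (H.inv_mem x.2)) (H.inv_mem y.2), ?_⟩
    rw [commutator_def]
    exact Subgroup.commutator_mem_commutator (Subgroup.mem_top _) (Subgroup.mem_top _)
  rw [hH, Subgroup.mem_bot, commutatorElement_eq_one_iff_mul_comm] at h1
  exact h1

/-- A structured group: the nonlinear characters vanish off `P`. -/
theorem vanish_of_structure {p : ℕ} [Fact p.Prime] {P A : Subgroup G} [hPn : P.Normal]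
    (hP : IsPGroup p P) (hA : IsMulCommutative A) (hco : (Nat.card A).Coprime p)
    (hsup : A ⊔ P = ⊤) (hC : IsMulCommutative ↥(P ⊓ Subgroup.centralizer (A : Set G)))
    (hDn : (⁅A, P⁆).Normal)
    (hCD : (P ⊓ Subgroup.centralizer (A : Set G)) ⊔ ⁅A, P⁆ = P)
    (hfpf : ∀ a ∈ A, a ≠ 1 → ∀ d ∈ ⁅A, P⁆, a * d = d * a → d = 1) :
    commutator G ≤ P ∧ ∀ g, g ∉ P → Vanish g := by
  classical
  haveI := hDn
  set C := P ⊓ Subgroup.centralizer (A : Set G) with hCdef
  set D := ⁅A, P⁆ with hD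
  have hac : ∀ a ∈ A, ∀ c ∈ C, a * c = c * a := fun a ha c hc =>
    Subgroup.mem_centralizer_iff.mp hc.2 a ha
  have hDP : D ≤ P := hCD ▸ le_sup_right
  have hG : ∀ g : G, ∃ a ∈ A, ∃ c ∈ C, ∃ d ∈ D, g = a * c * d := fun g => by
    have hg : g ∈ A ⊔ P := hsup ▸ Subgroup.mem_top g
    obtain ⟨a, ha, u, hu, rfl⟩ := Subgroup.mem_sup_of_normal_right.mp hg
    rw [← hCD] at hu
    obtain ⟨c, hc, d, hd, rfl⟩ := Subgroup.mem_sup_of_normal_right.mp hu
    exact ⟨a, ha, c, hc, d, hd, (mul_assoc _ _ _).symm⟩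
  have hcom : ∀ (a : G) (_ : a ∈ A) (c : G) (_ : c ∈ C) (a' : G) (_ : a' ∈ A) (c' : G)
      (_ : c' ∈ C), (a * c) * (a' * c') = (a' * c') * (a * c) := fun a ha c hc a' ha' c' hc' => by
    have h1 : c * a' = a' * c := (hac a' ha' c hc).symm
    have h2 : c' * a = a * c' := (hac a ha c' hc').symm
    have h3 : a * a' = a' * a := congrArg Subtype.val (mul_comm' (⟨a, ha⟩ : A) ⟨a', ha'⟩)
    have h4 : c * c' = c' * c := congrArg Subtype.val (mul_comm' (⟨c, hc⟩ : C) ⟨c', hc'⟩)
    calc (a * c) * (a' * c') = a * (c * a') * c' := by group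
      _ = (a * a') * (c * c') := by rw [h1]; group
      _ = a' * (a * c') * c := by rw [h3, h4]; group
      _ = _ := by rw [← h2]; group
  have hGD : commutator G ≤ D := by
    rw [commutator_def, Subgroup.commutator_le]
    intro g _ h _
    obtain ⟨a, ha, c, hc, d, hd, rfl⟩ := hG g
    obtain ⟨a', ha', c', hc', d', hd', rfl⟩ := hG h
    rw [← QuotientGroup.eq_one_iff, ← QuotientGroup.mk'_apply, map_commutatorElement,
      commutatorElement_eq_one_iff_mul_comm]
    simp only [map_mul, QuotientGroup.mk'_apply, (QuotientGroup.eq_one_iff _).mpr hd,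
      (QuotientGroup.eq_one_iff _).mpr hd', mul_one]
    rw [← QuotientGroup.mk_mul, ← QuotientGroup.mk_mul, ← QuotientGroup.mk_mul,
      ← QuotientGroup.mk_mul, hcom a ha c hc a' ha' c' hc']
  refine ⟨hGD.trans hDP, fun g hg => vanish_of_card_le ?_⟩
  obtain ⟨a, ha, c, hc, d0, hd0, hgeq⟩ := hG g
  have ha1 : a ≠ 1 := by
    rintro rfl
    exact hg (hgeq ▸ mul_mem (mul_mem (one_mem _) hc.1) (hDP hd0))
  have hfix : ∀ d ∈ D, (a * c) * d = d * (a * c) → d = 1 := by
    intro d hd hcd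
    obtain ⟨j, hj⟩ := IsPGroup.iff_orderOf.mp hP ⟨c, hc.1⟩
    rw [Subgroup.orderOf_mk] at hj
    have hao : (orderOf a).Coprime p := by
      refine hco.coprime_dvd_left ?_
      exact Subgroup.orderOf_mk a ha ▸ orderOf_dvd_natCard _
    have h1 : (a * c) ^ p ^ j = a ^ p ^ j := by
      rw [(show Commute a c from hac a ha c hc).mul_pow, ← hj, pow_orderOf_eq_one, mul_one]
    refine hfpf (a ^ p ^ j) (pow_mem ha _) (fun h0 => ha1 ?_) d hd ?_
    · exact orderOf_eq_one_iff.mp ((hao.pow_right j).eq_one_of_dvd (orderOf_dvd_of_pow_eq_one h0))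
    · rw [← h1]
      exact (show Commute (a * c) d from hcd).pow_left _
  have hinj : Function.Injective fun d : D => (d : G) * (a * c) * (d : G)⁻¹ := by
    intro d e he
    have h1 := hfix ((e : G)⁻¹ * d) (mul_mem (inv_mem e.2) d.2) (by
      simp only at he
      calc a * c * ((e : G)⁻¹ * d) = (e : G)⁻¹ * ((e : G) * (a * c) * (e : G)⁻¹) * d := by group
        _ = (e : G)⁻¹ * ((d : G) * (a * c) * (d : G)⁻¹) * d := by rw [he]
        _ = _ := by group)
    exact Subtype.ext (inv_mul_eq_one.mp h1).symm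
  have hmem : ∀ d : D, (a * c)⁻¹ * ((d : G) * (a * c) * (d : G)⁻¹) ∈ D := fun d => by
    have : (a * c)⁻¹ * ((d : G) * (a * c) * (d : G)⁻¹) =
        ((a * c)⁻¹ * d * ((a * c)⁻¹)⁻¹) * (d : G)⁻¹ := by group
    rw [this]
    exact mul_mem (hDn.conj_mem _ d.2 _) (inv_mem d.2)
  have hsurj : Function.Surjective fun d : D =>
      (⟨_, hmem d⟩ : D) := Finite.surjective_of_injective fun d e he =>
    hinj (mul_left_cancel (congrArg Subtype.val he))
  obtain ⟨d, hd⟩ := hsurj ⟨d0, hd0⟩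
  have hd' : (d : G) * (a * c) * (d : G)⁻¹ = g := by
    have := congrArg (fun x : D => a * c * (x : G)) hd
    simp only [mul_inv_cancel_left] at this
    rw [hgeq]
    exact this
  have hbot : Subgroup.centralizer ({g} : Set G) ⊓ D = ⊥ := by
    refine (Subgroup.eq_bot_iff_forall _).mpr fun e he => ?_
    have h1 : g * e = e * g := (Subgroup.mem_centralizer_singleton_iff.mp he.1).symm
    have h2 := hfix ((d : G)⁻¹ * e * d) (mul_mem (mul_mem (inv_mem d.2) he.2) d.2) (by
      rw [← hd'] at h1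
      calc a * c * ((d : G)⁻¹ * e * d) = (d : G)⁻¹ * ((d : G) * (a * c) * (d : G)⁻¹ * e) * d := by
            group
        _ = (d : G)⁻¹ * (e * ((d : G) * (a * c) * (d : G)⁻¹)) * d := by rw [h1]
        _ = _ := by group)
    calc e = (d : G) * ((d : G)⁻¹ * e * d) * (d : G)⁻¹ := by group
      _ = 1 := by rw [h2]; group
  have hle : Nat.card (Subgroup.centralizer ({g} : Set G)) ≤ D.index := by
    rw [Subgroup.index_eq_card]
    refine Nat.card_le_card_of_injective (fun x : Subgroup.centralizer ({g} : Set G) =>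
      ((x : G) : G ⧸ D)) fun x y hxy => Subtype.ext ?_
    have h1 : (x : G)⁻¹ * y ∈ Subgroup.centralizer ({g} : Set G) ⊓ D :=
      ⟨(Subgroup.centralizer ({g} : Set G)).mul_mem ((Subgroup.centralizer ({g} : Set G)).inv_mem x.2) y.2,
        QuotientGroup.eq.mp hxy⟩
    rw [hbot, Subgroup.mem_bot] at h1
    exact inv_mul_eq_one.mp h1
  exact hle.trans (Nat.le_of_dvd (Nat.pos_of_ne_zero Subgroup.index_ne_zero_of_finite)
    (Subgroup.index_dvd_of_le hGD))

end Cfsg.Agent.Char.MultCoprime
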