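import Cfsg.Agent.Lib.Char.CliffordCorr

/-!
The Clifford correspondence for an arbitrary normal subgroup.
-/

open scoped ComplexConjugate
open Cfsg

set_option autoImplicit false
set_option linter.style.haveILetI false

namespace Cfsg.Agent.Char

variable {G : Type*} [Group G] [Fintype G]

theorem exists_correspondent {χ : G → ℂ} (h : IsIrrCharacter G χ) (A : Subgroup G) [hA : A.Normal] [Fintype A]
    (θ : IrrCharacter A) (hcons : classInner (fun a : A => χ a) (θ : A → ℂ) ≠ 0) :
    ∃ (T : Subgroup G) (ψ : T → ℂ) (e : ℕ) (hAT : A ≤ T), IsIrrCharacter T ψ ∧ χ = indFun T ψ ∧ e ≠ 0 ∧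
      (∀ g : G, g ∈ T ↔ irrComp (MulAut.conjNormal g) θ = θ) ∧
      (∀ a : A, ψ (Subgroup.inclusion hAT a) = (e : ℂ) * (θ : A → ℂ) a) ∧
      classInner (fun a : A => χ a) (θ : A → ℂ) = (e : ℂ) := by
  classical
  set χ₀ : IrrCharacter G := ⟨χ, h⟩ with hχ₀
  have hχc := irr_isCharacter h
  obtain ⟨m, hm⟩ := exists_decomposition (isCharacter_comp A.subtype hχc)
  -- the inertia group
  let T : Subgroup G :=
    { carrier := {g | irrComp (MulAut.conjNormal g) θ = θ}
      one_mem' := Subtype.ext (funext fun a => by rw [irrComp_apply, map_one]; rfl)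
      mul_mem' := fun {a b} ha hb => Subtype.ext (funext fun x => by
        have ha' := congrFun (congrArg Subtype.val ha) (MulAut.conjNormal b x)
        have hb' := congrFun (congrArg Subtype.val hb) x
        rw [irrComp_apply] at ha' hb'
        rw [irrComp_apply, map_mul, MulAut.mul_apply, ha', hb'])
      inv_mem' := fun {a} ha => Subtype.ext (funext fun x => by
        have ha' := congrFun (congrArg Subtype.val ha) (MulAut.conjNormal a⁻¹ x)
        rw [irrComp_apply] at ha'
        rw [irrComp_apply, ← ha']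
        congr 1
        simp) }
  haveI := Fintype.ofFinite T
  have hAT : A ≤ T := fun a ha => Subtype.ext (funext fun x => by
    rw [irrComp_apply]
    have e : MulAut.conjNormal a x = (⟨a, ha⟩ : A) * x * (⟨a, ha⟩ : A)⁻¹ :=
      Subtype.ext (by simp [MulAut.conjNormal_apply])
    rw [e, isClassFunction_character (irr_isCharacter θ.2)])
  -- a constituent of the restriction to the inertia group lying over `θ`
  obtain ⟨mT, hmT⟩ := exists_decomposition (isCharacter_comp T.subtype hχc)
  let inc : A →* T := Subgroup.inclusion hAT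
  have hres : (fun a : A => χ a) = ∑ ψ : IrrCharacter T, mT ψ • ((ψ : T → ℂ) ∘ inc) := by
    funext a
    have := congrFun hmT (inc a)
    simp only [Finset.sum_apply, Pi.smul_apply] at this ⊢
    exact this
  obtain ⟨ψ, hψm, hψθ⟩ : ∃ ψ : IrrCharacter T, mT ψ ≠ 0 ∧
      classInner ((ψ : T → ℂ) ∘ inc) (θ : A → ℂ) ≠ 0 := by
    by_contra hcon
    simp only [not_exists, not_and, not_not] at hcon
    apply hcons
    rw [hres, classInner_sum_left]
    refine Finset.sum_eq_zero fun ψ _ => ?_
    rw [← Nat.cast_smul_eq_nsmul ℂ, classInner_smul_left]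
    by_cases h0 : mT ψ = 0
    · simp [h0]
    · rw [hcon ψ h0, mul_zero]
  have hψc := irr_isCharacter ψ.2
  -- `ψ` restricts to a multiple of `θ`
  haveI hAn : (A.subgroupOf T).Normal := Subgroup.Normal.comap hA _
  haveI : Fintype (A.subgroupOf T) := Fintype.ofFinite _
  let e : A.subgroupOf T ≃* A := Subgroup.subgroupOfEquivOfLe hAT
  let θT : IrrCharacter (A.subgroupOf T) := ⟨fun x => (θ : A → ℂ) (e x), isIrrCharacter_comp_equiv e θ.2⟩
  have hinner : ∀ f : T → ℂ, classInner (fun x : A.subgroupOf T => f x) (θT : A.subgroupOf T → ℂ) =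
      classInner (f ∘ inc) (θ : A → ℂ) := by
    intro f
    simp only [classInner, Nat.card_congr e.toEquiv]
    congr 1
    exact Fintype.sum_equiv e.toEquiv _ _ fun x => rfl
  have horb : cliffOrbit (A.subgroupOf T) θT = {θT} := by
    refine Finset.eq_singleton_iff_unique_mem.2 ⟨self_mem_cliffOrbit θT, fun φ hφ => ?_⟩
    obtain ⟨t, rfl⟩ := mem_cliffOrbit.1 hφ
    apply Subtype.ext
    funext x
    rw [irrComp_apply]
    have ht := congrFun (congrArg Subtype.val t.2) (e x)
    rw [irrComp_apply] at ht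
    show (θ : A → ℂ) (e _) = (θ : A → ℂ) (e x)
    rw [← ht]
    congr 1
  have hcl := clifford_restrict ψ θT (by rw [hinner]; exact hψθ)
  rw [horb, Finset.sum_singleton, hinner] at hcl
  obtain ⟨e₀, he₀⟩ := classInner_natCast (isCharacter_comp inc hψc) (irr_isCharacter θ.2)
  have hψval : ∀ a : A, (ψ : T → ℂ) (inc a) = (e₀ : ℂ) * (θ : A → ℂ) a := by
    intro a
    have h2 := congrFun hcl (e.symm a)
    rw [he₀] at h2
    simp only [Pi.smul_apply, smul_eq_mul] at h2
    rw [show (θT : A.subgroupOf T → ℂ) (e.symm a) = (θ : A → ℂ) a from by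
      show (θ : A → ℂ) (e (e.symm a)) = _
      rw [MulEquiv.apply_symm_apply]] at h2
    exact h2
  -- compare multiplicities
  have he₀ne : e₀ ≠ 0 := fun h0 => by
    apply hψθ
    rw [he₀, h0, Nat.cast_zero]
  obtain ⟨dθ, hdθ⟩ := charOne_eq_natCast (irr_isCharacter θ.2)
  have hψ1 : (ψ : T → ℂ) 1 = ((e₀ * dθ : ℕ) : ℂ) := by
    have := hψval 1
    rw [map_one, hdθ] at this
    push_cast
    exact this
  have hge : e₀ ≤ m θ := by
    have h2 : (m θ : ℂ) = ∑ φ : IrrCharacter T, (mT φ : ℂ) * classInner ((φ : T → ℂ) ∘ inc) (θ : A → ℂ) := by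
      rw [← decomposition_coeff m hm θ, show χ ∘ A.subtype = (fun a : A => χ a) from rfl, hres,
        classInner_sum_left]
      simp only [← Nat.cast_smul_eq_nsmul ℂ, classInner_smul_left]
    have hnat : ∀ φ : IrrCharacter T, ∃ n : ℕ, classInner ((φ : T → ℂ) ∘ inc) (θ : A → ℂ) = n := fun φ =>
      classInner_natCast (isCharacter_comp inc (irr_isCharacter φ.2)) (irr_isCharacter θ.2)
    choose n hn using hnat
    simp only [hn] at h2
    have h3 : m θ = ∑ φ : IrrCharacter T, mT φ * n φ := by exact_mod_cast h2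
    have hnd : n ψ = e₀ := by exact_mod_cast (hn ψ).symm.trans he₀
    rw [h3]
    refine le_trans ?_ (Finset.single_le_sum (f := fun φ => mT φ * n φ) (fun φ _ => Nat.zero_le _)
      (Finset.mem_univ ψ))
    rw [hnd]
    exact Nat.le_mul_of_pos_left e₀ (Nat.pos_of_ne_zero hψm)
  -- degree of `χ`
  have hclif := clifford_restrict χ₀ θ hcons
  have hchi1 := congrFun hclif 1
  have hsame : ∀ φ ∈ cliffOrbit A θ, (φ : A → ℂ) 1 = (dθ : ℂ) := fun φ hφ => by
    obtain ⟨g, rfl⟩ := mem_cliffOrbit.1 hφ
    rw [irrComp_apply, map_one, hdθ]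
  simp only [hχ₀, Pi.smul_apply, smul_eq_mul, Finset.sum_apply, OneMemClass.coe_one] at hchi1
  rw [Finset.sum_congr rfl hsame, Finset.sum_const, nsmul_eq_mul,
    show (fun a : A => χ a) = χ ∘ A.subtype from rfl, decomposition_coeff m hm θ] at hchi1
  have horbit : (cliffOrbit A θ).card = T.index := by
    rw [Subgroup.index]
    let f : G ⧸ T → IrrCharacter A := fun q => irrComp (MulAut.conjNormal (Quotient.out q)⁻¹) θ
    have hf : Function.Injective f := by
      intro q q' e
      rw [← QuotientGroup.out_eq' q, ← QuotientGroup.out_eq' q', QuotientGroup.eq]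
      apply Subtype.ext
      funext x
      rw [irrComp_apply, map_mul, MulAut.mul_apply]
      have h1 := congrFun (congrArg Subtype.val e) (MulAut.conjNormal (Quotient.out q') x)
      simp only [f, irrComp_apply] at h1
      rw [h1]
      congr 1
      simp
    have himg : cliffOrbit A θ = (Finset.univ.map ⟨f, hf⟩ : Finset _) := by
      ext φ
      simp only [mem_cliffOrbit, Finset.mem_map, Finset.mem_univ, true_and, Function.Embedding.coeFn_mk]
      constructor
      · rintro ⟨g, rfl⟩
        refine ⟨QuotientGroup.mk g⁻¹, ?_⟩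
        have hout := QuotientGroup.eq.1 (QuotientGroup.out_eq' (QuotientGroup.mk g⁻¹ : G ⧸ T))
        apply Subtype.ext
        funext x
        set w := Quotient.out (QuotientGroup.mk g⁻¹ : G ⧸ T) with hw
        show (θ : A → ℂ) (MulAut.conjNormal w⁻¹ x) = (θ : A → ℂ) (MulAut.conjNormal g x)
        have h1 := congrFun (congrArg Subtype.val hout) (MulAut.conjNormal g x)
        rw [irrComp_apply] at h1
        rw [← h1, ← MulAut.mul_apply, ← map_mul]
        congr 2
        group
      · rintro ⟨q, rfl⟩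
        exact ⟨_, rfl⟩
    rw [himg, Finset.card_map, Finset.card_univ, Nat.card_eq_fintype_card]
  rw [horbit] at hchi1
  have hne : classInner (indFun T (ψ : T → ℂ)) χ ≠ 0 := by
    rw [frobenius T _ (isClassFunction_character hχc), ← classInner_symm,
      show (fun t : T => χ t) = χ ∘ T.subtype from rfl, decomposition_coeff mT hmT ψ]
    simp [hψm]
  have hle : deg χ ≤ T.index * (e₀ * dθ) := by
    have h2 := degree_le_of_classInner_ne_zero (isCharacter_indFun T hψc) χ₀ hne
    simp only [hχ₀, indFun_one, hψ1, char_one_eq_deg hχc, ← Nat.cast_mul, Complex.natCast_re] at h2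
    exact_mod_cast h2
  have h2 : deg χ = m θ * (T.index * dθ) := by
    rw [char_one_eq_deg hχc] at hchi1
    exact_mod_cast hchi1
  have hdpos : 0 < T.index * dθ := Nat.pos_of_ne_zero fun h0 => irr_one_ne_zero h (by
    rw [char_one_eq_deg hχc, h2, h0, mul_zero, Nat.cast_zero])
  have hme : m θ = e₀ := le_antisymm (Nat.le_of_mul_le_mul_right (by rw [← h2]; linarith) hdpos) hge
  refine ⟨T, (ψ : T → ℂ), e₀, hAT, ψ.2, ?_, he₀ne, fun g => Iff.rfl, hψval, ?_⟩
  · refine (eq_of_inner_ne_zero_of_deg (isCharacter_indFun T hψc) χ₀ hne ?_).symm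
    show indFun T (ψ : T → ℂ) 1 = χ 1
    rw [indFun_one, hψ1, char_one_eq_deg hχc, h2, hme]
    push_cast
    ring
  · rw [show (fun a : A => χ a) = χ ∘ A.subtype from rfl, decomposition_coeff m hm θ, hme]

end Cfsg.Agent.Char
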