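import Cfsg.Agent.Lib.Char.Induced

/-!
# Local properties of defect groups
-/

set_option autoImplicit false

namespace Cfsg.Agent.Char

open Cfsg Module
open scoped ComplexConjugate

universe u

variable {G : Type u} [Group G] [Fintype G] {M : Ideal AlgInt} {p : ℕ} {B : Set (IrrCharacter G)}

theorem card_conjClass_factorization (g : G) :
    (Nat.card {x : G // IsConj g x}).factorization p +
      (Nat.card (Subgroup.centralizer ({g} : Set G))).factorization p =
        (Nat.card G).factorization p := by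
  have h := congrArg (fun n => n.factorization p) (card_conjClass_mul_centralizer g)
  rwa [Nat.factorization_mul (card_conjClass_ne_zero g) Nat.card_pos.ne', Finsupp.add_apply] at h

/-- At a class of defect equal to the block's, `ω` and the value of a height zero character are
simultaneously units. -/
theorem omega_unit_iff_char (hM : IsPModular p M) (hB : IsPBlock M B) {χ : IrrCharacter G}
    (hχ : χ ∈ B) (h0 : blockHeight p B (χ : G → ℂ) = 0) {g : G}
    (hg : (Nat.card (Subgroup.centralizer ({g} : Set G))).factorization p = blockDefect p B) :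
    MemLocalIdeal M (omega (χ : G → ℂ) g) ↔ MemLocalIdeal M ((χ : G → ℂ) g) := by
  have hP := pmod_prime hM
  have hp := hM.1
  obtain ⟨c, hc, hdeg⟩ := deg_eq_pow_mul hp χ.2
  have hsum := dmin_add_defect (p := p) (block_nonempty hP hB)
  have hcl := card_conjClass_factorization (p := p) g
  have hδ := (blockHeight_eq_zero_iff hχ).mp h0
  set N := Nat.card {x : G // IsConj g x} with hN
  obtain ⟨m, hm, hNm⟩ : ∃ m, ¬ p ∣ m ∧ N = p ^ dexp p (χ : G → ℂ) * m := by
    refine ⟨_, Nat.not_dvd_ordCompl hp (card_conjClass_ne_zero g), ?_⟩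
    rw [show dexp p (χ : G → ℂ) = N.factorization p by omega]
    exact (Nat.ordProj_mul_ordCompl_eq_self _ _).symm
  have hc0 : (c : ℂ) ≠ 0 := Nat.cast_ne_zero.mpr fun h => hc (h ▸ dvd_zero p)
  have hm0 : (m : ℂ) ≠ 0 := Nat.cast_ne_zero.mpr fun h => hm (h ▸ dvd_zero p)
  have e : omega (χ : G → ℂ) g = (χ : G → ℂ) g * ((m : ℂ) * (c : ℂ)⁻¹) := by
    rw [omega, ← hN, hNm, char_one_eq_deg (irr_isCharacter χ.2), hdeg]
    have := pow_ne_zero (dexp p (χ : G → ℂ)) (Nat.cast_ne_zero.mpr hp.ne_zero : (p : ℂ) ≠ 0)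
    push_cast
    field_simp
  rw [e]
  refine ⟨fun h => ?_, fun h => memLI_mul_right hP h
    (memLR_mul hP (memLR_natCast hP m) (memLR_inv_natCast hM hc))⟩
  have h2 := memLI_mul_right hP h (memLR_mul hP (memLR_natCast hP c) (memLR_inv_natCast hM hm))
  have e2 : (χ : G → ℂ) g * ((m : ℂ) * (c : ℂ)⁻¹) * ((c : ℂ) * (m : ℂ)⁻¹) = (χ : G → ℂ) g := by
    field_simp
  rwa [e2] at h2

theorem char_unit_at_section (hM : IsPModular p M) (hB : IsPBlock M B) {y : G} {D : Subgroup G}
    (hy : IsDefectClass M B y) (hD : IsSylCent p y D) {x : G} (hx : x ∈ D) {χ : IrrCharacter G}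
    (hχ : χ ∈ B) (h0 : blockHeight p B (χ : G → ℂ) = 0) :
    ¬ MemLocalIdeal M ((χ : G → ℂ) (x * y)) := by
  have hP := pmod_prime hM
  have := Fact.mk hM.1
  have hreg := defectClass_regular hM hB hy
  have hord : ∃ k, orderOf x = p ^ k := by
    obtain ⟨k, hk⟩ := IsPGroup.iff_orderOf.mp hD.isPGroup ⟨x, hx⟩
    exact ⟨k, by rwa [Subgroup.orderOf_mk] at hk⟩
  have hcomm : Commute x y := Subgroup.mem_centralizer_singleton_iff.mp (hD.le hx)
  intro h
  refine (omega_unit_iff hM hB hχ y).mp hy.2.2 ?_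
  rw [omega_unit_iff_char hM hB hχ h0 (factorization_centralizer_defectClass hM hB hy)]
  have hc := char_congr_preg hM (irr_isCharacter χ.2) (x * y)
  rw [preg_of_mul hM.1 hcomm hord hreg] at hc
  exact memLI_congr hP (memLI_symm hP hc) h

theorem omega_unit_at_central_section (hM : IsPModular p M) (hB : IsPBlock M B) {y : G}
    {D : Subgroup G} (hy : IsDefectClass M B y) (hD : IsSylCent p y D) {x : G} (hx : x ∈ D)
    (hxc : ∀ w ∈ D, x * w = w * x) {χ : IrrCharacter G} (hχ : χ ∈ B) :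
    ¬ MemLocalIdeal M (omega (χ : G → ℂ) (x * y)) := by
  have hP := pmod_prime hM
  have hp := hM.1
  have := Fact.mk hp
  obtain ⟨χ0, hχ0, h0⟩ := exists_height_zero (p := p) (block_nonempty hP hB)
  intro h
  have h' : MemLocalIdeal M (omega (χ0 : G → ℂ) (x * y)) :=
    memLI_congr hP (omega_congr hM hB hχ0 hχ (x * y)) h
  have hreg := defectClass_regular hM hB hy
  have hord : ∃ k, orderOf x = p ^ k := by
    obtain ⟨k, hk⟩ := IsPGroup.iff_orderOf.mp hD.isPGroup ⟨x, hx⟩
    exact ⟨k, by rwa [Subgroup.orderOf_mk] at hk⟩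
  have hcomm : Commute x y := Subgroup.mem_centralizer_singleton_iff.mp (hD.le hx)
  have hd : (Nat.card (Subgroup.centralizer ({x * y} : Set G))).factorization p =
      blockDefect p B := by
    rw [← factorization_centralizer_defectClass hM hB hy]
    refine le_antisymm ?_ ?_
    · refine (Nat.factorization_le_iff_dvd Nat.card_pos.ne' Nat.card_pos.ne').mpr
        (Subgroup.card_dvd_of_le fun w hw => ?_) p
      rw [Subgroup.mem_centralizer_singleton_iff] at hw ⊢
      have hmem : x * y ∈ Subgroup.centralizer ({w} : Set G) :=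
        Subgroup.mem_centralizer_singleton_iff.mpr hw.symm
      have h2 := preg_mem_zpowers hp (x * y) (K := Subgroup.centralizer ({w} : Set G)) hmem
      rw [preg_of_mul hp hcomm hord hreg, Subgroup.mem_centralizer_singleton_iff] at h2
      exact h2.symm
    · refine (Nat.Prime.pow_dvd_iff_le_factorization hp Nat.card_pos.ne').mp ?_
      rw [← hD.card hp]
      refine Subgroup.card_dvd_of_le fun w hw => ?_
      rw [Subgroup.mem_centralizer_singleton_iff]
      have h1 : w * y = y * w := Subgroup.mem_centralizer_singleton_iff.mp (hD.le hw)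
      calc w * (x * y) = (w * x) * y := by group
        _ = x * (w * y) := by rw [← hxc w hw, mul_assoc]
        _ = x * y * w := by rw [h1, mul_assoc]
  exact char_unit_at_section hM hB hy hD hx hχ0 h0
    ((omega_unit_iff_char hM hB hχ0 h0 hd).mp h')

omit [Fintype G] in
theorem isPGroup_sup {P Q : Subgroup G} (hP : IsPGroup p P) (hQ : IsPGroup p Q)
    (h : P ≤ Subgroup.centralizer (Q : Set G)) : IsPGroup p (Q ⊔ P : Subgroup G) :=
  hQ.to_sup_of_normal_left' hP (h.trans (Subgroup.centralizer_le_normalizer _))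

theorem exists_local_omega (hM : IsPModular p M) (hB : IsPBlock M B) {Q H : Subgroup G} [Fintype H]
    (hCH : Subgroup.centralizer (Q : Set G) ≤ H)
    (hHN : H ≤ Subgroup.normalizer (Q : Set G)) {ξ : IrrCharacter H}
    (hξ : ∀ χ ∈ B, ∀ f, IsIntClassFun M f →
      MemLocalIdeal M (brLam Q H (ξ : H → ℂ) f - lam (χ : G → ℂ) f)) {χ : IrrCharacter G}
    (hχ : χ ∈ B) {g : G} (hg : ¬ MemLocalIdeal M (omega (χ : G → ℂ) g)) :
    ∃ h : H, IsConj g (h : G) ∧ (h : G) ∈ Subgroup.centralizer (Q : Set G) ∧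
      ¬ MemLocalIdeal M (omega (ξ : H → ℂ) h) := by
  classical
  have hP := pmod_prime hM
  by_contra hne
  push Not at hne
  refine hg ?_
  rw [← lam_classInd' (isClassFunction_character (irr_isCharacter χ.2))]
  refine memLI_congr hP (memLI_symm hP (hξ χ hχ _ (intClassFun_classInd hP g))) ?_
  have := Fintype.ofFinite (ConjClasses H)
  have hI := intClassFun_brRes hP hHN (intClassFun_classInd (G := G) hP g)
  rw [brLam, lam_eq_sum_omega (isClassFunction_character (irr_isCharacter ξ.2)) hI.1]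
  refine memLI_sum hP _ _ fun C _ => ?_
  simp only [brRes, classInd]
  split_ifs with h1 h2
  · rw [one_mul]; exact hne C.out h2 h1
  · rw [zero_mul]; exact memLI_zero hP
  · rw [zero_mul]; exact memLI_zero hP

/-- Classes on which `ω_B` is nonzero meet `C(D)` in elements with `p`-part in `Z(D)`. -/
theorem exists_conj_ppart_mem_center (hM : IsPModular p M) (hB : IsPBlock M B) {D : Subgroup G}
    (hD : IsDefectGroup p M B D) {χ : IrrCharacter G} (hχ : χ ∈ B) {g : G}
    (hg : ¬ MemLocalIdeal M (omega (χ : G → ℂ) g)) :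
    ∃ x, IsConj g x ∧ x ∈ Subgroup.centralizer (D : Set G) ∧
      x * (preg p x)⁻¹ ∈ D ∧ ∀ w ∈ D, x * (preg p x)⁻¹ * w = w * (x * (preg p x)⁻¹) := by
  classical
  have hP := pmod_prime hM
  have hp := hM.1
  have := Fact.mk hp
  obtain ⟨y, hy, hDy⟩ := (isDefectGroup_iff B D).mp hD
  set C := Subgroup.centralizer (D : Set G) with hC
  have := Fintype.ofFinite C
  obtain ⟨ξ, hξ⟩ := exists_brauer_char (H := C) hM hB hDy.isPGroup le_rfl
    (Subgroup.centralizer_le_normalizer _) hDy.self_mem_centralizer hy.2.1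
  obtain ⟨h, hgh, hhC, hω⟩ := exists_local_omega hM hB le_rfl
    (Subgroup.centralizer_le_normalizer _) hξ hχ hg
  obtain ⟨y', hyy', -, hω'⟩ := exists_local_omega hM hB le_rfl
    (Subgroup.centralizer_le_normalizer _) hξ hχ ((omega_unit_iff hM hB hχ y).mp hy.2.2)
  -- the block of `ξ` has defect group `Z(D)`
  set c := blockOf M (ξ : C → ℂ)
  have hc : IsPBlock M c := isPBlock_blockOf M ξ
  have hξc : ξ ∈ c := self_mem_blockOf hP ξ
  obtain ⟨Dc, hDc⟩ := exists_isDefectGroup hM hc
  obtain ⟨yc, hyc, hDyc⟩ := (isDefectGroup_iff c Dc).mp hDc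
  set Z : Subgroup C := D.subgroupOf C with hZ
  have hZcen : Z ≤ Subgroup.center C := fun z hz => Subgroup.mem_center_iff.mpr fun w =>
    Subtype.ext (w.2 _ (Subgroup.mem_subgroupOf.mp hz)).symm
  have hZn : Z.Normal := ⟨fun z hz w => by
    have h1 := Subgroup.mem_center_iff.mp (hZcen hz) w
    rw [h1, mul_inv_cancel_right]; exact hz⟩
  have hZp : IsPGroup p Z :=
    hDy.isPGroup.comap_of_injective C.subtype (Subgroup.subtype_injective _)
  have hZD : Z ≤ Dc := pCore_le_defectGroup hM hc hDc Z hZp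
  obtain ⟨Q', hQ'⟩ := exists_isSylCent p y'
  obtain ⟨t, ht⟩ := defect_le_of_omega hM hc hyc hDyc hξc hω' hQ'
  set D' : Subgroup G := (Dc.map (MulAut.conj t⁻¹).toMonoidHom).map C.subtype with hD'
  have hD'C : D' ≤ Subgroup.centralizer (D : Set G) := Subgroup.map_subtype_le _
  have hD'p : IsPGroup p D' := (hDyc.isPGroup.map _).map _
  have hD'y : D' ≤ Subgroup.centralizer ({(y' : G)} : Set G) := by
    rintro _ ⟨v, ⟨w, hw, rfl⟩, rfl⟩
    obtain ⟨s, hs, rfl⟩ := ht hw
    have h1 := Subgroup.mem_centralizer_singleton_iff.mp (hQ'.le hs)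
    rw [Subgroup.mem_centralizer_singleton_iff]
    have h2 : (s : G) * (y' : G) = (y' : G) * s := congrArg Subtype.val h1
    simpa [mul_assoc] using h2
  have hsup : D ⊔ D' ≤ Subgroup.centralizer ({(y' : G)} : Set G) := by
    refine sup_le (fun w hw => ?_) hD'y
    exact Subgroup.mem_centralizer_singleton_iff.mpr (y'.2 w hw)
  obtain ⟨x0, hx0⟩ := hDy.exists_conj_le hp (isPGroup_sup hD'p hDy.isPGroup hD'C) hyy'
    (fun w hw => Subgroup.mem_centralizer_singleton_iff.mp (hsup hw))
  have hcard := Subgroup.card_le_of_le hx0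
  rw [Subgroup.card_map_of_injective (MulEquiv.injective _)] at hcard
  have hsupD : D ⊔ D' = D :=
    (Subgroup.eq_of_le_of_card_ge le_sup_left hcard).symm
  have hDcZ : Dc ≤ Z := by
    intro w hw
    have hmem : ((t⁻¹ * w * t : C) : G) ∈ D :=
      hsupD ▸ (le_sup_right : D' ≤ D ⊔ D') ⟨t⁻¹ * w * t, ⟨w, hw, by simp⟩, rfl⟩
    have h1 : t⁻¹ * w * t ∈ Z := Subgroup.mem_subgroupOf.mpr hmem
    have h2 := hZn.conj_mem _ h1 t
    simpa [mul_assoc] using h2
  have hZeq : Dc = Z := le_antisymm hDcZ hZD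
  obtain ⟨k, hk⟩ := IsPGroup.iff_card.mp hZp
  have hdc := card_defectGroup hM hc hDc
  rw [hZeq, hk] at hdc
  have hkd : k = blockDefect p c := Nat.pow_right_injective hp.two_le hdc
  have hsum := dmin_add_defect (p := p) (block_nonempty hP hc)
  have hδ := dmin_le (p := p) hξc
  obtain ⟨-, -, hvan⟩ := central_defect hM hZcen hk ξ hc hξc (by omega)
  have hval : (ξ : C → ℂ) h ≠ 0 := by
    intro h0
    refine hω ?_
    rw [omega, h0, mul_zero, zero_div]
    exact memLI_zero hP
  have hzZ : h * (preg p h)⁻¹ ∈ Z := by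
    by_contra hn
    exact hval (hvan h hn)
  have hcoe : ((preg p h : C) : G) = preg p (h : G) := by
    obtain ⟨⟨w, hw, hwc, ⟨j, hj⟩, hwo⟩, hr, hcm⟩ := preg_spec hp h
    have e : ((h * (preg p h)⁻¹ : C) : G) * ((preg p h : C) : G) = (h : G) := by simp
    have hj' : orderOf (((h * (preg p h)⁻¹ : C)) : G) = p ^ j := by
      rw [Subgroup.orderOf_coe]; exact hj
    have hr' : ¬ p ∣ orderOf ((preg p h : C) : G) := by rw [Subgroup.orderOf_coe]; exact hr
    have hcomm : Commute ((h * (preg p h)⁻¹ : C) : G) ((preg p h : C) : G) :=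
      (hcm.symm.mul_left (Commute.refl (preg p h)).inv_left).map C.subtype
    have h3 := preg_of_mul hp hcomm ⟨j, hj'⟩ hr'
    rw [e] at h3
    exact h3.symm
  refine ⟨(h : G), hgh, hhC, ?_, fun w hw => ?_⟩
  · have := Subgroup.mem_subgroupOf.mp hzZ
    simpa [hcoe] using this
  · have h2 : w * ((h * (preg p h)⁻¹ : C) : G) = ((h * (preg p h)⁻¹ : C) : G) * w :=
      (h * (preg p h)⁻¹ : C).2 w hw
    simp only [Subgroup.coe_mul, InvMemClass.coe_inv, hcoe] at h2
    exact h2.symm

theorem exists_induced_omega (hM : M.IsPrime) {H : Subgroup G} [Fintype H] {b : Set (IrrCharacter H)}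
    (hind : IsInducedBlock M H b B) {ξ : IrrCharacter H} (hξ : ξ ∈ b) {χ : IrrCharacter G}
    (hχ : χ ∈ B) {g : G} (hg : ¬ MemLocalIdeal M (omega (χ : G → ℂ) g)) :
    ∃ h : H, IsConj g (h : G) ∧ ¬ MemLocalIdeal M (omega (ξ : H → ℂ) h) := by
  classical
  by_contra hne
  push Not at hne
  refine hg ?_
  rw [omega_eq_centralChar]
  refine memLI_congr hM (memLI_symm hM (hind.2.2 ξ hξ χ hχ g)) ?_
  have := Fintype.ofFinite (ConjClasses H)
  rw [inducedCentralChar_eq, lam_eq_sum_omega (isClassFunction_character (irr_isCharacter ξ.2))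
    (isClassFunction_restrict (intClassFun_classInd hM g).1)]
  refine memLI_sum hM _ _ fun C _ => ?_
  simp only [classInd]
  split_ifs with h1
  · rw [one_mul]; exact hne C.out h1
  · rw [zero_mul]; exact memLI_zero hM

/-- The defect groups of an induced block contain those of the inducing block. -/
theorem induced_defect_le (hM : IsPModular p M) {H : Subgroup G} [Fintype H]
    {b : Set (IrrCharacter H)} (hind : IsInducedBlock M H b B) {D : Subgroup H}
    (hD : IsDefectGroup p M b D) :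
    ∃ E : Subgroup G, IsDefectGroup p M B E ∧ D.map H.subtype ≤ E := by
  have hP := pmod_prime hM
  obtain ⟨E, hE⟩ := exists_isDefectGroup hM hind.2.1
  obtain ⟨g, hg, hEg⟩ := (isDefectGroup_iff B E).mp hE
  obtain ⟨y, hy, hDy⟩ := (isDefectGroup_iff b D).mp hD
  obtain ⟨χ, hχ⟩ := block_nonempty hP hind.2.1
  obtain ⟨ξ, hξ⟩ := block_nonempty hP hind.1
  obtain ⟨h, hgh, hω⟩ := exists_induced_omega hP hind hξ hχ
    ((omega_unit_iff hM hind.2.1 hχ g).mp hg.2.2)
  obtain ⟨h', hconj, hc⟩ := exists_conj_mem_centralizer hM hind.1 hDy.isPGroup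
    hDy.self_mem_centralizer hy.2.1 hξ hω
  have hconjG : IsConj g (h' : G) := hgh.trans (H.subtype.map_isConj hconj)
  obtain ⟨x, hx⟩ := hEg.exists_conj_le hM.1 (Q := D.map H.subtype) (hDy.isPGroup.map _) hconjG (by
    rintro _ ⟨w, hw, rfl⟩
    exact congrArg Subtype.val (hc w hw))
  exact ⟨_, isDefectGroup_conj hM hE x, hx⟩

theorem induced_center_fusion (hM : IsPModular p M) {H : Subgroup G} [Fintype H]
    {b : Set (IrrCharacter H)} (hind : IsInducedBlock M H b B) {D : Subgroup H}
    (hD : IsDefectGroup p M b D) {P : Subgroup G} (hP' : IsDefectGroup p M B P) {x : G}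
    (hx : x ∈ P) (hxc : ∀ w ∈ P, x * w = w * x) :
    ∃ g : G, g * x * g⁻¹ ∈ D.map H.subtype ∧
      ∀ w ∈ D.map H.subtype, (g * x * g⁻¹) * w = w * (g * x * g⁻¹) := by
  have hP := pmod_prime hM
  have hp := hM.1
  have := Fact.mk hp
  obtain ⟨y, hy, hPy⟩ := (isDefectGroup_iff B P).mp hP'
  obtain ⟨χ, hχ⟩ := block_nonempty hP hind.2.1
  obtain ⟨ξ, hξ⟩ := block_nonempty hP hind.1
  obtain ⟨h, hconj, hω⟩ := exists_induced_omega hP hind hξ hχ
    (omega_unit_at_central_section hM hind.2.1 hy hPy hx hxc hχ)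
  obtain ⟨h', hh', -, hzD, hzc⟩ := exists_conj_ppart_mem_center hM hind.1 hD hξ hω
  obtain ⟨c, hc⟩ := isConj_iff.mp (hconj.trans (H.subtype.map_isConj hh'))
  have hord : ∃ k, orderOf x = p ^ k := by
    obtain ⟨k, hk⟩ := IsPGroup.iff_orderOf.mp hPy.isPGroup ⟨x, hx⟩
    exact ⟨k, by rwa [Subgroup.orderOf_mk] at hk⟩
  have hcomm : Commute x y := Subgroup.mem_centralizer_singleton_iff.mp (hPy.le hx)
  have hreg := defectClass_regular hM hind.2.1 hy
  have hcoe : ((preg p h' : H) : G) = preg p (h' : G) := by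
    obtain ⟨⟨w, hw, hwc, ⟨j, hj⟩, hwo⟩, hr, hcm⟩ := preg_spec hp h'
    have e : ((h' * (preg p h')⁻¹ : H) : G) * ((preg p h' : H) : G) = (h' : G) := by simp
    have hj' : orderOf (((h' * (preg p h')⁻¹ : H)) : G) = p ^ j := by
      rw [Subgroup.orderOf_coe]; exact hj
    have hr' : ¬ p ∣ orderOf ((preg p h' : H) : G) := by rw [Subgroup.orderOf_coe]; exact hr
    have hcomm' : Commute ((h' * (preg p h')⁻¹ : H) : G) ((preg p h' : H) : G) :=
      (hcm.symm.mul_left (Commute.refl (preg p h')).inv_left).map H.subtype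
    have h3 := preg_of_mul hp hcomm' ⟨j, hj'⟩ hr'
    rw [e] at h3
    exact h3.symm
  have e : ((h' * (preg p h')⁻¹ : H) : G) = c * x * c⁻¹ := by
    simp only [Subgroup.coe_mul, InvMemClass.coe_inv, hcoe]
    rw [show (H.subtype h' : G) = (h' : G) from rfl] at hc
    rw [← hc, preg_conj hp, preg_of_mul hp hcomm hord hreg]
    group
  refine ⟨c, ⟨_, hzD, e⟩, ?_⟩
  rintro _ ⟨w, hw, rfl⟩
  rw [← e]
  exact congrArg Subtype.val (hzc w hw)

theorem pCore_normalizer_eq (hM : IsPModular p M) (hB : IsPBlock M B) {D : Subgroup G}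
    (hD : IsDefectGroup p M B D) (R : Subgroup (Subgroup.normalizer (D : Set G))) [R.Normal]
    (hR : IsPGroup p R) (hDR : D.subgroupOf (Subgroup.normalizer (D : Set G)) ≤ R) :
    R.map (Subgroup.normalizer (D : Set G)).subtype = D := by
  classical
  obtain ⟨y, hy, hDy⟩ := (isDefectGroup_iff B D).mp hD
  have := Fintype.ofFinite (Subgroup.normalizer (D : Set G))
  obtain ⟨χ, hχ⟩ := block_nonempty (pmod_prime hM) hB
  obtain ⟨ξ, hξ⟩ := exists_brauer_char (H := Subgroup.normalizer (D : Set G)) hM hB hDy.isPGroup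
    (Subgroup.centralizer_le_normalizer _) le_rfl hDy.self_mem_centralizer hy.2.1
  obtain ⟨h, hyh, -, hω⟩ := exists_local_omega hM hB (Subgroup.centralizer_le_normalizer _) le_rfl
    hξ hχ ((omega_unit_iff hM hB hχ y).mp hy.2.2)
  have hhR : h ∈ Subgroup.centralizer (R : Set (Subgroup.normalizer (D : Set G))) := by
    by_contra hn
    exact hω (omega_memLI_of_not_centralizing hM R hR ξ hn)
  obtain ⟨x, hx⟩ := hDy.exists_conj_le hM.1
    (Q := R.map (Subgroup.normalizer (D : Set G)).subtype) (hR.map _) hyh (by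
      rintro _ ⟨w, hw, rfl⟩
      exact congrArg Subtype.val (hhR w hw))
  have hle : D ≤ R.map (Subgroup.normalizer (D : Set G)).subtype := fun w hw =>
    ⟨⟨w, Subgroup.le_normalizer hw⟩, hDR (Subgroup.mem_subgroupOf.mpr hw), rfl⟩
  have hcard := Subgroup.card_le_of_le hx
  rw [show Nat.card (D.map (MulAut.conj x).toMonoidHom) = Nat.card D from
    Subgroup.card_map_of_injective (MulEquiv.injective _)] at hcard
  exact (Subgroup.eq_of_le_of_card_ge hle hcard).symm

end Cfsg.Agent.Char
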