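import Cfsg.Agent.Lib.Char.BrauerHom
import Cfsg.Agent.Lib.Char.Linear

/-!
# Central characters and normal `p`-subgroups
-/

set_option autoImplicit false

namespace Cfsg.Agent.Char

open Cfsg Module
open scoped ComplexConjugate

universe u

variable {G : Type u} [Group G] [Fintype G] {M : Ideal AlgInt} {p : ℕ}

theorem indFun_normal_one (N : Subgroup G) [N.Normal] [DecidablePred (· ∈ N)] (g : G) :
    indFun N (fun _ => (1 : ℂ)) g = if g ∈ N then (N.index : ℂ) else 0 := by
  classical
  have hiff : ∀ x : G, x⁻¹ * g * x ∈ N ↔ g ∈ N := fun x => by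
    constructor
    · intro h
      simpa [mul_assoc] using Subgroup.Normal.conj_mem ‹_› _ h x
    · intro h
      simpa using Subgroup.Normal.conj_mem ‹_› _ h x⁻¹
  rw [indFun]
  split_ifs with hg
  · rw [Finset.sum_congr rfl (g := fun _ => (1 : ℂ))
      (fun x _ => extendByZero_mem N _ ((hiff x).mpr hg)), Finset.sum_const, Finset.card_univ,
      nsmul_eq_mul, mul_one, ← Nat.card_eq_fintype_card, ← N.index_mul_card, Nat.cast_mul]
    have : (Nat.card N : ℂ) ≠ 0 := Nat.cast_ne_zero.mpr Nat.card_pos.ne'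
    field_simp
  · rw [Finset.sum_eq_zero fun x _ => extendByZero_not_mem N _ (fun h => hg ((hiff x).mp h)),
      mul_zero]

/-- Constituents of `1_N^G`, for normal `N`, are trivial on `N`. -/
theorem constituent_trivial_on (N : Subgroup G) [N.Normal] (θ : IrrCharacter G)
    (h : classInner (indFun N (fun _ => (1 : ℂ))) (θ : G → ℂ) ≠ 0) {u : G} (hu : u ∈ N) :
    (θ : G → ℂ) u = (θ : G → ℂ) 1 := by
  classical
  have hR : IsCharacter G (indFun N (fun _ => (1 : ℂ))) := isCharacter_indFun N isCharacter_one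
  obtain ⟨m, hm⟩ := exists_decomposition hR
  have hmθ : m θ ≠ 0 := fun h0 => h (by rw [decomposition_coeff m hm θ, h0, Nat.cast_zero])
  have hev : ∀ x : G, indFun N (fun _ => (1 : ℂ)) x =
      ∑ ψ : IrrCharacter G, (m ψ : ℂ) * (ψ : G → ℂ) x := fun x => by
    have := congrFun hm x
    simpa using this
  have h1 : ∑ ψ : IrrCharacter G, (m ψ : ℂ) * ((ψ : G → ℂ) 1 - (ψ : G → ℂ) u) = 0 := by
    simp only [mul_sub, Finset.sum_sub_distrib, ← hev, indFun_normal_one, if_pos hu,
      if_pos N.one_mem, sub_self]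
  have h2 : ∑ ψ : IrrCharacter G, (m ψ : ℝ) * (((ψ : G → ℂ) 1).re - ((ψ : G → ℂ) u).re) = 0 := by
    have := congrArg Complex.re h1
    simpa using this
  have hnn : ∀ ψ ∈ (Finset.univ : Finset (IrrCharacter G)),
      0 ≤ (m ψ : ℝ) * (((ψ : G → ℂ) 1).re - ((ψ : G → ℂ) u).re) := fun ψ _ =>
    mul_nonneg (Nat.cast_nonneg _) (sub_nonneg.mpr
      ((Complex.re_le_norm _).trans (char_norm_le (irr_isCharacter ψ.2) u)))
  have h3 := (Finset.sum_eq_zero_iff_of_nonneg hnn).mp h2 θ (Finset.mem_univ _)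
  have h4 : ((θ : G → ℂ) u).re = ((θ : G → ℂ) 1).re :=
    (sub_eq_zero.mp ((mul_eq_zero.mp h3).resolve_left (Nat.cast_ne_zero.mpr hmθ))).symm
  have h5 := char_norm_le (irr_isCharacter θ.2) u
  have h6 : ‖(θ : G → ℂ) u‖ ^ 2 ≤ ((θ : G → ℂ) 1).re ^ 2 :=
    pow_le_pow_left₀ (norm_nonneg _) h5 2
  rw [Complex.sq_norm, Complex.normSq_apply, h4] at h6
  have h7 : ((θ : G → ℂ) u).im = 0 := mul_self_eq_zero.mp (le_antisymm (by nlinarith) (mul_self_nonneg _))
  apply Complex.ext h4
  rw [h7, char_one_eq_deg (irr_isCharacter θ.2), Complex.natCast_im]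

/-- Every block contains a character trivial on a given normal `p`-subgroup. -/
theorem exists_sameBlock_trivial_on (hM : IsPModular p M) (P : Subgroup G) [P.Normal]
    (hP : IsPGroup p P) (χ : IrrCharacter G) :
    ∃ θ : IrrCharacter G, SameBlock M (χ : G → ℂ) (θ : G → ℂ) ∧
      ∀ u ∈ P, (θ : G → ℂ) u = (θ : G → ℂ) 1 := by
  classical
  have := Fact.mk hM.1
  set R := indFun P (fun _ => (1 : ℂ)) with hR
  have hRc : IsCharacter G R := isCharacter_indFun P isCharacter_one
  have hne : classInner ((χ : G → ℂ) * regInd p) R ≠ 0 := by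
    rw [classInner, Finset.sum_eq_single 1]
    · rw [Pi.mul_apply, regInd_of_reg (by simp [hM.1.ne_one]), mul_one, hR, indFun_normal_one,
        if_pos P.one_mem, map_natCast]
      exact mul_ne_zero (inv_ne_zero (Nat.cast_ne_zero.mpr Nat.card_pos.ne'))
        (mul_ne_zero (irr_one_ne_zero χ.2) (Nat.cast_ne_zero.mpr Subgroup.index_ne_zero_of_finite))
    · intro x _ hx1
      by_cases hxP : x ∈ P
      · obtain ⟨k, hk⟩ := IsPGroup.iff_orderOf.mp hP ⟨x, hxP⟩
        rw [Subgroup.orderOf_mk] at hk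
        have : p ∣ orderOf x := by
          rw [hk]
          refine dvd_pow_self p fun hk0 => hx1 ?_
          rw [← orderOf_eq_one_iff, hk, hk0, pow_zero]
        simp [regInd_of_sing this]
      · rw [hR, indFun_normal_one, if_neg hxP, map_zero, mul_zero]
    · exact fun h => absurd (Finset.mem_univ _) h
  rw [char_expansion hRc, classInner_sum_right] at hne
  obtain ⟨θ, -, hθ⟩ := Finset.exists_ne_zero_of_sum_ne_zero hne
  rw [classInner_smul_right, ← einner] at hθ
  refine ⟨θ, ?_, fun u hu => ?_⟩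
  · by_contra hn
    exact hθ (by rw [einner_eq_zero_of_not_sameBlock hM χ θ hn, mul_zero])
  · exact constituent_trivial_on P θ
      (fun h => hθ (by rw [← hR] at h; rw [h, map_zero, zero_mul])) hu

theorem exists_quotient_char (P : Subgroup G) [P.Normal] (θ : IrrCharacter G)
    (h : ∀ u ∈ P, (θ : G → ℂ) u = (θ : G → ℂ) 1) :
    ∃ φ : IrrCharacter (G ⧸ P), ∀ g : G, (φ : G ⧸ P → ℂ) g = (θ : G → ℂ) g := by
  obtain ⟨_, n, ρ, hρ, rfl⟩ := θ
  have hker : P ≤ ρ.ker := by
    intro u hu
    refine MonoidHom.mem_ker.mpr ((eq_id_iff ρ u).mp ?_)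
    have := h u hu
    change ρ.character u = ρ.character 1 at this
    rw [show ρ.character 1 = (finrank ℂ (Fin n → ℂ) : ℂ) from Representation.char_one ρ] at this
    exact this
  let σ : Representation ℂ (G ⧸ P) (Fin n → ℂ) := QuotientGroup.lift P ρ hker
  have hσ : σ.IsIrreducible := by
    have := hρ
    let up : Subrepresentation σ → Subrepresentation ρ := fun S =>
      ⟨S.toSubmodule, fun g => S.apply_mem_toSubmodule (g : G ⧸ P)⟩
    have : Nontrivial (Subrepresentation σ) := by
      obtain ⟨⟨S, T, hST⟩⟩ := (inferInstance : Nontrivial (Subrepresentation ρ))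
      refine ⟨⟨⊥, ⊤, fun hbt => hST ?_⟩⟩
      have h0 : (⊥ : Submodule ℂ (Fin n → ℂ)) = ⊤ := congrArg Subrepresentation.toSubmodule hbt
      apply Subrepresentation.toSubmodule_injective
      exact (eq_bot_iff.mpr (h0 ▸ le_top)).trans (eq_bot_iff.mpr (h0 ▸ le_top)).symm
    refine ⟨fun S => ?_⟩
    rcases eq_bot_or_eq_top (up S) with hb | hb
    · exact Or.inl (Subrepresentation.toSubmodule_injective (congrArg Subrepresentation.toSubmodule hb :))
    · exact Or.inr (Subrepresentation.toSubmodule_injective (congrArg Subrepresentation.toSubmodule hb :))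
  exact ⟨⟨σ.character, n, σ, hσ, rfl⟩, fun g => rfl⟩

/-- Classes not centralizing a normal `p`-subgroup have central character zero modulo `M`. -/
theorem omega_memLI_of_not_centralizing (hM : IsPModular p M) (P : Subgroup G) [P.Normal]
    (hP : IsPGroup p P) (χ : IrrCharacter G) {g : G}
    (hg : g ∉ Subgroup.centralizer (P : Set G)) : MemLocalIdeal M (omega (χ : G → ℂ) g) := by
  classical
  have hMp := pmod_prime hM
  have := Fact.mk hM.1
  obtain ⟨θ, hs, hθ⟩ := exists_sameBlock_trivial_on hM P hP χ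
  suffices h : MemLocalIdeal M (omega (θ : G → ℂ) g) by
    refine memLI_congr hMp ?_ h
    have := hs g
    rwa [← omega_eq_centralChar, ← omega_eq_centralChar] at this
  obtain ⟨φ, hφ⟩ := exists_quotient_char P θ hθ
  have := Fintype.ofFinite (G ⧸ P)
  set K := Finset.univ.filter (fun x : G => IsConj g x)
  set K' := Finset.univ.filter (fun y : G ⧸ P => IsConj (g : G ⧸ P) y)
  set S := K.filter (fun x : G => (x : G ⧸ P) = (g : G ⧸ P))
  have hcl : ∀ x, x ∈ K ↔ IsConj g x := fun x => by simp [K]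
  have hS : p ∣ S.card := by
    refine (memLI_natCast_iff hM _).mp ?_
    set F : G → ℂ := fun x => if x ∈ S then 1 else 0
    have hmem : ∀ x, x ∈ S ↔ IsConj g x ∧ (x : G ⧸ P) = (g : G ⧸ P) := fun x => by
      simp [S, Finset.mem_filter, hcl]
    have h := sum_centralizer_congr hM hP F
      (fun x => by simp only [F]; split_ifs; exacts [memLR_one hMp, memLR_zero hMp])
      (fun u hu x => by
        refine if_congr ?_ rfl rfl
        rw [hmem, hmem]
        have e : ((u * x * u⁻¹ : G) : G ⧸ P) = (x : G ⧸ P) := by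
          simp [(QuotientGroup.eq_one_iff u).mpr hu]
        rw [e]
        exact and_congr_left' ⟨fun h => h.trans (isConj_iff.mpr ⟨u⁻¹, by simp [mul_assoc]⟩),
          fun h => h.trans (isConj_iff.mpr ⟨u, rfl⟩)⟩)
    have e1 : ∑ x : G, F x = (S.card : ℂ) := by simp [F]
    have e2 : ∑ x : G with x ∈ Subgroup.centralizer (P : Set G), F x = 0 := by
      refine Finset.sum_eq_zero fun x hx => if_neg fun hxS => hg ?_
      obtain ⟨c, hc⟩ := isConj_iff.mp ((hmem x).mp hxS).1.symm
      rw [← hc]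
      have hn : c ∈ Subgroup.normalizer (P : Set G) := by rw [Subgroup.normalizer_eq_top]; exact Subgroup.mem_top c
      exact (conj_mem_centralizer_iff (H := Subgroup.normalizer (P : Set G)) le_rfl
        ⟨c, hn⟩ x).mpr (Finset.mem_filter.mp hx).2
    rw [e1, e2, sub_zero] at h
    exact h
  have hK : K.card = K'.card * S.card := by
    rw [Finset.card_eq_sum_card_fiberwise (t := K') (f := fun x : G => (x : G ⧸ P))
      (fun x hx => by
        rw [Finset.mem_coe] at hx ⊢
        refine Finset.mem_filter.mpr ⟨Finset.mem_univ _, ?_⟩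
        exact MonoidHom.map_isConj (QuotientGroup.mk' P) ((hcl x).mp hx)),
      Finset.sum_congr rfl (g := fun _ => S.card), Finset.sum_const, smul_eq_mul]
    intro y hy
    obtain ⟨c, hc⟩ := isConj_iff.mp (Finset.mem_filter.mp hy).2
    obtain ⟨c, rfl⟩ := QuotientGroup.mk_surjective c
    refine Finset.card_nbij' (fun x => c⁻¹ * x * c) (fun x => c * x * c⁻¹) ?_ ?_ ?_ ?_
    · intro x hx
      simp only [Finset.mem_coe, Finset.mem_filter, S, hcl] at hx ⊢
      refine ⟨hx.1.trans (isConj_iff.mpr ⟨c⁻¹, by simp⟩), ?_⟩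
      simp [hx.2, ← hc, mul_assoc]
    · intro x hx
      simp only [Finset.mem_coe, Finset.mem_filter, S, hcl] at hx ⊢
      refine ⟨hx.1.trans (isConj_iff.mpr ⟨c, rfl⟩), ?_⟩
      simp [hx.2, ← hc]
    · intro x _; simp [mul_assoc]
    · intro x _; simp [mul_assoc]
  have hcardK : (Nat.card {x : G // IsConj g x}) = K.card := by
    rw [Nat.card_eq_fintype_card, Fintype.card_subtype]
  have hcardK' : (Nat.card {y : G ⧸ P // IsConj (g : G ⧸ P) y}) = K'.card := by
    rw [Nat.card_eq_fintype_card, Fintype.card_subtype]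
  have e : omega (θ : G → ℂ) g = (S.card : ℂ) * omega (φ : G ⧸ P → ℂ) (g : G ⧸ P) := by
    rw [omega, omega, hcardK, hcardK', hK, hφ g, show (φ : G ⧸ P → ℂ) 1 = (θ : G → ℂ) 1 from hφ 1]
    push_cast
    ring
  rw [e]
  exact memLI_mul_right hMp ((memLI_natCast_iff hM _).mpr hS) (memLR_omega hMp φ.2 _)

theorem lam_congr_centralizer (hM : IsPModular p M) (P : Subgroup G) [P.Normal] (hP : IsPGroup p P)
    (χ : IrrCharacter G) {f : G → ℂ} (hf : IsIntClassFun M f)
    (h : ∀ x ∈ Subgroup.centralizer (P : Set G), f x = 0) : MemLocalIdeal M (lam (χ : G → ℂ) f) := by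
  have hMp := pmod_prime hM
  have := Fintype.ofFinite (ConjClasses G)
  rw [lam_eq_sum_omega (isClassFunction_character (irr_isCharacter χ.2)) hf.1]
  refine memLI_sum hMp _ _ fun C _ => ?_
  by_cases hC : C.out ∈ Subgroup.centralizer (P : Set G)
  · rw [h _ hC, zero_mul]; exact memLI_zero hMp
  · exact memLI_mul_left hMp (hf.2 _) (omega_memLI_of_not_centralizing hM P hP χ hC)

end Cfsg.Agent.Char
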