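import Cfsg.Agent.Lib.Char.BrauerPairs
import Cfsg.Agent.Lib.Char.NormalP

/-!
# Block idempotents are supported on the centralizer of a normal `p`-subgroup
-/

set_option autoImplicit false

namespace Cfsg.Agent.Char

open Cfsg Module
open scoped ComplexConjugate

universe u

variable {G : Type u} [Group G] [Fintype G] {M : Ideal AlgInt} {p : ℕ}

theorem blockCoeff_image_set {Q : Subgroup G} [Fintype (Subgroup.centralizer (Q : Set G))]
    (α : MulAut (Subgroup.centralizer (Q : Set G)))
    {U : Set (IrrCharacter (Subgroup.centralizer (Q : Set G)))} (h : irrComp α '' U = U)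
    (c : Subgroup.centralizer (Q : Set G)) : blockCoeff U (α c) = blockCoeff U c := by
  rw [← blockCoeff_image, h]

/-- The idempotent of a block is supported on the centralizer of every normal `p`-subgroup. -/
theorem blockCoeff_eq_zero_of_not_centralizing (hM : IsPModular p M) (P : Subgroup G) [P.Normal]
    (hP : IsPGroup p P) {B : Set (IrrCharacter G)} (hB : IsPBlock M B) {g : G}
    (hg : g ∉ Subgroup.centralizer (P : Set G)) : blockCoeff B g = 0 := by
  classical
  haveI := Fintype.ofFinite (Subgroup.centralizer (P : Set G))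
  have hMp := pmod_prime hM
  have hb := isIntClassFun_blockCoeff hM hB
  have hgood := isGoodFun_of_classFun (M := M) P hb
  have hidem := isModIdem_tr hM hP hgood (conv_blockCoeff B)
  have hN : ∀ u : G, u ∈ Subgroup.normalizer (P : Set G) := fun u => by
    rw [Subgroup.normalizer_eq_top]; exact Subgroup.mem_top u
  set U : Set (IrrCharacter (Subgroup.centralizer (P : Set G))) :=
    {ξ | MemLocalIdeal M (lam (ξ : Subgroup.centralizer (P : Set G) → ℂ) (tr P (blockCoeff B)) - 1)}
    with hU
  have hinvU : ∀ u : Subgroup.normalizer (P : Set G), irrComp (conjC P u) '' U = U := by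
    intro u
    refine Set.eq_of_subset_of_ncard_le ?_ ?_ (Set.toFinite _)
    · rintro _ ⟨ξ, hξ, rfl⟩
      have hξ' : MemLocalIdeal M
          (lam (ξ : Subgroup.centralizer (P : Set G) → ℂ) (tr P (blockCoeff B)) - 1) := hξ
      show MemLocalIdeal M (lam (irrComp (conjC P u) ξ : Subgroup.centralizer (P : Set G) → ℂ)
        (tr P (blockCoeff B)) - 1)
      convert hξ' using 2
      simp only [lam, irrComp_apply, map_one]
      congr 1
      refine Fintype.sum_equiv (conjC P u).toEquiv _ _ fun c => ?_
      show _ = tr P (blockCoeff B) (conjC P u c) * _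
      rw [tr_apply, tr_apply, conjC_apply, hb.1]
      rfl
    · rw [Set.ncard_image_of_injective _ (irrComp_injective _)]
  have hUblocks : ∀ χ ψ : IrrCharacter (Subgroup.centralizer (P : Set G)), χ ∈ U →
      SameBlock M (χ : Subgroup.centralizer (P : Set G) → ℂ) (ψ : _ → ℂ) → ψ ∈ U :=
    fun χ ψ hχ hs =>
      memLI_trans hMp (memLI_symm hMp (lam_congr hMp χ.2 ψ.2 hs hgood.tr.1 hgood.tr.2)) hχ
  have hUint : IsIntClassFun M (blockCoeff U) :=
    ⟨isClassFunction_blockCoeff U, memLR_blockCoeff_union hM hUblocks⟩
  have hUidem : IsModIdem M (blockCoeff U) :=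
    ⟨hUint, by rw [conv_blockCoeff]; exact CEq.refl hMp _⟩
  have hceq : CEq M (tr P (blockCoeff B)) (blockCoeff U) := hidem.ext hM hUidem fun ψ => by
    rw [lam_blockCoeff]
    split_ifs with h
    · exact h
    · rw [sub_zero]
      exact (hidem.lam_cases hMp ψ).resolve_right h
  set E := extendByZero (Subgroup.centralizer (P : Set G)) (blockCoeff U) with hE
  have hEI : IsIntClassFun M E := by
    refine ⟨fun a k => ?_, fun x => ?_⟩
    · by_cases ha : a ∈ Subgroup.centralizer (P : Set G)
      · rw [hE, extendByZero_mem _ _ ha, extendByZero_mem _ _ (conj_mem_centralizer (hN k) ha)]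
        exact blockCoeff_image_set (conjC P ⟨k, hN k⟩) (hinvU _) ⟨a, ha⟩
      · rw [hE, extendByZero_not_mem _ _ ha, extendByZero_not_mem]
        exact fun h => ha (by simpa [mul_assoc] using conj_mem_centralizer (inv_mem (hN k)) h)
    · by_cases hx : x ∈ Subgroup.centralizer (P : Set G)
      · rw [hE, extendByZero_mem _ _ hx]; exact hUint.2 _
      · rw [hE, extendByZero_not_mem _ _ hx]; exact memLR_zero hMp
  have hEE : conv E E = E := by rw [hE, extendByZero_conv, conv_blockCoeff]
  have heq : blockCoeff B = E := by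
    rw [classFun_eq_sum_idem hb.1, classFun_eq_sum_idem hEI.1]
    refine Finset.sum_congr rfl fun χ _ => ?_
    congr 1
    have h2 : lam (χ : G → ℂ) E = 0 ∨ lam (χ : G → ℂ) E = 1 := by
      have h3 := lam_conv χ.2 hEI.1 hEI.1
      rw [hEE] at h3
      rcases eq_or_ne (lam (χ : G → ℂ) E) 0 with h0 | h0
      · exact Or.inl h0
      · exact Or.inr (mul_left_cancel₀ h0 (by rw [mul_one]; exact h3.symm))
    have h4 : MemLocalIdeal M (lam (χ : G → ℂ) (blockCoeff B) - lam (χ : G → ℂ) E) := by
      set T : G → ℂ := extendByZero (Subgroup.centralizer (P : Set G)) (tr P (blockCoeff B)) with hT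
      have hTI : IsIntClassFun M T := by
        refine ⟨fun a k => ?_, fun x => ?_⟩
        · by_cases ha : a ∈ Subgroup.centralizer (P : Set G)
          · rw [hT, extendByZero_mem _ _ ha, extendByZero_mem _ _ (conj_mem_centralizer (hN k) ha)]
            exact hb.1 a k
          · rw [hT, extendByZero_not_mem _ _ ha, extendByZero_not_mem]
            exact fun h => ha (by simpa [mul_assoc] using conj_mem_centralizer (inv_mem (hN k)) h)
        · by_cases hx : x ∈ Subgroup.centralizer (P : Set G)
          · rw [hT, extendByZero_mem _ _ hx]; exact hb.2 _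
          · rw [hT, extendByZero_not_mem _ _ hx]; exact memLR_zero hMp
      refine memLI_trans hMp (y := lam (χ : G → ℂ) T) ?_ (lam_ceq hMp χ hTI.1 hEI.1 fun x => ?_)
      · rw [← lam_sub]
        refine lam_congr_centralizer hM P hP χ (intClassFun_sub hMp hb hTI) fun x hx => ?_
        rw [Pi.sub_apply, hT, extendByZero_mem _ _ hx, tr_apply, sub_self]
      · by_cases hx : x ∈ Subgroup.centralizer (P : Set G)
        · rw [hT, hE, extendByZero_mem _ _ hx, extendByZero_mem _ _ hx]; exact hceq _
        · rw [hT, hE, extendByZero_not_mem _ _ hx, extendByZero_not_mem _ _ hx, sub_zero]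
          exact memLI_zero hMp
    rw [lam_blockCoeff] at h4 ⊢
    rcases h2 with h0 | h1
    · rw [h0] at h4 ⊢
      split_ifs at h4 ⊢ with h
      · rw [sub_zero] at h4; exact absurd h4 (memLI_one_iff hMp)
      · rfl
    · rw [h1] at h4 ⊢
      split_ifs at h4 ⊢ with h
      · rfl
      · rw [zero_sub] at h4
        exact absurd (by simpa using memLI_neg hMp h4) (memLI_one_iff (M := M) hMp)
  rw [heq, hE, extendByZero_not_mem _ _ hg]

end Cfsg.Agent.Char
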