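import Cfsg.Agent.Lib.Char.BrauerLift
import Cfsg.Agent.Lib.Char.SupportNormalP
import Cfsg.Agent.Lib.Char.DefectLocal

/-!
# The block of a stabilizer over a pair, and the pairs above
-/

set_option autoImplicit false

namespace Cfsg.Agent.Char

open Cfsg Module
open scoped ComplexConjugate

universe u

variable {G : Type u} [Group G] [Fintype G] {M : Ideal AlgInt} {p : ℕ}

theorem stabilizesBlock_of_centralizer (hM : IsPModular p M) {Q : Subgroup G} (hQ : IsPGroup p Q)
    {f : Set (IrrCharacter (Subgroup.centralizer (Q : Set G)))} (hf : IsPBlock M f) {c : G}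
    (hc : c ∈ Subgroup.centralizer (Q : Set G)) :
    StabilizesBlock (Subgroup.centralizer (Q : Set G)) f c := by
  haveI := Fintype.ofFinite (Subgroup.centralizer (Q : Set G))
  have h := isNormalSubpair_self hM hQ hf
  exact stabilizes_of_blockCoeff (pmod_prime hM) (centralizer_le_norm Q hc) hf
    ((isGoodFun_stable hM h.2.2.1 h.2.2.2.1 hf h.2.2.2.2.1).invC c hc)

/-- The stabilizer of a pair under conjugation, in two forms. -/
theorem conjIdx_eq_self_iff (hM : M.IsPrime) {Q : Subgroup G}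
    {f : Set (IrrCharacter (Subgroup.centralizer (Q : Set G)))} (hf : IsPBlock M f) (u : G) :
    conjIdx u (⟨Q, f⟩ : BrauerPairIdx G) = ⟨Q, f⟩ ↔
      u ∈ Subgroup.normalizer (Q : Set G) ∧ StabilizesBlock (Subgroup.centralizer (Q : Set G)) f u := by
  haveI := Fintype.ofFinite (Subgroup.centralizer (Q : Set G))
  constructor
  · intro h
    have hn : u ∈ Subgroup.normalizer (Q : Set G) :=
      Subgroup.mem_normalizer_iff_map_conj_eq.mpr (Sigma.mk.inj_iff.mp h).1
    refine ⟨hn, stabilizes_of_blockCoeff hM hn hf fun y => ?_⟩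
    have h1 := congrArg (fun a : BrauerPairIdx G =>
      subgroupBlockCoeff (Subgroup.centralizer (a.1 : Set G)) a.2 (u * y * u⁻¹)) h
    exact h1.symm.trans (subgroupBlockCoeff_conj Q u f y)
  · rintro ⟨hn, hst⟩
    refine idx_ext hM (Subgroup.mem_normalizer_iff_map_conj_eq.mp hn) (isPBlock_conjBlock u hf) hf
      fun z => ?_
    obtain ⟨w, rfl⟩ : ∃ w, z = u * w * u⁻¹ := ⟨u⁻¹ * z * u, by group⟩
    exact (subgroupBlockCoeff_conj Q u f w).trans (blockCoeff_conj_eq_of_stabilizes hn hst w).symm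

/-- The stabilizer of a pair. -/
def pairStab (hM : M.IsPrime) {Q : Subgroup G}
    {f : Set (IrrCharacter (Subgroup.centralizer (Q : Set G)))} (hf : IsPBlock M f) : Subgroup G where
  carrier := {u | conjIdx u (⟨Q, f⟩ : BrauerPairIdx G) = ⟨Q, f⟩}
  one_mem' := conjIdx_one hM _ hf
  mul_mem' := by
    intro a b ha hb
    show conjIdx (a * b) _ = _
    rw [← conjIdx_mul hM a b _ hf, hb]
    exact ha
  inv_mem' := by
    intro a ha
    show conjIdx a⁻¹ _ = _
    have h1 := congrArg (conjIdx a⁻¹) (show conjIdx a _ = _ from ha)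
    rw [conjIdx_mul hM _ _ _ hf, inv_mul_cancel, conjIdx_one hM _ hf] at h1
    exact h1.symm

theorem mem_pairStab (hM : M.IsPrime) {Q : Subgroup G}
    {f : Set (IrrCharacter (Subgroup.centralizer (Q : Set G)))} (hf : IsPBlock M f) {u : G} :
    u ∈ pairStab hM hf ↔
      u ∈ Subgroup.normalizer (Q : Set G) ∧ StabilizesBlock (Subgroup.centralizer (Q : Set G)) f u :=
  conjIdx_eq_self_iff hM hf u

/-- `H` lies between the centralizer and the stabilizer of the pair. -/
structure StabCtx (p : ℕ) (M : Ideal AlgInt) (Q : Subgroup G)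
    (f : Set (IrrCharacter (Subgroup.centralizer (Q : Set G)))) (H : Subgroup G) : Prop where
  pg : IsPGroup p Q
  block : IsPBlock M f
  le : Q ≤ H
  cent : Subgroup.centralizer (Q : Set G) ≤ H
  stab : ∀ u ∈ H, u ∈ Subgroup.normalizer (Q : Set G) ∧
    StabilizesBlock (Subgroup.centralizer (Q : Set G)) f u

theorem stabCtx_pairStab (hM : IsPModular p M) {Q : Subgroup G} (hQ : IsPGroup p Q)
    {f : Set (IrrCharacter (Subgroup.centralizer (Q : Set G)))} (hf : IsPBlock M f) :
    StabCtx p M Q f (pairStab (pmod_prime hM) hf) :=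
  ⟨hQ, hf, fun x hx => (mem_pairStab _ hf).mpr
      ⟨Subgroup.le_normalizer hx, (isNormalSubpair_self hM hQ hf).2.2.2.2.1 x hx⟩,
    fun c hc => (mem_pairStab _ hf).mpr
      ⟨centralizer_le_norm Q hc, stabilizesBlock_of_centralizer hM hQ hf hc⟩,
    fun _ hu => (mem_pairStab _ hf).mp hu⟩

variable {Q H : Subgroup G} {f : Set (IrrCharacter (Subgroup.centralizer (Q : Set G)))}

theorem StabCtx.pair (hc : StabCtx p M Q f H) : IsBrauerPair p M Q f := ⟨hc.pg, hc.block⟩

theorem StabCtx.le_norm (hc : StabCtx p M Q f H) : H ≤ Subgroup.normalizer (Q : Set G) :=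
  fun u hu => (hc.stab u hu).1

theorem StabCtx.fix (hc : StabCtx p M Q f H) (hM : M.IsPrime) {u : G} (hu : u ∈ H) :
    conjIdx u (⟨Q, f⟩ : BrauerPairIdx G) = ⟨Q, f⟩ :=
  (conjIdx_eq_self_iff hM hc.block u).mpr (hc.stab u hu)

/-- The block of `H` with the coefficients of `f`. -/
theorem StabCtx.exists_block [Fintype H] (hc : StabCtx p M Q f H) (hM : IsPModular p M) :
    ∃ b : Set (IrrCharacter H), IsPBlock M b ∧
      ∀ t : H, blockCoeff b t = subgroupBlockCoeff (Subgroup.centralizer (Q : Set G)) f (t : G) := by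
  classical
  haveI := Fintype.ofFinite (Subgroup.centralizer (Q : Set G))
  have hMp := pmod_prime hM
  set F := subgroupBlockCoeff (Subgroup.centralizer (Q : Set G)) f with hF
  have hFe : F = extendByZero (Subgroup.centralizer (Q : Set G)) (blockCoeff f) := subgroupBlockCoeff_eq (Subgroup.centralizer (Q : Set G)) f
  set E : H → ℂ := fun t => F (t : G) with hE
  have hEF : extendByZero H E = F := funext fun y => by
    by_cases hy : y ∈ H
    · rw [extendByZero_mem _ _ hy]
    · rw [extendByZero_not_mem _ _ hy, hFe, extendByZero_not_mem _ _ fun h => hy (hc.cent h)]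
  have hEc : IsClassFunction H E := fun a k =>
    blockCoeff_conj_eq_of_stabilizes (hc.stab k k.2).1 (hc.stab k k.2).2 (a : G)
  have hEE : conv E E = E := funext fun t => by
    have h1 := congrFun (extendByZero_conv H E E) (t : G)
    rw [hEF, hF, conv_subgroupBlockCoeff, ← hF, extendByZero_mem _ _ t.2] at h1
    exact h1.symm
  have h01 : ∀ ψ : IrrCharacter H, lam (ψ : H → ℂ) E = 0 ∨ lam (ψ : H → ℂ) E = 1 := fun ψ => by
    have h3 := lam_conv ψ.2 hEc hEc
    rw [hEE] at h3
    rcases eq_or_ne (lam (ψ : H → ℂ) E) 0 with h0 | h0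
    · exact Or.inl h0
    · exact Or.inr (mul_left_cancel₀ h0 (by rw [mul_one]; exact h3.symm))
  obtain ⟨ξ0, hξ0⟩ := block_nonempty hMp hc.block
  obtain ⟨ψ0, hψ0⟩ : ∃ ψ : IrrCharacter H, lam (ψ : H → ℂ) E = 1 := by
    by_contra hne
    push Not at hne
    have h0 : E = 0 := by
      rw [classFun_eq_sum_idem hEc]
      refine Finset.sum_eq_zero fun ψ _ => ?_
      rw [(h01 ψ).resolve_right (hne ψ), zero_smul]
    have h1 := lam_blockCoeff f ξ0
    rw [if_pos hξ0, show blockCoeff f = 0 from funext fun c => by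
      have h2 := congrFun h0 ⟨(c : G), hc.cent c.2⟩
      show blockCoeff f c = 0
      simp only [hE, hFe, Pi.zero_apply] at h2
      rwa [extendByZero_mem _ _ c.2] at h2, lam_zero] at h1
    exact zero_ne_one h1
  set b := blockOf M (ψ0 : H → ℂ) with hb
  have hbB : IsPBlock M b := isPBlock_blockOf M ψ0
  have hEI : IsIntClassFun M E := ⟨hEc, fun t => by
    show MemLocalRing M (F (t : G))
    rw [hFe]
    by_cases ht : (t : G) ∈ (Subgroup.centralizer (Q : Set G))
    · rw [extendByZero_mem _ _ ht]; exact memLR_blockCoeff hM hc.block _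
    · rw [extendByZero_not_mem _ _ ht]; exact memLR_zero hMp⟩
  have hbE : conv (blockCoeff b) E = blockCoeff b := by
    rw [classFun_eq_sum_idem (intClassFun_conv hMp (isIntClassFun_blockCoeff hM hbB) hEI).1]
    conv_rhs => rw [classFun_eq_sum_idem (isClassFunction_blockCoeff b)]
    refine Finset.sum_congr rfl fun ψ _ => ?_
    congr 1
    rw [lam_conv ψ.2 (isClassFunction_blockCoeff b) hEc, lam_blockCoeff]
    split_ifs with hψ
    · rcases h01 ψ with h0 | h1
      · have h1 := lam_congr hMp ψ.2 ψ0.2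
          (block_sameBlock hMp hbB hψ (self_mem_blockOf hMp ψ0)) hEI.1 hEI.2
        rw [h0, hψ0, zero_sub] at h1
        exact absurd (by simpa using memLI_neg hMp h1) (memLI_one_iff (M := M) hMp)
      · rw [h1, mul_one]
    · rw [zero_mul]
  haveI hQn : (Q.subgroupOf H).Normal :=
    (Subgroup.normal_subgroupOf_iff_le_normalizer hc.le).mpr hc.le_norm
  have hQp : IsPGroup p (Q.subgroupOf H) := hc.pg.of_equiv (Subgroup.subgroupOfEquivOfLe hc.le).symm
  set β : (Subgroup.centralizer (Q : Set G)) → ℂ := fun c => blockCoeff b ⟨(c : G), hc.cent c.2⟩ with hβ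
  have hβe : extendByZero H (blockCoeff b) = extendByZero (Subgroup.centralizer (Q : Set G)) β := funext fun y => by
    by_cases hy : y ∈ (Subgroup.centralizer (Q : Set G))
    · rw [extendByZero_mem _ _ hy, extendByZero_mem _ _ (hc.cent hy)]
    · rw [extendByZero_not_mem _ _ hy]
      by_cases hyH : y ∈ H
      · rw [extendByZero_mem _ _ hyH]
        refine blockCoeff_eq_zero_of_not_centralizing hM (Q.subgroupOf H) hQp hbB fun h => hy ?_
        intro w hw
        exact congrArg Subtype.val (h ⟨w, hc.le hw⟩ hw)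
      · rw [extendByZero_not_mem _ _ hyH]
  have hβI : IsIntClassFun M β :=
    ⟨fun a k => isClassFunction_blockCoeff b ⟨(a : G), hc.cent a.2⟩ ⟨(k : G), hc.cent k.2⟩,
      fun c => memLR_blockCoeff hM hbB _⟩
  have hval : ∀ g : (Subgroup.centralizer (Q : Set G)) → ℂ, ∀ g' : (Subgroup.centralizer (Q : Set G)) → ℂ, extendByZero (Subgroup.centralizer (Q : Set G)) g = extendByZero (Subgroup.centralizer (Q : Set G)) g' → g = g' :=
    fun g g' h => funext fun c => by
      have := congrFun h (c : G)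
      rwa [extendByZero_mem _ _ c.2, extendByZero_mem _ _ c.2] at this
  have hββ : conv β β = β := hval _ _ (by
    rw [← extendByZero_conv, ← hβe, extendByZero_conv, conv_blockCoeff])
  have hβf : conv β (blockCoeff f) = β := hval _ _ (by
    rw [← extendByZero_conv, ← hβe, ← hFe, ← hEF, extendByZero_conv, hbE])
  have h01β : ∀ ξ : IrrCharacter (Subgroup.centralizer (Q : Set G)), lam (ξ : (Subgroup.centralizer (Q : Set G)) → ℂ) β = 0 ∨ lam (ξ : (Subgroup.centralizer (Q : Set G)) → ℂ) β = 1 := fun ξ => by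
    have h3 := lam_conv ξ.2 hβI.1 hβI.1
    rw [hββ] at h3
    rcases eq_or_ne (lam (ξ : (Subgroup.centralizer (Q : Set G)) → ℂ) β) 0 with h0 | h0
    · exact Or.inl h0
    · exact Or.inr (mul_left_cancel₀ h0 (by rw [mul_one]; exact h3.symm))
  have hout : ∀ ξ : IrrCharacter (Subgroup.centralizer (Q : Set G)), ξ ∉ f → lam (ξ : (Subgroup.centralizer (Q : Set G)) → ℂ) β = 0 := fun ξ hξ => by
    have h3 := lam_conv ξ.2 hβI.1 (isClassFunction_blockCoeff f)
    rw [hβf, lam_blockCoeff, if_neg hξ, mul_zero] at h3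
    exact h3
  obtain ⟨ξ1, hξ1⟩ : ∃ ξ : IrrCharacter (Subgroup.centralizer (Q : Set G)), lam (ξ : (Subgroup.centralizer (Q : Set G)) → ℂ) β = 1 := by
    by_contra hne
    push Not at hne
    have h0 : β = 0 := by
      rw [classFun_eq_sum_idem hβI.1]
      refine Finset.sum_eq_zero fun ξ _ => ?_
      rw [(h01β ξ).resolve_right (hne ξ), zero_smul]
    have h1 := lam_blockCoeff b ψ0
    rw [if_pos (self_mem_blockOf hMp ψ0), show blockCoeff b = 0 from funext fun t => by
      have h2 := congrFun hβe (t : G)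
      rw [extendByZero_mem _ _ t.2, h0] at h2
      show blockCoeff b t = 0
      rw [h2]
      by_cases ht : (t : G) ∈ (Subgroup.centralizer (Q : Set G))
      · rw [extendByZero_mem _ _ ht]; rfl
      · rw [extendByZero_not_mem _ _ ht], lam_zero] at h1
    exact zero_ne_one h1
  have hξ1f : ξ1 ∈ f := by
    by_contra h
    rw [hout ξ1 h] at hξ1
    exact zero_ne_one hξ1
  have hin : ∀ ξ : IrrCharacter (Subgroup.centralizer (Q : Set G)), ξ ∈ f → lam (ξ : (Subgroup.centralizer (Q : Set G)) → ℂ) β = 1 := fun ξ hξ => by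
    refine (h01β ξ).resolve_left fun h0 => ?_
    have h1 := lam_congr hMp ξ.2 ξ1.2 (block_sameBlock hMp hc.block hξ hξ1f) hβI.1 hβI.2
    rw [h0, hξ1, zero_sub] at h1
    exact absurd (by simpa using memLI_neg hMp h1) (memLI_one_iff (M := M) hMp)
  have hβeq : β = blockCoeff f := by
    rw [classFun_eq_sum_idem hβI.1, classFun_eq_sum_idem (isClassFunction_blockCoeff f)]
    refine Finset.sum_congr rfl fun ξ _ => ?_
    congr 1
    rw [lam_blockCoeff]
    split_ifs with h
    exacts [hin ξ h, hout ξ h]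
  refine ⟨b, hbB, fun t => ?_⟩
  have h2 := congrFun hβe (t : G)
  rwa [extendByZero_mem _ _ t.2, hβeq, ← hFe] at h2

/-- Pairs above `(Q, f)` inside `H`, one normal step away. -/
def IsOver (p : ℕ) (M : Ideal AlgInt) (H Q : Subgroup G)
    (f : Set (IrrCharacter (Subgroup.centralizer (Q : Set G)))) (a : BrauerPairIdx G) : Prop :=
  IsNormalSubpair p M Q f a.1 a.2 ∧ a.1 ≤ H

/-- The largest pairs above `(Q, f)` inside `H`. -/
def IsMaxOver (p : ℕ) (M : Ideal AlgInt) (H Q : Subgroup G)
    (f : Set (IrrCharacter (Subgroup.centralizer (Q : Set G)))) (d : BrauerPairIdx G) : Prop :=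
  IsOver p M H Q f d ∧ ∀ a, IsOver p M H Q f a → Nat.card a.1 ≤ Nat.card d.1

theorem StabCtx.exists_maxOver (hc : StabCtx p M Q f H) (hM : IsPModular p M) :
    ∃ d, IsMaxOver p M H Q f d := by
  obtain ⟨d, hd, hmax⟩ := Set.exists_max_image {a : BrauerPairIdx G | IsOver p M H Q f a}
    (fun a => Nat.card a.1) (Set.toFinite _)
    ⟨⟨Q, f⟩, isNormalSubpair_self hM hc.pg hc.block, hc.le⟩
  exact ⟨d, hd, hmax⟩

theorem detect_of_over (hM : IsPModular p M) {a : BrauerPairIdx G}
    (ha : IsNormalSubpair p M Q f a.1 a.2) :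
    ∃ x ∈ Subgroup.centralizer (a.1 : Set G),
      ¬ MemLocalIdeal M (subgroupBlockCoeff (Subgroup.centralizer (Q : Set G)) f x) := by
  haveI := Fintype.ofFinite (Subgroup.centralizer (a.1 : Set G))
  have hMp := pmod_prime hM
  obtain ⟨hfp, hap, hQR, hRN, hst, hone⟩ := ha
  have hgood := isGoodFun_stable hM hQR hRN hfp.2 hst
  obtain ⟨ξ, hξ⟩ := block_nonempty hMp hap.2
  by_contra hne
  push Not at hne
  have h1 := hone ξ hξ
  rw [brauerOmega_eq] at h1
  have h2 := memLI_lam hMp ξ.2 hgood.tr.1 (fun x => hne x x.2)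
  exact memLI_one_iff hMp (by simpa using memLI_sub hMp h2 h1)

theorem StabCtx.over_of_detect (hc : StabCtx p M Q f H) (hM : IsPModular p M) {R : Subgroup G}
    (hR : IsPGroup p R) (hQR : Q ≤ R) (hRH : R ≤ H) {x : G}
    (hx : x ∈ Subgroup.centralizer (R : Set G))
    (hfx : ¬ MemLocalIdeal M (subgroupBlockCoeff (Subgroup.centralizer (Q : Set G)) f x)) :
    ∃ g, IsOver p M H Q f ⟨R, g⟩ := by
  have hst : ∀ y ∈ R, StabilizesBlock (Subgroup.centralizer (Q : Set G)) f y := fun y hy =>
    (hc.stab y (hRH hy)).2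
  have hRN : R ≤ Subgroup.normalizer (Q : Set G) := hRH.trans hc.le_norm
  obtain ⟨g, hg, hone⟩ := exists_brOne hM hR (isGoodFun_stable hM hQR hRN hc.block hst)
    (conv_subgroupBlockCoeff _ _) (x := ⟨x, hx⟩) hfx
  exact ⟨g, ⟨hc.pair, ⟨hR, hg⟩, hQR, hRN, hst, hone⟩, hRH⟩

theorem StabCtx.over_conj (hc : StabCtx p M Q f H) (hM : IsPModular p M) {h : G} (hh : h ∈ H)
    {a : BrauerPairIdx G} (ha : IsOver p M H Q f a) : IsOver p M H Q f (conjIdx h a) := by
  refine ⟨?_, ?_⟩
  · have h1 : NormalSubpairRel p M (conjIdx h ⟨Q, f⟩) (conjIdx h a) := normalSubpair_conj hM h ha.1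
    rw [hc.fix (pmod_prime hM) hh] at h1
    exact h1
  · rintro _ ⟨w, hw, rfl⟩
    exact mul_mem (mul_mem hh (ha.2 hw)) (inv_mem hh)

section Inside

variable [Fintype H] {b : Set (IrrCharacter H)}

theorem StabCtx.pairOf_iff_over (hc : StabCtx p M Q f H) (hM : IsPModular p M) (hb : IsPBlock M b)
    (hbc : ∀ t : H, blockCoeff b t = subgroupBlockCoeff (Subgroup.centralizer (Q : Set G)) f (t : G))
    {a : BrauerPairIdx H} (hQ : Q ≤ a.1.map H.subtype) (hp : IsPGroup p a.1) (ha : IsPBlock M a.2) :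
    IsBrauerPairOf p M b a.1 a.2 ↔ IsOver p M H Q f (liftIdx H a) := by
  have hC : Subgroup.centralizer ((a.1.map H.subtype : Subgroup G) : Set G) ≤ H :=
    (centralizer_antitone hQ).trans hc.cent
  have key := brOne_lift_iff (M := M) a.1 hC (F := blockCoeff b)
    (F' := subgroupBlockCoeff (Subgroup.centralizer (Q : Set G)) f) (fun c _ => (hbc c).symm) a.2
  have hle : a.1.map H.subtype ≤ H := Subgroup.map_subtype_le _
  constructor
  · intro h
    exact ⟨⟨hc.pair, ⟨hp.map _, isPBlock_liftBlock a.1 hC ha⟩, hQ, hle.trans hc.le_norm,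
      fun y hy => (hc.stab y (hle hy)).2, key.mpr h.2.2⟩, hle⟩
  · intro h
    exact ⟨⟨hp, ha⟩, hb, key.mp h.1.2.2.2.2.2⟩

theorem StabCtx.exists_pre (hc : StabCtx p M Q f H) (hM : IsPModular p M) (hb : IsPBlock M b)
    (hbc : ∀ t : H, blockCoeff b t = subgroupBlockCoeff (Subgroup.centralizer (Q : Set G)) f (t : G))
    {a : BrauerPairIdx G} (ha : IsOver p M H Q f a) :
    ∃ a0 : BrauerPairIdx H, liftIdx H a0 = a ∧ IsBrauerPairOf p M b a0.1 a0.2 := by
  obtain ⟨R, g⟩ := a
  obtain ⟨R0, rfl⟩ : ∃ R0 : Subgroup H, R0.map H.subtype = R :=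
    ⟨R.subgroupOf H, Subgroup.map_subgroupOf_eq_of_le ha.2⟩
  have hQ : Q ≤ R0.map H.subtype := ha.1.2.2.1
  obtain ⟨g0, hg0, rfl⟩ := exists_preimage R0 ((centralizer_antitone hQ).trans hc.cent) ha.1.2.1.2
  have hp : IsPGroup p R0 :=
    ha.1.2.1.1.of_equiv (R0.equivMapOfInjective _ (Subgroup.subtype_injective H)).symm
  exact ⟨⟨R0, g0⟩, rfl, (hc.pairOf_iff_over hM hb hbc hQ hp hg0).mpr ha⟩

theorem StabCtx.max_pre (hc : StabCtx p M Q f H) (hM : IsPModular p M) (hb : IsPBlock M b)
    (hbc : ∀ t : H, blockCoeff b t = subgroupBlockCoeff (Subgroup.centralizer (Q : Set G)) f (t : G))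
    {d : BrauerPairIdx G} (hd : IsMaxOver p M H Q f d) {d0 : BrauerPairIdx H}
    (hd0 : liftIdx H d0 = d) (hp : IsBrauerPairOf p M b d0.1 d0.2) :
    IsMaximalBrauerPair p M b d0.1 d0.2 := by
  subst hd0
  refine ⟨hp, fun R g hR hle => ?_⟩
  have hQR : Q ≤ R.map H.subtype := hd.1.1.2.2.1.trans (Subgroup.map_mono (subpair_le hle))
  have h1 := hd.2 _ ((hc.pairOf_iff_over hM hb hbc (a := ⟨R, g⟩) hQR hR.1.1 hR.1.2).mp hR)
  simp only [liftIdx, Subgroup.card_map_of_injective (Subgroup.subtype_injective H)] at h1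
  exact (Subgroup.eq_of_le_of_card_ge (subpair_le hle) h1).symm

/-- The group of a largest pair is a defect group of the block of `H`. -/
theorem StabCtx.maxOver_defect (hc : StabCtx p M Q f H) (hM : IsPModular p M) (hb : IsPBlock M b)
    (hbc : ∀ t : H, blockCoeff b t = subgroupBlockCoeff (Subgroup.centralizer (Q : Set G)) f (t : G))
    {d : BrauerPairIdx G} (hd : IsMaxOver p M H Q f d) :
    IsDefectGroup p M b (d.1.subgroupOf H) := by
  obtain ⟨d0, rfl, hp⟩ := hc.exists_pre hM hb hbc hd.1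
  rw [show (liftIdx H d0).1.subgroupOf H = d0.1 from
    Subgroup.comap_map_eq_self_of_injective (Subgroup.subtype_injective H) _]
  exact maximal_pair_defect hM (hc.max_pre hM hb hbc hd rfl hp)

end Inside

/-- Every pair above `(Q, f)` inside `H` is conjugate into the largest one. -/
theorem StabCtx.conj_into_max (hc : StabCtx p M Q f H) (hM : IsPModular p M)
    {a d : BrauerPairIdx G} (ha : IsOver p M H Q f a) (hd : IsMaxOver p M H Q f d) :
    ∃ h ∈ H, Relation.ReflTransGen (NormalSubpairRel p M) (conjIdx h a) d := by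
  haveI := Fintype.ofFinite H
  have hMp := pmod_prime hM
  obtain ⟨b, hb, hbc⟩ := hc.exists_block hM
  obtain ⟨a0, rfl, hpa⟩ := hc.exists_pre hM hb hbc ha
  obtain ⟨d0, rfl, hpd⟩ := hc.exists_pre hM hb hbc hd.1
  obtain ⟨x, hx⟩ := pairs_conj_into_maximal hM (hc.max_pre hM hb hbc hd rfl hpd) hpa
  have hx' : Relation.ReflTransGen (NormalSubpairRel p M) (conjIdx x a0) d0 := hx
  have hQa : Q ≤ a0.1.map H.subtype := ha.1.2.2.1
  have hQ' : Q ≤ (conjIdx x a0).1.map H.subtype := by
    intro q hq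
    have hq' : (x : G)⁻¹ * q * (x : G) ∈ Q := by
      simpa using (Subgroup.mem_normalizer_iff.mp (inv_mem (hc.le_norm x.2)) q).mp hq
    obtain ⟨w, hw, hwq⟩ := hQa hq'
    refine ⟨x * w * x⁻¹, ⟨w, hw, rfl⟩, ?_⟩
    have hwq' : (w : G) = (x : G)⁻¹ * q * (x : G) := hwq
    show (x : G) * (w : G) * (x : G)⁻¹ = q
    rw [hwq']; group
  have hC' := (centralizer_antitone hQ').trans hc.cent
  refine ⟨x, x.2, ?_⟩
  have h1 := subpair_rel_lift hM hC' hx'
  rwa [liftIdx_conj hMp x ((centralizer_antitone hQa).trans hc.cent) hC' hpa.1.2] at h1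

theorem StabCtx.conj_le_max (hc : StabCtx p M Q f H) (hM : IsPModular p M)
    {a d : BrauerPairIdx G} (ha : IsOver p M H Q f a) (hd : IsMaxOver p M H Q f d) :
    ∃ h ∈ H, a.1.map (MulAut.conj h).toMonoidHom ≤ d.1 := by
  obtain ⟨h, hh, hle⟩ := hc.conj_into_max hM ha hd
  exact ⟨h, hh, subpair_rel_le hle⟩

section Inf

omit [Fintype G] in
theorem map_conj_centralizer {h : G} (hh : h ∈ Subgroup.normalizer (Q : Set G)) :
    (Subgroup.centralizer (Q : Set G)).map (MulAut.conj h).toMonoidHom =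
      Subgroup.centralizer (Q : Set G) := by
  refine le_antisymm ?_ fun c hc => ⟨h⁻¹ * c * h, ?_, ?_⟩
  · rintro _ ⟨c, hc, rfl⟩
    exact conj_mem_centralizer hh hc
  · simpa using conj_mem_centralizer (inv_mem hh) hc
  · show h * (h⁻¹ * c * h) * h⁻¹ = c
    group

omit [Fintype G] in
theorem map_conj_inf_centralizer {h : G} (hh : h ∈ Subgroup.normalizer (Q : Set G)) (R : Subgroup G) :
    (R ⊓ Subgroup.centralizer (Q : Set G)).map (MulAut.conj h).toMonoidHom =
      R.map (MulAut.conj h).toMonoidHom ⊓ Subgroup.centralizer (Q : Set G) := by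
  rw [Subgroup.map_inf _ _ _ (MulEquiv.injective (MulAut.conj h)), map_conj_centralizer hh]

omit [Fintype G] in
theorem card_subgroupOf_inf (R C : Subgroup G) :
    Nat.card ((R ⊓ C).subgroupOf C) = Nat.card (R ⊓ C : Subgroup G) :=
  Nat.card_congr (Subgroup.subgroupOfEquivOfLe inf_le_right).toEquiv

/-- The part inside the centralizer of a pair above lies in a defect group of `f`. -/
theorem inf_le_defect (hM : IsPModular p M) {a : BrauerPairIdx G}
    (ha : IsNormalSubpair p M Q f a.1 a.2) {D : Subgroup (Subgroup.centralizer (Q : Set G))}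
    (hD : IsDefectGroup p M f D) :
    ∃ t, (a.1 ⊓ Subgroup.centralizer (Q : Set G)).subgroupOf (Subgroup.centralizer (Q : Set G)) ≤
      D.map (MulAut.conj t).toMonoidHom := by
  classical
  haveI := Fintype.ofFinite (Subgroup.centralizer (Q : Set G))
  obtain ⟨x, hx, hfx⟩ := detect_of_over hM ha
  have hxC : x ∈ Subgroup.centralizer (Q : Set G) := centralizer_antitone ha.2.2.1 hx
  rw [subgroupBlockCoeff_eq, extendByZero_mem _ _ hxC] at hfx
  obtain ⟨g, hg, hgD⟩ := (isDefectGroup_iff f D).mp hD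
  refine le_defect_of_detect hM ha.1.2 hg hgD
    ((ha.2.1.1.to_le inf_le_left).of_equiv (Subgroup.subgroupOfEquivOfLe inf_le_right).symm)
    (x := ⟨x, hxC⟩) (fun w hw => ?_) hfx
  exact Subtype.ext (hx (w : G) hw.1)

theorem StabCtx.card_defect_le_max (hc : StabCtx p M Q f H) (hM : IsPModular p M)
    {d : BrauerPairIdx G} (hd : IsMaxOver p M H Q f d)
    {D : Subgroup (Subgroup.centralizer (Q : Set G))} (hD : IsDefectGroup p M f D) :
    Nat.card D ≤ Nat.card (d.1 ⊓ Subgroup.centralizer (Q : Set G) : Subgroup G) := by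
  classical
  haveI := Fintype.ofFinite (Subgroup.centralizer (Q : Set G))
  obtain ⟨g, hg, hgD⟩ := (isDefectGroup_iff f D).mp hD
  set D' := D.map (Subgroup.centralizer (Q : Set G)).subtype with hD'
  have hD'C : D' ≤ Subgroup.centralizer (Q : Set G) := Subgroup.map_subtype_le _
  have hp : IsPGroup p (Q ⊔ D' : Subgroup G) := isPGroup_sup (hgD.isPGroup.map _) hc.pg hD'C
  have hx : (g : G) ∈ Subgroup.centralizer ((Q ⊔ D' : Subgroup G) : Set G) := by
    have h1 : Q ⊔ D' ≤ Subgroup.centralizer ({(g : G)} : Set G) := by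
      refine sup_le (fun q hq => ?_) ?_
      · exact Subgroup.mem_centralizer_singleton_iff.mpr (g.2 q hq)
      · rintro _ ⟨w, hw, rfl⟩
        exact Subgroup.mem_centralizer_singleton_iff.mpr
          (congrArg Subtype.val (Subgroup.mem_centralizer_singleton_iff.mp (hgD.le hw)))
    exact fun w hw => Subgroup.mem_centralizer_singleton_iff.mp (h1 hw)
  obtain ⟨e, he⟩ := hc.over_of_detect hM hp le_sup_left (sup_le hc.le (hD'C.trans hc.cent)) hx
    (by rw [subgroupBlockCoeff_eq, extendByZero_mem _ _ g.2]; exact hg.2.1)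
  obtain ⟨h, hh, hle⟩ := hc.conj_le_max hM he hd
  have h1 : D'.map (MulAut.conj h).toMonoidHom ≤ d.1 ⊓ Subgroup.centralizer (Q : Set G) :=
    le_inf ((Subgroup.map_mono le_sup_right).trans hle)
      ((Subgroup.map_mono hD'C).trans (map_conj_centralizer (hc.le_norm hh)).le)
  have h2 := Subgroup.card_le_of_le h1
  rwa [Subgroup.card_map_of_injective (MulEquiv.injective _), hD',
    Subgroup.card_map_of_injective (Subgroup.subtype_injective _)] at h2

theorem StabCtx.card_inf_le_max (hc : StabCtx p M Q f H) (hM : IsPModular p M)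
    {a d : BrauerPairIdx G} (ha : IsNormalSubpair p M Q f a.1 a.2) (hd : IsMaxOver p M H Q f d) :
    Nat.card (a.1 ⊓ Subgroup.centralizer (Q : Set G) : Subgroup G) ≤
      Nat.card (d.1 ⊓ Subgroup.centralizer (Q : Set G) : Subgroup G) := by
  haveI := Fintype.ofFinite (Subgroup.centralizer (Q : Set G))
  obtain ⟨D, hD⟩ := exists_isDefectGroup hM hc.block
  obtain ⟨t, ht⟩ := inf_le_defect hM ha hD
  have h1 := Subgroup.card_le_of_le ht
  rw [card_subgroupOf_inf, Subgroup.card_map_of_injective (MulEquiv.injective _)] at h1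
  exact h1.trans (hc.card_defect_le_max hM hd hD)

/-- The part inside the centralizer of a pair above is a defect group of `f` when it is as large as
that of a largest pair. -/
theorem StabCtx.inf_defect_iff (hc : StabCtx p M Q f H) (hM : IsPModular p M)
    {a d : BrauerPairIdx G} (ha : IsNormalSubpair p M Q f a.1 a.2) (hd : IsMaxOver p M H Q f d) :
    IsDefectGroup p M f
        ((a.1 ⊓ Subgroup.centralizer (Q : Set G)).subgroupOf (Subgroup.centralizer (Q : Set G))) ↔
      Nat.card (d.1 ⊓ Subgroup.centralizer (Q : Set G) : Subgroup G) ≤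
        Nat.card (a.1 ⊓ Subgroup.centralizer (Q : Set G) : Subgroup G) := by
  haveI := Fintype.ofFinite (Subgroup.centralizer (Q : Set G))
  constructor
  · intro hD
    obtain ⟨t, ht⟩ := inf_le_defect hM hd.1.1 hD
    have h1 := Subgroup.card_le_of_le ht
    rwa [card_subgroupOf_inf, Subgroup.card_map_of_injective (MulEquiv.injective _),
      card_subgroupOf_inf] at h1
  · intro hle
    obtain ⟨D, hD⟩ := exists_isDefectGroup hM hc.block
    obtain ⟨t, ht⟩ := inf_le_defect hM ha hD
    rw [Subgroup.eq_of_le_of_card_ge ht (by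
      rw [Subgroup.card_map_of_injective (MulEquiv.injective _), card_subgroupOf_inf]
      exact (hc.card_defect_le_max hM hd hD).trans hle)]
    exact isDefectGroup_conj hM hD t

end Inf

section RelIndex

omit [Fintype G] in
theorem card_eq_inf_mul_relIndex (C X : Subgroup G) :
    Nat.card X = Nat.card (C ⊓ X : Subgroup G) * C.relIndex X := by
  rw [← Subgroup.inf_relIndex_right, Subgroup.relIndex,
    ← Nat.card_congr (Subgroup.subgroupOfEquivOfLe (inf_le_right : C ⊓ X ≤ X)).toEquiv,
    Subgroup.card_mul_index]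

omit [Fintype G] in
theorem relIndex_sup_of_normalizes {C X : Subgroup G}
    (hX : X ≤ Subgroup.normalizer (C : Set G)) : C.relIndex (C ⊔ X) = C.relIndex X := by
  set N := Subgroup.normalizer (C : Set G)
  have hCN : C ≤ N := Subgroup.le_normalizer
  haveI : (C.subgroupOf N).Normal :=
    (Subgroup.normal_subgroupOf_iff_le_normalizer hCN).mpr le_rfl
  rw [← Subgroup.relIndex_subgroupOf (H := C) (sup_le hCN hX),
    ← Subgroup.relIndex_subgroupOf (H := C) hX, Subgroup.subgroupOf_sup hCN hX,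
    Subgroup.relIndex_sup_left]

/-- A largest pair covers a Sylow subgroup of `H` modulo the centralizer. -/
theorem StabCtx.maxOver_relIndex (hc : StabCtx p M Q f H) (hM : IsPModular p M)
    {d : BrauerPairIdx G} (hd : IsMaxOver p M H Q f d) :
    (Subgroup.centralizer (Q : Set G)).relIndex d.1 =
      p ^ ((Subgroup.centralizer (Q : Set G)).relIndex H).factorization p := by
  classical
  haveI := Fact.mk hM.1
  haveI := Fintype.ofFinite H
  haveI := Fintype.ofFinite (Subgroup.centralizer (Q : Set G))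
  have hMp := pmod_prime hM
  have hn : (Subgroup.centralizer (Q : Set G)).relIndex H ≠ 0 := Subgroup.index_ne_zero_of_finite
  obtain ⟨S⟩ : Nonempty (Sylow p H) := inferInstance
  let α : ↥(S : Subgroup H) → MulAut (Subgroup.centralizer (Q : Set G)) := fun s =>
    conjC Q ⟨((s : H) : G), hc.le_norm (s : H).2⟩
  letI act : MulAction (S : Subgroup H) (ConjClasses (Subgroup.centralizer (Q : Set G))) :=
    { smul := fun s K => ConjClasses.map (α s).toMonoidHom K
      one_smul := by
        rintro ⟨c⟩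
        exact congrArg ConjClasses.mk (Subtype.ext (by simp [α, conjC_apply]))
      mul_smul := by
        rintro s t ⟨c⟩
        refine congrArg ConjClasses.mk (Subtype.ext ?_)
        show ((α (s * t) c : (Subgroup.centralizer (Q : Set G))) : G) = (α s (α t c) : (Subgroup.centralizer (Q : Set G)))
        simp [α, conjC_apply, mul_assoc] }
  obtain ⟨ξ0, hξ0⟩ := block_nonempty hMp hc.block
  have := Fintype.ofFinite (ConjClasses (Subgroup.centralizer (Q : Set G)))
  set t : ConjClasses (Subgroup.centralizer (Q : Set G)) → ℂ := fun K => blockCoeff f K.out * omega (ξ0 : (Subgroup.centralizer (Q : Set G)) → ℂ) K.out with ht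
  have hbI := isIntClassFun_blockCoeff hM hc.block
  have hξc : IsClassFunction (Subgroup.centralizer (Q : Set G)) (ξ0 : (Subgroup.centralizer (Q : Set G)) → ℂ) := isClassFunction_character (irr_isCharacter ξ0.2)
  have hω : ∀ (χ : IrrCharacter (Subgroup.centralizer (Q : Set G))) {a a' : (Subgroup.centralizer (Q : Set G))}, IsConj a a' →
      omega (χ : (Subgroup.centralizer (Q : Set G)) → ℂ) a = omega (χ : (Subgroup.centralizer (Q : Set G)) → ℂ) a' := by
    intro χ a a' h
    obtain ⟨k, hk⟩ := isConj_iff.mp h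
    rw [omega, omega, Nat.card_congr (Equiv.subtypeEquivRight fun x =>
      ⟨fun hx => h.symm.trans hx, fun hx => h.trans hx⟩), ← hk,
      (isClassFunction_character (irr_isCharacter χ.2)) a k]
  have htR : ∀ K, MemLocalRing M (t K) := fun K =>
    memLR_mul hMp (hbI.2 _) (memLR_omega hMp ξ0.2 _)
  have hstep : ∀ (s : ↥(S : Subgroup H)) K, MemLocalIdeal M (t (s • K) - t K) := by
    intro s K
    have hout : IsConj (s • K).out (α s K.out) := by
      refine ConjClasses.mk_eq_mk_iff_isConj.mp ?_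
      rw [show ConjClasses.mk (s • K).out = s • K from Quotient.out_eq _]
      conv_lhs => rw [show K = ConjClasses.mk K.out from (Quotient.out_eq _).symm]
      rfl
    have hb : blockCoeff f (s • K).out = blockCoeff f K.out := by
      obtain ⟨k, hk⟩ := isConj_iff.mp hout
      rw [show blockCoeff f (s • K).out = blockCoeff f (α s K.out) by rw [← hk, hbI.1]]
      have h1 := blockCoeff_conj_eq_of_stabilizes (hc.stab _ (s : H).2).1 (hc.stab _ (s : H).2).2
        ((K.out : (Subgroup.centralizer (Q : Set G))) : G)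
      rw [subgroupBlockCoeff_eq, extendByZero_mem _ _ K.out.2, extendByZero_mem _ _
        (conj_mem_centralizer (hc.stab _ (s : H).2).1 K.out.2)] at h1
      exact h1
    obtain ⟨χ', hχ', hcc⟩ := (hc.stab _ (s : H).2).2.2 ξ0 hξ0
    have htr : irrTransport (α s) χ' = ξ0 := Subtype.ext (funext fun k => by
      rw [irrTransport_apply]
      exact hcc k _ rfl)
    have h2 : omega (χ' : (Subgroup.centralizer (Q : Set G)) → ℂ) (α s K.out) = omega (ξ0 : (Subgroup.centralizer (Q : Set G)) → ℂ) K.out := by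
      conv_rhs => rw [← htr]
      exact (omega_transport (α s) χ' K.out).symm
    show MemLocalIdeal M (blockCoeff f (s • K).out * omega _ _ - blockCoeff f K.out * omega _ _)
    rw [hb, ← mul_sub, hω ξ0 hout, ← h2]
    exact memLI_mul_left hMp (hbI.2 _) (omega_congr hM hc.block hξ0 hχ' _)
  set r : ConjClasses (Subgroup.centralizer (Q : Set G)) → ℂ := fun K =>
    t (Quotient.out (Quotient.mk (MulAction.orbitRel (S : Subgroup H) (ConjClasses (Subgroup.centralizer (Q : Set G)))) K)) with hr
  have hrel : ∀ K, ∃ s : (S : Subgroup H), s • K =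
      Quotient.out (Quotient.mk (MulAction.orbitRel (S : Subgroup H) (ConjClasses (Subgroup.centralizer (Q : Set G)))) K) := fun K =>
    MulAction.orbitRel_apply.mp (Quotient.mk_out (s := MulAction.orbitRel _ _) K)
  have hrt : ∀ K, MemLocalIdeal M (r K - t K) := fun K => by
    obtain ⟨s, hs⟩ := hrel K
    show MemLocalIdeal M (t _ - t K)
    rw [← hs]
    exact hstep s K
  obtain ⟨K, hKfix, hKu⟩ : ∃ K : ConjClasses (Subgroup.centralizer (Q : Set G)), K ∈ MulAction.fixedPoints (S : Subgroup H) _ ∧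
      ¬ MemLocalIdeal M (blockCoeff f K.out) := by
    by_contra hne
    push Not at hne
    have h1 := sum_fixedPoints_congr hM S.isPGroup' r (fun K => htR _) fun s K =>
      congrArg (fun q => t (Quotient.out q))
        (Quotient.sound (MulAction.orbitRel_apply.mpr (MulAction.mem_orbit K s)))
    have h2 : MemLocalIdeal M ((∑ K, r K) - ∑ K, t K) := by
      rw [← Finset.sum_sub_distrib]
      exact memLI_sum hMp _ _ fun K _ => hrt K
    have h3 : ∑ K, t K = 1 := by
      have h4 := lam_eq_sum_omega hξc hbI.1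
      rw [lam_blockCoeff, if_pos hξ0] at h4
      exact h4.symm
    rw [h3] at h2
    refine memLI_one_iff hMp (memLI_congr hMp (memLI_trans hMp (memLI_symm hMp h2) h1) ?_)
    refine memLI_sum hMp _ _ fun K hK => ?_
    refine memLI_congr hMp (hrt K) ?_
    exact memLI_mul_right hMp (hne K (Finset.mem_filter.mp hK).2)
      (memLR_omega hMp ξ0.2 _)
  set x : (Subgroup.centralizer (Q : Set G)) := K.out with hx
  set K0 := H ⊓ Subgroup.centralizer ({(x : G)} : Set G) with hK0
  have hK0C : K0 ≤ Subgroup.normalizer ((Subgroup.centralizer (Q : Set G)) : Set G) := fun u hu => by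
    rw [Subgroup.mem_normalizer_iff]
    exact fun c => (conj_mem_centralizer_iff (H := Subgroup.normalizer (Q : Set G)) le_rfl
      ⟨u, hc.le_norm hu.1⟩ c).symm
  set S' := (S : Subgroup H).map H.subtype with hS'
  have hSle : S' ≤ (Subgroup.centralizer (Q : Set G)) ⊔ K0 := by
    rintro _ ⟨s, hs, rfl⟩
    have hfix : ConjClasses.mk (α ⟨s, hs⟩ x) = ConjClasses.mk x := by
      have h1 := hKfix (⟨s, hs⟩ : (S : Subgroup H))
      conv_lhs at h1 => rw [show K = ConjClasses.mk K.out from (Quotient.out_eq _).symm]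
      conv_rhs at h1 => rw [show K = ConjClasses.mk K.out from (Quotient.out_eq _).symm]
      exact h1
    obtain ⟨c, hcx⟩ := isConj_iff.mp (ConjClasses.mk_eq_mk_iff_isConj.mp hfix.symm)
    have hcx' : (c : G) * (x : G) * (c : G)⁻¹ = (s : G) * (x : G) * (s : G)⁻¹ :=
      congrArg Subtype.val hcx
    have hk : (c : G)⁻¹ * (s : G) ∈ K0 := by
      refine Subgroup.mem_inf.mpr
        ⟨mul_mem (inv_mem (hc.cent c.2)) s.2, Subgroup.mem_centralizer_singleton_iff.mpr ?_⟩
      calc (c : G)⁻¹ * (s : G) * (x : G) = (c : G)⁻¹ * ((s : G) * x * (s : G)⁻¹) * s := by group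
        _ = (c : G)⁻¹ * ((c : G) * x * (c : G)⁻¹) * s := by rw [hcx']
        _ = _ := by group
    rw [show H.subtype s = (c : G) * ((c : G)⁻¹ * (s : G)) by simp]
    exact mul_mem (Subgroup.mem_sup_left c.2) (Subgroup.mem_sup_right hk)
  have hCK : (Subgroup.centralizer (Q : Set G)) ⊔ K0 ≤ H := sup_le hc.cent inf_le_left
  have hν : ((Subgroup.centralizer (Q : Set G)).relIndex H).factorization p = ((Subgroup.centralizer (Q : Set G)).relIndex K0).factorization p := by
    have h1 := Subgroup.relIndex_mul_relIndex _ _ _ (le_sup_left : (Subgroup.centralizer (Q : Set G)) ≤ (Subgroup.centralizer (Q : Set G)) ⊔ K0) hCK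
    rw [relIndex_sup_of_normalizes hK0C] at h1
    have hne := h1.symm ▸ hn
    rw [← h1, Nat.factorization_mul (left_ne_zero_of_mul hne) (right_ne_zero_of_mul hne),
      Finsupp.add_apply, Nat.factorization_eq_zero_of_not_dvd (n := ((Subgroup.centralizer (Q : Set G)) ⊔ K0).relIndex H), add_zero]
    intro hd
    refine S.not_dvd_index ?_
    have h2 : S'.relIndex H = (S : Subgroup H).index := by
      rw [Subgroup.relIndex, hS', Subgroup.subgroupOf,
        Subgroup.comap_map_eq_self_of_injective (Subgroup.subtype_injective H)]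
    rw [← h2]
    exact hd.trans (Subgroup.relIndex_dvd_of_le_left H hSle)
  have hQK : Q ≤ K0 := fun q hq =>
    ⟨hc.le hq, Subgroup.mem_centralizer_singleton_iff.mpr (x.2 q hq)⟩
  obtain ⟨P0, hP0⟩ := (hc.pg.of_equiv (Subgroup.subgroupOfEquivOfLe hQK).symm).exists_le_sylow
  set R0 := (P0 : Subgroup K0).map K0.subtype with hR0
  have hR0K : R0 ≤ K0 := Subgroup.map_subtype_le _
  have hR0p : IsPGroup p R0 := P0.isPGroup'.map _
  have hQR0 : Q ≤ R0 := fun q hq => ⟨⟨q, hQK hq⟩, hP0 hq, rfl⟩
  have hxR0 : (x : G) ∈ Subgroup.centralizer (R0 : Set G) := fun w hw =>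
    Subgroup.mem_centralizer_singleton_iff.mp (hR0K hw).2
  obtain ⟨e, he⟩ := hc.over_of_detect hM hR0p hQR0 (hR0K.trans inf_le_left) hxR0
    (by rw [subgroupBlockCoeff_eq, extendByZero_mem _ _ x.2]; exact hKu)
  obtain ⟨h, hh, hle⟩ := hc.conj_le_max hM he hd
  obtain ⟨a, ha⟩ := IsPGroup.iff_card.mp hR0p
  obtain ⟨a', ha'⟩ := IsPGroup.iff_card.mp hd.1.1.2.1.1
  obtain ⟨m, -, hm⟩ := (Nat.dvd_prime_pow hM.1).mp
    ((ha ▸ (card_eq_inf_mul_relIndex (Subgroup.centralizer (Q : Set G)) R0).symm ▸ dvd_mul_left _ _ : (Subgroup.centralizer (Q : Set G)).relIndex R0 ∣ p ^ a))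
  obtain ⟨m', -, hm'⟩ := (Nat.dvd_prime_pow hM.1).mp
    ((ha' ▸ (card_eq_inf_mul_relIndex (Subgroup.centralizer (Q : Set G)) d.1).symm ▸ dvd_mul_left _ _ : (Subgroup.centralizer (Q : Set G)).relIndex d.1 ∣ p ^ a'))
  have hup : m' ≤ ((Subgroup.centralizer (Q : Set G)).relIndex H).factorization p := by
    have h1 := Subgroup.relIndex_mul_relIndex _ _ _ (le_sup_left : (Subgroup.centralizer (Q : Set G)) ≤ (Subgroup.centralizer (Q : Set G)) ⊔ d.1)
      (sup_le hc.cent hd.1.2)
    rw [relIndex_sup_of_normalizes (hd.1.2.trans fun u hu => by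
      rw [Subgroup.mem_normalizer_iff]
      exact fun c => (conj_mem_centralizer_iff (H := Subgroup.normalizer (Q : Set G)) le_rfl
        ⟨u, hc.le_norm hu⟩ c).symm), hm'] at h1
    exact (hM.1.pow_dvd_iff_le_factorization hn).mp ⟨_, h1.symm⟩
  have hlow : ((Subgroup.centralizer (Q : Set G)).relIndex K0).factorization p ≤ m := by
    obtain ⟨i, hi⟩ := IsPGroup.iff_card.mp (hR0p.to_le (inf_le_right : (Subgroup.centralizer (Q : Set G)) ⊓ R0 ≤ R0))
    have hR0card : Nat.card R0 = p ^ (Nat.card K0).factorization p := by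
      rw [hR0, Subgroup.card_map_of_injective (Subgroup.subtype_injective _), P0.card_eq_multiplicity]
    rw [card_eq_inf_mul_relIndex (Subgroup.centralizer (Q : Set G)) R0, hi, hm, ← pow_add] at hR0card
    have h2 := Nat.pow_right_injective hM.1.two_le hR0card
    have hne2 : Nat.card ((Subgroup.centralizer (Q : Set G)) ⊓ K0 : Subgroup G) ≠ 0 := Nat.card_pos.ne'
    have hne3 : (Subgroup.centralizer (Q : Set G)).relIndex K0 ≠ 0 := Subgroup.index_ne_zero_of_finite
    rw [card_eq_inf_mul_relIndex (Subgroup.centralizer (Q : Set G)) K0, Nat.factorization_mul hne2 hne3, Finsupp.add_apply] at h2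
    have h3 : i ≤ (Nat.card ((Subgroup.centralizer (Q : Set G)) ⊓ K0 : Subgroup G)).factorization p :=
      (hM.1.pow_dvd_iff_le_factorization hne2).mp
        (hi ▸ Subgroup.card_dvd_of_le (inf_le_inf_left (Subgroup.centralizer (Q : Set G)) hR0K))
    omega
  have hmm : m ≤ m' := by
    refine (Nat.pow_le_pow_iff_right hM.1.one_lt).mp ?_
    rw [← hm, ← hm', ← Subgroup.relIndex_map_map_of_injective (f := (MulAut.conj h).toMonoidHom) (Subgroup.centralizer (Q : Set G)) R0
      (MulEquiv.injective _), map_conj_centralizer (hc.le_norm hh)]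
    exact Subgroup.relIndex_le_of_le_right hle Subgroup.index_ne_zero_of_finite
  rw [hm']
  congr 1
  omega

end RelIndex

end Cfsg.Agent.Char
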