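import Cfsg.Agent.Lib.Char.CoverBlocks
import Cfsg.Agent.Lib.Char.LocalPairs

/-!
# The block over a stable block of a normal subgroup of `p`-power index
-/

set_option autoImplicit false
set_option linter.style.haveILetI false

namespace Cfsg.Agent.Char

open Cfsg Module
open scoped ComplexConjugate

universe u

variable {G : Type u} [Group G] [Fintype G] {M : Ideal AlgInt} {p : ℕ}

theorem sum_eq_card_mul_cosets (H : Subgroup G) [Fintype (G ⧸ H)] {φ : G → ℂ}
    (h : ∀ x : G, ∀ y ∈ H, φ (x * y) = φ x) :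
    ∑ x : G, φ x = (Nat.card H : ℂ) * ∑ q : G ⧸ H, φ q.out := by
  classical
  haveI := Fintype.ofFinite H
  rw [← Fintype.sum_equiv (Subgroup.groupEquivQuotientProdSubgroup (s := H)).symm
    (fun y => φ ((Subgroup.groupEquivQuotientProdSubgroup (s := H)).symm y)) φ (fun y => rfl),
    Fintype.sum_prod_type, Finset.mul_sum]
  refine Finset.sum_congr rfl fun q _ => ?_
  rw [Finset.sum_congr rfl (g := fun _ => φ q.out) fun y _ => ?_, Finset.sum_const, nsmul_eq_mul,
    Finset.card_univ, Nat.card_eq_fintype_card]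
  have e : (Subgroup.groupEquivQuotientProdSubgroup (s := H)).symm (q, y) ∈
      {x : G | (x : G ⧸ H) = q} := by
    have h1 := (Subgroup.groupEquivQuotientProdSubgroup (s := H)).apply_symm_apply (q, y)
    exact congrArg Prod.fst h1
  have h2 : (q.out)⁻¹ * (Subgroup.groupEquivQuotientProdSubgroup (s := H)).symm (q, y) ∈ H :=
    QuotientGroup.eq.mp ((QuotientGroup.out_eq' q).trans e.symm)
  have h3 := h q.out _ h2
  rwa [mul_inv_cancel_left] at h3

variable {N : Subgroup G} [hNn : N.Normal] [Fintype N] {c : Set (IrrCharacter N)}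

omit [Fintype G] in
theorem transport_mem_of_stable (hst : ∀ x : G, StabilizesBlock N c x) {θ : IrrCharacter N}
    (hθ : θ ∈ c) (x : G) :
    irrTransport (MulAut.conjNormal x : N ≃* N) θ ∈ c := by
  obtain ⟨θ', hθ', hconj⟩ := (hst x⁻¹).2 θ hθ
  rwa [show irrTransport (MulAut.conjNormal x : N ≃* N) θ = θ' from Subtype.ext (funext fun n => by
    rw [irrTransport_apply]
    refine (hconj (MulAut.conjNormal x n) n ?_).symm
    rw [MulAut.conjNormal_apply]
    group)]

theorem ginv_blockCoeff_of_stable (hc : IsPBlock M c) (hst : ∀ x : G, StabilizesBlock N c x)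
    (hM : M.IsPrime) : GInvariant N (blockCoeff c) := by
  obtain ⟨θ, hθ⟩ := block_nonempty hM hc
  intro g n
  have himg : irrTransport (MulAut.conjNormal g : N ≃* N) '' c = c :=
    block_disjoint hM (isPBlock_transport _ hc) hc ⟨θ, hθ, rfl⟩ (transport_mem_of_stable hst hθ g)
  rw [← blockCoeff_transport, himg]

/-- The block with the coefficients of a stable block. -/
theorem exists_block_of_stable (hM : IsPModular p M) {k : ℕ} (hk : N.index = p ^ k)
    (hc : IsPBlock M c) (hst : ∀ x : G, StabilizesBlock N c x) :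
    ∃ B : Set (IrrCharacter G), IsPBlock M B ∧
      ∀ g : G, blockCoeff B g = subgroupBlockCoeff N c g := by
  classical
  have hP := pmod_prime hM
  have hinv := ginv_blockCoeff_of_stable hc hst hP
  obtain ⟨θ0, hθ0⟩ := block_nonempty hP hc
  obtain ⟨χ0, hχ0⟩ := exists_constituent_over N θ0
  refine ⟨blockOf M (χ0 : G → ℂ), isPBlock_blockOf M χ0, fun g => ?_⟩
  rw [subgroupBlockCoeff_eq]
  refine congrFun ?_ g
  rw [classFun_eq_sum_idem (isClassFunction_extend hinv), blockCoeff_eq, Finset.sum_filter]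
  refine Finset.sum_congr rfl fun χ _ => ?_
  obtain ⟨θ, hθ⟩ := exists_constituent (N := N) χ
  rw [lam_extend_of_constituent hθ hinv, lam_blockCoeff]
  have hiff : θ ∈ c ↔ χ ∈ blockOf M (χ0 : G → ℂ) := by
    constructor
    · intro h
      exact sameBlock_of_pIndex hM hk (block_sameBlock hP hc hθ0 h) hχ0 hθ
    · intro h
      obtain ⟨g, hg⟩ := mem_orbU_of_sameBlock hM h hχ0 hθ
      have h1 := (mem_block_iff hP hc hθ0 _).mpr hg
      have h2 := transport_mem_of_stable hst h1 g⁻¹
      rwa [show irrTransport (MulAut.conjNormal g⁻¹ : N ≃* N)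
          (irrComp (MulAut.conjNormal g) θ) = θ from Subtype.ext (funext fun n => by
        rw [irrTransport_apply, irrComp_apply, map_inv, MulAut.apply_inv_self])] at h2
  by_cases h : θ ∈ c
  · rw [if_pos h, if_pos (hiff.mp h), one_smul]
  · rw [if_neg h, if_neg (fun h' => h (hiff.mpr h')), zero_smul]

variable {B : Set (IrrCharacter G)}

/-- The class sum of `g` at a stable block. -/
theorem omega_stable_congr (hM : IsPModular p M) (hc : IsPBlock M c)
    (hst : ∀ x : G, StabilizesBlock N c x) {g : G} (hg : g ∈ N) {θ : IrrCharacter N} (hθ : θ ∈ c)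
    {χ : IrrCharacter G}
    (hcon : classInner (fun n : N => (χ : G → ℂ) n) (θ : N → ℂ) ≠ 0) :
    MemLocalIdeal M (omega (χ : G → ℂ) g -
      ((N ⊔ Subgroup.centralizer ({g} : Set G)).index : ℂ) * omega (θ : N → ℂ) ⟨g, hg⟩) := by
  classical
  have hP := pmod_prime hM
  set C := Subgroup.centralizer ({g} : Set G) with hC
  set H := N ⊔ C with hH
  haveI := Fintype.ofFinite (G ⧸ H)
  set F : G → ℂ := extendByZero N (fun n => (θ : N → ℂ) n / (θ : N → ℂ) 1) with hF
  set φ : G → ℂ := fun x =>
    omega (θ : N → ℂ) ⟨x * g * x⁻¹, hNn.conj_mem g hg x⟩ with hφ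
  set CN := Subgroup.centralizer ({(⟨g, hg⟩ : N)} : Set N) with hCN
  -- the left side
  have h1 : omega (χ : G → ℂ) g = lam (θ : N → ℂ) (fun n : N => classInd g (n : G)) := by
    have hinv : GInvariant N (fun n : N => classInd g (n : G)) := fun x n => by
      show classInd g ((MulAut.conjNormal x n : N) : G) = classInd g (n : G)
      rw [MulAut.conjNormal_apply]
      exact (intClassFun_classInd hP g).1 _ x
    have hext : extendByZero N (fun n : N => classInd g (n : G)) = classInd g := by
      funext x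
      by_cases hx : x ∈ N
      · rw [extendByZero_mem N _ hx]
      · rw [extendByZero_not_mem N _ hx, classInd, if_neg]
        intro h
        obtain ⟨y, rfl⟩ := isConj_iff.mp h
        exact hx (hNn.conj_mem g hg y)
    have h := lam_extend_of_constituent hcon hinv
    rwa [hext, lam_classInd' (isClassFunction_character (irr_isCharacter χ.2))] at h
  have h2 : (Nat.card C : ℂ) * omega (χ : G → ℂ) g = ∑ x : G, F (x⁻¹ * g * x) := by
    rw [sum_conj_eq g F, h1]
    congr 1
    rw [lam, Finset.sum_filter]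
    simp only [hF]
    rw [Finset.sum_congr rfl fun y _ => show (if IsConj g y then
        extendByZero N (fun n => (θ : N → ℂ) n / (θ : N → ℂ) 1) y else 0) =
        extendByZero N (fun n => (θ : N → ℂ) n / (θ : N → ℂ) 1) y * classInd g y by
      simp [classInd], sum_extendByZero_mul, Finset.sum_div]
    exact Finset.sum_congr rfl fun n _ => by ring
  have hcls : ∀ x : G, ∑ n : N, F ((n : G)⁻¹ * (x * g * x⁻¹) * (n : G)) =
      (Nat.card CN : ℂ) * φ x := by
    intro x
    set h : N := ⟨x * g * x⁻¹, hNn.conj_mem g hg x⟩ with hh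
    have e1 : ∑ n : N, F ((n : G)⁻¹ * (x * g * x⁻¹) * (n : G)) =
        ∑ n : N, (θ : N → ℂ) (n⁻¹ * h * n) / (θ : N → ℂ) 1 :=
      Finset.sum_congr rfl fun n _ => extendByZero_mem N _ (n⁻¹ * h * n).2
    have e2 : ∀ n : N, (θ : N → ℂ) (n⁻¹ * h * n) = (θ : N → ℂ) h := fun n => by
      have := isClassFunction_character (irr_isCharacter θ.2) h n⁻¹
      rwa [inv_inv] at this
    rw [e1, Finset.sum_congr rfl fun n _ => by rw [e2 n], Finset.sum_const, nsmul_eq_mul,
      Finset.card_univ, ← Nat.card_eq_fintype_card, hφ]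
    show _ = (Nat.card CN : ℂ) * omega (θ : N → ℂ) h
    have hcard : Nat.card {y : N // IsConj h y} = Nat.card {y : N // IsConj (⟨g, hg⟩ : N) y} := by
      rw [show h = MulAut.conjNormal x (⟨g, hg⟩ : N) from Subtype.ext (by
        simp [hh, MulAut.conjNormal_apply]), card_conjClass_equiv]
    rw [omega, hcard, hCN, ← card_conjClass_mul_centralizer (⟨g, hg⟩ : N)]
    push_cast
    ring
  have h3 : (Nat.card N : ℂ) * ∑ x : G, F (x⁻¹ * g * x) = (Nat.card CN : ℂ) * ∑ x : G, φ x := by
    have e : ∀ n : N, ∑ x : G, F ((n : G)⁻¹ * (x * g * x⁻¹) * (n : G)) =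
        ∑ x : G, F (x⁻¹ * g * x) := fun n => by
      refine Fintype.sum_equiv ((Equiv.inv G).trans (Equiv.mulRight (n : G))) _ _ fun x => ?_
      simp only [Equiv.trans_apply, Equiv.inv_apply, Equiv.coe_mulRight, mul_inv_rev, inv_inv]
      group
    rw [Finset.mul_sum (s := Finset.univ) (f := φ), ← Finset.sum_congr rfl fun x _ => hcls x,
      Finset.sum_comm, Finset.sum_congr rfl fun n _ => e n, Finset.sum_const, nsmul_eq_mul,
      Finset.card_univ, Nat.card_eq_fintype_card]
  have hφH : ∀ x : G, ∀ y ∈ H, φ (x * y) = φ x := by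
    intro x y hy
    obtain ⟨n, hn, z, hz, rfl⟩ : ∃ n ∈ N, ∃ z ∈ C, n * z = y := by
      have h : y ∈ ((N ⊔ C : Subgroup G) : Set G) := hy
      rw [Subgroup.normal_mul N C] at h
      exact Set.mem_mul.mp h
    have hzg : z * g * z⁻¹ = g := by
      rw [Subgroup.mem_centralizer_singleton_iff.mp hz]; group
    set m : N := ⟨x * n * x⁻¹, hNn.conj_mem n hn x⟩ with hm
    set h : N := ⟨x * g * x⁻¹, hNn.conj_mem g hg x⟩ with hh
    show omega (θ : N → ℂ) _ = omega (θ : N → ℂ) h
    rw [show (⟨x * (n * z) * g * (x * (n * z))⁻¹, hNn.conj_mem g hg _⟩ : N) = m * h * m⁻¹ from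
      Subtype.ext (by
        show x * (n * z) * g * (x * (n * z))⁻¹ =
          x * n * x⁻¹ * (x * g * x⁻¹) * (x * n * x⁻¹)⁻¹
        calc x * (n * z) * g * (x * (n * z))⁻¹ = x * n * (z * g * z⁻¹) * (x * n)⁻¹ := by group
          _ = _ := by rw [hzg]; group)]
    rw [omega, omega, isClassFunction_character (irr_isCharacter θ.2) h m,
      ← MulAut.conj_apply, card_conjClass_equiv]
  have hcards : (Nat.card H : ℂ) * (Nat.card CN : ℂ) = (Nat.card N : ℂ) * (Nat.card C : ℂ) := by
    have e1 : Nat.card CN = Nat.card (N ⊓ C : Subgroup G) := by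
      refine Nat.card_congr
        { toFun := fun v => ⟨((v : N) : G), (v : N).2,
            Subgroup.mem_centralizer_singleton_iff.mpr (congrArg Subtype.val
              (Subgroup.mem_centralizer_singleton_iff.mp v.2))⟩
          invFun := fun v => ⟨⟨(v : G), v.2.1⟩, Subgroup.mem_centralizer_singleton_iff.mpr
            (Subtype.ext (Subgroup.mem_centralizer_singleton_iff.mp v.2.2))⟩
          left_inv := fun v => rfl
          right_inv := fun v => rfl }
    have e2 := Subgroup.relIndex_bot_left H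
    have e3 : Nat.card H = Nat.card N * N.relIndex C := by
      rw [← Subgroup.relIndex_bot_left, ← Subgroup.relIndex_mul_relIndex ⊥ N H bot_le le_sup_left,
        Subgroup.relIndex_bot_left, hH, sup_comm, Subgroup.relIndex_sup_right]
    have e4 := card_eq_inf_mul_relIndex N C
    rw [e1, e3, e4]
    push_cast
    ring
  have hC0 : (Nat.card C : ℂ) ≠ 0 := Nat.cast_ne_zero.mpr Nat.card_pos.ne'
  have hN0 : (Nat.card N : ℂ) ≠ 0 := Nat.cast_ne_zero.mpr Nat.card_pos.ne'
  have hmain : omega (χ : G → ℂ) g = ∑ q : G ⧸ H, φ q.out := by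
    refine mul_left_cancel₀ (mul_ne_zero hN0 hC0) ?_
    rw [mul_assoc, h2, h3, sum_eq_card_mul_cosets H hφH, ← hcards]
    ring
  rw [hmain, Subgroup.index_eq_card, Nat.card_eq_fintype_card, ← Finset.card_univ, ← nsmul_eq_mul,
    ← Finset.sum_const, ← Finset.sum_sub_distrib]
  refine memLI_sum hP _ _ fun q _ => ?_
  have h4 := omega_transport (MulAut.conjNormal q.out : N ≃* N) θ ⟨g, hg⟩
  rw [show φ q.out = omega (θ : N → ℂ) ((MulAut.conjNormal q.out : N ≃* N) ⟨g, hg⟩) from
    congrArg (omega (θ : N → ℂ)) (Subtype.ext (by simp [MulAut.conjNormal_apply])), ← h4]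
  exact omega_congr hM hc (transport_mem_of_stable hst hθ _) hθ _

/-- The defect groups of the block over a stable block. -/
theorem defect_of_stable (hM : IsPModular p M) {k : ℕ} (hk : N.index = p ^ k) (hc : IsPBlock M c)
    (hst : ∀ x : G, StabilizesBlock N c x) (hB : IsPBlock M B)
    (hBc : ∀ g : G, blockCoeff B g = subgroupBlockCoeff N c g) {P : Subgroup G}
    (hD : IsDefectGroup p M B P) :
    N ⊔ P = ⊤ ∧ IsDefectGroup p M c ((P ⊓ N).subgroupOf N) := by
  classical
  haveI := Fact.mk hM.1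
  have hP := pmod_prime hM
  have hp := hM.1
  obtain ⟨g, hg, hgP⟩ := (isDefectGroup_iff B P).mp hD
  have hgN : g ∈ N := by
    by_contra hn
    refine hg.2.1 ?_
    rw [hBc, subgroupBlockCoeff_eq, extendByZero_not_mem _ _ hn]
    exact memLI_zero hP
  set C := Subgroup.centralizer ({g} : Set G) with hC
  obtain ⟨χ, hχ⟩ := block_nonempty hP hB
  obtain ⟨θ, hθ⟩ := exists_constituent (N := N) χ
  have hinv := ginv_blockCoeff_of_stable hc hst hP
  have hθc : θ ∈ c := by
    have h := lam_extend_of_constituent hθ hinv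
    rw [← subgroupBlockCoeff_eq, ← show blockCoeff B = subgroupBlockCoeff N c from funext hBc,
      lam_blockCoeff, lam_blockCoeff, if_pos hχ] at h
    by_contra hn
    rw [if_neg hn] at h
    exact one_ne_zero h
  have hcong := omega_stable_congr hM hc hst hgN hθc hθ
  have hunit := (omega_unit_iff hM hB hχ g).mp hg.2.2
  have hdvd : (N ⊔ C).index ∣ p ^ k := hk ▸ Subgroup.index_dvd_of_le le_sup_left
  obtain ⟨r, -, hr⟩ := (Nat.dvd_prime_pow hp).mp hdvd
  have hr0 : r = 0 := by
    by_contra hne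
    refine hunit (memLI_congr hP hcong (memLI_mul_right hP ?_ (memLR_omega hP θ.2 _)))
    exact (memLI_natCast_iff hM _).mpr (hr ▸ dvd_pow_self p hne)
  have htop : N ⊔ C = ⊤ := Subgroup.index_eq_one.mp (by rw [hr, hr0, pow_zero])
  have hθu : ¬ MemLocalIdeal M (omega (θ : N → ℂ) ⟨g, hgN⟩) := by
    intro h
    rw [htop, Subgroup.index_top, Nat.cast_one, one_mul] at hcong
    exact hunit (memLI_congr hP hcong h)
  -- inside the centralizer
  set a := (Nat.card C).factorization p with ha
  have hPC : P ≤ C := hgP.le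
  have hNC : N.relIndex C ∣ p ^ k := hk ▸ Subgroup.relIndex_dvd_index_of_normal N C
  set D := P ⊔ (N ⊓ C) with hDdef
  have hDC : D ≤ C := sup_le hPC inf_le_right
  have hD1 : D.relIndex C = 1 := by
    refine Nat.eq_one_of_dvd_coprimes (a := p ^ k) (b := (Nat.card C / p ^ a)) ?_ ?_ ?_
    · exact Nat.Coprime.pow_left k (hp.coprime_iff_not_dvd.mpr
        (Nat.not_dvd_ordCompl hp Nat.card_pos.ne'))
    · refine dvd_trans ?_ hNC
      rw [← Subgroup.inf_relIndex_right N C]
      exact Subgroup.relIndex_dvd_of_le_left C le_sup_right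
    · refine dvd_trans (Subgroup.relIndex_dvd_of_le_left C (le_sup_left : P ≤ D)) ?_
      have h1 : Nat.card P * P.relIndex C = Nat.card C := by
        rw [← Subgroup.relIndex_bot_left P, Subgroup.relIndex_mul_relIndex _ _ _ bot_le hPC,
          Subgroup.relIndex_bot_left]
      rw [hgP.card hp] at h1
      exact ⟨1, by rw [mul_one, ← h1, Nat.mul_div_cancel_left _ (pow_pos hp.pos _)]⟩
  have hDeq : D = C := le_antisymm hDC (Subgroup.relIndex_eq_one.mp hD1)
  refine ⟨?_, ?_⟩
  · rw [eq_top_iff, ← htop]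
    exact sup_le le_sup_left (hDeq ▸ sup_le le_sup_right (inf_le_left.trans le_sup_left))
  refine (isDefectGroup_iff c _).mpr ⟨⟨g, hgN⟩, ⟨?_, ?_, ?_⟩, ?_⟩
  · exact memLR_blockCoeff hM hc _
  · have := hg.2.1
    rwa [hBc, subgroupBlockCoeff_eq, extendByZero_mem _ _ hgN] at this
  · exact (omega_unit_iff hM hc hθc _).mpr hθu
  set CN := Subgroup.centralizer ({(⟨g, hgN⟩ : N)} : Set N) with hCN
  have hmemCN : ∀ v : N, v ∈ CN ↔ (v : G) ∈ C := fun v =>
    ⟨fun h => Subgroup.mem_centralizer_singleton_iff.mpr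
      (congrArg Subtype.val (Subgroup.mem_centralizer_singleton_iff.mp h)),
    fun h => Subgroup.mem_centralizer_singleton_iff.mpr
      (Subtype.ext (Subgroup.mem_centralizer_singleton_iff.mp h))⟩
  have hle : (P ⊓ N).subgroupOf N ≤ CN := fun v hv =>
    (hmemCN v).mpr (hPC (Subgroup.mem_subgroupOf.mp hv).1)
  have hcardCN : Nat.card CN = Nat.card (N ⊓ C : Subgroup G) := by
    have h1 : CN = (N ⊓ C).subgroupOf N := by
      ext v
      rw [hmemCN, Subgroup.mem_subgroupOf, Subgroup.mem_inf]
      exact ⟨fun h => ⟨v.2, h⟩, And.right⟩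
    rw [h1, Nat.card_congr (Subgroup.subgroupOfEquivOfLe (inf_le_left : N ⊓ C ≤ N)).toEquiv]
  have hcard : Nat.card (((P ⊓ N).subgroupOf N).subgroupOf CN) = p ^ (Nat.card CN).factorization p := by
    rw [Nat.card_congr (Subgroup.subgroupOfEquivOfLe hle).toEquiv,
      Nat.card_congr (Subgroup.subgroupOfEquivOfLe (inf_le_right : P ⊓ N ≤ N)).toEquiv, hcardCN,
      inf_comm P N]
    have e2 := card_eq_inf_mul_relIndex N C
    have e3 := card_eq_inf_mul_relIndex N P
    have e5 : N.relIndex P = N.relIndex C := by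
      rw [← Subgroup.relIndex_sup_right (H := P), ← Subgroup.relIndex_sup_right (H := C)]
      congr 1
      exact le_antisymm (sup_le_sup_right hPC N) (sup_le (hDeq ▸ sup_le le_sup_left
        (inf_le_left.trans le_sup_right)) le_sup_right)
    rw [e5, hgP.card hp] at e3
    obtain ⟨j, hj⟩ := IsPGroup.iff_card.mp
      (hgP.isPGroup.to_le (inf_le_right : N ⊓ P ≤ P))
    obtain ⟨i, -, hi⟩ := (Nat.dvd_prime_pow hp).mp hNC
    rw [hj, hi, ← pow_add] at e3
    have h6 := Nat.pow_right_injective hp.two_le e3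
    rw [e2, hi, Nat.factorization_mul Nat.card_pos.ne' (pow_ne_zero _ hp.ne_zero),
      Finsupp.add_apply, Nat.factorization_pow_self hp] at h6
    rw [hj]
    congr 1
    omega
  refine ⟨Sylow.ofCard _ hcard, ?_⟩
  rw [Sylow.coe_ofCard, Subgroup.map_subgroupOf_eq_of_le hle]

end Cfsg.Agent.Char
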