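import Cfsg.Agent.Lib.Char.CoverBlocks
import Cfsg.Agent.Lib.Char.StableCover
import Cfsg.Agent.Lib.Char.DefectLocal
import Cfsg.Agent.Lib.Char.CliffordCorr
import Cfsg.Agent.Lib.Char.IndValue

/-!
# The correspondence of Fong and Reynolds
-/

set_option autoImplicit false
set_option linter.style.haveILetI false

namespace Cfsg.Agent.Char

open Cfsg Module
open scoped ComplexConjugate Classical

universe u

variable {G : Type u} [Group G] [Fintype G] {M : Ideal AlgInt} {p : ℕ}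
variable {N : Subgroup G} [hN : N.Normal] [Fintype N]

/-- The conjugation orbit and the stabilizer of a character. -/
theorem card_cliffOrbit_mul (θ : IrrCharacter N) :
    (cliffOrbit N θ).card * Nat.card {g : G // irrComp (MulAut.conjNormal g) θ = θ} = Nat.card G := by
  set f : G → IrrCharacter N := fun g => irrComp (MulAut.conjNormal g) θ with hf
  have hmul : ∀ a b : G, f (a * b) = irrComp (MulAut.conjNormal b) (f a) := fun a b => by
    simp only [hf]; rw [irrComp_conj_mul]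
  have hfib : ∀ ψ ∈ cliffOrbit N θ, (Finset.univ.filter fun g => f g = ψ).card =
      (Finset.univ.filter fun g => f g = θ).card := by
    intro ψ hψ
    obtain ⟨a, ha⟩ := mem_cliffOrbit.mp hψ
    refine Finset.card_bij' (fun g _ => g * a⁻¹) (fun g _ => g * a) ?_ ?_
      (fun g _ => by simp) (fun g _ => by simp)
    · intro g hg
      simp only [Finset.mem_filter, Finset.mem_univ, true_and] at hg ⊢
      rw [hmul, hg, ← ha]
      simp only [irrComp_conj_mul, mul_inv_cancel, irrComp_conj_one]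
    · intro g hg
      simp only [Finset.mem_filter, Finset.mem_univ, true_and] at hg ⊢
      rw [hmul, hg, ← ha]
  have h := Finset.card_eq_sum_card_fiberwise (s := (Finset.univ : Finset G)) (f := f)
    (t := cliffOrbit N θ) (fun g _ => mem_cliffOrbit.mpr ⟨g, rfl⟩)
  rw [Finset.sum_congr rfl hfib, Finset.sum_const, smul_eq_mul, Finset.card_univ] at h
  rw [Nat.card_eq_fintype_card, Fintype.card_subtype, Nat.card_eq_fintype_card]
  exact h.symm

section Over

variable (T : Subgroup G) [Fintype T] (hNT : N ≤ T)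

/-- Restriction of a function on `T` to `N`. -/
def resN (ψ : T → ℂ) : N → ℂ := fun n => ψ ⟨(n : G), hNT n.2⟩

variable {T hNT}

theorem resN_eq_comp (ψ : T → ℂ) : resN T hNT ψ = ψ ∘ Subgroup.inclusion hNT := rfl

omit [Fintype T] [Fintype G] in
theorem classInner_subgroupOf (hNT : N ≤ T) [Fintype (N.subgroupOf T)] (f g : N → ℂ) :
    classInner (fun x : N.subgroupOf T => f ⟨((x : T) : G), x.2⟩)
      (fun x : N.subgroupOf T => g ⟨((x : T) : G), x.2⟩) = classInner f g := by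
  simp only [classInner, Nat.card_congr (Subgroup.subgroupOfEquivOfLe hNT).toEquiv]
  congr 1
  exact Fintype.sum_equiv (Subgroup.subgroupOfEquivOfLe hNT).toEquiv _ _ fun x => rfl

/-- Invariant functions of `N` seen from `T`. -/
theorem lam_over {ψ : IrrCharacter T} {η : IrrCharacter N}
    (h : classInner (resN T hNT (ψ : T → ℂ)) (η : N → ℂ) ≠ 0) {f : N → ℂ}
    (hf : ∀ t ∈ T, ∀ n : N, f (MulAut.conjNormal t n) = f n) :
    lam (ψ : T → ℂ) (fun t => if ht : (t : G) ∈ N then f ⟨t, ht⟩ else 0) = lam (η : N → ℂ) f := by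
  have := Fintype.ofFinite (N.subgroupOf T)
  set e := Subgroup.subgroupOfEquivOfLe hNT
  set η' : IrrCharacter (N.subgroupOf T) := irrTransport e η with hη'
  have hext : (fun t : T => if ht : (t : G) ∈ N then f ⟨t, ht⟩ else 0) =
      extendByZero (N.subgroupOf T) (fun x => f ⟨((x : T) : G), x.2⟩) := by
    funext t
    by_cases ht : (t : G) ∈ N
    · rw [dif_pos ht, extendByZero_mem (N.subgroupOf T) _ ht]
    · rw [dif_neg ht, extendByZero_not_mem (N.subgroupOf T) _ ht]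
  have hinv : GInvariant (N.subgroupOf T) (fun x : N.subgroupOf T => f ⟨((x : T) : G), x.2⟩) := by
    intro t x
    show f _ = f _
    rw [← hf t t.2 ⟨((x : T) : G), x.2⟩]
    exact congrArg f (Subtype.ext rfl)
  have hne : classInner (fun x : N.subgroupOf T => (ψ : T → ℂ) x)
      (η' : N.subgroupOf T → ℂ) ≠ 0 := by
    rw [← classInner_subgroupOf hNT (resN T hNT (ψ : T → ℂ)) (η : N → ℂ)] at h
    exact h
  rw [hext, lam_extend_of_constituent hne hinv]
  simp only [lam, hη', irrTransport_apply, map_one]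
  congr 1
  exact Fintype.sum_equiv e.toEquiv _ _ fun x => rfl

theorem exists_constituent_res (ψ : IrrCharacter T) :
    ∃ η : IrrCharacter N, classInner (resN T hNT (ψ : T → ℂ)) (η : N → ℂ) ≠ 0 := by
  obtain ⟨m, hm⟩ := exists_decomposition
    (isCharacter_comp (Subgroup.inclusion hNT) (irr_isCharacter ψ.2))
  by_contra hno
  push Not at hno
  refine irr_one_ne_zero ψ.2 ?_
  have h1 := congrFun hm 1
  rw [Function.comp_apply, map_one, Finset.sum_apply] at h1
  rw [h1]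
  refine Finset.sum_eq_zero fun η _ => ?_
  have h2 := hno η
  rw [resN_eq_comp, decomposition_coeff m hm η, Nat.cast_eq_zero] at h2
  rw [h2, zero_smul]
  rfl

theorem res_one {ψ : IrrCharacter T} {θ : IrrCharacter N}
    (h : classInner (resN T hNT (ψ : T → ℂ)) (θ : N → ℂ) ≠ 0)
    (hI : ∀ g : G, irrComp (MulAut.conjNormal g) θ = θ → g ∈ T) :
    (Nat.card G : ℂ) * (ψ : T → ℂ) 1 =
      classInner (resN T hNT (ψ : T → ℂ)) (θ : N → ℂ) * (θ : N → ℂ) 1 *
        ((cliffOrbit N θ).card * Nat.card T : ℕ) := by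
  have := Fintype.ofFinite (N.subgroupOf T)
  set e := Subgroup.subgroupOfEquivOfLe hNT
  set θ' : IrrCharacter (N.subgroupOf T) := irrTransport e θ with hθ'
  have heq : classInner (fun x : N.subgroupOf T => (ψ : T → ℂ) x) (θ' : N.subgroupOf T → ℂ) =
      classInner (resN T hNT (ψ : T → ℂ)) (θ : N → ℂ) :=
    classInner_subgroupOf hNT (resN T hNT (ψ : T → ℂ)) (θ : N → ℂ)
  have hcl := congrFun (clifford_restrict ψ θ' (by rw [heq]; exact h)) 1
  simp only [Pi.smul_apply, smul_eq_mul, Finset.sum_apply, OneMemClass.coe_one] at hcl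
  rw [Finset.sum_congr (s₁ := cliffOrbit (N.subgroupOf T) θ')
      (f := fun φ : IrrCharacter (N.subgroupOf T) => (φ : N.subgroupOf T → ℂ) 1)
      (g := fun _ => (θ : N → ℂ) 1) rfl fun φ hφ => by
      obtain ⟨t, rfl⟩ := mem_cliffOrbit.mp hφ
      show _ = (θ : N → ℂ) 1
      rw [irrComp_apply, map_one, hθ', irrTransport_apply, map_one],
    Finset.sum_const, nsmul_eq_mul, heq] at hcl
  -- compare the orbits
  have hst : Nat.card {t : T // irrComp (MulAut.conjNormal t) θ' = θ'} =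
      Nat.card {g : G // irrComp (MulAut.conjNormal g) θ = θ} := by
    have hiff : ∀ t : T, irrComp (MulAut.conjNormal t) θ' = θ' ↔
        irrComp (MulAut.conjNormal (t : G)) θ = θ := by
      intro t
      constructor
      · intro h0
        refine Subtype.ext (funext fun n => ?_)
        have h1 := congrArg (fun χ : IrrCharacter (N.subgroupOf T) =>
          (χ : N.subgroupOf T → ℂ) (e.symm n)) h0
        simp only [hθ', irrComp_apply, irrTransport_apply, MulEquiv.apply_symm_apply] at h1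
        rw [irrComp_apply, ← h1]
        exact congrArg _ (Subtype.ext rfl)
      · intro h0
        refine Subtype.ext (funext fun x => ?_)
        have h1 := congrArg (fun χ : IrrCharacter N => (χ : N → ℂ) (e x)) h0
        simp only [irrComp_apply] at h1
        rw [hθ', irrComp_apply, irrTransport_apply, irrTransport_apply, ← h1]
        exact congrArg _ (Subtype.ext rfl)
    refine Nat.card_congr
      { toFun := fun t => ⟨(t.1 : G), (hiff t.1).mp t.2⟩
        invFun := fun g => ⟨⟨g.1, hI g.1 g.2⟩, (hiff _).mpr g.2⟩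
        left_inv := fun _ => rfl
        right_inv := fun _ => rfl }
  have h1 := card_cliffOrbit_mul θ'
  have h2 := card_cliffOrbit_mul θ
  rw [hst] at h1
  rw [hcl, ← h2, ← h1]
  push_cast
  ring

/-- The multiplicity of `θ` collects those of the constituents in `T`. -/
theorem inner_res_decomposition (χ : IrrCharacter G) {m : IrrCharacter T → ℕ}
    (hm : (χ : G → ℂ) ∘ T.subtype = ∑ ψ : IrrCharacter T, m ψ • (ψ : T → ℂ)) (θ : IrrCharacter N) :
    classInner (fun n : N => (χ : G → ℂ) n) (θ : N → ℂ) =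
      ∑ ψ : IrrCharacter T, (m ψ : ℂ) * classInner (resN T hNT (ψ : T → ℂ)) (θ : N → ℂ) := by
  have hval : (fun n : N => (χ : G → ℂ) n) =
      ∑ ψ : IrrCharacter T, (m ψ : ℂ) • resN T hNT (ψ : T → ℂ) := by
    funext n
    have := congrFun hm ⟨(n : G), hNT n.2⟩
    simpa [resN] using this
  rw [hval, classInner_sum_left]
  simp only [classInner_smul_left]

theorem inner_res_natCast (ψ : IrrCharacter T) (θ : IrrCharacter N) :
    ∃ k : ℕ, classInner (resN T hNT (ψ : T → ℂ)) (θ : N → ℂ) = k :=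
  classInner_natCast (isCharacter_comp (Subgroup.inclusion hNT) (irr_isCharacter ψ.2))
    (irr_isCharacter θ.2)

/-- Induction from a subgroup containing the inertia group. -/
theorem clifford_ind {θ : IrrCharacter N} (hI : ∀ g : G, irrComp (MulAut.conjNormal g) θ = θ → g ∈ T)
    {ψ : IrrCharacter T} (h : classInner (resN T hNT (ψ : T → ℂ)) (θ : N → ℂ) ≠ 0)
    {χ : IrrCharacter G} (hm : classInner (fun t : T => (χ : G → ℂ) t) (ψ : T → ℂ) ≠ 0) :
    (χ : G → ℂ) = indFun T (ψ : T → ℂ) ∧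
      classInner (fun n : N => (χ : G → ℂ) n) (θ : N → ℂ) ≠ 0 ∧
      ∀ ψ' : IrrCharacter T, classInner (resN T hNT (ψ' : T → ℂ)) (θ : N → ℂ) ≠ 0 →
        classInner (fun t : T => (χ : G → ℂ) t) (ψ' : T → ℂ) ≠ 0 → ψ' = ψ := by
  obtain ⟨m, hmd⟩ := exists_decomposition (isCharacter_comp T.subtype (irr_isCharacter χ.2))
  have hmc : ∀ φ : IrrCharacter T, classInner (fun t : T => (χ : G → ℂ) t) (φ : T → ℂ) = m φ :=
    fun φ => decomposition_coeff m hmd φ
  choose k hk using fun φ : IrrCharacter T => inner_res_natCast (hNT := hNT) φ θ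
  obtain ⟨a, ha⟩ := classInner_natCast (isCharacter_comp N.subtype (irr_isCharacter χ.2))
    (irr_isCharacter θ.2)
  have hsum : a = ∑ φ, m φ * k φ := by
    have h1 := inner_res_decomposition (hNT := hNT) χ hmd θ
    simp only [hk] at h1
    rw [show (fun n : N => (χ : G → ℂ) n) = (χ : G → ℂ) ∘ N.subtype from rfl, ha] at h1
    exact_mod_cast h1
  have hm0 : m ψ ≠ 0 := fun h0 => hm (by rw [hmc, h0, Nat.cast_zero])
  have hk0 : k ψ ≠ 0 := fun h0 => h (by rw [hk, h0, Nat.cast_zero])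
  have hle : k ψ ≤ a := by
    rw [hsum]
    exact le_trans (Nat.le_mul_of_pos_left _ (Nat.pos_of_ne_zero hm0))
      (Finset.single_le_sum (f := fun φ => m φ * k φ) (fun φ _ => Nat.zero_le _) (Finset.mem_univ ψ))
  have hθχ : classInner (fun n : N => (χ : G → ℂ) n) (θ : N → ℂ) ≠ 0 := by
    rw [show (fun n : N => (χ : G → ℂ) n) = (χ : G → ℂ) ∘ N.subtype from rfl, ha, Nat.cast_ne_zero]
    omega
  obtain ⟨dθ, hdθ⟩ := charOne_eq_natCast (irr_isCharacter θ.2)
  obtain ⟨dψ, hdψ⟩ := charOne_eq_natCast (irr_isCharacter ψ.2)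
  obtain ⟨dχ, hdχ⟩ := charOne_eq_natCast (irr_isCharacter χ.2)
  set O := (cliffOrbit N θ).card with hO
  have hχ1 : dχ = a * (O * dθ) := by
    have hcl := congrFun (clifford_restrict χ θ hθχ) 1
    simp only [Pi.smul_apply, smul_eq_mul, Finset.sum_apply, OneMemClass.coe_one] at hcl
    rw [Finset.sum_congr (s₁ := cliffOrbit N θ) (f := fun φ : IrrCharacter N => (φ : N → ℂ) 1)
        (g := fun _ => (dθ : ℂ)) rfl fun φ hφ => by
        obtain ⟨g, rfl⟩ := mem_cliffOrbit.mp hφ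
        rw [irrComp_apply, map_one, hdθ],
      Finset.sum_const, nsmul_eq_mul, hdχ,
      show (fun n : N => (χ : G → ℂ) n) = (χ : G → ℂ) ∘ N.subtype from rfl, ha] at hcl
    exact_mod_cast hcl
  have hψ1 : Nat.card G * dψ = k ψ * dθ * (O * Nat.card T) := by
    have h1 := res_one h hI
    rw [hdψ, hdθ, hk] at h1
    exact_mod_cast h1
  have hind : T.index * dψ = k ψ * (O * dθ) := by
    refine Nat.eq_of_mul_eq_mul_left (Nat.card_pos (α := T)) ?_
    rw [← mul_assoc, Subgroup.card_mul_index, hψ1]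
    ring
  have hne : classInner (indFun T (ψ : T → ℂ)) (χ : G → ℂ) ≠ 0 := by
    rw [frobenius T _ (isClassFunction_character (irr_isCharacter χ.2)), ← classInner_symm, hmc]
    simp [hm0]
  have hdle : dχ ≤ T.index * dψ := by
    have h2 := degree_le_of_classInner_ne_zero (isCharacter_indFun T (irr_isCharacter ψ.2)) χ hne
    simp only [indFun_one, hdψ, hdχ, ← Nat.cast_mul, Complex.natCast_re] at h2
    exact_mod_cast h2
  have hOd : 0 < O * dθ := Nat.pos_of_ne_zero fun h0 => irr_one_ne_zero χ.2 (by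
    rw [hdχ, hχ1, h0, mul_zero, Nat.cast_zero])
  have hak : a = k ψ := le_antisymm
    (Nat.le_of_mul_le_mul_right (by rw [← hχ1, ← hind]; exact hdle) hOd) hle
  refine ⟨(eq_of_inner_ne_zero_of_deg (isCharacter_indFun T (irr_isCharacter ψ.2)) χ hne
    (by rw [indFun_one, hdψ, hdχ, hχ1, hak, ← hind, Nat.cast_mul])).symm, hθχ,
    fun ψ' hψ' hmψ' => ?_⟩
  by_contra hne'
  have hm0' : m ψ' ≠ 0 := fun h0 => hmψ' (by rw [hmc, h0, Nat.cast_zero])
  have hk0' : k ψ' ≠ 0 := fun h0 => hψ' (by rw [hk, h0, Nat.cast_zero])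
  have h3 : m ψ * k ψ + m ψ' * k ψ' ≤ a := by
    rw [hsum, ← Finset.sum_pair (f := fun φ => m φ * k φ) (Ne.symm hne')]
    exact Finset.sum_le_sum_of_subset (Finset.subset_univ _)
  have h4 : 0 < m ψ' * k ψ' := Nat.pos_of_ne_zero (mul_ne_zero hm0' hk0')
  have h5 : k ψ ≤ m ψ * k ψ := Nat.le_mul_of_pos_left _ (Nat.pos_of_ne_zero hm0)
  omega

theorem exists_ind_eq {θ : IrrCharacter N} (hI : ∀ g : G, irrComp (MulAut.conjNormal g) θ = θ → g ∈ T)
    {ψ : IrrCharacter T} (h : classInner (resN T hNT (ψ : T → ℂ)) (θ : N → ℂ) ≠ 0) :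
    ∃ χ : IrrCharacter G, (χ : G → ℂ) = indFun T (ψ : T → ℂ) := by
  obtain ⟨χ, hχ⟩ := exists_constituent_over T ψ
  exact ⟨χ, (clifford_ind hI h hχ).1⟩

theorem exists_correspondent_in (χ : IrrCharacter G) {θ : IrrCharacter N}
    (h : classInner (fun n : N => (χ : G → ℂ) n) (θ : N → ℂ) ≠ 0) :
    ∃ ψ : IrrCharacter T, classInner (fun t : T => (χ : G → ℂ) t) (ψ : T → ℂ) ≠ 0 ∧
      classInner (resN T hNT (ψ : T → ℂ)) (θ : N → ℂ) ≠ 0 := by
  obtain ⟨m, hmd⟩ := exists_decomposition (isCharacter_comp T.subtype (irr_isCharacter χ.2))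
  rw [inner_res_decomposition (hNT := hNT) χ hmd θ] at h
  obtain ⟨ψ, -, hψ⟩ := Finset.exists_ne_zero_of_sum_ne_zero h
  refine ⟨ψ, ?_, (mul_ne_zero_iff.mp hψ).2⟩
  rw [show (fun t : T => (χ : G → ℂ) t) = (χ : G → ℂ) ∘ T.subtype from rfl,
    decomposition_coeff m hmd ψ]
  exact (mul_ne_zero_iff.mp hψ).1

end Over

section Blocks

/-- `T` is the stabilizer of the block `b`. -/
def IsStabilizer (N : Subgroup G) [N.Normal] [Fintype N] (b : Set (IrrCharacter N)) (T : Subgroup G) :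
    Prop :=
  ∀ g : G, g ∈ T ↔ ∀ θ ∈ b, irrComp (MulAut.conjNormal g) θ ∈ b

variable {b : Set (IrrCharacter N)} {T : Subgroup G} [Fintype T] {hNT : N ≤ T}

theorem conj_block_eq (hM : M.IsPrime) (hb : IsPBlock M b) {g : G} {θ : IrrCharacter N}
    (hθ : θ ∈ b) (h : irrComp (MulAut.conjNormal g) θ ∈ b) :
    irrTransport (MulAut.conjNormal g : N ≃* N) '' b = b :=
  block_disjoint hM (isPBlock_transport _ hb) hb ⟨θ, hθ, rfl⟩ h

theorem IsStabilizer.mem (hst : IsStabilizer N b T) (hM : M.IsPrime) (hb : IsPBlock M b) {g : G}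
    {θ : IrrCharacter N} (hθ : θ ∈ b) (h : irrComp (MulAut.conjNormal g) θ ∈ b) : g ∈ T :=
  (hst g).mpr fun η hη => by
    rw [← conj_block_eq hM hb hθ h]
    exact ⟨η, hη, rfl⟩

theorem IsStabilizer.inertia (hst : IsStabilizer N b T) (hM : M.IsPrime) (hb : IsPBlock M b)
    {θ : IrrCharacter N} (hθ : θ ∈ b) (g : G) (hg : irrComp (MulAut.conjNormal g) θ = θ) : g ∈ T :=
  hst.mem hM hb hθ (by rw [hg]; exact hθ)

theorem IsStabilizer.coeff_inv (hst : IsStabilizer N b T) (hM : M.IsPrime) (hb : IsPBlock M b)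
    (t : G) (ht : t ∈ T) (n : N) : blockCoeff b (MulAut.conjNormal t n) = blockCoeff b n := by
  obtain ⟨θ, hθ⟩ := block_nonempty hM hb
  rw [← blockCoeff_transport, conj_block_eq hM hb hθ ((hst t).mp ht θ hθ)]

/-- Constituents in `b` of a block of `T` over `b`. -/
theorem IsStabilizer.mem_of_sameBlock (hst : IsStabilizer N b T) (hM : IsPModular p M)
    (hb : IsPBlock M b) {ψ ψ' : IrrCharacter T} (hs : SameBlock M (ψ : T → ℂ) (ψ' : T → ℂ))
    {θ η : IrrCharacter N} (hθb : θ ∈ b)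
    (hθ : classInner (resN T hNT (ψ : T → ℂ)) (θ : N → ℂ) ≠ 0)
    (hη : classInner (resN T hNT (ψ' : T → ℂ)) (η : N → ℂ) ≠ 0) : η ∈ b := by
  have hP := pmod_prime hM
  have hinv := hst.coeff_inv hP hb
  set E : T → ℂ := fun t => if ht : (t : G) ∈ N then blockCoeff b ⟨t, ht⟩ else 0 with hE
  have hEc : IsClassFunction T E := fun a k => by
    simp only [hE, Subgroup.coe_mul, InvMemClass.coe_inv]
    by_cases ha : (a : G) ∈ N
    · rw [dif_pos ha, dif_pos (hN.conj_mem _ ha _), ← hinv k k.2 ⟨a, ha⟩]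
      exact congrArg _ (Subtype.ext rfl)
    · rw [dif_neg ha, dif_neg fun h => ha (by simpa [mul_assoc] using hN.conj_mem _ h (k : G)⁻¹)]
  have hEr : ∀ t, MemLocalRing M (E t) := fun t => by
    simp only [hE]
    split_ifs
    exacts [memLR_blockCoeff hM hb _, memLR_zero hP]
  have h1 := lam_congr hP ψ.2 ψ'.2 hs hEc hEr
  rw [hE, lam_over hθ hinv, lam_over hη hinv, lam_blockCoeff, lam_blockCoeff, if_pos hθb] at h1
  by_contra hn
  rw [if_neg hn, sub_zero] at h1
  exact memLI_one_iff hP h1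

/-- A block of `T` over `b`. -/
def IsOverB (hNT : N ≤ T) (b : Set (IrrCharacter N)) (B' : Set (IrrCharacter T)) : Prop :=
  ∃ ψ ∈ B', ∃ θ ∈ b, classInner (resN T hNT (ψ : T → ℂ)) (θ : N → ℂ) ≠ 0

theorem IsStabilizer.all_over (hst : IsStabilizer N b T) (hM : IsPModular p M) (hb : IsPBlock M b)
    {B' : Set (IrrCharacter T)} (hB' : IsPBlock M B') (hcov : IsOverB hNT b B')
    {ψ : IrrCharacter T} (hψ : ψ ∈ B') :
    ∃ θ ∈ b, classInner (resN T hNT (ψ : T → ℂ)) (θ : N → ℂ) ≠ 0 := by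
  obtain ⟨ψ₀, hψ₀, θ₀, hθ₀, hne⟩ := hcov
  obtain ⟨η, hη⟩ := exists_constituent_res (hNT := hNT) ψ
  exact ⟨η, hst.mem_of_sameBlock hM hb (block_sameBlock (pmod_prime hM) hB' hψ₀ hψ) hθ₀ hne hη, hη⟩

/-- Constituents in `T` over `b` of an induced character. -/
theorem IsStabilizer.eq_of_over (hst : IsStabilizer N b T) (hM : M.IsPrime) (hb : IsPBlock M b)
    {χ : IrrCharacter G} {ψ φ : IrrCharacter T} {θ η : IrrCharacter N} (hθb : θ ∈ b) (hηb : η ∈ b)
    (hθ : classInner (resN T hNT (ψ : T → ℂ)) (θ : N → ℂ) ≠ 0)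
    (hη : classInner (resN T hNT (φ : T → ℂ)) (η : N → ℂ) ≠ 0)
    (hψ : classInner (fun t : T => (χ : G → ℂ) t) (ψ : T → ℂ) ≠ 0)
    (hφ : classInner (fun t : T => (χ : G → ℂ) t) (φ : T → ℂ) ≠ 0) : φ = ψ := by
  obtain ⟨-, hχθ, huniq⟩ := clifford_ind (hst.inertia hM hb hθb) hθ hψ
  have hχη := (clifford_ind (hst.inertia hM hb hηb) hη hφ).2.1
  obtain ⟨g, hg⟩ := mem_cliffOrbit.mp (mem_cliffOrbit_of_constituent hχθ hχη)
  have hgT : g ∈ T := hst.mem hM hb hθb (by rw [hg]; exact hηb)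
  refine huniq φ ?_ hφ
  have hθη : θ = irrComp (MulAut.conjNormal g⁻¹) η := by
    rw [← hg, irrComp_conj_mul, mul_inv_cancel, irrComp_conj_one]
  rw [hθη]
  have hval : ∀ n : N, resN T hNT (φ : T → ℂ) n =
      resN T hNT (φ : T → ℂ) (MulAut.conjNormal g⁻¹ n) := fun n => by
    have h2 := isClassFunction_character (irr_isCharacter φ.2)
      (⟨(n : G), hNT n.2⟩ : T) (⟨g⁻¹, T.inv_mem hgT⟩ : T)
    rw [resN, resN, ← h2]
    exact congrArg _ (Subtype.ext rfl)
  have e : classInner (resN T hNT (φ : T → ℂ))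
      (irrComp (MulAut.conjNormal g⁻¹) η : N → ℂ) =
        classInner (resN T hNT (φ : T → ℂ)) (η : N → ℂ) := by
    simp only [classInner]
    congr 1
    refine Fintype.sum_equiv (MulAut.conjNormal g⁻¹).toEquiv _ _ fun n => ?_
    show _ = resN T hNT (φ : T → ℂ) (MulAut.conjNormal g⁻¹ n) *
      conj ((η : N → ℂ) (MulAut.conjNormal g⁻¹ n))
    rw [← hval n, irrComp_apply]
  rw [e]
  exact hη

theorem intClassFun_indFun (hM : M.IsPrime) {f : T → ℂ} (hf : IsIntClassFun M f) :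
    IsIntClassFun M (indFun T f) := by
  refine ⟨isClassFunction_indFun T f, fun g => ?_⟩
  have := Fintype.ofFinite (G ⧸ T)
  have hinv : ∀ x : G, ∀ t ∈ T, extendByZero T f ((x * t)⁻¹ * g * (x * t)) =
      extendByZero T f (x⁻¹ * g * x) := by
    intro x t ht
    by_cases hx : x⁻¹ * g * x ∈ T
    · have h2 : (x * t)⁻¹ * g * (x * t) ∈ T := by
        rw [show (x * t)⁻¹ * g * (x * t) = t⁻¹ * (x⁻¹ * g * x) * t by group]
        exact T.mul_mem (T.mul_mem (T.inv_mem ht) hx) ht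
      rw [extendByZero_mem T f hx, extendByZero_mem T f h2, ← hf.1 ⟨_, hx⟩ (⟨t, ht⟩ : T)⁻¹]
      exact congrArg f (Subtype.ext (by simp; group))
    · rw [extendByZero_not_mem T f hx, extendByZero_not_mem]
      intro h
      refine hx ?_
      have := T.mul_mem (T.mul_mem ht h) (T.inv_mem ht)
      rwa [show t * ((x * t)⁻¹ * g * (x * t)) * t⁻¹ = x⁻¹ * g * x by group] at this
  show MemLocalRing M ((Nat.card T : ℂ)⁻¹ * ∑ x : G, extendByZero T f (x⁻¹ * g * x))
  rw [sum_eq_card_mul_cosets T hinv, ← mul_assoc,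
    inv_mul_cancel₀ (Nat.cast_ne_zero.mpr Nat.card_pos.ne'), one_mul]
  refine memLR_sum hM _ _ fun q _ => ?_
  by_cases hx : q.out⁻¹ * g * q.out ∈ T
  · rw [extendByZero_mem T f hx]; exact hf.2 _
  · rw [extendByZero_not_mem T f hx]; exact memLR_zero hM

theorem lam_indFun_blockCoeff (B' : Set (IrrCharacter T)) (χ : IrrCharacter G) :
    lam (χ : G → ℂ) (indFun T (blockCoeff B')) =
      (T.index : ℂ) * (∑ φ : IrrCharacter T, if φ ∈ B' then
        classInner (fun t : T => (χ : G → ℂ) t) (φ : T → ℂ) * (φ : T → ℂ) 1 else 0) /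
        (χ : G → ℂ) 1 := by
  obtain ⟨m, hm⟩ := exists_decomposition (isCharacter_comp T.subtype (irr_isCharacter χ.2))
  have hχc := isClassFunction_character (irr_isCharacter χ.2)
  have hT : (Nat.card T : ℂ) ≠ 0 := Nat.cast_ne_zero.mpr Nat.card_pos.ne'
  rw [lam]
  congr 1
  have h1 : ∀ x : G, ∑ g : G, extendByZero T (blockCoeff B') (x⁻¹ * g * x) * (χ : G → ℂ) g =
      ∑ t : T, blockCoeff B' t * (χ : G → ℂ) t := by
    intro x
    rw [← sum_extendByZero_mul T (blockCoeff B') (χ : G → ℂ)]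
    refine Fintype.sum_equiv (MulAut.conj x⁻¹).toEquiv _ _ fun g => ?_
    show _ = extendByZero T (blockCoeff B') (x⁻¹ * g * x⁻¹⁻¹) * (χ : G → ℂ) (x⁻¹ * g * x⁻¹⁻¹)
    rw [hχc g x⁻¹, inv_inv]
  have h2 : ∑ g : G, indFun T (blockCoeff B') g * (χ : G → ℂ) g =
      (T.index : ℂ) * ∑ t : T, blockCoeff B' t * (χ : G → ℂ) t := by
    have hA : ∀ g : G, indFun T (blockCoeff B') g * (χ : G → ℂ) g = (Nat.card T : ℂ)⁻¹ *
        ∑ x : G, extendByZero T (blockCoeff B') (x⁻¹ * g * x) * (χ : G → ℂ) g := fun g => by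
      rw [indFun, mul_assoc, Finset.sum_mul]
    rw [Finset.sum_congr rfl fun g _ => hA g, ← Finset.mul_sum, Finset.sum_comm, Finset.sum_congr rfl fun x _ => h1 x, Finset.sum_const, nsmul_eq_mul,
      Finset.card_univ, ← Nat.card_eq_fintype_card, ← T.card_mul_index, Nat.cast_mul, ← mul_assoc,
      ← mul_assoc, inv_mul_cancel₀ hT, one_mul]
  rw [h2]
  congr 1
  rw [Finset.sum_congr rfl fun t _ => show blockCoeff B' t * (χ : G → ℂ) t =
      ∑ φ : IrrCharacter T, (m φ : ℂ) * (blockCoeff B' t * (φ : T → ℂ) t) by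
    rw [show (χ : G → ℂ) t = ((χ : G → ℂ) ∘ T.subtype) t from rfl, hm, Finset.sum_apply,
      Finset.mul_sum]
    refine Finset.sum_congr rfl fun φ _ => ?_
    rw [Pi.smul_apply, nsmul_eq_mul]
    ring, Finset.sum_comm]
  refine Finset.sum_congr rfl fun φ _ => ?_
  rw [← Finset.mul_sum]
  have h3 := lam_blockCoeff B' φ
  rw [lam, div_eq_iff (irr_one_ne_zero φ.2)] at h3
  rw [h3, show (fun t : T => (χ : G → ℂ) t) = (χ : G → ℂ) ∘ T.subtype from rfl,
    decomposition_coeff m hm φ]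
  by_cases hφ : φ ∈ B' <;> simp [hφ]

/-- The correspondence of Fong and Reynolds. -/
theorem fong_reynolds (hM : IsPModular p M) (hst : IsStabilizer N b T) (hb : IsPBlock M b)
    {B' : Set (IrrCharacter T)} (hB' : IsPBlock M B') (hcov : IsOverB hNT b B') :
    ∃ B : Set (IrrCharacter G), IsInducedBlock M T B' B ∧
      (∀ ψ ∈ B', ∃ χ ∈ B, (χ : G → ℂ) = indFun T (ψ : T → ℂ)) ∧
      (∀ χ ∈ B, ∃ ψ ∈ B', (χ : G → ℂ) = indFun T (ψ : T → ℂ)) ∧
      (∃ χ ∈ B, ∃ θ ∈ b, classInner (fun n : N => (χ : G → ℂ) n) (θ : N → ℂ) ≠ 0) := by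
  have hP := pmod_prime hM
  set S : Set (IrrCharacter G) :=
    {χ | ∃ ψ ∈ B', (χ : G → ℂ) = indFun T (ψ : T → ℂ)} with hS
  have hind : ∀ ψ ∈ B', ∃ χ : IrrCharacter G, (χ : G → ℂ) = indFun T (ψ : T → ℂ) := fun ψ hψ => by
    obtain ⟨θ, hθb, hθ⟩ := hst.all_over hM hb hB' hcov hψ
    exact exists_ind_eq (hst.inertia hP hb hθb) hθ
  have hmul : ∀ {χ : IrrCharacter G} {ψ : IrrCharacter T}, (χ : G → ℂ) = indFun T (ψ : T → ℂ) →
      classInner (fun t : T => (χ : G → ℂ) t) (ψ : T → ℂ) = 1 := by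
    intro χ ψ he
    have h1 := frobenius T (ψ : T → ℂ) (isClassFunction_character (irr_isCharacter χ.2))
    rw [← he, irr_self χ.2] at h1
    rw [← classInner_symm, ← h1, map_one]
  have hlam : ∀ χ : IrrCharacter G, lam (χ : G → ℂ) (indFun T (blockCoeff B')) =
      if χ ∈ S then 1 else 0 := by
    intro χ
    rw [lam_indFun_blockCoeff]
    split_ifs with h
    · obtain ⟨ψ, hψ, he⟩ := h
      rw [Finset.sum_eq_single ψ (fun φ _ hne => ?_) (fun h => absurd (Finset.mem_univ _) h),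
        if_pos hψ, hmul he, one_mul, he, indFun_one, div_self]
      · rw [← indFun_one, ← he]; exact irr_one_ne_zero χ.2
      · split_ifs with hφ
        · by_contra h0
          obtain ⟨θ, hθb, hθ⟩ := hst.all_over hM hb hB' hcov hψ
          obtain ⟨η, hηb, hη⟩ := hst.all_over hM hb hB' hcov hφ
          exact hne (hst.eq_of_over hP hb hθb hηb hθ hη (by rw [hmul he]; exact one_ne_zero)
            (mul_ne_zero_iff.mp h0).1)
        · rfl
    · rw [Finset.sum_eq_zero fun φ _ => ?_, mul_zero, zero_div]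
      split_ifs with hφ
      · by_contra h0
        obtain ⟨η, hηb, hη⟩ := hst.all_over hM hb hB' hcov hφ
        exact h ⟨φ, hφ, (clifford_ind (hst.inertia hP hb hηb) hη (mul_ne_zero_iff.mp h0).1).1⟩
      · rfl
  have hF := intClassFun_indFun hP (isIntClassFun_blockCoeff hM hB')
  obtain ⟨ψ₀, hψ₀⟩ := block_nonempty hP hB'
  obtain ⟨χ₀, hχ₀⟩ := hind ψ₀ hψ₀
  have hsame : ∀ {χ χ' : IrrCharacter G}, χ ∈ S → χ' ∈ S → SameBlock M (χ : G → ℂ) (χ' : G → ℂ) := by
    rintro χ χ' ⟨ψ, hψ, he⟩ ⟨ψ', hψ', he'⟩ g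
    rw [he, he', centralChar_indFun, centralChar_indFun]
    exact inducedCentralChar_congr hP (block_sameBlock hP hB' hψ hψ') g
  have hSblock : IsPBlock M S := by
    refine ⟨χ₀, Set.ext fun χ => ⟨fun h => hsame ⟨ψ₀, hψ₀, hχ₀⟩ h, fun h => ?_⟩⟩
    by_contra hn
    have h1 := lam_congr hP χ₀.2 χ.2 h hF.1 hF.2
    rw [hlam, hlam, if_pos ⟨ψ₀, hψ₀, hχ₀⟩, if_neg hn, sub_zero] at h1
    exact memLI_one_iff hP h1
  refine ⟨S, ⟨hB', hSblock, ?_⟩, fun ψ hψ => ?_, fun χ h => h, ?_⟩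
  · rintro ψ hψ χ ⟨ψ', hψ', he⟩ g
    rw [he, centralChar_indFun]
    exact inducedCentralChar_congr hP (block_sameBlock hP hB' hψ hψ') g
  · obtain ⟨χ, hχ⟩ := hind ψ hψ
    exact ⟨χ, ⟨ψ, hψ, hχ⟩, hχ⟩
  · obtain ⟨θ, hθb, hθ⟩ := hst.all_over hM hb hB' hcov hψ₀
    exact ⟨χ₀, ⟨ψ₀, hψ₀, hχ₀⟩, θ, hθb,
      (clifford_ind (hst.inertia hP hb hθb) hθ (by rw [hmul hχ₀]; exact one_ne_zero)).2.1⟩

theorem induced_unique (hM : M.IsPrime) {B' : Set (IrrCharacter T)} {B₁ B₂ : Set (IrrCharacter G)}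
    (h₁ : IsInducedBlock M T B' B₁) (h₂ : IsInducedBlock M T B' B₂) : B₁ = B₂ := by
  obtain ⟨ψ, hψ⟩ := block_nonempty hM h₁.1
  obtain ⟨χ, hχ⟩ := block_nonempty hM h₁.2.1
  obtain ⟨χ', hχ'⟩ := block_nonempty hM h₂.2.1
  refine block_disjoint hM h₁.2.1 h₂.2.1 hχ ((mem_block_iff hM h₂.2.1 hχ' χ).mpr fun g => ?_)
  exact memLI_trans hM (memLI_symm hM (h₂.2.2 ψ hψ χ' hχ' g)) (h₁.2.2 ψ hψ χ hχ g)

/-- Injectivity of the correspondence. -/
theorem fong_reynolds_injective (hM : IsPModular p M) (hst : IsStabilizer N b T) (hb : IsPBlock M b)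
    {B₁ B₂ : Set (IrrCharacter T)} (h₁ : IsPBlock M B₁) (h₂ : IsPBlock M B₂)
    (hc₁ : IsOverB hNT b B₁) (hc₂ : IsOverB hNT b B₂) {B : Set (IrrCharacter G)}
    (hi₁ : IsInducedBlock M T B₁ B) (hi₂ : IsInducedBlock M T B₂ B) : B₁ = B₂ := by
  have hP := pmod_prime hM
  obtain ⟨C₁, hC₁, hto₁, hfrom₁, -⟩ := fong_reynolds hM hst hb h₁ hc₁
  obtain ⟨C₂, hC₂, -, hfrom₂, -⟩ := fong_reynolds hM hst hb h₂ hc₂
  obtain rfl := induced_unique hP hC₁ hi₁
  obtain rfl := induced_unique hP hC₂ hi₂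
  obtain ⟨χ, hχ⟩ := block_nonempty hP hC₁.2.1
  obtain ⟨ψ₁, hψ₁, he₁⟩ := hfrom₁ χ hχ
  obtain ⟨ψ₂, hψ₂, he₂⟩ := hfrom₂ χ hχ
  obtain ⟨θ₁, hθ₁b, hθ₁⟩ := hst.all_over hM hb h₁ hc₁ hψ₁
  obtain ⟨θ₂, hθ₂b, hθ₂⟩ := hst.all_over hM hb h₂ hc₂ hψ₂
  have hne : ∀ {ψ : IrrCharacter T}, (χ : G → ℂ) = indFun T (ψ : T → ℂ) →
      classInner (fun t : T => (χ : G → ℂ) t) (ψ : T → ℂ) ≠ 0 := by
    intro ψ he h0
    have h1 := frobenius T (ψ : T → ℂ) (isClassFunction_character (irr_isCharacter χ.2))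
    rw [← he, irr_self χ.2, ← classInner_symm, h0, map_zero] at h1
    exact one_ne_zero h1
  have heq := hst.eq_of_over hP hb hθ₁b hθ₂b hθ₁ hθ₂ (hne he₁) (hne he₂)
  exact block_disjoint hP h₁ h₂ hψ₁ (heq ▸ hψ₂)

/-- Surjectivity of the correspondence. -/
theorem fong_reynolds_surjective (hM : IsPModular p M) (hst : IsStabilizer N b T) (hb : IsPBlock M b)
    (hNT : N ≤ T) {B : Set (IrrCharacter G)} (hB : IsPBlock M B)
    (hcov : ∃ χ ∈ B, ∃ θ ∈ b, classInner (fun n : N => (χ : G → ℂ) n) (θ : N → ℂ) ≠ 0) :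
    ∃ B' : Set (IrrCharacter T), IsPBlock M B' ∧ IsOverB hNT b B' ∧ IsInducedBlock M T B' B := by
  have hP := pmod_prime hM
  obtain ⟨χ, hχ, θ, hθb, hθ⟩ := hcov
  obtain ⟨ψ, hψ, hψθ⟩ := exists_correspondent_in (hNT := hNT) χ hθ
  have he := (clifford_ind (hst.inertia hP hb hθb) hψθ hψ).1
  have hB' := isPBlock_blockOf M ψ
  have hc : IsOverB hNT b (blockOf M (ψ : T → ℂ)) := ⟨ψ, self_mem_blockOf hP ψ, θ, hθb, hψθ⟩
  obtain ⟨C, hC, hto, -, -⟩ := fong_reynolds hM hst hb hB' hc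
  obtain ⟨χ', hχ', he'⟩ := hto ψ (self_mem_blockOf hP ψ)
  obtain rfl : χ = χ' := Subtype.ext (he.trans he'.symm)
  exact ⟨_, hB', hc, block_disjoint hP hC.2.1 hB hχ' hχ ▸ hC⟩

/-- Defect groups and heights under the correspondence. -/
theorem fong_reynolds_defect (hM : IsPModular p M) (hst : IsStabilizer N b T) (hb : IsPBlock M b)
    {B' : Set (IrrCharacter T)} (hB' : IsPBlock M B') (hcov : IsOverB hNT b B')
    {B : Set (IrrCharacter G)} (hind : IsInducedBlock M T B' B) :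
    (∀ D : Subgroup T, IsDefectGroup p M B' D → IsDefectGroup p M B (D.map T.subtype)) ∧
      ∀ ψ ∈ B', ∃ χ ∈ B, (χ : G → ℂ) = indFun T (ψ : T → ℂ) ∧
        blockHeight p B (χ : G → ℂ) = blockHeight p B' (ψ : T → ℂ) := by
  have hP := pmod_prime hM
  obtain ⟨C, hC, hto, hfrom, -⟩ := fong_reynolds hM hst hb hB' hcov
  obtain rfl := induced_unique hP hC hind
  set v := T.index.factorization p
  have hdeg : ∀ {χ : IrrCharacter G} {ψ : IrrCharacter T}, (χ : G → ℂ) = indFun T (ψ : T → ℂ) →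
      dexp p (χ : G → ℂ) = v + dexp p (ψ : T → ℂ) := by
    intro χ ψ he
    obtain ⟨d, hd⟩ := charOne_eq_natCast (irr_isCharacter ψ.2)
    have h1 : charDegree (χ : G → ℂ) = T.index * d := by
      rw [charDegree, he, indFun_one, hd, ← Nat.cast_mul, Complex.natCast_re, Nat.floor_natCast]
    have h2 : charDegree (ψ : T → ℂ) = d := by
      rw [charDegree, hd, Complex.natCast_re, Nat.floor_natCast]
    have hd0 : d ≠ 0 := fun h0 => irr_one_ne_zero ψ.2 (by rw [hd, h0, Nat.cast_zero])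
    show (charDegree (χ : G → ℂ)).factorization p = v + (charDegree (ψ : T → ℂ)).factorization p
    rw [h1, h2, Nat.factorization_mul Subgroup.index_ne_zero_of_finite hd0, Finsupp.add_apply]
  have hmin : dmin p C = v + dmin p B' := by
    obtain ⟨ψ, hψ, hψm⟩ := exists_dexp_eq_dmin (p := p) (block_nonempty hP hB')
    obtain ⟨χ, hχ, he⟩ := hto ψ hψ
    refine le_antisymm ?_ ?_
    · rw [← hψm, ← hdeg he]; exact dmin_le hχ
    · obtain ⟨χ', hχ', hm'⟩ := exists_dexp_eq_dmin (p := p) (block_nonempty hP hC.2.1)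
      obtain ⟨ψ', hψ', he'⟩ := hfrom χ' hχ'
      rw [← hm', hdeg he']
      exact Nat.add_le_add_left (dmin_le hψ') v
  refine ⟨fun D hD => ?_, fun ψ hψ => ?_⟩
  · obtain ⟨E, hE, hle⟩ := induced_defect_le hM hC hD
    rw [Subgroup.eq_of_le_of_card_ge hle]
    · exact hE
    rw [Subgroup.card_map_of_injective T.subtype_injective, card_defectGroup hM hC.2.1 hE,
      card_defectGroup hM hB' hD]
    refine Nat.pow_le_pow_right hM.1.pos ?_
    have h1 := dmin_add_defect (p := p) (block_nonempty hP hC.2.1)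
    have h2 := dmin_add_defect (p := p) (block_nonempty hP hB')
    have h3 : (Nat.card G).factorization p = v + (Nat.card T).factorization p := by
      rw [← T.index_mul_card, Nat.factorization_mul Subgroup.index_ne_zero_of_finite
        Nat.card_pos.ne', Finsupp.add_apply]
    omega
  · obtain ⟨χ, hχ, he⟩ := hto ψ hψ
    refine ⟨χ, hχ, he, ?_⟩
    have h1 := dexp_eq_height_add (p := p) hχ
    have h2 := dexp_eq_height_add (p := p) hψ
    have h3 := hdeg he
    omega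

end Blocks

end Cfsg.Agent.Char
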