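import Cfsg.Agent.S4492
import Cfsg.Agent.Lib.Char.FongReynolds
import Cfsg.Agent.Lib.Char.CliffordGen
import Cfsg.Agent.Lib.Char.Gallagher
import Cfsg.Agent.Lib.Char.Coprime
import Cfsg.Agent.Lib.Char.ProjRep
import Cfsg.Agent.Lib.Char.Height

/-!
Heights in blocks of `p`-solvable groups.
-/

set_option autoImplicit false
set_option linter.style.haveILetI false
open scoped ComplexConjugate
open Cfsg

namespace Cfsg.Agent.Char

universe u
variable {G : Type u} [Group G] {p : ℕ}

theorem isPSolvable_subgroup [Finite G] (hp : p.Prime) (h : IsPSolvable p G) (T : Subgroup G) :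
    IsPSolvable p T := by
  obtain ⟨n, H, h0, hl, hm, hn, hstep⟩ := h
  refine ⟨n, fun i => (H i).subgroupOf T, by simp [h0],
    by show (H (Fin.last n)).subgroupOf T = ⊤; rw [hl]; exact Subgroup.subgroupOf_eq_top.mpr le_top,
    fun i j hij => Subgroup.comap_mono (hm hij), fun i => (hn i).comap T.subtype, fun i => ?_⟩
  have hnorm := hn i.castSucc
  have hd : ((H i.castSucc).subgroupOf T).relIndex ((H i.succ).subgroupOf T) ∣
      (H i.castSucc).relIndex (H i.succ) := by
    rw [Subgroup.subgroupOf, Subgroup.subgroupOf, Subgroup.relIndex_comap, Subgroup.map_comap_eq,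
      Subgroup.range_subtype]
    have hle : H i.castSucc ≤ H i.succ := hm (Fin.castSucc_lt_succ (i := i)).le
    calc (H i.castSucc).relIndex (T ⊓ H i.succ)
        = (H i.castSucc ⊓ (T ⊓ H i.succ)).relIndex (T ⊓ H i.succ) :=
          (Subgroup.inf_relIndex_right _ _).symm
      _ ∣ (H i.castSucc).relIndex (H i.succ) := by
          rw [Subgroup.inf_relIndex_right, ← Subgroup.relIndex_sup_right]
          exact ⟨_, (Subgroup.relIndex_mul_relIndex _ _ _ le_sup_right
            (sup_le inf_le_right hle)).symm⟩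
  rcases hstep i with ⟨m, hm'⟩ | hco
  · obtain ⟨k, -, hk⟩ := (Nat.dvd_prime_pow hp).1 (hm' ▸ hd)
    exact Or.inl ⟨k, hk⟩
  · exact Or.inr (hco.coprime_dvd_left hd)

theorem center_index_congr {A B : Type u} [Group A] [Group B] (e : A ≃* B) :
    (Subgroup.center A).index = (Subgroup.center B).index := by
  have h : Subgroup.center A = (Subgroup.center B).comap e.toMonoidHom := by
    ext a
    simp only [Subgroup.mem_comap, Subgroup.mem_center_iff, MulEquiv.coe_toMonoidHom]
    constructor
    · intro ha b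
      obtain ⟨c, rfl⟩ := e.surjective b
      rw [← map_mul, ← map_mul, ha c]
    · intro ha c
      exact e.injective (by rw [map_mul, map_mul, ha (e c)])
  rw [h, Subgroup.index_comap_of_surjective _ e.surjective]

variable [Fintype G] [Fact p.Prime] {M : Ideal AlgInt}

/-- Characters over an invariant character of the `p'`-core. -/
theorem dexp_le_center_index [Fintype (pPrimeCore p G)] (hsolv : IsPSolvable p G) {θ : IrrCharacter (pPrimeCore p G)}
    (hinv : ∀ g : G, irrComp (MulAut.conjNormal g) θ = θ) (χ : IrrCharacter G)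
    (hθ : classInner (fun n : pPrimeCore p G => (χ : G → ℂ) n) (θ : pPrimeCore p G → ℂ) ≠ 0)
    (P : Sylow p G) :
    dexp p (χ : G → ℂ) ≤ ((Subgroup.center (P : Subgroup G)).index).factorization p := by
  classical
  have hp : p.Prime := Fact.out
  set π := QuotientGroup.mk' (pPrimeCore p G) with hπ
  have hπs : Function.Surjective π := QuotientGroup.mk'_surjective _
  have hNp : ¬ p ∣ Nat.card (pPrimeCore p G) :=
    hp.coprime_iff_not_dvd.mp (Fusion.card_pPrimeCore_coprime p G).symm
  have hC := centralizer_pCore_le_of_pSolvable (Solv.isPSolvable_map hp hsolv π hπs)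
    Fusion.pPrimeCore_quotient_eq_bot
  have hQp := Fusion.isPGroup_pCore p (G ⧸ pPrimeCore p G)
  haveI : (pCore p (G ⧸ pPrimeCore p G)).Normal := Solv.pCore_normal p
  set Q := pCore p (G ⧸ pPrimeCore p G) with hQ
  set Pb := P.mapSurjective hπs with hPb
  have hQP : Q ≤ (Pb : Subgroup (G ⧸ pPrimeCore p G)) := by
    have h := hQp.to_sup_of_normal_left Pb.isPGroup'
    exact le_sup_left.trans (Pb.is_maximal' h le_sup_right).le
  set Ab := Q ⊓ Subgroup.centralizer (Q : Set (G ⧸ pPrimeCore p G)) with hAb
  haveI : (Subgroup.centralizer (Q : Set (G ⧸ pPrimeCore p G))).Normal := Subgroup.normal_centralizer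
  haveI : Ab.Normal := inferInstanceAs ((Q ⊓ Subgroup.centralizer (Q : Set (G ⧸ pPrimeCore p G))).Normal)
  -- the center of `P`
  have hinj : Function.Injective (π.comp (P : Subgroup G).subtype) := by
    rw [← MonoidHom.ker_eq_bot_iff, Subgroup.eq_bot_iff_forall]
    intro x hx
    have hx' : (x : G) ∈ pPrimeCore p G := (QuotientGroup.eq_one_iff _).mp hx
    obtain ⟨k, hk⟩ := P.isPGroup' x
    refine orderOf_eq_one_iff.mp (Nat.eq_one_of_dvd_coprimes
      ((Nat.Coprime.pow_left k (hp.coprime_iff_not_dvd.mpr hNp))) (orderOf_dvd_of_pow_eq_one hk) ?_)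
    rw [← Subgroup.orderOf_coe, ← Subgroup.orderOf_mk _ hx']
    exact orderOf_dvd_natCard _
  have hZle : (Subgroup.center (P : Subgroup G)).map (π.comp (P : Subgroup G).subtype) ≤ Ab := by
    rintro _ ⟨z, hz, rfl⟩
    have hzC : π.comp (P : Subgroup G).subtype z ∈ Subgroup.centralizer (Q : Set (G ⧸ pPrimeCore p G)) := by
      refine Subgroup.mem_centralizer_iff.mpr fun q hq => ?_
      obtain ⟨x, hx, rfl⟩ := hQP hq
      show π x * π (z : G) = π (z : G) * π x
      rw [← map_mul, ← map_mul]
      exact congrArg π (congrArg Subtype.val (Subgroup.mem_center_iff.mp hz ⟨x, hx⟩))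
    exact ⟨hC hzC, hzC⟩
  have hZdvd : Nat.card (Subgroup.center (P : Subgroup G)) ∣ Nat.card Ab := by
    rw [← Subgroup.card_map_of_injective hinj]
    exact Subgroup.card_dvd_of_le hZle
  -- the abelian layer
  set A := Ab.comap π with hA
  haveI : A.Normal := inferInstanceAs ((Ab.comap π).Normal)
  haveI : Fintype A := Fintype.ofFinite _
  have hNA : pPrimeCore p G ≤ A := fun n hn => by
    show π n ∈ Ab
    rw [show π n = 1 from (QuotientGroup.eq_one_iff n).mpr hn]
    exact one_mem _
  obtain ⟨η, hηχ, hηθ⟩ := exists_correspondent_in (T := A) (hNT := hNA) χ hθ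
  -- every constituent on the layer has the degree of `θ`
  set N' := (pPrimeCore p G).subgroupOf A with hN'
  haveI : N'.Normal := inferInstanceAs (((pPrimeCore p G).subgroupOf A).Normal)
  haveI : Fintype N' := Fintype.ofFinite _
  set e := Subgroup.subgroupOfEquivOfLe hNA
  set θ' : IrrCharacter N' := ⟨fun x => (θ : pPrimeCore p G → ℂ) (e x), isIrrCharacter_comp_equiv e θ.2⟩
    with hθ'
  have hinv' : ∀ (a : A) (n : N'), (θ' : N' → ℂ) (MulAut.conjNormal a n) = (θ' : N' → ℂ) n := by
    intro a n
    have h := congrFun (congrArg Subtype.val (hinv (a : G))) (e n)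
    rw [irrComp_apply] at h
    show (θ : pPrimeCore p G → ℂ) (e (MulAut.conjNormal a n)) = _
    rw [← h]
    exact congrArg _ (Subtype.ext rfl)
  obtain ⟨d, σ, hσ, hσθ⟩ := id θ'.2
  have hd1 : (θ' : N' → ℂ) 1 = d := char_one_eq_dim σ hσθ
  have hcard' : Nat.card N' = Nat.card (pPrimeCore p G) := Nat.card_congr e.toEquiv
  obtain ⟨jA, hjA⟩ : ∃ j, N'.index = p ^ j := by
    obtain ⟨j, hj⟩ := IsPGroup.iff_card.mp (hQp.to_le (inf_le_left : Ab ≤ Q))
    refine ⟨j, ?_⟩
    show (pPrimeCore p G).relIndex A = p ^ j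
    have h2 := Subgroup.relIndex_ker (f := π) (K := A)
    rw [hπ, QuotientGroup.ker_mk', hA, Subgroup.map_comap_eq_self_of_surjective hπs] at h2
    rw [hA, h2, hj]
  have hdp : ¬ p ∣ d := by
    intro h
    refine hNp (hcard' ▸ h.trans ?_)
    have h3 : deg (θ' : N' → ℂ) = d := by
      have h4 := char_one_eq_deg (irr_isCharacter θ'.2)
      rw [hd1] at h4
      exact_mod_cast h4.symm
    exact h3 ▸ deg_dvd_card θ'.2
  have hcop : N'.index.Coprime d := hjA ▸ (hp.coprime_iff_not_dvd.mpr hdp).pow_left jA
  have hμcop : N'.index.Coprime (orderOf (detHom σ)) := by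
    refine hjA ▸ Nat.Coprime.coprime_dvd_right ?_ ((hp.coprime_iff_not_dvd.mpr hNp).pow_left jA)
    rw [← hcard']
    exact orderOf_dvd_of_pow_eq_one (MonoidHom.ext fun n => by
      rw [MonoidHom.pow_apply, ← map_pow, pow_card_eq_one', map_one, MonoidHom.one_apply])
  have hdetinv : ∀ (a : A) (n : N'), detHom σ (MulAut.conjNormal a n) = detHom σ n := fun a n => by
    apply Units.ext
    have h := detChar_conj_inv N' (irr_isCharacter θ'.2) hinv' a n
    rwa [detChar_eq_hom σ hσθ] at h
  obtain ⟨μ, hμ, -⟩ := exists_linear_extension_coprime N' (detHom σ) hdetinv hμcop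
  obtain ⟨θe, hθe, hres⟩ := exists_extension_of_det_extension N' θ'.2 hinv' d hd1 hcop μ (fun n => by
    rw [hμ, detChar_eq_hom σ hσθ])
  have hηd : (η : A → ℂ) 1 = d := by
    have hone : (fun _ : N' => (1 : ℂ)) * (θ' : N' → ℂ) = (θ' : N' → ℂ) := by funext n; simp
    have hG := gallagher N' (fun _ => 1) (θ' : N' → ℂ) isIrrCharacter_one (fun _ _ => rfl) hinv'
      (by rw [hone]; exact θ'.2) (irr_isCharacter hθe) hres
    rw [hone] at hG
    have hmem : classInner (indFun N' (θ' : N' → ℂ)) (η : A → ℂ) ≠ 0 := by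
      rw [frobenius N' _ (isClassFunction_character (irr_isCharacter η.2)), ← classInner_symm,
        map_ne_zero]
      have h := classInner_subgroupOf hNA (resN A hNA (η : A → ℂ)) (θ : pPrimeCore p G → ℂ)
      rw [← h] at hηθ
      exact hηθ
    obtain ⟨β, ⟨hβ, hβ1⟩, hβη⟩ := hG.surjOn ⟨η.2, hmem⟩
    obtain ⟨β', hβ'⟩ := exists_deflate N' hβ (fun k hk =>
      (constituent_indFun_one_iff N' hβ).mp hβ1 ⟨k, hk⟩)
    have hcomm : ∀ a b : A ⧸ N', a * b = b * a := by
      intro a b
      induction a using QuotientGroup.induction_on with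
      | _ a =>
        induction b using QuotientGroup.induction_on with
        | _ b =>
          rw [← QuotientGroup.mk_mul, ← QuotientGroup.mk_mul, QuotientGroup.eq]
          show (((a * b)⁻¹ * (b * a) : A) : G) ∈ pPrimeCore p G
          have ha : π (a : G) ∈ Ab := a.2
          have hb : π (b : G) ∈ Ab := b.2
          have hc : π (a : G) * π (b : G) = π (b : G) * π (a : G) :=
            (Subgroup.mem_centralizer_iff.mp hb.2 _ ha.1)
          refine (QuotientGroup.eq_one_iff _).mp ?_
          show π (((a : G) * b)⁻¹ * ((b : G) * a)) = 1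
          rw [map_mul, map_inv, map_mul, map_mul, hc, inv_mul_cancel]
    have h1 : β 1 = 1 := by
      rw [← hβ', QuotientGroup.mk_one]
      exact forall_linear_iff_comm.mp hcomm β'
    rw [← hβη]
    show β 1 * θe 1 = d
    rw [h1, one_mul, ← hd1, ← hres 1, OneMemClass.coe_one]
  -- Clifford over the layer
  obtain ⟨T, ψ, ec, hAT, hψ, hind, he0, -, hψA, -⟩ :=
    exists_correspondent χ.2 A η hηχ
  haveI : Fintype T := Fintype.ofFinite _
  haveI : (A.subgroupOf T).Normal := Subgroup.Normal.comap inferInstance T.subtype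
  have hdvd : ec ∣ A.relIndex T :=
    invariant_mult_dvd_index (N := A.subgroupOf T) hψ
      (isIrrCharacter_comp_equiv (Subgroup.subgroupOfEquivOfLe hAT) η.2) (e := ec)
      (fun n => hψA ((Subgroup.subgroupOfEquivOfLe hAT) n))
  have hdeg : deg (χ : G → ℂ) = T.index * (ec * d) := by
    have h1 := congrFun hind 1
    rw [indFun_one, char_one_eq_deg (irr_isCharacter χ.2)] at h1
    have h2 := hψA 1
    rw [map_one, hηd] at h2
    rw [h2] at h1
    exact_mod_cast h1
  have hdiv : deg (χ : G → ℂ) ∣ A.index * d := by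
    rw [hdeg, ← Subgroup.relIndex_mul_index hAT, mul_comm (A.relIndex T) T.index, mul_assoc]
    exact Nat.mul_dvd_mul_left _ (Nat.mul_dvd_mul_right hdvd d)
  -- compare the exponents
  have hd0 : d ≠ 0 := fun h => hdp (h ▸ dvd_zero p)
  have hexp : dexp p (χ : G → ℂ) ≤ A.index.factorization p := by
    have h1 := (Nat.factorization_le_iff_dvd (deg_pos χ.2).ne'
      (mul_ne_zero Subgroup.index_ne_zero_of_finite hd0)).mpr hdiv p
    rwa [Nat.factorization_mul Subgroup.index_ne_zero_of_finite hd0, Finsupp.add_apply,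
      Nat.factorization_eq_zero_of_not_dvd hdp, add_zero] at h1
  refine hexp.trans ?_
  rw [hA, Subgroup.index_comap_of_surjective _ hπs]
  have hbar : (Nat.card (G ⧸ pPrimeCore p G)).factorization p = (Nat.card G).factorization p := by
    conv_rhs => rw [Subgroup.card_eq_card_quotient_mul_card_subgroup (pPrimeCore p G)]
    rw [Nat.factorization_mul Nat.card_pos.ne' Nat.card_pos.ne', Finsupp.add_apply,
      Nat.factorization_eq_zero_of_not_dvd hNp, add_zero]
  have h1 : Ab.index.factorization p + (Nat.card Ab).factorization p = (Nat.card G).factorization p := by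
    rw [← hbar, ← Ab.index_mul_card, Nat.factorization_mul Subgroup.index_ne_zero_of_finite
      Nat.card_pos.ne', Finsupp.add_apply]
  have h2 : (Subgroup.center (P : Subgroup G)).index.factorization p +
      (Nat.card (Subgroup.center (P : Subgroup G))).factorization p = (Nat.card G).factorization p := by
    rw [← Finsupp.add_apply, ← Nat.factorization_mul Subgroup.index_ne_zero_of_finite Nat.card_pos.ne',
      Subgroup.index_mul_card, P.card_eq_multiplicity, Nat.Prime.factorization_pow hp,
      Finsupp.single_eq_same]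
  have h3 := (Nat.factorization_le_iff_dvd Nat.card_pos.ne' Nat.card_pos.ne').mpr hZdvd p
  omega

theorem pSolvable_height_le (hM : IsPModular p M) :
    ∀ (n : ℕ) {G : Type u} [Group G] [Fintype G], Nat.card G = n → IsPSolvable p G →
      ∀ {B : Set (IrrCharacter G)}, IsPBlock M B → ∀ {D : Subgroup G}, IsDefectGroup p M B D →
        ∀ {χ : IrrCharacter G}, χ ∈ B →
          blockHeight p B (χ : G → ℂ) ≤ ((Subgroup.center D).index).factorization p := by
  intro n
  induction n using Nat.strong_induction_on with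
  | _ n ih =>
  intro G _ _ hn hsolv B hB D hD χ hχ
  classical
  have hp : p.Prime := Fact.out
  have hPm := pmod_prime hM
  haveI : Fintype (pPrimeCore p G) := Fintype.ofFinite _
  have hNp : ¬ p ∣ Nat.card (pPrimeCore p G) :=
    hp.coprime_iff_not_dvd.mp (Fusion.card_pPrimeCore_coprime p G).symm
  obtain ⟨θ, hθ⟩ := exists_constituent (N := pPrimeCore p G) χ
  obtain ⟨T, -, -, hNT, -, -, -, hT, -, -⟩ := exists_correspondent χ.2 (pPrimeCore p G) θ hθ
  haveI : Fintype T := Fintype.ofFinite _
  by_cases htop : T = ⊤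
  · have hinv : ∀ g : G, irrComp (MulAut.conjNormal g) θ = θ :=
      fun g => (hT g).mp (htop ▸ Subgroup.mem_top g)
    obtain ⟨B', hB', hmem, -, hall⟩ := S4492.result p M hM hsolv (pPrimeCore p G) rfl θ (fun g m => by
      have h := congrFun (congrArg Subtype.val (hinv g)) m
      rw [irrComp_apply] at h
      exact (congrArg _ (Subtype.ext rfl)).trans h)
    obtain rfl : B = B' := block_disjoint hPm hB hB' hχ ((hmem χ).mpr hθ)
    obtain ⟨P, rfl⟩ := hall D hD
    refine le_trans ?_ (dexp_le_center_index hsolv hinv χ hθ P)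
    have := dexp_eq_height_add (p := p) hχ
    omega
  · set b : Set (IrrCharacter (pPrimeCore p G)) := blockOf M (θ : pPrimeCore p G → ℂ) with hb'
    have hb : IsPBlock M b := isPBlock_blockOf M θ
    have hbs : b = {θ} := by
      refine (singleton_iff_dexp hM θ).mpr (le_antisymm (dexp_le θ.2) ?_)
      rw [Nat.factorization_eq_zero_of_not_dvd hNp]
      exact Nat.zero_le _
    have hst : IsStabilizer (pPrimeCore p G) b T := fun g => by
      rw [hT g, hbs]
      simp
    have hθb : θ ∈ b := self_mem_blockOf hPm θ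
    obtain ⟨B', hB', hcov, hind⟩ := fong_reynolds_surjective hM hst hb hNT hB ⟨χ, hχ, θ, hθb, hθ⟩
    obtain ⟨hdef, hht⟩ := fong_reynolds_defect hM hst hb hB' hcov hind
    obtain ⟨C, hC, -, hfrom, -⟩ := fong_reynolds hM hst hb hB' hcov
    obtain rfl := induced_unique hPm hC hind
    obtain ⟨ψ, hψ, he⟩ := hfrom χ hχ
    obtain ⟨χ', -, he', hh⟩ := hht ψ hψ
    rw [Subtype.ext (he'.trans he.symm) ] at hh
    obtain ⟨D', hD'⟩ := exists_isDefectGroup hM hB'
    obtain ⟨t, ht⟩ := defect_groups_conj hM hC.2.1 (hdef D' hD') hD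
    have hlt : Nat.card T < n := hn ▸ lt_of_le_of_ne (Subgroup.card_le_card_group T)
      (fun h => htop (Subgroup.eq_top_of_card_eq T h))
    have h := ih _ hlt rfl (isPSolvable_subgroup hp hsolv T) hB' hD' hψ
    rw [hh]
    refine h.trans (le_of_eq ?_)
    rw [center_index_congr ((D'.equivMapOfInjective _ T.subtype_injective).trans
      (((D'.map T.subtype).equivMapOfInjective _ (MulAut.conj t).injective).trans
        (MulEquiv.subgroupCongr ht.symm)))]

end Cfsg.Agent.Char
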