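import Cfsg.Agent.Lib.Char.TwoDegreesPrime
import Cfsg.Agent.Lib.Char.Inflate
import Cfsg.Agent.S0178

/-!
# Groups of prime power order whose nonlinear degrees determine the characters up to powers
-/

set_option autoImplicit false
open scoped ComplexConjugate commutatorElement
open Cfsg

namespace Cfsg.Agent.Char.GalDeg

open TwoDeg

universe u

/-- Equal nonlinear degrees give characters which are powers of each other. -/
def PowEq (P : Type u) [Group P] : Prop :=
  ∀ χ ψ : IrrCharacter P, deg (χ : P → ℂ) ≠ 1 → deg (χ : P → ℂ) = deg (ψ : P → ℂ) →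
    ∃ k : ℕ, Nat.Coprime k (Nat.card P) ∧ ∀ g : P, (ψ : P → ℂ) g = (χ : P → ℂ) (g ^ k)

variable {P : Type u} [Group P] [Fintype P] {p : ℕ} [Fact p.Prime]

theorem pow_card_mem {G : Type*} [Group G] [Finite G] {H : Subgroup G} {x : G} (hx : x ∈ H) :
    x ^ Nat.card H = 1 :=
  congrArg Subtype.val (pow_card_eq_one' (x := (⟨x, hx⟩ : H)))

theorem mem_kerC_iff (χ : IrrCharacter P) (g : P) : g ∈ kerC χ ↔ (χ : P → ℂ) g = (χ : P → ℂ) 1 := by
  refine ⟨fun h => ?_, mem_kerC_of_eq χ⟩
  have := h 1
  rwa [mul_one] at this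

theorem kerC_le_of_powEq (h : PowEq P) {χ ψ : IrrCharacter P} (hχ : deg (χ : P → ℂ) ≠ 1)
    (hd : deg (χ : P → ℂ) = deg (ψ : P → ℂ)) : kerC χ ≤ kerC ψ := by
  intro g hg
  obtain ⟨k, -, hk⟩ := h χ ψ hχ hd
  rw [mem_kerC_iff, hk, hk, one_pow]
  exact (mem_kerC_iff χ _).1 (pow_mem hg k)

theorem exists_nonlinear_of_ne_one (g : P) (hg : g ∈ commutator P) (hg1 : g ≠ 1) :
    ∃ χ : IrrCharacter P, deg (χ : P → ℂ) ≠ 1 ∧ g ∉ kerC χ := by
  by_contra hc
  push Not at hc
  refine hg1 (eq_one_of_mem_all fun χ => ?_)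
  rcases eq_or_ne (deg (χ : P → ℂ)) 1 with h | h
  · have hle : commutator P ≤ kerC χ := by
      rw [commutator_def, Subgroup.commutator_le]
      intro a _ b _
      rw [commutatorElement_def]
      exact kerC_top_of_linear χ h a b
    exact hle hg
  · exact hc χ h

theorem not_le_kerC_of_nonlinear (χ : IrrCharacter P) (h : deg (χ : P → ℂ) ≠ 1) :
    ¬ commutator P ≤ kerC χ := by
  intro hle
  obtain ⟨n, σ, hirr, hσ⟩ := χ.2
  haveI := hirr
  have hcomm : ∀ a b : P, σ a * σ b = σ b * σ a := by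
    intro a b
    have h1 : σ (a * b * a⁻¹ * b⁻¹) = LinearMap.id := by
      rw [← eq_id_iff σ, congrFun hσ, (mem_kerC_iff χ _).1 (hle (by
        rw [← commutatorElement_def, commutator_def]
        exact Subgroup.commutator_mem_commutator (Subgroup.mem_top a) (Subgroup.mem_top b))),
        ← congrFun hσ, Representation.char_one]
    have h2 : σ (a * b) = σ (a * b * a⁻¹ * b⁻¹) * σ (b * a) := by rw [← map_mul]; congr 1; group
    rw [h1, map_mul, map_mul] at h2
    exact h2
  refine h ?_
  have hz : cz χ = ⊤ := top_unique fun g _ => (mem_cz_iff_comm χ g).2 fun x => hle (by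
    rw [← commutatorElement_def, commutator_def]
    exact Subgroup.commutator_mem_commutator (Subgroup.mem_top g) (Subgroup.mem_top x))
  have h1 := card_cz_mul_sq_le χ
  rw [hz, Subgroup.card_top] at h1
  have h2 : deg (χ : P → ℂ) ^ 2 ≤ 1 := Nat.le_of_mul_le_mul_left (by rw [mul_one]; exact h1) Nat.card_pos
  have h3 := cast_ne_zero_deg χ
  have h4 : deg (χ : P → ℂ) ≤ 1 := by nlinarith
  omega

theorem inf_center_ne_bot (hP : IsPGroup p P) (N : Subgroup P) [N.Normal] (hN : N ≠ ⊥) :
    N ⊓ Subgroup.center P ≠ ⊥ := by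
  obtain ⟨k, hk⟩ := IsPGroup.iff_card.1 (hP.to_subgroup N)
  have hk0 : k ≠ 0 := fun h0 => hN (Subgroup.eq_bot_of_card_eq _ (by rw [hk, h0, pow_zero]))
  have hP' : IsPGroup p (ConjAct P) := hP.of_equiv ConjAct.toConjAct
  obtain ⟨b, hb, hb1⟩ := hP'.exists_fixed_point_of_prime_dvd_card_of_fixed_point ↥N
    (hk ▸ dvd_pow_self p hk0) (a := 1) (by intro g; exact smul_one g)
  intro h
  have h1 : (b : P) ∈ N ⊓ Subgroup.center P := Subgroup.mem_inf.2 ⟨b.2,
    Subgroup.mem_center_iff.2 fun g => by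
      have := congrArg Subtype.val (hb (ConjAct.toConjAct g))
      rw [ConjAct.Subgroup.val_conj_smul, ConjAct.toConjAct_smul] at this
      exact mul_inv_eq_iff_eq_mul.1 this⟩
  rw [h, Subgroup.mem_bot] at h1
  exact hb1 (Subtype.ext h1.symm)

/-- Facts when the commutator subgroup has order `p`. -/
theorem derived_prime_facts (hP : IsPGroup p P) (hd : Nat.card (commutator P) = p) :
    commutator P ≤ Subgroup.center P ∧ ∀ χ : IrrCharacter P, deg (χ : P → ℂ) ≠ 1 →
      (∀ g, g ∉ Subgroup.center P → (χ : P → ℂ) g = 0) ∧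
      deg (χ : P → ℂ) ^ 2 = (Subgroup.center P).index ∧ kerC χ ⊓ commutator P = ⊥ := by
  classical
  have hp := (Fact.out : p.Prime)
  have hne : commutator P ≠ ⊥ := fun h => hp.ne_one (by rw [← hd, h, Subgroup.card_bot])
  have hcen : commutator P ≤ Subgroup.center P := by
    have h1 := inf_center_ne_bot hP (commutator P) hne
    have h2 : Nat.card (commutator P ⊓ Subgroup.center P : Subgroup P) ∣ p :=
      hd ▸ Subgroup.card_dvd_of_le inf_le_left
    rcases (Nat.dvd_prime hp).1 h2 with h3 | h3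
    · exact absurd (Subgroup.eq_bot_of_card_eq _ h3) h1
    · exact (Subgroup.eq_of_le_of_card_ge inf_le_left (by rw [h3, hd])).ge.trans inf_le_right
  refine ⟨hcen, fun χ hχ => ?_⟩
  have hker : kerC χ ⊓ commutator P = ⊥ := by
    have h2 : Nat.card (kerC χ ⊓ commutator P : Subgroup P) ∣ p := hd ▸ Subgroup.card_dvd_of_le inf_le_right
    rcases (Nat.dvd_prime hp).1 h2 with h3 | h3
    · exact Subgroup.eq_bot_of_card_eq _ h3
    · exact absurd ((Subgroup.eq_of_le_of_card_ge inf_le_right (by rw [h3, hd])).ge.trans inf_le_left)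
        (not_le_kerC_of_nonlinear χ hχ)
  have hvan : ∀ g, g ∉ Subgroup.center P → (χ : P → ℂ) g = 0 := by
    intro g hg
    rw [Subgroup.mem_center_iff, not_forall] at hg
    obtain ⟨x, hx⟩ := hg
    have hc : ⁅x, g⁆ ∈ commutator P := by
      rw [commutator_def]
      exact Subgroup.commutator_mem_commutator (Subgroup.mem_top x) (Subgroup.mem_top g)
    have hcz : ⁅x, g⁆ ∈ Subgroup.center P := hcen hc
    have hck : ⁅x, g⁆ ∉ kerC χ := fun h => hx (by
      have h1 : ⁅x, g⁆ ∈ (⊥ : Subgroup P) := hker ▸ ⟨h, hc⟩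
      exact commutatorElement_eq_one_iff_mul_comm.1 (Subgroup.mem_bot.1 h1))
    obtain ⟨n, σ, hirr, hσ⟩ := χ.2
    have h1 : (χ : P → ℂ) (⁅x, g⁆ * g) = (χ : P → ℂ) g := by
      rw [commutatorElement_def, inv_mul_cancel_right]
      exact isClassFunction_character (irr_isCharacter χ.2) g x
    have h2 : ⁅x, g⁆ ∈ cz χ := (mem_cz_iff_comm χ _).2 fun y => by
      rw [← Subgroup.mem_center_iff.1 hcz y, mul_inv_cancel_right, mul_inv_cancel]
      exact one_mem _
    rw [mem_cz_iff, ← congrFun hσ] at h2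
    have hn : (deg (χ : P → ℂ) : ℝ) = (Module.finrank ℂ (Fin n → ℂ) : ℝ) := by
      have h3 := char_one_eq_deg (irr_isCharacter χ.2)
      rw [← congrFun hσ, Representation.char_one] at h3
      exact_mod_cast h3.symm
    obtain ⟨ω, hω⟩ := (eq_scalar_iff σ _).1 (h2.trans hn)
    rw [← congrFun hσ, ← congrFun hσ] at h1
    have h4 : σ.character (⁅x, g⁆ * g) = ω * σ.character g := by
      show LinearMap.trace ℂ _ (σ _) = ω * LinearMap.trace ℂ _ (σ g)
      rw [map_mul, hω, smul_mul_assoc]
      exact map_smul _ _ _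
    rw [h4] at h1
    rw [← congrFun hσ]
    by_contra h0
    refine hck (mem_kerC_of_eq χ ?_)
    rw [← congrFun hσ, ← congrFun hσ]
    show LinearMap.trace ℂ _ (σ _) = LinearMap.trace ℂ _ (σ 1)
    rw [hω, mul_right_cancel₀ h0 (h1.trans (one_mul _).symm), one_smul, map_one]
    rfl
  refine ⟨hvan, ?_, hker⟩
  have h1 := sum_norm_sq χ
  rw [← Finset.sum_filter_add_sum_filter_not (Finset.univ : Finset P) (fun g => g ∈ Subgroup.center P)
      (fun g => ‖(χ : P → ℂ) g‖ ^ 2),
    Finset.sum_eq_zero (s := Finset.univ.filter fun g => ¬ g ∈ Subgroup.center P) (fun g hg => by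
      rw [hvan g (Finset.mem_filter.1 hg).2]; simp), add_zero,
    Finset.sum_congr rfl (g := fun _ => ((deg (χ : P → ℂ) : ℝ)) ^ 2) (fun g hg => by
      rw [(mem_cz_iff χ g).1 ((mem_cz_iff_comm χ g).2 fun y => by
        rw [← Subgroup.mem_center_iff.1 (Finset.mem_filter.1 hg).2 y, mul_inv_cancel_right, mul_inv_cancel]
        exact one_mem _)]),
    Finset.sum_const, ← Fintype.card_subtype, nsmul_eq_mul, ← Nat.card_eq_fintype_card,
    ← (Subgroup.center P).card_mul_index, Nat.cast_mul] at h1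
  have h2 : ((deg (χ : P → ℂ) : ℝ)) ^ 2 = ((Subgroup.center P).index : ℝ) :=
    mul_left_cancel₀ (Nat.cast_ne_zero.2 Nat.card_pos.ne') h1
  exact_mod_cast h2

theorem center_cyclic_of_powEq (hP : IsPGroup p P) (hd : Nat.card (commutator P) = p) (h : PowEq P) :
    IsCyclic (Subgroup.center P) := by
  classical
  have hp := (Fact.out : p.Prime)
  obtain ⟨-, hfacts⟩ := derived_prime_facts hP hd
  obtain ⟨c, hc, hc1⟩ : ∃ c ∈ commutator P, c ≠ 1 := by
    by_contra hcon
    push Not at hcon
    exact hp.ne_one (by rw [← hd, (Subgroup.eq_bot_iff_forall _).2 hcon, Subgroup.card_bot])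
  obtain ⟨χ, hχ, -⟩ := exists_nonlinear_of_ne_one c hc hc1
  have hfaith : kerC χ = ⊥ := by
    rw [Subgroup.eq_bot_iff_forall]
    intro g hg
    refine eq_one_of_mem_all fun ψ => ?_
    have hin : ∀ φ : IrrCharacter P, deg (φ : P → ℂ) ≠ 1 → g ∈ kerC φ := fun φ hφ =>
      kerC_le_of_powEq h hχ (Nat.pow_left_injective two_ne_zero
        ((hfacts χ hχ).2.1.trans (hfacts φ hφ).2.1.symm)) hg
    rcases eq_or_ne (deg (ψ : P → ℂ)) 1 with h1 | h1
    · obtain ⟨l, hl⟩ := exists_hom_of_degree_one (irr_isCharacter ψ.2) (by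
        rw [char_one_eq_deg (irr_isCharacter ψ.2), h1, Nat.cast_one])
      let tw : IrrCharacter P := ⟨fun x => (l x : ℂ) * (χ : P → ℂ) x, isIrr_linear_mul χ.2 l⟩
      have htw : deg (tw : P → ℂ) ≠ 1 := by
        have h2 := char_one_eq_deg (irr_isCharacter tw.2)
        simp only [tw, map_one, Units.val_one, one_mul, char_one_eq_deg (irr_isCharacter χ.2), Nat.cast_inj] at h2
        rw [← h2]; exact hχ
      have h3 := (mem_kerC_iff tw g).1 (hin tw htw)
      simp only [tw, map_one, Units.val_one, one_mul, (mem_kerC_iff χ g).1 hg] at h3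
      rw [mem_kerC_iff, congrFun hl, congrFun hl, map_one, Units.val_one]
      exact mul_right_cancel₀ (irr_one_ne_zero χ.2) (h3.trans (one_mul _).symm)
    · exact hin ψ h1
  obtain ⟨n, σ, hirr, hσ⟩ := χ.2
  have hn : (deg (χ : P → ℂ) : ℝ) = (Module.finrank ℂ (Fin n → ℂ) : ℝ) := by
    have h3 := char_one_eq_deg (irr_isCharacter χ.2)
    rw [← congrFun hσ, Representation.char_one] at h3
    exact_mod_cast h3.symm
  have hsc : ∀ z : Subgroup.center P, ∃ ω : ℂ, σ (z : P) = ω • LinearMap.id := fun z => by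
    refine (eq_scalar_iff σ _).1 ?_
    rw [congrFun hσ, ← hn]
    refine (mem_cz_iff χ _).1 ((mem_cz_iff_comm χ _).2 fun y => ?_)
    rw [← Subgroup.mem_center_iff.1 z.2 y, mul_inv_cancel_right, mul_inv_cancel]
    exact one_mem _
  choose ω hω using hsc
  have hval : ∀ z : Subgroup.center P, (χ : P → ℂ) z = ω z * (χ : P → ℂ) 1 := fun z => by
    rw [← congrFun hσ, ← congrFun hσ]
    show LinearMap.trace ℂ _ (σ _) = ω z * LinearMap.trace ℂ _ (σ 1)
    rw [hω, map_smul, map_one]
    rfl
  have h10 := irr_one_ne_zero χ.2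
  have hone : ω 1 = 1 := by
    refine mul_right_cancel₀ h10 ?_
    rw [← hval, Subgroup.coe_one, one_mul]
  have hmul : ∀ a b, ω (a * b) = ω a * ω b := fun a b => by
    refine mul_right_cancel₀ h10 ?_
    rw [← hval, ← congrFun hσ, ← congrFun hσ]
    show LinearMap.trace ℂ _ (σ _) = _ * LinearMap.trace ℂ _ (σ 1)
    rw [Subgroup.coe_mul, map_mul, hω, hω, smul_mul_smul_comm, map_smul, map_one, mul_comm (ω a)]
    rfl
  refine isCyclic_of_subgroup_isDomain
    ({ toFun := ω, map_one' := hone, map_mul' := hmul } : Subgroup.center P →* ℂ) ?_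
  rw [injective_iff_map_eq_one]
  intro z hz
  have h1 : (z : P) ∈ kerC χ := mem_kerC_of_eq χ (by
    rw [hval, show ω z = 1 from hz, one_mul])
  rw [hfaith, Subgroup.mem_bot] at h1
  exact Subtype.ext h1

theorem powEq_of_cyclic (hP : IsPGroup p P) (hd : Nat.card (commutator P) = p)
    (hc : IsCyclic (Subgroup.center P)) : PowEq P := by
  classical
  have hp := (Fact.out : p.Prime)
  obtain ⟨hcen, hfacts⟩ := derived_prime_facts hP hd
  obtain ⟨k, hk⟩ := IsPGroup.iff_card.1 hP
  haveI := hc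
  set Z := Subgroup.center P with hZ
  obtain ⟨⟨z, hzZ⟩, hz⟩ := hc.exists_generator
  have hzmem : ∀ x ∈ Z, ∃ i : ℤ, z ^ i = x := fun x hx => by
    obtain ⟨i, hi⟩ := Subgroup.mem_zpowers_iff.1 (hz ⟨x, hx⟩)
    exact ⟨i, congrArg Subtype.val hi⟩
  intro χ ψ hχ hdeg
  have hψ : deg (ψ : P → ℂ) ≠ 1 := hdeg ▸ hχ
  -- central characters
  have hlin : ∀ φ : IrrCharacter P, deg (φ : P → ℂ) ≠ 1 → ∃ l : Z →* ℂˣ, Function.Injective l ∧
      ∀ x : Z, (φ : P → ℂ) x = (deg (φ : P → ℂ) : ℂ) * (l x : ℂ) := by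
    intro φ hφ
    obtain ⟨n, σ, hirr, hσ⟩ := φ.2
    have hn : (deg (φ : P → ℂ) : ℝ) = (Module.finrank ℂ (Fin n → ℂ) : ℝ) := by
      have h3 := char_one_eq_deg (irr_isCharacter φ.2)
      rw [← congrFun hσ, Representation.char_one] at h3
      exact_mod_cast h3.symm
    obtain ⟨hvan, -, hker⟩ := hfacts φ hφ
    obtain ⟨θ, hθ⟩ : ∃ θ : IrrCharacter Z,
        classInner (fun x : Z => (φ : P → ℂ) x) (θ : Z → ℂ) ≠ 0 := by
      obtain ⟨m, hm⟩ := exists_decomposition (isCharacter_comp Z.subtype (irr_isCharacter φ.2))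
      by_contra hcon
      push Not at hcon
      have h1 := congrFun hm 1
      have h0 : ∀ θ, m θ = 0 := fun θ => by
        have h2 := hcon θ
        rw [show (fun x : Z => (φ : P → ℂ) x) = (φ : P → ℂ) ∘ Z.subtype from rfl,
          decomposition_coeff m hm θ] at h2
        exact_mod_cast h2
      simp [h0] at h1
      exact irr_one_ne_zero φ.2 (by simpa using h1)
    haveI : Z.Normal := inferInstance
    have hθ1 : (θ : Z → ℂ) 1 = 1 := forall_linear_iff_comm.1
      (fun a b => Subtype.ext (Subgroup.mem_center_iff.1 b.2 a)) θ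
    obtain ⟨l, hl⟩ := exists_hom_of_degree_one (irr_isCharacter θ.2) hθ1
    have horb : cliffOrbit Z θ = {θ} := by
      refine Finset.eq_singleton_iff_unique_mem.2 ⟨self_mem_cliffOrbit θ, fun ξ hξ => ?_⟩
      obtain ⟨g, rfl⟩ := mem_cliffOrbit.1 hξ
      refine Subtype.ext (funext fun x => ?_)
      rw [irrComp_apply]
      refine congrArg (θ : Z → ℂ) (Subtype.ext ?_)
      rw [MulAut.conjNormal_apply, Subgroup.mem_center_iff.1 x.2 g, mul_inv_cancel_right]
    have hcl := clifford_restrict φ θ hθ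
    rw [horb, Finset.sum_singleton] at hcl
    have h1 := congrFun hcl 1
    rw [Pi.smul_apply, smul_eq_mul, hθ1, mul_one, Subgroup.coe_one, char_one_eq_deg (irr_isCharacter φ.2)] at h1
    have hval : ∀ x : Z, (φ : P → ℂ) x = (deg (φ : P → ℂ) : ℂ) * (l x : ℂ) := fun x => by
      have h2 := congrFun hcl x
      rw [Pi.smul_apply, smul_eq_mul, ← h1, congrFun hl] at h2
      exact h2
    refine ⟨l, ?_, hval⟩
    rw [injective_iff_map_eq_one]
    intro x hx
    by_contra hx1
    have hxk : (x : P) ∈ kerC φ := mem_kerC_of_eq φ (by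
      rw [hval, hx, Units.val_one, mul_one, char_one_eq_deg (irr_isCharacter φ.2)])
    -- the subgroup of order `p` of the cyclic centre is the commutator subgroup
    obtain ⟨y, hy, hyp⟩ : ∃ y ∈ Subgroup.zpowers (x : P), orderOf y = p := by
      have hd' : p ∣ Nat.card (Subgroup.zpowers (x : P)) := by
        rw [Nat.card_zpowers]
        obtain ⟨i, hi⟩ := (IsPGroup.iff_orderOf.1 hP (x : P))
        rw [hi]
        refine dvd_pow_self p ?_
        rintro rfl
        exact hx1 (Subtype.ext (orderOf_eq_one_iff.1 (hi.trans (pow_zero p))))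
      obtain ⟨y, hy⟩ := exists_prime_orderOf_dvd_card' (G := Subgroup.zpowers (x : P)) p hd'
      exact ⟨y, y.2, by rw [Subgroup.orderOf_coe]; exact hy⟩
    have hyker : y ∈ kerC φ := Subgroup.zpowers_le.2 hxk hy
    have hyZ : y ∈ Z := Subgroup.zpowers_le.2 x.2 hy
    obtain ⟨c, hc, hc1⟩ : ∃ c ∈ commutator P, c ≠ 1 := by
      by_contra hcon
      push Not at hcon
      exact hp.ne_one (by rw [← hd, (Subgroup.eq_bot_iff_forall _).2 hcon, Subgroup.card_bot])
    have hcp : orderOf (⟨c, hcen hc⟩ : Z) = p := by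
      rw [← Subgroup.orderOf_coe]
      exact orderOf_eq_prime (hd ▸ pow_card_mem hc) hc1
    have hyc : (⟨c, hcen hc⟩ : Z) ∈ Subgroup.zpowers (⟨y, hyZ⟩ : Z) := by
      have h5 : orderOf (⟨y, hyZ⟩ : Z) = p := by rw [← Subgroup.orderOf_coe]; exact hyp
      by_contra hne
      have hcard : ((Finset.univ : Finset Z).filter fun w => w ^ p = 1).card ≤ p :=
        IsCyclic.card_pow_eq_one_le hp.pos
      have hsub : insert (⟨c, hcen hc⟩ : Z) ((Finset.univ : Finset Z).filter fun w =>
          w ∈ Subgroup.zpowers (⟨y, hyZ⟩ : Z)) ⊆ (Finset.univ : Finset Z).filter fun w => w ^ p = 1 := by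
        intro w hw
        rw [Finset.mem_filter]
        refine ⟨Finset.mem_univ _, ?_⟩
        rcases Finset.mem_insert.1 hw with rfl | hw
        · rw [← hcp, pow_orderOf_eq_one]
        · rw [← orderOf_dvd_iff_pow_eq_one, ← h5]
          exact orderOf_dvd_of_mem_zpowers (Finset.mem_filter.1 hw).2
      have h6 := (Finset.card_le_card hsub).trans hcard
      rw [Finset.card_insert_of_notMem (by simp [hne]), ← Fintype.card_subtype, ← Nat.card_eq_fintype_card,
        Nat.card_zpowers, h5] at h6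
      omega
    obtain ⟨i, hi⟩ := Subgroup.mem_zpowers_iff.1 hyc
    have h7 : c ∈ kerC φ ⊓ commutator P :=
      ⟨by rw [← show ((⟨y, hyZ⟩ : Z) ^ i : Z).val = c from congrArg Subtype.val hi, Subgroup.coe_zpow]
          exact zpow_mem hyker i, hc⟩
    rw [hker, Subgroup.mem_bot] at h7
    exact hc1 h7
  obtain ⟨l, hlinj, hl⟩ := hlin χ hχ
  obtain ⟨m, hminj, hm⟩ := hlin ψ hψ
  set z' : Z := ⟨z, hzZ⟩
  have hord : orderOf (l z') = Nat.card Z := by
    rw [orderOf_injective l hlinj]
    exact orderOf_eq_card_of_forall_mem_zpowers hz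
  haveI : NeZero (Nat.card Z) := ⟨Nat.card_pos.ne'⟩
  obtain ⟨i, -, hi⟩ := (IsPrimitiveRoot.iff_orderOf.2
      (show orderOf ((l z' : ℂˣ) : ℂ) = Nat.card Z by rw [orderOf_units, hord])).eq_pow_of_pow_eq_one
    (show ((m z' : ℂˣ) : ℂ) ^ Nat.card Z = 1 by
      rw [← Units.val_pow_eq_pow_val, ← map_pow, pow_card_eq_one', map_one, Units.val_one])
  have hi' : m z' = l z' ^ i := Units.ext (by rw [Units.val_pow_eq_pow_val]; exact hi.symm)
  have hcop : Nat.Coprime i (Nat.card Z) := by
    have h1 : orderOf (m z') = orderOf (l z') := by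
      rw [orderOf_injective m hminj, orderOf_injective l hlinj]
    rw [hi', ← map_pow, orderOf_injective l hlinj, orderOf_injective l hlinj, orderOf_pow, Nat.div_eq_self] at h1
    rcases h1 with h1 | h1
    · exact absurd h1 (orderOf_pos _).ne'
    · rw [← hord, orderOf_injective l hlinj]; exact Nat.Coprime.symm h1
  have hik : Nat.Coprime i (Nat.card P) := by
    rw [hk]
    refine Nat.Coprime.pow_right k ?_
    refine hcop.coprime_dvd_right ?_
    rw [← hd]
    exact Subgroup.card_dvd_of_le hcen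
  refine ⟨i, hik, fun g => ?_⟩
  by_cases hg : g ∈ Z
  · have hgm : ∀ x : Z, m x = l x ^ i := fun x => by
      obtain ⟨j, rfl⟩ := Subgroup.mem_zpowers_iff.1 (hz x)
      rw [map_zpow, map_zpow, hi', ← zpow_natCast, ← zpow_natCast, ← zpow_mul, ← zpow_mul, mul_comm]
    rw [show g = ((⟨g, hg⟩ : Z) : P) from rfl, hm, hgm, ← map_pow, ← hdeg, ← Subgroup.coe_pow, hl]
  · rw [(hfacts ψ hψ).1 g hg, (hfacts χ hχ).1 (g ^ i) fun hgi => hg ?_]
    obtain ⟨j, hj⟩ := exists_pow_eq_self_of_coprime (x := g) (n := i)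
      (hik.coprime_dvd_right (orderOf_dvd_natCard g))
    rw [← hj]
    exact pow_mem hgi j

theorem powEq_quotient (N : Subgroup P) [N.Normal] [Fintype (P ⧸ N)] (h : PowEq P) : PowEq (P ⧸ N) := by
  intro χ ψ hχ hd
  obtain ⟨k, hk, hval⟩ := h ⟨_, isIrr_inflate N χ.2⟩ ⟨_, isIrr_inflate N ψ.2⟩
    (by simpa [deg] using hχ) (by simpa [deg] using hd)
  refine ⟨k, hk.coprime_dvd_right (Subgroup.card_quotient_dvd_card N), fun q => ?_⟩
  obtain ⟨g, rfl⟩ := QuotientGroup.mk_surjective q
  exact hval g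

theorem derived_prime_of_powEq (n : ℕ) : ∀ (P : Type u) [Group P] [Fintype P], Nat.card P = n →
    IsPGroup p P → (∃ a b : P, a * b ≠ b * a) → PowEq P → Nat.card (commutator P) = p := by
  induction n using Nat.strong_induction_on with
  | _ n IH =>
  intro P _ _ hn hP hna hpe
  classical
  have hp := (Fact.out : p.Prime)
  have hdne : commutator P ≠ ⊥ := fun h => by
    obtain ⟨a, b, hab⟩ := hna
    refine hab (commutatorElement_eq_one_iff_mul_comm.1 ?_)
    rw [← Subgroup.mem_bot, ← h, commutator_def]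
    exact Subgroup.commutator_mem_commutator (Subgroup.mem_top a) (Subgroup.mem_top b)
  obtain ⟨e, he⟩ := IsPGroup.iff_card.1 (hP.to_subgroup (commutator P))
  rcases (show e = 0 ∨ e = 1 ∨ 2 ≤ e by omega) with rfl | rfl | he2
  · exact absurd (Subgroup.eq_bot_of_card_eq _ (by rw [he, pow_zero])) hdne
  · rw [he, pow_one]
  exfalso
  -- central subgroups of order `p` in the commutator subgroup
  have hcentral : ∀ N : Subgroup P, N ≤ Subgroup.center P → N.Normal := fun N hN => ⟨fun x hx g => by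
    rw [Subgroup.mem_center_iff.1 (hN hx) g, mul_inv_cancel_right]; exact hx⟩
  have hQ : ∀ N : Subgroup P, N ≤ commutator P → N ≤ Subgroup.center P → Nat.card N = p →
      Nat.card (commutator P) = p ^ 2 ∧ ∃ Z1 : Subgroup P, N ≤ Z1 ∧ commutator P ≤ Z1 ∧
        (∀ x : P, x ∈ Z1 ↔ ∀ y : P, ⁅x, y⁆ ∈ N) ∧
        (∃ z ∈ Z1, ∀ x ∈ Z1, ∃ i : ℤ, x * (z ^ i)⁻¹ ∈ N) ∧
        (∀ x : P, x ^ p ∈ Z1 ∨ ¬ commutator P ≤ Subgroup.center P) ∧
        ∃ χ : IrrCharacter P, deg (χ : P → ℂ) ≠ 1 ∧ N ≤ kerC χ ∧ deg (χ : P → ℂ) ^ 2 = Z1.index ∧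
          ∀ A : Subgroup P, N ≤ A → (∀ a ∈ A, ∀ b ∈ A, ⁅a, b⁆ ∈ N) → deg (χ : P → ℂ) ≤ A.index := by
    intro N hNd hNc hNcard
    haveI := hcentral N hNc
    haveI : Fintype (P ⧸ N) := Fintype.ofFinite _
    have hlt : N < commutator P := hNd.lt_of_ne fun h => by
      rw [h, he] at hNcard
      have := Nat.pow_right_injective hp.two_le (hNcard.trans (pow_one p).symm)
      omega
    obtain ⟨c, hc, hcN⟩ := SetLike.exists_of_lt hlt
    have hmapd : (commutator P).map (QuotientGroup.mk' N) = commutator (P ⧸ N) := by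
      rw [commutator_def, commutator_def, Subgroup.map_commutator,
        Subgroup.map_top_of_surjective _ (QuotientGroup.mk'_surjective N)]
    have hnaQ : ∃ a b : P ⧸ N, a * b ≠ b * a := by
      by_contra hc'
      push Not at hc'
      refine hcN ((QuotientGroup.eq_one_iff c).1 ?_)
      have h1 : (QuotientGroup.mk' N c) ∈ commutator (P ⧸ N) := hmapd ▸ Subgroup.mem_map_of_mem _ hc
      have h2 : commutator (P ⧸ N) = ⊥ := by
        rw [commutator_def, eq_bot_iff, Subgroup.commutator_le]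
        intro a _ b _
        exact Subgroup.mem_bot.2 (commutatorElement_eq_one_iff_mul_comm.2 (hc' a b))
      rw [h2, Subgroup.mem_bot] at h1
      exact h1
    have hltn : Nat.card (P ⧸ N) < n := by
      rw [← hn, Subgroup.card_eq_card_quotient_mul_card_subgroup N, hNcard]
      exact lt_mul_right Nat.card_pos hp.one_lt
    have hQp := hP.to_quotient N
    have hQd := IH _ hltn (P ⧸ N) rfl hQp hnaQ (powEq_quotient N hpe)
    have hcyc := center_cyclic_of_powEq hQp hQd (powEq_quotient N hpe)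
    obtain ⟨hQcen, hQfacts⟩ := derived_prime_facts hQp hQd
    set Z1 := (Subgroup.center (P ⧸ N)).comap (QuotientGroup.mk' N) with hZ1
    have hcomm2 : Nat.card (commutator P) = p ^ 2 := by
      have h1 := Nat.card_congr
        (QuotientGroup.quotientKerEquivRange ((QuotientGroup.mk' N).comp (commutator P).subtype)).toEquiv
      rw [MonoidHom.range_comp, Subgroup.range_subtype, hmapd, hQd] at h1
      have h2 : ((QuotientGroup.mk' N).comp (commutator P).subtype).ker = N.subgroupOf (commutator P) := by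
        rw [← MonoidHom.comap_ker, QuotientGroup.ker_mk']; rfl
      rw [Subgroup.card_eq_card_quotient_mul_card_subgroup
        ((QuotientGroup.mk' N).comp (commutator P).subtype).ker, h1, h2,
        Nat.card_congr (Subgroup.subgroupOfEquivOfLe hNd).toEquiv, hNcard, sq]
    refine ⟨hcomm2, Z1, fun x hx => ?_, fun x hx => hQcen (hmapd ▸ Subgroup.mem_map_of_mem _ hx),
      fun x => ?_, ?_, fun x => ?_, ?_⟩
    · rw [hZ1, Subgroup.mem_comap, QuotientGroup.mk'_apply, (QuotientGroup.eq_one_iff x).2 hx]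
      exact one_mem _
    · rw [hZ1, Subgroup.mem_comap, Subgroup.mem_center_iff]
      constructor
      · intro hx y
        rw [← QuotientGroup.eq_one_iff, ← QuotientGroup.mk'_apply, map_commutatorElement,
          commutatorElement_eq_one_iff_mul_comm]
        exact (hx _).symm
      · intro hx q
        obtain ⟨y, rfl⟩ := QuotientGroup.mk'_surjective N q
        refine (commutatorElement_eq_one_iff_mul_comm.1 ?_).symm
        rw [← map_commutatorElement, QuotientGroup.mk'_apply, QuotientGroup.eq_one_iff]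
        exact hx y
    · obtain ⟨⟨q, hq⟩, hgen⟩ := hcyc.exists_generator
      obtain ⟨z, rfl⟩ := QuotientGroup.mk'_surjective N q
      refine ⟨z, hq, fun x hx => ?_⟩
      obtain ⟨i, hi⟩ := Subgroup.mem_zpowers_iff.1 (hgen ⟨_, hx⟩)
      refine ⟨i, ?_⟩
      rw [← QuotientGroup.eq_one_iff, QuotientGroup.mk_mul, QuotientGroup.mk_inv, QuotientGroup.mk_zpow,
        show (QuotientGroup.mk z : P ⧸ N) ^ i = QuotientGroup.mk x from congrArg Subtype.val hi, mul_inv_cancel]
    · by_cases hcl : commutator P ≤ Subgroup.center P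
      · left
        rw [hZ1, Subgroup.mem_comap, map_pow, Subgroup.mem_center_iff]
        intro y
        set X := QuotientGroup.mk' N x
        have hcc : ⁅y, X⁆ ∈ commutator (P ⧸ N) := by
          rw [commutator_def]
          exact Subgroup.commutator_mem_commutator (Subgroup.mem_top _) (Subgroup.mem_top _)
        have hcp : ⁅y, X⁆ ^ p = 1 := hQd ▸ pow_card_mem hcc
        have hcz := Subgroup.mem_center_iff.1 (hQcen hcc)
        have hpow : ∀ j : ℕ, y * X ^ j = ⁅y, X⁆ ^ j * (X ^ j * y) := by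
          intro j
          induction j with
          | zero => simp
          | succ j ih =>
            rw [pow_succ X, ← mul_assoc, ih, pow_succ (⁅y, X⁆), mul_assoc, mul_assoc (X ^ j),
              show y * X = ⁅y, X⁆ * (X * y) by rw [commutatorElement_def]; group,
              ← mul_assoc (X ^ j) _ (X * y), hcz (X ^ j), mul_assoc ⁅y, X⁆, ← mul_assoc (X ^ j) X y, ← mul_assoc]
        rw [hpow p, hcp, one_mul]
      · exact Or.inr hcl
    · obtain ⟨d, hd, hd1⟩ : ∃ d ∈ commutator (P ⧸ N), d ≠ 1 := by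
        by_contra hcon
        push Not at hcon
        exact hp.ne_one (by rw [← hQd, (Subgroup.eq_bot_iff_forall _).2 hcon, Subgroup.card_bot])
      obtain ⟨χ, hχ, -⟩ := exists_nonlinear_of_ne_one d hd hd1
      refine ⟨⟨_, isIrr_inflate N χ.2⟩, by simpa [deg] using hχ, fun x hx => mem_kerC_of_eq _ ?_, ?_, ?_⟩
      · show (χ : P ⧸ N → ℂ) _ = (χ : P ⧸ N → ℂ) _
        rw [(QuotientGroup.eq_one_iff x).2 hx, QuotientGroup.mk_one]
      · rw [hZ1, Subgroup.index_comap_of_surjective _ (QuotientGroup.mk'_surjective N), ← (hQfacts χ hχ).2.1]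
        simp [deg]
      · intro A hNA hA
        obtain ⟨d', σ, hσi, hσ⟩ := χ.2
        haveI := hσi
        have h1 := S0178.result σ (A.map (QuotientGroup.mk' N)) (by
          rintro _ ⟨a, ha, rfl⟩ _ ⟨b, hb, rfl⟩
          rw [← commutatorElement_eq_one_iff_mul_comm, ← map_commutatorElement, QuotientGroup.mk'_apply,
            QuotientGroup.eq_one_iff]
          exact hA a ha b hb)
        rw [Module.finrank_fin_fun, ← Subgroup.index_comap_of_surjective (f := QuotientGroup.mk' N) _
          (QuotientGroup.mk'_surjective N), Subgroup.comap_map_eq, QuotientGroup.ker_mk', sup_eq_left.2 hNA] at h1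
        refine le_trans (le_of_eq ?_) h1
        rw [deg]
        simp [← congrFun hσ, Representation.char_one]
  -- a first subgroup
  obtain ⟨N, hNd, hNc, hNcard⟩ : ∃ N : Subgroup P, N ≤ commutator P ∧ N ≤ Subgroup.center P ∧ Nat.card N = p := by
    have h1 := inf_center_ne_bot hP (commutator P) hdne
    obtain ⟨j, hj⟩ := IsPGroup.iff_card.1 (hP.to_subgroup (commutator P ⊓ Subgroup.center P))
    have hj0 : j ≠ 0 := fun h0 => h1 (Subgroup.eq_bot_of_card_eq _ (by rw [hj, h0, pow_zero]))
    obtain ⟨⟨x, hx⟩, hxo⟩ := exists_prime_orderOf_dvd_card'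
      (G := (commutator P ⊓ Subgroup.center P : Subgroup P)) p (hj ▸ dvd_pow_self p hj0)
    exact ⟨Subgroup.zpowers x, Subgroup.zpowers_le.2 hx.1, Subgroup.zpowers_le.2 hx.2, by
      rw [Nat.card_zpowers, ← hxo, ← Subgroup.orderOf_coe]⟩
  obtain ⟨hd2, Z1, hNZ, hdZ, hZiff, ⟨z, hzZ, hzgen⟩, hpZ, χ, hχ, hNχ, hχd, hχA⟩ := hQ N hNd hNc hNcard
  -- commutators with elements of `Z1`
  have hZpow : ∀ x ∈ Z1, x ^ p ∈ Subgroup.center P := by
    intro x hx
    refine Subgroup.mem_center_iff.2 fun y => ?_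
    have hc := (hZiff x).1 hx y
    have hcz := Subgroup.mem_center_iff.1 (hNc hc)
    have hpow : ∀ j : ℕ, x ^ j * y = ⁅x, y⁆ ^ j * (y * x ^ j) := by
      intro j
      induction j with
      | zero => simp
      | succ j ih =>
        rw [pow_succ x, mul_assoc (x ^ j), show x * y = ⁅x, y⁆ * (y * x) by rw [commutatorElement_def]; group,
          ← mul_assoc (x ^ j), hcz (x ^ j), mul_assoc ⁅x, y⁆, ← mul_assoc (x ^ j) y, ih, pow_succ' (⁅x, y⁆)]
        group
    have h1 := hpow p
    rw [show ⁅x, y⁆ ^ p = 1 from hNcard ▸ pow_card_mem hc, one_mul] at h1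
    exact h1.symm
  by_cases hcl : commutator P ≤ Subgroup.center P
  · -- class two
    have hsingle : ∀ N' : Subgroup P, N' ≤ commutator P → Nat.card N' = p → N' = N := by
      intro N' hN'd hN'card
      by_contra hne
      obtain ⟨-, Z2, hN'Z, -, hZ2iff, ⟨z2, hz2Z, hz2gen⟩, -, χ2, hχ2, hN'χ, hχ2d, -⟩ :=
        hQ N' hN'd (hN'd.trans hcl) hN'card
      have hindex : ∀ (M W : Subgroup P) (w : P), Nat.card M = p → M ≤ W → M ≤ Subgroup.center P →
          (∀ x : P, x ∈ W ↔ ∀ y : P, ⁅x, y⁆ ∈ M) → (∀ x ∈ W, ∃ i : ℤ, x * (w ^ i)⁻¹ ∈ M) → w ∈ W →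
          W.index = (Subgroup.center P).index ∨ W.index * p = (Subgroup.center P).index := by
        intro M W w hMp hMW hMc hW hw hwW
        have hZW : Subgroup.center P ≤ W := fun x hx => (hW x).2 fun y => by
          rw [commutatorElement_eq_one_iff_mul_comm.2 (Subgroup.mem_center_iff.1 hx y).symm]
          exact one_mem _
        have hwp : w ^ p ∈ Subgroup.center P := by
          refine Subgroup.mem_center_iff.2 fun y => ?_
          have hc := (hW w).1 hwW y
          have hcz := Subgroup.mem_center_iff.1 (hMc hc)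
          have hpow : ∀ j : ℕ, w ^ j * y = ⁅w, y⁆ ^ j * (y * w ^ j) := by
            intro j
            induction j with
            | zero => simp
            | succ j ih =>
              rw [pow_succ w, mul_assoc (w ^ j), show w * y = ⁅w, y⁆ * (y * w) by rw [commutatorElement_def]; group,
                ← mul_assoc (w ^ j), hcz (w ^ j), mul_assoc ⁅w, y⁆, ← mul_assoc (w ^ j) y, ih, pow_succ' (⁅w, y⁆)]
              group
          have h1 := hpow p
          rw [show ⁅w, y⁆ ^ p = 1 from hMp ▸ pow_card_mem hc, one_mul] at h1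
          exact h1.symm
        haveI : ((Subgroup.center P).subgroupOf W).Normal := inferInstance
        let ψ : W →* W ⧸ (Subgroup.center P).subgroupOf W := QuotientGroup.mk' _
        have hle : (Subgroup.center P).relIndex W ∣ p := by
          have hgen : ∀ q : W ⧸ (Subgroup.center P).subgroupOf W, q ∈ Subgroup.zpowers (ψ ⟨w, hwW⟩) := by
            intro q
            obtain ⟨⟨x, hx⟩, rfl⟩ := QuotientGroup.mk_surjective q
            obtain ⟨i, hi⟩ := hw x hx
            refine Subgroup.mem_zpowers_iff.2 ⟨i, ?_⟩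
            rw [← map_zpow]
            show (QuotientGroup.mk ((⟨w, hwW⟩ : W) ^ i) : W ⧸ _) = QuotientGroup.mk ⟨x, hx⟩
            rw [QuotientGroup.eq, Subgroup.mem_subgroupOf]
            have h2 := hMc hi
            have h8 : (w ^ i)⁻¹ * x = x * (w ^ i)⁻¹ := by
              have h9 := Subgroup.mem_center_iff.1 h2 (w ^ i)
              calc (w ^ i)⁻¹ * x = (w ^ i)⁻¹ * (x * (w ^ i)⁻¹ * w ^ i) := by rw [inv_mul_cancel_right]
                _ = (w ^ i)⁻¹ * (w ^ i * (x * (w ^ i)⁻¹)) := by rw [h9]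
                _ = _ := by group
            simp only [Subgroup.coe_mul, Subgroup.coe_inv, Subgroup.coe_zpow]
            rw [h8]
            exact h2
          show Nat.card _ ∣ p
          rw [← orderOf_eq_card_of_forall_mem_zpowers hgen]
          refine orderOf_dvd_of_pow_eq_one ?_
          rw [← map_pow]
          exact (QuotientGroup.eq_one_iff _).2 (by rw [Subgroup.mem_subgroupOf, Subgroup.coe_pow]; exact hwp)
        have h3 := Subgroup.relIndex_mul_index hZW
        rcases (Nat.dvd_prime hp).1 hle with h4 | h4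
        · left; rw [h4, one_mul] at h3; exact h3
        · right; rw [h4, mul_comm] at h3; exact h3
      have h1 := hindex N Z1 z hNcard hNZ hNc hZiff hzgen hzZ
      have h2 := hindex N' Z2 z2 hN'card hN'Z (hN'd.trans hcl) hZ2iff hz2gen hz2Z
      have hsame : deg (χ : P → ℂ) = deg (χ2 : P → ℂ) := by
        obtain ⟨a, ha⟩ : ∃ a, deg (χ : P → ℂ) = p ^ a := by
          obtain ⟨j, hj⟩ := IsPGroup.iff_card.1 hP
          obtain ⟨a, -, ha⟩ := (Nat.dvd_prime_pow hp).1 (hj ▸ deg_dvd_card χ.2)
          exact ⟨a, ha⟩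
        obtain ⟨b, hb⟩ : ∃ b, deg (χ2 : P → ℂ) = p ^ b := by
          obtain ⟨j, hj⟩ := IsPGroup.iff_card.1 hP
          obtain ⟨b, -, hb⟩ := (Nat.dvd_prime_pow hp).1 (hj ▸ deg_dvd_card χ2.2)
          exact ⟨b, hb⟩
        rw [← hχd] at h1
        rw [← hχ2d] at h2
        rw [ha, ← pow_mul] at h1
        rw [hb, ← pow_mul] at h2
        rw [ha, hb]
        congr 1
        have hinj := Nat.pow_right_injective hp.two_le
        rcases h1 with h1 | h1 <;> rcases h2 with h2 | h2
        · have := hinj (h1.trans h2.symm); omega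
        · rw [← pow_succ] at h2; have := hinj (h1.trans h2.symm); omega
        · rw [← pow_succ] at h1; have := hinj (h1.trans h2.symm); omega
        · rw [← pow_succ] at h1 h2; have := hinj (h1.trans h2.symm); omega
      refine not_le_kerC_of_nonlinear χ hχ ?_
      haveI : N.Normal := hcentral N hNc
      have hlt : N < N ⊔ N' := lt_of_le_of_ne le_sup_left fun h =>
        hne (Subgroup.eq_of_le_of_card_ge (le_sup_right.trans h.ge) (by rw [hNcard, hN'card]))
      have hall : commutator P ≤ N ⊔ N' := by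
        refine (Subgroup.eq_of_le_of_card_ge (sup_le hNd hN'd) ?_).ge
        obtain ⟨j, hj⟩ := IsPGroup.iff_card.1 (hP.to_subgroup (N ⊔ N'))
        have h5 : Nat.card N < Nat.card (N ⊔ N' : Subgroup P) :=
          lt_of_le_of_ne (Subgroup.card_le_of_le hlt.le) fun h =>
            hlt.ne (Subgroup.eq_of_le_of_card_ge hlt.le h.ge)
        rw [hNcard, hj] at h5
        rw [hd2, hj]
        refine Nat.pow_le_pow_right hp.pos ?_
        rcases (show j = 0 ∨ j = 1 ∨ 2 ≤ j by omega) with rfl | rfl | h6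
        · rw [pow_zero] at h5; exact absurd h5 (by have := hp.two_le; omega)
        · rw [pow_one] at h5; exact absurd h5 (lt_irrefl p)
        · exact h6
      exact hall.trans (sup_le hNχ (hN'χ.trans (kerC_le_of_powEq hpe hχ2 hsame.symm)))
    obtain ⟨x, y, hxy⟩ : ∃ x y : P, ⁅x, y⁆ ∉ N := by
      by_contra hc
      push Not at hc
      have h1 : commutator P ≤ N := by
        rw [commutator_def, Subgroup.commutator_le]
        exact fun a _ b _ => hc a b
      have := Subgroup.card_le_of_le h1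
      rw [hd2, hNcard, sq] at this
      nlinarith [hp.two_le]
    have hcd' : ∀ a b : P, ⁅a, b⁆ ∈ commutator P := fun a b => by
      rw [commutator_def]
      exact Subgroup.commutator_mem_commutator (Subgroup.mem_top a) (Subgroup.mem_top b)
    -- powers of commutators
    have hbil : ∀ (a b : P) (j : ℕ), ⁅a, b ^ j⁆ = ⁅a, b⁆ ^ j := by
      intro a b j
      induction j with
      | zero => simp
      | succ j ih =>
        have hz1 := Subgroup.mem_center_iff.1 (hcl (hcd' a b))
        rw [pow_succ (⁅a, b⁆), ← ih]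
        calc ⁅a, b ^ (j + 1)⁆ = ⁅a, b ^ j⁆ * (b ^ j * ⁅a, b⁆ * (b ^ j)⁻¹) := by
              simp only [commutatorElement_def, pow_succ]; group
          _ = _ := by rw [hz1 (b ^ j), mul_inv_cancel_right]
    have hcmem := hcd' x y
    have hcp : ⁅x, y⁆ ^ p ≠ 1 := fun h => hxy (by
      have h1 := hsingle (Subgroup.zpowers ⁅x, y⁆) (Subgroup.zpowers_le.2 hcmem) (by
        rw [Nat.card_zpowers]
        exact orderOf_eq_prime h fun h1 => hxy (h1 ▸ one_mem N))
      exact h1 ▸ Subgroup.mem_zpowers _)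
    refine hcp ?_
    -- `Z1` is cyclic over `N`, so one power lies in the span of the other
    have hxZ := (hpZ x).resolve_right (not_not_intro hcl)
    have hyZ := (hpZ y).resolve_right (not_not_intro hcl)
    haveI := hcentral N hNc
    haveI : Fintype (P ⧸ N) := Fintype.ofFinite _
    set X := (QuotientGroup.mk (x ^ p) : P ⧸ N)
    set Y := (QuotientGroup.mk (y ^ p) : P ⧸ N)
    have hXz : X ∈ Subgroup.zpowers (QuotientGroup.mk z : P ⧸ N) := by
      obtain ⟨i, hi⟩ := hzgen _ hxZ
      refine Subgroup.mem_zpowers_iff.2 ⟨i, ?_⟩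
      rw [← QuotientGroup.eq_one_iff, QuotientGroup.mk_mul, QuotientGroup.mk_inv, QuotientGroup.mk_zpow,
        mul_inv_eq_one] at hi
      exact hi.symm
    have hYz : Y ∈ Subgroup.zpowers (QuotientGroup.mk z : P ⧸ N) := by
      obtain ⟨i, hi⟩ := hzgen _ hyZ
      refine Subgroup.mem_zpowers_iff.2 ⟨i, ?_⟩
      rw [← QuotientGroup.eq_one_iff, QuotientGroup.mk_mul, QuotientGroup.mk_inv, QuotientGroup.mk_zpow,
        mul_inv_eq_one] at hi
      exact hi.symm
    have hcmp : ∀ (U V : P ⧸ N), U ∈ Subgroup.zpowers (QuotientGroup.mk z : P ⧸ N) →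
        V ∈ Subgroup.zpowers (QuotientGroup.mk z : P ⧸ N) → orderOf U ∣ orderOf V →
        U ∈ Subgroup.zpowers V := by
      intro U V hU hV hdvd
      set C := Subgroup.zpowers (QuotientGroup.mk z : P ⧸ N)
      by_contra hne
      have hb := IsCyclic.card_pow_eq_one_le (α := C) (orderOf_pos V)
      have hsub : insert (⟨U, hU⟩ : C) (Finset.univ.filter fun w : C => w ∈ Subgroup.zpowers (⟨V, hV⟩ : C)) ⊆
          Finset.univ.filter fun w : C => w ^ orderOf V = 1 := by
        intro w hw
        rw [Finset.mem_filter]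
        refine ⟨Finset.mem_univ _, orderOf_dvd_iff_pow_eq_one.1 ?_⟩
        rcases Finset.mem_insert.1 hw with rfl | hw
        · rwa [← Subgroup.orderOf_coe]
        · refine (orderOf_dvd_of_mem_zpowers (Finset.mem_filter.1 hw).2).trans ?_
          rw [← Subgroup.orderOf_coe]
      have h6 := (Finset.card_le_card hsub).trans hb
      rw [Finset.card_insert_of_notMem (fun h => hne (by
        obtain ⟨i, hi⟩ := Subgroup.mem_zpowers_iff.1 (Finset.mem_filter.1 h).2
        exact Subgroup.mem_zpowers_iff.2 ⟨i, by simpa using congrArg Subtype.val hi⟩)),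
        ← Fintype.card_subtype, ← Nat.card_eq_fintype_card, Nat.card_zpowers, ← Subgroup.orderOf_coe] at h6
      simp at h6
    have hkey : ∀ a b : P, (QuotientGroup.mk (b ^ p) : P ⧸ N) ∈ Subgroup.zpowers (QuotientGroup.mk (a ^ p) : P ⧸ N) →
        ⁅a, b⁆ ^ p = 1 := by
      intro a b hab
      obtain ⟨i, hi⟩ := Subgroup.mem_zpowers_iff.1 hab
      rw [← QuotientGroup.mk_zpow, QuotientGroup.eq] at hi
      obtain ⟨m, hm, hb⟩ : ∃ m ∈ N, b ^ p = (a ^ p) ^ i * m := ⟨_, hi, by group⟩
      rw [← hbil, hb, commutatorElement_eq_one_iff_mul_comm]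
      exact (((Commute.refl a).pow_right p).zpow_right i).mul_right (Subgroup.mem_center_iff.1 (hNc hm) a)
    obtain ⟨i₁, hi₁⟩ := (IsPGroup.iff_orderOf.1 (hP.to_quotient N)) X
    obtain ⟨i₂, hi₂⟩ := (IsPGroup.iff_orderOf.1 (hP.to_quotient N)) Y
    rcases le_total i₁ i₂ with hle | hle
    · have := hkey y x (hcmp X Y hXz hYz (by rw [hi₁, hi₂]; exact pow_dvd_pow p hle))
      rw [← commutatorElement_inv, inv_pow, this, inv_one]
    · exact hkey x y (hcmp Y X hYz hXz (by rw [hi₁, hi₂]; exact pow_dvd_pow p hle))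
  · -- class three
    obtain ⟨c, hc, hcc⟩ := SetLike.not_le_iff_exists.1 hcl
    haveI := hcentral N hNc
    obtain ⟨i, hi⟩ := hzgen c (hdZ hc)
    have hpi : ¬ (p : ℤ) ∣ i := by
      rintro ⟨j, rfl⟩
      refine hcc ?_
      have h1 : z ^ ((p : ℤ) * j) ∈ Subgroup.center P := by
        rw [zpow_mul, zpow_natCast]
        exact zpow_mem (hZpow z hzZ) j
      have h2 := mul_mem (hNc hi) h1
      rwa [inv_mul_cancel_right] at h2
    have hZ1eq : Z1 = commutator P := by
      refine le_antisymm (fun x hx => ?_) hdZ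
      obtain ⟨j, hj⟩ := hzgen x hx
      have hzd : z ∈ commutator P := by
        obtain ⟨o, ho⟩ := IsPGroup.iff_orderOf.1 hP z
        have hzi : z ^ i ∈ commutator P := by
          have h1 : c * (z ^ i)⁻¹ ∈ commutator P := hNd hi
          have h2 := mul_mem (inv_mem h1) hc
          simpa [mul_assoc] using h2
        have hgcd : Int.gcd i ((p : ℤ) ^ o) = 1 := by
          rw [Int.gcd_eq_natAbs, Int.natAbs_pow, Int.natAbs_natCast]
          exact Nat.Coprime.pow_right o ((hp.coprime_iff_not_dvd.2 fun h => hpi (Int.natCast_dvd.2 h)).symm)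
        have h3 := Int.gcd_eq_gcd_ab i ((p : ℤ) ^ o)
        rw [hgcd, Nat.cast_one] at h3
        have h4 : z = (z ^ i) ^ Int.gcdA i ((p : ℤ) ^ o) := by
          have h8 : z ^ (((p : ℤ) ^ o) * Int.gcdB i ((p : ℤ) ^ o)) = 1 := by
            rw [zpow_mul, ← Nat.cast_pow, zpow_natCast, ← ho, pow_orderOf_eq_one, one_zpow]
          conv_lhs => rw [← zpow_one z, h3, zpow_add, h8, mul_one, zpow_mul]
        rw [h4]
        exact zpow_mem hzi _
      have h5 := mul_mem (hNd hj) (zpow_mem hzd j)
      rwa [inv_mul_cancel_right] at h5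
    set C := Subgroup.centralizer (commutator P : Set P) with hC
    have hNC : N ≤ C := fun x hx => Subgroup.mem_centralizer_iff.2 fun w _ =>
      Subgroup.mem_center_iff.1 (hNc hx) w
    have h3sub : ⁅C, C⁆ ≤ Subgroup.center P := by
      have h1 : ⁅⁅C, (⊤ : Subgroup P)⁆, C⁆ = ⊥ := by
        rw [Subgroup.commutator_eq_bot_iff_le_centralizer]
        refine (Subgroup.commutator_mono le_top le_rfl).trans ?_
        rw [← commutator_def]
        intro w hw
        exact Subgroup.mem_centralizer_iff.2 fun v hv => (Subgroup.mem_centralizer_iff.1 hv w hw).symm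
      have h2 : ⁅⁅(⊤ : Subgroup P), C⁆, C⁆ = ⊥ := by rwa [Subgroup.commutator_comm ⊤ C]
      have h3 := Subgroup.commutator_commutator_eq_bot_of_rotate h1 h2
      rw [Subgroup.commutator_eq_bot_iff_le_centralizer] at h3
      intro w hw
      exact Subgroup.mem_center_iff.2 fun v => (Subgroup.mem_centralizer_iff.1 (h3 hw) v (Subgroup.mem_top v))
    have hCN : ∀ a ∈ C, ∀ b ∈ C, ⁅a, b⁆ ∈ N := by
      intro a ha b hb
      have h1 : ⁅a, b⁆ ∈ commutator P ⊓ Subgroup.center P :=
        ⟨by rw [commutator_def]; exact Subgroup.commutator_mem_commutator (Subgroup.mem_top a) (Subgroup.mem_top b),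
          h3sub (Subgroup.commutator_mem_commutator ha hb)⟩
      have h2 : commutator P ⊓ Subgroup.center P = N := by
        refine (Subgroup.eq_of_le_of_card_ge (le_inf hNd hNc) ?_).symm
        obtain ⟨j, hj2, hj⟩ := (Nat.dvd_prime_pow hp).1 (hd2 ▸ Subgroup.card_dvd_of_le
          (inf_le_left : commutator P ⊓ Subgroup.center P ≤ commutator P))
        rw [hj, hNcard]
        have : j ≠ 2 := fun h2 => hcl ((Subgroup.eq_of_le_of_card_ge inf_le_left (by rw [hd2, hj, h2])).ge.trans inf_le_right)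
        calc p ^ j ≤ p ^ 1 := Nat.pow_le_pow_right hp.pos (by omega)
          _ = p := pow_one p
      rwa [h2] at h1
    have hCeq : C = Subgroup.centralizer ({c} : Set P) := by
      refine le_antisymm (Subgroup.centralizer_le (Set.singleton_subset_iff.2 hc)) fun a ha => ?_
      refine Subgroup.mem_centralizer_iff.2 fun w hw => ?_
      have hsup : commutator P ≤ N ⊔ Subgroup.zpowers c := by
        refine (Subgroup.eq_of_le_of_card_ge (sup_le hNd (Subgroup.zpowers_le.2 hc)) ?_).ge
        obtain ⟨j, -, hj⟩ := (Nat.dvd_prime_pow hp).1 (hd2 ▸ Subgroup.card_dvd_of_le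
          (sup_le hNd (Subgroup.zpowers_le.2 hc)))
        rw [hd2, hj]
        refine Nat.pow_le_pow_right hp.pos ?_
        have hlt : N < N ⊔ Subgroup.zpowers c := lt_of_le_of_ne le_sup_left fun h =>
          hcc (hNc (h ▸ Subgroup.mem_sup_right (Subgroup.mem_zpowers c)))
        have h5 : p < p ^ j := by
          rw [← hj]
          calc p = Nat.card N := hNcard.symm
            _ < _ := lt_of_le_of_ne (Subgroup.card_le_of_le hlt.le) fun h =>
              hlt.ne (Subgroup.eq_of_le_of_card_ge hlt.le h.ge)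
        exact (Nat.pow_lt_pow_iff_right hp.one_lt).1 (by rwa [pow_one])
      have hle : N ⊔ Subgroup.zpowers c ≤ Subgroup.centralizer ({a} : Set P) := sup_le
        (fun v hv => Subgroup.mem_centralizer_singleton_iff.2 (Subgroup.mem_center_iff.1 (hNc hv) a).symm)
        (Subgroup.zpowers_le.2 (Subgroup.mem_centralizer_singleton_iff.2
          (Subgroup.mem_centralizer_iff.1 ha c (Set.mem_singleton c))))
      exact Subgroup.mem_centralizer_singleton_iff.1 (hle (hsup hw))
    have hCidx : C.index ≤ p := by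
      rw [hCeq, ← card_conjClass_eq_index, ← hNcard]
      refine Nat.card_le_card_of_injective (fun v => (⟨(v : P) * c⁻¹, ?_⟩ : N)) fun v w hvw =>
        Subtype.ext (mul_right_cancel (congrArg Subtype.val hvw))
      obtain ⟨t, ht⟩ := isConj_iff.1 v.2
      rw [← ht, ← commutatorElement_def]
      have h6 := (hZiff c).1 (hdZ hc) t
      rw [← commutatorElement_inv]
      exact inv_mem h6
    have hdp : deg (χ : P → ℂ) = p := by
      obtain ⟨j, hj⟩ := IsPGroup.iff_card.1 hP
      obtain ⟨a, -, ha⟩ := (Nat.dvd_prime_pow hp).1 (hj ▸ deg_dvd_card χ.2)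
      have h1 := (hχA C hNC hCN).trans hCidx
      rw [ha] at h1 hχ ⊢
      have : a ≤ 1 := (Nat.pow_le_pow_iff_right hp.one_lt).1 (by rwa [pow_one])
      have : a ≠ 0 := fun h => hχ (by rw [h, pow_zero])
      rw [show a = 1 by omega, pow_one]
    have hPcard : Nat.card P = p ^ 4 := by
      rw [← Z1.card_mul_index, ← hχd, hdp, hZ1eq, hd2]
      ring
    obtain ⟨d, hd, hd1⟩ : ∃ d ∈ N, d ≠ 1 := by
      by_contra hcon
      push Not at hcon
      exact hp.ne_one (by rw [← hNcard, (Subgroup.eq_bot_iff_forall _).2 hcon, Subgroup.card_bot])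
    obtain ⟨ψ, hψ, hdψ⟩ := exists_nonlinear_of_ne_one d (hNd hd) hd1
    have hψp : deg (ψ : P → ℂ) = p := by
      obtain ⟨a, -, ha⟩ := (Nat.dvd_prime_pow hp).1 (hPcard ▸ deg_dvd_card ψ.2)
      have h1 := card_cz_mul_sq_le ψ
      have h2 : p ≤ Nat.card (cz ψ) := by
        rw [← hNcard]
        refine Subgroup.card_le_of_le fun v hv => (mem_cz_iff_comm ψ v).2 fun w => ?_
        rw [← Subgroup.mem_center_iff.1 (hNc hv) w, mul_inv_cancel_right, mul_inv_cancel]
        exact one_mem _
      rw [ha, hPcard] at h1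
      have h3 : p ^ (1 + 2 * a) ≤ p ^ 4 := by
        rw [pow_add, pow_one, mul_comm 2 a, pow_mul]
        exact (Nat.mul_le_mul_right _ h2).trans h1
      have h4 := (Nat.pow_le_pow_iff_right hp.one_lt).1 h3
      have : a ≠ 0 := fun h => hψ (by rw [ha, h, pow_zero])
      rw [ha, show a = 1 by omega, pow_one]
    exact hdψ (kerC_le_of_powEq hpe hχ (hdp.trans hψp.symm) (hNχ hd))

end Cfsg.Agent.Char.GalDeg
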