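import Cfsg.Agent.Lib.Char.ZStar

/-!
# Isolated 2-elements are central modulo the odd core
-/

set_option autoImplicit false
set_option linter.unusedSectionVars false
set_option linter.style.haveILetI false

namespace Cfsg.Agent.Char

open Cfsg

universe u

variable {G : Type u} [Group G] [Finite G]

/-- Sylow conjugation inside a product with a normal subgroup of odd order. -/
theorem exists_conj_le {T K U N : Subgroup G} [N.Normal] (hN : Odd (Nat.card N))
    (hT : IsPGroup 2 T) (hU : IsPGroup 2 U) (hTK : T ≤ K) (hK : K ≤ T ⊔ N) (hUK : U ≤ K) :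
    ∃ a ∈ K, ∀ u ∈ U, a * u * a⁻¹ ∈ T := by
  haveI : Fact (Nat.Prime 2) := ⟨Nat.prime_two⟩
  have h1 : T.relIndex (T ⊔ N) ∣ Nat.card N := by
    have e1 : T.relIndex (T ⊔ N) * Nat.card T = Nat.card (T ⊔ N : Subgroup G) := by
      rw [← Subgroup.relIndex_bot_left T, ← Subgroup.relIndex_bot_left (T ⊔ N), mul_comm,
        Subgroup.relIndex_mul_relIndex _ _ _ bot_le le_sup_left]
    have e2 : Nat.card N * N.relIndex (T ⊔ N) = Nat.card (T ⊔ N : Subgroup G) := by
      rw [← Subgroup.relIndex_bot_left N, ← Subgroup.relIndex_bot_left (T ⊔ N),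
        Subgroup.relIndex_mul_relIndex _ _ _ bot_le le_sup_right]
    rw [Subgroup.relIndex_sup_right] at e2
    obtain ⟨c, hc⟩ := Subgroup.relIndex_dvd_card N T
    refine ⟨c, Nat.eq_of_mul_eq_mul_right (Nat.card_pos (α := T)) ?_⟩
    calc Nat.card N * Nat.card T = Nat.card N * (N.relIndex T * c) := by rw [← hc]
      _ = T.relIndex (T ⊔ N) * Nat.card T * c := by rw [e1, ← e2, mul_assoc]
      _ = T.relIndex (T ⊔ N) * c * Nat.card T := by ring
  have h2 : Odd (T.subgroupOf K).index := hN.of_dvd_nat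
    ((Dvd.intro _ (Subgroup.relIndex_mul_relIndex T K (T ⊔ N) hTK hK)).trans h1)
  have hTp : IsPGroup 2 (T.subgroupOf K) := hT.comap_subtype
  let P : Sylow 2 K := hTp.toSylow (Nat.two_dvd_ne_zero.mpr (Nat.odd_iff.mp h2))
  have hUp : IsPGroup 2 (U.subgroupOf K) := hU.comap_subtype
  obtain ⟨Q, hQ⟩ := hUp.exists_le_sylow
  obtain ⟨a, ha⟩ := MulAction.exists_smul_eq K Q P
  refine ⟨a, a.2, fun u hu => ?_⟩
  have h3 : a * ⟨u, hUK hu⟩ * a⁻¹ ∈ (P : Subgroup K) := by
    rw [← ha]
    exact Subgroup.mem_map_of_mem _ (hQ (Subgroup.mem_subgroupOf.mpr hu))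
  exact Subgroup.mem_subgroupOf.mp h3

/-- With trivial odd core, the odd core of the quotient by a central involution is trivial. -/
theorem comap_oddCore_eq (hO : oddCore G = ⊥) {z : G} (hzc : ∀ g : G, z * g = g * z)
    (hz2 : orderOf z = 2) [hZn : (Subgroup.zpowers z).Normal] :
    (oddCore (G ⧸ Subgroup.zpowers z)).comap (QuotientGroup.mk' (Subgroup.zpowers z)) =
      Subgroup.zpowers z := by
  set Z := Subgroup.zpowers z with hZdef
  have hZcard : Nat.card Z = 2 := by rw [Nat.card_zpowers, hz2]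
  set K := (oddCore (G ⧸ Z)).comap (QuotientGroup.mk' Z) with hKdef
  have hZK : Z ≤ K := fun a ha => by
    simp [hKdef, (QuotientGroup.eq_one_iff a).2 ha]
  set Z' := Z.subgroupOf K
  haveI : Z'.Normal := hZn.comap _
  have hZ'card : Nat.card Z' = 2 := by
    rw [Nat.card_congr (Subgroup.subgroupOfEquivOfLe hZK).toEquiv, hZcard]
  have hidx : Z'.index = Nat.card (oddCore (G ⧸ Z)) := by
    have h2 := Subgroup.relIndex_ker (f := QuotientGroup.mk' Z) (K := K)
    rwa [QuotientGroup.ker_mk', Subgroup.map_comap_eq_self_of_surjective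
      (QuotientGroup.mk'_surjective Z)] at h2
  have hcop : (Nat.card Z').Coprime Z'.index := by
    rw [hZ'card, hidx]
    exact Nat.coprime_two_left.mpr (card_oddCore_odd _)
  obtain ⟨N, hN⟩ := Subgroup.exists_right_complement'_of_coprime hcop
  haveI : N.Normal := by
    refine Subgroup.normalizer_eq_top_iff.mp
      (top_le_iff.mp (hN.sup_eq_top ▸ sup_le ?_ Subgroup.le_normalizer))
    intro a ha
    rw [Subgroup.mem_normalizer_iff]
    intro n
    have hca : ∀ b : K, a * b = b * a := fun b => by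
      obtain ⟨k, hk⟩ := Subgroup.mem_zpowers_iff.mp (Subgroup.mem_subgroupOf.mp ha)
      refine Subtype.ext ?_
      rw [Subgroup.coe_mul, Subgroup.coe_mul, ← hk]
      exact (Commute.zpow_left (hzc b) k).eq
    rw [hca n, mul_inv_cancel_right]
  have hNcard : Odd (Nat.card N) := by
    have h := hN.card_mul_card
    rw [hZ'card, ← Z'.index_mul_card, hZ'card, mul_comm 2] at h
    rw [Nat.eq_of_mul_eq_mul_right two_pos h, hidx]
    exact card_oddCore_odd _
  haveI : K.Normal := inferInstance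
  have hNbot : N = ⊥ := by
    rw [eq_bot_iff, ← oddCore_normal_eq_bot hO K]
    exact Fusion.le_pPrimeCore (Nat.coprime_two_right.mpr hNcard)
  rw [hNbot, Subgroup.isComplement'_bot_right] at hN
  exact le_antisymm (fun a ha => Subgroup.mem_subgroupOf.mp
    (hN ▸ Subgroup.mem_top (⟨a, ha⟩ : K) : (⟨a, ha⟩ : K) ∈ Z')) hZK

theorem isolatedElt_aux : ∀ (N : ℕ) (G : Type u) [Group G] [Finite G], Nat.card G = N →
    ∀ (S : Sylow 2 G) (x : G), x ∈ (S : Subgroup G) →
      (∀ y ∈ Subgroup.zpowers x, ∀ g : G, g * y * g⁻¹ ∈ (S : Subgroup G) → g * y * g⁻¹ = y) →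
      ∀ g : G, x * g * x⁻¹ * g⁻¹ ∈ oddCore G := by
  intro N
  induction N using Nat.strong_induction_on with
  | _ N ih =>
    intro G _ _ hN S x hxS hyp
    classical
    haveI : Fact (Nat.Prime 2) := ⟨Nat.prime_two⟩
    have hsub : ∀ y ∈ Subgroup.zpowers x, y ∈ (S : Subgroup G) :=
      Subgroup.zpowers_le.mpr hxS
    by_cases hO : oddCore G = ⊥
    swap
    · set π := QuotientGroup.mk' (oddCore G) with hπ
      have hlt : Nat.card (G ⧸ oddCore G) < Nat.card G := by
        rw [Subgroup.card_eq_card_quotient_mul_card_subgroup (oddCore G)]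
        exact lt_mul_of_one_lt_right Nat.card_pos ((Subgroup.one_lt_card_iff_ne_bot _).mpr hO)
      have hker : ∀ g : G, g ∈ oddCore G ↔ π g = 1 :=
        fun g => (QuotientGroup.eq_one_iff g).symm
      let Sb : Sylow 2 (G ⧸ oddCore G) := S.mapSurjective (QuotientGroup.mk'_surjective _)
      have hyp' : ∀ y ∈ Subgroup.zpowers (π x), ∀ g, g * y * g⁻¹ ∈ (Sb : Subgroup _) →
          g * y * g⁻¹ = y := by
        intro y hy g
        obtain ⟨k, rfl⟩ := Subgroup.mem_zpowers_iff.mp hy
        obtain ⟨h, rfl⟩ := QuotientGroup.mk'_surjective (oddCore G) g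
        intro hm
        have hy' : x ^ k ∈ Subgroup.zpowers x := zpow_mem (Subgroup.mem_zpowers x) k
        rw [← map_zpow, ← map_inv, ← map_mul, ← map_mul] at hm ⊢
        set u := h * x ^ k * h⁻¹ with hu
        obtain ⟨s, hs, hsu⟩ := hm
        have huK : u ∈ (S : Subgroup G) ⊔ oddCore G := by
          have h1 : s⁻¹ * u ∈ oddCore G := by
            rw [hker, map_mul, map_inv]
            exact inv_mul_eq_one.mpr hsu
          have := mul_mem (Subgroup.mem_sup_left hs)
            (Subgroup.mem_sup_right (S := (S : Subgroup G)) h1)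
          rwa [mul_inv_cancel_left] at this
        have hUp : IsPGroup 2 (Subgroup.zpowers u) := by
          refine (S.2.to_le (Subgroup.zpowers_le.mpr (hsub _ hy'))).map
            (MulAut.conj h).toMonoidHom |>.to_le ?_
          rw [Subgroup.zpowers_le]
          exact Subgroup.mem_map_of_mem _ (Subgroup.mem_zpowers _)
        obtain ⟨a, haK, ha⟩ := exists_conj_le (card_oddCore_odd G) S.2 hUp le_sup_left le_rfl
          (Subgroup.zpowers_le.mpr huK)
        have hau := ha u (Subgroup.mem_zpowers u)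
        have h2 := hyp _ hy' (a * h) (by
          rw [show a * h * x ^ k * (a * h)⁻¹ = a * u * a⁻¹ by rw [hu]; group]
          exact hau)
        rw [show a * h * x ^ k * (a * h)⁻¹ = a * u * a⁻¹ by rw [hu]; group] at h2
        have haim : π a ∈ (S : Subgroup G).map π := by
          have h3 := Subgroup.mem_map_of_mem π haK
          rwa [Subgroup.map_sup, hπ, QuotientGroup.map_mk'_self, sup_bot_eq] at h3
        obtain ⟨w, hw, hwa⟩ := haim
        have h4 : w * x ^ k * w⁻¹ = x ^ k :=
          hyp _ hy' w (mul_mem (mul_mem hw (hsub _ hy')) (inv_mem hw))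
        have h5 : π a * π u * (π a)⁻¹ = π a * π (x ^ k) * (π a)⁻¹ := by
          rw [← map_inv, ← map_mul, ← map_mul, h2, map_inv]
          conv_lhs => rw [← h4, map_mul, map_mul, map_inv, hwa]
        exact mul_left_cancel (mul_right_cancel h5)
      intro g
      have h := ih _ (hN ▸ hlt) (G ⧸ oddCore G) rfl Sb (π x) (Subgroup.mem_map_of_mem π hxS)
        hyp' (π g)
      have hb : oddCore (G ⧸ oddCore G) = ⊥ :=
        Fusion.pPrimeCore_quotient_eq_bot (p := 2) (G := G)
      rw [hb, Subgroup.mem_bot] at h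
      rw [hker, map_mul, map_mul, map_mul, map_inv, map_inv]
      exact h
    intro g
    by_cases hx1 : x = 1
    · subst hx1; simp
    obtain ⟨k, hk⟩ := IsPGroup.iff_orderOf.mp S.2 ⟨x, hxS⟩
    rw [← Subgroup.orderOf_coe] at hk
    obtain ⟨j, rfl⟩ : ∃ j, k = j + 1 := Nat.exists_eq_succ_of_ne_zero fun e => hx1 (by
      rw [e, pow_zero] at hk
      exact orderOf_eq_one_iff.mp hk)
    set z := x ^ 2 ^ j with hzdef
    have hzmem : z ∈ Subgroup.zpowers x := pow_mem (Subgroup.mem_zpowers x) _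
    have hz2 : orderOf z = 2 := by
      have hk' : orderOf x = 2 ^ (j + 1) := hk
      rw [hzdef, orderOf_pow' _ (pow_ne_zero _ two_ne_zero), hk', pow_succ,
        Nat.gcd_mul_right_left, Nat.mul_div_cancel_left _ (Nat.two_pow_pos j)]
    have hz : OddInvol z := oddInvol_of_isolated_sylow hz2 (hsub _ hzmem) (hyp z hzmem)
    have hzc := zStar_central hz hO
    set Z := Subgroup.zpowers z with hZdef
    haveI hZn : Z.Normal := by
      refine ⟨fun n hn a => ?_⟩
      obtain ⟨i, rfl⟩ := Subgroup.mem_zpowers_iff.mp hn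
      have hc : Commute a (z ^ i) := Commute.zpow_right (hzc a).symm i
      rwa [hc.eq, mul_inv_cancel_right]
    have hZcard : Nat.card Z = 2 := by rw [Nat.card_zpowers, hz2]
    have hZS : Z ≤ (S : Subgroup G) := Subgroup.zpowers_le.mpr (hsub _ hzmem)
    set π := QuotientGroup.mk' Z with hπ
    have hlt : Nat.card (G ⧸ Z) < Nat.card G := by
      rw [Subgroup.card_eq_card_quotient_mul_card_subgroup Z, hZcard]
      have := Nat.card_pos (α := G ⧸ Z)
      omega
    let Sb : Sylow 2 (G ⧸ Z) := S.mapSurjective (QuotientGroup.mk'_surjective _)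
    have hSmem : ∀ u : G, π u ∈ (Sb : Subgroup (G ⧸ Z)) → u ∈ (S : Subgroup G) := by
      intro u hu
      have h1 : u ∈ ((S : Subgroup G).map π).comap π := hu
      rwa [Subgroup.comap_map_eq_self (by rw [hπ, QuotientGroup.ker_mk']; exact hZS)] at h1
    have hyp' : ∀ y ∈ Subgroup.zpowers (π x), ∀ g, g * y * g⁻¹ ∈ (Sb : Subgroup _) →
        g * y * g⁻¹ = y := by
      intro y hy g
      obtain ⟨i, rfl⟩ := Subgroup.mem_zpowers_iff.mp hy
      obtain ⟨h, rfl⟩ := QuotientGroup.mk'_surjective Z g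
      intro hm
      rw [← map_zpow, ← map_inv, ← map_mul, ← map_mul] at hm ⊢
      rw [hyp _ (zpow_mem (Subgroup.mem_zpowers x) i) h (hSmem _ hm)]
    have h := ih _ (hN ▸ hlt) (G ⧸ Z) rfl Sb (π x) (Subgroup.mem_map_of_mem π hxS) hyp' (π g)
    set K := (oddCore (G ⧸ Z)).comap π with hKdef
    have hwK : x * g * x⁻¹ * g⁻¹ ∈ K := by
      rw [hKdef, Subgroup.mem_comap]
      simpa using h
    have hKZ : K = Z := comap_oddCore_eq hO hzc hz2
    rw [hKZ] at hwK
    have hS' : g * x⁻¹ * g⁻¹ ∈ (S : Subgroup G) := by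
      have := mul_mem (inv_mem hxS) (hZS hwK)
      rwa [show x⁻¹ * (x * g * x⁻¹ * g⁻¹) = g * x⁻¹ * g⁻¹ by group] at this
    have h2 := hyp _ (inv_mem (Subgroup.mem_zpowers x)) g hS'
    rw [show x * g * x⁻¹ * g⁻¹ = x * (g * x⁻¹ * g⁻¹) by group, h2, mul_inv_cancel]
    exact one_mem _

/-- A 2-element all of whose powers are isolated in a Sylow subgroup is central modulo the odd
core. -/
theorem isolatedElt_central {S : Sylow 2 G} {x : G} (hxS : x ∈ (S : Subgroup G))
    (hyp : ∀ y ∈ Subgroup.zpowers x, ∀ g : G, g * y * g⁻¹ ∈ (S : Subgroup G) → g * y * g⁻¹ = y) :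
    ∀ g : G, x * g * x⁻¹ * g⁻¹ ∈ oddCore G :=
  isolatedElt_aux _ G rfl S x hxS hyp

end Cfsg.Agent.Char
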