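import Mathlib

/-!
Linearised polynomials over a finite field of characteristic two, and the anisotropic bound
for quadratic maps into such a field.
-/

set_option autoImplicit false

namespace Cfsg.Agent.Char.SuzukiField

open Finset

variable {F : Type*} [Field F] [Fintype F] [CharP F 2] {n : ℕ}

theorem pow_card' (hF : Fintype.card F = 2 ^ n) (t : F) : t ^ 2 ^ n = t := by
  rw [← hF]; exact FiniteField.pow_card t

theorem pow_mod' (hF : Fintype.card F = 2 ^ n) (t : F) (k : ℕ) : t ^ 2 ^ k = t ^ 2 ^ (k % n) := by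
  conv_lhs => rw [← Nat.div_add_mod k n, pow_add, pow_mul]
  congr 1
  rw [pow_mul, ← hF]
  exact FiniteField.pow_card_pow _ t

theorem pow_two_inj (k : ℕ) : Function.Injective fun t : F => t ^ 2 ^ k := by
  intro s t h
  have h' : (s + t) ^ 2 ^ k = 0 := by
    haveI : ExpChar F 2 := ExpChar.prime Nat.prime_two
    rw [add_pow_expChar_pow, show s ^ 2 ^ k = t ^ 2 ^ k from h, CharTwo.add_self_eq_zero]
  exact CharTwo.add_eq_zero.1 (pow_eq_zero_iff (by positivity) |>.1 h')

theorem add_pow' (s t : F) (k : ℕ) : (s + t) ^ 2 ^ k = s ^ 2 ^ k + t ^ 2 ^ k := by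
  haveI : ExpChar F 2 := ExpChar.prime Nat.prime_two
  exact add_pow_expChar_pow s t 2 k

theorem frob_indep (hF : Fintype.card F = 2 ^ n) (c : ℕ → F)
    (h : ∀ t : F, ∑ i ∈ range n, c i * t ^ 2 ^ i = 0) : ∀ i < n, c i = 0 := by
  classical
  let p : Polynomial F := ∑ i ∈ range n, Polynomial.C (c i) * Polynomial.X ^ 2 ^ i
  have hp : p = 0 := by
    refine Polynomial.eq_zero_of_natDegree_lt_card_of_eval_eq_zero p (ι := F) (f := id) Function.injective_id
      (fun t => ?_) ?_
    · simpa [p, Polynomial.eval_finsetSum] using h t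
    · rw [hF]
      rcases Nat.eq_zero_or_pos n with hn | hn
      · subst hn; simp [p]
      refine lt_of_le_of_lt (Polynomial.natDegree_sum_le_of_forall_le _ _ (n := 2 ^ (n - 1)) fun i hi => ?_)
        (Nat.pow_lt_pow_right (by norm_num) (by omega))
      refine (Polynomial.natDegree_C_mul_X_pow_le _ _).trans (Nat.pow_le_pow_right (by norm_num) ?_)
      have := Finset.mem_range.1 hi
      omega
  intro i hi
  have := congrArg (fun q => Polynomial.coeff q (2 ^ i)) hp
  simp only [p, Polynomial.finsetSum_coeff, Polynomial.coeff_C_mul, Polynomial.coeff_X_pow,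
    Polynomial.coeff_zero] at this
  rw [Finset.sum_eq_single i] at this
  · simpa using this
  · intro j _ hj
    rw [if_neg fun e => hj (Nat.pow_right_injective (le_refl 2) e).symm, mul_zero]
  · intro h'; exact absurd (Finset.mem_range.2 hi) h'

theorem frob_expand (hn : n ≠ 0) (hF : Fintype.card F = 2 ^ n) (f : F →+ F) :
    ∃ w : ℕ → F, ∀ t, f t = ∑ i ∈ range n, w i * t ^ 2 ^ i := by
  classical
  haveI : Fact (Nat.Prime 2) := ⟨Nat.prime_two⟩
  letI : Algebra (ZMod 2) F := ZMod.algebra F 2
  let Ψ : (Fin n → F) → (F →+ F) := fun w =>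
    AddMonoidHom.mk' (fun t => ∑ i : Fin n, w i * t ^ 2 ^ (i : ℕ)) fun s t => by
      simp only [add_pow', mul_add, Finset.sum_add_distrib]
  have hinj : Function.Injective Ψ := by
    intro w w' h
    funext i
    have h' := frob_indep hF (fun j => if hj : j < n then w ⟨j, hj⟩ - w' ⟨j, hj⟩ else 0) (fun t => by
      rw [← Fin.sum_univ_eq_sum_range (fun j => (if hj : j < n then w ⟨j, hj⟩ - w' ⟨j, hj⟩ else 0) * t ^ 2 ^ j)]
      simp only [Fin.is_lt, dif_pos, sub_mul, Finset.sum_sub_distrib, Fin.eta]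
      exact sub_eq_zero.2 (DFunLike.congr_fun h t)) i.1 i.2
    simpa [sub_eq_zero] using h'
  haveI : Module.Free (ZMod 2) F := Module.Free.of_divisionRing (ZMod 2) F
  let b := Module.finBasis (ZMod 2) F
  have hr : Module.finrank (ZMod 2) F = n := by
    have h1 := Module.card_eq_pow_finrank (K := ZMod 2) (V := F)
    rw [hF, ZMod.card] at h1
    exact (Nat.pow_right_injective (le_refl 2) h1).symm
  let ι : (F →+ F) → (Fin n → F) := fun g i => g (b (Fin.cast hr.symm i))
  have hι : Function.Injective ι := by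
    intro g g' h
    have : g.toZModLinearMap 2 = g'.toZModLinearMap 2 := b.ext fun i => by
      simpa [ι] using congrFun h (Fin.cast hr i)
    exact AddMonoidHom.toZModLinearMap_injective (n := 2) this
  have hsurj : Function.Surjective (ι ∘ Ψ) := Finite.injective_iff_surjective.1 (hι.comp hinj)
  obtain ⟨w, hw⟩ := hsurj (ι f)
  refine ⟨fun i => if hi : i < n then w ⟨i, hi⟩ else 0, fun t => ?_⟩
  rw [← Fin.sum_univ_eq_sum_range (fun i => (if hi : i < n then w ⟨i, hi⟩ else 0) * t ^ 2 ^ i)]
  simp only [Fin.is_lt, dif_pos, Fin.eta]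
  exact (DFunLike.congr_fun (hι hw) t).symm

/-- The exponents occurring in a projection. -/
theorem exp_unique (hF : Fintype.card F = 2 ^ n) {σ τ j : ℕ} (hσ : σ < n) (hσ0 : σ ≠ 0) (hτ : τ < n)
    (hj : j < n) (h : ∀ l : F, l ^ 2 ^ (σ + j) * l = l ^ 2 ^ τ * l ^ 2 ^ j) : j = 0 ∧ τ = σ := by
  classical
  set a := (σ + j) % n with ha
  have han : a < n := Nat.mod_lt _ (by omega)
  have hlin : ∀ l : F, l ^ 2 ^ a + l ^ 2 ^ 0 + (l ^ 2 ^ τ + l ^ 2 ^ j) = 0 := by
    intro l
    have h1 := h (l + 1)
    rw [add_pow', add_pow', add_pow', one_pow, one_pow, one_pow] at h1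
    rw [← pow_mod' hF l (σ + j), pow_zero, pow_one]
    have h2 := h l
    rw [CharTwo.add_eq_zero]
    linear_combination h1 - h2
  have hc := frob_indep hF (fun i => (if i = a then (1 : F) else 0) + (if i = 0 then 1 else 0) +
      ((if i = τ then 1 else 0) + (if i = j then 1 else 0))) (fun t => by
    simp only [add_mul, Finset.sum_add_distrib, ite_mul, one_mul, zero_mul, Finset.sum_ite_eq',
      Finset.mem_range, han, hτ, hj, show 0 < n by omega, if_true]
    exact hlin t)
  have haj : a ≠ j := by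
    intro e
    have hmod : (σ + j) % n = j % n := by rw [← ha, e, Nat.mod_eq_of_lt hj]
    have h0 : σ % n = 0 := by
      have := Nat.ModEq.add_right_cancel' (c := j) (show σ + j ≡ 0 + j [MOD n] by rw [zero_add]; exact hmod)
      simpa [Nat.ModEq] using this
    rw [Nat.mod_eq_of_lt hσ] at h0
    exact hσ0 h0
  have h11 : (1 : F) + 1 = 0 := CharTwo.add_self_eq_zero 1
  have hA := hc a han
  simp only [if_true, if_neg haj, add_zero] at hA
  by_cases ha0 : a = 0
  · have haτ : a ≠ τ := fun e => by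
      simp [ha0, ← e, h11] at hA
    have hT := hc τ hτ
    simp only [if_true, if_neg haτ.symm, if_neg (show τ ≠ 0 from fun e => haτ (ha0.trans e.symm))] at hT
    have hτj : τ = j := by
      by_contra e
      simp [if_neg e] at hT
    subst hτj
    exfalso
    have hsq : ∀ l : F, l ^ 2 ^ τ = l := fun l => by
      have h2 := h l
      rw [pow_mod' hF l (σ + τ), ← ha, ha0, pow_zero, pow_one] at h2
      exact (CharTwo.sq_inj.1 (by rw [sq, sq]; exact h2)).symm
    have := frob_indep hF (fun i => (if i = τ then (1 : F) else 0) + (if i = 0 then 1 else 0)) (fun t => by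
      simp only [add_mul, Finset.sum_add_distrib, ite_mul, one_mul, zero_mul, Finset.sum_ite_eq',
        Finset.mem_range, hτ, show 0 < n by omega, if_true, pow_zero, pow_one, hsq, CharTwo.add_self_eq_zero]) τ hτ
    simp only [if_true, if_neg (show τ ≠ 0 from fun e => haτ (ha0.trans e.symm)), add_zero] at this
    exact one_ne_zero this
  · have haτ : a = τ := by
      by_contra e
      simp [if_neg e, if_neg ha0] at hA
    have h0 := hc 0 (by omega)
    simp only [if_true, if_neg (Ne.symm ha0), if_neg (show (0 : ℕ) ≠ τ from fun e => ha0 (haτ.trans e.symm)),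
      zero_add] at h0
    have hj0 : j = 0 := by
      by_contra e
      simp [if_neg (Ne.symm e)] at h0
    refine ⟨hj0, ?_⟩
    rw [← haτ, ha, hj0, add_zero, Nat.mod_eq_of_lt hσ]

/-- The absolute trace, with values in `{0, 1}`. -/
def tr (n : ℕ) (t : F) : F := ∑ j ∈ range n, t ^ 2 ^ j

theorem tr_add (s t : F) : tr n (s + t) = tr n s + tr n t := by
  simp only [tr, add_pow', Finset.sum_add_distrib]

theorem tr_zero : tr n (0 : F) = 0 := by
  simp only [tr]; exact Finset.sum_eq_zero fun i _ => zero_pow (by positivity)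

theorem tr_cases (hF : Fintype.card F = 2 ^ n) (t : F) : tr n t = 0 ∨ tr n t = 1 := by
  haveI : ExpChar F 2 := ExpChar.prime Nat.prime_two
  have hsq : tr n t ^ 2 = tr n t := by
    simp only [tr, sum_pow_char 2, ← pow_mul, ← pow_succ]
    rcases Nat.eq_zero_or_pos n with hn | hn
    · subst hn; simp
    obtain ⟨m, rfl⟩ : ∃ m, n = m + 1 := ⟨n - 1, by omega⟩
    rw [Finset.sum_range_succ, pow_card' hF t, Finset.sum_range_succ' (fun j => t ^ 2 ^ j), pow_zero, pow_one]
  have : tr n t * (tr n t - 1) = 0 := by linear_combination hsq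
  rcases mul_eq_zero.1 this with h | h
  · exact Or.inl h
  · exact Or.inr (sub_eq_zero.1 h)

theorem tr_surj (hn : n ≠ 0) (hF : Fintype.card F = 2 ^ n) {z : F} (hz : z ≠ 0) : ∃ a, tr n (a * z) = 1 := by
  by_contra h
  push Not at h
  have := frob_indep hF (fun _ => (1 : F)) (fun t => by
    have h' := (tr_cases hF (t * z⁻¹ * z)).resolve_right (h _)
    rw [mul_assoc, inv_mul_cancel₀ hz, mul_one] at h'
    simpa [tr] using h') 0 (Nat.pos_of_ne_zero hn)
  exact one_ne_zero this

/-- A set of additive maps closed under twisting by scalars contains its monomial components. -/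
theorem projection (hn : n ≠ 0) (hF : Fintype.card F = 2 ^ n) (R : AddSubgroup (F → F))
    (hR : ∀ f ∈ R, ∀ l : F, l ≠ 0 → (fun t => l * f (l⁻¹ * t)) ∈ R) (w : ℕ → F)
    (hw : (fun t => ∑ i ∈ range n, w i * t ^ 2 ^ i) ∈ R) (σ : ℕ) (hσ : σ < n) :
    (σ ≠ 0 → ∀ a : F, (fun t => a * w σ * t ^ 2 ^ σ) ∈ R) ∧ (σ = 0 → (fun t : F => w 0 * t) ∈ R) := by
  classical
  set f : F → F := fun t => ∑ i ∈ range n, w i * t ^ 2 ^ i with hf
  have hconj : ∀ (u : Fˣ) (t : F), (u : F) * f ((u : F)⁻¹ * t) =
      ∑ i ∈ range n, (w i * t ^ 2 ^ i) * ((u : F) * ((u⁻¹ : Fˣ) : F) ^ 2 ^ i) := by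
    intro u t
    rw [hf, Finset.mul_sum, Units.val_inv_eq_inv_val]
    refine Finset.sum_congr rfl fun i _ => ?_
    rw [mul_pow]; ring
  have hmem : ∀ b : Fˣ → F, (∀ u, b u = 0 ∨ b u = 1) →
      (fun t => ∑ u : Fˣ, b u * ((u : F) * f ((u : F)⁻¹ * t))) ∈ R := by
    intro b hb
    have : (fun t => ∑ u : Fˣ, b u * ((u : F) * f ((u : F)⁻¹ * t))) =
        ∑ u : Fˣ, fun t => b u * ((u : F) * f ((u : F)⁻¹ * t)) := by
      funext t; simp
    rw [this]
    refine sum_mem fun u _ => ?_
    rcases hb u with e | e <;> simp only [e, zero_mul, one_mul]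
    · exact zero_mem R
    · exact hR f hw u u.ne_zero
  have hcard : ((Fintype.card Fˣ : ℕ) : F) = 1 := by
    rw [Fintype.card_units, Nat.cast_sub Fintype.card_pos, hF, Nat.cast_pow, Nat.cast_one,
      show ((2 : ℕ) : F) = 0 from CharP.cast_eq_zero F 2, zero_pow hn]
    exact CharTwo.sub_eq_add (0 : F) 1 |>.trans (zero_add 1)
  have hsum : ∀ ψ : Fˣ →* F, ∑ u, ψ u = if ψ = 1 then 1 else 0 := fun ψ => by
    rw [sum_hom_units ψ]; split_ifs <;> simp [hcard]
  refine ⟨fun hσ0 a => ?_, fun hσ0 => ?_⟩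
  · have hm := hmem (fun u => tr n (a * ((u : F) ^ 2 ^ σ * ((u⁻¹ : Fˣ) : F)))) (fun u => tr_cases hF _)
    convert hm using 1
    funext t
    let ψ : ℕ → ℕ → Fˣ →* F := fun i j =>
      { toFun := fun u => (((u : F) ^ 2 ^ σ * ((u⁻¹ : Fˣ) : F)) ^ 2 ^ j) * ((u : F) * ((u⁻¹ : Fˣ) : F) ^ 2 ^ i)
        map_one' := by simp
        map_mul' := fun u v => by simp only [Units.val_mul, mul_inv_rev, mul_pow]; ring }
    have hψ : ∀ i < n, ∀ j < n, ψ i j = 1 ↔ i = σ ∧ j = 0 := by
      intro i hi j hj
      constructor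
      · intro h
        obtain ⟨h1, h2⟩ := exp_unique hF hσ hσ0 hi hj fun l => by
          by_cases hl : l = 0
          · subst hl; simp [mul_zero]
          have h' := DFunLike.congr_fun h (Units.mk0 l hl)
          simp only [ψ, MonoidHom.coe_mk, OneHom.coe_mk, Units.val_mk0, Units.val_inv_eq_inv_val,
            MonoidHom.one_apply, mul_pow, inv_pow, ← pow_mul, ← pow_add] at h'
          field_simp at h'
          linear_combination h'
        exact ⟨h2, h1⟩
      · rintro ⟨rfl, rfl⟩
        refine MonoidHom.ext fun u => ?_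
        simp only [ψ, MonoidHom.coe_mk, OneHom.coe_mk, Units.val_inv_eq_inv_val, MonoidHom.one_apply, pow_zero,
          pow_one, inv_pow]
        field_simp
    have hterm : ∀ i ∈ range n, ∑ u : Fˣ, tr n (a * ((u : F) ^ 2 ^ σ * ((u⁻¹ : Fˣ) : F))) *
        ((u : F) * ((u⁻¹ : Fˣ) : F) ^ 2 ^ i) = if i = σ then a else 0 := by
      intro i hi
      have hi' := Finset.mem_range.1 hi
      calc _ = ∑ j ∈ range n, a ^ 2 ^ j * ∑ u : Fˣ, ψ i j u := by
            simp only [tr, Finset.sum_mul, Finset.mul_sum]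
            rw [Finset.sum_comm]
            refine Finset.sum_congr rfl fun j _ => Finset.sum_congr rfl fun u _ => ?_
            simp only [ψ, MonoidHom.coe_mk, OneHom.coe_mk, mul_pow]; ring
        _ = ∑ j ∈ range n, if i = σ ∧ j = 0 then a else 0 := by
            refine Finset.sum_congr rfl fun j hj => ?_
            rw [hsum]
            have := hψ i hi' j (Finset.mem_range.1 hj)
            by_cases h : i = σ ∧ j = 0
            · rw [if_pos (this.2 h), if_pos h, h.2, pow_zero, pow_one, mul_one]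
            · rw [if_neg (fun e => h (this.1 e)), if_neg h, mul_zero]
        _ = _ := by
            by_cases h : i = σ <;> simp [h, Nat.pos_of_ne_zero hn]
    simp only [hconj, Finset.mul_sum]
    rw [Finset.sum_comm]
    rw [Finset.sum_congr rfl fun i hi => (show _ = (w i * t ^ 2 ^ i) * (if i = σ then a else 0) by
      rw [← hterm i hi, Finset.mul_sum]
      exact Finset.sum_congr rfl fun u _ => by ring)]
    rw [Finset.sum_eq_single σ (fun i _ hne => by rw [if_neg hne, mul_zero])
      (fun h => absurd (Finset.mem_range.2 hσ) h), if_pos rfl]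
    ring
  · have hm := hmem (fun _ => 1) (fun _ => Or.inr rfl)
    convert hm using 1
    funext t
    let ψ : ℕ → Fˣ →* F := fun i =>
      { toFun := fun u => (u : F) * ((u⁻¹ : Fˣ) : F) ^ 2 ^ i
        map_one' := by simp
        map_mul' := fun u v => by simp only [Units.val_mul, mul_inv_rev, mul_pow]; ring }
    simp only [hconj, one_mul]
    rw [Finset.sum_comm, Finset.sum_eq_single 0]
    · rw [← Finset.mul_sum, show (∑ u : Fˣ, (u : F) * ((u⁻¹ : Fˣ) : F) ^ 2 ^ 0) = ∑ u, ψ 0 u from rfl, hsum,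
        if_pos (MonoidHom.ext fun u => by simp [ψ]), pow_zero, pow_one, mul_one]
    · intro i hi hi0
      rw [← Finset.mul_sum, show (∑ u : Fˣ, (u : F) * ((u⁻¹ : Fˣ) : F) ^ 2 ^ i) = ∑ u, ψ i u from rfl, hsum,
        if_neg, mul_zero]
      intro h
      have hid := frob_indep hF (fun j => (if j = i then (1 : F) else 0) + (if j = 0 then 1 else 0)) (fun s => by
        simp only [add_mul, Finset.sum_add_distrib, ite_mul, one_mul, zero_mul, Finset.sum_ite_eq', hi,
          Finset.mem_range, Nat.pos_of_ne_zero hn, if_true, pow_zero, pow_one]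
        by_cases hs : s = 0
        · simp [hs]
        have h' := DFunLike.congr_fun h (Units.mk0 s hs)
        simp only [ψ, MonoidHom.coe_mk, OneHom.coe_mk, Units.val_mk0, Units.val_inv_eq_inv_val,
          MonoidHom.one_apply, inv_pow] at h'
        rw [mul_inv_eq_one₀ (pow_ne_zero _ hs)] at h'
        rw [← h', CharTwo.add_self_eq_zero]) i (Finset.mem_range.1 hi)
      simp only [if_true, if_neg hi0, add_zero] at hid
      exact one_ne_zero hid
    · intro h; exact absurd (Finset.mem_range.2 (Nat.pos_of_ne_zero hn)) h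

/-- A biadditive map killed by two monomials vanishes. -/
theorem cross (hF : Fintype.card F = 2 ^ n) (hn3 : 3 ≤ n) (σ τ : ℕ) (C : F → F → F)
    (hl : ∀ u u' v, C (u + u') v = C u v + C u' v) (hr : ∀ u v v', C u (v + v') = C u v + C u v')
    (h : ∀ u v, u * C u v ^ 2 ^ σ = v * C u v ^ 2 ^ τ) : ∀ u v, C u v = 0 := by
  set S := 2 ^ σ with hS
  set T := 2 ^ τ with hT
  have hvT : ∀ u v, C u v ^ T = v * C u 1 ^ T := by
    intro u v
    have h1 := h u (v + 1)
    rw [hr, add_pow', add_pow'] at h1
    have h2 := h u v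
    have h3 := h u 1
    rw [← hS, ← hT] at *
    rw [← CharTwo.add_eq_zero]
    linear_combination h2 + h3 - h1
  have huS : ∀ u v, C u v ^ S = u * C 1 v ^ S := by
    intro u v
    have h1 := h (u + 1) v
    rw [hl, add_pow', add_pow'] at h1
    have h2 := h u v
    have h3 := h 1 v
    rw [← hS, ← hT] at *
    rw [← CharTwo.add_eq_zero]
    linear_combination h1 - h2 - h3
  by_cases hc : C 1 1 = 0
  · intro u v
    have h1 : C 1 v = 0 := pow_two_inj τ (by
      show C 1 v ^ T = (0 : F) ^ T
      rw [hvT, hc, zero_pow (by positivity), mul_zero])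
    exact pow_two_inj σ (by
      show C u v ^ S = (0 : F) ^ S
      rw [huS, h1, zero_pow (by positivity), mul_zero])
  exfalso
  set c := C 1 1
  have hv : ∀ v : F, v ^ S = v ^ (2 * T) := by
    intro v
    have e1 : C 1 v ^ S = v * C 1 v ^ T := by simpa using h 1 v
    rw [hvT 1 v, ← mul_assoc, ← sq] at e1
    have e2 : (C 1 v ^ S) ^ T = (C 1 v ^ T) ^ S := by rw [← pow_mul, ← pow_mul, mul_comm S T]
    rw [e1, hvT 1 v, mul_pow, mul_pow, ← pow_mul v] at e2
    have e3 : (c ^ T) ^ S = (c ^ T) ^ T := by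
      have := h 1 1
      simp only [one_mul] at this
      rw [← pow_mul, mul_comm, pow_mul]
      first
        | rw [show c ^ S = c ^ T from this]
        | rw [show c ^ T = c ^ S from this.symm]
    rw [e3] at e2
    exact (mul_right_cancel₀ (pow_ne_zero _ (pow_ne_zero _ hc)) e2).symm
  have hu : ∀ u : F, u ^ T = u ^ (2 * S) := by
    intro u
    have e1 : C u 1 ^ T = u * C u 1 ^ S := by simpa using (h u 1).symm
    rw [huS u 1, ← mul_assoc, ← sq] at e1
    have e2 : (C u 1 ^ T) ^ S = (C u 1 ^ S) ^ T := by rw [← pow_mul, ← pow_mul, mul_comm S T]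
    rw [e1, huS u 1, mul_pow, mul_pow, ← pow_mul u] at e2
    have e3 : (c ^ S) ^ T = (c ^ S) ^ S := by
      have := h 1 1
      simp only [one_mul] at this
      rw [← pow_mul, mul_comm, pow_mul]
      first
        | rw [show c ^ S = c ^ T from this]
        | rw [show c ^ T = c ^ S from this.symm]
    rw [e3] at e2
    exact (mul_right_cancel₀ (pow_ne_zero _ (pow_ne_zero _ hc)) e2).symm
  have h4 : ∀ v : F, v ^ 2 ^ 2 = v := fun v => pow_two_inj τ (by
    show (v ^ 2 ^ 2) ^ T = v ^ T
    conv_rhs => rw [hu, show 2 * S = S * 2 by ring, pow_mul, hv, ← pow_mul]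
    rw [← pow_mul]; ring_nf)
  have := frob_indep hF (fun i => (if i = 2 then (1 : F) else 0) + (if i = 0 then 1 else 0)) (fun t => by
    simp only [add_mul, Finset.sum_add_distrib, ite_mul, one_mul, zero_mul, Finset.sum_ite_eq',
      Finset.mem_range, show 2 < n by omega, show 0 < n by omega, if_true]
    rw [h4, pow_zero, pow_one, CharTwo.add_self_eq_zero]) 2 (by omega)
  norm_num at this

theorem pow_dvd_root (k : ℕ) (s : ℤ) (h : (2 : ℤ) ^ (2 * k + 1) ∣ s ^ 2) : (2 : ℤ) ^ (k + 1) ∣ s := by
  induction k generalizing s with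
  | zero => simpa using Int.prime_two.dvd_of_dvd_pow (by simpa using h)
  | succ k ih =>
    obtain ⟨t, rfl⟩ := Int.prime_two.dvd_of_dvd_pow (dvd_trans (dvd_pow_self 2 (by omega)) h)
    rw [mul_pow, show 2 * (k + 1) + 1 = 2 + (2 * k + 1) by ring, pow_add] at h
    rw [pow_succ' _ (k + 1)]
    exact mul_dvd_mul_left 2 (ih t ((mul_dvd_mul_iff_left (by norm_num)).1 h))

/-- An anisotropic quadratic map into a space of dimension `n` lives in dimension at most `2n`. -/
theorem quad_bound (hn : n ≠ 0) (hF : Fintype.card F = 2 ^ n) {W : Type*} [Group W] [Fintype W] {r : ℕ}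
    (hW : Fintype.card W = 2 ^ r) (q : W → F) (B : W → W → F)
    (hq : ∀ x y, q (x * y) = q x + q y + B x y) (hB : ∀ x x' y, B (x * x') y = B x y + B x' y)
    (hani : ∀ x, q x = 0 ↔ x = 1) : r ≤ 2 * n := by
  classical
  by_contra hr
  push Not at hr
  let e : F → ℤ := fun x => if x = 0 then 1 else -1
  have he : ∀ x y, (x = 0 ∨ x = 1) → (y = 0 ∨ y = 1) → e (x + y) = e x * e y := by
    rintro x y (rfl | rfl) (rfl | rfl) <;> simp [e, CharTwo.add_self_eq_zero]
  let χ : F → F → ℤ := fun a z => e (tr n (a * z))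
  have hχ : ∀ a z z', χ a (z + z') = χ a z * χ a z' := fun a z z' => by
    simp only [χ]; rw [mul_add, tr_add]; exact he _ _ (tr_cases hF _) (tr_cases hF _)
  have hχ1 : ∀ a z, χ a z * χ a z = 1 := fun a z => by simp only [χ, e]; split_ifs <;> norm_num
  let S : F → ℤ := fun a => ∑ x : W, χ a (q x)
  have horth : ∀ z, ∑ a, χ a z = if z = 0 then (2 : ℤ) ^ n else 0 := by
    intro z
    split_ifs with hz
    · subst hz
      simp only [χ, mul_zero, tr_zero, e, if_true, Finset.sum_const, Finset.card_univ, hF, nsmul_eq_mul, mul_one]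
      push_cast; ring
    · obtain ⟨a0, ha0⟩ := tr_surj hn hF hz
      have : ∑ a, χ a z = ∑ a, χ (a + a0) z :=
        (Fintype.sum_equiv (Equiv.addRight a0) (fun a => χ (a + a0) z) (fun a => χ a z) fun _ => rfl).symm
      have hflip : ∀ a, χ (a + a0) z = -χ a z := fun a => by
        simp only [χ]; rw [add_mul, tr_add, he _ _ (tr_cases hF _) (tr_cases hF _), ha0]
        simp [e]
      simp only [hflip, Finset.sum_neg_distrib] at this
      linarith
  have hS : ∑ a, S a = 2 ^ n := by
    simp only [S]; rw [Finset.sum_comm]; simp only [horth, hani]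
    rw [Finset.sum_ite_eq' Finset.univ (1 : W), if_pos (Finset.mem_univ _)]
  have hdiv : ∀ a, (2 : ℤ) ^ r ∣ S a ^ 2 := by
    intro a
    have hsq : S a ^ 2 = ∑ u : W, χ a (q u) * ∑ x : W, χ a (B x u) := by
      rw [sq]
      simp only [S]
      rw [Finset.sum_mul]
      calc ∑ x : W, χ a (q x) * ∑ y : W, χ a (q y)
          = ∑ x : W, ∑ u : W, χ a (q x) * χ a (q (x * u)) := by
            refine Finset.sum_congr rfl fun x _ => ?_
            rw [Finset.mul_sum]
            exact (Fintype.sum_equiv (Equiv.mulLeft x) (fun u => χ a (q x) * χ a (q (x * u)))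
              (fun y => χ a (q x) * χ a (q y)) fun _ => rfl).symm
        _ = ∑ u : W, ∑ x : W, χ a (q x) * χ a (q (x * u)) := Finset.sum_comm
        _ = _ := by
            refine Finset.sum_congr rfl fun u _ => ?_
            rw [Finset.mul_sum]
            refine Finset.sum_congr rfl fun x _ => ?_
            rw [hq, hχ, hχ]
            linear_combination (χ a (q u) * χ a (B x u)) * hχ1 a (q x)
    rw [hsq]
    refine Finset.dvd_sum fun u _ => Dvd.dvd.mul_left ?_ _
    by_cases h : ∀ x, χ a (B x u) = 1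
    · simp [h, hW]
    · push Not at h
      obtain ⟨x0, hx0⟩ := h
      have h0 : ∑ x : W, χ a (B x u) = 0 := by
        have : ∑ x : W, χ a (B x u) = ∑ x : W, χ a (B (x * x0) u) :=
          (Fintype.sum_equiv (Equiv.mulRight x0) (fun x => χ a (B (x * x0) u)) (fun x => χ a (B x u)) fun _ => rfl).symm
        have hflip : ∀ x, χ a (B (x * x0) u) = -χ a (B x u) := fun x => by
          rw [hB, hχ]
          have : χ a (B x0 u) = -1 := by
            simp only [χ, e] at hx0 ⊢
            split_ifs at hx0 ⊢ with h' <;> simp_all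
          rw [this, mul_neg_one]
        simp only [hflip, Finset.sum_neg_distrib] at this
        linarith
      rw [h0]; exact dvd_zero _
  have : (2 : ℤ) ^ (n + 1) ∣ 2 ^ n := by
    rw [← hS]
    exact Finset.dvd_sum fun a _ => pow_dvd_root n _ ((pow_dvd_pow 2 (by omega)).trans (hdiv a))
  have h' : (2 : ℕ) ^ (n + 1) ∣ 2 ^ n := by exact_mod_cast this
  have := (Nat.pow_dvd_pow_iff_le_right (by norm_num : 1 < 2)).1 h'
  omega

end Cfsg.Agent.Char.SuzukiField
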