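import Mathlib
import Cfsg.Prelude.Def_LieRecognition
import Cfsg.Agent.Lib.Lie.SuzukiTwo
import Cfsg.Agent.Lib.Lie.SuzukiSquare
import Cfsg.Agent.Lib.Char.SuzukiField

/-!
Higman's structure theorem for Suzuki two-groups: squares are central, exponent four, and the order
is the square or the cube of the order of the centre.
-/

set_option autoImplicit false

namespace Cfsg.Agent.Char.SuzukiStruct

open Cfsg.Agent.Lie.SuzukiTwo

variable {P : Type*} [Group P]

theorem invol_pow (h2 : IsPGroup 2 P) (x : P) (hx : x ≠ 1) : ∃ m : ℕ, x ^ m ≠ 1 ∧ x ^ m * x ^ m = 1 := by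
  obtain ⟨j, hj⟩ := IsPGroup.iff_orderOf.1 h2 x
  have hj1 : j ≠ 0 := fun h => hx (orderOf_eq_one_iff.1 (by rw [hj, h, pow_zero]))
  obtain ⟨i, rfl⟩ : ∃ i, j = i + 1 := ⟨j - 1, by omega⟩
  refine ⟨2 ^ i, fun h => ?_, by rw [← pow_add, ← two_mul, ← pow_succ', ← hj, pow_orderOf_eq_one]⟩
  have := Nat.le_of_dvd (by positivity) (orderOf_dvd_of_pow_eq_one h)
  rw [hj] at this
  exact absurd this (not_le.2 (Nat.pow_lt_pow_right (by norm_num) (by omega)))

theorem setup (hP : Cfsg.IsSuzukiTwoGroup P) :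
    Finite P ∧ IsPGroup 2 P ∧ (∃ x y : P, x * y ≠ y * x) ∧ ∃ K : Subgroup (MulAut P), IsCyclic K ∧
      (∀ x y : P, x ≠ 1 → x * x = 1 → y ≠ 1 → y * y = 1 → ∃ k ∈ K, k x = y) ∧
      ∃ g ∈ K, ∀ x : P, g x = x → x = 1 := by
  classical
  obtain ⟨hfin, h2, hnab, ⟨i1, i2, hi12, hi1, hi1s, hi2, hi2s⟩, K, hKc, hK⟩ := hP
  refine ⟨hfin, h2, hnab, K, hKc, fun x y a b c d => ?_, ?_⟩
  · obtain ⟨k, hk, -⟩ := hK x y a b c d
    exact ⟨k.1, k.2, hk⟩
  obtain ⟨⟨g, hgK⟩, hgen⟩ := IsCyclic.exists_generator (α := ↥K)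
  refine ⟨g, hgK, fun x hx => ?_⟩
  by_contra hx1
  obtain ⟨m, hn1, hn2⟩ := invol_pow h2 x hx1
  obtain ⟨i3, hi3, hi3s, hne⟩ : ∃ i, i ≠ 1 ∧ i * i = 1 ∧ i ≠ x ^ m := by
    by_cases h : i1 = x ^ m
    · exact ⟨i2, hi2, hi2s, fun h' => hi12 (h.trans h'.symm)⟩
    · exact ⟨i1, hi1, hi1s, h⟩
  obtain ⟨⟨k, hk⟩, hki, -⟩ := hK _ i3 hn1 hn2 hi3 hi3s
  have hstab : g ∈ MulAction.stabilizer (MulAut P) (x ^ m) := by
    rw [MulAction.mem_stabilizer_iff]
    show g (x ^ m) = x ^ m
    rw [map_pow, hx]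
  obtain ⟨l, hl⟩ := Subgroup.mem_zpowers_iff.1 (hgen ⟨k, hk⟩)
  have := zpow_mem hstab l
  rw [show g ^ l = k from congrArg Subtype.val hl, MulAction.mem_stabilizer_iff] at this
  exact hne (hki.symm.trans this)

theorem center_inv (k : MulAut P) {a : P} (ha : a ∈ Subgroup.center P) : k a ∈ Subgroup.center P := by
  rw [Subgroup.mem_center_iff]
  intro w
  obtain ⟨w, rfl⟩ := k.surjective w
  rw [← map_mul, ← map_mul, Subgroup.mem_center_iff.1 ha w]

/-- A smallest abelian enlargement of the centre exists unless squares are central. -/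
theorem good_or_sq [Finite P] (h2 : IsPGroup 2 P) (K : Subgroup (MulAut P))
    (hinvc : ∀ x : P, x * x = 1 → x ∈ Subgroup.center P) (hz : ∀ z ∈ Subgroup.center P, z * z = 1) :
    (∀ x : P, x * x ∈ Subgroup.center P) ∨ ∃ A : Subgroup P, Good K A 2 := by
  classical
  by_cases hcase : ∀ x : P, x * x ∈ Subgroup.center P
  · exact Or.inl hcase
  right
  push Not at hcase
  obtain ⟨x0, hx0⟩ := hcase
  set Z := Subgroup.center P with hZ
  let Sq : Set P := Set.range (fun x : P => x * x) ∪ (Z : Set P)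
  let C : Subgroup P := Subgroup.closure Sq
  have hsqC : ∀ x : P, x * x ∈ C := fun x => Subgroup.subset_closure (Or.inl ⟨x, rfl⟩)
  have hZC : Z ≤ C := fun z hz' => Subgroup.subset_closure (Or.inr hz')
  have hSq : ∀ (k : MulAut P), ∀ y ∈ C, k y ∈ C := fun k y hy => by
    have h : C ≤ C.comap k.toMonoidHom := (Subgroup.closure_le _).2 (by
      rintro w (⟨x, rfl⟩ | hw)
      · show k (x * x) ∈ C
        rw [map_mul]; exact hsqC _
      · exact hZC (center_inv k hw))
    exact h hy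
  haveI hCn : C.Normal := ⟨fun y hy w => hSq (MulAut.conj w) y hy⟩
  obtain ⟨y, hyC, hyl, hyZ⟩ := exists_layer h2 Z C (lt_of_le_of_ne hZC fun h => hx0 (h ▸ hsqC x0))
  have hcent : ∀ m ∈ layer Z, ∀ c ∈ C, m * c = c * m := by
    intro m hm c hc
    have h : C ≤ Subgroup.centralizer {m} := (Subgroup.closure_le _).2 (by
      rintro w (⟨x, rfl⟩ | hw)
      · refine Subgroup.mem_centralizer_singleton_iff.2 ?_
        have h1 := hm.1 x
        set u := m * x * m⁻¹ * x⁻¹
        have hmx : m * x = u * x * m := by simp only [u]; group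
        have hux : x * u = u * x := Subgroup.mem_center_iff.1 h1 x
        have : m * (x * x) = (u * u) * (x * x) * m := by
          calc m * (x * x) = (m * x) * x := by group
            _ = (u * x * m) * x := by rw [hmx]
            _ = u * x * (m * x) := by group
            _ = u * (x * u) * x * m := by rw [hmx]; group
            _ = _ := by rw [hux]; group
        rw [hz u h1, one_mul] at this
        exact this.symm
      · exact Subgroup.mem_centralizer_singleton_iff.2 (Subgroup.mem_center_iff.1 hw m).symm)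
    exact (Subgroup.mem_centralizer_singleton_iff.1 (h hc)).symm
  let π := QuotientGroup.mk' Z
  let N : Subgroup P := ofMul {m | m ∈ layer Z ∧ m ∈ C}
    ⟨⟨fun x => by simp, by simp⟩, one_mem _⟩
    (fun a ha b hb => ⟨⟨fun x => by
        have h1 := ha.1.1 x
        have h2' := hb.1.1 x
        have : a * b * x * (a * b)⁻¹ * x⁻¹ = a * (b * x * b⁻¹ * x⁻¹) * a⁻¹ * (a * x * a⁻¹ * x⁻¹) := by group
        rw [this, Subgroup.mem_center_iff.1 h2' a, mul_inv_cancel_right]
        exact mul_mem h2' h1,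
      by
        have hab : a * b = b * a := hcent a ha.1 b hb.2
        have : a * b * (a * b) = a * a * (b * b) := by
          rw [mul_assoc a b, ← mul_assoc b a b, ← hab]; group
        rw [this]; exact mul_mem ha.1.2 hb.1.2⟩, mul_mem ha.2 hb.2⟩)
  have hZN : Z ≤ N := fun z hz' => ⟨⟨fun x => by
    rw [← Subgroup.mem_center_iff.1 hz' x, mul_inv_cancel_right, mul_inv_cancel]; exact one_mem _,
    mul_mem hz' hz'⟩, hZC hz'⟩
  refine ⟨N, ⟨⟨fun a ha w => ?_⟩, fun a ha b hb => hcent a ha.1 b hb.2, fun k _ a ha => ⟨⟨fun x => ?_, ?_⟩,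
    hSq k a ha.2⟩, hZN, le_rfl, fun a ha => ?_, ⟨y, ⟨hyl, hyC⟩, fun h => hyZ (hinvc y ?_)⟩⟩⟩
  · have : w * a * w⁻¹ = (a * w * a⁻¹ * w⁻¹)⁻¹ * a := by group
    rw [this]
    exact mul_mem (inv_mem (hZN (ha.1.1 w))) ha
  · obtain ⟨x, rfl⟩ := k.surjective x
    rw [← map_inv, ← map_inv, ← map_mul, ← map_mul, ← map_mul]
    exact center_inv k (ha.1.1 x)
  · rw [← map_mul]; exact center_inv k ha.1.2
  · have := hz _ ha.1.2
    rw [show (2 : ℕ) ^ 2 = 4 by norm_num, pow_succ, pow_succ, pow_two]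
    rw [← mul_assoc] at this; exact this
  · rw [← pow_two]; simpa using h

/-- Either squares are central or there is a self-centralising homocyclic subgroup. -/
theorem selfcent_or_sq [Finite P] (h2 : IsPGroup 2 P) (hnab : ∃ x y : P, x * y ≠ y * x) (K : Subgroup (MulAut P))
    [IsCyclic ↥K] (hinvc : ∀ x : P, x * x = 1 → x ∈ Subgroup.center P) (hz : ∀ z ∈ Subgroup.center P, z * z = 1)
    (htr : ∀ x y : P, x ≠ 1 → x * x = 1 → y ≠ 1 → y * y = 1 → ∃ k ∈ K, k x = y)
    {g : MulAut P} (hg : g ∈ K) (hfpf : ∀ x : P, g x = x → x = 1) :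
    (∀ x : P, x * x ∈ Subgroup.center P) ∨
      ∃ A : Subgroup P, Good K A 2 ∧ ∀ y : P, (∀ a ∈ A, phi y a = 1) → y ∈ A := by
  classical
  rcases good_or_sq h2 K hinvc hz with h | ⟨A0, hA0⟩
  · exact Or.inl h
  right
  obtain ⟨A, hA, hmax⟩ := Set.Finite.exists_maximalFor (fun A : Subgroup P => Nat.card A)
    {A : Subgroup P | ∃ e, Good K A e} (Set.toFinite _) ⟨A0, 2, hA0⟩
  obtain ⟨e, hA⟩ := hA
  haveI := hA.normal
  have hC : ∀ y : P, (∀ a ∈ A, phi y a = 1) → y ∈ A := by
    by_contra h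
    push Not at h
    obtain ⟨y0, hy0, hy0A⟩ := h
    let C := Subgroup.centralizer (A : Set P)
    have hmemC : y0 ∈ C := Subgroup.mem_centralizer_iff.2 fun b hb => by
      have := hy0 b hb
      simp only [phi] at this
      rw [mul_inv_eq_one, mul_inv_eq_iff_eq_mul] at this
      exact this.symm
    have hAC : A < C := lt_of_le_of_ne (fun a ha => Subgroup.mem_centralizer_iff.2 fun b hb => hA.comm b hb a ha)
      fun h => hy0A (h ▸ hmemC)
    obtain ⟨y, hyC, hyl, hyA⟩ := exists_layer h2 A C hAC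
    obtain ⟨A', e', hA', hlt⟩ := enlarge hinvc htr hA hyl hyA fun a ha => by
      simp only [phi]
      rw [← Subgroup.mem_centralizer_iff.1 hyC a ha, mul_inv_cancel_right, mul_inv_cancel]
    have hc : Nat.card A < Nat.card A' := Set.ncard_lt_ncard hlt (Set.toFinite _)
    exact absurd (hmax ⟨e', hA'⟩ hc.le) (not_le.2 hc)
  have hne_top : A ≠ ⊤ := fun h => by
    obtain ⟨x, y, hxy⟩ := hnab
    exact hxy (hA.comm x (h ▸ trivial) y (h ▸ trivial))
  have he : e = 2 := by
    by_contra h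
    obtain ⟨y, -, hyl, hyA⟩ := exists_layer h2 A ⊤ (lt_top_iff_ne_top.2 hne_top)
    exact hyA (no_good hinvc htr hA (by have := hA.he; omega) hC hg hfpf hyl)
  subst he
  exact ⟨A, hA, hC⟩

/-- Field coordinates on the centre. -/
theorem coord [Finite P] (h2 : IsPGroup 2 P) [Nontrivial P] (K : Subgroup (MulAut P)) [IsCyclic ↥K]
    (hz : ∀ z ∈ Subgroup.center P, z * z = 1)
    (htr : ∀ x y : P, x ≠ 1 → x * x = 1 → y ≠ 1 → y * y = 1 → ∃ k ∈ K, k x = y) :
    ∃ (n : ℕ) (_ : n ≠ 0) (ι : P → GaloisField 2 n), Nat.card (Subgroup.center P) = 2 ^ n ∧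
      (∀ z ∈ Subgroup.center P, ∀ w ∈ Subgroup.center P, ι (z * w) = ι z + ι w) ∧
      (∀ z ∈ Subgroup.center P, ι z = 0 → z = 1) ∧ (∀ t, ∃ z ∈ Subgroup.center P, ι z = t) ∧
      (∀ k ∈ K, ∃ m, m ≠ 0 ∧ ∀ z ∈ Subgroup.center P, ι (k z) = m * ι z) ∧
      (∀ t, t ≠ 0 → ∃ k ∈ K, ∀ z ∈ Subgroup.center P, ι (k z) = t * ι z) := by
  classical
  haveI : Fact (Nat.Prime 2) := ⟨Nat.prime_two⟩
  letI : CommGroup ↥K := IsCyclic.commGroup
  letI : CommGroup ↥(Subgroup.center P) := { (inferInstance : Group ↥(Subgroup.center P)) with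
    mul_comm := fun a b => Subtype.ext (Subgroup.mem_center_iff.1 b.2 a.1) }
  haveI := h2.center_nontrivial
  obtain ⟨n, hn⟩ := IsPGroup.iff_card.1 (h2.to_subgroup (Subgroup.center P))
  have hn0 : n ≠ 0 := fun h => by
    rw [h, pow_zero] at hn
    exact (Finite.one_lt_card (α := ↥(Subgroup.center P))).ne' hn
  let act : ↥K →* MulAut ↥(Subgroup.center P) :=
    { toFun := fun k =>
        { toFun := fun u => ⟨k.1 u.1, center_inv k.1 u.2⟩
          invFun := fun u => ⟨k.1.symm u.1, center_inv k.1.symm u.2⟩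
          left_inv := fun u => Subtype.ext (k.1.symm_apply_apply u.1)
          right_inv := fun u => Subtype.ext (k.1.apply_symm_apply u.1)
          map_mul' := fun u v => Subtype.ext (map_mul k.1 u.1 v.1) }
      map_one' := rfl
      map_mul' := fun _ _ => rfl }
  obtain ⟨e, m, hem, hm⟩ := Cfsg.Agent.Lie.SuzukiSquare.exists_coord act (fun u => Subtype.ext (hz u.1 u.2)) hn0 hn
    (fun u v hu hv => by
      obtain ⟨k, hk, hkv⟩ := htr u.1 v.1 (fun h => hu (Subtype.ext h)) (hz u.1 u.2) (fun h => hv (Subtype.ext h))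
        (hz v.1 v.2)
      exact ⟨⟨k, hk⟩, Subtype.ext hkv⟩)
  let ι : P → GaloisField 2 n := fun z => if h : z ∈ Subgroup.center P then Multiplicative.toAdd (e ⟨z, h⟩) else 0
  have hι : ∀ z (h : z ∈ Subgroup.center P), ι z = Multiplicative.toAdd (e ⟨z, h⟩) := fun z h => dif_pos h
  have hsurj : ∀ t, ∃ z ∈ Subgroup.center P, ι z = t := fun t =>
    ⟨(e.symm (Multiplicative.ofAdd t)).1, (e.symm (Multiplicative.ofAdd t)).2, by
      rw [hι _ (e.symm (Multiplicative.ofAdd t)).2]; simp⟩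
  have hinj : ∀ z ∈ Subgroup.center P, ι z = 0 → z = 1 := fun z h h0 => by
    rw [hι z h] at h0
    have : e ⟨z, h⟩ = e 1 := by rw [map_one]; exact Multiplicative.toAdd.injective h0
    exact congrArg Subtype.val (e.injective this)
  have hact : ∀ (k : ↥K) z, z ∈ Subgroup.center P → ι (k.1 z) = m k * ι z := fun k z h => by
    rw [hι z h, hι _ (center_inv k.1 h), ← hem k ⟨z, h⟩]; rfl
  refine ⟨n, hn0, ι, hn, fun z h w h' => ?_, hinj, hsurj, fun k hk => ⟨m ⟨k, hk⟩, fun h0 => ?_, hact ⟨k, hk⟩⟩,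
    fun t ht => ?_⟩
  · rw [hι z h, hι w h', hι _ (mul_mem h h'), ← toAdd_mul, ← map_mul]; rfl
  · obtain ⟨z, hz', hz1⟩ := hsurj 1
    have := hact ⟨k, hk⟩ z hz'
    rw [h0, zero_mul] at this
    have hk1 := hinj _ (center_inv k hz') this
    rw [← map_one k] at hk1
    rw [k.injective hk1, hι 1 (one_mem _)] at hz1
    exact zero_ne_one (α := GaloisField 2 n) (by simpa [show (⟨1, one_mem _⟩ : ↥(Subgroup.center P)) = 1 from rfl] using hz1)
  · obtain ⟨k, rfl⟩ := hm t ht
    exact ⟨k.1, k.2, hact k⟩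

/-- Squares in a Suzuki two-group are central. -/
theorem sq_central (hP : Cfsg.IsSuzukiTwoGroup P) : ∀ x : P, x * x ∈ Subgroup.center P := by
  classical
  obtain ⟨hinvc, hzc⟩ := center_elementary hP
  obtain ⟨hfin, h2, hnab, K, hKc, htr, g, hg, hfpf⟩ := setup hP
  haveI := hKc
  haveI : Nontrivial P := by
    obtain ⟨x, y, hxy⟩ := hnab
    exact ⟨⟨x * y, y * x, hxy⟩⟩
  rcases selfcent_or_sq h2 hnab K hinvc hzc htr hg hfpf with h | ⟨A, hA, hC⟩
  · exact h
  obtain ⟨n, hn, ι, hcard, hadd, hinj, hsurj, hscal, hall⟩ := coord h2 K hzc htr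
  letI : Fintype (GaloisField 2 n) := Fintype.ofFinite _
  haveI : Fact (Nat.Prime 2) := ⟨Nat.prime_two⟩
  have hF : Fintype.card (GaloisField 2 n) = 2 ^ n := by
    rw [← Nat.card_eq_fintype_card]; exact GaloisField.card 2 n hn
  have hA4 : ∀ a ∈ A, a * a ∈ Subgroup.center P := fun a ha => hinvc _ (by
    have := hA.exp a ha
    rw [← pow_two, ← pow_two, ← pow_mul]; exact this)
  have hι1 : ι 1 = 0 := by
    have := hadd 1 (one_mem _) 1 (one_mem _)
    rw [mul_one] at this
    exact left_eq_add.1 this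
  have hphiA : ∀ x, ∀ a ∈ A, phi x a ∈ Subgroup.center P := fun x a ha => hinvc _ (by
    rw [← phi_mul hA x ha ha]; exact phi_central hinvc x (hzc _ (hA4 a ha)))
  have hphi2 : ∀ x y, ∀ a ∈ A, phi (x * y) a = phi x a * phi y a := fun x y a ha => by
    rw [phi_comp, phi_mul hA x (phi_mem hA y ha) ha, phi_central hinvc x (hzc _ (hphiA y a ha)), one_mul]
  let s2 : P → GaloisField 2 n := fun a => ι (a * a)
  have hs2 : ∀ a ∈ A, ∀ b ∈ A, s2 (a * b) = s2 a + s2 b := fun a ha b hb => by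
    have : a * b * (a * b) = a * a * (b * b) := by
      rw [mul_assoc a b, ← mul_assoc b a b, hA.comm b hb a ha]; group
    simp only [s2]
    rw [this, hadd _ (hA4 a ha) _ (hA4 b hb)]
  have hs2c : ∀ z ∈ Subgroup.center P, s2 z = 0 := fun z hz => by simp only [s2, hzc z hz, hι1]
  have hroot : ∀ t, ∃ a ∈ A, s2 a = t := fun t => by
    obtain ⟨z, hz, rfl⟩ := hsurj t
    obtain ⟨c, hc, hcz⟩ := sq_one_root hinvc htr hA (hzc z hz)
    refine ⟨c, hc, ?_⟩
    simp only [s2]
    rw [← pow_two]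
    simpa using congrArg ι hcz
  choose r hrA hr using hroot
  let D : P → GaloisField 2 n → GaloisField 2 n := fun x t => ι (phi x (r t))
  have hkey : ∀ x, ∀ a ∈ A, ι (phi x a) = D x (s2 a) := by
    intro x a ha
    set b := r (s2 a)
    have hb : b ∈ A := hrA _
    have hu : (b⁻¹ * a) * (b⁻¹ * a) = 1 := by
      have h1 := hs2 b⁻¹ (inv_mem hb) a ha
      have h2' := hs2 b⁻¹ (inv_mem hb) b hb
      rw [inv_mul_cancel, hs2c 1 (one_mem _), hr] at h2'
      rw [← h2'] at h1
      exact hinj _ (hA4 _ (mul_mem (inv_mem hb) ha)) h1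
    conv_lhs => rw [← mul_inv_cancel_left b a]
    rw [phi_mul hA x hb (mul_mem (inv_mem hb) ha), phi_central hinvc x hu, mul_one]
  have hDadd : ∀ x s t, D x (s + t) = D x s + D x t := by
    intro x s t
    have h := hkey x _ (mul_mem (hrA s) (hrA t))
    rw [hs2 _ (hrA s) _ (hrA t), hr, hr, phi_mul hA x (hrA s) (hrA t),
      hadd _ (hphiA x _ (hrA s)) _ (hphiA x _ (hrA t))] at h
    exact h.symm
  have hDmul : ∀ x y, D (x * y) = D x + D y := fun x y => by
    funext t
    simp only [D, Pi.add_apply]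
    rw [hphi2 x y _ (hrA t), hadd _ (hphiA x _ (hrA t)) _ (hphiA y _ (hrA t))]
  have hD1 : D 1 = 0 := by funext t; simp [D, phi, hι1]
  have hDinv : ∀ x, D x⁻¹ = D x := fun x => by
    have := hDmul x⁻¹ x
    rw [inv_mul_cancel, hD1] at this
    funext t
    exact CharTwo.add_eq_zero.1 (congrFun this t).symm
  have hDA : ∀ a ∈ A, D a = 0 := fun a ha => by
    funext t; simp only [D, phi_one_of_mem hA ha (hrA t), hι1, Pi.zero_apply]
  have hDker : ∀ x, D x = 0 → x ∈ A := fun x hx => hC x fun a ha =>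
    hinj _ (hphiA x a ha) (by rw [hkey x a ha, hx]; rfl)
  have hsqA : ∀ x, x * x ∈ A := fun x => hDker _ (by
    rw [hDmul]; funext t; exact CharTwo.add_self_eq_zero _)
  have hcA : ∀ x y, x⁻¹ * y * x * y⁻¹ ∈ A := fun x y => hDker _ (by
    rw [hDmul, hDmul, hDmul, hDinv, hDinv]
    funext t
    simp only [Pi.add_apply, Pi.zero_apply]
    linear_combination (D x t + D y t) * (CharTwo.two_eq_zero : (2 : GaloisField 2 n) = 0))
  -- the invariant squaring map
  let qq : P → GaloisField 2 n := fun x => s2 (x * x)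
  let cc : P → P → GaloisField 2 n := fun x y => s2 (x⁻¹ * y * x * y⁻¹)
  have hqq : ∀ x y, qq (x * y) = qq x + qq y + cc x y := by
    intro x y
    simp only [qq, cc]
    rw [sq_prod, hs2 _ (hsqA x) _ (mul_mem (hcA x y) (hsqA y)), hs2 _ (hcA x y) _ (hsqA y)]
    ring
  have hDq : ∀ x, D x (qq x) = 0 := fun x => by
    simp only [qq]
    rw [← hkey x _ (hsqA x)]
    rw [show phi x (x * x) = 1 by simp only [phi]; group]
    exact hι1
  have hqA : ∀ a ∈ A, qq a = 0 := fun a ha => hs2c _ (hA4 a ha)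
  have hphis : ∀ x, ∀ a ∈ A, s2 (phi x a * a) = s2 a := fun x a ha => by
    rw [hs2 _ (phi_mem hA x ha) a ha, hs2c _ (hphiA x a ha), zero_add]
  have hccl : ∀ x x' y, cc (x * x') y = cc x y + cc x' y := by
    intro x x' y
    simp only [cc]
    rw [show (x * x')⁻¹ * y * (x * x') * y⁻¹ = (phi x'⁻¹ (x⁻¹ * y * x * y⁻¹) * (x⁻¹ * y * x * y⁻¹)) *
        (x'⁻¹ * y * x' * y⁻¹) by simp only [phi]; group,
      hs2 _ (mul_mem (phi_mem hA _ (hcA x y)) (hcA x y)) _ (hcA x' y), hphis _ _ (hcA x y)]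
  have hccr : ∀ x y y', cc x (y * y') = cc x y + cc x y' := by
    intro x y y'
    simp only [cc]
    rw [show x⁻¹ * (y * y') * x * (y * y')⁻¹ = (x⁻¹ * y * x * y⁻¹) *
        (phi y (x⁻¹ * y' * x * y'⁻¹) * (x⁻¹ * y' * x * y'⁻¹)) by simp only [phi]; group,
      hs2 _ (hcA x y) _ (mul_mem (phi_mem hA _ (hcA x y')) (hcA x y')), hphis _ _ (hcA x y')]
  have hccA : ∀ a ∈ A, ∀ y, cc a y = 0 ∧ cc y a = 0 := by
    intro a ha y
    constructor
    · show s2 (a⁻¹ * y * a * y⁻¹) = 0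
      rw [show a⁻¹ * y * a * y⁻¹ = a⁻¹ * (phi y a * a) by simp only [phi]; group,
        hs2 _ (inv_mem ha) _ (mul_mem (phi_mem hA y ha) ha), hphis y a ha, ← hs2 _ (inv_mem ha) _ ha, inv_mul_cancel,
        hs2c 1 (one_mem _)]
    · show s2 (y⁻¹ * a * y * a⁻¹) = 0
      rw [show y⁻¹ * a * y * a⁻¹ = phi y⁻¹ a by simp only [phi]; group]
      exact hs2c _ (hphiA _ a ha)
  have hDeq : ∀ x x', D x = D x' → x⁻¹ * x' ∈ A := fun x x' h => hDker _ (by
    rw [hDmul, hDinv, h]; funext t; exact CharTwo.add_self_eq_zero _)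
  have hcceql : ∀ x x' y, D x = D x' → cc x' y = cc x y := fun x x' y h => by
    conv_lhs => rw [← mul_inv_cancel_left x x']
    rw [hccl, (hccA _ (hDeq x x' h) y).1, add_zero]
  have hcceqr : ∀ y x x', D x = D x' → cc y x' = cc y x := fun y x x' h => by
    conv_lhs => rw [← mul_inv_cancel_left x x']
    rw [hccr, (hccA _ (hDeq x x' h) y).2, add_zero]
  -- the operators
  let R : AddSubgroup (GaloisField 2 n → GaloisField 2 n) :=
    { carrier := {f | ∃ x, D x = f}
      zero_mem' := ⟨1, hD1⟩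
      add_mem' := by rintro _ _ ⟨x, rfl⟩ ⟨y, rfl⟩; exact ⟨x * y, hDmul x y⟩
      neg_mem' := by
        rintro _ ⟨x, rfl⟩
        exact ⟨x, funext fun t => (CharTwo.neg_eq (D x t)).symm⟩ }
  have hDk : ∀ k ∈ K, ∀ (m : GaloisField 2 n), (∀ z ∈ Subgroup.center P, ι (k z) = m * ι z) →
      ∀ x t, D (k x) (m * t) = m * D x t := by
    intro k hk m hm x t
    have h := hkey (k x) (k (r t)) (hA.inv k hk _ (hrA t))
    rw [phi_apply_equiv, hm _ (hphiA x _ (hrA t))] at h
    simp only [s2] at h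
    rw [← map_mul, hm _ (hA4 _ (hrA t)), show ι (r t * r t) = t from hr t] at h
    exact h.symm
  have hRconj : ∀ f ∈ R, ∀ l : GaloisField 2 n, l ≠ 0 → (fun t => l * f (l⁻¹ * t)) ∈ R := by
    rintro _ ⟨x, rfl⟩ l hl
    obtain ⟨k, hk, hkm⟩ := hall l hl
    exact ⟨k x, funext fun t => by rw [← hDk k hk l hkm, mul_inv_cancel_left₀ hl]⟩
  have hexp : ∀ x, ∃ w : ℕ → GaloisField 2 n, D x = fun t => ∑ i ∈ Finset.range n, w i * t ^ 2 ^ i := fun x => by
    obtain ⟨w, hw⟩ := SuzukiField.frob_expand hn hF (AddMonoidHom.mk' (D x) (hDadd x))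
    exact ⟨w, funext hw⟩
  have hno0 : ∀ x u, (D x = fun t => u * t) → u = 0 := by
    intro x u hx
    obtain ⟨m, hm0, hm⟩ := hscal g hg
    have hgx : D (g x) = D x := funext fun s => by
      conv_lhs => rw [← mul_inv_cancel_left₀ hm0 s]
      rw [hDk g hg m hm, hx]
      show m * (u * (m⁻¹ * s)) = u * s
      field_simp
    have ha := hDeq x (g x) hgx.symm
    let tmap : A → A := fun b => ⟨b.1⁻¹ * g b.1, mul_mem (inv_mem b.2) (hA.inv g hg _ b.2)⟩
    have hinjG : ∀ b c : P, b⁻¹ * g b = c⁻¹ * g c → b = c := fun b c h => by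
      have : g (b * c⁻¹) = b * c⁻¹ := by
        rw [map_mul, map_inv, show g b = b * (c⁻¹ * g c) by rw [← h, mul_inv_cancel_left]]; group
      exact mul_inv_eq_one.1 (hfpf _ this)
    have ht : Function.Surjective tmap := Finite.injective_iff_surjective.1 fun b c h =>
      Subtype.ext (hinjG _ _ (congrArg Subtype.val h))
    obtain ⟨b, hb⟩ := ht ⟨_, ha⟩
    have hbx : b.1 = x := hinjG _ _ (congrArg Subtype.val hb)
    have := congrFun ((hDA x (hbx ▸ b.2)).symm.trans hx) 1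
    rw [mul_one] at this
    exact this.symm
  have hproj : ∀ x (w : ℕ → GaloisField 2 n), (D x = fun t => ∑ i ∈ Finset.range n, w i * t ^ 2 ^ i) →
      ∀ i < n, (i = 0 → w i = 0) ∧ ∀ a, ∃ y, D y = fun t => a * w i * t ^ 2 ^ i := by
    intro x w hx i hi
    have hmem : (fun t => ∑ j ∈ Finset.range n, w j * t ^ 2 ^ j) ∈ R := ⟨x, hx⟩
    obtain ⟨h1, h0⟩ := SuzukiField.projection hn hF R hRconj w hmem i hi
    by_cases h : i = 0
    · subst h
      obtain ⟨y, hy⟩ := h0 rfl
      have hw0 := hno0 y _ hy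
      exact ⟨fun _ => hw0, fun a => ⟨1, by rw [hD1, hw0]; funext t; simp⟩⟩
    · exact ⟨fun e => absurd e h, fun a => h1 h a⟩
  -- monomials
  have hmon : ∀ x σ u, (D x = fun t => u * t ^ 2 ^ σ) → qq x = 0 := by
    intro x σ u hx
    by_cases hu : u = 0
    · exact hqA x (hDker x (by rw [hx, hu]; funext t; simp))
    · have := hDq x
      rw [hx] at this
      exact pow_eq_zero_iff (by positivity) |>.1 ((mul_eq_zero.1 this).resolve_left hu)
  have hmm : ∀ σ < n, ∀ τ < n, ∀ x y u v, (D x = fun t => u * t ^ 2 ^ σ) → (D y = fun t => v * t ^ 2 ^ τ) →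
      cc x y = 0 := by
    intro σ hσ τ hτ x y u v hx hy
    by_cases hu : u = 0
    · exact (hccA x (hDker x (by rw [hx, hu]; funext t; simp)) y).1
    by_cases hv : v = 0
    · exact (hccA y (hDker y (by rw [hy, hv]; funext t; simp)) x).2
    by_cases hστ : σ = τ
    · subst hστ
      have h := hqq x y
      rw [hmon x σ u hx, hmon y σ v hy, hmon (x * y) σ (u + v) (by
        rw [hDmul, hx, hy]; funext t; simp [add_mul])] at h
      simpa using h.symm
    have hsingle : ∀ ρ < n, ∀ c : GaloisField 2 n, (fun t => c * t ^ 2 ^ ρ) =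
        fun t => ∑ i ∈ Finset.range n, (if i = ρ then c else 0) * t ^ 2 ^ i := fun ρ hρ c => by
      funext t; simp [hρ]
    have hσ0 : σ ≠ 0 := fun e => hu (by
      have := (hproj x _ (hx.trans (hsingle σ hσ u)) σ hσ).1 e
      simpa using this)
    have hτ0 : τ ≠ 0 := fun e => hv (by
      have := (hproj y _ (hy.trans (hsingle τ hτ v)) τ hτ).1 e
      simpa using this)
    have hxs : ∀ c, ∃ z, D z = fun t => c * t ^ 2 ^ σ := fun c => by
      obtain ⟨z, hz⟩ := (hproj x _ (hx.trans (hsingle σ hσ u)) σ hσ).2 (c * u⁻¹)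
      refine ⟨z, hz.trans (funext fun t => ?_)⟩
      simp [hu]
    have hys : ∀ c, ∃ z, D z = fun t => c * t ^ 2 ^ τ := fun c => by
      obtain ⟨z, hz⟩ := (hproj y _ (hy.trans (hsingle τ hτ v)) τ hτ).2 (c * v⁻¹)
      refine ⟨z, hz.trans (funext fun t => ?_)⟩
      simp [hv]
    choose xs hxs using hxs
    choose ys hys using hys
    have hC0 := SuzukiField.cross hF (by omega) σ τ (fun c d => cc (xs c) (ys d))
      (fun c c' d => by
        rw [← hccl]
        exact hcceql _ _ _ (by rw [hDmul, hxs, hxs, hxs]; funext t; simp [add_mul]))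
      (fun c d d' => by
        rw [← hccr]
        exact hcceqr _ _ _ (by rw [hDmul, hys, hys, hys]; funext t; simp [add_mul]))
      (fun c d => by
        have h := hDq (xs c * ys d)
        rw [hqq, hmon _ σ c (hxs c), hmon _ τ d (hys d), zero_add, zero_add, hDmul, hxs, hys] at h
        exact CharTwo.add_eq_zero.1 h) u v
    rw [← hC0]
    exact ((hcceql (xs u) x y (by rw [hxs, hx])).trans (hcceqr _ (ys v) y (by rw [hys, hy])))
  have hmain : ∀ s : Finset ℕ, s ⊆ Finset.range n → ∀ x (w : ℕ → GaloisField 2 n),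
      (D x = fun t => ∑ i ∈ s, w i * t ^ 2 ^ i) →
      qq x = 0 ∧ ∀ τ < n, ∀ y v, (D y = fun t => v * t ^ 2 ^ τ) → cc x y = 0 := by
    intro s
    induction s using Finset.induction with
    | empty =>
      intro _ x w hx
      have hxA : x ∈ A := hDker x (by rw [hx]; funext t; simp)
      exact ⟨hqA x hxA, fun τ _ y v _ => (hccA x hxA y).1⟩
    | @insert i s his ih =>
      intro hsub x w hx
      have hi : i < n := Finset.mem_range.1 (hsub (Finset.mem_insert_self i s))
      obtain ⟨x1, hx1⟩ := (hproj x (fun j => if j ∈ insert i s then w j else 0) (hx.trans (funext fun t => by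
        simp only [ite_mul, zero_mul]
        rw [Finset.sum_ite_mem, Finset.inter_eq_right.2 hsub])) i hi).2 1
      simp only [Finset.mem_insert_self, if_true, one_mul] at hx1
      have hx' : D (x * x1⁻¹) = fun t => ∑ j ∈ s, w j * t ^ 2 ^ j := by
        rw [hDmul, hDinv, hx, hx1]
        funext t
        simp only [Pi.add_apply, Finset.sum_insert his]
        linear_combination (w i * t ^ 2 ^ i) * (CharTwo.two_eq_zero : (2 : GaloisField 2 n) = 0)
      obtain ⟨hq', hc'⟩ := ih ((Finset.subset_insert i s).trans hsub) _ w hx'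
      have hxe : x = x * x1⁻¹ * x1 := (inv_mul_cancel_right x x1).symm
      refine ⟨?_, fun τ hτ y v hy => ?_⟩
      · rw [hxe, hqq, hq', hmon x1 i (w i) hx1, hc' i hi x1 (w i) hx1, add_zero, add_zero]
      · rw [hxe, hccl, hc' τ hτ y v hy, hmm i hi τ hτ x1 y (w i) v hx1 hy, add_zero]
  -- conclusion
  intro x
  obtain ⟨w, hw⟩ := hexp x
  have hq := (hmain _ Finset.Subset.rfl x w hw).1
  exact hinvc _ (hinj _ (hA4 _ (hsqA x)) hq)

theorem comm_central (hP : Cfsg.IsSuzukiTwoGroup P) (x y : P) : x⁻¹ * y * x * y⁻¹ ∈ Subgroup.center P := by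
  have : x⁻¹ * y * x * y⁻¹ = (x * x)⁻¹ * ((x * y) * (x * y)) * (y * y)⁻¹ := by group
  rw [this]
  exact mul_mem (mul_mem (inv_mem (sq_central hP x)) (sq_central hP _)) (inv_mem (sq_central hP y))

/-- The order of a Suzuki two-group. -/
theorem card_cases (hP : Cfsg.IsSuzukiTwoGroup P) :
    Nat.card P = Nat.card (Subgroup.center P) ^ 2 ∨ Nat.card P = Nat.card (Subgroup.center P) ^ 3 := by
  classical
  obtain ⟨hinvc, hzc⟩ := center_elementary hP
  have hsc := sq_central hP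
  have hcc := comm_central hP
  obtain ⟨hfin, h2, hnab, K, hKc, htr, -⟩ := setup hP
  haveI := hKc
  haveI : Nontrivial P := by
    obtain ⟨x, y, hxy⟩ := hnab
    exact ⟨⟨x * y, y * x, hxy⟩⟩
  haveI : Fact (Nat.Prime 2) := ⟨Nat.prime_two⟩
  obtain ⟨n, hn, ι, hcard, hadd, hinj, -, -, -⟩ := coord h2 K hzc htr
  letI : Fintype (GaloisField 2 n) := Fintype.ofFinite _
  have hF : Fintype.card (GaloisField 2 n) = 2 ^ n := by
    rw [← Nat.card_eq_fintype_card]; exact GaloisField.card 2 n hn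
  set Z := Subgroup.center P with hZ
  obtain ⟨r, hr⟩ := IsPGroup.iff_card.1 (h2.to_quotient Z)
  have hPcard : Nat.card P = 2 ^ r * 2 ^ n := by
    rw [Subgroup.card_eq_card_quotient_mul_card_subgroup Z, hr, hcard]
  letI : Fintype (P ⧸ Z) := Fintype.ofFinite _
  have hι1 : ι 1 = 0 := by
    have := hadd 1 (one_mem _) 1 (one_mem _)
    rw [mul_one] at this
    exact left_eq_add.1 this
  -- the squaring map on the quotient
  let q : P ⧸ Z → GaloisField 2 n := fun w => ι (w.out * w.out)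
  have hq : ∀ x : P, q (x : P ⧸ Z) = ι (x * x) := by
    intro x
    obtain ⟨z, hz⟩ := QuotientGroup.mk_out_eq_mul Z x
    simp only [q]
    rw [hz, show x * z.1 * (x * z.1) = x * x * (z.1 * z.1) by
      rw [mul_assoc x z.1, ← mul_assoc z.1 x z.1, ← Subgroup.mem_center_iff.1 z.2 x]; group,
      hzc _ z.2, mul_one]
  let c : P → P → GaloisField 2 n := fun x y => ι (x⁻¹ * y * x * y⁻¹)
  have hqc : ∀ x y : P, q ((x : P ⧸ Z) * (y : P ⧸ Z)) = q (x : P ⧸ Z) + q (y : P ⧸ Z) + c x y := by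
    intro x y
    rw [← QuotientGroup.mk_mul, hq, hq, hq, sq_prod, hadd _ (hsc x) _ (mul_mem (hcc x y) (hsc y)),
      hadd _ (hcc x y) _ (hsc y)]
    ring
  let B : P ⧸ Z → P ⧸ Z → GaloisField 2 n := fun w v => q (w * v) + q w + q v
  have hB : ∀ x y : P, B (x : P ⧸ Z) (y : P ⧸ Z) = c x y := fun x y => by
    simp only [B, hqc]
    linear_combination (q (x : P ⧸ Z) + q (y : P ⧸ Z)) * (CharTwo.two_eq_zero : (2 : GaloisField 2 n) = 0)
  have hBadd : ∀ w w' v, B (w * w') v = B w v + B w' v := by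
    intro w w' v
    induction w using QuotientGroup.induction_on with | H x => ?_
    induction w' using QuotientGroup.induction_on with | H x' => ?_
    induction v using QuotientGroup.induction_on with | H y => ?_
    rw [← QuotientGroup.mk_mul, hB, hB, hB]
    simp only [c]
    rw [← hadd _ (hcc x y) _ (hcc x' y),
      show (x * x')⁻¹ * y * (x * x') * y⁻¹ = x'⁻¹ * (x⁻¹ * y * x * y⁻¹) * (y * x' * y⁻¹) by group,
      Subgroup.mem_center_iff.1 (hcc x y) x'⁻¹]
    congr 1
    group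
  have hani : ∀ w, q w = 0 ↔ w = 1 := by
    intro w
    induction w using QuotientGroup.induction_on with | H x => ?_
    rw [hq, QuotientGroup.eq_one_iff]
    exact ⟨fun h => hinvc x (hinj _ (hsc x) h), fun h => by rw [hzc x h, hι1]⟩
  have hle : r ≤ 2 * n := SuzukiField.quad_bound hn hF (W := P ⧸ Z) (by rw [← Nat.card_eq_fintype_card, hr]) q B
    (fun w v => by
      simp only [B]
      linear_combination (-(q w) - q v) * (CharTwo.two_eq_zero : (2 : GaloisField 2 n) = 0))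
    hBadd hani
  -- divisibility
  let T := {u : ↥Z // u ≠ 1}
  let fib : T → Type _ := fun u => {x : P // x * x = u.1.1}
  let eq : {x : P // x ∉ Z} ≃ Σ u : T, fib u :=
    { toFun := fun x => ⟨⟨⟨x.1 * x.1, hsc x.1⟩, fun h => x.2 (hinvc _ (congrArg Subtype.val h))⟩, ⟨x.1, rfl⟩⟩
      invFun := fun p => ⟨p.2.1, fun h => p.1.2 (Subtype.ext (p.2.2.symm.trans (hzc _ h)))⟩
      left_inv := fun x => rfl
      right_inv := fun ⟨⟨⟨u, hu⟩, hu1⟩, ⟨x, (hx : x * x = u)⟩⟩ => by
        subst hx; rfl }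
  obtain ⟨u0⟩ : Nonempty T := by
    haveI : Nontrivial ↥Z := Finite.one_lt_card_iff_nontrivial.1 (hcard ▸ Nat.one_lt_two_pow hn)
    obtain ⟨z, hz⟩ := exists_ne (1 : ↥Z)
    exact ⟨⟨z, hz⟩⟩
  have hconst : ∀ u : T, Nat.card (fib u) = Nat.card (fib u0) := by
    intro u
    obtain ⟨k, -, hk⟩ := htr u.1.1 u0.1.1 (fun h => u.2 (Subtype.ext h)) (hzc _ u.1.2)
      (fun h => u0.2 (Subtype.ext h)) (hzc _ u0.1.2)
    exact Nat.card_congr (k.toEquiv.subtypeEquiv fun x => by
      show x * x = u.1.1 ↔ k x * k x = u0.1.1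
      rw [← map_mul, ← hk, k.injective.eq_iff])
  letI : Fintype T := Fintype.ofFinite _
  have hcount : Nat.card {x : P // x ∉ Z} = (2 ^ n - 1) * Nat.card (fib u0) := by
    haveI : ∀ u, Finite (fib u) := fun u => Subtype.finite
    rw [Nat.card_congr eq, Nat.card_sigma, Finset.sum_congr rfl (fun u _ => hconst u), Finset.sum_const,
      smul_eq_mul, Finset.card_univ]
    congr 1
    letI : Fintype ↥Z := Fintype.ofFinite _
    rw [show Fintype.card T = Fintype.card ↥Z - Fintype.card {u : ↥Z // u = 1} from Fintype.card_subtype_compl _,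
      Fintype.card_subtype_eq, ← Nat.card_eq_fintype_card, hcard]
  have hdvd : (2 ^ n - 1) ∣ (2 ^ r - 1) := by
    have hc : Nat.card {x : P // x ∉ Z} + Nat.card ↥Z = Nat.card P := by
      rw [add_comm, ← Nat.card_congr (Equiv.sumCompl (fun x : P => x ∈ Z)), Nat.card_sum]
    rw [hcount, hcard, hPcard] at hc
    have hco : Nat.Coprime (2 ^ n - 1) (2 ^ n) := by
      have := Nat.one_le_two_pow (n := n)
      rw [Nat.coprime_self_sub_left this]; exact Nat.coprime_one_left _
    refine hco.dvd_of_dvd_mul_right ⟨Nat.card (fib u0), ?_⟩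
    rw [Nat.sub_mul, one_mul]
    omega
  have hdvd' : n ∣ r := by
    have := Nat.pow_sub_one_gcd_pow_sub_one 2 n r
    rw [Nat.gcd_eq_left hdvd] at this
    have h1 : (2 : ℕ) ^ n = 2 ^ Nat.gcd n r := by
      have := Nat.one_le_two_pow (n := n)
      have := Nat.one_le_two_pow (n := Nat.gcd n r)
      omega
    exact Nat.gcd_eq_left_iff_dvd.1 (Nat.pow_right_injective le_rfl h1).symm
  have hr0 : r ≠ 0 := by
    intro h
    rw [h, pow_zero, Subgroup.index_eq_card Z |>.symm, Subgroup.index_eq_one] at hr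
    obtain ⟨x, y, hxy⟩ := hnab
    exact hxy (Subgroup.mem_center_iff.1 (hr ▸ Subgroup.mem_top y : y ∈ Z) x)
  obtain ⟨m, rfl⟩ := hdvd'
  have hm : m = 1 ∨ m = 2 := by
    have : m ≤ 2 := by
      by_contra h
      have : n * 3 ≤ n * m := Nat.mul_le_mul_left n (by omega)
      omega
    have : m ≠ 0 := fun h => hr0 (by rw [h, mul_zero])
    omega
  rw [hPcard, hcard]
  rcases hm with rfl | rfl
  · left; ring
  · right; ring

theorem exponent_four (hP : Cfsg.IsSuzukiTwoGroup P) : Monoid.exponent P = 4 := by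
  obtain ⟨hinvc, hzc⟩ := center_elementary hP
  have h4 : Monoid.exponent P ∣ 2 ^ 2 := Monoid.exponent_dvd_of_forall_pow_eq_one fun x => by
    rw [pow_succ, pow_one, pow_mul, pow_two, pow_two]
    exact hzc _ (sq_central hP x)
  obtain ⟨i, hi, he⟩ := (Nat.dvd_prime_pow Nat.prime_two).1 h4
  by_cases h : i = 2
  · rw [he, h]; norm_num
  obtain ⟨x, y, hxy⟩ := hP.2.2.1
  exfalso
  refine hxy (Subgroup.mem_center_iff.1 (hinvc y ?_) x)
  rw [← pow_two]
  refine orderOf_dvd_iff_pow_eq_one.1 ((Monoid.order_dvd_exponent y).trans ?_)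
  rw [he]; exact (pow_dvd_pow 2 (show i ≤ 1 by omega)).trans (by norm_num)

end Cfsg.Agent.Char.SuzukiStruct
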