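import Cfsg.Agent.Lib.Char.Gallagher
import Cfsg.Agent.Lib.Char.Clifford
import Cfsg.Agent.Lib.Char.CliffordInd
import Cfsg.Agent.Lib.Char.IndValue
import Cfsg.Agent.Lib.Char.Inflate
import Cfsg.Agent.Lib.Char.Coprime
import Cfsg.Agent.Lib.Char.Degree
import Cfsg.Agent.Lib.Char.PermLemma
import Cfsg.Agent.Lib.Char.CliffordCorr

/-!
# Subgroups whose characters have the largest possible degree

If all degrees of `G` are at most `b`, then a character of degree `b` of a subgroup `H` is the
restriction of a character of `G`, and it vanishes outside the core of `H`.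
-/

set_option autoImplicit false

namespace Cfsg.Agent.Char.AbelianIndex

open Cfsg Cfsg.Agent.Char
open scoped ComplexConjugate

universe u

/-- All irreducible degrees are at most `b`. -/
def DegLE (b : ℕ) (G : Type u) [Group G] : Prop := ∀ χ : G → ℂ, IsIrrCharacter G χ → deg χ ≤ b

variable {G : Type u} [Group G] [Fintype G]

theorem classInner_self_normSq (a : G → ℂ) :
    classInner a a = (((∑ g : G, Complex.normSq (a g)) / (Nat.card G : ℝ) : ℝ) : ℂ) := by
  rw [classInner, Complex.ofReal_div, Complex.ofReal_sum, div_eq_inv_mul]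
  simp [Complex.mul_conj]

theorem sum_normSq_irr {χ : G → ℂ} (h : IsIrrCharacter G χ) :
    ∑ g : G, Complex.normSq (χ g) = (Nat.card G : ℝ) := by
  have h1 := irr_self h
  rw [classInner_self_normSq] at h1
  have h2 : ((∑ g : G, Complex.normSq (χ g)) / (Nat.card G : ℝ)) = 1 := by exact_mod_cast h1
  have h0 : (Nat.card G : ℝ) ≠ 0 := Nat.cast_ne_zero.2 Nat.card_pos.ne'
  field_simp at h2
  linarith

theorem isIrr_of_sum_normSq {χ : G → ℂ} (h : IsCharacter G χ)
    (hs : ∑ g : G, Complex.normSq (χ g) = (Nat.card G : ℝ)) : IsIrrCharacter G χ := by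
  refine isIrr_of_norm_one h ?_
  rw [classInner_self_normSq, hs, div_self (Nat.cast_ne_zero.2 Nat.card_pos.ne')]
  simp

theorem sum_support {M : Type*} [AddCommMonoid M] (Y : Subgroup G) [Fintype Y] (f : G → M)
    (hf : ∀ g ∉ Y, f g = 0) : ∑ g : G, f g = ∑ y : Y, f y := by
  classical
  rw [← Finset.sum_subset (Finset.subset_univ (Finset.univ.filter (· ∈ Y)))
    (fun g _ hg => hf g (by simpa using hg))]
  exact Finset.sum_subtype (p := fun g => g ∈ Y) _ (fun g => by simp) f

variable {b : ℕ}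

theorem exists_constituent (H : Subgroup G) [Fintype H] {θ : H → ℂ} (hθ : IsIrrCharacter H θ) :
    ∃ φ : IrrCharacter G, classInner (indFun H θ) (φ : G → ℂ) ≠ 0 := by
  classical
  by_contra hcon
  simp only [not_exists, not_not] at hcon
  obtain ⟨m, hm⟩ := exists_decomposition (isCharacter_indFun H (irr_isCharacter hθ))
  have h0 : ∀ φ, m φ = 0 := fun φ => by
    have := decomposition_coeff m hm φ
    rw [hcon φ] at this
    exact_mod_cast this.symm
  have h1 := congrFun hm 1
  simp [h0] at h1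
  rw [indFun_one] at h1
  exact mul_ne_zero (Nat.cast_ne_zero.2 Subgroup.index_ne_zero_of_finite) (irr_one_ne_zero hθ) h1

theorem inner_restrict_ne (H : Subgroup G) [Fintype H] (θ : H → ℂ) (φ : IrrCharacter G)
    (h : classInner (indFun H θ) (φ : G → ℂ) ≠ 0) :
    classInner (fun x : H => (φ : G → ℂ) x) θ ≠ 0 := by
  rw [frobenius H θ (isClassFunction_character (irr_isCharacter φ.2))] at h
  intro h0
  apply h
  rw [← classInner_symm, h0, map_zero]

theorem deg_le_constituent (H : Subgroup G) [Fintype H] (θ : IrrCharacter H) (φ : IrrCharacter G)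
    (h : classInner (indFun H (θ : H → ℂ)) (φ : G → ℂ) ≠ 0) :
    deg (θ : H → ℂ) ≤ deg (φ : G → ℂ) := by
  have h1 := degree_le_of_classInner_ne_zero
    (ψ := fun x : H => (φ : G → ℂ) x) (isCharacter_comp H.subtype (irr_isCharacter φ.2)) θ
    (inner_restrict_ne H _ φ h)
  exact Nat.floor_le_floor (by simpa using h1)

theorem DegLE.subgroup (hb : DegLE b G) (H : Subgroup G) : DegLE b H := by
  intro θ hθ
  haveI := Fintype.ofFinite H
  obtain ⟨φ, hφ⟩ := exists_constituent H hθ
  exact (deg_le_constituent H ⟨θ, hθ⟩ φ hφ).trans (hb _ φ.2)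

theorem DegLE.quotient (hb : DegLE b G) (M : Subgroup G) [M.Normal] : DegLE b (G ⧸ M) := by
  intro ψ hψ
  haveI := Fintype.ofFinite (G ⧸ M)
  refine le_trans (le_of_eq ?_) (hb _ (isIrr_inflate M hψ))
  simp [deg, QuotientGroup.mk_one]

/-- A character of degree `b` of a subgroup extends; so does it as every constituent. -/
theorem restrict_eq (hb : DegLE b G) (H : Subgroup G) [Fintype H] (θ : IrrCharacter H)
    (hd : deg (θ : H → ℂ) = b) (φ : IrrCharacter G)
    (h : classInner (indFun H (θ : H → ℂ)) (φ : G → ℂ) ≠ 0) (x : H) :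
    (φ : G → ℂ) x = (θ : H → ℂ) x := by
  have hle := deg_le_constituent H θ φ h
  have hφ : deg (φ : G → ℂ) = b := le_antisymm (hb _ φ.2) (hd ▸ hle)
  have hres : IsCharacter H (fun x : H => (φ : G → ℂ) x) :=
    isCharacter_comp H.subtype (irr_isCharacter φ.2)
  exact congrFun (eq_of_inner_ne_zero_of_deg hres θ (inner_restrict_ne H _ φ h) (by
    rw [show ((1 : H) : G) = 1 from rfl, char_one_eq_deg (irr_isCharacter φ.2),
      char_one_eq_deg (irr_isCharacter θ.2), hd, hφ])) x

theorem exists_ext (hb : DegLE b G) (H : Subgroup G) [Fintype H] (θ : IrrCharacter H)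
    (hd : deg (θ : H → ℂ) = b) :
    ∃ χ : IrrCharacter G, ∀ x : H, (χ : G → ℂ) x = (θ : H → ℂ) x := by
  obtain ⟨φ, hφ⟩ := exists_constituent H θ.2
  exact ⟨φ, restrict_eq hb H θ hd φ hφ⟩

/-- A character of degree `b` of `H` vanishes outside the core of `H`. -/
theorem vanish (hb : DegLE b G) (H : Subgroup G) [Fintype H] (θ : IrrCharacter H)
    (hd : deg (θ : H → ℂ) = b) (x : H) (hx : (θ : H → ℂ) x ≠ 0) : (x : G) ∈ H.normalCore := by
  classical
  obtain ⟨χ, hχ⟩ := exists_ext hb H θ hd
  set F := indFun H (θ : H → ℂ) with hF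
  set π : G → ℕ := fun g => Nat.card (MulAction.fixedBy (G ⧸ H) g) with hπdef
  have hπ : ∀ g, (π g : ℂ) = indFun H (fun _ => 1) g := fun g => by
    have := card_fixedBy_eq_indFun (X := G ⧸ H) (QuotientGroup.mk 1) g
    rwa [MulAction.stabilizer_quotient] at this
  have hFχ : ∀ g, F g = (π g : ℂ) * (χ : G → ℂ) g := fun g => by
    rw [hF, hπ, indFun, indFun, mul_assoc, Finset.sum_mul]
    congr 1
    refine Finset.sum_congr rfl fun y _ => ?_
    by_cases hy : y⁻¹ * g * y ∈ H
    · rw [extendByZero_mem H _ hy, extendByZero_mem H _ hy, one_mul, ← hχ]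
      have := isClassFunction_character (irr_isCharacter χ.2) g y⁻¹
      rwa [inv_inv] at this
    · rw [extendByZero_not_mem H _ hy, extendByZero_not_mem H _ hy, zero_mul]
  -- the two norms
  obtain ⟨m, hm⟩ := exists_decomposition (isCharacter_indFun H (irr_isCharacter θ.2))
  have hm1 : ∀ φ, m φ ≠ 0 → m φ = 1 ∧ deg ((φ : IrrCharacter G) : G → ℂ) = b := fun φ hφ => by
    have hne : classInner F (φ : G → ℂ) ≠ 0 := by
      rw [hF, decomposition_coeff m hm φ]; exact Nat.cast_ne_zero.2 hφ
    have hr := restrict_eq hb H θ hd φ hne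
    constructor
    · have := decomposition_coeff m hm φ
      rw [frobenius H _ (isClassFunction_character (irr_isCharacter φ.2)), funext hr,
        irr_self θ.2] at this
      exact_mod_cast this.symm
    · exact le_antisymm (hb _ φ.2) (hd ▸ deg_le_constituent H θ φ hne)
  have hb0 : 0 < b := hd ▸ deg_pos θ.2
  have hdegsum : ∑ φ, m φ * b = H.index * b := by
    have h1 := congrFun hm 1
    rw [indFun_one, char_one_eq_deg (irr_isCharacter θ.2), hd, Finset.sum_apply] at h1
    have h2 : (H.index * b : ℕ) = ∑ φ, m φ * b := by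
      have h3 : ((H.index * b : ℕ) : ℂ) = ((∑ φ, m φ * b : ℕ) : ℂ) := by
        push_cast
        rw [h1]
        refine Finset.sum_congr rfl fun φ _ => ?_
        by_cases h0 : m φ = 0
        · simp [h0]
        · simp [char_one_eq_deg (irr_isCharacter φ.2), (hm1 φ h0).2]
      exact_mod_cast h3
    exact h2.symm
  have hsum : ∑ φ, m φ = H.index := by
    rw [← Finset.sum_mul] at hdegsum
    exact Nat.eq_of_mul_eq_mul_right hb0 hdegsum
  have hnormF : classInner F F = (H.index : ℂ) := by
    nth_rewrite 1 [hF]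
    rw [hm, classInner_sum_left, ← hsum, Nat.cast_sum]
    refine Finset.sum_congr rfl fun φ _ => ?_
    rw [← Nat.cast_smul_eq_nsmul ℂ, classInner_smul_left, ← classInner_symm, hF,
      decomposition_coeff m hm φ, map_natCast]
    by_cases h0 : m φ = 0
    · simp [h0]
    · simp [(hm1 φ h0).1]
  have hinner : classInner F (χ : G → ℂ) = 1 := by
    rw [hF, frobenius H _ (isClassFunction_character (irr_isCharacter χ.2)), funext hχ, irr_self θ.2]
  have hcard : (Nat.card G : ℂ) ≠ 0 := Nat.cast_ne_zero.2 Nat.card_pos.ne'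
  have h2 : ∑ g : G, ((π g : ℝ) ^ 2 * Complex.normSq ((χ : G → ℂ) g))
      = (H.index : ℝ) * Nat.card G := by
    rw [classInner, inv_mul_eq_iff_eq_mul₀ hcard] at hnormF
    have : ((∑ g : G, ((π g : ℝ) ^ 2 * Complex.normSq ((χ : G → ℂ) g)) : ℝ) : ℂ)
        = (((H.index : ℝ) * Nat.card G : ℝ) : ℂ) := by
      push_cast
      rw [mul_comm (H.index : ℂ), ← hnormF]
      refine Finset.sum_congr rfl fun g _ => ?_
      rw [hFχ, map_mul, Complex.conj_natCast, ← Complex.mul_conj]; ring
    exact_mod_cast this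
  have h1 : ∑ g : G, ((π g : ℝ) * Complex.normSq ((χ : G → ℂ) g)) = (Nat.card G : ℝ) := by
    rw [classInner, inv_mul_eq_iff_eq_mul₀ hcard, mul_one] at hinner
    have : ((∑ g : G, ((π g : ℝ) * Complex.normSq ((χ : G → ℂ) g)) : ℝ) : ℂ)
        = ((Nat.card G : ℝ) : ℂ) := by
      push_cast
      rw [← hinner]
      refine Finset.sum_congr rfl fun g _ => ?_
      rw [hFχ, ← Complex.mul_conj]; ring
    exact_mod_cast this
  have hle : ∀ g, π g ≤ H.index := fun g => by
    rw [hπdef, Subgroup.index]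
    exact Finite.card_subtype_le _
  have hz : ∑ g : G, ((π g : ℝ) * ((H.index : ℝ) - π g) * Complex.normSq ((χ : G → ℂ) g)) = 0 := by
    calc _ = (H.index : ℝ) * ∑ g : G, ((π g : ℝ) * Complex.normSq ((χ : G → ℂ) g))
          - ∑ g : G, ((π g : ℝ) ^ 2 * Complex.normSq ((χ : G → ℂ) g)) := by
            rw [Finset.mul_sum, ← Finset.sum_sub_distrib]
            exact Finset.sum_congr rfl fun g _ => by ring
      _ = 0 := by rw [h1, h2, sub_self]
  have hnn : ∀ g ∈ (Finset.univ : Finset G),
      0 ≤ (π g : ℝ) * ((H.index : ℝ) - π g) * Complex.normSq ((χ : G → ℂ) g) := fun g _ =>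
    mul_nonneg (mul_nonneg (Nat.cast_nonneg _) (sub_nonneg.2 (Nat.cast_le.2 (hle g))))
      (Complex.normSq_nonneg _)
  have hzero := (Finset.sum_eq_zero_iff_of_nonneg hnn).1 hz (x : G) (Finset.mem_univ _)
  have hx' : Complex.normSq ((χ : G → ℂ) x) ≠ 0 := by rw [Complex.normSq_eq_zero.ne, hχ]; exact hx
  have hfix : (QuotientGroup.mk 1 : G ⧸ H) ∈ MulAction.fixedBy (G ⧸ H) (x : G) := by
    show (x : G) • (QuotientGroup.mk 1 : G ⧸ H) = QuotientGroup.mk 1
    rw [MulAction.Quotient.smul_mk, smul_eq_mul, mul_one, QuotientGroup.eq]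
    simpa using x.2
  have hπ0 : π x ≠ 0 := (Nat.card_pos_iff.2 ⟨⟨⟨_, hfix⟩⟩, inferInstance⟩).ne'
  have heq : π x = H.index := by
    rcases mul_eq_zero.1 hzero with h | h
    · rcases mul_eq_zero.1 h with h | h
      · exact absurd (Nat.cast_eq_zero.1 h) hπ0
      · exact_mod_cast (sub_eq_zero.1 h).symm
    · exact absurd h hx'
  have huniv : MulAction.fixedBy (G ⧸ H) (x : G) = Set.univ :=
    Set.eq_of_subset_of_ncard_le (Set.subset_univ _) (by
      rw [Set.ncard_univ, ← Nat.card_coe_set_eq]; exact heq.ge) (Set.toFinite _)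
  rw [H.normalCore_eq_ker, MonoidHom.mem_ker]
  exact Equiv.ext fun q => (Set.eq_univ_iff_forall.1 huniv q : _)

/-- A character supported on a subgroup `N` has norm `|H : N|` there. -/
theorem norm_support {H : Type u} [Group H] [Fintype H] (N : Subgroup H) (θ : IrrCharacter H)
    (hd : deg (θ : H → ℂ) = b) (hsup : ∀ x ∉ N, (θ : H → ℂ) x = 0) :
    ∃ (k : ℕ) (m : Fin k → ℕ), Nat.card H = Nat.card N * ∑ i, m i ^ 2 ∧ ∑ i, m i ≤ b := by
  classical
  haveI := Fintype.ofFinite N
  have hres : IsCharacter N (fun x : N => (θ : H → ℂ) x) :=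
    isCharacter_comp N.subtype (irr_isCharacter θ.2)
  obtain ⟨m, hm⟩ := exists_decomposition hres
  let e := (Fintype.equivFin (IrrCharacter N)).symm
  refine ⟨_, fun i => m (e i), ?_, ?_⟩
  · rw [e.sum_comp (fun φ => m φ ^ 2)]
    have hn : classInner (fun x : N => (θ : H → ℂ) x) (fun x : N => (θ : H → ℂ) x)
        = ((∑ φ, m φ ^ 2 : ℕ) : ℂ) := by
      nth_rewrite 1 [hm]
      rw [classInner_sum_left, Nat.cast_sum]
      refine Finset.sum_congr rfl fun φ _ => ?_
      rw [← Nat.cast_smul_eq_nsmul ℂ, classInner_smul_left, ← classInner_symm,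
        decomposition_coeff m hm φ, map_natCast, Nat.cast_pow, pow_two]
    have hs := sum_normSq_irr θ.2
    rw [sum_support N _ (fun x hx => by rw [hsup x hx, map_zero])] at hs
    rw [classInner_self_normSq, hs] at hn
    have hn' : (Nat.card H : ℝ) / Nat.card N = ((∑ φ, m φ ^ 2 : ℕ) : ℝ) := by
      exact_mod_cast hn
    rw [div_eq_iff (Nat.cast_ne_zero.2 Nat.card_pos.ne')] at hn'
    rw [mul_comm]
    exact_mod_cast hn'
  · rw [e.sum_comp (fun φ => m φ), ← hd]
    have h1 := congrFun hm 1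
    rw [Finset.sum_apply, show ((1 : N) : H) = 1 from rfl,
      char_one_eq_deg (irr_isCharacter θ.2)] at h1
    have h2 : deg (θ : H → ℂ) = ∑ φ, m φ * deg (φ : N → ℂ) := by
      have h3 : ((deg (θ : H → ℂ) : ℕ) : ℂ) = ((∑ φ, m φ * deg (φ : N → ℂ) : ℕ) : ℂ) := by
        push_cast
        rw [h1]
        exact Finset.sum_congr rfl fun φ _ => by simp [char_one_eq_deg (irr_isCharacter φ.2)]
      exact_mod_cast h3
    rw [h2]
    exact Finset.sum_le_sum fun φ _ => Nat.le_mul_of_pos_right _ (deg_pos φ.2)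

/-- Normal subgroups with nonabelian quotient have degrees at most `b / 2`. -/
theorem half (hb : DegLE b G) (N : Subgroup G) [N.Normal] (ψ : IrrCharacter G)
    (hψ : 2 ≤ deg (ψ : G → ℂ)) (hker : ∀ n : N, (ψ : G → ℂ) n = (ψ : G → ℂ) 1) :
    DegLE (b / 2) N := by
  classical
  intro η hη
  haveI := Fintype.ofFinite N
  set η' : IrrCharacter N := ⟨η, hη⟩
  by_contra hlt
  have hc : b < 2 * deg η := by omega
  obtain ⟨χ, hχ⟩ := exists_constituent N hη
  have hne := inner_restrict_ne N η χ hχ
  have hcl := clifford_restrict χ η' hne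
  obtain ⟨e, he⟩ := classInner_natCast
    (isCharacter_comp N.subtype (irr_isCharacter χ.2)) (irr_isCharacter hη)
  have he' : classInner (fun n : N => (χ : G → ℂ) n) η = (e : ℂ) := he
  have he0 : e ≠ 0 := fun h => hne (by rw [he', h, Nat.cast_zero])
  have hsum1 : (∑ φ ∈ cliffOrbit N η', (φ : N → ℂ)) (1 : N)
      = (((cliffOrbit N η').card * deg η : ℕ) : ℂ) := by
    rw [Finset.sum_apply, Nat.cast_mul, ← nsmul_eq_mul, ← Finset.sum_const]
    refine Finset.sum_congr rfl fun φ hφ => ?_
    obtain ⟨g, rfl⟩ := mem_cliffOrbit.1 hφ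
    rw [irrComp_apply, map_one]
    exact char_one_eq_deg (irr_isCharacter hη)
  have hone : (χ : G → ℂ) ((1 : N) : G) = (e : ℂ) * (((cliffOrbit N η').card * deg η : ℕ) : ℂ) := by
    have := congrFun hcl 1
    rw [Pi.smul_apply, smul_eq_mul, hsum1, show classInner (fun n : N => (χ : G → ℂ) n) (η' : N → ℂ) = (e : ℂ) from he'] at this
    exact this
  have hdeg : deg (χ : G → ℂ) = e * ((cliffOrbit N η').card * deg η) := by
    rw [show ((1 : N) : G) = 1 from rfl, char_one_eq_deg (irr_isCharacter χ.2)] at hone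
    exact_mod_cast hone
  have hcard : 0 < (cliffOrbit N η').card := Finset.card_pos.2 ⟨_, self_mem_cliffOrbit η'⟩
  have het : e * (cliffOrbit N η').card = 1 := by
    have h1 := hb _ χ.2
    rw [hdeg, ← mul_assoc] at h1
    have h2 : 0 < e * (cliffOrbit N η').card := Nat.mul_pos (Nat.pos_of_ne_zero he0) hcard
    by_contra h3
    have : 2 * deg η ≤ e * (cliffOrbit N η').card * deg η := Nat.mul_le_mul_right _ (by omega)
    omega
  have he1 := Nat.eq_one_of_mul_eq_one_right het
  have ht1 := Nat.eq_one_of_mul_eq_one_left het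
  obtain ⟨φ₀, hφ₀⟩ := Finset.card_eq_one.1 ht1
  have hφη : φ₀ = η' := by
    have := self_mem_cliffOrbit (G := G) η'
    rw [hφ₀, Finset.mem_singleton] at this
    exact this.symm
  have hres : ∀ n : N, (χ : G → ℂ) n = η n := fun n => by
    have := congrFun hcl n
    rw [show classInner (fun n : N => (χ : G → ℂ) n) (η' : N → ℂ) = (e : ℂ) from he', hφ₀,
      Finset.sum_singleton, hφη, he1] at this
    simpa using this
  have hinv : ∀ (g : G) (n : N), η (MulAut.conjNormal g n) = η n := fun g n => by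
    rw [← hres, ← hres, MulAut.conjNormal_apply]
    exact isClassFunction_character (irr_isCharacter χ.2) _ _
  have hgal := (gallagher N (fun _ => 1) η isIrrCharacter_one (fun _ _ => rfl) hinv (by
    have : ((fun _ : N => (1 : ℂ)) * η) = η := funext fun n => one_mul _
    rw [this]; exact hη) (irr_isCharacter χ.2) hres).mapsTo
    (show (ψ : G → ℂ) ∈ _ from ⟨ψ.2, (constituent_indFun_one_iff N ψ.2).2 hker⟩)
  have hbig := hb _ hgal.1
  have h1 : deg ((ψ : G → ℂ) * (χ : G → ℂ)) = deg (ψ : G → ℂ) * deg η := by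
    have h := char_one_eq_deg (irr_isCharacter hgal.1)
    rw [Pi.mul_apply, char_one_eq_deg (irr_isCharacter ψ.2), show (χ : G → ℂ) 1 = η 1 from hres 1,
      char_one_eq_deg (irr_isCharacter hη)] at h
    exact_mod_cast h.symm
  have : 2 * deg η ≤ deg (ψ : G → ℂ) * deg η := Nat.mul_le_mul_right _ hψ
  rw [h1] at hbig
  omega

end Cfsg.Agent.Char.AbelianIndex
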