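import Cfsg.Agent.Lib.Char.AbelianIndexBase
import Cfsg.Agent.Lib.Perm.CharSimple
import Cfsg.Agent.S0496
import Cfsg.Agent.S0494
import Cfsg.Agent.S2119

/-!
# An abelian subgroup of index at most `(b!)^2`

`b` a bound for the irreducible degrees. The induction passes to the kernel of a minimal
nonabelian quotient, or to a subgroup that is a preimage of an element centraliser there.
-/

set_option autoImplicit false

namespace Cfsg.Agent.Char.AbelianIndex

open Cfsg Cfsg.Agent.Char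
open scoped ComplexConjugate Nat

universe u

variable {G : Type u} [Group G] [Fintype G] {b : ℕ}

/-- The inductive step. -/
def Step (b : ℕ) (G : Type u) [Group G] : Prop :=
  ∃ (H : Subgroup G) (c : ℕ), c < b ∧ DegLE c H ∧ H.index * c ! ^ 2 ≤ b ! ^ 2

theorem step_of_subgroup (hb : DegLE b G) (hb0 : 0 < b) (H : Subgroup G) (hidx : H.index ≤ b ^ 2)
    (hno : ∀ θ : IrrCharacter H, deg (θ : H → ℂ) ≠ b) : Step b G := by
  refine ⟨H, b - 1, by omega, fun θ hθ => ?_, ?_⟩
  · have h1 := hb.subgroup H θ hθ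
    have h2 := hno ⟨θ, hθ⟩
    show deg θ ≤ b - 1
    change deg θ ≠ b at h2
    omega
  · calc H.index * (b - 1)! ^ 2 ≤ b ^ 2 * (b - 1)! ^ 2 := Nat.mul_le_mul_right _ hidx
      _ = (b * (b - 1)!) ^ 2 := (mul_pow _ _ _).symm
      _ = b ! ^ 2 := by rw [Nat.mul_factorial_pred (by omega)]

theorem fact_three (hb : 3 ≤ b) : b ^ 3 * (b / 2)! ^ 2 ≤ b ! ^ 2 := by
  obtain ⟨a, rfl⟩ : ∃ a, b = a + 3 := ⟨b - 3, by omega⟩
  have h1 : ((a + 3) / 2)! ≤ (a + 1)! := Nat.factorial_le (by omega)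
  have h2 : (a + 3)! = (a + 3) * (a + 2) * (a + 1)! := by
    rw [Nat.factorial_succ, Nat.factorial_succ]; ring
  have h3 : (a + 3) ^ 3 ≤ ((a + 3) * (a + 2)) ^ 2 := by nlinarith
  rw [h2, mul_pow]
  exact Nat.mul_le_mul h3 (Nat.pow_le_pow_left h1 2)

theorem fact_five (hb : 5 ≤ b) : b ^ 4 * (b / 2)! ^ 2 ≤ b ! ^ 2 := by
  obtain ⟨a, rfl⟩ : ∃ a, b = a + 5 := ⟨b - 5, by omega⟩
  have h1 : ((a + 5) / 2)! ≤ (a + 2)! := Nat.factorial_le (by omega)
  have h2 : (a + 5)! = (a + 5) * (a + 4) * (a + 3) * (a + 2)! := by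
    rw [Nat.factorial_succ, Nat.factorial_succ, Nat.factorial_succ]; ring
  have h3 : (a + 5) ^ 2 ≤ (a + 5) * (a + 4) * (a + 3) := by nlinarith
  rw [h2, mul_pow, show (a + 5) ^ 4 = ((a + 5) ^ 2) ^ 2 by ring]
  exact Nat.mul_le_mul (Nat.pow_le_pow_left h3 2) (Nat.pow_le_pow_left h1 2)

theorem arith_four {k : ℕ} (m : Fin k → ℕ) (hb : ∑ i, m i ≤ 4) :
    ∑ i, m i ^ 2 = 16 ∨ ∑ i, m i ^ 2 ≤ 10 := by
  classical
  by_cases h : ∃ i, 3 ≤ m i
  · obtain ⟨i, hi⟩ := h
    rw [← Finset.add_sum_erase _ _ (Finset.mem_univ i)] at hb ⊢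
    have hle : ∑ j ∈ Finset.univ.erase i, m j ^ 2 ≤ ∑ j ∈ Finset.univ.erase i, m j :=
      Finset.sum_le_sum fun j hj => by
        have := Finset.single_le_sum (f := m) (fun j _ => Nat.zero_le _) hj
        nlinarith
    rcases (show m i = 3 ∨ m i = 4 by omega) with h3 | h4
    · right
      rw [h3]
      omega
    · left
      rw [h4]
      omega
  · push_neg at h
    right
    calc ∑ i, m i ^ 2 ≤ ∑ i, 2 * m i := Finset.sum_le_sum fun i _ => by
          have := h i; nlinarith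
      _ = 2 * ∑ i, m i := (Finset.mul_sum _ _ _).symm
      _ ≤ 10 := by omega

theorem arith_two {k : ℕ} (m : Fin k → ℕ) (hb : ∑ i, m i ≤ 2) : ∑ i, m i ^ 2 ≠ 3 := by
  classical
  by_cases h : ∃ i, 2 ≤ m i
  · obtain ⟨i, hi⟩ := h
    rw [← Finset.add_sum_erase _ _ (Finset.mem_univ i)] at hb ⊢
    have hi4 : m i = 2 := by omega
    have hz : ∑ j ∈ Finset.univ.erase i, m j = 0 := by omega
    rw [Finset.sum_eq_zero (fun j hj => by rw [Finset.sum_eq_zero_iff.1 hz j hj]; rfl), hi4]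
    omega
  · push_neg at h
    have : ∑ i, m i ^ 2 ≤ ∑ i, m i := Finset.sum_le_sum fun i _ => by
      have := h i; nlinarith
    omega

theorem sq_le_sq_sum {k : ℕ} (m : Fin k → ℕ) {b : ℕ} (hb : ∑ i, m i ≤ b) :
    ∑ i, m i ^ 2 ≤ b ^ 2 := by
  calc ∑ i, m i ^ 2 ≤ ∑ i, b * m i := Finset.sum_le_sum fun i _ => by
        rw [pow_two]
        exact Nat.mul_le_mul_right _ ((Finset.single_le_sum (fun j _ => Nat.zero_le (m j))
          (Finset.mem_univ i)).trans hb)
    _ = b * ∑ i, m i := (Finset.mul_sum _ _ _).symm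
    _ ≤ b ^ 2 := by rw [pow_two]; exact Nat.mul_le_mul_left _ hb

section Quotient

variable (M : Subgroup G) [M.Normal]

theorem step_half (hb : DegLE b G) (hψ : ∃ ψ : IrrCharacter (G ⧸ M), 2 ≤ deg (ψ : G ⧸ M → ℂ))
    (hidx : M.index * (b / 2)! ^ 2 ≤ b ! ^ 2) : Step b G := by
  haveI := Fintype.ofFinite (G ⧸ M)
  obtain ⟨ψ, hψ⟩ := hψ
  refine ⟨M, b / 2, ?_, half hb M ⟨_, isIrr_inflate M ψ.2⟩ ?_ fun n => ?_, hidx⟩
  · have := (hb.quotient M _ ψ.2)
    omega
  · have : deg (fun g : G => (ψ : G ⧸ M → ℂ) (QuotientGroup.mk g)) = deg (ψ : G ⧸ M → ℂ) := by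
      simp [deg, QuotientGroup.mk_one]
    exact this ▸ hψ
  · show (ψ : G ⧸ M → ℂ) _ = (ψ : G ⧸ M → ℂ) _
    rw [(QuotientGroup.eq_one_iff (n : G)).2 n.2, QuotientGroup.mk_one]

variable (hmin : ∀ K : Subgroup (G ⧸ M), K.Normal → K ≠ ⊥ → commutator (G ⧸ M) ≤ K)
  (hV : commutator (G ⧸ M) ≠ ⊥)

include hV in
theorem exists_nonlinear : ∃ ψ : IrrCharacter (G ⧸ M), 2 ≤ deg (ψ : G ⧸ M → ℂ) := by
  by_contra hcon
  push_neg at hcon
  apply hV
  rw [commutator_def, Subgroup.commutator_eq_bot_iff_le_centralizer]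
  intro x _
  rw [Subgroup.mem_centralizer_iff]
  intro y _
  refine (forall_linear_iff_comm.2 fun ψ => ?_) y x
  have h1 := hcon ψ
  have h2 := deg_pos ψ.2
  rw [char_one_eq_deg (irr_isCharacter ψ.2), show deg (ψ : G ⧸ M → ℂ) = 1 by omega, Nat.cast_one]

include hmin hV in
theorem step_central (hb : DegLE b G) (hc : commutator (G ⧸ M) ≤ Subgroup.center (G ⧸ M)) :
    Step b G := by
  classical
  haveI := Fintype.ofFinite (G ⧸ M)
  obtain ⟨ψ, hψ⟩ := exists_nonlinear M hV
  have hψ1 := irr_one_ne_zero ψ.2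
  have hψc := irr_isCharacter ψ.2
  -- `ψ` is faithful on the centre
  have hfaith : ∀ w : G ⧸ M, w ∈ commutator (G ⧸ M) →
      (ψ : G ⧸ M → ℂ) w = (ψ : G ⧸ M → ℂ) 1 → w = 1 := by
    intro w hw hw1
    by_contra hne
    obtain ⟨n, ρ, hρ, hρψ⟩ := ψ.2
    have hkey : ∀ g, (ψ : G ⧸ M → ℂ) g = (ψ : G ⧸ M → ℂ) 1 ↔ ρ g = LinearMap.id := fun g => by
      rw [← eq_id_iff, hρψ]
      have : (ψ : G ⧸ M → ℂ) 1 = (Module.finrank ℂ (Fin n → ℂ) : ℂ) := by
        rw [← hρψ, Representation.char_one]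
      rw [this]
    have hK : commutator (G ⧸ M) ≤ ρ.ker := hmin _ inferInstance fun h => hne (by
      have : w ∈ ρ.ker := by rw [MonoidHom.mem_ker, (hkey w).1 hw1]; rfl
      rwa [h, Subgroup.mem_bot] at this)
    haveI : (commutator (G ⧸ M)).Normal := inferInstance
    have hker : ∀ v ∈ commutator (G ⧸ M), (ψ : G ⧸ M → ℂ) v = (ψ : G ⧸ M → ℂ) 1 := fun v hv =>
      (hkey v).2 (MonoidHom.mem_ker.1 (hK hv))
    haveI := Fintype.ofFinite ((G ⧸ M) ⧸ commutator (G ⧸ M))
    obtain ⟨ψ', hψ'⟩ := exists_deflate (commutator (G ⧸ M)) ψ.2 hker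
    have h1 : (ψ' : (G ⧸ M) ⧸ commutator (G ⧸ M) → ℂ) 1 = 1 :=
      forall_linear_iff_comm.1 (fun a c => by
        obtain ⟨a, rfl⟩ := QuotientGroup.mk_surjective a
        obtain ⟨c, rfl⟩ := QuotientGroup.mk_surjective c
        rw [← QuotientGroup.mk_mul, ← QuotientGroup.mk_mul, QuotientGroup.eq]
        have := Subgroup.commutator_mem_commutator (Subgroup.mem_top c⁻¹) (Subgroup.mem_top a⁻¹)
        rw [commutatorElement_def, inv_inv, inv_inv, ← commutator_def] at this
        simpa [mul_assoc] using this) ψ'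
    have h2 : deg (ψ : G ⧸ M → ℂ) = 1 := by
      have h3 := hψ' 1
      rw [QuotientGroup.mk_one, h1, char_one_eq_deg hψc] at h3
      exact_mod_cast h3.symm
    omega
  set Z := Subgroup.center (G ⧸ M) with hZ
  set d := deg (ψ : G ⧸ M → ℂ) with hd
  have hoff : ∀ g, g ∉ Z → (ψ : G ⧸ M → ℂ) g = 0 := by
    intro g hg
    rw [hZ, Subgroup.mem_center_iff] at hg
    push_neg at hg
    obtain ⟨h, hh⟩ := hg
    set w := h * g * h⁻¹ * g⁻¹ with hw
    have hwV : w ∈ commutator (G ⧸ M) := by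
      rw [commutator_def, hw, ← commutatorElement_def]
      exact Subgroup.commutator_mem_commutator (Subgroup.mem_top h) (Subgroup.mem_top g)
    have hw1 : w ≠ 1 := fun e => hh (by
      rw [hw, mul_inv_eq_one, mul_inv_eq_iff_eq_mul] at e
      exact e)
    have h1 : (ψ : G ⧸ M → ℂ) (w * g) = (ψ : G ⧸ M → ℂ) g := by
      rw [hw, inv_mul_cancel_right]
      exact isClassFunction_character hψc g h
    rw [char_central_mul ψ.2 (hc hwV)] at h1
    by_contra hg0
    refine hw1 (hfaith w hwV ?_)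
    have h2 : (ψ : G ⧸ M → ℂ) w / (ψ : G ⧸ M → ℂ) 1 = 1 :=
      mul_right_cancel₀ hg0 (h1.trans (one_mul _).symm)
    exact (div_eq_one_iff_eq hψ1).1 h2
  have hon : ∀ z ∈ Z, Complex.normSq ((ψ : G ⧸ M → ℂ) z) = (d : ℝ) ^ 2 := by
    intro z hz
    have e := char_central_mul ψ.2 hz z⁻¹
    rw [mul_inv_cancel, char_inv hψc, char_one_eq_deg hψc, ← hd] at e
    have h2 : (((d : ℝ) ^ 2 : ℝ) : ℂ) = (Complex.normSq ((ψ : G ⧸ M → ℂ) z) : ℂ) := by
      rw [← Complex.mul_conj]
      push_cast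
      have : (d : ℂ) ≠ 0 := by rw [hd]; exact Nat.cast_ne_zero.2 (deg_pos ψ.2).ne'
      field_simp at e
      linear_combination e
    exact_mod_cast h2.symm
  haveI := Fintype.ofFinite Z
  have hsum := sum_normSq_irr ψ.2
  rw [sum_support Z _ (fun g hg => by rw [hoff g hg, map_zero]),
    Finset.sum_congr rfl (fun (z : Z) _ => hon (z : G ⧸ M) z.2), Finset.sum_const, Finset.card_univ,
    nsmul_eq_mul, ← Nat.card_eq_fintype_card] at hsum
  have hd2 : Z.index = d ^ 2 := by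
    have h1 : Nat.card Z * d ^ 2 = Nat.card (G ⧸ M) := by exact_mod_cast hsum
    rw [← Z.card_mul_index] at h1
    exact (Nat.eq_of_mul_eq_mul_left Nat.card_pos h1).symm
  set Y := Z.comap (QuotientGroup.mk' M) with hY
  haveI := Fintype.ofFinite Y
  have hYidx : Y.index = d ^ 2 := by
    rw [hY, Subgroup.index_comap_of_surjective _ (QuotientGroup.mk'_surjective M), hd2]
  have hdb : d ≤ b := hb.quotient M _ ψ.2
  refine step_of_subgroup hb (by omega) Y (hYidx ▸ Nat.pow_le_pow_left hdb 2) fun θ hθ => ?_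
  obtain ⟨χ, hχ⟩ := exists_ext hb Y θ hθ
  have hinf := isIrr_inflate M ψ.2
  set P : G → ℂ := fun g => (χ : G → ℂ) g * (ψ : G ⧸ M → ℂ) (QuotientGroup.mk g) with hP
  have hPc : IsCharacter G P := isCharacter_mul (irr_isCharacter χ.2) (irr_isCharacter hinf)
  have hPirr : IsIrrCharacter G P := by
    refine isIrr_of_sum_normSq hPc ?_
    rw [sum_support Y _ (fun g hg => by
      rw [hP, map_mul, hoff (QuotientGroup.mk g) (fun h => hg h), map_zero, mul_zero]),
      Finset.sum_congr rfl (fun (y : Y) _ => show Complex.normSq (P (y : G))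
        = Complex.normSq ((θ : Y → ℂ) y) * (d : ℝ) ^ 2 by
          rw [hP, map_mul, hχ, show Complex.normSq ((ψ : G ⧸ M → ℂ) (QuotientGroup.mk (y : G))) = _ from hon _ y.2]),
      ← Finset.sum_mul, sum_normSq_irr θ.2, ← Y.card_mul_index, hYidx]
    push_cast
    ring
  have h1 := hb _ hPirr
  have h2 : deg P = b * d := by
    have h := char_one_eq_deg hPc
    rw [hP] at h
    simp only [QuotientGroup.mk_one, char_one_eq_deg hψc] at h
    rw [show (χ : G → ℂ) 1 = (θ : Y → ℂ) 1 from hχ 1, char_one_eq_deg (irr_isCharacter θ.2), hθ,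
      ← hd] at h
    exact_mod_cast h.symm
  have : b * 2 ≤ b * d := Nat.mul_le_mul_left _ hψ
  omega

include hmin hV in
theorem step_abelian (hb : DegLE b G) (hc : ¬ commutator (G ⧸ M) ≤ Subgroup.center (G ⧸ M))
    (hab : ∀ x ∈ commutator (G ⧸ M), ∀ y ∈ commutator (G ⧸ M), x * y = y * x) : Step b G := by
  classical
  haveI := Fintype.ofFinite (G ⧸ M)
  set V := commutator (G ⧸ M) with hVdef
  haveI hVn : V.Normal := by rw [hVdef]; infer_instance
  set C := Subgroup.centralizer (V : Set (G ⧸ M)) with hCdef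
  haveI hCn : C.Normal := by rw [hCdef]; infer_instance
  have hVC : V ≤ C := fun x hx => Subgroup.mem_centralizer_iff.2 fun y hy => hab y hy x hx
  have hcomm : ∀ a c : G ⧸ M, a * c * a⁻¹ * c⁻¹ ∈ V := fun a c => by
    rw [hVdef, commutator_def, ← commutatorElement_def]
    exact Subgroup.commutator_mem_commutator (Subgroup.mem_top a) (Subgroup.mem_top c)
  have hnc : ∃ g : G ⧸ M, g ∉ C := by
    by_contra h
    push_neg at h
    exact hc fun x hx => Subgroup.mem_center_iff.2 fun g =>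
      (Subgroup.mem_centralizer_iff.1 (h g) x hx).symm
  obtain ⟨g₀, hg₀⟩ := hnc
  -- `C` is abelian
  have hCab : ∀ x ∈ C, ∀ y ∈ C, x * y = y * x := by
    by_contra hne
    have hne' : ⁅C, C⁆ ≠ ⊥ := fun h => hne fun x hx y hy =>
      (Subgroup.mem_centralizer_iff.1 (Subgroup.commutator_eq_bot_iff_le_centralizer.1 h hy) x hx)
    have hVle : V ≤ ⁅C, C⁆ := hmin _ inferInstance hne'
    apply hg₀
    rw [hCdef, Subgroup.mem_centralizer_iff]
    have hle : ⁅C, C⁆ ≤ Subgroup.centralizer ({g₀} : Set (G ⧸ M)) := by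
      rw [Subgroup.commutator_le]
      intro x hx y hy
      rw [Subgroup.mem_centralizer_singleton_iff, commutatorElement_def]
      have hkey : ∀ z ∈ C, ∃ w ∈ V, g₀ * z * g₀⁻¹ = w * z := fun z _ =>
        ⟨g₀ * z * g₀⁻¹ * z⁻¹, hcomm _ _, by group⟩
      obtain ⟨w, hw, hwx⟩ := hkey x hx
      obtain ⟨w', hw', hwy⟩ := hkey y hy
      have hcw : ∀ v ∈ V, ∀ z ∈ C, v * z = z * v := fun v hv z hz =>
        Subgroup.mem_centralizer_iff.1 hz v hv
      have : g₀ * (x * y * x⁻¹ * y⁻¹) * g₀⁻¹ = x * y * x⁻¹ * y⁻¹ := by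
        calc g₀ * (x * y * x⁻¹ * y⁻¹) * g₀⁻¹
            = (g₀ * x * g₀⁻¹) * (g₀ * y * g₀⁻¹) * (g₀ * x * g₀⁻¹)⁻¹ * (g₀ * y * g₀⁻¹)⁻¹ := by group
          _ = w * (x * w') * y * x⁻¹ * w⁻¹ * y⁻¹ * w'⁻¹ := by rw [hwx, hwy]; group
          _ = w * w' * (x * y * x⁻¹) * w⁻¹ * y⁻¹ * w'⁻¹ := by rw [← hcw w' hw' x hx]; group
          _ = w * w' * ((x * y * x⁻¹) * w⁻¹) * y⁻¹ * w'⁻¹ := by group
          _ = w * w' * (w⁻¹ * (x * y * x⁻¹)) * y⁻¹ * w'⁻¹ := by
              rw [hcw w⁻¹ (V.inv_mem hw) _ (C.mul_mem (C.mul_mem hx hy) (C.inv_mem hx))]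
          _ = w * w' * w⁻¹ * ((x * y * x⁻¹ * y⁻¹) * w'⁻¹) := by group
          _ = w * w' * w⁻¹ * (w'⁻¹ * (x * y * x⁻¹ * y⁻¹)) := by
              rw [hcw w'⁻¹ (V.inv_mem hw') _
                (C.mul_mem (C.mul_mem (C.mul_mem hx hy) (C.inv_mem hx)) (C.inv_mem hy))]
          _ = (w * w') * w⁻¹ * w'⁻¹ * (x * y * x⁻¹ * y⁻¹) := by group
          _ = x * y * x⁻¹ * y⁻¹ := by rw [hab w hw w' hw']; group
      exact (mul_inv_eq_iff_eq_mul.1 this).symm
    exact fun v hv => (Subgroup.mem_centralizer_singleton_iff.1 (hle (hVle hv))).symm.symm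
  letI : CommGroup C :=
    { (inferInstance : Group C) with mul_comm := fun a c => Subtype.ext (hCab _ a.2 _ c.2) }
  haveI := Fintype.ofFinite C
  obtain ⟨w, hwV, hw1⟩ : ∃ w ∈ V, w ≠ 1 := by
    by_contra h
    push_neg at h
    exact hV ((Subgroup.eq_bot_iff_forall _).2 h)
  haveI : NeZero (Monoid.exponent C) := ⟨Monoid.exponent_ne_zero_of_finite⟩
  obtain ⟨ν, hν⟩ := CommGroup.exists_apply_ne_one_of_hasEnoughRootsOfUnity C ℂ
    (a := (⟨w, hVC hwV⟩ : C)) (fun h => hw1 (congrArg Subtype.val h))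
  -- an element fixing `ν` on `V` lies in `C`
  have hfix : ∀ g, (∀ v (hv : v ∈ V), ν ⟨g * v * g⁻¹, hCn.conj_mem _ (hVC hv) g⟩ = ν ⟨v, hVC hv⟩) →
      g ∈ C := by
    intro g hg
    by_contra hgC
    -- the commutators of `g` with `V` form a normal subgroup
    let I : Subgroup (G ⧸ M) :=
      { carrier := {x | ∃ v ∈ V, x = g * v * g⁻¹ * v⁻¹}
        one_mem' := ⟨1, V.one_mem, by group⟩
        mul_mem' := by
          rintro _ _ ⟨v, hv, rfl⟩ ⟨v', hv', rfl⟩
          refine ⟨v * v', V.mul_mem hv hv', ?_⟩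
          have h1 := hab _ (hVn.conj_mem v' hv' g) _ (V.inv_mem hv)
          calc g * v * g⁻¹ * v⁻¹ * (g * v' * g⁻¹ * v'⁻¹)
              = g * v * g⁻¹ * (v⁻¹ * (g * v' * g⁻¹)) * v'⁻¹ := by group
            _ = g * v * g⁻¹ * ((g * v' * g⁻¹) * v⁻¹) * v'⁻¹ := by rw [h1]
            _ = g * (v * v') * g⁻¹ * (v⁻¹ * v'⁻¹) := by group
            _ = g * (v * v') * g⁻¹ * (v * v')⁻¹ := by
                rw [mul_inv_rev, hab _ (V.inv_mem hv) _ (V.inv_mem hv')]
        inv_mem' := by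
          rintro _ ⟨v, hv, rfl⟩
          refine ⟨v⁻¹, V.inv_mem hv, ?_⟩
          have h1 := hab v hv _ (hVn.conj_mem _ (V.inv_mem hv) g)
          rw [inv_inv, ← h1]
          group }
    have hIn : I.Normal := ⟨by
      rintro _ ⟨v, hv, rfl⟩ h
      refine ⟨h * v * h⁻¹, hVn.conj_mem v hv h, ?_⟩
      have hd := hVC (hcomm g⁻¹ h)
      rw [inv_inv] at hd
      have hd' := Subgroup.mem_centralizer_iff.1 hd _ (hVn.conj_mem v hv h)
      calc h * (g * v * g⁻¹ * v⁻¹) * h⁻¹
          = g * ((g⁻¹ * h * g * h⁻¹) * (h * v * h⁻¹)) * (g⁻¹ * h * g * h⁻¹)⁻¹ * g⁻¹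
              * (h * v * h⁻¹)⁻¹ := by group
        _ = g * ((h * v * h⁻¹) * (g⁻¹ * h * g * h⁻¹)) * (g⁻¹ * h * g * h⁻¹)⁻¹ * g⁻¹
              * (h * v * h⁻¹)⁻¹ := by rw [hd']
        _ = _ := by group⟩
    have hI1 : I ≠ ⊥ := fun h => hgC (Subgroup.mem_centralizer_iff.2 fun v hv => by
      have h1 : g * v * g⁻¹ * v⁻¹ ∈ I := ⟨v, hv, rfl⟩
      rw [h, Subgroup.mem_bot, mul_inv_eq_one, mul_inv_eq_iff_eq_mul] at h1
      exact h1.symm)
    obtain ⟨v, hv, rfl⟩ := hmin I hIn hI1 hwV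
    apply hν
    have h1 : (⟨g * v * g⁻¹ * v⁻¹, hVC hwV⟩ : C)
        = ⟨g * v * g⁻¹, hCn.conj_mem _ (hVC hv) g⟩ * (⟨v, hVC hv⟩ : C)⁻¹ := Subtype.ext rfl
    rw [h1, map_mul, map_inv, hg v hv, mul_inv_cancel]
  -- the index of `C`
  let νc : IrrCharacter C := ⟨fun c => (ν c : ℂ), isIrrCharacter_linear ν⟩
  have hind : IsIrrCharacter (G ⧸ M) (indFun C (νc : C → ℂ)) := by
    refine isIrr_indFun_of_inertia C νc fun g hg => hfix g fun v hv => ?_
    have := congrFun (congrArg Subtype.val hg) (⟨v, hVC hv⟩ : C)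
    rw [irrComp_apply] at this
    refine Units.ext ?_
    exact (congrArg (fun c : C => (ν c : ℂ)) (Subtype.ext (by simp [MulAut.conjNormal_apply]))).trans this
  have hidx : C.index ≤ b := by
    have h1 := hb.quotient M _ hind
    have h2 := char_one_eq_deg (irr_isCharacter hind)
    rw [indFun_one, show (νc : C → ℂ) 1 = ((ν 1 : ℂˣ) : ℂ) from rfl, map_one, Units.val_one,
      mul_one] at h2
    have h3 : C.index = deg (indFun C (νc : C → ℂ)) := by exact_mod_cast h2
    omega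
  have hidx2 : 2 ≤ C.index := by
    have h0 : C.index ≠ 0 := Subgroup.index_ne_zero_of_finite
    have h1 : C.index ≠ 1 := fun h => hg₀ (by rw [Subgroup.index_eq_one.1 h]; exact Subgroup.mem_top _)
    omega
  set Y := C.comap (QuotientGroup.mk' M) with hY
  haveI hYn : Y.Normal := hCn.comap _
  haveI := Fintype.ofFinite Y
  have hYidx : Y.index = C.index := by
    rw [hY, Subgroup.index_comap_of_surjective _ (QuotientGroup.mk'_surjective M)]
  by_cases hex : ∀ θ : IrrCharacter Y, deg (θ : Y → ℂ) ≠ b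
  · exact step_of_subgroup hb (by omega) Y (by nlinarith) hex
  push_neg at hex
  obtain ⟨θ, hθ⟩ := hex
  let pr : Y →* C := ((QuotientGroup.mk' M).comp Y.subtype).codRestrict C fun y => y.2
  let θ' : IrrCharacter Y := ⟨fun y => (ν (pr y) : ℂ) * (θ : Y → ℂ) y, isIrr_linear_mul θ.2 (ν.comp pr)⟩
  have hθ' : deg (θ' : Y → ℂ) = b := by
    rw [← hθ]
    show deg (fun y => (ν (pr y) : ℂ) * (θ : Y → ℂ) y) = _
    simp [deg]
  have hinvar : ∀ (η : IrrCharacter Y), deg (η : Y → ℂ) = b → ∀ (g : G) (y : Y),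
      (η : Y → ℂ) (MulAut.conjNormal g y) = (η : Y → ℂ) y := by
    intro η hη g y
    obtain ⟨χ, hχ⟩ := exists_ext hb Y η hη
    rw [← hχ, ← hχ, MulAut.conjNormal_apply]
    exact isClassFunction_character (irr_isCharacter χ.2) _ _
  have hνinv : ∀ (y : Y), (θ : Y → ℂ) y ≠ 0 → ∀ g : G,
      ν (pr (MulAut.conjNormal g y)) = ν (pr y) := fun y hy g => by
    have h1 := hinvar θ' hθ' g y
    change (ν (pr (MulAut.conjNormal g y)) : ℂ) * (θ : Y → ℂ) (MulAut.conjNormal g y)
      = (ν (pr y) : ℂ) * (θ : Y → ℂ) y at h1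
    rw [hinvar θ hθ g y] at h1
    exact Units.ext (mul_right_cancel₀ hy h1)
  let K : Subgroup (G ⧸ M) :=
    { carrier := {c | ∃ hc : c ∈ C, ∀ h, ν ⟨h * c * h⁻¹, hCn.conj_mem c hc h⟩ = ν ⟨c, hc⟩}
      one_mem' := ⟨C.one_mem, fun h => by congr 1; exact Subtype.ext (by group)⟩
      mul_mem' := by
        rintro a c ⟨ha, ha'⟩ ⟨hc', hc''⟩
        refine ⟨C.mul_mem ha hc', fun h => ?_⟩
        have e : (⟨h * (a * c) * h⁻¹, hCn.conj_mem _ (C.mul_mem ha hc') h⟩ : C)
            = ⟨h * a * h⁻¹, hCn.conj_mem a ha h⟩ * ⟨h * c * h⁻¹, hCn.conj_mem c hc' h⟩ :=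
          Subtype.ext (show _ = h * a * h⁻¹ * (h * c * h⁻¹) by group)
        rw [e, map_mul, ha', hc'', ← map_mul]; rfl
      inv_mem' := by
        rintro a ⟨ha, ha'⟩
        refine ⟨C.inv_mem ha, fun h => ?_⟩
        have e : (⟨h * a⁻¹ * h⁻¹, hCn.conj_mem _ (C.inv_mem ha) h⟩ : C)
            = (⟨h * a * h⁻¹, hCn.conj_mem a ha h⟩ : C)⁻¹ :=
          Subtype.ext (show _ = (h * a * h⁻¹)⁻¹ by group)
        rw [e, map_inv, ha', ← map_inv]; rfl }
  have hKn : K.Normal := ⟨fun a ⟨ha, ha'⟩ k => ⟨hCn.conj_mem a ha k, fun h => by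
    have e : (⟨h * (k * a * k⁻¹) * h⁻¹, hCn.conj_mem _ (hCn.conj_mem a ha k) h⟩ : C)
        = ⟨(h * k) * a * (h * k)⁻¹, hCn.conj_mem a ha _⟩ :=
      Subtype.ext (show h * (k * a * k⁻¹) * h⁻¹ = (h * k) * a * (h * k)⁻¹ by group)
    rw [e, ha', ← ha' k]⟩⟩
  have hK : K = ⊥ := by
    by_contra hK
    refine hg₀ (hfix g₀ fun v hv => ?_)
    obtain ⟨_, h⟩ := hmin K hKn hK hv
    exact h g₀
  have hsup : ∀ y ∉ M.subgroupOf Y, (θ : Y → ℂ) y = 0 := by
    intro y hy
    by_contra h0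
    apply hy
    have hmem : (QuotientGroup.mk (y : G) : G ⧸ M) ∈ K := ⟨y.2, fun q => by
      obtain ⟨g, rfl⟩ := QuotientGroup.mk_surjective q
      refine Eq.trans (congrArg ν (Subtype.ext ?_)) (hνinv y h0 g)
      show _ = QuotientGroup.mk ((MulAut.conjNormal g y : Y) : G)
      rw [MulAut.conjNormal_apply, QuotientGroup.mk_mul, QuotientGroup.mk_mul, QuotientGroup.mk_inv]⟩
    rw [hK, Subgroup.mem_bot, QuotientGroup.eq_one_iff] at hmem
    exact hmem
  haveI := Fintype.ofFinite (M.subgroupOf Y)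
  obtain ⟨k, m, hm, hmb⟩ := norm_support (M.subgroupOf Y) θ hθ hsup
  have hMY : M ≤ Y := by
    rw [hY]; exact fun x hx => by
      rw [Subgroup.mem_comap, QuotientGroup.mk'_apply, (QuotientGroup.eq_one_iff x).2 hx]
      exact C.one_mem
  rw [Nat.card_congr (Subgroup.subgroupOfEquivOfLe hMY).toEquiv] at hm
  have hCcard : Nat.card C = ∑ i, m i ^ 2 := by
    have h1 := Y.card_mul_index
    rw [hYidx, hm, M.card_eq_card_quotient_mul_card_subgroup, ← C.card_mul_index] at h1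
    exact (Nat.eq_of_mul_eq_mul_left Nat.card_pos
      (Nat.eq_of_mul_eq_mul_right (by omega : 0 < C.index)
        (by linarith : (Nat.card M * ∑ i, m i ^ 2) * C.index = (Nat.card M * Nat.card C) * C.index))).symm
  have hQ : M.index = Nat.card C * C.index := by
    rw [C.card_mul_index, Subgroup.index]
  have hle := sq_le_sq_sum m hmb
  rcases Nat.lt_or_ge b 3 with hb3 | hb3
  · -- `b = 2`
    exfalso
    have hb2 : b = 2 := by omega
    subst hb2
    have hCidx : C.index = 2 := by omega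
    have hne3 := arith_two m hmb
    have hC4 : Nat.card C ≤ 4 := by omega
    have hCpos : 2 ≤ Nat.card C := by
      have h1 : 1 < Nat.card V := (Subgroup.one_lt_card_iff_ne_bot V).2 hV
      have h2 := Nat.card_le_card_of_injective (Subgroup.inclusion hVC) (Subgroup.inclusion_injective _)
      omega
    have hQcard : ∃ n, Nat.card (G ⧸ M) = 2 ^ n := by
      rw [← C.card_mul_index, hCidx]
      have : Nat.card C = 2 ∨ Nat.card C = 4 := by omega
      rcases this with h | h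
      · exact ⟨2, by rw [h]; rfl⟩
      · exact ⟨3, by rw [h]; rfl⟩
    obtain ⟨n, hn⟩ := hQcard
    haveI : Fact (Nat.Prime 2) := ⟨Nat.prime_two⟩
    haveI : Nontrivial (G ⧸ M) := ⟨⟨w, 1, hw1⟩⟩
    haveI := (IsPGroup.of_card hn).center_nontrivial
    exact hc (hmin (Subgroup.center (G ⧸ M)) inferInstance (fun h => by
      have := not_subsingleton (Subgroup.center (G ⧸ M))
      exact this (by rw [h]; infer_instance)))
  · refine step_half M hb (exists_nonlinear M hV) ?_
    calc M.index * (b / 2)! ^ 2 ≤ b ^ 3 * (b / 2)! ^ 2 := by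
          refine Nat.mul_le_mul_right _ ?_
          rw [hQ, hCcard, pow_succ]
          exact Nat.mul_le_mul hle hidx
      _ ≤ _ := fact_three hb3

theorem exists_small_class {Q : Type u} [Group Q] [Fintype Q] [Nontrivial Q] (hb : DegLE b Q) :
    ∃ x : Q, x ≠ 1 ∧ (Subgroup.centralizer ({x} : Set Q)).index ≤ b ^ 2 := by
  classical
  by_contra hcon
  push_neg at hcon
  haveI := Fintype.ofFinite (ConjClasses Q)
  have hcls := Group.sum_card_conj_classes_eq_card Q
  rw [finsum_eq_sum_of_fintype] at hcls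
  have hcar : ∀ g : Q, (ConjClasses.mk g).carrier.ncard
      = (Subgroup.centralizer ({g} : Set Q)).index := fun g => by
    rw [← card_conjClass_eq_index, ← Nat.card_coe_set_eq]
    exact Nat.card_congr (Equiv.subtypeEquivRight fun x => by
      rw [ConjClasses.mem_carrier_iff_mk_eq, ConjClasses.mk_eq_mk_iff_isConj]
      exact ⟨fun h => h.symm, fun h => h.symm⟩)
  rw [← Finset.add_sum_erase _ _ (Finset.mem_univ (ConjClasses.mk (1 : Q))), hcar,
    show Subgroup.centralizer ({(1 : Q)} : Set Q) = ⊤ from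
      eq_top_iff.2 fun x _ => Subgroup.mem_centralizer_singleton_iff.2 (by simp),
    Subgroup.index_top] at hcls
  have hlow : (Finset.univ.erase (ConjClasses.mk (1 : Q))).card • (b ^ 2 + 1)
      ≤ ∑ c ∈ Finset.univ.erase (ConjClasses.mk (1 : Q)), c.carrier.ncard := by
    refine Finset.card_nsmul_le_sum _ _ _ fun c hc => ?_
    obtain ⟨g, rfl⟩ := ConjClasses.mk_surjective c
    rw [hcar]
    exact hcon g fun h => (Finset.mem_erase.1 hc).1 (by rw [h])
  rw [Finset.card_erase_of_mem (Finset.mem_univ _), Finset.card_univ, smul_eq_mul] at hlow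
  let one : IrrCharacter Q := ⟨fun _ => 1, isIrrCharacter_one⟩
  have hsq : ∑ ψ : IrrCharacter Q, deg (ψ : Q → ℂ) ^ 2 = Nat.card Q := by
    have h : ((∑ ψ : IrrCharacter Q, deg (ψ : Q → ℂ) ^ 2 : ℕ) : ℂ) = (Nat.card Q : ℂ) := by
      rw [← sum_sq_deg]
      push_cast
      exact Finset.sum_congr rfl fun ψ _ => by rw [char_one_eq_deg (irr_isCharacter ψ.2)]
    exact_mod_cast h
  rw [← Finset.add_sum_erase _ _ (Finset.mem_univ one),
    show deg (one : Q → ℂ) = 1 by simp [one, deg]] at hsq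
  have hup : ∑ ψ ∈ Finset.univ.erase one, deg (ψ : Q → ℂ) ^ 2
      ≤ (Finset.univ.erase one).card • b ^ 2 :=
    Finset.sum_le_card_nsmul _ _ _ fun ψ _ => Nat.pow_le_pow_left (hb _ ψ.2) 2
  rw [Finset.card_erase_of_mem (Finset.mem_univ _), Finset.card_univ,
    ← Nat.card_eq_fintype_card, card_irr, Nat.card_eq_fintype_card, smul_eq_mul] at hup
  set k := Fintype.card (ConjClasses Q)
  have hQ : 1 < Nat.card Q := Finite.one_lt_card
  have hk : k - 1 ≠ 0 := by
    intro h
    rw [h, Nat.zero_mul] at hup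
    omega
  have : (k - 1) * (b ^ 2 + 1) ≤ (k - 1) * b ^ 2 := by omega
  have := Nat.le_of_mul_le_mul_left this (Nat.pos_of_ne_zero hk)
  omega

include hmin hV in
theorem small_nonabelian (hab : ¬ ∀ x ∈ commutator (G ⧸ M), ∀ y ∈ commutator (G ⧸ M), x * y = y * x)
    (hsmall : Nat.card (G ⧸ M) ≤ 256) :
    60 ≤ Nat.card (G ⧸ M) ∧ (Nat.card (G ⧸ M) ∣ 120 ∧ 60 ∣ Nat.card (G ⧸ M) ∨
      168 ∣ Nat.card (G ⧸ M)) := by
  classical
  set V := commutator (G ⧸ M) with hVdef
  haveI hVn : V.Normal := by rw [hVdef]; infer_instance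
  obtain ⟨T, hT, n, hTs, hn, ⟨e⟩⟩ := Cfsg.Agent.Perm.minimal_normal_power V hV fun K hK hKV =>
    or_iff_not_imp_left.2 fun hK1 => le_antisymm hKV (hmin K hK hK1)
  haveI := hTs
  haveI : Nonempty (Fin n) := ⟨⟨0, hn⟩⟩
  haveI : Finite T :=
    Finite.of_surjective (fun v => e v ⟨0, hn⟩) fun t => ⟨e.symm fun _ => t, by simp⟩
  have hTc : ¬ IsMulCommutative T := fun hc => hab fun x hx y hy => by
    have : (⟨x, hx⟩ : V) * ⟨y, hy⟩ = ⟨y, hy⟩ * ⟨x, hx⟩ :=
      e.injective (by rw [map_mul, map_mul]; exact funext fun i => hc.is_comm.comm _ _)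
    exact congrArg Subtype.val this
  have hcard : Nat.card V = Nat.card T ^ n := by
    rw [Nat.card_congr e.toEquiv, Nat.card_fun, Nat.card_eq_fintype_card (α := Fin n), Fintype.card_fin]
  have hVdvd : Nat.card V ∣ Nat.card (G ⧸ M) := Subgroup.card_subgroup_dvd_card V
  have hTle : Nat.card T ≤ 256 := le_trans
    (by rw [hcard]; exact Nat.le_self_pow hn.ne' _) ((Nat.le_of_dvd Nat.card_pos hVdvd).trans hsmall)
  have hT6 : Nat.card T = 60 ∨ Nat.card T = 168 := by
    rcases Cfsg.Agent.S0496.result hTc (by omega) with h | h | h | h | h | h <;> omega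
  have hn1 : n = 1 := by
    by_contra hne
    have h1 : Nat.card T ^ 2 ≤ Nat.card T ^ n := Nat.pow_le_pow_right Nat.card_pos (by omega)
    have h2 : (60 : ℕ) ^ 2 ≤ Nat.card T ^ 2 := Nat.pow_le_pow_left (by omega) 2
    have := (Nat.le_of_dvd Nat.card_pos hVdvd).trans hsmall
    omega
  subst hn1
  rw [pow_one] at hcard
  rw [hcard] at hVdvd
  refine ⟨le_trans (by omega) (Nat.le_of_dvd Nat.card_pos hVdvd), ?_⟩
  haveI : Nontrivial V := (Subgroup.nontrivial_iff_ne_bot V).2 hV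
  rcases hT6 with h60 | h168
  · refine Or.inl ⟨?_, h60 ▸ hVdvd⟩
    haveI : IsSimpleGroup V := IsSimpleGroup.isSimpleGroup_of_surjective
      ((MulEquiv.piUnique fun _ : Fin 1 => T).symm.trans e.symm).toMonoidHom
      (MulEquiv.surjective _)
    obtain ⟨a⟩ := Cfsg.Agent.S0494.result (G := V) (by rw [hcard, h60])
    have hinj : Function.Injective (MulAut.conjNormal : G ⧸ M →* MulAut V) := by
      rw [← MonoidHom.ker_eq_bot_iff]
      by_contra hk
      exact hab fun x hx y hy => by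
        have h1 := MonoidHom.mem_ker.1 (hmin _ inferInstance hk hx)
        have h2 : x * y * x⁻¹ = y := by
          have := congrArg (fun σ : MulAut V => ((σ ⟨y, hy⟩ : V) : G ⧸ M)) h1
          simpa [MulAut.conjNormal_apply] using this
        exact mul_inv_eq_iff_eq_mul.1 h2
    have h120 : Nat.card (MulAut V) = 120 := by
      rw [Nat.card_congr (MulAut.congr a).toEquiv,
        ← Nat.card_congr (Equiv.ofBijective _ (Cfsg.Agent.S2119.result 5 (by omega) (by omega))),
        Nat.card_eq_fintype_card, Fintype.card_perm, Fintype.card_fin]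
      rfl
    exact h120 ▸ Subgroup.card_dvd_of_injective _ hinj
  · exact Or.inr (h168 ▸ hVdvd)

include hmin hV in
theorem step_nonabelian (hb : DegLE b G)
    (hab : ¬ ∀ x ∈ commutator (G ⧸ M), ∀ y ∈ commutator (G ⧸ M), x * y = y * x) : Step b G := by
  classical
  haveI := Fintype.ofFinite (G ⧸ M)
  have hψ := exists_nonlinear M hV
  have hb2 : 2 ≤ b := by
    obtain ⟨ψ, hψ⟩ := hψ
    exact hψ.trans (hb.quotient M _ ψ.2)
  haveI : Nontrivial (G ⧸ M) := by
    rcases subsingleton_or_nontrivial (G ⧸ M) with h | h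
    · exact absurd (Subgroup.eq_bot_of_subsingleton _) hV
    · exact h
  obtain ⟨x, hx1, hxcl⟩ := exists_small_class (hb.quotient M)
  set C := Subgroup.centralizer ({x} : Set (G ⧸ M)) with hC
  set H := C.comap (QuotientGroup.mk' M) with hH
  haveI := Fintype.ofFinite H
  have hHidx : H.index = C.index := by
    rw [hH, Subgroup.index_comap_of_surjective _ (QuotientGroup.mk'_surjective M)]
  by_cases hex : ∀ θ : IrrCharacter H, deg (θ : H → ℂ) ≠ b
  · exact step_of_subgroup hb (by omega) H (hHidx ▸ hxcl) hex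
  push_neg at hex
  obtain ⟨θ, hθ⟩ := hex
  have hcore : H.normalCore ≤ M := by
    set K := H.normalCore.map (QuotientGroup.mk' M) with hK
    by_contra hnot
    have hK1 : K ≠ ⊥ := by
      rw [hK, Ne, Subgroup.map_eq_bot_iff, QuotientGroup.ker_mk']
      exact hnot
    have hKn : K.Normal :=
      (Subgroup.normalCore_normal H).map _ (QuotientGroup.mk'_surjective M)
    have hKC : K ≤ C := by
      rw [hK, Subgroup.map_le_iff_le_comap]
      exact H.normalCore_le
    have hxc : x ∈ Subgroup.centralizer (commutator (G ⧸ M) : Set (G ⧸ M)) :=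
      Subgroup.mem_centralizer_iff.2 fun v hv =>
        Subgroup.mem_centralizer_singleton_iff.1 (hKC (hmin K hKn hK1 hv))
    have hle := hmin (Subgroup.centralizer (commutator (G ⧸ M) : Set (G ⧸ M))) inferInstance
      (fun h => hx1 (by rwa [h, Subgroup.mem_bot] at hxc))
    exact hab fun a ha c hc => (Subgroup.mem_centralizer_iff.1 (hle ha) c hc).symm
  have hsup : ∀ y ∉ M.subgroupOf H, (θ : H → ℂ) y = 0 := fun y hy => by
    by_contra h0
    exact hy (Subgroup.mem_subgroupOf.2 (hcore (vanish hb H θ hθ y h0)))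
  haveI := Fintype.ofFinite (M.subgroupOf H)
  obtain ⟨k, m, hm, hmb⟩ := norm_support (M.subgroupOf H) θ hθ hsup
  have hMH : M ≤ H := fun z hz => by
    rw [hH, Subgroup.mem_comap, QuotientGroup.mk'_apply, (QuotientGroup.eq_one_iff z).2 hz]
    exact C.one_mem
  rw [Nat.card_congr (Subgroup.subgroupOfEquivOfLe hMH).toEquiv] at hm
  have hCcard : Nat.card C = ∑ i, m i ^ 2 := by
    have h1 := H.card_mul_index
    rw [hHidx, hm, M.card_eq_card_quotient_mul_card_subgroup, ← C.card_mul_index] at h1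
    exact (Nat.eq_of_mul_eq_mul_left Nat.card_pos
      (Nat.eq_of_mul_eq_mul_right (Nat.pos_of_ne_zero Subgroup.index_ne_zero_of_finite)
        (by linarith : (Nat.card M * ∑ i, m i ^ 2) * C.index = (Nat.card M * Nat.card C) * C.index))).symm
  have hQ : M.index = Nat.card C * C.index := by rw [C.card_mul_index, Subgroup.index]
  have hQb : M.index ≤ b ^ 4 := by
    rw [hQ, hCcard, show b ^ 4 = b ^ 2 * b ^ 2 by ring]
    exact Nat.mul_le_mul (sq_le_sq_sum m hmb) hxcl
  refine step_half M hb hψ ?_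
  rcases Nat.lt_or_ge b 5 with hb5 | hb5
  · have h256 : M.index ≤ 256 := hQb.trans (Nat.pow_le_pow_left (show b ≤ 4 by omega) 4)
    have hs := small_nonabelian M hmin hV hab h256
    rw [← Subgroup.index] at hs
    obtain ⟨h60, hs⟩ := hs
    interval_cases b
    · norm_num at hQb; omega
    · have hle : Nat.card C ≤ 9 := by
        rw [hCcard]; exact sq_le_sq_sum m hmb
      norm_num at hxcl hQb
      exfalso
      rcases hs with ⟨-, h⟩ | h
      · have h60' : M.index = 60 := by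
          obtain ⟨c, hc⟩ := h; omega
        rw [hQ] at h60'
        interval_cases hh : Nat.card C <;> omega
      · obtain ⟨c, hc⟩ := h; omega
    · rcases hs with ⟨h, -⟩ | h
      · have := Nat.le_of_dvd (by norm_num) h
        norm_num [Nat.factorial]
        omega
      · exfalso
        norm_num at hxcl
        have h168 : M.index = 168 := by
          obtain ⟨c, hc⟩ := h; omega
        rw [hQ] at h168
        rcases arith_four m hmb with h4 | h4
        · rw [hCcard, h4] at h168; omega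
        · replace h4 : Nat.card C ≤ 10 := by rw [hCcard]; exact h4
          interval_cases hh : Nat.card C <;> omega
  · exact (Nat.mul_le_mul_right _ hQb).trans (fact_five hb5)

end Quotient

theorem step (hb : DegLE b G) (hna : ¬ ∀ x y : G, x * y = y * x) : Step b G := by
  classical
  have hs : {M : Subgroup G | M.Normal ∧ ¬ commutator G ≤ M}.Finite := Set.toFinite _
  obtain ⟨M, hM⟩ := hs.exists_maximal ⟨⊥, inferInstance, fun h => hna fun x y => by
    have := h (Subgroup.commutator_mem_commutator (Subgroup.mem_top x) (Subgroup.mem_top y))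
    rwa [Subgroup.mem_bot, commutatorElement_def, mul_inv_eq_one, mul_inv_eq_iff_eq_mul] at this⟩
  haveI := hM.prop.1
  have hmap : commutator (G ⧸ M) = (commutator G).map (QuotientGroup.mk' M) := by
    rw [commutator_def, commutator_def, Subgroup.map_commutator,
      Subgroup.map_top_of_surjective _ (QuotientGroup.mk'_surjective M)]
  have hV : commutator (G ⧸ M) ≠ ⊥ := by
    rw [hmap, Ne, Subgroup.map_eq_bot_iff, QuotientGroup.ker_mk']
    exact hM.prop.2
  have hmin : ∀ K : Subgroup (G ⧸ M), K.Normal → K ≠ ⊥ → commutator (G ⧸ M) ≤ K := by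
    intro K hK hK1
    rw [hmap, Subgroup.map_le_iff_le_comap]
    by_contra hnot
    have hle : M ≤ K.comap (QuotientGroup.mk' M) := fun z hz => by
      rw [Subgroup.mem_comap, QuotientGroup.mk'_apply, (QuotientGroup.eq_one_iff z).2 hz]
      exact K.one_mem
    have heq : K.comap (QuotientGroup.mk' M) = M :=
      le_antisymm (hM.2 ⟨hK.comap _, hnot⟩ hle) hle
    apply hK1
    rw [← Subgroup.map_comap_eq_self_of_surjective (QuotientGroup.mk'_surjective M) K, heq,
      QuotientGroup.map_mk'_self]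
  by_cases hc : commutator (G ⧸ M) ≤ Subgroup.center (G ⧸ M)
  · exact step_central M hmin hV hb hc
  by_cases hab : ∀ x ∈ commutator (G ⧸ M), ∀ y ∈ commutator (G ⧸ M), x * y = y * x
  · exact step_abelian M hmin hV hb hc hab
  · exact step_nonabelian M hmin hV hb hab

omit [Fintype G] in
/-- An abelian subgroup of index at most `(b!)^2`. -/
theorem exists_abelian [Finite G] (hb : DegLE b G) :
    ∃ A : Subgroup G, (∀ x ∈ A, ∀ y ∈ A, x * y = y * x) ∧ A.index ≤ b ! ^ 2 := by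
  induction b using Nat.strong_induction_on generalizing G with
  | _ b ih =>
    haveI := Fintype.ofFinite G
    by_cases hna : ∀ x y : G, x * y = y * x
    · refine ⟨⊤, fun x _ y _ => hna x y, ?_⟩
      rw [Subgroup.index_top]
      exact Nat.one_le_pow _ _ (Nat.factorial_pos b)
    obtain ⟨H, c, hc, hHc, hidx⟩ := step hb hna
    obtain ⟨A, hA, hAidx⟩ := ih c hc hHc
    refine ⟨A.map H.subtype, ?_, ?_⟩
    · rintro _ ⟨x, hx, rfl⟩ _ ⟨y, hy, rfl⟩
      exact congrArg Subtype.val (hA x hx y hy)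
    · rw [Subgroup.index_map_subtype, mul_comm]
      exact (Nat.mul_le_mul_left _ hAidx).trans hidx

end Cfsg.Agent.Char.AbelianIndex
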