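import Cfsg.Agent.Lib.Char.CliffordGen
import Cfsg.Agent.Lib.Char.CliffordInd
import Cfsg.Agent.Lib.Char.Coprime
import Cfsg.Agent.Lib.Char.Inflate

/-!
# Abelian inertia quotients
-/

set_option autoImplicit false
set_option linter.unusedSectionVars false
set_option linter.style.haveILetI false

open scoped commutatorElement

namespace Cfsg.Agent.Char

open Cfsg
open scoped ComplexConjugate

universe u

variable {T : Type u} [Group T] [Fintype T] (N : Subgroup T) [N.Normal]

open scoped Classical in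
/-- Over an invariant character with abelian quotient all ramifications agree. -/
theorem ramification_unique [Fintype N] (hab : ∀ x y : T, x * y * x⁻¹ * y⁻¹ ∈ N) {θ : N → ℂ}
    (hθ : IsIrrCharacter N θ) {ψ ψ' : T → ℂ} (hψ : IsIrrCharacter T ψ)
    (hψ' : IsIrrCharacter T ψ') {e e' : ℕ} (he : ∀ n : N, ψ n = (e : ℂ) * θ n)
    (he' : ∀ n : N, ψ' n = (e' : ℂ) * θ n) (h0 : e ≠ 0) (h0' : e' ≠ 0) : e = e' := by
  haveI : Fintype (T ⧸ N) := Fintype.ofFinite _
  have hq : ∀ a b : T ⧸ N, a * b = b * a := fun a b => by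
    obtain ⟨x, rfl⟩ := QuotientGroup.mk_surjective a
    obtain ⟨y, rfl⟩ := QuotientGroup.mk_surjective b
    rw [← commutatorElement_eq_one_iff_mul_comm, commutatorElement_def, ← QuotientGroup.mk_inv,
      ← QuotientGroup.mk_inv, ← QuotientGroup.mk_mul, ← QuotientGroup.mk_mul, ← QuotientGroup.mk_mul,
      QuotientGroup.eq_one_iff]
    exact hab x y
  have hlin : ∀ l : IrrCharacter (T ⧸ N), (l : T ⧸ N → ℂ) 1 = 1 := forall_linear_iff_comm.mp hq
  set m := fun l : IrrCharacter (T ⧸ N) =>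
    classInner (fun t : T => ψ t * (l : T ⧸ N → ℂ) (QuotientGroup.mk t)) ψ' with hm
  have hsum : ∑ l, m l = (e : ℂ) * e' := by
    simp only [hm, classInner]
    rw [← Finset.mul_sum, Finset.sum_comm]
    have hinner : ∀ t : T, ∑ l : IrrCharacter (T ⧸ N),
        ψ t * (l : T ⧸ N → ℂ) (QuotientGroup.mk t) * conj (ψ' t) =
        (ψ t * conj (ψ' t)) * if t ∈ N then (Nat.card (T ⧸ N) : ℂ) else 0 := fun t => by
      have h := regular_sum (QuotientGroup.mk t : T ⧸ N)
      simp only [hlin, one_mul, QuotientGroup.eq_one_iff] at h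
      rw [← h, Finset.mul_sum]
      exact Finset.sum_congr rfl fun l _ => by ring
    rw [Finset.sum_congr rfl fun t _ => hinner t]
    simp only [mul_ite, mul_zero]
    rw [← Finset.sum_filter, ← Finset.sum_subtype_eq_sum_filter]
    have hsub : (Finset.univ : Finset T).subtype (· ∈ N) = (Finset.univ : Finset N) :=
      Finset.eq_univ_iff_forall.mpr fun x => by simp
    rw [hsub, Finset.sum_congr rfl (g := fun n : N =>
      ((e : ℂ) * e' * (Nat.card (T ⧸ N) : ℂ)) * (θ n * conj (θ n))) fun n _ => by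
        rw [he, he', map_mul, map_natCast]; ring, ← Finset.mul_sum]
    have h1 := irr_self hθ
    rw [classInner, inv_mul_eq_one₀ (Nat.cast_ne_zero.mpr Nat.card_pos.ne')] at h1
    rw [← h1, Subgroup.card_eq_card_quotient_mul_card_subgroup N, Nat.cast_mul, mul_inv]
    have hN : (Nat.card N : ℂ) ≠ 0 := Nat.cast_ne_zero.mpr Nat.card_pos.ne'
    have hQ : (Nat.card (T ⧸ N) : ℂ) ≠ 0 := Nat.cast_ne_zero.mpr Nat.card_pos.ne'
    field_simp
  obtain ⟨l, -, hl⟩ : ∃ l ∈ (Finset.univ : Finset (IrrCharacter (T ⧸ N))), m l ≠ 0 := by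
    refine Finset.exists_ne_zero_of_sum_ne_zero ?_
    rw [hsum]
    exact mul_ne_zero (Nat.cast_ne_zero.mpr h0) (Nat.cast_ne_zero.mpr h0')
  obtain ⟨c, hc⟩ := exists_hom_of_degree_one (irr_isCharacter l.2) (hlin l)
  have hirr : IsIrrCharacter T (fun t : T => ψ t * (l : T ⧸ N → ℂ) (QuotientGroup.mk t)) := by
    refine isIrr_of_norm_one (isCharacter_mul (irr_isCharacter hψ)
      (isCharacter_comp (QuotientGroup.mk' N) (irr_isCharacter l.2))) ?_
    rw [← irr_self hψ]
    simp only [classInner]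
    congr 1
    refine Finset.sum_congr rfl fun t _ => ?_
    have hn : ‖((c (QuotientGroup.mk t) : ℂˣ) : ℂ)‖ = 1 :=
      Complex.norm_eq_one_of_pow_eq_one (linear_pow_card c _) (orderOf_pos _).ne'
    rw [hc, map_mul, mul_mul_mul_comm, Complex.mul_conj', Complex.mul_conj', hn]
    simp
  have heq : (fun t : T => ψ t * (l : T ⧸ N → ℂ) (QuotientGroup.mk t)) = ψ' := by
    by_contra hne
    simp only [hm] at hl
    rw [irr_orth hirr hψ', if_neg hne] at hl
    exact hl rfl
  have h1 := congrFun heq ((1 : N) : T)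
  rw [OneMemClass.coe_one, QuotientGroup.mk_one, hlin, mul_one, ← OneMemClass.coe_one N, he, he'] at h1
  exact Nat.cast_injective (mul_right_cancel₀ (irr_one_ne_zero hθ) h1)

variable {G : Type u} [Group G] [Fintype G]

open scoped Classical in
/-- The decomposition of an induced character with abelian inertia quotient. -/
theorem abelian_inertia (H T : Subgroup G) [hN : H.Normal] (θ : H → ℂ) (hθ : IsIrrCharacter H θ)
    (hT : ∀ g : G, g ∈ T ↔ ∀ h : H, θ ⟨g * h * g⁻¹, hN.conj_mem h h.2 g⟩ = θ h)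
    (hab : ∀ x ∈ T, ∀ y ∈ T, x * y * x⁻¹ * y⁻¹ ∈ H) :
    ∃ (e : ℕ) (C : Finset (G → ℂ)), 0 < e ∧ (∀ χ ∈ C, IsIrrCharacter G χ) ∧
      e ^ 2 * C.card * Nat.card H = Nat.card T ∧ indFun H θ = (e : ℂ) • ∑ χ ∈ C, χ ∧
      (∀ χ ∈ C, χ 1 = (T.index : ℂ) * e * θ 1) ∧
      ∃ (ψ : T → ℂ) (hHT : H ≤ T), IsIrrCharacter T ψ ∧
        ∀ h : H, ψ (Subgroup.inclusion hHT h) = (e : ℂ) * θ h := by
  haveI := Fintype.ofFinite H
  have hT' : ∀ g : G, g ∈ T ↔ irrComp (MulAut.conjNormal g) (⟨θ, hθ⟩ : IrrCharacter H) = ⟨θ, hθ⟩ :=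
    fun g => by
    rw [hT, Subtype.ext_iff, funext_iff]
    simp only [irrComp_apply]
    refine forall_congr' fun h => Eq.congr_left (congrArg θ (Subtype.ext ?_))
    simp [MulAut.conjNormal_apply]
  have hF : IsCharacter G (indFun H θ) := isCharacter_indFun H (irr_isCharacter hθ)
  obtain ⟨m, hm⟩ := exists_decomposition hF
  set S := Finset.univ.filter fun χ : IrrCharacter G => m χ ≠ 0 with hS
  have hnorm : classInner (indFun H θ) (indFun H θ) =
      (Nat.card H : ℂ)⁻¹ * (Nat.card T : ℂ) := by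
    have h := classInner_indFun_normal H (⟨θ, hθ⟩ : IrrCharacter H) ⟨θ, hθ⟩
    rw [Nat.card_congr (Equiv.subtypeEquivRight fun g => (hT' g).symm)] at h
    exact h
  have hsq : ∑ χ ∈ S, (m χ : ℂ) * m χ = (Nat.card H : ℂ)⁻¹ * (Nat.card T : ℂ) := by
    rw [← hnorm]
    nth_rewrite 1 [hm]
    rw [classInner_sum_left, hS, Finset.sum_filter]
    refine Finset.sum_congr rfl fun χ _ => ?_
    rw [← Nat.cast_smul_eq_nsmul ℂ, classInner_smul_left, ← classInner_symm,
      decomposition_coeff m hm χ, map_natCast]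
    split_ifs with h
    · rfl
    · rw [not_not.mp h, Nat.cast_zero, zero_mul]
  obtain ⟨χ₀, hχ₀⟩ : S.Nonempty := by
    rw [Finset.nonempty_iff_ne_empty]
    intro h
    rw [h, Finset.sum_empty, eq_comm, mul_eq_zero] at hsq
    simp [Nat.card_pos.ne'] at hsq
  have key : ∀ χ ∈ S, ∃ (ψ : T → ℂ) (hHT : H ≤ T), IsIrrCharacter T ψ ∧ m χ ≠ 0 ∧
      (∀ h : H, ψ (Subgroup.inclusion hHT h) = (m χ : ℂ) * θ h) ∧
      (χ : G → ℂ) 1 = (T.index : ℂ) * m χ * θ 1 := by
    intro χ hχ
    have hmχ : m χ ≠ 0 := (Finset.mem_filter.mp hχ).2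
    have hcons : classInner (fun a : H => (χ : G → ℂ) a) θ = (m χ : ℂ) := by
      have h := frobenius_right H θ (isClassFunction_character (irr_isCharacter χ.2))
      rw [← classInner_symm, decomposition_coeff m hm χ, map_natCast] at h
      exact h.symm
    obtain ⟨T', ψ, e, hHT, hψ, hχψ, -, hT'', hres, hce⟩ :=
      exists_correspondent χ.2 H (⟨θ, hθ⟩ : IrrCharacter H)
        (by rw [hcons]; exact Nat.cast_ne_zero.mpr hmχ)
    obtain rfl : T' = T := Subgroup.ext fun g => (hT'' g).trans (hT' g).symm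
    have hem : e = m χ := by exact_mod_cast hce.symm.trans hcons
    subst hem
    refine ⟨ψ, hHT, hψ, hmχ, hres, ?_⟩
    rw [hχψ, indFun_one, mul_assoc, ← hres 1, map_one]
  obtain ⟨ψ₀, hHT, hψ₀, he0, hres₀, -⟩ := key χ₀ hχ₀
  haveI : (H.subgroupOf T).Normal := Subgroup.Normal.comap hN _
  haveI := Fintype.ofFinite T
  haveI : Fintype (H.subgroupOf T) := Fintype.ofFinite _
  let ι : H.subgroupOf T ≃* H := Subgroup.subgroupOfEquivOfLe hHT
  have hall : ∀ χ ∈ S, m χ = m χ₀ := by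
    intro χ hχ
    obtain ⟨ψ, hHT', hψ, he, hres, -⟩ := key χ hχ
    refine ramification_unique (H.subgroupOf T) (fun x y => hab x.1 x.2 y.1 y.2)
      (θ := fun x => θ (ι x)) (isIrrCharacter_comp_equiv ι hθ) hψ hψ₀ (fun n => ?_) (fun n => ?_)
      he he0
    · exact (congrArg ψ (Subtype.ext rfl)).trans (hres (ι n))
    · exact (congrArg ψ₀ (Subtype.ext rfl)).trans (hres₀ (ι n))
  refine ⟨m χ₀, S.image fun χ : IrrCharacter G => (χ : G → ℂ), Nat.pos_of_ne_zero he0,
    ?_, ?_, ?_, ?_, ψ₀, hHT, hψ₀, hres₀⟩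
  · intro χ hχ
    obtain ⟨χ', -, rfl⟩ := Finset.mem_image.mp hχ
    exact χ'.2
  · rw [Finset.card_image_of_injective _ Subtype.val_injective]
    rw [Finset.sum_congr rfl (fun χ hχ => by rw [hall χ hχ]), Finset.sum_const, nsmul_eq_mul] at hsq
    apply Nat.cast_injective (R := ℂ)
    have hH : (Nat.card H : ℂ) ≠ 0 := Nat.cast_ne_zero.mpr Nat.card_pos.ne'
    push_cast
    field_simp at hsq
    linear_combination hsq
  · rw [Finset.sum_image fun a _ b _ h => Subtype.ext h, Finset.smul_sum]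
    conv_lhs => rw [hm]
    rw [← Finset.sum_subset (Finset.subset_univ S) fun χ _ hχ => by
      rw [hS, Finset.mem_filter, not_and, not_not] at hχ
      rw [hχ (Finset.mem_univ _), zero_smul]]
    exact Finset.sum_congr rfl fun χ hχ => by rw [Nat.cast_smul_eq_nsmul, hall χ hχ]
  · intro χ hχ
    obtain ⟨χ', hχ', rfl⟩ := Finset.mem_image.mp hχ
    obtain ⟨-, -, -, -, -, hdeg⟩ := key χ' hχ'
    rw [hdeg, hall χ' hχ']

open scoped Classical in
/-- In the coprime case there is no ramification. -/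
theorem abelian_inertia_coprime (H T : Subgroup G) [hN : H.Normal] (θ : H → ℂ)
    (hθ : IsIrrCharacter H θ)
    (hT : ∀ g : G, g ∈ T ↔ ∀ h : H, θ ⟨g * h * g⁻¹, hN.conj_mem h h.2 g⟩ = θ h)
    (hab : ∀ x ∈ T, ∀ y ∈ T, x * y * x⁻¹ * y⁻¹ ∈ H)
    (hcop : Nat.Coprime (Nat.card H) (H.relIndex T)) :
    ∃ C : Finset (G → ℂ), (∀ χ ∈ C, IsIrrCharacter G χ) ∧ C.card = H.relIndex T ∧
      indFun H θ = ∑ χ ∈ C, χ ∧ ∀ χ ∈ C, χ 1 = (T.index : ℂ) * θ 1 := by
  obtain ⟨e, C, he, hC, hcard, hdec, hdeg, ψ, hHT, hψ, hres⟩ := abelian_inertia H T θ hθ hT hab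
  haveI : (H.subgroupOf T).Normal := Subgroup.Normal.comap hN _
  haveI := Fintype.ofFinite H
  haveI := Fintype.ofFinite T
  haveI : Fintype (H.subgroupOf T) := Fintype.ofFinite _
  let ι : H.subgroupOf T ≃* H := Subgroup.subgroupOfEquivOfLe hHT
  set θ' : H.subgroupOf T → ℂ := fun x => θ (ι x) with hθ'
  have hirr' : IsIrrCharacter (H.subgroupOf T) θ' := isIrrCharacter_comp_equiv ι hθ
  have hinv : ∀ (g : T) (n : H.subgroupOf T), θ' (MulAut.conjNormal g n) = θ' n := fun g n =>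
    (congrArg θ (Subtype.ext rfl)).trans ((hT (g : G)).mp g.2 (ι n))
  have hidx : (H.subgroupOf T).index.Coprime (Nat.card (H.subgroupOf T)) := by
    rw [Nat.card_congr ι.toEquiv]
    exact hcop.symm
  have hd := char_one_eq_deg (irr_isCharacter hirr')
  obtain ⟨d, σ, hσ⟩ := irr_isCharacter hirr'
  obtain ⟨μ, hμ, -⟩ := exists_linear_extension_coprime (H.subgroupOf T) (detHom σ) (fun g n =>
    Units.ext (by
      have h := detChar_conj_inv (H.subgroupOf T) (irr_isCharacter hirr') hinv g n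
      rwa [detChar_eq_hom σ hσ] at h)) (hidx.coprime_dvd_right (orderOf_dvd_of_pow_eq_one
        (MonoidHom.ext fun z => by
          rw [MonoidHom.pow_apply, ← map_pow, pow_card_eq_one', map_one, MonoidHom.one_apply])))
  obtain ⟨η, hη, hηres⟩ := exists_extension_of_det_extension (H.subgroupOf T) hirr' hinv (deg θ') hd
    (hidx.coprime_dvd_right (deg_dvd_card hirr')) μ
    (fun n => by rw [hμ, detChar_eq_hom σ hσ])
  obtain rfl : e = 1 := ramification_unique (H.subgroupOf T) (fun x y => hab x.1 x.2 y.1 y.2)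
    hirr' hψ hη (fun n => (congrArg ψ (Subtype.ext rfl)).trans (hres (ι n)))
    (fun n => by rw [hηres n, Nat.cast_one, one_mul]) he.ne' one_ne_zero
  refine ⟨C, hC, ?_, by simpa using hdec, fun χ hχ => by rw [hdeg χ hχ, Nat.cast_one, mul_one]⟩
  rw [one_pow, one_mul] at hcard
  have h2 : H.relIndex T * Nat.card H = Nat.card T := by
    rw [Subgroup.relIndex, ← Nat.card_congr ι.toEquiv]
    exact Subgroup.index_mul_card _
  exact Nat.eq_of_mul_eq_mul_right Nat.card_pos (hcard.trans h2.symm)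

end Cfsg.Agent.Char
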