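import Cfsg.Agent.Lib.Char.Clifford
import Cfsg.Agent.Lib.Char.ProjRep
import Cfsg.Agent.Lib.Char.Linear
import Cfsg.Agent.Lib.Char.KerPPrime
import Cfsg.Agent.Lib.Char.DegreeDvd
import Cfsg.Agent.Lib.Fusion.TransferSplit
import Cfsg.Agent.Lib.Solv.Cores

/-!
# A faithful character of norm one on the `p`-singular elements, with `O_p(G) ≠ 1`
-/

set_option autoImplicit false
set_option linter.unusedSectionVars false
set_option linter.style.haveILetI false

namespace Cfsg.Agent.Char.RootValues

open Cfsg Cfsg.Agent.Char Module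
open scoped ComplexConjugate

universe u

variable {G : Type u} [Group G] [Fintype G]

theorem norm_of_center (χ : IrrCharacter G) {z : G} (hz : z ∈ Subgroup.center G) :
    ‖(χ : G → ℂ) z‖ = (deg (χ : G → ℂ) : ℝ) := by
  obtain ⟨n, ρ, hρ, e⟩ := id χ.2
  haveI := hρ
  obtain ⟨c, hc⟩ := schur_scalar ρ (ρ z) (fun k => by
    change ρ z * ρ k = ρ k * ρ z
    rw [← map_mul, ← map_mul, Subgroup.mem_center_iff.mp hz k])
  rw [← e, (eq_scalar_iff ρ z).mpr ⟨c, hc⟩, deg_character]

theorem mem_center_of_norm (χ : IrrCharacter G)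
    (hf : ∀ g : G, (χ : G → ℂ) g = (χ : G → ℂ) 1 → g = 1) {c : G}
    (hc : ‖(χ : G → ℂ) c‖ = (deg (χ : G → ℂ) : ℝ)) : c ∈ Subgroup.center G := by
  obtain ⟨n, ρ, hρ, e⟩ := id χ.2
  rw [← e, deg_character] at hc
  obtain ⟨w, hw⟩ := (eq_scalar_iff ρ c).mp hc
  refine Subgroup.mem_center_iff.mpr fun g => ?_
  have h1 : g * c * g⁻¹ * c⁻¹ = 1 := hf _ (by
    rw [← e, Representation.char_one, eq_id_iff, map_mul, map_mul, map_mul, hw,
      ← Module.End.one_eq_id, mul_smul_comm, mul_one, smul_mul_assoc, ← map_mul, mul_inv_cancel,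
      map_one, show w • (1 : Module.End ℂ _) = ρ c by rw [hw, Module.End.one_eq_id], ← map_mul,
      mul_inv_cancel, map_one])
  exact mul_inv_eq_iff_eq_mul.mp (mul_inv_eq_one.mp h1)

theorem hom_separates {A : Type u} [Group A] [Finite A] (hab : ∀ a b : A, a * b = b * a) {x : A}
    (h : ∀ l : A →* ℂˣ, l x = 1) : x = 1 := by
  haveI := Fintype.ofFinite A
  haveI : IsMulCommutative A := ⟨⟨hab⟩⟩
  have h1 := mem_commutator_of_forall_linear h
  rwa [(commutator_eq_bot_iff A).mpr inferInstance, Subgroup.mem_bot] at h1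

/-- The setting of the theorem. -/
structure Ctx (p : ℕ) (χ : IrrCharacter G) (P : Subgroup G) : Prop where
  prime : p.Prime
  faith : ∀ g : G, (χ : G → ℂ) g = (χ : G → ℂ) 1 → g = 1
  nonlin : (χ : G → ℂ) 1 ≠ 1
  norm : ∀ g : G, p ∣ orderOf g → ‖(χ : G → ℂ) g‖ = 1
  pgroup : IsPGroup p P
  maximal : ∀ N : Subgroup G, N.Normal → IsPGroup p N → N ≤ P
  ne_bot : P ≠ ⊥

variable {p : ℕ} {χ : IrrCharacter G} {P : Subgroup G}

theorem Ctx.norm_pelem (h : Ctx p χ P) {u : G} (hu : u ≠ 1) (hk : ∃ k, orderOf u = p ^ k) :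
    ‖(χ : G → ℂ) u‖ = 1 := by
  obtain ⟨k, hk⟩ := hk
  refine h.norm u (hk ▸ dvd_pow_self p fun h0 => hu ?_)
  rw [h0, pow_zero, orderOf_eq_one_iff] at hk
  exact hk

theorem Ctx.deg_ne_one (h : Ctx p χ P) : deg (χ : G → ℂ) ≠ 1 := fun h1 => h.nonlin (by
  rw [char_one_eq_deg (irr_isCharacter χ.2), h1, Nat.cast_one])

theorem Ctx.center_coprime (h : Ctx p χ P) : ¬ p ∣ Nat.card (Subgroup.center G) := by
  intro hd
  haveI := Fact.mk h.prime
  obtain ⟨z, hz⟩ := exists_prime_orderOf_dvd_card' p hd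
  have h1 := norm_of_center χ z.2
  rw [h.norm z (by rw [Subgroup.orderOf_coe, hz])] at h1
  exact h.deg_ne_one (by exact_mod_cast h1.symm)

/-- The norm of the restriction to a `p`-subgroup. -/
theorem Ctx.pgroup_norm (h : Ctx p χ P) (S : Subgroup G) [Fintype S] (hS : IsPGroup p S) :
    classInner (fun s : S => (χ : G → ℂ) s) (fun s : S => (χ : G → ℂ) s) =
      (((deg (χ : G → ℂ) : ℂ) ^ 2 - 1) + Nat.card S) / Nat.card S := by
  classical
  have e : ∀ s : S, (χ : G → ℂ) s * conj ((χ : G → ℂ) s) =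
      1 + if s = 1 then ((deg (χ : G → ℂ) : ℂ) ^ 2 - 1) else 0 := by
    intro s
    split_ifs with hs
    · subst hs
      rw [Subgroup.coe_one, char_one_eq_deg (irr_isCharacter χ.2), map_natCast]
      ring
    · rw [Complex.mul_conj, Complex.normSq_eq_norm_sq, h.norm_pelem (fun h0 => hs (Subtype.ext h0)) ?_]
      · simp
      · haveI := Fact.mk h.prime
        obtain ⟨k, hk⟩ := IsPGroup.iff_orderOf.mp hS s
        exact ⟨k, by rw [Subgroup.orderOf_coe, hk]⟩
  rw [classInner, Finset.sum_congr rfl fun s _ => e s, Finset.sum_add_distrib, Finset.sum_const,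
    Finset.card_univ, Finset.sum_ite_eq', if_pos (Finset.mem_univ _), nsmul_eq_mul, mul_one,
    Nat.card_eq_fintype_card, inv_mul_eq_div]
  ring

theorem Ctx.card_dvd (h : Ctx p χ P) (S : Subgroup G) (hS : IsPGroup p S) :
    Nat.card S ∣ deg (χ : G → ℂ) ^ 2 - 1 := by
  haveI := Fintype.ofFinite S
  have h1 := h.pgroup_norm S hS
  obtain ⟨n, hn⟩ := classInner_natCast (G := S) (isCharacter_comp S.subtype (irr_isCharacter χ.2))
    (isCharacter_comp S.subtype (irr_isCharacter χ.2))
  have h2 : classInner (fun s : S => (χ : G → ℂ) s) (fun s : S => (χ : G → ℂ) s) = (n : ℂ) := hn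
  rw [h2, eq_div_iff (Nat.cast_ne_zero.mpr Nat.card_pos.ne')] at h1
  have hd : 1 ≤ deg (χ : G → ℂ) ^ 2 := Nat.one_le_pow _ _ (deg_pos χ.2)
  have h3 : n * Nat.card S = (deg (χ : G → ℂ) ^ 2 - 1) + Nat.card S := by
    apply Nat.cast_injective (R := ℂ)
    push_cast [Nat.cast_sub hd]
    exact h1
  exact (Nat.dvd_add_left dvd_rfl).mp (h3 ▸ dvd_mul_left _ n)

theorem Ctx.not_dvd_deg (h : Ctx p χ P) : ¬ p ∣ deg (χ : G → ℂ) := by
  intro hd
  haveI := Fact.mk h.prime
  have h1 := h.card_dvd P h.pgroup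
  have hp : p ∣ Nat.card P := by
    obtain ⟨n, hn⟩ := IsPGroup.iff_card.mp h.pgroup
    rw [hn]
    refine dvd_pow_self p fun h0 => h.ne_bot (Subgroup.card_eq_one.mp ?_)
    rw [hn, h0, pow_zero]
  have h2 : p ∣ deg (χ : G → ℂ) ^ 2 := dvd_pow hd two_ne_zero
  have h3 := Nat.dvd_sub h2 (hp.trans h1)
  rw [Nat.sub_sub_self (Nat.one_le_pow _ _ (deg_pos χ.2))] at h3
  exact h.prime.not_dvd_one h3

theorem Ctx.abelian [P.Normal] (h : Ctx p χ P) : ∀ a b : P, a * b = b * a := by
  classical
  haveI := Fact.mk h.prime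
  haveI := Fintype.ofFinite P
  have hres : IsCharacter P (fun x : P => (χ : G → ℂ) x) :=
    isCharacter_comp P.subtype (irr_isCharacter χ.2)
  obtain ⟨m, hm⟩ := exists_decomposition hres
  have hlin : ∀ θ : IrrCharacter P, m θ ≠ 0 → (θ : P → ℂ) 1 = 1 := by
    intro θ hθ
    have hc : classInner (fun x : P => (χ : G → ℂ) x) (θ : P → ℂ) ≠ 0 := by
      rw [decomposition_coeff m hm θ]; exact Nat.cast_ne_zero.mpr hθ
    have h1 := congrFun (clifford_restrict χ θ hc) 1
    have hall : ∀ ψ ∈ cliffOrbit P θ, (ψ : P → ℂ) 1 = (θ : P → ℂ) 1 := by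
      intro ψ hψ
      obtain ⟨g, rfl⟩ := mem_cliffOrbit.mp hψ
      rw [irrComp_apply, map_one]
    rw [Pi.smul_apply, Finset.sum_apply, Finset.sum_congr rfl hall, Finset.sum_const, smul_eq_mul,
      nsmul_eq_mul, decomposition_coeff m hm θ, Subgroup.coe_one,
      char_one_eq_deg (irr_isCharacter χ.2), char_one_eq_deg (irr_isCharacter θ.2)] at h1
    have hdvd : deg (θ : P → ℂ) ∣ deg (χ : G → ℂ) :=
      ⟨m θ * (cliffOrbit P θ).card, by
        apply Nat.cast_injective (R := ℂ)
        push_cast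
        linear_combination h1⟩
    obtain ⟨n, hn⟩ := IsPGroup.iff_card.mp h.pgroup
    obtain ⟨j, -, hj⟩ := (Nat.dvd_prime_pow h.prime).mp (hn ▸ deg_dvd_card θ.2)
    rw [char_one_eq_deg (irr_isCharacter θ.2), hj]
    rcases Nat.eq_zero_or_pos j with rfl | hjp
    · simp
    · exact absurd ((hj ▸ dvd_pow_self p hjp.ne').trans hdvd) h.not_dvd_deg
  intro a b
  have h1 : (χ : G → ℂ) ((a * b * a⁻¹ * b⁻¹ : P) : G) = (χ : G → ℂ) 1 := by
    have e1 := congrFun hm (a * b * a⁻¹ * b⁻¹)
    have e2 := congrFun hm 1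
    simp only [Subgroup.coe_one] at e2
    rw [e1, e2, Finset.sum_apply, Finset.sum_apply]
    refine Finset.sum_congr rfl fun θ _ => ?_
    rcases eq_or_ne (m θ) 0 with h0 | h0
    · simp [h0]
    · obtain ⟨l, hl⟩ := exists_hom_of_degree_one (irr_isCharacter θ.2) (hlin θ h0)
      simp only [Pi.smul_apply, hl, map_mul, map_inv, map_one, Units.val_mul, Units.val_one]
      congr 1
      rw [← Units.val_mul, ← Units.val_mul, ← Units.val_mul, mul_right_comm (l a), mul_inv_cancel,
        one_mul, mul_inv_cancel, Units.val_one]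
  have h2 : a * b * a⁻¹ * b⁻¹ = 1 := Subtype.ext (h.faith _ h1)
  exact mul_inv_eq_iff_eq_mul.mp (mul_inv_eq_one.mp h2)

theorem Ctx.linear [P.Normal] (h : Ctx p χ P) (θ : IrrCharacter P) : (θ : P → ℂ) 1 = 1 :=
  forall_linear_iff_comm.mp h.abelian θ

/-- The restriction to `P` has all nontrivial linear characters once, and they form one orbit. -/
theorem Ctx.main [P.Normal] [Fintype P] (h : Ctx p χ P) :
    deg (χ : G → ℂ) + 1 = Nat.card P ∧
    (∀ θ : IrrCharacter P, classInner (fun x : P => (χ : G → ℂ) x) (θ : P → ℂ) =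
      if (θ : P → ℂ) = fun _ => 1 then 0 else 1) ∧
    (∀ θ ψ : IrrCharacter P, (θ : P → ℂ) ≠ (fun _ => 1) → (ψ : P → ℂ) ≠ (fun _ => 1) →
      ψ ∈ cliffOrbit P θ) := by
  classical
  set d := deg (χ : G → ℂ) with hd
  set q := Nat.card P with hq
  have hres : IsCharacter P (fun x : P => (χ : G → ℂ) x) :=
    isCharacter_comp P.subtype (irr_isCharacter χ.2)
  obtain ⟨m, hm⟩ := exists_decomposition hres
  have hco := decomposition_coeff m hm
  obtain ⟨θ, hθ⟩ : ∃ θ : IrrCharacter P, m θ ≠ 0 := by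
    by_contra! hall
    have e := congrFun hm 1
    simp only [hall, zero_smul, Finset.sum_const_zero, Pi.zero_apply, Subgroup.coe_one] at e
    exact irr_one_ne_zero χ.2 e
  set e := m θ with he
  set O := cliffOrbit P θ with hO
  have hc : classInner (fun x : P => (χ : G → ℂ) x) (θ : P → ℂ) ≠ 0 := by
    rw [hco]; exact Nat.cast_ne_zero.mpr hθ
  have hcl := clifford_restrict χ θ hc
  rw [hco] at hcl
  have hcoef : ∀ ψ : IrrCharacter P, m ψ = if ψ ∈ O then e else 0 := by
    intro ψ
    apply Nat.cast_injective (R := ℂ)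
    rw [← hco, hcl, classInner_smul_left, classInner_sum_left]
    simp only [irrC_orth, Finset.sum_ite_eq', ← hO]
    split_ifs <;> simp [he]
  have hdeg : d = e * O.card := by
    have h1 := congrFun hcl 1
    simp only [Pi.smul_apply, Finset.sum_apply, smul_eq_mul, h.linear, Finset.sum_const,
      nsmul_eq_mul, mul_one, Subgroup.coe_one, char_one_eq_deg (irr_isCharacter χ.2)] at h1
    exact_mod_cast h1
  have hnorm : classInner (fun x : P => (χ : G → ℂ) x) (fun x : P => (χ : G → ℂ) x) =
      ((e * d : ℕ) : ℂ) := by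
    conv_lhs => arg 1; rw [hcl]
    rw [classInner_smul_left, classInner_sum_left, Finset.sum_congr rfl (g := fun _ => (e : ℂ))
      fun ψ hψ => by rw [← classInner_symm, hco, hcoef, if_pos hψ, map_natCast],
      Finset.sum_const, nsmul_eq_mul, hdeg]
    push_cast
    ring
  have heq : q * (e * d) + 1 = d ^ 2 + q := by
    have h1 := h.pgroup_norm P h.pgroup
    rw [hnorm, eq_div_iff (Nat.cast_ne_zero.mpr Nat.card_pos.ne'), ← hd, ← hq] at h1
    apply Nat.cast_injective (R := ℂ)
    push_cast at h1 ⊢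
    linear_combination h1
  have he1 : e = 1 := by
    obtain ⟨⟨u, hu⟩, hu1⟩ := Subgroup.ne_bot_iff_exists_ne_one.mp h.ne_bot
    set s := ∑ ψ ∈ O, (ψ : P → ℂ) ⟨u, hu⟩ with hs
    have hsu : (χ : G → ℂ) u = (e : ℂ) * s := by
      have := congrFun hcl ⟨u, hu⟩
      simpa [Finset.sum_apply, hs, ← hO] using this
    have hsI : IsIntegral ℤ s := IsIntegral.sum _ fun ψ _ => char_isIntegral (irr_isCharacter ψ.2) _
    haveI := Fact.mk h.prime
    have hn : ‖(χ : G → ℂ) u‖ = 1 := h.norm_pelem (fun h0 => hu1 (Subtype.ext h0)) (by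
      obtain ⟨k, hk⟩ := IsPGroup.iff_orderOf.mp h.pgroup ⟨u, hu⟩
      exact ⟨k, by rwa [Subgroup.orderOf_mk] at hk⟩)
    have h1 : (e : ℂ) ^ 2 * (s * conj s) = 1 := by
      have h2 := Complex.mul_conj ((χ : G → ℂ) u)
      rw [Complex.normSq_eq_norm_sq, hn, hsu, map_mul, map_natCast] at h2
      simp only [one_pow, Complex.ofReal_one] at h2
      linear_combination h2
    have he0 : (e : ℂ) ≠ 0 := Nat.cast_ne_zero.mpr hθ
    have hint : IsIntegral ℤ (algebraMap ℚ ℂ (((e : ℚ) ^ 2)⁻¹)) := by
      have : algebraMap ℚ ℂ (((e : ℚ) ^ 2)⁻¹) = s * conj s := by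
        rw [map_inv₀, map_pow, map_natCast]
        exact (eq_inv_of_mul_eq_one_right h1).symm
      rw [this]
      exact hsI.mul (hsI.map (starRingEnd ℂ).toIntAlgHom)
    rw [isIntegral_algebraMap_iff (algebraMap ℚ ℂ).injective,
      IsIntegrallyClosed.isIntegral_iff] at hint
    obtain ⟨z, hz⟩ := hint
    have h3 : (z * (e : ℤ) ^ 2 : ℤ) = 1 := by
      have : ((z * (e : ℤ) ^ 2 : ℤ) : ℚ) = 1 := by
        push_cast
        rw [show (z : ℚ) = ((e : ℚ) ^ 2)⁻¹ from hz,
          inv_mul_cancel₀ (pow_ne_zero 2 (Nat.cast_ne_zero.mpr hθ))]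
      exact Int.cast_injective (α := ℚ) (this.trans Int.cast_one.symm)
    have h4 : (e : ℤ) ^ 2 = 1 := Int.eq_one_of_mul_eq_one_left (sq_nonneg _) h3
    have h5 : e ^ 2 = 1 := by exact_mod_cast h4
    exact (Nat.pow_eq_one.mp h5).resolve_right two_ne_zero
  rw [he1, one_mul] at heq hdeg
  have hdq : d + 1 = q := by
    have hd1 : d ≠ 1 := h.deg_ne_one
    have hd0 : 0 < d := deg_pos χ.2
    have h2 : ((d : ℤ) - 1) * ((d : ℤ) + 1 - q) = 0 := by
      have : (q : ℤ) * d + 1 = (d : ℤ) ^ 2 + q := by exact_mod_cast heq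
      linear_combination -this
    rcases mul_eq_zero.mp h2 with h3 | h3 <;> omega
  have hcard : Nat.card (IrrCharacter P) = q := by
    haveI : IsMulCommutative P := ⟨⟨h.abelian⟩⟩
    rw [Nat.card_congr (Equiv.subtypeUnivEquiv (p := fun θ : IrrCharacter P => (θ : P → ℂ) 1 = 1)
      h.linear).symm, card_linear, (commutator_eq_bot_iff P).mpr inferInstance,
      Subgroup.index_bot]
  set one : IrrCharacter P := ⟨fun _ => 1, isIrrCharacter_one⟩ with hone
  have h1O : one ∉ O := by
    intro hmem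
    obtain ⟨g, hg⟩ := mem_cliffOrbit.mp hmem
    have hall : ∀ ψ ∈ O, (ψ : P → ℂ) = fun _ => 1 := by
      intro ψ hψ
      obtain ⟨k, rfl⟩ := mem_cliffOrbit.mp hψ
      funext x
      rw [irrComp_apply]
      have := congrFun (congrArg Subtype.val hg) ((MulAut.conjNormal g).symm (MulAut.conjNormal k x))
      rw [irrComp_apply, MulEquiv.apply_symm_apply] at this
      exact this
    refine h.ne_bot ((Subgroup.eq_bot_iff_forall P).mpr fun x hx => h.faith x ?_)
    have e1 := congrFun hcl ⟨x, hx⟩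
    have e2 := congrFun hcl 1
    simp only [Pi.smul_apply, Finset.sum_apply, Subgroup.coe_one, ← hO] at e1 e2
    rw [e1, e2, Finset.sum_congr rfl fun ψ hψ => congrFun (hall ψ hψ) _,
      Finset.sum_congr rfl fun ψ hψ => congrFun (hall ψ hψ) _]
  have hOeq : O = Finset.univ.erase one := by
    refine Finset.eq_of_subset_of_card_le (fun ψ hψ => Finset.mem_erase.mpr
      ⟨fun e => h1O (e ▸ hψ), Finset.mem_univ _⟩) ?_
    rw [Finset.card_erase_of_mem (Finset.mem_univ _), Finset.card_univ,
      ← Nat.card_eq_fintype_card, hcard]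
    omega
  have hmem : ∀ ψ : IrrCharacter P, ψ ∈ O ↔ (ψ : P → ℂ) ≠ fun _ => 1 := fun ψ => by
    rw [hOeq, Finset.mem_erase, and_iff_left (Finset.mem_univ _)]
    exact not_congr Subtype.ext_iff
  refine ⟨hdq, fun ψ => ?_, fun a b ha hb => ?_⟩
  · rw [hco, hcoef, he1]
    by_cases hψ : ψ ∈ O
    · rw [if_pos hψ, if_neg ((hmem ψ).mp hψ), Nat.cast_one]
    · rw [if_neg hψ, if_pos (by_contra fun hne => hψ ((hmem ψ).mpr hne)), Nat.cast_zero]
  · obtain ⟨g, hg⟩ := mem_cliffOrbit.mp ((hmem a).mpr ha)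
    obtain ⟨k, hk⟩ := mem_cliffOrbit.mp ((hmem b).mpr hb)
    refine mem_cliffOrbit.mpr ⟨g⁻¹ * k, ?_⟩
    refine Subtype.ext (funext fun x => ?_)
    rw [← hk, ← hg]
    simp only [irrComp_apply]
    refine congrArg _ (Subtype.ext ?_)
    simp [MulAut.conjNormal_apply, mul_assoc]

theorem Ctx.elementary [P.Normal] (h : Ctx p χ P) : ∀ x : P, x ^ p = 1 := by
  classical
  haveI := Fact.mk h.prime
  haveI := Fintype.ofFinite P
  obtain ⟨l0, hl0, hl0p⟩ : ∃ l : P →* ℂˣ, l ≠ 1 ∧ ∀ x, l x ^ p = 1 := by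
    obtain ⟨u, hu⟩ := Subgroup.ne_bot_iff_exists_ne_one.mp h.ne_bot
    obtain ⟨l, hl⟩ : ∃ l : P →* ℂˣ, l ≠ 1 := by
      by_contra! hall
      exact hu (hom_separates h.abelian fun l => by rw [hall l]; rfl)
    have hfin : IsOfFinOrder l := by
      refine isOfFinOrder_iff_pow_eq_one.mpr ⟨Nat.card P, Nat.card_pos, ?_⟩
      ext x
      rw [MonoidHom.pow_apply, ← map_pow, pow_card_eq_one', map_one]
      rfl
    have hpd : p ∣ orderOf l := by
      obtain ⟨n, hn⟩ := IsPGroup.iff_card.mp h.pgroup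
      have : orderOf l ∣ p ^ n := orderOf_dvd_of_pow_eq_one (by
        ext x
        rw [MonoidHom.pow_apply, ← map_pow, ← hn, pow_card_eq_one', map_one]
        rfl)
      obtain ⟨i, -, hi⟩ := (Nat.dvd_prime_pow h.prime).mp this
      rw [hi]
      refine dvd_pow_self p fun h0 => hl ?_
      rwa [h0, pow_zero, orderOf_eq_one_iff] at hi
    have ho := orderOf_pow_orderOf_div hfin.orderOf_pos.ne' hpd
    refine ⟨l ^ (orderOf l / p), fun h0 => ?_, fun x => ?_⟩
    · rw [h0, orderOf_one] at ho
      exact h.prime.one_lt.ne ho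
    · have := pow_orderOf_eq_one (l ^ (orderOf l / p))
      rw [ho] at this
      rw [← MonoidHom.pow_apply, this, MonoidHom.one_apply]
  set θ : IrrCharacter P := ⟨fun x => (l0 x : ℂ), isIrrCharacter_linear l0⟩
  have hθ : (θ : P → ℂ) ≠ fun _ => 1 := fun e => hl0 (MonoidHom.ext fun x => Units.ext (congrFun e x))
  intro x
  refine hom_separates h.abelian fun l => ?_
  rw [map_pow]
  by_cases hl : l = 1
  · simp [hl]
  set ψ : IrrCharacter P := ⟨fun x => (l x : ℂ), isIrrCharacter_linear l⟩
  have hψ : (ψ : P → ℂ) ≠ fun _ => 1 := fun e => hl (MonoidHom.ext fun x => Units.ext (congrFun e x))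
  obtain ⟨g, hg⟩ := mem_cliffOrbit.mp ((h.main).2.2 θ ψ hθ hψ)
  have h1 : (l x : ℂ) = (l0 (MulAut.conjNormal g x) : ℂ) := by
    have := congrFun (congrArg Subtype.val hg) x
    rw [irrComp_apply] at this
    exact this.symm
  rw [Units.ext h1, hl0p]

theorem Ctx.four_le [P.Normal] (h : Ctx p χ P) : 3 ≤ Nat.card P := by
  haveI := Fintype.ofFinite P
  have h1 := h.main.1
  have := h.deg_ne_one
  have := deg_pos χ.2
  omega

theorem centralizer_eq [P.Normal] (h : Ctx p χ P) :
    Subgroup.centralizer (P : Set G) = P ⊔ Subgroup.center G := by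
  classical
  haveI := Fact.mk h.prime
  haveI := Fintype.ofFinite P
  set C := Subgroup.centralizer (P : Set G) with hC
  have hPC : P ≤ C := fun x hx => Subgroup.mem_centralizer_iff.mpr fun y hy =>
    congrArg Subtype.val (h.abelian ⟨y, hy⟩ ⟨x, hx⟩)
  haveI : C.Normal := Subgroup.normal_centralizer
  haveI := Fintype.ofFinite C
  obtain ⟨hdq, hcoef, -⟩ := h.main
  have hres : IsCharacter C (fun x : C => (χ : G → ℂ) x) :=
    isCharacter_comp C.subtype (irr_isCharacter χ.2)
  obtain ⟨m, hm⟩ := exists_decomposition hres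
  let ι : P →* C := Subgroup.inclusion hPC
  have hlam : ∀ θ : IrrCharacter C, ∃ lam : IrrCharacter P, ∀ x : P,
      (θ : C → ℂ) (ι x) = (θ : C → ℂ) 1 * (lam : P → ℂ) x := by
    intro θ
    have hc := isCharacter_comp ι (irr_isCharacter θ.2)
    have hne : ∃ lam : IrrCharacter P, classInner (fun x : P => (θ : C → ℂ) (ι x)) (lam : P → ℂ) ≠ 0 := by
      by_contra! hall
      have e := congrFun (classFun_expansion (isClassFunction_character hc)) 1
      rw [Finset.sum_apply, Finset.sum_eq_zero fun lam _ => by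
        rw [Pi.smul_apply, show classInner ((θ : C → ℂ) ∘ ι) (lam : P → ℂ) = 0 from hall lam,
          zero_smul]] at e
      exact irr_one_ne_zero θ.2 (by simpa using e)
    obtain ⟨lam, hlam⟩ := hne
    refine ⟨lam, fun x => ?_⟩
    obtain ⟨n, ρ, hρ, e⟩ := id θ.2
    haveI := hρ
    have hs : ∀ y : P, ∃ c : ℂ, ρ (ι y) = c • LinearMap.id := fun y =>
      schur_scalar ρ (ρ (ι y)) fun k => by
        change ρ (ι y) * ρ k = ρ k * ρ (ι y)
        rw [← map_mul, ← map_mul]
        congr 1
        exact Subtype.ext ((Subgroup.mem_centralizer_iff.mp k.2 (y : G) y.2))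
    choose c hcs using hs
    have hval : ∀ y : P, (θ : C → ℂ) (ι y) = (θ : C → ℂ) 1 * c y := fun y => by
      rw [← e, Representation.char_one]
      show LinearMap.trace ℂ _ (ρ (ι y)) = _
      rw [hcs, map_smul, LinearMap.trace_id, smul_eq_mul, mul_comm]
    have hn0 : (n : ℂ) ≠ 0 := by
      have := irr_one_ne_zero θ.2
      rwa [← e, Representation.char_one, Module.finrank_fin_fun] at this
    have hcl : IsCharacter P c := by
      have hone : c 1 = 1 := by
        have := hval 1
        rw [map_one] at this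
        exact (mul_eq_left₀ (irr_one_ne_zero θ.2)).mp this.symm
      have hmul : ∀ y z, c (y * z) = c y * c z := fun y z => by
        have h1 : ρ (ι (y * z)) = (c y * c z) • LinearMap.id := by
          rw [map_mul, map_mul, hcs, hcs, ← Module.End.one_eq_id, smul_mul_smul_comm, one_mul]
        have h2 := hval (y * z)
        have h3 : (θ : C → ℂ) (ι (y * z)) = (θ : C → ℂ) 1 * (c y * c z) := by
          rw [← e, Representation.char_one]
          show LinearMap.trace ℂ _ (ρ (ι (y * z))) = _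
          rw [h1, map_smul, LinearMap.trace_id, smul_eq_mul, mul_comm]
        exact mul_left_cancel₀ (irr_one_ne_zero θ.2) (h2.symm.trans h3)
      let l : P →* ℂ := { toFun := c, map_one' := hone, map_mul' := hmul }
      exact isCharacter_linear l.toHomUnits
    have hci : IsIrrCharacter P c := isIrr_of_norm_one hcl (by
      have h1 : ∀ y, c y * conj (c y) = 1 := fun y => by
        have hc1 : c y ^ orderOf y = 1 := by
          obtain ⟨k, σ, hσ⟩ := hcl
          have := char_inv (G := P) ⟨k, σ, hσ⟩ y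
          have hmul : ∀ i, c (y ^ i) = c y ^ i := by
            intro i
            induction i with
            | zero =>
              rw [pow_zero, pow_zero]
              have := hval 1
              rw [map_one] at this
              exact (mul_eq_left₀ (irr_one_ne_zero θ.2)).mp this.symm
            | succ i ih =>
              rw [pow_succ, pow_succ, ← ih]
              have h1 : ρ (ι (y ^ i * y)) = (c (y ^ i) * c y) • LinearMap.id := by
                rw [map_mul, map_mul, hcs, hcs, ← Module.End.one_eq_id, smul_mul_smul_comm, one_mul]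
              refine mul_left_cancel₀ (irr_one_ne_zero θ.2) ((hval _).symm.trans ?_)
              rw [← e, Representation.char_one]
              show LinearMap.trace ℂ _ (ρ (ι (y ^ i * y))) = _
              rw [h1, map_smul, LinearMap.trace_id, smul_eq_mul, mul_comm]
          rw [← hmul, pow_orderOf_eq_one]
          have := hval 1
          rw [map_one] at this
          exact (mul_eq_left₀ (irr_one_ne_zero θ.2)).mp this.symm
        rw [Complex.mul_conj, Complex.normSq_eq_norm_sq,
          Complex.norm_eq_one_of_pow_eq_one hc1 (orderOf_pos y).ne']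
        simp
      rw [classInner, Finset.sum_congr rfl fun y _ => h1 y, Finset.sum_const, Finset.card_univ,
        nsmul_eq_mul, mul_one, Nat.card_eq_fintype_card,
        inv_mul_cancel₀ (Nat.cast_ne_zero.mpr Fintype.card_ne_zero)])
    have hlc : lam = ⟨c, hci⟩ := by
      by_contra hne
      refine hlam ?_
      rw [show (fun x : P => (θ : C → ℂ) (ι x)) = (θ : C → ℂ) 1 • c from funext hval,
        classInner_smul_left, irr_orth hci lam.2, if_neg (fun e => hne (Subtype.ext e.symm)), mul_zero]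
    rw [hval x, hlc]
  choose lam hlam using hlam
  have hsum : ∀ ψ : IrrCharacter P, classInner (fun x : P => (χ : G → ℂ) x) (ψ : P → ℂ) =
      ((∑ θ : IrrCharacter C with lam θ = ψ, m θ * deg (θ : C → ℂ) : ℕ) : ℂ) := by
    intro ψ
    have e : (fun x : P => (χ : G → ℂ) x) =
        ∑ θ : IrrCharacter C, ((m θ * deg (θ : C → ℂ) : ℕ) : ℂ) • (lam θ : P → ℂ) := by
      funext x
      have := congrFun hm (ι x)
      simp only [Finset.sum_apply, Pi.smul_apply, nsmul_eq_mul, smul_eq_mul, Pi.mul_apply,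
        Pi.natCast_apply] at this ⊢
      rw [show (χ : G → ℂ) (x : G) = (χ : G → ℂ) ((ι x : C) : G) from rfl, this]
      refine Finset.sum_congr rfl fun θ _ => ?_
      rw [hlam, char_one_eq_deg (irr_isCharacter θ.2), Nat.cast_mul, mul_assoc]
    rw [e, classInner_sum_left, Nat.cast_sum, Finset.sum_filter]
    refine Finset.sum_congr rfl fun θ _ => ?_
    rw [classInner_smul_left, irrC_orth]
    split_ifs <;> simp
  have hle : ∀ ψ, ∑ θ : IrrCharacter C with lam θ = ψ, m θ * deg (θ : C → ℂ) ≤ 1 := by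
    intro ψ
    have := (hsum ψ).symm.trans (hcoef ψ)
    split_ifs at this
    · rw [Nat.cast_eq_zero] at this; omega
    · rw [Nat.cast_eq_one] at this; omega
  have hterm : ∀ θ, m θ ≠ 0 → m θ = 1 ∧ deg (θ : C → ℂ) = 1 := by
    intro θ hθ
    have h1 := Finset.single_le_sum (f := fun θ : IrrCharacter C => m θ * deg (θ : C → ℂ))
      (fun _ _ => Nat.zero_le _) (Finset.mem_filter.mpr ⟨Finset.mem_univ θ, rfl⟩ :
        θ ∈ Finset.univ.filter fun θ' => lam θ' = lam θ)
    have h2 := h1.trans (hle (lam θ))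
    have h3 : 0 < m θ * deg (θ : C → ℂ) := Nat.mul_pos (Nat.pos_of_ne_zero hθ) (deg_pos θ.2)
    exact mul_eq_one.mp (by omega)
  have hinj : ∀ θ θ', m θ ≠ 0 → m θ' ≠ 0 → lam θ = lam θ' → θ = θ' := by
    intro θ θ' hθ hθ' he
    by_contra hne
    have h1 : ({θ, θ'} : Finset (IrrCharacter C)) ⊆
        Finset.univ.filter fun a => lam a = lam θ := by
      intro a ha
      rcases Finset.mem_insert.mp ha with rfl | ha
      · simp
      · rw [Finset.mem_singleton.mp ha]; simp [he]
    have h2 := (Finset.sum_le_sum_of_subset h1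
      (f := fun a : IrrCharacter C => m a * deg (a : C → ℂ))).trans (hle (lam θ))
    rw [Finset.sum_pair hne, (hterm θ hθ).1, (hterm θ hθ).2, (hterm θ' hθ').1, (hterm θ' hθ').2]
      at h2
    omega
  have hCab : ∀ a b : C, a * b = b * a := by
    intro a b
    have h1 : (χ : G → ℂ) ((a * b * a⁻¹ * b⁻¹ : C) : G) = (χ : G → ℂ) 1 := by
      have e1 := congrFun hm (a * b * a⁻¹ * b⁻¹)
      have e2 := congrFun hm 1
      simp only [Subgroup.coe_one] at e2
      rw [e1, e2, Finset.sum_apply, Finset.sum_apply]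
      refine Finset.sum_congr rfl fun θ _ => ?_
      rcases eq_or_ne (m θ) 0 with h0 | h0
      · simp [h0]
      · obtain ⟨l, hl⟩ := exists_hom_of_degree_one (irr_isCharacter θ.2)
          (by rw [char_one_eq_deg (irr_isCharacter θ.2), (hterm θ h0).2, Nat.cast_one])
        simp only [Pi.smul_apply, hl, map_mul, map_inv, map_one, Units.val_mul, Units.val_one]
        congr 1
        rw [← Units.val_mul, ← Units.val_mul, ← Units.val_mul, mul_right_comm (l a), mul_inv_cancel,
          one_mul, mul_inv_cancel, Units.val_one]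
    have h2 : a * b * a⁻¹ * b⁻¹ = 1 := Subtype.ext (h.faith _ h1)
    exact mul_inv_eq_iff_eq_mul.mp (mul_inv_eq_one.mp h2)
  have hreg : ∀ c ∈ C, ¬ p ∣ orderOf c → c ∈ Subgroup.center G := by
    intro c hc hpc
    refine mem_center_of_norm χ h.faith ?_
    set c' : C := ⟨c, hc⟩
    set d := deg (χ : G → ℂ) with hd
    have hth : ∀ θ : IrrCharacter C, m θ ≠ 0 → ∀ x : P,
        (θ : C → ℂ) (c' * ι x) = (θ : C → ℂ) c' * (lam θ : P → ℂ) x := by
      intro θ hθ x
      have h1 : (θ : C → ℂ) 1 = 1 := by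
        rw [char_one_eq_deg (irr_isCharacter θ.2), (hterm θ hθ).2, Nat.cast_one]
      obtain ⟨l, hl⟩ := exists_hom_of_degree_one (irr_isCharacter θ.2) h1
      have h2 := hlam θ x
      rw [h1, one_mul] at h2
      rw [← h2]
      simp only [hl, map_mul, Units.val_mul]
    have hv : ∀ x : P, (χ : G → ℂ) (c * x) =
        ∑ θ : IrrCharacter C, ((m θ : ℂ) * (θ : C → ℂ) c') * (lam θ : P → ℂ) x := by
      intro x
      have := congrFun hm (c' * ι x)
      simp only [Finset.sum_apply, Pi.smul_apply, nsmul_eq_mul, Pi.mul_apply,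
        Pi.natCast_apply] at this
      rw [show c * (x : G) = ((c' * ι x : C) : G) from rfl, this]
      refine Finset.sum_congr rfl fun θ _ => ?_
      rcases eq_or_ne (m θ) 0 with h0 | h0
      · simp [h0]
      · rw [hth θ h0 x, mul_assoc]
    have hterm' : ∀ θ, ((m θ : ℂ) * (θ : C → ℂ) c') * conj ((m θ : ℂ) * (θ : C → ℂ) c') = m θ := by
      intro θ
      rcases eq_or_ne (m θ) 0 with h0 | h0
      · simp [h0]
      · obtain ⟨l, hl⟩ := exists_hom_of_degree_one (irr_isCharacter θ.2)
          (by rw [char_one_eq_deg (irr_isCharacter θ.2), (hterm θ h0).2, Nat.cast_one])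
        rw [(hterm θ h0).1, Nat.cast_one, one_mul, Complex.mul_conj, Complex.normSq_eq_norm_sq, hl,
          Complex.norm_eq_one_of_pow_eq_one (linear_pow_card l c') (orderOf_pos c').ne']
        simp
    have hinner : classInner (fun x : P => (χ : G → ℂ) (c * x)) (fun x : P => (χ : G → ℂ) (c * x)) =
        (d : ℂ) := by
      have e : (fun x : P => (χ : G → ℂ) (c * x)) =
          ∑ θ : IrrCharacter C, ((m θ : ℂ) * (θ : C → ℂ) c') • (lam θ : P → ℂ) := by
        funext x
        rw [hv, Finset.sum_apply]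
        rfl
      rw [e, classInner_sum_left]
      simp only [classInner_smul_left, classInner_sum_right, classInner_smul_right, irrC_orth,
        Finset.mul_sum]
      rw [Finset.sum_congr rfl (g := fun θ => (m θ : ℂ)) fun θ _ => ?_]
      · have := congrFun hm 1
        simp only [Finset.sum_apply, Pi.smul_apply, nsmul_eq_mul, Subgroup.coe_one,
          char_one_eq_deg (irr_isCharacter χ.2)] at this
        rw [← hd] at this
        rw [this]
        refine Finset.sum_congr rfl fun θ _ => ?_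
        rcases eq_or_ne (m θ) 0 with h0 | h0
        · simp [h0]
        · rw [Pi.mul_apply, Pi.natCast_apply, char_one_eq_deg (irr_isCharacter θ.2), (hterm θ h0).2,
            Nat.cast_one, mul_one]
      · rw [Finset.sum_eq_single θ (fun θ' _ hne => ?_) (fun hh => absurd (Finset.mem_univ _) hh),
          if_pos rfl, mul_one, mul_comm, hterm']
        rcases eq_or_ne (m θ) 0 with h0 | h0
        · simp [h0]
        rcases eq_or_ne (m θ') 0 with h0' | h0'
        · simp [h0']
        rw [if_neg (fun e => hne (hinj θ θ' h0 h0' e).symm)]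
        ring
    have hval : ∀ x : P, (χ : G → ℂ) (c * x) * conj ((χ : G → ℂ) (c * x)) =
        1 + if x = 1 then ((χ : G → ℂ) c * conj ((χ : G → ℂ) c) - 1) else 0 := by
      intro x
      split_ifs with hx
      · subst hx
        rw [Subgroup.coe_one, mul_one]
        ring
      · rw [Complex.mul_conj, Complex.normSq_eq_norm_sq, h.norm _ ?_]
        · simp
        · obtain ⟨k, hk⟩ := IsPGroup.iff_orderOf.mp h.pgroup x
          have hcx : Commute c (x : G) := (Subgroup.mem_centralizer_iff.mp hc x x.2).symm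
          rw [hcx.orderOf_mul_eq_mul_orderOf_of_coprime (by
            rw [Subgroup.orderOf_coe, hk]
            exact Nat.Coprime.pow_right _ (Nat.coprime_comm.mp (h.prime.coprime_iff_not_dvd.mpr hpc))),
            Subgroup.orderOf_coe, hk]
          refine dvd_mul_of_dvd_right (dvd_pow_self p fun h0 => hx ?_) _
          rw [h0, pow_zero, orderOf_eq_one_iff] at hk
          exact hk
    rw [classInner, Finset.sum_congr rfl fun x _ => hval x, Finset.sum_add_distrib,
      Finset.sum_const, Finset.card_univ, Finset.sum_ite_eq', if_pos (Finset.mem_univ _),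
      nsmul_eq_mul, mul_one, ← Nat.card_eq_fintype_card,
      inv_mul_eq_iff_eq_mul₀ (Nat.cast_ne_zero.mpr Nat.card_pos.ne'), ← hdq] at hinner
    push_cast at hinner
    have h2 : (χ : G → ℂ) c * conj ((χ : G → ℂ) c) = (d : ℂ) ^ 2 := by linear_combination hinner
    rw [Complex.mul_conj, Complex.normSq_eq_norm_sq] at h2
    have h3 : ‖(χ : G → ℂ) c‖ ^ 2 = (d : ℝ) ^ 2 := by exact_mod_cast h2
    exact (pow_left_inj₀ (norm_nonneg _) (Nat.cast_nonneg _) two_ne_zero).mp h3
  refine le_antisymm (fun c hc => ?_) (sup_le hPC (Subgroup.center_le_centralizer _))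
  let S : Sylow p C := Classical.arbitrary _
  haveI : IsMulCommutative C := ⟨⟨hCab⟩⟩
  have hSP : (S : Subgroup C).map C.subtype ≤ P := by
    haveI : (S : Subgroup C).Normal := ⟨fun x hx g => by
      rw [hCab g x, mul_inv_cancel_right]; exact hx⟩
    haveI : (S : Subgroup C).Characteristic := S.characteristic_of_normal inferInstance
    exact h.maximal _ ConjAct.normal_of_characteristic_of_normal (S.isPGroup'.map _)
  obtain ⟨k, hk⟩ := Nat.ordProj_dvd (orderOf c) p
  have ho := orderOf_pos c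
  set a := (orderOf c).factorization p with ha
  have hkp : ¬ p ∣ k := fun hd => Nat.pow_succ_factorization_not_dvd ho.ne' h.prime (by
    rw [← ha]
    conv_rhs => rw [hk]
    rw [pow_succ]; exact mul_dvd_mul_left _ hd)
  have hbez : (p ^ a).Coprime k := Nat.Coprime.pow_left _ (h.prime.coprime_iff_not_dvd.mpr hkp)
  obtain ⟨x, y, hxy⟩ : ∃ x y : ℤ, x * (p ^ a : ℕ) + y * k = 1 :=
    Int.isCoprime_iff_nat_coprime.mpr (by simpa using hbez)
  have hc' : c = c ^ (x * (p ^ a : ℕ)) * c ^ (y * k) := by rw [← zpow_add, hxy, zpow_one]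
  rw [hc', sup_comm]
  refine mul_mem (Subgroup.mem_sup_left ?_) (Subgroup.mem_sup_right ?_)
  · rw [mul_comm, zpow_mul, zpow_natCast]
    refine zpow_mem (hreg _ (pow_mem hc _) fun hd => hkp (hd.trans ?_)) _
    exact orderOf_dvd_of_pow_eq_one (by rw [← pow_mul, ← hk, pow_orderOf_eq_one])
  · rw [mul_comm, zpow_mul, zpow_natCast]
    refine zpow_mem ?_ _
    have hpe : ∃ i, orderOf (c ^ k) = p ^ i := by
      have h1 : orderOf (c ^ k) ∣ p ^ a :=
        orderOf_dvd_of_pow_eq_one (by rw [← pow_mul, mul_comm, ← hk, pow_orderOf_eq_one])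
      obtain ⟨i, -, hi⟩ := (Nat.dvd_prime_pow h.prime).mp h1
      exact ⟨i, hi⟩
    obtain ⟨i, hi⟩ := hpe
    have hz : IsPGroup p (Subgroup.zpowers (⟨c ^ k, pow_mem hc _⟩ : C)) :=
      IsPGroup.of_card (n := i) (by rw [Nat.card_zpowers, Subgroup.orderOf_mk, hi])
    obtain ⟨S', hS'⟩ := hz.exists_le_sylow
    haveI : (S : Subgroup C).Normal := ⟨fun x hx g => by
      rw [hCab g x, mul_inv_cancel_right]; exact hx⟩
    obtain ⟨g, rfl⟩ := MulAction.exists_smul_eq C S S'
    rw [Sylow.smul_eq_of_normal] at hS'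
    exact hSP ⟨_, hS' (Subgroup.mem_zpowers _), rfl⟩

/-- The Sylow subgroup is `P`, or `p = 2` and it is twice as large. -/
theorem sylow_bound [P.Normal] (h : Ctx p χ P) {S : Subgroup G} (hS : IsPGroup p S) (hPS : P ≤ S) :
    Nat.card S = Nat.card P ∨ (p = 2 ∧ Nat.card S = 2 * Nat.card P) := by
  haveI := Fact.mk h.prime
  haveI := Fintype.ofFinite P
  have hdq := h.main.1
  have h4 := h.four_le
  have hd := h.card_dvd S hS
  obtain ⟨n, hn⟩ := IsPGroup.iff_card.mp h.pgroup
  obtain ⟨a, ha⟩ := IsPGroup.iff_card.mp hS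
  have hn1 : 1 ≤ n := by
    rcases Nat.eq_zero_or_pos n with h0 | h0
    · rw [hn, h0, pow_zero] at h4; omega
    · exact h0
  have hle : n ≤ a := (Nat.pow_le_pow_iff_right h.prime.one_lt).mp
    (hn ▸ ha ▸ Subgroup.card_le_of_le hPS)
  set d := deg (χ : G → ℂ)
  have hfac : d ^ 2 - 1 = Nat.card P * (d - 1) := by
    rw [← hdq]
    have : 1 ≤ d := deg_pos χ.2
    zify [this, Nat.one_le_pow 2 d this]
    ring
  rw [hfac, hn, ha, ← Nat.add_sub_cancel' hle, pow_add,
    Nat.mul_dvd_mul_iff_left (pow_pos h.prime.pos n)] at hd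
  by_cases hp2 : p = 2
  · subst hp2
    have hq4 : 4 ∣ Nat.card P := by
      rw [hn]
      refine pow_dvd_pow 2 (show 2 ≤ n from ?_)
      by_contra h2
      rw [hn, show n = 1 by omega] at h4
      omega
    have hodd : ¬ 4 ∣ d - 1 := by omega
    have hle1 : a - n ≤ 1 := by
      by_contra h2
      exact hodd ((pow_dvd_pow 2 (show 2 ≤ a - n by omega)).trans hd)
    rcases Nat.le_one_iff_eq_zero_or_eq_one.mp hle1 with h0 | h0
    · exact Or.inl (by rw [hn, ha, show a = n by omega])
    · exact Or.inr ⟨rfl, by rw [hn, ha, show a = n + 1 by omega, pow_succ, mul_comm]⟩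
  · refine Or.inl ?_
    rcases Nat.eq_zero_or_pos (a - n) with h0 | h0
    · rw [hn, ha, show a = n by omega]
    · exfalso
      have hpd : p ∣ d - 1 := (dvd_pow_self p h0.ne').trans hd
      have hpq : p ∣ d + 1 := by rw [hdq, hn]; exact dvd_pow_self p (by omega)
      have : p ∣ 2 := by
        have h2 := Nat.dvd_sub hpq hpd
        rwa [show d + 1 - (d - 1) = 2 from by have := deg_pos χ.2; omega] at h2
      exact hp2 ((Nat.prime_dvd_prime_iff_eq h.prime Nat.prime_two).mp this)

/-- If the Sylow 2-subgroup is larger, then `P` is a four group. -/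
theorem card_eq_four [P.Normal] {χ : IrrCharacter G} (h : Ctx 2 χ P) {S : Subgroup G}
    (hS : IsPGroup 2 S) (hPS : P ≤ S) (hcard : Nat.card S = 2 * Nat.card P) : Nat.card P = 4 := by
  classical
  haveI := Fact.mk Nat.prime_two
  haveI := Fintype.ofFinite P
  haveI := Fintype.ofFinite S
  obtain ⟨hdq, hcoef, -⟩ := h.main
  set q := Nat.card P with hq
  set P' := P.subgroupOf S with hP'
  have hidx : P'.index = 2 := by
    have := Subgroup.card_mul_index P'
    rw [Nat.card_congr (Subgroup.subgroupOfEquivOfLe hPS).toEquiv, hcard, ← hq, mul_comm 2 q] at this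
    exact Nat.eq_of_mul_eq_mul_left Nat.card_pos this
  obtain ⟨t, ht⟩ : ∃ t : S, t ∉ P' := by
    by_contra! hall
    rw [(Subgroup.eq_top_iff' P').mpr hall, Subgroup.index_top] at hidx
    omega
  let ι : P →* S := Subgroup.inclusion hPS
  have hout : ∀ u : P, t * ι u ∉ P' := fun u hm => ht (by
    have := P'.mul_mem hm (P'.inv_mem (show ι u ∈ P' from u.2))
    rwa [mul_inv_cancel_right] at this)
  -- summing over the two cosets
  have hsplit : ∀ f : S → ℂ, ∑ s : S, f s = ∑ u : P, f (ι u) + ∑ u : P, f (t * ι u) := by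
    intro f
    rw [← Finset.sum_filter_add_sum_filter_not Finset.univ (· ∈ P')]
    congr 1
    · exact Finset.sum_bij' (fun s hs => (⟨(s : G), (Finset.mem_filter.mp hs).2⟩ : P))
        (fun u _ => ι u) (fun s hs => Finset.mem_univ _)
        (fun u _ => Finset.mem_filter.mpr ⟨Finset.mem_univ _, u.2⟩) (fun s hs => rfl)
        (fun u _ => rfl) (fun s hs => rfl)
    · refine Finset.sum_bij' (fun s hs => (⟨((t⁻¹ * s : S) : G), ?_⟩ : P))
        (fun u _ => t * ι u) (fun s hs => Finset.mem_univ _)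
        (fun u _ => Finset.mem_filter.mpr ⟨Finset.mem_univ _, hout u⟩)
        (fun s hs => by apply Subtype.ext; simp [ι, mul_inv_cancel_left])
        (fun u _ => by apply Subtype.ext; simp [ι])
        (fun s hs => by congr 1; apply Subtype.ext; simp [ι, mul_inv_cancel_left])
      exact (Subgroup.mul_mem_iff_of_index_two hidx).mpr (iff_of_false
        (fun hm => ht (by simpa using P'.inv_mem hm)) (Finset.mem_filter.mp hs).2)
  have hkey : ∀ (l : S →* ℂˣ), (∃ u : P, l (ι u) ≠ 1) →
      ∀ u : P, (χ : G → ℂ) ((t * ι u : S) : G) * conj (l (t * ι u) : ℂ) =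
        (χ : G → ℂ) (t : G) * conj (l t : ℂ) := by
    intro l hl
    obtain ⟨n, hn⟩ := classInner_natCast (G := S)
      (isCharacter_comp S.subtype (irr_isCharacter χ.2)) (isCharacter_linear l)
    have hn' : ∑ s : S, (χ : G → ℂ) s * conj (l s : ℂ) = (n : ℂ) * (2 * q : ℕ) := by
      have hn2 : classInner (fun s : S => (χ : G → ℂ) s) (fun s : S => (l s : ℂ)) = (n : ℂ) := hn
      rw [classInner, hcard, inv_mul_eq_iff_eq_mul₀ (Nat.cast_ne_zero.mpr (by
        have : 0 < q := Nat.card_pos
        omega))] at hn2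
      rw [hn2, mul_comm]
    have hP1 : ∑ u : P, (χ : G → ℂ) ((ι u : S) : G) * conj (l (ι u) : ℂ) = (q : ℂ) := by
      have h1 := hcoef ⟨fun u : P => ((l.comp ι) u : ℂ), isIrrCharacter_linear _⟩
      rw [if_neg (fun e => by
        obtain ⟨u, hu⟩ := hl
        exact hu (Units.ext (congrFun e u)))] at h1
      rw [classInner, inv_mul_eq_iff_eq_mul₀ (Nat.cast_ne_zero.mpr Nat.card_pos.ne'), mul_one] at h1
      exact h1
    rw [hsplit, hP1] at hn'
    set μ : P → ℂ := fun u => (χ : G → ℂ) ((t * ι u : S) : G) * conj (l (t * ι u) : ℂ) with hμ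
    have hnorm : ∀ u, ‖μ u‖ = 1 := by
      intro u
      simp only [hμ, norm_mul, Complex.norm_conj]
      rw [Complex.norm_eq_one_of_pow_eq_one (linear_pow_card l _) (orderOf_pos _).ne', mul_one]
      refine h.norm_pelem (fun h0 => hout u ?_) ?_
      · rw [show t * ι u = 1 from Subtype.ext h0]
        exact one_mem _
      · obtain ⟨k, hk⟩ := IsPGroup.iff_orderOf.mp hS (t * ι u)
        exact ⟨k, by rw [Subgroup.orderOf_coe, hk]⟩
    have hsum : ‖∑ u, μ u‖ = Fintype.card P := by
      have h1 : ∑ u, μ u = (((2 * n : ℤ) - 1) * q : ℤ) := by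
        push_cast at hn' ⊢
        linear_combination hn'
      have h2 : ‖∑ u, μ u‖ ≤ (q : ℝ) := by
        refine (norm_sum_le _ _).trans ?_
        simp [hnorm, hq, Nat.card_eq_fintype_card]
      rw [h1, Complex.norm_intCast] at h2 ⊢
      rw [← Nat.card_eq_fintype_card, ← hq]
      have h3 : |(2 * n : ℤ) - 1| * q ≤ q := by
        rw [Int.cast_mul, abs_mul] at h2
        simp only [Int.cast_natCast, Nat.abs_cast] at h2
        exact_mod_cast h2
      have h4 : |(2 * n : ℤ) - 1| = 1 := by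
        refine le_antisymm (le_of_mul_le_mul_right (a := (q : ℤ)) (by simpa using h3)
          (by exact_mod_cast Nat.card_pos)) (Int.one_le_abs (by omega))
      rw [Int.cast_mul, abs_mul, ← Int.cast_abs, h4]
      simp
    intro u
    have h5 := eq_of_norm_sum_eq μ hnorm hsum u 1
    simp only [hμ, map_one, mul_one] at h5
    exact h5
  have hsame : ∀ (l₁ l₂ : S →* ℂˣ), (∃ u : P, l₁ (ι u) ≠ 1) → (∃ u : P, l₂ (ι u) ≠ 1) →
      ∀ u : P, l₁ (ι u) = l₂ (ι u) := by
    intro l₁ l₂ h1 h2 u
    have e1 := hkey l₁ h1 u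
    have e2 := hkey l₂ h2 u
    simp only [map_mul, Units.val_mul, map_mul (starRingEnd ℂ)] at e1 e2
    have hne : ∀ l : S →* ℂˣ, conj (l t : ℂ) ≠ 0 := fun l => (map_ne_zero _).mpr (l t).ne_zero
    have hχ : (χ : G → ℂ) ((t * ι u : S) : G) ≠ 0 := fun h0 => by
      have h3 := h.norm_pelem (u := ((t * ι u : S) : G)) (fun h4 => hout u (by
        rw [show t * ι u = 1 from Subtype.ext h4]; exact one_mem _)) (by
        obtain ⟨k, hk⟩ := IsPGroup.iff_orderOf.mp hS (t * ι u)
        exact ⟨k, by rw [Subgroup.orderOf_coe, hk]⟩)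
      rw [h0, norm_zero] at h3
      exact zero_ne_one h3
    have f1 : (χ : G → ℂ) ((t * ι u : S) : G) * conj (l₁ (ι u) : ℂ) = (χ : G → ℂ) (t : G) :=
      mul_right_cancel₀ (hne l₁) (by rw [← e1]; push_cast; ring)
    have f2 : (χ : G → ℂ) ((t * ι u : S) : G) * conj (l₂ (ι u) : ℂ) = (χ : G → ℂ) (t : G) :=
      mul_right_cancel₀ (hne l₂) (by rw [← e2]; push_cast; ring)
    exact Units.ext ((starRingEnd ℂ).injective (mul_left_cancel₀ hχ (f1.trans f2.symm)))
  -- commutation with `t`
  have hconj : ∀ u : P, (t : G) * u * (t : G)⁻¹ * (u : G)⁻¹ ∈ P := fun u =>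
    P.mul_mem ((inferInstance : P.Normal).conj_mem _ u.2 _) (P.inv_mem u.2)
  let δ : P →* P :=
    { toFun := fun u => ⟨_, hconj u⟩
      map_one' := Subtype.ext (by simp)
      map_mul' := fun u v => Subtype.ext (by
        have h1 : ((t : G) * v * (t : G)⁻¹) * (u : G)⁻¹ = (u : G)⁻¹ * ((t : G) * v * (t : G)⁻¹) :=
          congrArg Subtype.val (h.abelian ⟨_, (inferInstance : P.Normal).conj_mem _ v.2 _⟩ u⁻¹)
        have h2 : (v : G)⁻¹ * (u : G)⁻¹ = (u : G)⁻¹ * (v : G)⁻¹ :=
          congrArg Subtype.val (h.abelian v⁻¹ u⁻¹)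
        simp only [Subgroup.coe_mul]
        calc (t : G) * ((u : G) * v) * (t : G)⁻¹ * ((u : G) * v)⁻¹
            = ((t : G) * u * (t : G)⁻¹) * ((t : G) * v * (t : G)⁻¹) * ((v : G)⁻¹ * (u : G)⁻¹) := by
              group
          _ = ((t : G) * u * (t : G)⁻¹) * (((t : G) * v * (t : G)⁻¹) * (u : G)⁻¹) * (v : G)⁻¹ := by
              rw [h2]; group
          _ = _ := by rw [h1]; group) }
  have hinv : ∀ x : P, x⁻¹ = x := fun x => by
    rw [inv_eq_iff_mul_eq_one, ← pow_two]
    exact h.elementary x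
  have hrk : δ.range ≤ δ.ker := by
    rintro _ ⟨u, rfl⟩
    rw [MonoidHom.mem_ker]
    refine Subtype.ext ?_
    show (t : G) * ((t : G) * u * (t : G)⁻¹ * (u : G)⁻¹) * (t : G)⁻¹ *
      ((t : G) * u * (t : G)⁻¹ * (u : G)⁻¹)⁻¹ = 1
    have ht2 : (t * t : S) ∈ P' := Subgroup.mul_self_mem_of_index_two hidx t
    have h1 : (t : G) * t * u = u * ((t : G) * t) :=
      congrArg Subtype.val (h.abelian ⟨(t : G) * t, ht2⟩ u)
    have h2 : ((t : G) * (u : G)⁻¹ * (t : G)⁻¹) = (t : G) * u * (t : G)⁻¹ := by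
      rw [show (u : G)⁻¹ = u from congrArg Subtype.val (hinv u)]
    calc (t : G) * ((t : G) * u * (t : G)⁻¹ * (u : G)⁻¹) * (t : G)⁻¹ *
          ((t : G) * u * (t : G)⁻¹ * (u : G)⁻¹)⁻¹
        = ((t : G) * t * u) * ((t : G) * t)⁻¹ * ((t : G) * (u : G)⁻¹ * (t : G)⁻¹) * u *
            ((t : G) * (u : G)⁻¹ * (t : G)⁻¹) := by group
      _ = (u : G) * ((t : G) * u * (t : G)⁻¹) * u * ((t : G) * (u : G)⁻¹ * (t : G)⁻¹) := by
            rw [h1, h2]; group
      _ = (u : G) * u * (((t : G) * u * (t : G)⁻¹) * ((t : G) * (u : G)⁻¹ * (t : G)⁻¹)) := by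
            have h3 : (t : G) * u * (t : G)⁻¹ * u = u * ((t : G) * u * (t : G)⁻¹) :=
              congrArg Subtype.val (h.abelian ⟨_, (inferInstance : P.Normal).conj_mem _ u.2 _⟩ u)
            rw [mul_assoc (u : G) ((t : G) * u * (t : G)⁻¹) u, h3]
            group
      _ = 1 := by
            rw [show (u : G) * u = 1 from by
              rw [← pow_two]; exact congrArg Subtype.val (h.elementary u)]
            group
  have hsq : Nat.card δ.range * Nat.card δ.range ≤ q := by
    calc Nat.card δ.range * Nat.card δ.range ≤ Nat.card δ.range * Nat.card δ.ker :=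
          Nat.mul_le_mul_left _ (Subgroup.card_le_of_le hrk)
      _ = q := by
          rw [hq, ← Subgroup.index_mul_card δ.ker, Subgroup.index_ker]
  -- the derived subgroup of `S` lies in the range
  set D := δ.range.map ι with hD
  have hDcen : ∀ d ∈ D, ∀ s : S, d * s = s * d := by
    rintro _ ⟨x, hx, rfl⟩ s
    have hxt : Commute (ι x) t := by
      have hk := hrk hx
      rw [MonoidHom.mem_ker] at hk
      have h1 : (t : G) * x * (t : G)⁻¹ * (x : G)⁻¹ = 1 := congrArg Subtype.val hk
      exact (Subtype.ext (mul_inv_eq_iff_eq_mul.mp (mul_inv_eq_one.mp h1)) : t * ι x = ι x * t).symm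
    by_cases hs : s ∈ P'
    · have h1 : (x : G) * (s : G) = (s : G) * x :=
        congrArg (fun y : P => (y : G)) (h.abelian x ⟨(s : G), hs⟩)
      exact Subtype.ext h1
    · have hm : t * s ∈ P' := (Subgroup.mul_mem_iff_of_index_two hidx).mpr (iff_of_false ht hs)
      have h1 : (x : G) * ((t * s : S) : G) = ((t * s : S) : G) * x :=
        congrArg (fun y : P => (y : G)) (h.abelian x ⟨((t * s : S) : G), hm⟩)
      have hc : Commute (ι x) (t * s) := Subtype.ext h1
      have := (hxt.inv_right).mul_right hc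
      rw [inv_mul_cancel_left] at this
      exact this.eq
  haveI : D.Normal := ⟨fun d hd s => by rwa [← hDcen d hd s, mul_inv_cancel_right]⟩
  have hdecomp : ∀ s : S, ∃ (j : ℕ) (u : P), s = t ^ j * ι u := by
    intro s
    by_cases hs : s ∈ P'
    · exact ⟨0, ⟨(s : G), hs⟩, by rw [pow_zero, one_mul]; rfl⟩
    · have hm : t⁻¹ * s ∈ P' := (Subgroup.mul_mem_iff_of_index_two hidx).mpr
        (iff_of_false (fun hm => ht (by simpa using P'.inv_mem hm)) hs)
      refine ⟨1, ⟨((t⁻¹ * s : S) : G), hm⟩, ?_⟩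
      rw [pow_one, show ι ⟨((t⁻¹ * s : S) : G), hm⟩ = t⁻¹ * s from rfl, mul_inv_cancel_left]
  have hcomm : commutator S ≤ D := by
    rw [commutator_def, Subgroup.commutator_le]
    intro a _ b _
    have hgen : ∀ u : P, Commute (QuotientGroup.mk' D t) (QuotientGroup.mk' D (ι u)) := by
      intro u
      have h1 : QuotientGroup.mk' D (t * ι u * t⁻¹ * (ι u)⁻¹) = 1 :=
        (QuotientGroup.eq_one_iff _).mpr ⟨δ u, ⟨u, rfl⟩, Subtype.ext rfl⟩
      simp only [map_mul, map_inv] at h1
      exact mul_inv_eq_iff_eq_mul.mp (mul_inv_eq_one.mp h1)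
    rw [← QuotientGroup.eq_one_iff, ← QuotientGroup.mk'_apply, map_commutatorElement,
      commutatorElement_eq_one_iff_mul_comm]
    obtain ⟨i, u, rfl⟩ := hdecomp a
    obtain ⟨j, v, rfl⟩ := hdecomp b
    simp only [map_mul, map_pow]
    have huv : Commute (QuotientGroup.mk' D (ι u)) (QuotientGroup.mk' D (ι v)) :=
      ((show Commute u v from h.abelian u v).map ι).map _
    exact ((((Commute.refl (QuotientGroup.mk' D t)).pow_pow i j).mul_right
      ((hgen v).pow_left i)).mul_left (((hgen u).pow_left j).symm.mul_right huv)).eq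
  -- at most one nontrivial restriction
  have hhalf : q ≤ 2 * Nat.card δ.range := by
    by_cases hex : ∃ l : S →* ℂˣ, ∃ u : P, l (ι u) ≠ 1
    · obtain ⟨l0, hl0⟩ := hex
      let r : P →* ℂˣ := l0.comp ι
      have hker : r.ker.map ι ≤ D := by
        rintro _ ⟨u, hu, rfl⟩
        refine hcomm (mem_commutator_of_forall_linear fun l => ?_)
        by_cases hl : ∃ v : P, l (ι v) ≠ 1
        · rw [hsame l l0 hl hl0 u]
          exact hu
        · push Not at hl
          exact hl u
      have hrange : Nat.card r.range ≤ 2 := by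
        have hval : ∀ y : r.range, (y : ℂˣ) = 1 ∨ (y : ℂˣ) = -1 := by
          rintro ⟨_, u, rfl⟩
          have h1 : r u ^ 2 = 1 := by rw [← map_pow, h.elementary, map_one]
          have h2 : (r u : ℂ) ^ 2 = 1 := by rw [← Units.val_pow_eq_pow_val, h1, Units.val_one]
          rcases sq_eq_one_iff.mp h2 with h3 | h3
          · exact Or.inl (Units.ext h3)
          · exact Or.inr (Units.ext (by simpa using h3))
        calc Nat.card r.range ≤ Nat.card Bool :=
              Nat.card_le_card_of_injective (fun y : r.range => decide ((y : ℂˣ) = 1))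
                fun a b hab => by
                  simp only [decide_eq_decide] at hab
                  rcases hval a with ha | ha <;> rcases hval b with hb | hb <;>
                    apply Subtype.ext <;> simp_all
          _ = 2 := by simp
      calc q = r.ker.index * Nat.card r.ker := (Subgroup.index_mul_card _).symm
        _ ≤ 2 * Nat.card δ.range := by
            refine Nat.mul_le_mul (Subgroup.index_ker r ▸ hrange) ?_
            rw [← Subgroup.card_map_of_injective (f := ι) (Subgroup.inclusion_injective hPS),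
              ← Subgroup.card_map_of_injective (f := ι) (K := δ.range)
                (Subgroup.inclusion_injective hPS)]
            exact Subgroup.card_le_of_le hker
    · push Not at hex
      have hall : (⊤ : Subgroup P).map ι ≤ D := by
        rintro _ ⟨u, -, rfl⟩
        exact hcomm (mem_commutator_of_forall_linear fun l => hex l u)
      have := Subgroup.card_le_of_le hall
      rw [Subgroup.card_map_of_injective (Subgroup.inclusion_injective hPS),
        Subgroup.card_top, hD,
        Subgroup.card_map_of_injective (Subgroup.inclusion_injective hPS)] at this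
      omega
  obtain ⟨n, hn⟩ := IsPGroup.iff_card.mp h.pgroup
  have h3 := h.four_le
  have : n ≤ 2 := by
    by_contra hn3
    have h8 : 8 ≤ q := by
      rw [hq, hn]
      exact le_trans (by norm_num) (Nat.pow_le_pow_right (by norm_num) (show 3 ≤ n by omega))
    nlinarith
  interval_cases n <;> omega

end Cfsg.Agent.Char.RootValues
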