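import Cfsg.Agent.Lib.Char.Gallagher
import Cfsg.Agent.Lib.Char.RootUnityValues
import Cfsg.Agent.Lib.Char.Linear
import Mathlib

/-!
# Degrees over an abelian subgroup meeting each centralizer in at most one conjugate
-/

set_option autoImplicit false
set_option linter.unusedSectionVars false
set_option linter.style.haveILetI false

open scoped ComplexConjugate

namespace Cfsg.Agent.Char.AbTI

open Cfsg Cfsg.Agent Cfsg.Agent.Char

universe u

variable {G : Type u} [Group G] [Fintype G]

theorem classInner_self_decomp {f : G → ℂ} (m : IrrCharacter G → ℕ)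
    (h : f = ∑ ψ, m ψ • (ψ : G → ℂ)) :
    classInner f f = ((∑ ψ, m ψ * m ψ : ℕ) : ℂ) := by
  classical
  nth_rewrite 1 [h]
  rw [classInner_sum_left, Nat.cast_sum]
  refine Finset.sum_congr rfl fun ψ _ => ?_
  rw [← Nat.cast_smul_eq_nsmul ℂ, classInner_smul_left, ← classInner_symm,
    decomposition_coeff m h ψ, map_natCast, Nat.cast_mul]

theorem sum_normSq_eq (f : G → ℂ) :
    ∑ g : G, Complex.normSq (f g) = (Nat.card G : ℝ) * (classInner f f).re := by
  have h : ((∑ g : G, Complex.normSq (f g) : ℝ) : ℂ) = (Nat.card G : ℂ) * classInner f f := by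
    rw [classInner, ← mul_assoc, mul_inv_cancel₀ (Nat.cast_ne_zero.mpr Nat.card_pos.ne'), one_mul,
      Complex.ofReal_sum]
    exact Finset.sum_congr rfl fun g _ => (Complex.mul_conj (f g)).symm
  have h' := congrArg Complex.re h
  simpa using h'

/-- Central elements act on a character by a scalar of norm one. -/
theorem center_mul (χ : IrrCharacter G) {z : G} (hz : z ∈ Subgroup.center G) :
    ∃ c : ℂ, Complex.normSq c = 1 ∧ ∀ g : G, (χ : G → ℂ) (g * z) = c * (χ : G → ℂ) g := by
  obtain ⟨n, ρ, hρ, e⟩ := id χ.2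
  haveI := hρ
  obtain ⟨c, hc⟩ := schur_scalar ρ (ρ z) (fun k => by
    change ρ z * ρ k = ρ k * ρ z
    rw [← map_mul, ← map_mul, Subgroup.mem_center_iff.mp hz k])
  have hmul : ∀ g : G, (χ : G → ℂ) (g * z) = c * (χ : G → ℂ) g := by
    intro g
    rw [← e]
    show LinearMap.trace ℂ _ (ρ (g * z)) = c * LinearMap.trace ℂ _ (ρ g)
    rw [map_mul, hc, mul_smul_comm, ← smul_eq_mul c, ← map_smul]
    congr 2
  refine ⟨c, ?_, hmul⟩
  have h1 := RootValues.norm_of_center χ hz
  have h2 := hmul 1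
  rw [one_mul, char_one_eq_deg (irr_isCharacter χ.2)] at h2
  rw [h2, norm_mul, Complex.norm_natCast] at h1
  have hd : (deg (χ : G → ℂ) : ℝ) ≠ 0 := by
    intro h0
    refine irr_one_ne_zero χ.2 ?_
    rw [char_one_eq_deg (irr_isCharacter χ.2)]
    exact_mod_cast h0
  rw [← Complex.sq_norm, mul_left_eq_self₀.mp h1 |>.resolve_right hd, one_pow]

variable (H : Subgroup G) [Fintype H]

theorem sq_deg_gt (hab : ∀ a ∈ H, ∀ b ∈ H, a * b = b * a) (hZ : H ⊓ Subgroup.center G = ⊥)
    (hone : ∀ g : G, g ∉ Subgroup.center G → ∀ a b : G,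
      Subgroup.centralizer ({g} : Set G) ⊓ H.map (MulAut.conj a).toMonoidHom ≠ ⊥ →
      Subgroup.centralizer ({g} : Set G) ⊓ H.map (MulAut.conj b).toMonoidHom ≠ ⊥ →
      H.map (MulAut.conj a).toMonoidHom = H.map (MulAut.conj b).toMonoidHom)
    (χ : IrrCharacter G) (hker : ∃ h ∈ H, (χ : G → ℂ) h ≠ (χ : G → ℂ) 1) (a : ℕ)
    (ha : classInner (fun h : H => (χ : G → ℂ) h) (fun _ => 1) = a) :
    (deg (χ : G → ℂ) : ℝ) ^ 2 > (Nat.card H : ℝ) * (a : ℝ) ^ 2 := by
  classical
  set N := Subgroup.normalizer (H : Set G) with hN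
  haveI := Fintype.ofFinite N
  set M := H.subgroupOf N with hM
  haveI hMn : M.Normal :=
    (Subgroup.normal_subgroupOf_iff_le_normalizer Subgroup.le_normalizer).mpr le_rfl
  haveI := Fintype.ofFinite M
  haveI := Fintype.ofFinite (Subgroup.center G)
  set r : N → ℂ := fun n => (χ : G → ℂ) n with hr
  set r0 : N → ℂ := cosetAvg M r with hr0
  have hrc : IsCharacter N r := isCharacter_comp N.subtype (irr_isCharacter χ.2)
  -- the norms
  obtain ⟨m, hm⟩ := exists_decomposition hrc
  set m' : IrrCharacter N → ℕ := fun θ =>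
    if ∀ k : M, (θ : N → ℂ) k = (θ : N → ℂ) 1 then m θ else 0 with hm'
  set b : N → ℂ := ∑ θ, m' θ • (θ : N → ℂ) with hb
  have hbM : ∀ (k : M) (g : N), b ((k : N) * g) = b g := by
    intro k g
    simp only [hb, Finset.sum_apply, Pi.smul_apply]
    refine Finset.sum_congr rfl fun θ _ => ?_
    simp only [hm']
    split_ifs with h
    · rw [trivial_mul M θ.2 h k g]
    · rw [zero_smul, zero_smul]
  have hbc : IsClassFunction N b := by
    intro g k
    simp only [hb, Finset.sum_apply, Pi.smul_apply]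
    exact Finset.sum_congr rfl fun θ _ => by rw [isClassFunction_character (irr_isCharacter θ.2)]
  have hb0 : r0 = b := coset_ext M (cosetAvg_class M (isClassFunction_character hrc)) hbc
    (cosetAvg_mul M r) hbM fun β hβ htr => by
      rw [hr0, classInner_cosetAvg M r β (trivial_mul M hβ htr),
        decomposition_coeff m hm ⟨β, hβ⟩, decomposition_coeff m' hb ⟨β, hβ⟩]
      simp only [hm', if_pos htr]
  obtain ⟨θ, hθm, hθ⟩ : ∃ θ : IrrCharacter N, m θ ≠ 0 ∧ ¬ ∀ k : M, (θ : N → ℂ) k = (θ : N → ℂ) 1 := by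
    by_contra hall
    push Not at hall
    have hrb : r = b := by
      rw [hm, hb]
      refine Finset.sum_congr rfl fun θ _ => ?_
      simp only [hm']
      split_ifs with h
      · rfl
      · by_cases h0 : m θ = 0
        · rw [h0]
        · exact absurd (hall θ h0) h
    obtain ⟨h, hh, hne⟩ := hker
    refine hne ?_
    have h1 := hbM ⟨⟨h, Subgroup.le_normalizer hh⟩, hh⟩ 1
    rw [mul_one, ← hrb] at h1
    exact h1
  have hgap : (∑ n : N, Complex.normSq (r0 n)) + (Nat.card N : ℝ) ≤ ∑ n : N, Complex.normSq (r n) := by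
    rw [sum_normSq_eq, sum_normSq_eq, hb0, classInner_self_decomp m' hb, classInner_self_decomp m hm,
      Complex.natCast_re, Complex.natCast_re]
    have h1 : (∑ ψ, m' ψ * m' ψ) + 1 ≤ ∑ ψ, m ψ * m ψ := by
      rw [← Finset.add_sum_erase _ _ (Finset.mem_univ θ), ← Finset.add_sum_erase
        (f := fun ψ => m ψ * m ψ) _ (Finset.mem_univ θ),
        show m' θ = 0 from if_neg hθ, zero_mul, zero_add, add_comm]
      refine add_le_add (Nat.one_le_iff_ne_zero.mpr (mul_ne_zero hθm hθm))
        (Finset.sum_le_sum fun ψ _ => ?_)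
      simp only [hm']
      split_ifs <;> simp
    have h2 : ((∑ ψ, m' ψ * m' ψ : ℕ) : ℝ) + 1 ≤ ((∑ ψ, m ψ * m ψ : ℕ) : ℝ) := by exact_mod_cast h1
    have := mul_le_mul_of_nonneg_left h2 (Nat.cast_nonneg (α := ℝ) (Nat.card N))
    linarith
  -- the three kinds of elements of `N`
  set Zs := (Finset.univ : Finset N).filter fun n : N => (n : G) ∈ Subgroup.center G with hZs
  set rest := (Finset.univ : Finset N).filter fun n : N => (n : G) ∉ Subgroup.center G with hrest
  set Ss := rest.filter fun n : N => ∃ h ∈ H, h ≠ 1 ∧ h * (n : G) = n * h with hSs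
  set Fs := rest.filter fun n : N => ¬ ∃ h ∈ H, h ≠ 1 ∧ h * (n : G) = n * h with hFs
  have hsplit : ∀ f : N → ℝ, ∑ n : N, f n = ∑ n ∈ Zs, f n + (∑ n ∈ Ss, f n + ∑ n ∈ Fs, f n) := fun f => by
    rw [hSs, hFs, Finset.sum_filter_add_sum_filter_not, hZs, hrest, Finset.sum_filter_add_sum_filter_not]
  have hFval : ∀ n ∈ Fs, r0 n = r n := by
    intro n hn
    have hnot := (Finset.mem_filter.mp hn).2
    let f : M → M := fun k => ⟨(k : N) * n * (k : N)⁻¹ * n⁻¹, by
      rw [mul_assoc, mul_assoc, ← mul_assoc n]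
      exact mul_mem k.2 (hMn.conj_mem _ (inv_mem k.2) n)⟩
    have hf : Function.Bijective f := Finite.injective_iff_bijective.mp fun k k' e => by
      have e1 : (k : N) * n * (k : N)⁻¹ = (k' : N) * n * (k' : N)⁻¹ :=
        mul_right_cancel (congrArg Subtype.val e)
      by_contra hne
      refine hnot ⟨(((k' : N)⁻¹ * k : N) : G), mul_mem (inv_mem k'.2) k.2, fun h1 => hne ?_, ?_⟩
      · exact (Subtype.ext (inv_mul_eq_one.mp (Subtype.ext h1 : (k' : N)⁻¹ * k = 1))).symm
      · have e2 : (k' : N)⁻¹ * k * n = n * ((k' : N)⁻¹ * k) := by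
          have := congrArg (fun x => (k' : N)⁻¹ * x * k) e1
          simpa [mul_assoc] using this
        exact congrArg Subtype.val e2
    have hconst : ∀ k : M, r ((k : N) * n) = r n := by
      intro k
      obtain ⟨k', rfl⟩ := hf.2 k
      show r ((k' : N) * n * (k' : N)⁻¹ * n⁻¹ * n) = r n
      rw [inv_mul_cancel_right]
      exact isClassFunction_character hrc n k'
    simp only [hr0, cosetAvg, hconst, Finset.sum_const, Finset.card_univ, nsmul_eq_mul,
      ← Nat.card_eq_fintype_card]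
    rw [← mul_assoc, inv_mul_cancel₀ (Nat.cast_ne_zero.mpr Nat.card_pos.ne'), one_mul]
  -- the average on `H Z`
  have hzN : ∀ z ∈ Subgroup.center G, z ∈ N := fun z hz => by
    rw [hN, Subgroup.mem_normalizer_iff]
    intro y
    rw [← Subgroup.mem_center_iff.mp hz y, mul_inv_cancel_right]
  have hZval : ∀ z : N, (z : G) ∈ Subgroup.center G → ∀ k : M,
      Complex.normSq (r0 ((k : N) * z)) = (a : ℝ) ^ 2 := by
    intro z hz k
    obtain ⟨c, hc, hcm⟩ := center_mul χ hz
    have hMH : Nat.card M = Nat.card H :=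
      Nat.card_congr (Subgroup.subgroupOfEquivOfLe Subgroup.le_normalizer).toEquiv
    have e : r0 ((k : N) * z) = c * (a : ℂ) := by
      rw [hr0, cosetAvg_mul, cosetAvg, ← ha, classInner, hMH,
        show ∑ n : M, r ((n : N) * z) = ∑ h : H, c * (χ : G → ℂ) h from
          Fintype.sum_equiv (Subgroup.subgroupOfEquivOfLe Subgroup.le_normalizer).toEquiv _ _
            fun n => hcm _]
      rw [← Finset.mul_sum]
      simp only [map_one, mul_one]
      ring
    rw [e, map_mul, hc, one_mul, Complex.normSq_natCast, sq]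
  have hHZ : (Nat.card H : ℝ) * (Nat.card (Subgroup.center G) : ℝ) * (a : ℝ) ^ 2 ≤
      ∑ n ∈ Zs, Complex.normSq (r0 n) + ∑ n ∈ Ss, Complex.normSq (r0 n) := by
    set φ : H × Subgroup.center G → N := fun x =>
      ⟨(x.1 : G) * x.2, mul_mem (Subgroup.le_normalizer x.1.2) (hzN _ x.2.2)⟩ with hφ
    have hinj : Function.Injective φ := by
      rintro ⟨h, z⟩ ⟨h', z'⟩ e
      have e1 : (h : G) * z = h' * z' := congrArg Subtype.val e
      have e2 : (h' : G)⁻¹ * h = (z' : G) * (z : G)⁻¹ := by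
        have := congrArg (fun x => (h' : G)⁻¹ * x * (z : G)⁻¹) e1
        simpa [mul_assoc] using this
      have e3 : (h' : G)⁻¹ * h ∈ H ⊓ Subgroup.center G :=
        ⟨H.mul_mem (H.inv_mem h'.2) h.2, e2 ▸ (Subgroup.center G).mul_mem z'.2 ((Subgroup.center G).inv_mem z.2)⟩
      rw [hZ, Subgroup.mem_bot, inv_mul_eq_one] at e3
      rw [← e3, mul_right_inj] at e1
      exact Prod.ext (Subtype.ext e3.symm) (Subtype.ext e1)
    have hdisj : Disjoint Zs Ss := by
      rw [Finset.disjoint_left]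
      intro n h1 h2
      exact (Finset.mem_filter.mp (Finset.mem_filter.mp h2).1).2 (Finset.mem_filter.mp h1).2
    rw [← Finset.sum_union hdisj]
    refine le_trans (le_of_eq ?_) (Finset.sum_le_sum_of_subset_of_nonneg
      (s := Finset.univ.image φ) ?_ fun _ _ _ => Complex.normSq_nonneg _)
    · rw [Finset.sum_image hinj.injOn, Finset.sum_congr rfl fun x _ => show
        Complex.normSq (r0 (φ x)) = (a : ℝ) ^ 2 from
          hZval ⟨(x.2 : G), hzN _ x.2.2⟩ x.2.2 ⟨⟨(x.1 : G), Subgroup.le_normalizer x.1.2⟩, x.1.2⟩,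
        Finset.sum_const, Finset.card_univ, nsmul_eq_mul, Fintype.card_prod, Nat.cast_mul,
        ← Nat.card_eq_fintype_card, ← Nat.card_eq_fintype_card]
    · intro n hn
      obtain ⟨⟨h, z⟩, -, rfl⟩ := Finset.mem_image.mp hn
      rw [Finset.mem_union]
      by_cases hc : ((φ (h, z) : N) : G) ∈ Subgroup.center G
      · exact Or.inl (Finset.mem_filter.mpr ⟨Finset.mem_univ _, hc⟩)
      · refine Or.inr (Finset.mem_filter.mpr ⟨Finset.mem_filter.mpr ⟨Finset.mem_univ _, hc⟩,
          h, h.2, fun h1 => hc ?_, ?_⟩)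
        · show (h : G) * z ∈ _
          rw [h1, one_mul]
          exact z.2
        · show (h : G) * ((h : G) * z) = (h : G) * z * h
          rw [mul_assoc (h : G) z h, ← Subgroup.mem_center_iff.mp z.2 h]
  set d : ℝ := (deg (χ : G → ℂ) : ℝ) with hd
  have hcz : ∀ y ∈ Subgroup.center G, Complex.normSq ((χ : G → ℂ) y) = d ^ 2 := fun y hy => by
    rw [← Complex.sq_norm, RootValues.norm_of_center χ hy]
  have hZsum : ∑ n ∈ Zs, Complex.normSq (r n) = (Nat.card (Subgroup.center G) : ℝ) * d ^ 2 := by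
    rw [Finset.sum_congr rfl fun n hn => show Complex.normSq (r n) = d ^ 2 from
      hcz _ (Finset.mem_filter.mp hn).2, Finset.sum_const, nsmul_eq_mul]
    congr 2
    rw [← Finset.card_map ⟨(Subtype.val : N → G), Subtype.val_injective⟩, Nat.card_eq_fintype_card]
    rw [← Fintype.card_coe]
    exact Fintype.card_congr (Equiv.subtypeEquivRight fun y => by
      simp only [Finset.mem_map, hZs, Finset.mem_filter, Finset.mem_univ, true_and,
        Function.Embedding.coeFn_mk]
      exact ⟨fun ⟨n, hn, e⟩ => e ▸ hn, fun hy => ⟨⟨y, hzN y hy⟩, hy, rfl⟩⟩)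
  set S : ℝ := ∑ n ∈ Ss, Complex.normSq (r n) with hS
  have hlow : (Nat.card H : ℝ) * (Nat.card (Subgroup.center G) : ℝ) * (a : ℝ) ^ 2 + Nat.card N ≤
      (Nat.card (Subgroup.center G) : ℝ) * d ^ 2 + S := by
    rw [hsplit fun n => Complex.normSq (r n), hsplit fun n => Complex.normSq (r0 n), hZsum,
      Finset.sum_congr rfl (s₁ := Fs) (g := fun n => Complex.normSq (r n)) fun n hn => by
        rw [hFval n hn]] at hgap
    linarith
  -- the conjugates of the elements centralizing part of `H`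
  set f : G → ℝ := fun y => Complex.normSq ((χ : G → ℂ) y) with hf
  set out := (Finset.univ : Finset G).filter fun y => y ∉ Subgroup.center G with hout
  have hfib : (Nat.card G : ℝ) * S ≤ (Nat.card N : ℝ) * ∑ y ∈ out, f y := by
    set e : G × N → G := fun x => x.1 * (x.2 : G) * x.1⁻¹ with he
    have h1 : (Nat.card G : ℝ) * S = ∑ x ∈ (Finset.univ : Finset G) ×ˢ Ss, f (e x) := by
      rw [Finset.sum_product, hS, Nat.card_eq_fintype_card, ← Finset.card_univ, ← nsmul_eq_mul,
        ← Finset.sum_const]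
      refine Finset.sum_congr rfl fun x _ => Finset.sum_congr rfl fun n _ => ?_
      show Complex.normSq ((χ : G → ℂ) n) = Complex.normSq ((χ : G → ℂ) (x * (n : G) * x⁻¹))
      rw [isClassFunction_character (irr_isCharacter χ.2)]
    rw [h1, ← Finset.sum_fiberwise_of_maps_to' (g := e) (t := out) (fun x hx => ?_) f, Finset.mul_sum]
    · refine Finset.sum_le_sum fun y hy => ?_
      rw [Finset.sum_const, nsmul_eq_mul]
      refine mul_le_mul_of_nonneg_right (Nat.cast_le.mpr ?_) (Complex.normSq_nonneg _)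
      rcases (((Finset.univ : Finset G) ×ˢ Ss).filter fun x => e x = y).eq_empty_or_nonempty with
        h0 | ⟨⟨x0, n0⟩, h0⟩
      · rw [h0, Finset.card_empty]; exact Nat.zero_le _
      have hmeet : ∀ p ∈ ((Finset.univ : Finset G) ×ˢ Ss).filter fun x => e x = y,
          Subgroup.centralizer ({y} : Set G) ⊓ H.map (MulAut.conj p.1).toMonoidHom ≠ ⊥ := by
        rintro ⟨x, n⟩ hp hbot
        obtain ⟨hp, hpe⟩ := Finset.mem_filter.mp hp
        obtain ⟨h, hh, hh1, hcomm⟩ := (Finset.mem_filter.mp (Finset.mem_product.mp hp).2).2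
        have hmem : x * h * x⁻¹ ∈
            Subgroup.centralizer ({y} : Set G) ⊓ H.map (MulAut.conj x).toMonoidHom := by
          refine ⟨Subgroup.mem_centralizer_singleton_iff.mpr ?_, h, hh, rfl⟩
          rw [← hpe]
          show x * h * x⁻¹ * (x * n * x⁻¹) = x * n * x⁻¹ * (x * h * x⁻¹)
          calc x * h * x⁻¹ * (x * n * x⁻¹) = x * (h * n) * x⁻¹ := by group
            _ = x * (n * h) * x⁻¹ := by rw [hcomm]
            _ = _ := by group
        rw [hbot, Subgroup.mem_bot, conj_eq_one_iff] at hmem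
        exact hh1 hmem
      rw [Nat.card_eq_fintype_card, ← Finset.card_univ]
      have hyout := (Finset.mem_filter.mp hy).2
      have hmemN : ∀ p ∈ ((Finset.univ : Finset G) ×ˢ Ss).filter (fun x => e x = y),
          x0⁻¹ * p.1 ∈ N := by
        intro p hp
        have := hone y hyout p.1 x0 (hmeet p hp) (hmeet _ h0)
        refine Subgroup.mem_normalizer_iff_map_conj_eq.mpr ?_
        have h2 := congrArg (Subgroup.map (MulAut.conj x0⁻¹).toMonoidHom) this
        rw [Subgroup.map_map, Subgroup.map_map] at h2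
        have hc1 : (MulAut.conj x0⁻¹).toMonoidHom.comp (MulAut.conj p.1).toMonoidHom =
            (MulAut.conj (x0⁻¹ * p.1)).toMonoidHom := MonoidHom.ext fun z => by simp [mul_assoc]
        have hc2 : (MulAut.conj x0⁻¹).toMonoidHom.comp (MulAut.conj x0).toMonoidHom =
            MonoidHom.id G := MonoidHom.ext fun z => by simp [mul_assoc]
        rw [hc1, hc2, Subgroup.map_id] at h2
        exact h2
      refine Finset.card_le_card_of_injOn
        (fun p => if h : x0⁻¹ * p.1 ∈ N then (⟨_, h⟩ : N) else 1) (fun _ _ => Finset.mem_univ _) ?_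
      intro p hp q hq epq
      simp only [dif_pos (hmemN p hp), dif_pos (hmemN q hq)] at epq
      have e1 : p.1 = q.1 := mul_left_cancel (congrArg Subtype.val epq)
      have e2 : e p = e q := (Finset.mem_filter.mp hp).2.trans (Finset.mem_filter.mp hq).2.symm
      simp only [he, e1, mul_left_inj, mul_right_inj] at e2
      exact Prod.ext e1 (Subtype.ext e2)
    · refine Finset.mem_filter.mpr ⟨Finset.mem_univ _, fun hc => ?_⟩
      refine (Finset.mem_filter.mp (Finset.mem_filter.mp (Finset.mem_product.mp hx).2).1).2 ?_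
      have := (inferInstance : (Subgroup.center G).Normal).conj_mem _ hc x.1⁻¹
      simpa [he, mul_assoc] using this
  have hout' : ∑ y ∈ out, f y = (Nat.card G : ℝ) - (Nat.card (Subgroup.center G) : ℝ) * d ^ 2 := by
    have h1 : ∑ y : G, f y = (Nat.card G : ℝ) := by
      rw [sum_normSq_eq, irr_self χ.2, Complex.one_re, mul_one]
    rw [← Finset.sum_filter_add_sum_filter_not Finset.univ (fun y => y ∈ Subgroup.center G) f,
      Finset.sum_congr rfl fun y hy => hcz y (Finset.mem_filter.mp hy).2, Finset.sum_const,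
      nsmul_eq_mul] at h1
    rw [show (Finset.univ.filter fun y => y ∈ Subgroup.center G).card =
      Nat.card (Subgroup.center G) by rw [Nat.card_eq_fintype_card, Fintype.card_subtype]] at h1
    linarith
  rw [hout'] at hfib
  have hG0 : (0 : ℝ) < Nat.card G := Nat.cast_pos.mpr Nat.card_pos
  have hN0 : (0 : ℝ) < Nat.card N := Nat.cast_pos.mpr Nat.card_pos
  have hz0 : (0 : ℝ) < Nat.card (Subgroup.center G) := Nat.cast_pos.mpr Nat.card_pos
  have hd0 : 0 < d := by
    rw [hd, Nat.cast_pos]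
    exact Nat.pos_of_ne_zero fun h0 => irr_one_ne_zero χ.2 (by
      rw [char_one_eq_deg (irr_isCharacter χ.2), h0, Nat.cast_zero])
  by_contra hle
  have h5 := mul_le_mul_of_nonneg_left (not_lt.mp hle) (mul_pos hG0 hz0).le
  linarith [mul_le_mul_of_nonneg_left hlow hG0.le, mul_pos (mul_pos hN0 hz0) (pow_pos hd0 2), h5]

theorem classInner_ne_zero_kernel (hall : ∀ K : Subgroup G, K.Normal → H ≤ K → K = ⊤)
    (φ : IrrCharacter G) (h : ∀ x ∈ H, (φ : G → ℂ) x = (φ : G → ℂ) 1) :
    (φ : G → ℂ) = fun _ => 1 := by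
  obtain ⟨d, ρ, hirr, e⟩ := id φ.2
  have hK : H ≤ MonoidHom.ker ρ := fun x hx => by
    rw [MonoidHom.mem_ker]
    have h1 := h x hx
    rw [← e, Representation.char_one] at h1
    exact (eq_id_iff ρ x).1 h1
  have hconst : ∀ g, (φ : G → ℂ) g = (φ : G → ℂ) 1 := fun g => by
    have hg : g ∈ MonoidHom.ker ρ := by rw [hall _ inferInstance hK]; trivial
    rw [← e]
    show LinearMap.trace ℂ _ (ρ g) = LinearMap.trace ℂ _ (ρ 1)
    rw [MonoidHom.mem_ker.mp hg, show ρ 1 = 1 from map_one ρ]
  obtain ⟨n, hn⟩ := charOne_eq_natCast (irr_isCharacter φ.2)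
  have h1 := irr_self φ.2
  rw [classInner, Finset.sum_congr rfl fun g _ => by rw [hconst g, hn, map_natCast],
    Finset.sum_const, Finset.card_univ, nsmul_eq_mul, ← Nat.card_eq_fintype_card,
    ← mul_assoc, inv_mul_cancel₀ (Nat.cast_ne_zero.mpr Nat.card_pos.ne'), one_mul] at h1
  have h2 : n = 1 := Nat.eq_one_of_mul_eq_one_right (by exact_mod_cast h1)
  funext g
  rw [hconst, hn, h2, Nat.cast_one]

theorem succ_sq_deg_gt (hab : ∀ a ∈ H, ∀ b ∈ H, a * b = b * a) (hZ : H ⊓ Subgroup.center G = ⊥)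
    (hone : ∀ g : G, g ∉ Subgroup.center G → ∀ a b : G,
      Subgroup.centralizer ({g} : Set G) ⊓ H.map (MulAut.conj a).toMonoidHom ≠ ⊥ →
      Subgroup.centralizer ({g} : Set G) ⊓ H.map (MulAut.conj b).toMonoidHom ≠ ⊥ →
      H.map (MulAut.conj a).toMonoidHom = H.map (MulAut.conj b).toMonoidHom)
    (χ : IrrCharacter G) (hne : 2 ≤ deg (χ : G → ℂ))
    (hall : ∀ K : Subgroup G, K.Normal → H ≤ K → K = ⊤) :
    (1 + (deg (χ : G → ℂ) : ℝ)) ^ 2 > (Nat.card H : ℝ) := by
  classical
  set d := deg (χ : G → ℂ) with hd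
  set w : G → ℂ := (χ : G → ℂ) * fun g => conj ((χ : G → ℂ) g) with hw
  have hwc : IsCharacter G w := isCharacter_mul (irr_isCharacter χ.2) (isCharacter_conj (irr_isCharacter χ.2))
  obtain ⟨m, hm⟩ := exists_decomposition hwc
  set one : IrrCharacter G := ⟨fun _ => 1, isIrrCharacter_one⟩
  have hm1 : m one = 1 := by
    have h1 : classInner w (fun _ => 1) = classInner (χ : G → ℂ) (χ : G → ℂ) := by
      simp only [classInner, hw, Pi.mul_apply, map_one, mul_one]
    rw [irr_self χ.2, show (fun _ : G => (1 : ℂ)) = (one : G → ℂ) from rfl,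
      decomposition_coeff m hm one] at h1
    exact_mod_cast h1
  have hA : ∀ φ : IrrCharacter G, ∃ a : ℕ, classInner (fun h : H => (φ : G → ℂ) h) (fun _ => 1) = a :=
    fun φ => classInner_natCast (isCharacter_comp H.subtype (irr_isCharacter φ.2))
      (irr_isCharacter isIrrCharacter_one)
  choose A hA using hA
  have hA1 : A one = 1 := by
    have h1 := hA one
    rw [show (fun h : H => (one : G → ℂ) h) = fun _ => 1 from rfl, irr_self isIrrCharacter_one] at h1
    exact_mod_cast h1.symm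
  -- the multiplicity of the principal character of `H`
  have hsum : d ≤ ∑ φ, m φ * A φ := by
    obtain ⟨k, hk⟩ := exists_decomposition (isCharacter_comp H.subtype (irr_isCharacter χ.2))
    have e1 : classInner (fun h : H => w h) (fun _ => 1) = ((∑ φ, m φ * A φ : ℕ) : ℂ) := by
      have e : (fun h : H => w h) = ∑ φ, (m φ : ℂ) • fun h : H => (φ : G → ℂ) h := by
        funext h
        rw [congrFun hm (h : G), Finset.sum_apply, Finset.sum_apply]
        exact Finset.sum_congr rfl fun φ _ => by rw [Pi.smul_apply, Pi.smul_apply, nsmul_eq_mul, smul_eq_mul]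
      rw [e, classInner_sum_left, Nat.cast_sum]
      exact Finset.sum_congr rfl fun φ _ => by rw [classInner_smul_left, hA, Nat.cast_mul]
    have e2 : classInner (fun h : H => w h) (fun _ => 1) = ((∑ l, k l * k l : ℕ) : ℂ) := by
      rw [← classInner_self_decomp k hk]
      simp only [classInner, hw, Pi.mul_apply, map_one, mul_one, Function.comp_apply, Subgroup.coe_subtype]
    have e3 : d = ∑ l, k l := by
      have h1 := congrFun hk 1
      simp only [Function.comp_apply, map_one, Finset.sum_apply, Pi.smul_apply] at h1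
      rw [char_one_eq_deg (irr_isCharacter χ.2)] at h1
      have : ∀ l : IrrCharacter H, (l : H → ℂ) 1 = 1 :=
        forall_linear_iff_comm.mp fun a b => Subtype.ext (hab a a.2 b b.2)
      simp only [this, nsmul_eq_mul, mul_one] at h1
      exact_mod_cast h1
    rw [show ∑ φ, m φ * A φ = ∑ l, k l * k l from Nat.cast_injective (R := ℂ) (e1.symm.trans e2), e3]
    exact Finset.sum_le_sum fun l _ => Nat.le_mul_self _
  have hdeg : d * d = ∑ φ, m φ * deg (φ : G → ℂ) := by
    have h1 := congrFun hm 1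
    simp only [hw, Pi.mul_apply, Finset.sum_apply, Pi.smul_apply, nsmul_eq_mul, Pi.natCast_apply,
      char_one_eq_deg (irr_isCharacter χ.2), map_natCast] at h1
    rw [Finset.sum_congr rfl fun φ _ => by rw [char_one_eq_deg (irr_isCharacter φ.2)]] at h1
    exact_mod_cast h1
  set s := Real.sqrt (Nat.card H : ℝ) with hs
  have hbd : ∀ φ : IrrCharacter G, φ ≠ one → s * (A φ : ℝ) < (deg (φ : G → ℂ) : ℝ) := by
    intro φ hφ
    have hker : ∃ h ∈ H, (φ : G → ℂ) h ≠ (φ : G → ℂ) 1 := by
      by_contra hno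
      push Not at hno
      exact hφ (Subtype.ext (classInner_ne_zero_kernel H hall φ hno))
    refine lt_of_pow_lt_pow_left₀ 2 (Nat.cast_nonneg _) ?_
    rw [mul_pow, hs, Real.sq_sqrt (Nat.cast_nonneg _)]
    exact sq_deg_gt H hab hZ hone φ hker (A φ) (hA φ)
  rw [← Finset.add_sum_erase _ _ (Finset.mem_univ one), hm1, hA1, one_mul] at hsum
  rw [← Finset.add_sum_erase _ _ (Finset.mem_univ one), hm1, one_mul,
    show deg (one : G → ℂ) = 1 from Nat.cast_injective (R := ℂ)
      (by rw [← char_one_eq_deg (irr_isCharacter one.2), Nat.cast_one])] at hdeg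
  obtain ⟨φ0, hφ0, hm0⟩ : ∃ φ ∈ Finset.univ.erase one, m φ * A φ ≠ 0 :=
    Finset.exists_ne_zero_of_sum_ne_zero (by omega)
  have hlt : s * ((∑ φ ∈ Finset.univ.erase one, m φ * A φ : ℕ) : ℝ) <
      ((∑ φ ∈ Finset.univ.erase one, m φ * deg (φ : G → ℂ) : ℕ) : ℝ) := by
    push_cast
    rw [Finset.mul_sum]
    refine Finset.sum_lt_sum (fun φ hφ => ?_) ⟨φ0, hφ0, ?_⟩
    · rw [mul_left_comm]
      exact mul_le_mul_of_nonneg_left (hbd φ (Finset.ne_of_mem_erase hφ)).le (Nat.cast_nonneg _)
    · rw [mul_left_comm]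
      refine mul_lt_mul_of_pos_left (hbd φ0 (Finset.ne_of_mem_erase hφ0)) (Nat.cast_pos.mpr ?_)
      exact Nat.pos_of_ne_zero (left_ne_zero_of_mul hm0)
  have h1 : ((d : ℝ) - 1) ≤ ((∑ φ ∈ Finset.univ.erase one, m φ * A φ : ℕ) : ℝ) := by
    have : (d : ℝ) ≤ 1 + ((∑ φ ∈ Finset.univ.erase one, m φ * A φ : ℕ) : ℝ) := by exact_mod_cast hsum
    linarith
  have h2 : (d : ℝ) * d = 1 + ((∑ φ ∈ Finset.univ.erase one, m φ * deg (φ : G → ℂ) : ℕ) : ℝ) := by
    exact_mod_cast hdeg
  have hs0 : 0 ≤ s := Real.sqrt_nonneg _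
  have hd2 : (2 : ℝ) ≤ d := by exact_mod_cast hne
  have h3 : s * ((d : ℝ) - 1) < ((d : ℝ) + 1) * ((d : ℝ) - 1) := by
    have := mul_le_mul_of_nonneg_left h1 hs0
    linarith
  have h4 : s < (d : ℝ) + 1 := lt_of_mul_lt_mul_right h3 (by linarith)
  rw [← Real.sq_sqrt (Nat.cast_nonneg (α := ℝ) (Nat.card H)), ← hs, add_comm]
  exact pow_lt_pow_left₀ h4 hs0 two_ne_zero

end Cfsg.Agent.Char.AbTI
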