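import Cfsg.Agent.Lib.Char.Exceptional
import Cfsg.Agent.Lib.Char.RealClass
import Cfsg.Prelude.Def_OddOrderChar

/-!
# Elementary facts on coherence
-/

set_option autoImplicit false
set_option linter.unusedSectionVars false
set_option linter.style.haveILetI false

namespace Cfsg.Agent.Char

open Cfsg
open scoped ComplexConjugate

universe u v

variable {G : Type u} [Group G] [Fintype G] {L : Type v} [Group L] [Fintype L]

/-- Inner products of generalized characters are integers. -/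
theorem classInner_gen_int {a b : G → ℂ} (ha : IsGeneralizedCharacter G a)
    (hb : IsGeneralizedCharacter G b) : ∃ n : ℤ, classInner a b = n := by
  classical
  obtain ⟨z, hz, hzc⟩ := exists_int_coords ha
  obtain ⟨w, hw, -⟩ := exists_int_coords hb
  refine ⟨∑ χ, w χ * z χ, ?_⟩
  conv_lhs => rw [hw]
  rw [classInner_sum_right, Int.cast_sum]
  refine Finset.sum_congr rfl fun χ _ => ?_
  rw [classInner_smul_right, hzc, map_intCast, Int.cast_mul]

/-- A generalized character of norm one is irreducible up to sign. -/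
theorem exists_sign_of_norm_one {a : G → ℂ} (ha : IsGeneralizedCharacter G a)
    (h : classInner a a = 1) :
    ∃ (e : ℤ) (χ : IrrCharacter G), (e = 1 ∨ e = -1) ∧ a = (e : ℂ) • (χ : G → ℂ) := by
  classical
  obtain ⟨z, hz, -⟩ := exists_int_coords ha
  rw [classInner_int_combination hz] at h
  have hsum : ∑ χ, z χ * z χ = 1 := by exact_mod_cast h
  obtain ⟨χ, hχ⟩ : ∃ χ, z χ ≠ 0 := by
    by_contra hall
    push Not at hall
    simp [hall] at hsum
  rw [← Finset.add_sum_erase _ _ (Finset.mem_univ χ)] at hsum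
  have h1 : 1 ≤ z χ * z χ := mul_self_pos.mpr hχ
  have h2 : ∑ ψ ∈ Finset.univ.erase χ, z ψ * z ψ = 0 :=
    le_antisymm (by linarith) (Finset.sum_nonneg fun ψ _ => mul_self_nonneg _)
  have h3 : z χ * z χ = 1 := by linarith
  refine ⟨z χ, χ, mul_self_eq_one_iff.mp h3, ?_⟩
  conv_lhs => rw [hz]
  refine Finset.sum_eq_single χ (fun ψ _ hne => ?_) (fun h => absurd (Finset.mem_univ χ) h)
  have h4 := (Finset.sum_eq_zero_iff_of_nonneg fun ψ _ => mul_self_nonneg (z ψ)).mp h2 ψ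
    (Finset.mem_erase.mpr ⟨hne, Finset.mem_univ ψ⟩)
  rw [mul_self_eq_zero.mp h4, Int.cast_zero, zero_smul]

theorem isometryOn_sub {S : Set (L → ℂ)} {τ : (L → ℂ) → (G → ℂ)}
    (h : IsLinearIsometryOn (zspan S) τ) {α β : L → ℂ} (hα : α ∈ zspan S) (hβ : β ∈ zspan S) :
    τ (α - β) = τ α - τ β := by
  have hn : (-1 : ℤ) • β ∈ zspan S := Submodule.smul_mem _ _ hβ
  rw [sub_eq_add_neg, show -β = (-1 : ℤ) • β from (neg_one_zsmul β).symm, h.1 α hα _ hn,
    h.2.1 β hβ (-1), neg_one_zsmul, sub_eq_add_neg]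

theorem mem_zspan_of_mem {S : Set (L → ℂ)} {α : L → ℂ} (h : α ∈ S) : α ∈ zspan S :=
  Submodule.subset_span h

/-- The coherent extension is, up to one sign, a map into irreducible characters. -/
theorem coherent_extension_sign (S : Set (L → ℂ)) (hirr : ∀ χ ∈ S, IsIrrCharacter L χ)
    (htwo : ∃ χ ∈ S, ∃ ψ ∈ S, χ ≠ ψ) (τ₁ : (L → ℂ) → (G → ℂ))
    (hτ₁ : IsLinearIsometryOn (zspan S) τ₁) (h0 : ∀ α ∈ zspan S, α 1 = 0 → τ₁ α 1 = 0) :
    ∃ ε : ℂ, (ε = 1 ∨ ε = -1) ∧ (∀ χ ∈ S, IsIrrCharacter G (ε • τ₁ χ)) ∧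
      (∀ χ ∈ S, ∀ ψ ∈ S, τ₁ χ = τ₁ ψ → χ = ψ) := by
  classical
  have hex : ∀ χ ∈ S, ∃ (e : ℤ) (μ : IrrCharacter G), (e = 1 ∨ e = -1) ∧
      τ₁ χ = (e : ℂ) • (μ : G → ℂ) := fun χ hχ =>
    exists_sign_of_norm_one (hτ₁.2.2.2 χ (mem_zspan_of_mem hχ))
      (by rw [hτ₁.2.2.1 χ (mem_zspan_of_mem hχ) χ (mem_zspan_of_mem hχ), irr_self (hirr χ hχ)])
  choose e μ he hμ using hex
  obtain ⟨χ₀, hχ₀, -⟩ := htwo
  have hsign : ∀ χ (hχ : χ ∈ S), e χ hχ = e χ₀ hχ₀ := by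
    intro χ hχ
    set d := deg χ with hd
    set d₀ := deg χ₀ with hd₀
    have hmem : (d₀ : ℤ) • χ - (d : ℤ) • χ₀ ∈ zspan S :=
      Submodule.sub_mem _ (Submodule.smul_mem _ _ (mem_zspan_of_mem hχ))
        (Submodule.smul_mem _ _ (mem_zspan_of_mem hχ₀))
    have h1 := h0 _ hmem (by
      simp only [Pi.sub_apply, Pi.mul_apply, Pi.natCast_apply, Pi.intCast_apply, Pi.smul_apply, zsmul_eq_mul, Int.cast_natCast,
        char_one_eq_deg (irr_isCharacter (hirr χ hχ)),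
        char_one_eq_deg (irr_isCharacter (hirr χ₀ hχ₀))]
      ring)
    rw [isometryOn_sub hτ₁ (Submodule.smul_mem _ _ (mem_zspan_of_mem hχ))
      (Submodule.smul_mem _ _ (mem_zspan_of_mem hχ₀)), hτ₁.2.1 χ (mem_zspan_of_mem hχ),
      hτ₁.2.1 χ₀ (mem_zspan_of_mem hχ₀), hμ χ hχ, hμ χ₀ hχ₀] at h1
    simp only [Pi.sub_apply, Pi.mul_apply, Pi.natCast_apply, Pi.intCast_apply, Pi.smul_apply, zsmul_eq_mul, smul_eq_mul, Int.cast_natCast,
      char_one_eq_deg (irr_isCharacter (μ χ hχ).2),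
      char_one_eq_deg (irr_isCharacter (μ χ₀ hχ₀).2)] at h1
    have h2 : (d₀ : ℤ) * deg (μ χ hχ : G → ℂ) * e χ hχ =
        (d : ℤ) * deg (μ χ₀ hχ₀ : G → ℂ) * e χ₀ hχ₀ := by
      have : (((d₀ : ℤ) * deg (μ χ hχ : G → ℂ) * e χ hχ : ℤ) : ℂ) =
          (((d : ℤ) * deg (μ χ₀ hχ₀ : G → ℂ) * e χ₀ hχ₀ : ℤ) : ℂ) := by
        push_cast
        linear_combination h1
      exact_mod_cast this
    have p1 : (0 : ℤ) < (d₀ : ℤ) * deg (μ χ hχ : G → ℂ) :=
      mul_pos (by exact_mod_cast deg_pos (hirr χ₀ hχ₀)) (by exact_mod_cast deg_pos (μ χ hχ).2)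
    have p2 : (0 : ℤ) < (d : ℤ) * deg (μ χ₀ hχ₀ : G → ℂ) :=
      mul_pos (by exact_mod_cast deg_pos (hirr χ hχ)) (by exact_mod_cast deg_pos (μ χ₀ hχ₀).2)
    rcases he χ hχ with a | a <;> rcases he χ₀ hχ₀ with b | b <;> rw [a, b] at h2 ⊢ <;> nlinarith
  refine ⟨(e χ₀ hχ₀ : ℂ), ?_, fun χ hχ => ?_, fun χ hχ ψ hψ h => ?_⟩
  · rcases he χ₀ hχ₀ with h | h <;> simp [h]
  · rw [hμ χ hχ, hsign χ hχ, smul_smul,
      show (e χ₀ hχ₀ : ℂ) * (e χ₀ hχ₀ : ℂ) = 1 by rcases he χ₀ hχ₀ with h | h <;> simp [h], one_smul]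
    exact (μ χ hχ).2
  · by_contra hne
    have h1 := hτ₁.2.2.1 χ (mem_zspan_of_mem hχ) ψ (mem_zspan_of_mem hψ)
    rw [h, hτ₁.2.2.1 ψ (mem_zspan_of_mem hψ) ψ (mem_zspan_of_mem hψ), irr_self (hirr ψ hψ),
      irr_orth (hirr χ hχ) (hirr ψ hψ), if_neg hne] at h1
    exact one_ne_zero h1

/-- Irreducible characters give a coherence system. -/
theorem exists_coherenceSystem (S : Set (L → ℂ)) (hS : S.Nonempty)
    (hirr : ∀ χ ∈ S, IsIrrCharacter L χ) (hconj : ∀ χ ∈ S, conjFun χ ∈ S ∧ conjFun χ ≠ χ)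
    (τ : (L → ℂ) → (G → ℂ)) (hτ : IsLinearIsometryOn (zspanOn S {1}ᶜ) τ)
    (hτ1 : ∀ α ∈ zspanOn S {1}ᶜ, τ α 1 = 0) :
    ∃ R : (L → ℂ) → Finset (G → ℂ), IsCoherenceSystem S τ R := by
  classical
  have hmem : ∀ χ ∈ S, χ - conjFun χ ∈ zspanOn S {1}ᶜ := fun χ hχ =>
    ⟨Submodule.sub_mem _ (mem_zspan_of_mem hχ) (mem_zspan_of_mem (hconj χ hχ).1), fun x hx => by
      rw [Set.notMem_compl_iff, Set.mem_singleton_iff] at hx
      rw [hx, Pi.sub_apply, conjFun, conj_char_one (irr_isCharacter (hirr χ hχ)), sub_self]⟩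
  have hnorm : ∀ χ ∈ S, classInner (τ (χ - conjFun χ)) (τ (χ - conjFun χ)) = 2 := by
    intro χ hχ
    have hc := hirr _ (hconj χ hχ).1
    rw [hτ.2.2.1 _ (hmem χ hχ) _ (hmem χ hχ), classInner_sub_left, classInner_sub_right,
      classInner_sub_right, irr_orth (hirr χ hχ) (hirr χ hχ), irr_orth (hirr χ hχ) hc,
      irr_orth hc (hirr χ hχ), irr_orth hc hc, if_pos rfl, if_pos rfl, if_neg (hconj χ hχ).2,
      if_neg (hconj χ hχ).2.symm]
    norm_num
  have hex : ∀ χ ∈ S, ∃ a b : IrrCharacter G, a ≠ b ∧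
      τ (χ - conjFun χ) = (a : G → ℂ) - (b : G → ℂ) := fun χ hχ =>
    exists_pair_of_norm_two (hτ.2.2.2 _ (hmem χ hχ)) (hτ1 _ (hmem χ hχ)) (hnorm χ hχ)
  choose a b hab hτab using hex
  let R : (L → ℂ) → Finset (G → ℂ) := fun χ =>
    if h : χ ∈ S then {(a χ h : G → ℂ), -(b χ h : G → ℂ)} else ∅
  have hR : ∀ χ (h : χ ∈ S), ∀ x, x ∈ R χ ↔ x = (a χ h : G → ℂ) ∨ x = -(b χ h : G → ℂ) :=
    fun χ h x => by simp [R, dif_pos h]
  have hneq : ∀ x y : IrrCharacter G, (x : G → ℂ) ≠ -(y : G → ℂ) := by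
    intro x y h
    have h1 := congrFun h 1
    rw [Pi.neg_apply, char_one_eq_deg (irr_isCharacter x.2), char_one_eq_deg (irr_isCharacter y.2)]
      at h1
    have h2 : ((deg (x : G → ℂ) : ℤ) : ℂ) = ((-(deg (y : G → ℂ) : ℤ) : ℤ) : ℂ) := by
      push_cast; exact h1
    have h3 : (deg (x : G → ℂ) : ℤ) = -(deg (y : G → ℂ) : ℤ) := by exact_mod_cast h2
    have := deg_pos x.2
    have := deg_pos y.2
    omega
  refine ⟨R, ⟨hS, fun χ hχ => irr_isCharacter (hirr χ hχ), fun χ hχ => (hconj χ hχ).1,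
    fun χ hχ => (hconj χ hχ).2, hτ, hτ1, fun χ hχ φ hφ hne => by
      rw [irr_orth (hirr χ hχ) (hirr φ hφ), if_neg hne], ?_, ?_, ?_, ?_⟩⟩
  · intro χ hχ x hx y hy
    have hs : ∀ z : IrrCharacter G, ∀ w : G → ℂ, classInner (-(z : G → ℂ)) w =
        -classInner (z : G → ℂ) w := fun z w => by
      rw [← neg_one_smul ℂ (z : G → ℂ), classInner_smul_left, neg_one_mul]
    have hs' : ∀ z : G → ℂ, ∀ w : IrrCharacter G, classInner z (-(w : G → ℂ)) =
        -classInner z (w : G → ℂ) := fun z w => by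
      rw [← neg_one_smul ℂ (w : G → ℂ), classInner_smul_right]
      simp
    have hab' : (a χ hχ : G → ℂ) ≠ (b χ hχ : G → ℂ) := fun h => hab χ hχ (Subtype.ext h)
    rcases (hR χ hχ x).mp hx with rfl | rfl <;> rcases (hR χ hχ y).mp hy with rfl | rfl
    · simp [irr_self (a χ hχ).2]
    · rw [hs', irr_orth (a χ hχ).2 (b χ hχ).2, if_neg hab', if_neg (hneq _ _), neg_zero]
    · rw [hs, irr_orth (b χ hχ).2 (a χ hχ).2, if_neg hab'.symm, if_neg (hneq _ _).symm, neg_zero]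
    · rw [hs, hs', neg_neg, irr_self (b χ hχ).2, if_pos rfl]
  · intro χ hχ x hx
    rcases (hR χ hχ x).mp hx with rfl | rfl
    · exact ⟨_, 0, irr_isCharacter (a χ hχ).2, isCharacter_zero, (sub_zero _).symm⟩
    · exact ⟨0, _, isCharacter_zero, irr_isCharacter (b χ hχ).2, (zero_sub _).symm⟩
  · intro χ hχ
    rw [hτab χ hχ]
    simp only [R, dif_pos hχ]
    rw [Finset.sum_pair (hneq _ _), sub_eq_add_neg]
  · intro χ hχ φ hφ h1 h2 x hx y hy
    have hne1 : φ ≠ χ := by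
      rintro rfl
      rw [irr_self (hirr _ hφ)] at h1
      exact one_ne_zero h1
    have hne2 : φ ≠ conjFun χ := by
      rintro rfl
      rw [irr_self (hirr _ hφ)] at h2
      exact one_ne_zero h2
    have hcc : ∀ f : L → ℂ, conjFun (conjFun f) = f := fun f => funext fun x => Complex.conj_conj _
    have hne3 : conjFun φ ≠ χ := fun h => hne2 (by rw [← h, hcc])
    have hne4 : conjFun φ ≠ conjFun χ := fun h => hne1 (by rw [← hcc φ, h, hcc])
    have hz : classInner (τ (φ - conjFun φ)) (τ (χ - conjFun χ)) = 0 := by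
      rw [hτ.2.2.1 _ (hmem φ hφ) _ (hmem χ hχ), classInner_sub_left, classInner_sub_right,
        classInner_sub_right, irr_orth (hirr φ hφ) (hirr χ hχ),
        irr_orth (hirr φ hφ) (hirr _ (hconj χ hχ).1),
        irr_orth (hirr _ (hconj φ hφ).1) (hirr χ hχ),
        irr_orth (hirr _ (hconj φ hφ).1) (hirr _ (hconj χ hχ).1), if_neg hne1, if_neg hne2,
        if_neg hne3, if_neg hne4]
      norm_num
    have hφ2 := hnorm φ hφ
    rw [hτab φ hφ, hτab χ hχ] at hz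
    simp only [classInner_sub_left, classInner_sub_right, irrC_orth] at hz
    have hφχ : ¬ ((a φ hφ = a χ hχ ∧ b φ hφ = b χ hχ)) := by
      rintro ⟨e1, e2⟩
      simp only [e1, e2, if_pos, if_neg (hab χ hχ), if_neg (hab χ hχ).symm] at hz
      norm_num at hz
    have hnn := hab φ hφ
    have hnc := hab χ hχ
    have hnn' := hnn.symm
    have hnc' := hnc.symm
    have hdis : a φ hφ ≠ a χ hχ ∧ a φ hφ ≠ b χ hχ ∧ b φ hφ ≠ a χ hχ ∧ b φ hφ ≠ b χ hχ := by
      split_ifs at hz <;> norm_num at hz <;> first | tauto | (exfalso; simp_all)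
    obtain ⟨d1, d2, d3, d4⟩ := hdis
    have hs : ∀ z w : IrrCharacter G, z ≠ w → ∀ (c c' : ℂ),
        classInner (c • (z : G → ℂ)) (c' • (w : G → ℂ)) = 0 := fun z w h c c' => by
      rw [classInner_smul_left, classInner_smul_right, irrC_orth, if_neg h, mul_zero, mul_zero]
    rcases (hR φ hφ x).mp hx with rfl | rfl <;> rcases (hR χ hχ y).mp hy with rfl | rfl
    · simpa using hs _ _ d1 1 1
    · simpa using hs _ _ d2 1 (-1)
    · simpa using hs _ _ d3 (-1) 1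
    · simpa using hs _ _ d4 (-1) (-1)

/-- The projection on `R χ` has norm at least that of `χ`. -/
theorem coherence_projection_bound {S : Set (L → ℂ)} {τ : (L → ℂ) → (G → ℂ)}
    {R : (L → ℂ) → Finset (G → ℂ)} (hS : IsCoherenceSystem S τ R) {χ : L → ℂ} (hχ : χ ∈ S)
    {ψ : L → ℂ} (h1 : classInner χ ψ = 0)
    (h2 : classInner (conjFun χ) ψ = 0) (τ₁ : (L → ℂ) → (G → ℂ))
    (hτ₁ : IsLinearIsometryOn (zspan {χ - ψ, χ - conjFun χ}) τ₁)
    (hagree : ∀ n : ℤ, τ₁ (n • (χ - conjFun χ)) = τ (n • (χ - conjFun χ))) :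
    (classInner χ χ).re ≤ ∑ α ∈ R χ, ‖classInner (τ₁ (χ - ψ)) α‖ ^ 2 ∧
    ((classInner ψ ψ).re ≤ (classInner (τ₁ (χ - ψ)) (τ₁ (χ - ψ))).re -
        ∑ α ∈ R χ, ‖classInner (τ₁ (χ - ψ)) α‖ ^ 2 →
      (∑ α ∈ R χ, ‖classInner (τ₁ (χ - ψ)) α‖ ^ 2 = (classInner χ χ).re ∧
        ∀ α ∈ R χ, classInner (τ₁ (χ - ψ)) α = 0 ∨ classInner (τ₁ (χ - ψ)) α = 1)) := by
  classical
  have hm1 : χ - ψ ∈ zspan {χ - ψ, χ - conjFun χ} := mem_zspan_of_mem (Set.mem_insert _ _)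
  have hm2 : χ - conjFun χ ∈ zspan {χ - ψ, χ - conjFun χ} :=
    mem_zspan_of_mem (Set.mem_insert_of_mem _ rfl)
  set x := τ₁ (χ - ψ) with hx
  have hint : ∀ α ∈ R χ, ∃ n : ℤ, classInner x α = n := fun α hα =>
    classInner_gen_int (hτ₁.2.2.2 _ hm1) (hS.virtual χ hχ α hα)
  choose! c hc using hint
  have hsum : ∑ α ∈ R χ, classInner x α = classInner χ χ := by
    rw [← classInner_sum_right, ← hS.sum_eq χ hχ]
    have e := hagree 1
    rw [one_zsmul] at e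
    rw [← e, hx, hτ₁.2.2.1 _ hm1 _ hm2, classInner_sub_left, classInner_sub_right,
      classInner_sub_right, hS.orthogonal χ hχ _ (hS.conj_mem χ hχ) (hS.conj_ne χ hχ).symm,
      ← classInner_symm χ ψ, ← classInner_symm (conjFun χ) ψ, h1, h2, map_zero]
    ring
  have hxx : classInner x x = classInner χ χ + classInner ψ ψ := by
    rw [hx, hτ₁.2.2.1 _ hm1 _ hm1, classInner_sub_left, classInner_sub_right, classInner_sub_right,
      h1, ← classInner_symm χ ψ, h1, map_zero]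
    ring
  have hre : (classInner χ χ).re = ∑ α ∈ R χ, (c α : ℝ) := by
    rw [← hsum, Complex.re_sum]
    exact Finset.sum_congr rfl fun α hα => by rw [hc α hα, Complex.intCast_re]
  have hsq : ∑ α ∈ R χ, ‖classInner x α‖ ^ 2 = ∑ α ∈ R χ, ((c α * c α : ℤ) : ℝ) :=
    Finset.sum_congr rfl fun α hα => by
      rw [hc α hα, Complex.norm_intCast, sq_abs, Int.cast_mul, pow_two]
  have hle : ∀ α ∈ R χ, (c α : ℝ) ≤ ((c α * c α : ℤ) : ℝ) := fun α _ => by
    exact_mod_cast Int.le_self_sq (c α) |>.trans (le_of_eq (pow_two _))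
  refine ⟨by rw [hre, hsq]; exact Finset.sum_le_sum hle, fun hψ => ?_⟩
  rw [hxx, Complex.add_re] at hψ
  have heq : ∑ α ∈ R χ, (c α : ℝ) = ∑ α ∈ R χ, ((c α * c α : ℤ) : ℝ) :=
    le_antisymm (Finset.sum_le_sum hle) (by rw [← hsq, ← hre]; linarith)
  refine ⟨by rw [hsq, ← heq, hre], fun α hα => ?_⟩
  have h3 := (Finset.sum_eq_sum_iff_of_le hle).mp heq α hα
  have h4 : c α = c α * c α := by exact_mod_cast h3
  rcases mul_eq_zero.mp (show c α * (c α - 1) = 0 by linear_combination -h4) with h | h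
  · left; rw [hc α hα, h, Int.cast_zero]
  · right; rw [hc α hα, sub_eq_zero.mp h, Int.cast_one]

end Cfsg.Agent.Char
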