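import Cfsg.Agent.Lib.Perm.PermChar
import Cfsg.Agent.Lib.Char.Coherence
import Cfsg.Agent.Lib.Char.BrauerChar
import Mathlib

/-!
# Characters of the two-part partitions of four-transitive groups

The standard character and the two constituents of degree `n(n-3)/2` and `(n-1)(n-2)/2`, with
their norms obtained by counting tuples on which a group element induces a given permutation.
-/

set_option autoImplicit false
set_option linter.unusedSectionVars false
set_option linter.style.haveILetI false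

namespace Cfsg.Agent.Char.AltPair

open Cfsg Cfsg.Agent Cfsg.Agent.Char Equiv
open scoped ComplexConjugate

universe u v

variable {G : Type u} [Group G] [Fintype G] {Ω : Type v} [Fintype Ω] [DecidableEq Ω]

/-- The fixed points of a permutation. -/
def fx (σ : Equiv.Perm Ω) : Finset Ω := Finset.univ.filter fun a => σ a = a

/-- The points lying on transpositions of a permutation. -/
def sw (σ : Equiv.Perm Ω) : Finset Ω := Finset.univ.filter fun a => σ (σ a) = a ∧ σ a ≠ a

theorem mem_fx {σ : Equiv.Perm Ω} {a : Ω} : a ∈ fx σ ↔ σ a = a := by simp [fx]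

theorem mem_sw {σ : Equiv.Perm Ω} {a : Ω} : a ∈ sw σ ↔ σ (σ a) = a ∧ σ a ≠ a := by simp [sw]

/-- The group reaches every tuple of at most four distinct points from every other one. -/
def Trans4 (φ : G →* Equiv.Perm Ω) : Prop :=
  ∀ k : ℕ, k ≤ 4 → ∀ t t' : Fin k ↪ Ω, ∃ g : G, ∀ i, φ g (t i) = t' i

/-- The tuples permuted by `σ` as prescribed by `π`. -/
noncomputable def twisted (k : ℕ) (π : Equiv.Perm (Fin k)) (σ : Equiv.Perm Ω) : Finset (Fin k ↪ Ω) :=
  Finset.univ.filter fun t => ∀ i, σ (t i) = t (π i)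

theorem twisted_count (φ : G →* Equiv.Perm Ω) (hφ : Trans4 φ) {k : ℕ} (hk : k ≤ 4)
    (hkn : k ≤ Fintype.card Ω) (π : Equiv.Perm (Fin k)) :
    ∑ g : G, (twisted k π (φ g)).card = Fintype.card G := by
  classical
  obtain ⟨t₀⟩ : Nonempty (Fin k ↪ Ω) :=
    Function.Embedding.nonempty_of_card_le (by simpa using hkn)
  let c : (Fin k ↪ Ω) → (Fin k ↪ Ω) → ℕ := fun t t' =>
    (Finset.univ.filter fun g : G => ∀ i, φ g (t i) = t' i).card
  have hind : ∀ t t₁ t₂, c t t₁ = c t t₂ := by
    intro t t₁ t₂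
    obtain ⟨x, hx⟩ := hφ k hk t₁ t₂
    refine Finset.card_bij (fun g _ => x * g) ?_ (fun _ _ _ _ h => mul_left_cancel h) ?_
    · intro g hg
      simp only [Finset.mem_filter, Finset.mem_univ, true_and] at hg ⊢
      intro i
      rw [map_mul, Equiv.Perm.mul_apply, hg i, hx i]
    · intro g hg
      simp only [Finset.mem_filter, Finset.mem_univ, true_and] at hg ⊢
      refine ⟨x⁻¹ * g, fun i => ?_, mul_inv_cancel_left _ _⟩
      rw [map_mul, Equiv.Perm.mul_apply, hg i, ← hx i, map_inv, Equiv.Perm.inv_def,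
        Equiv.symm_apply_apply]
  have htot : ∀ t, Fintype.card G = Fintype.card (Fin k ↪ Ω) * c t t₀ := by
    intro t
    let m : G → (Fin k ↪ Ω) := fun g => t.trans (φ g).toEmbedding
    have h := Finset.card_eq_sum_card_fiberwise (s := (Finset.univ : Finset G))
      (t := (Finset.univ : Finset (Fin k ↪ Ω))) (f := m) (fun g _ => Finset.mem_univ _)
    have h' : ∀ t' : Fin k ↪ Ω,
        (Finset.univ.filter fun g : G => m g = t').card = c t t₀ := by
      intro t'
      rw [hind t t₀ t']
      refine congrArg Finset.card (Finset.filter_congr fun g _ => ?_)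
      constructor
      · intro hg i
        rw [← hg]
        rfl
      · intro hg
        exact Function.Embedding.ext fun i => hg i
    rw [Finset.card_univ] at h
    rw [h, Finset.sum_congr rfl fun t' _ => h' t', Finset.sum_const, Finset.card_univ,
      smul_eq_mul]
  have hswap : ∑ g : G, (twisted k π (φ g)).card =
      ∑ t : Fin k ↪ Ω, c t (π.toEmbedding.trans t) := by
    simp only [twisted, c, Finset.card_filter]
    rw [Finset.sum_comm]
    exact Finset.sum_congr rfl fun t _ => Finset.sum_congr rfl fun g _ => by congr 1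
  haveI : Nonempty (Fin k ↪ Ω) := ⟨t₀⟩
  have hall : ∀ t, c t t₀ = c t₀ t₀ := fun t =>
    Nat.eq_of_mul_eq_mul_left Fintype.card_pos ((htot t).symm.trans (htot t₀))
  rw [hswap, Finset.sum_congr rfl fun t _ => (hind t _ t₀).trans (hall t), Finset.sum_const,
    Finset.card_univ, smul_eq_mul, ← htot t₀]

theorem twisted_one (k : ℕ) (σ : Equiv.Perm Ω) :
    (twisted k 1 σ).card = (fx σ).card.descFactorial k := by
  classical
  have h : Fintype.card (Fin k ↪ (fx σ : Finset Ω)) = (fx σ).card.descFactorial k := by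
    rw [Fintype.card_embedding_eq, Fintype.card_coe, Fintype.card_fin]
  rw [← h, ← Finset.card_univ]
  refine Finset.card_bij
    (fun t ht => ⟨fun i => ⟨t i, mem_fx.mpr (by simpa [twisted] using (Finset.mem_filter.mp ht).2 i)⟩,
      fun i j hij => t.injective (congrArg Subtype.val hij)⟩) (fun _ _ => Finset.mem_univ _) ?_ ?_
  · intro t _ t' _ h
    refine Function.Embedding.ext fun i => ?_
    exact congrArg Subtype.val (DFunLike.congr_fun h i)
  · intro u _
    refine ⟨u.trans (Function.Embedding.subtype _), ?_, rfl⟩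
    simp only [twisted, Finset.mem_filter, Finset.mem_univ, true_and]
    intro i
    exact mem_fx.mp (u i).2

theorem twisted_swap_two (σ : Equiv.Perm Ω) :
    (twisted 2 (swap 0 1) σ).card = (sw σ).card := by
  classical
  refine Finset.card_bij (fun t _ => t 0) ?_ ?_ ?_
  · intro t ht
    simp only [twisted, Finset.mem_filter, Finset.mem_univ, true_and] at ht
    have h0 : σ (t 0) = t 1 := by simpa using ht 0
    have h1 : σ (t 1) = t 0 := by simpa using ht 1
    exact mem_sw.mpr ⟨by rw [h0, h1], by rw [h0]; exact fun h => by simpa using t.injective h⟩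
  · intro t ht t' ht' h
    simp only [twisted, Finset.mem_filter, Finset.mem_univ, true_and] at ht ht'
    have h0 : σ (t 0) = t 1 := by simpa using ht 0
    have h0' : σ (t' 0) = t' 1 := by simpa using ht' 0
    refine Function.Embedding.ext fun i => ?_
    fin_cases i
    · exact h
    · show t 1 = t' 1
      rw [← h0, ← h0', h]
  · intro a ha
    obtain ⟨ha2, hane⟩ := mem_sw.mp ha
    have hinj : Function.Injective ![a, σ a] := by
      intro i j h
      fin_cases i <;> fin_cases j <;> simp_all [hane.symm]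
    refine ⟨⟨_, hinj⟩, ?_, rfl⟩
    simp only [twisted, Finset.mem_filter, Finset.mem_univ, true_and]
    intro i
    fin_cases i
    · simp
    · simpa using ha2

theorem twisted_swap_three (σ : Equiv.Perm Ω) :
    (twisted 3 (swap 0 1) σ).card = (sw σ).card * (fx σ).card := by
  classical
  rw [← Finset.card_product]
  refine Finset.card_bij (fun t _ => (t 0, t 2)) ?_ ?_ ?_
  · intro t ht
    simp only [twisted, Finset.mem_filter, Finset.mem_univ, true_and] at ht
    have h0 : σ (t 0) = t 1 := by simpa using ht 0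
    have h1 : σ (t 1) = t 0 := by simpa using ht 1
    have h2 : σ (t 2) = t 2 := by simpa [Equiv.swap_apply_def] using ht 2
    exact Finset.mem_product.mpr ⟨mem_sw.mpr
      ⟨by rw [h0, h1], by rw [h0]; exact fun h => by simpa using t.injective h⟩, mem_fx.mpr h2⟩
  · intro t ht t' ht' h
    simp only [twisted, Finset.mem_filter, Finset.mem_univ, true_and] at ht ht'
    obtain ⟨e0, e2⟩ := Prod.ext_iff.mp h
    have h0 : σ (t 0) = t 1 := by simpa using ht 0
    have h0' : σ (t' 0) = t' 1 := by simpa using ht' 0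
    refine Function.Embedding.ext fun i => ?_
    fin_cases i
    · exact e0
    · show t 1 = t' 1
      rw [← h0, ← h0', show t 0 = t' 0 from e0]
    · exact e2
  · rintro ⟨a, c⟩ hac
    obtain ⟨ha, hc⟩ := Finset.mem_product.mp hac
    obtain ⟨ha2, hane⟩ := mem_sw.mp ha
    rw [mem_fx] at hc
    simp only at ha2 hane hc
    have hca : c ≠ a := fun h => hane (h ▸ hc)
    have hcsa : c ≠ σ a := fun h => hane (σ.injective (h ▸ hc))
    have hinj : Function.Injective ![a, σ a, c] := by
      intro i j h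
      fin_cases i <;> fin_cases j <;> simp_all [hane.symm, hca.symm, hcsa.symm]
    refine ⟨⟨_, hinj⟩, ?_, rfl⟩
    simp only [twisted, Finset.mem_filter, Finset.mem_univ, true_and]
    intro i
    fin_cases i
    · simp
    · simpa using ha2
    · simpa [Equiv.swap_apply_def] using hc

theorem twisted_swap_four (σ : Equiv.Perm Ω) :
    (twisted 4 (swap 0 1) σ).card = (sw σ).card * (fx σ).offDiag.card := by
  classical
  rw [← Finset.card_product]
  refine Finset.card_bij (fun t _ => (t 0, (t 2, t 3))) ?_ ?_ ?_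
  · intro t ht
    simp only [twisted, Finset.mem_filter, Finset.mem_univ, true_and] at ht
    have h0 : σ (t 0) = t 1 := by simpa using ht 0
    have h1 : σ (t 1) = t 0 := by simpa using ht 1
    have h2 : σ (t 2) = t 2 := by simpa [Equiv.swap_apply_def] using ht 2
    have h3 : σ (t 3) = t 3 := by simpa [Equiv.swap_apply_def] using ht 3
    exact Finset.mem_product.mpr ⟨mem_sw.mpr
      ⟨by rw [h0, h1], by rw [h0]; exact fun h => by simpa using t.injective h⟩,
      Finset.mem_offDiag.mpr ⟨mem_fx.mpr h2, mem_fx.mpr h3, fun h => by simpa using t.injective h⟩⟩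
  · intro t ht t' ht' h
    simp only [twisted, Finset.mem_filter, Finset.mem_univ, true_and] at ht ht'
    obtain ⟨e0, e23⟩ := Prod.ext_iff.mp h
    obtain ⟨e2, e3⟩ := Prod.ext_iff.mp e23
    have h0 : σ (t 0) = t 1 := by simpa using ht 0
    have h0' : σ (t' 0) = t' 1 := by simpa using ht' 0
    refine Function.Embedding.ext fun i => ?_
    fin_cases i
    · exact e0
    · show t 1 = t' 1
      rw [← h0, ← h0', show t 0 = t' 0 from e0]
    · exact e2
    · exact e3
  · rintro ⟨a, c, d⟩ hac
    obtain ⟨ha, hcd⟩ := Finset.mem_product.mp hac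
    obtain ⟨hc, hd, hne⟩ := Finset.mem_offDiag.mp hcd
    obtain ⟨ha2, hane⟩ := mem_sw.mp ha
    rw [mem_fx] at hc hd
    simp only at ha2 hane hc hd hne
    have hca : c ≠ a := fun h => hane (h ▸ hc)
    have hcsa : c ≠ σ a := fun h => hane (σ.injective (h ▸ hc))
    have hda : d ≠ a := fun h => hane (h ▸ hd)
    have hdsa : d ≠ σ a := fun h => hane (σ.injective (h ▸ hd))
    have hinj : Function.Injective ![a, σ a, c, d] := by
      intro i j h
      fin_cases i <;> fin_cases j <;>
        simp_all [hane.symm, hca.symm, hcsa.symm, hda.symm, hdsa.symm, hne.symm]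
    refine ⟨⟨_, hinj⟩, ?_, rfl⟩
    simp only [twisted, Finset.mem_filter, Finset.mem_univ, true_and]
    intro i
    fin_cases i
    · simp
    · simpa using ha2
    · simpa [Equiv.swap_apply_def] using hc
    · simpa [Equiv.swap_apply_def] using hd

theorem twisted_double (σ : Equiv.Perm Ω) :
    ((twisted 4 (swap 0 1 * swap 2 3) σ).card : ℂ) =
      ((sw σ).card : ℂ) * (((sw σ).card : ℂ) - 2) := by
  classical
  have h : (twisted 4 (swap 0 1 * swap 2 3) σ).card =
      ((sw σ).sigma fun a => sw σ \ {a, σ a}).card := by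
    refine Finset.card_bij (fun t _ => (⟨t 0, t 2⟩ : (_ : Ω) × Ω)) ?_ ?_ ?_
    · intro t ht
      simp only [twisted, Finset.mem_filter, Finset.mem_univ, true_and] at ht
      have h0 : σ (t 0) = t 1 := by simpa [Equiv.swap_apply_def] using ht 0
      have h1 : σ (t 1) = t 0 := by simpa [Equiv.swap_apply_def] using ht 1
      have h2 : σ (t 2) = t 3 := by simpa [Equiv.swap_apply_def] using ht 2
      have h3 : σ (t 3) = t 2 := by simpa [Equiv.swap_apply_def] using ht 3
      refine Finset.mem_sigma.mpr ⟨mem_sw.mpr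
        ⟨by rw [h0, h1], by rw [h0]; exact fun h => by simpa using t.injective h⟩,
        Finset.mem_sdiff.mpr ⟨mem_sw.mpr
        ⟨by rw [h2, h3], by rw [h2]; exact fun h => by simpa using t.injective h⟩, ?_⟩⟩
      simp [h0]
    · intro t ht t' ht' h
      simp only [twisted, Finset.mem_filter, Finset.mem_univ, true_and] at ht ht'
      obtain ⟨e0, e2⟩ := Sigma.mk.inj_iff.mp h
      have e2' : t 2 = t' 2 := eq_of_heq e2
      have h0 : σ (t 0) = t 1 := by simpa [Equiv.swap_apply_def] using ht 0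
      have h0' : σ (t' 0) = t' 1 := by simpa [Equiv.swap_apply_def] using ht' 0
      have h2 : σ (t 2) = t 3 := by simpa [Equiv.swap_apply_def] using ht 2
      have h2' : σ (t' 2) = t' 3 := by simpa [Equiv.swap_apply_def] using ht' 2
      refine Function.Embedding.ext fun i => ?_
      fin_cases i
      · exact e0
      · show t 1 = t' 1
        rw [← h0, ← h0', e0]
      · exact e2'
      · show t 3 = t' 3
        rw [← h2, ← h2', e2']
    · rintro ⟨a, c⟩ hac
      obtain ⟨ha, hc⟩ := Finset.mem_sigma.mp hac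
      obtain ⟨hc, hcne⟩ := Finset.mem_sdiff.mp hc
      obtain ⟨ha2, hane⟩ := mem_sw.mp ha
      obtain ⟨hc2, hcne2⟩ := mem_sw.mp hc
      simp only [Finset.mem_insert, Finset.mem_singleton, not_or] at hcne
      simp only at ha2 hane hc2 hcne2 hcne
      obtain ⟨hca, hcsa⟩ := hcne
      have hsca : σ c ≠ a := fun h => hcsa (by rw [← h, hc2])
      have hscsa : σ c ≠ σ a := fun h => hca (σ.injective h)
      have hinj : Function.Injective ![a, σ a, c, σ c] := by
        intro i j h
        fin_cases i <;> fin_cases j <;>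
          simp_all [hane.symm, Ne.symm hca, Ne.symm hcsa, hsca.symm, hscsa.symm, hcne2.symm]
      refine ⟨⟨_, hinj⟩, ?_, rfl⟩
      simp only [twisted, Finset.mem_filter, Finset.mem_univ, true_and]
      intro i
      fin_cases i
      · simp [Equiv.swap_apply_def]
      · simpa [Equiv.swap_apply_def] using ha2
      · simp [Equiv.swap_apply_def]
      · simpa [Equiv.swap_apply_def] using hc2
  rw [h, Finset.card_sigma, Nat.cast_sum]
  have h2 : ∀ a ∈ sw σ, (((sw σ \ {a, σ a}).card : ℕ) : ℂ) = ((sw σ).card : ℂ) - 2 := by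
    intro a ha
    obtain ⟨ha2, hane⟩ := mem_sw.mp ha
    have hsub : ({a, σ a} : Finset Ω) ⊆ sw σ := by
      intro x hx
      simp only [Finset.mem_insert, Finset.mem_singleton] at hx
      rcases hx with rfl | rfl
      · exact ha
      · exact mem_sw.mpr ⟨by rw [ha2], by rw [ha2]; exact hane.symm⟩
    have hc : ({a, σ a} : Finset Ω).card = 2 := Finset.card_pair hane.symm
    have := Finset.card_sdiff_add_card_eq_card hsub
    rw [hc] at this
    rw [← this]
    push_cast
    ring
  rw [Finset.sum_congr rfl h2, Finset.sum_const, nsmul_eq_mul]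

theorem cast_descFactorial_four (n : ℕ) : (n.descFactorial 4 : ℂ) =
    (n : ℂ) * ((n : ℂ) - 1) * ((n : ℂ) - 2) * ((n : ℂ) - 3) := by
  rcases n with _ | _ | _ | n <;> simp [Nat.descFactorial]
  ring

theorem cast_descFactorial_three (n : ℕ) : (n.descFactorial 3 : ℂ) =
    (n : ℂ) * ((n : ℂ) - 1) * ((n : ℂ) - 2) := by
  rcases n with _ | _ | n <;> simp [Nat.descFactorial]
  ring

theorem cast_descFactorial_two (n : ℕ) : (n.descFactorial 2 : ℂ) =
    (n : ℂ) * ((n : ℂ) - 1) := by
  rcases n with _ | n <;> simp [Nat.descFactorial]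
  ring

variable (φ : G →* Equiv.Perm Ω)

/-- The number of fixed points. -/
noncomputable def fC (g : G) : ℂ := ((fx (φ g)).card : ℂ)

/-- The number of points on transpositions. -/
noncomputable def sC (g : G) : ℂ := ((sw (φ g)).card : ℂ)

theorem moments (hφ : Trans4 φ) (hn : 4 ≤ Fintype.card Ω) :
    ∑ g : G, fC φ g = (Fintype.card G : ℂ) ∧
    ∑ g : G, fC φ g ^ 2 = 2 * (Fintype.card G : ℂ) ∧
    ∑ g : G, fC φ g ^ 3 = 5 * (Fintype.card G : ℂ) ∧
    ∑ g : G, fC φ g ^ 4 = 15 * (Fintype.card G : ℂ) ∧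
    ∑ g : G, sC φ g = (Fintype.card G : ℂ) ∧
    ∑ g : G, sC φ g * fC φ g = (Fintype.card G : ℂ) ∧
    ∑ g : G, sC φ g * fC φ g ^ 2 = 2 * (Fintype.card G : ℂ) ∧
    ∑ g : G, sC φ g ^ 2 = 3 * (Fintype.card G : ℂ) := by
  have key : ∀ (k : ℕ) (π : Equiv.Perm (Fin k)), k ≤ 4 →
      ∑ g : G, ((twisted k π (φ g)).card : ℂ) = (Fintype.card G : ℂ) := fun k π hk => by
    rw [← Nat.cast_sum, twisted_count φ hφ hk (hk.trans hn) π]
  have k1 := key 1 1 (by norm_num)
  have k2 := key 2 1 (by norm_num)
  have k3 := key 3 1 (by norm_num)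
  have k4 := key 4 1 le_rfl
  have l2 := key 2 (swap 0 1) (by norm_num)
  have l3 := key 3 (swap 0 1) (by norm_num)
  have l4 := key 4 (swap 0 1) le_rfl
  have l5 := key 4 (swap 0 1 * swap 2 3) le_rfl
  simp only [twisted_one, Nat.descFactorial_one, cast_descFactorial_four,
    cast_descFactorial_three, cast_descFactorial_two] at k1 k2 k3 k4
  simp only [twisted_swap_two] at l2
  simp only [twisted_swap_three, Nat.cast_mul] at l3
  simp only [twisted_double] at l5
  have hoff : ∀ g : G, ((fx (φ g)).offDiag.card : ℂ) = fC φ g * (fC φ g - 1) := fun g => by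
    rw [Finset.offDiag_card, Nat.cast_sub (Nat.le_mul_self _)]
    simp only [fC]
    push_cast
    ring
  simp only [twisted_swap_four, Nat.cast_mul, hoff] at l4
  simp only [fC, sC] at *
  set N := (Fintype.card G : ℂ)
  have e2 : ∑ g : G, ((fx (φ g)).card : ℂ) ^ 2 = 2 * N := by
    rw [Finset.sum_congr rfl fun g _ => show ((fx (φ g)).card : ℂ) ^ 2 =
      ((fx (φ g)).card : ℂ) * (((fx (φ g)).card : ℂ) - 1) + ((fx (φ g)).card : ℂ) by ring,
      Finset.sum_add_distrib, k2, k1]
    ring
  have e3 : ∑ g : G, ((fx (φ g)).card : ℂ) ^ 3 = 5 * N := by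
    rw [Finset.sum_congr rfl fun g _ => show ((fx (φ g)).card : ℂ) ^ 3 =
      ((fx (φ g)).card : ℂ) * (((fx (φ g)).card : ℂ) - 1) * (((fx (φ g)).card : ℂ) - 2) +
      3 * ((fx (φ g)).card : ℂ) ^ 2 - 2 * ((fx (φ g)).card : ℂ) by ring,
      Finset.sum_sub_distrib, Finset.sum_add_distrib, ← Finset.mul_sum, ← Finset.mul_sum,
      k3, e2, k1]
    ring
  have e4 : ∑ g : G, ((fx (φ g)).card : ℂ) ^ 4 = 15 * N := by
    rw [Finset.sum_congr rfl fun g _ => show ((fx (φ g)).card : ℂ) ^ 4 =
      ((fx (φ g)).card : ℂ) * (((fx (φ g)).card : ℂ) - 1) * (((fx (φ g)).card : ℂ) - 2) *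
        (((fx (φ g)).card : ℂ) - 3) +
      6 * ((fx (φ g)).card : ℂ) ^ 3 - 11 * ((fx (φ g)).card : ℂ) ^ 2 +
      6 * ((fx (φ g)).card : ℂ) by ring,
      Finset.sum_add_distrib, Finset.sum_sub_distrib, Finset.sum_add_distrib, ← Finset.mul_sum,
      ← Finset.mul_sum, ← Finset.mul_sum, k4, e3, e2, k1]
    ring
  refine ⟨k1, e2, e3, e4, l2, l3, ?_, ?_⟩
  · rw [Finset.sum_congr rfl fun g _ => show
      ((sw (φ g)).card : ℂ) * ((fx (φ g)).card : ℂ) ^ 2 =
      ((sw (φ g)).card : ℂ) * (((fx (φ g)).card : ℂ) * (((fx (φ g)).card : ℂ) - 1)) +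
      ((sw (φ g)).card : ℂ) * ((fx (φ g)).card : ℂ) by ring,
      Finset.sum_add_distrib, l4, l3]
    ring
  · rw [Finset.sum_congr rfl fun g _ => show ((sw (φ g)).card : ℂ) ^ 2 =
      ((sw (φ g)).card : ℂ) * (((sw (φ g)).card : ℂ) - 2) + 2 * ((sw (φ g)).card : ℂ) by ring,
      Finset.sum_add_distrib, ← Finset.mul_sum, l5, l2]
    ring

theorem isCharacter_fC : IsCharacter G (fC φ) := by
  letI : MulAction G Ω := MulAction.compHom Ω φ
  have h : fC φ = Perm.PermChar.permChar G Ω := funext fun g => by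
    simp only [fC, fx, Perm.PermChar.permChar]
    rw [Nat.card_eq_fintype_card, ← Fintype.card_subtype]
    norm_cast
  rw [h]
  exact Perm.PermChar.isCharacter_permChar

/-- The action of permutations on pairs of points. -/
noncomputable def pairHom : Equiv.Perm Ω →* Equiv.Perm {T : Finset Ω // T.card = 2} where
  toFun σ := σ.finsetCongr.subtypeEquiv fun T => by simp [Equiv.finsetCongr_apply]
  map_one' := Equiv.ext fun T => Subtype.ext (Finset.map_refl (s := T.1))
  map_mul' σ τ := Equiv.ext fun T => Subtype.ext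
    (Finset.map_map τ.toEmbedding σ.toEmbedding T.1).symm

theorem fixed_pairs (σ : Equiv.Perm Ω) :
    2 * (fx (pairHom σ)).card = (fx σ).offDiag.card + (sw σ).card := by
  classical
  let A : Finset (Ω × Ω) := (fx σ).offDiag ∪ (sw σ).image fun a => (a, σ a)
  have hdisj : Disjoint (fx σ).offDiag ((sw σ).image fun a => (a, σ a)) := by
    rw [Finset.disjoint_left]
    intro p hp hp'
    obtain ⟨a, ha, rfl⟩ := Finset.mem_image.mp hp'
    exact (mem_sw.mp ha).2 (mem_fx.mp (Finset.mem_offDiag.mp hp).1)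
  have hA : A.card = (fx σ).offDiag.card + (sw σ).card := by
    rw [Finset.card_union_of_disjoint hdisj, Finset.card_image_of_injective]
    exact fun a b h => (Prod.ext_iff.mp h).1
  have hmem : ∀ a b : Ω, (a, b) ∈ A ↔
      a ≠ b ∧ Finset.map σ.toEmbedding {a, b} = ({a, b} : Finset Ω) := by
    intro a b
    simp only [A, Finset.mem_union, Finset.mem_offDiag, Finset.mem_image, mem_fx, mem_sw,
      Prod.mk.injEq]
    constructor
    · rintro (⟨ha, hb, hne⟩ | ⟨c, ⟨h2, hne⟩, rfl, rfl⟩)
      · exact ⟨hne, by simp [Finset.map_insert, ha, hb]⟩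
      · exact ⟨hne.symm, by simp [Finset.map_insert, h2, Finset.pair_comm]⟩
    · rintro ⟨hne, he⟩
      have hsa : σ a ∈ ({a, b} : Finset Ω) := by
        rw [← he]
        simp
      have hsb : σ b ∈ ({a, b} : Finset Ω) := by
        rw [← he]
        simp
      simp only [Finset.mem_insert, Finset.mem_singleton] at hsa hsb
      rcases hsa with ha | ha
      · rcases hsb with hb | hb
        · exact absurd (σ.injective (ha.trans hb.symm)) hne
        · exact Or.inl ⟨ha, hb, hne⟩
      · rcases hsb with hb | hb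
        · exact Or.inr ⟨a, ⟨by rw [ha, hb], by rw [ha]; exact hne.symm⟩, rfl, ha⟩
        · exact absurd (σ.injective (ha.trans hb.symm)) hne
  rw [← hA]
  let m : Ω × Ω → Finset Ω := fun p => {p.1, p.2}
  let B : Finset (Finset Ω) := (fx (pairHom σ)).image Subtype.val
  have hB : B.card = (fx (pairHom σ)).card :=
    Finset.card_image_of_injective _ Subtype.val_injective
  have hBm : ∀ T : Finset Ω, T ∈ B ↔ T.card = 2 ∧ Finset.map σ.toEmbedding T = T := by
    intro T
    simp only [B, Finset.mem_image, mem_fx]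
    constructor
    · rintro ⟨U, hU, rfl⟩
      exact ⟨U.2, congrArg Subtype.val hU⟩
    · rintro ⟨h2, he⟩
      exact ⟨⟨T, h2⟩, Subtype.ext he, rfl⟩
  have hf := Finset.card_eq_sum_card_fiberwise (s := A) (t := B) (f := m) (by
    intro p hp
    obtain ⟨hne, he⟩ := (hmem p.1 p.2).mp hp
    exact (hBm _).mpr ⟨Finset.card_pair hne, he⟩)
  rw [hf, Finset.sum_congr rfl (g := fun _ => 2), Finset.sum_const, smul_eq_mul, mul_comm, hB]
  intro T hT
  obtain ⟨h2, he⟩ := (hBm T).mp hT
  obtain ⟨a, b, hne, rfl⟩ := Finset.card_eq_two.mp h2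
  have : (A.filter fun p => m p = ({a, b} : Finset Ω)) = {(a, b), (b, a)} := by
    ext ⟨x, y⟩
    simp only [Finset.mem_filter, Finset.mem_insert, Finset.mem_singleton, Prod.mk.injEq, m]
    constructor
    · rintro ⟨hxy, hm⟩
      have hne' := ((hmem x y).mp hxy).1
      have hx : x ∈ ({a, b} : Finset Ω) := by rw [← hm]; simp
      have hy : y ∈ ({a, b} : Finset Ω) := by rw [← hm]; simp
      simp only [Finset.mem_insert, Finset.mem_singleton] at hx hy
      rcases hx with rfl | rfl <;> rcases hy with rfl | rfl <;> simp_all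
    · rintro (⟨rfl, rfl⟩ | ⟨rfl, rfl⟩)
      · exact ⟨(hmem _ _).mpr ⟨hne, he⟩, rfl⟩
      · exact ⟨(hmem _ _).mpr ⟨hne.symm, by rw [Finset.pair_comm]; exact he⟩,
          Finset.pair_comm _ _⟩
  rw [this, Finset.card_pair]
  exact fun h => hne (Prod.ext_iff.mp h).1

/-- The permutation character on pairs. -/
noncomputable def pC (g : G) : ℂ := (fC φ g * (fC φ g - 1) + sC φ g) / 2

theorem isCharacter_pC : IsCharacter G (pC φ) := by
  have h : pC φ = fC (pairHom.comp φ) := funext fun g => by
    have h2 : (2 : ℂ) * ((fx (pairHom (φ g))).card : ℂ) =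
        ((fx (φ g)).offDiag.card : ℂ) + ((sw (φ g)).card : ℂ) := by
      exact_mod_cast fixed_pairs (φ g)
    rw [Finset.offDiag_card, Nat.cast_sub (Nat.le_mul_self _)] at h2
    push_cast at h2
    simp only [pC, fC, sC, MonoidHom.comp_apply]
    linear_combination -h2 / 2
  rw [h]
  exact isCharacter_fC _

theorem irr_of_norm_one {a : G → ℂ} (ha : IsGeneralizedCharacter G a)
    (hreal : ∀ g : G, conj (a g) = a g)
    (hsum : ∑ g : G, a g ^ 2 = (Fintype.card G : ℂ)) {d : ℕ} (hd : 0 < d) (h1 : a 1 = (d : ℂ)) :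
    ∃ χ : IrrCharacter G, (χ : G → ℂ) = a := by
  have hn : classInner a a = 1 := by
    rw [classInner, Finset.sum_congr rfl fun g _ => show a g * conj (a g) = a g ^ 2 by
      rw [hreal, sq], hsum, Nat.card_eq_fintype_card]
    exact inv_mul_cancel₀ (Nat.cast_ne_zero.mpr Fintype.card_ne_zero)
  obtain ⟨e, χ, he, hae⟩ := exists_sign_of_norm_one ha hn
  obtain ⟨m, hm⟩ := charOne_eq_natCast (irr_isCharacter χ.2)
  rcases he with rfl | rfl
  · exact ⟨χ, by rw [hae]; simp⟩
  · exfalso
    have h := congrFun hae 1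
    rw [h1, Pi.smul_apply, hm, smul_eq_mul] at h
    have : ((d + m : ℕ) : ℂ) = 0 := by
      push_cast at h ⊢
      linear_combination h
    norm_cast at this
    omega

theorem fx_one : (fx (1 : Equiv.Perm Ω)).card = Fintype.card Ω := by simp [fx]

theorem sw_one : (sw (1 : Equiv.Perm Ω)).card = 0 := by simp [sw]

/-- The standard character. -/
noncomputable def stdC (g : G) : ℂ := fC φ g - 1

/-- The constituent of degree `n(n-3)/2`. -/
noncomputable def symC (g : G) : ℂ := pC φ g - fC φ g

/-- The constituent of degree `(n-1)(n-2)/2`. -/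
noncomputable def altC (g : G) : ℂ := fC φ g * fC φ g + 1 - (fC φ g + fC φ g + pC φ g)

theorem irr_stdC (hφ : Trans4 φ) (hn : 4 ≤ Fintype.card Ω) :
    ∃ χ : IrrCharacter G, (χ : G → ℂ) = stdC φ := by
  obtain ⟨m1, m2, -, -, -, -, -, -⟩ := moments φ hφ hn
  refine irr_of_norm_one ⟨fC φ, fun _ => 1, isCharacter_fC φ, isCharacter_one, rfl⟩
    (fun g => by simp [stdC, fC]) ?_ (d := Fintype.card Ω - 1) (by omega) ?_
  · rw [Finset.sum_congr rfl fun g _ => show stdC φ g ^ 2 = fC φ g ^ 2 - 2 * fC φ g + 1 by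
      simp only [stdC]; ring, Finset.sum_add_distrib, Finset.sum_sub_distrib, ← Finset.mul_sum,
      m1, m2]
    simp
  · simp only [stdC, fC, map_one, fx_one]
    rw [Nat.cast_sub (by omega), Nat.cast_one]

theorem irr_symC (hφ : Trans4 φ) (hn : 4 ≤ Fintype.card Ω) :
    ∃ χ : IrrCharacter G, (χ : G → ℂ) = symC φ := by
  obtain ⟨m1, m2, m3, m4, n1, n2, n3, n4⟩ := moments φ hφ hn
  refine irr_of_norm_one ⟨pC φ, fC φ, isCharacter_pC φ, isCharacter_fC φ, rfl⟩
    (fun g => by simp [symC, pC, fC, sC, map_ofNat]) ?_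
    (d := Fintype.card Ω * (Fintype.card Ω - 3) / 2) ?_ ?_
  · rw [Finset.sum_congr rfl fun g _ => show symC φ g ^ 2 =
      (1 / 4) * fC φ g ^ 4 - (3 / 2) * fC φ g ^ 3 + (9 / 4) * fC φ g ^ 2 +
        (1 / 2) * (sC φ g * fC φ g ^ 2) - (3 / 2) * (sC φ g * fC φ g) + (1 / 4) * sC φ g ^ 2 by
      simp only [symC, pC]; ring]
    simp only [Finset.sum_add_distrib, Finset.sum_sub_distrib, ← Finset.mul_sum, m2, m3, m4, n2,
      n3, n4]
    ring
  · have := Nat.mul_le_mul hn (show 1 ≤ Fintype.card Ω - 3 by omega)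
    omega
  · obtain ⟨r, hr⟩ : 2 ∣ Fintype.card Ω * (Fintype.card Ω - 3) := by
      rcases Nat.even_or_odd (Fintype.card Ω) with h | h
      · exact h.two_dvd.mul_right _
      · exact (Nat.Odd.sub_odd h (by decide)).two_dvd.mul_left _
    have hr' : ((Fintype.card Ω : ℂ) * ((Fintype.card Ω : ℂ) - 3)) = 2 * (r : ℂ) := by
      have := congrArg (fun x : ℕ => (x : ℂ)) hr
      simp only [Nat.cast_mul, Nat.cast_ofNat] at this
      rwa [Nat.cast_sub (by omega)] at this
    rw [hr, Nat.mul_div_cancel_left r two_pos]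
    simp only [symC, pC, fC, sC, map_one, fx_one, sw_one, Nat.cast_zero]
    linear_combination hr' / 2

theorem irr_altC (hφ : Trans4 φ) (hn : 4 ≤ Fintype.card Ω) :
    ∃ χ : IrrCharacter G, (χ : G → ℂ) = altC φ := by
  obtain ⟨m1, m2, m3, m4, n1, n2, n3, n4⟩ := moments φ hφ hn
  refine irr_of_norm_one ⟨fun g => fC φ g * fC φ g + 1, fun g => fC φ g + fC φ g + pC φ g,
    isCharacter_add (isCharacter_mul (isCharacter_fC φ) (isCharacter_fC φ)) isCharacter_one,
    isCharacter_add (isCharacter_add (isCharacter_fC φ) (isCharacter_fC φ)) (isCharacter_pC φ),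
    rfl⟩ (fun g => by simp [altC, pC, fC, sC, map_ofNat]) ?_
    (d := (Fintype.card Ω - 1) * (Fintype.card Ω - 2) / 2) ?_ ?_
  · rw [Finset.sum_congr rfl fun g _ => show altC φ g ^ 2 =
      (1 / 4) * fC φ g ^ 4 - (3 / 2) * fC φ g ^ 3 + (13 / 4) * fC φ g ^ 2 - 3 * fC φ g + 1
        - (1 / 2) * (sC φ g * fC φ g ^ 2) + (3 / 2) * (sC φ g * fC φ g) - sC φ g
        + (1 / 4) * sC φ g ^ 2 by
      simp only [altC, pC]; ring]
    simp only [Finset.sum_add_distrib, Finset.sum_sub_distrib, ← Finset.mul_sum, m1, m2, m3, m4,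
      n1, n2, n3, n4, Finset.sum_const, Finset.card_univ, nsmul_eq_mul, mul_one]
    ring
  · have := Nat.mul_le_mul (show 3 ≤ Fintype.card Ω - 1 by omega)
      (show 2 ≤ Fintype.card Ω - 2 by omega)
    omega
  · obtain ⟨r, hr⟩ : 2 ∣ (Fintype.card Ω - 1) * (Fintype.card Ω - 2) := by
      rcases Nat.even_or_odd (Fintype.card Ω) with h | h
      · obtain ⟨c, hc⟩ := h
        exact (Dvd.intro (c - 1) (by omega)).mul_left _
      · exact (Nat.Odd.sub_odd h (by decide)).two_dvd.mul_right _
    have hr' : ((Fintype.card Ω : ℂ) - 1) * ((Fintype.card Ω : ℂ) - 2) = 2 * (r : ℂ) := by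
      have := congrArg (fun x : ℕ => (x : ℂ)) hr
      simp only [Nat.cast_mul, Nat.cast_ofNat] at this
      rwa [Nat.cast_sub (by omega), Nat.cast_sub (by omega), Nat.cast_one] at this
    rw [hr, Nat.mul_div_cancel_left r two_pos]
    simp only [altC, pC, fC, sC, map_one, fx_one, sw_one, Nat.cast_zero]
    linear_combination hr' / 2

theorem exists_perm_extend {k : ℕ} (t t' : Fin k ↪ Ω) :
    ∃ σ : Equiv.Perm Ω, ∀ i, σ (t i) = t' i := by
  classical
  let e : {x // x ∈ Set.range t} ≃ {x // x ∈ Set.range t'} :=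
    (Equiv.ofInjective t t.injective).symm.trans (Equiv.ofInjective t' t'.injective)
  refine ⟨e.extendSubtype, fun i => ?_⟩
  rw [Equiv.extendSubtype_apply_of_mem e _ ⟨i, rfl⟩]
  simp [e]

theorem trans4_id : Trans4 (MonoidHom.id (Equiv.Perm Ω)) := fun _ _ t t' => exists_perm_extend t t'

theorem trans4_alternating (hn : 6 ≤ Fintype.card Ω) :
    Trans4 (alternatingGroup Ω).subtype := by
  classical
  intro k hk t t'
  obtain ⟨σ, hσ⟩ := exists_perm_extend t t'
  rcases Int.units_eq_one_or (Equiv.Perm.sign σ) with h | h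
  · exact ⟨⟨σ, Equiv.Perm.mem_alternatingGroup.mpr h⟩, hσ⟩
  · obtain ⟨a, ha, b, hb, hab⟩ := Finset.one_lt_card.mp (show
      1 < ((Finset.univ.map t)ᶜ).card by
        rw [Finset.card_compl, Finset.card_map, Finset.card_univ, Fintype.card_fin]
        omega)
    simp only [Finset.mem_compl, Finset.mem_map, Finset.mem_univ, true_and, not_exists] at ha hb
    refine ⟨⟨σ * swap a b, ?_⟩, fun i => ?_⟩
    · rw [Equiv.Perm.mem_alternatingGroup, map_mul, h, Equiv.Perm.sign_swap hab]
      rfl
    · show (σ * swap a b) (t i) = t' i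
      rw [Equiv.Perm.mul_apply, Equiv.swap_apply_of_ne_of_ne (ha i) (hb i), hσ i]

theorem fx_card_of_cycleType (σ : Equiv.Perm Ω) :
    (fx σ).card = Fintype.card Ω - σ.cycleType.sum := by
  rw [Equiv.Perm.sum_cycleType, ← Finset.card_compl]
  congr 1
  ext a
  simp [fx]

theorem sw_empty (σ : Equiv.Perm Ω) (h : ∀ r ∈ σ.cycleType, 3 ≤ r) : (sw σ).card = 0 := by
  classical
  rw [Finset.card_eq_zero, Finset.eq_empty_iff_forall_notMem]
  intro a ha
  obtain ⟨h2, hne⟩ := mem_sw.mp ha
  have hsupp : a ∈ σ.support := Equiv.Perm.mem_support.mpr hne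
  have hmem : σ.cycleOf a ∈ σ.cycleFactorsFinset :=
    Equiv.Perm.cycleOf_mem_cycleFactorsFinset_iff.mpr hsupp
  have hcard : 3 ≤ (σ.cycleOf a).support.card :=
    h _ (by rw [Equiv.Perm.cycleType_def]; exact Multiset.mem_map_of_mem _ hmem)
  have hc : (σ.cycleOf a).IsCycle := Equiv.Perm.isCycle_cycleOf σ hne
  have hsq : σ.cycleOf a ^ 2 = 1 := by
    refine (hc.pow_eq_one_iff' (x := a) ?_).mpr ?_
    · rw [Equiv.Perm.cycleOf_apply_self]
      exact hne
    · rw [Equiv.Perm.cycleOf_pow_apply_self, pow_two, Equiv.Perm.mul_apply]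
      exact h2
  have := orderOf_dvd_of_pow_eq_one hsq
  rw [hc.orderOf] at this
  have := Nat.le_of_dvd two_pos this
  omega

theorem exists_alt_of_cycleType (m : Multiset ℕ) (hsum : m.sum ≤ Fintype.card Ω)
    (h2 : ∀ r ∈ m, 2 ≤ r) (heven : Even (m.sum + Multiset.card m)) :
    ∃ x : alternatingGroup Ω, (x : Equiv.Perm Ω).cycleType = m ∧ orderOf x = m.lcm ∧
      (fx (x : Equiv.Perm Ω)).card = Fintype.card Ω - m.sum := by
  classical
  obtain ⟨σ, hσ⟩ := (Equiv.Perm.exists_with_cycleType_iff Ω).mpr ⟨hsum, h2⟩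
  have hs : σ ∈ alternatingGroup Ω := by
    rw [Equiv.Perm.mem_alternatingGroup, Equiv.Perm.sign_of_cycleType, hσ]
    exact heven.neg_one_pow
  refine ⟨⟨σ, hs⟩, hσ, ?_, ?_⟩
  · rw [Subgroup.orderOf_mk, ← Equiv.Perm.lcm_cycleType, hσ]
  · rw [fx_card_of_cycleType, hσ]

end Cfsg.Agent.Char.AltPair
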