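import Mathlib
import Cfsg.Prelude.Def_Local
import Cfsg.Prelude.Def_CaseTheorems
import Cfsg.Agent.Lib.Char.Burnside
import Cfsg.Agent.Lib.Solv.Component
import Cfsg.Agent.Lib.Lie.JordanAlt
import Cfsg.Agent.Lib.Lead.GLFourTwo
import Cfsg.Agent.Lib.Local.Basics
import Cfsg.Agent.S0256

/-!
Groups of permutations with quasisimple generalised Fitting subgroup containing a Sylow two-subgroup
of the alternating group.
-/

set_option autoImplicit false

namespace Cfsg.Agent.Char.AltOvergroup

open MulAction Subgroup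
open scoped Pointwise

/-- A perfect group has only trivial images of order at most twenty-four. -/
theorem hom_trivial {K : Type*} [Group K] [Group.IsPerfect K] {X : Type*} [Group X] [Finite X]
    (hX : ∀ r : ℕ, r.Prime → r ∣ Nat.card X → r = 2 ∨ r = 3) (f : K →* X) : ∀ k, f k = 1 := by
  haveI : Group.IsSolvable f.range :=
    Cfsg.Agent.Char.isSolvable_of_two_primes Nat.prime_two Nat.prime_three _ rfl
      (fun r hr hrd => hX r hr (hrd.trans (Subgroup.card_subgroup_dvd_card _)))
  have htop : commutator f.range = ⊤ := by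
    have h := Subgroup.map_commutator (⊤ : Subgroup K) ⊤ f.rangeRestrict
    rw [Subgroup.map_top_of_surjective _ f.rangeRestrict_surjective] at h
    rw [_root_.commutator_def, ← h, ← _root_.commutator_def, Group.IsPerfect.commutator_eq_top,
      Subgroup.map_top_of_surjective _ f.rangeRestrict_surjective]
  have hsub : ∀ n, derivedSeries f.range n = ⊤ := fun n => by
    induction n with
    | zero => rfl
    | succ n ih => rw [derivedSeries_succ, ih]; rw [← _root_.commutator_def]; exact htop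
  obtain ⟨n, hn⟩ := Group.IsSolvable.solvable (G := f.range)
  rw [hsub n] at hn
  intro k
  have : (⟨f k, ⟨k, rfl⟩⟩ : f.range) ∈ (⊥ : Subgroup f.range) := hn ▸ Subgroup.mem_top _
  exact congrArg Subtype.val (Subgroup.mem_bot.1 this)

section
variable {G α : Type*} [Group G] [Finite G] [Fintype α] [DecidableEq α] [MulAction G α] [FaithfulSMul G α]
  (K : Subgroup G) [K.Normal]

/-- the elements fixing a set pointwise -/
def fixp (G : Type*) [Group G] {α : Type*} [MulAction G α] (T : Set α) : Subgroup G := fixingSubgroup G T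

variable {K}

theorem normal_dichotomy (hK : Cfsg.IsQuasisimple K) (N : Subgroup G) (hNK : N ≤ K)
    (hN : ∀ k ∈ K, ∀ x ∈ N, k * x * k⁻¹ ∈ N) : N = K ∨ ∀ x ∈ N, ∀ k ∈ K, x * k = k * x := by
  haveI : (N.subgroupOf K).Normal := ⟨fun x hx k => hN k.1 k.2 x.1 hx⟩
  rcases Cfsg.Agent.Solv.qs_normal_le_center_or_top hK (N.subgroupOf K) with h | h
  · exact Or.inl (le_antisymm hNK (Subgroup.subgroupOf_eq_top.1 h))
  · refine Or.inr fun x hx k hk => ?_
    exact (congrArg Subtype.val (Subgroup.mem_center_iff.1 (h (show (⟨x, hNK hx⟩ : K) ∈ N.subgroupOf K from hx))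
      ⟨k, hk⟩)).symm

/-- Commutators landing in a proper invariant subgroup force centralisation. -/
theorem centralizes (hK : Cfsg.IsQuasisimple K) (N : Subgroup G)
    (hN : ∀ k ∈ K, ∀ x ∈ N, k * x * k⁻¹ ∈ N) (hKN : ¬ K ≤ N) {x : G}
    (hx : ∀ k ∈ K, x * k * x⁻¹ * k⁻¹ ∈ N) : ∀ k ∈ K, x * k = k * x := by
  haveI := hK.1
  rcases normal_dichotomy hK (N ⊓ K) inf_le_right (fun k hk y hy => ⟨hN k hk y hy.1,
    K.mul_mem (K.mul_mem hk hy.2) (K.inv_mem hk)⟩) with h | h
  · exact absurd (h ▸ inf_le_left) hKN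
  let d : K →* Subgroup.center K := MonoidHom.mk' (fun k =>
      ⟨⟨x * k.1 * x⁻¹ * k.1⁻¹, K.mul_mem ((inferInstance : K.Normal).conj_mem _ k.2 x) (K.inv_mem k.2)⟩,
        Subgroup.mem_center_iff.2 fun y => Subtype.ext (h _ ⟨hx k.1 k.2,
          K.mul_mem ((inferInstance : K.Normal).conj_mem _ k.2 x) (K.inv_mem k.2)⟩ y.1 y.2).symm⟩)
    (fun a b => Subtype.ext (Subtype.ext (by
      have hb := h _ ⟨hx b.1 b.2, K.mul_mem ((inferInstance : K.Normal).conj_mem _ b.2 x) (K.inv_mem b.2)⟩ a.1⁻¹
        (K.inv_mem a.2)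
      show x * (a.1 * b.1) * x⁻¹ * (a.1 * b.1)⁻¹ = x * a.1 * x⁻¹ * a.1⁻¹ * (x * b.1 * x⁻¹ * b.1⁻¹)
      rw [mul_assoc (x * a.1 * x⁻¹) a.1⁻¹, ← hb]
      group)))
  intro k hk
  have hd : d ⟨k, hk⟩ = 1 := by
    have hker : commutator K ≤ d.ker := by
      rw [_root_.commutator_def, Subgroup.commutator_le]
      intro a _ b _
      have hcb := Subgroup.mem_center_iff.1 (d a).2 (d b : K)
      rw [MonoidHom.mem_ker, commutatorElement_def, map_mul, map_mul, map_mul, map_inv, map_inv]
      have : d a * d b = d b * d a := Subtype.ext hcb.symm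
      rw [this]; group
    rw [Group.IsPerfect.commutator_eq_top] at hker
    exact MonoidHom.mem_ker.1 (hker (Subgroup.mem_top _))
  exact mul_inv_eq_iff_eq_mul.1 (mul_inv_eq_one.1 (congrArg Subtype.val (congrArg Subtype.val hd)))

theorem fix_inv {T : Set α} (hT : ∀ g ∈ K, ∀ z ∈ T, g • z ∈ T) :
    ∀ k ∈ K, ∀ x ∈ fixp G T, k * x * k⁻¹ ∈ fixp G T := by
  intro k hk x hx
  rw [fixp, mem_fixingSubgroup_iff] at hx ⊢
  intro z hz
  rw [mul_smul, mul_smul, hx _ (hT _ (inv_mem hk) z hz), smul_inv_smul]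

/-- An element fixing an invariant set moved by `K` centralises `K`. -/
theorem fixer_centralizes (hK : Cfsg.IsQuasisimple K) {T : Set α} (hT : ∀ g ∈ K, ∀ z ∈ T, g • z ∈ T)
    (hmove : ∃ k ∈ K, ∃ z ∈ T, k • z ≠ z) {x : G} (hx : x ∈ fixp G T) : ∀ k ∈ K, x * k = k * x := by
  refine centralizes hK (fixp G T) (fix_inv hT) ?_ fun k hk => ?_
  · obtain ⟨k, hk, z, hz, hne⟩ := hmove
    exact fun h => hne ((mem_fixingSubgroup_iff G).1 (h hk) z hz)
  · rw [mul_assoc, mul_assoc, ← mul_assoc k]
    exact mul_mem hx (fix_inv hT k hk _ (inv_mem hx))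

/-- A normal subgroup fixing a point fixes its orbit. -/
theorem fix_orbit {a : α} (h : ∀ k ∈ K, k • a = a) : ∀ z ∈ orbit G a, ∀ k ∈ K, k • z = z := by
  rintro _ ⟨g, rfl⟩ k hk
  have := h _ ((inferInstance : K.Normal).conj_mem k hk g⁻¹)
  rw [inv_inv, mul_smul, mul_smul, inv_smul_eq_iff] at this
  exact this

theorem exists_orbit (hK : Cfsg.IsQuasisimple K) (hC : ∀ g : G, (∀ k ∈ K, g * k = k * g) → g ∈ K)
    {q : ℕ} (hq : 2 ≤ q) (B : Fin q → Set α) (hB4 : ∀ i, (B i).ncard = 4)
    (hdis : ∀ i j, i ≠ j → Disjoint (B i) (B j))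
    (hmov : ∀ i, ∀ b ∈ B i, ∀ c ∈ B i, ∃ g : G, (∀ z ∉ B i, g • z = z) ∧ g • b = c ∧ g • c = b)
    (hout : (⋃ i, B i)ᶜ.ncard ≤ 3) :
    ∃ a : α, 8 ≤ (orbit G a).ncard ∧ (orbit G a)ᶜ.ncard ≤ 3 ∧ (∀ i, B i ⊆ orbit G a) ∧
      FaithfulSMul G (orbit G a) ∧ IsPreprimitive G (orbit G a) ∧ Subgroup.center K = ⊥ := by
  classical
  haveI := hK.1
  have hcardS : ∀ (T : Set α), T.ncard ≤ 4 → ∀ r : ℕ, r.Prime → r ∣ Nat.card (Equiv.Perm T) → r = 2 ∨ r = 3 := by
    intro T hT r hr hrd
    rw [Nat.card_perm, Nat.card_coe_set_eq] at hrd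
    have h24 := hrd.trans (Nat.factorial_dvd_factorial hT)
    have hle : r ≤ 4 := (Nat.Prime.dvd_factorial hr).1 h24
    have := hr.two_le
    interval_cases r
    · exact Or.inl rfl
    · exact Or.inr rfl
    · norm_num at hr
  -- `K` fixes small invariant sets
  have hsmall : ∀ T : Set α, T.ncard ≤ 4 → (∀ k ∈ K, ∀ z ∈ T, k • z ∈ T) → ∀ k ∈ K, ∀ z ∈ T, k • z = z := by
    intro T hT hinv k hk z hz
    letI : MulAction K T :=
      { smul := fun k z => ⟨k.1 • z.1, hinv k.1 k.2 z.1 z.2⟩
        one_smul := fun z => Subtype.ext (one_smul G z.1)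
        mul_smul := fun a b z => Subtype.ext (mul_smul a.1 b.1 z.1) }
    have := hom_trivial (hcardS T hT) (MulAction.toPermHom K T) ⟨k, hk⟩
    exact congrArg Subtype.val (DFunLike.congr_fun this ⟨z, hz⟩)
  have horbK : ∀ (a : α), ∀ k ∈ K, ∀ z ∈ orbit G a, k • z ∈ orbit G a := fun a k _ z hz =>
    MulAction.mem_orbit_of_mem_orbit k hz
  -- elements of the small transitive groups do not centralise `K`
  have hnc : ∀ i, ∀ b ∈ B i, (∃ k ∈ K, k • b ≠ b) → ∀ g : G, (∀ z ∉ B i, g • z = z) → g • b ≠ b →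
      ¬ ∀ k ∈ K, g * k = k * g := by
    intro i b hb hmv g hg hgb hc
    obtain ⟨k, hk, hkb⟩ := hmv
    let T : Set α := {z | g • z ≠ z}
    have hT : T.ncard ≤ 4 := by
      rw [← hB4 i]
      exact Set.ncard_le_ncard (fun z (hz : g • z ≠ z) => by_contra fun h => hz (hg z h)) (Set.toFinite _)
    refine hkb (hsmall T hT (fun k hk z (hz : g • z ≠ z) h => hz ?_) k hk b hgb)
    rw [← mul_smul, hc k hk, mul_smul, smul_left_cancel_iff] at h
    exact h
  have hne : ∃ a : α, ∃ k ∈ K, k • a ≠ a := by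
    by_contra h
    push Not at h
    refine Cfsg.Agent.Solv.qs_ne_bot hK ((Subgroup.eq_bot_iff_forall _).2 fun k hk => ?_)
    exact eq_of_smul_eq_smul fun z => by rw [h z k hk, one_smul]
  -- the orbit of each block is moved
  have hBne : ∀ i, ∃ b c, b ∈ B i ∧ c ∈ B i ∧ c ≠ b := fun i => by
    obtain ⟨b, c, hb, hc, hbc⟩ := (Set.one_lt_ncard_iff (Set.toFinite _)).1 (by rw [hB4 i]; norm_num : 1 < (B i).ncard)
    exact ⟨b, c, hb, hc, hbc.symm⟩
  have hBorb : ∀ i, ∀ b ∈ B i, B i ⊆ orbit G b := fun i b hb c hc => by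
    obtain ⟨g, -, hgb, -⟩ := hmov i b hb c hc
    exact ⟨g, hgb⟩
  have hBmoved : ∀ i, ∀ b ∈ B i, ∃ k ∈ K, k • b ≠ b := by
    intro i b hb
    by_contra h
    push Not at h
    have hfix := fix_orbit h
    obtain ⟨a, k0, hk0, hka⟩ := hne
    obtain ⟨c, hc, hcb⟩ : ∃ c ∈ B i, c ≠ b := by
      obtain ⟨u, v, hu, hv, huv⟩ := hBne i
      by_cases e : u = b
      · exact ⟨v, hv, e ▸ huv⟩
      · exact ⟨u, hu, e⟩
    obtain ⟨g, hg, hgb, -⟩ := hmov i b hb c hc
    have hgfix : g ∈ fixp G (orbit G a) := by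
      rw [fixp, mem_fixingSubgroup_iff]
      intro z hz
      refine hg z fun hzB => hka ?_
      have hab : orbit G a = orbit G b :=
        (MulAction.orbit_eq_iff.2 hz).symm.trans (MulAction.orbit_eq_iff.2 (hBorb i b hb hzB))
      exact hfix a (hab ▸ MulAction.mem_orbit_self a) k0 hk0
    have hgK := hC g (fixer_centralizes hK (fun k hk z hz => horbK a k hk z hz)
      ⟨k0, hk0, a, MulAction.mem_orbit_self a, hka⟩ hgfix)
    exact hcb (hgb.symm.trans (h g hgK))
  obtain ⟨b0, c0, hb0, -, -⟩ := hBne ⟨0, by omega⟩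
  set O := orbit G b0 with hO
  have hall : ∀ i, B i ⊆ O := by
    intro i
    by_contra hcon
    obtain ⟨b, c, hb, hc, hcb⟩ := hBne i
    obtain ⟨g, hg, hgb, -⟩ := hmov i b hb c hc
    have hdisj : ∀ z ∈ O, z ∉ B i := fun z hz hzB => hcon fun w hw => by
      rw [hO, ← MulAction.orbit_eq_iff.2 hz]; exact hBorb i z hzB hw
    obtain ⟨k, hk, hkb⟩ := hBmoved ⟨0, by omega⟩ b0 hb0
    exact hnc i b hb (hBmoved i b hb) g hg (hgb.symm ▸ hcb)
      (fixer_centralizes hK (fun k hk z hz => horbK b0 k hk z hz) ⟨k, hk, b0, MulAction.mem_orbit_self b0, hkb⟩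
        ((mem_fixingSubgroup_iff G).2 fun z hz => hg z (hdisj z hz)))
  have hOc : Oᶜ.ncard ≤ 3 :=
    (Set.ncard_le_ncard (Set.compl_subset_compl.2 (Set.iUnion_subset hall)) (Set.toFinite _)).trans hout
  have hO8 : 8 ≤ O.ncard := by
    have h01 : Disjoint (B ⟨0, by omega⟩) (B ⟨1, by omega⟩) := hdis _ _ (by simp)
    have := Set.ncard_union_eq h01 (Set.toFinite _) (Set.toFinite _)
    rw [hB4, hB4] at this
    exact le_of_eq_of_le (this.symm) (Set.ncard_le_ncard (Set.union_subset (hall _) (hall _)) (Set.toFinite _))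
  have hKout : ∀ k ∈ K, ∀ z ∉ O, k • z = z := fun k hk z hz => hsmall Oᶜ (by omega)
    (fun k _ w hw h => hw (by
      have := MulAction.mem_orbit_of_mem_orbit k⁻¹ h
      rwa [inv_smul_smul] at this)) k hk z hz
  obtain ⟨k0, hk0, hk0b⟩ := hBmoved ⟨0, by omega⟩ b0 hb0
  have hKmove : ∀ z ∈ O, ∃ k ∈ K, k • z ≠ z := by
    intro z hz
    by_contra h
    push Not at h
    exact hk0b (fix_orbit h b0 (MulAction.mem_orbit_symm.1 hz) k0 hk0)
  have hfaith : ∀ g : G, (∀ z ∈ O, g • z = z) → g = 1 := by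
    intro g hg
    have hgK := hC g (fixer_centralizes hK (fun k hk z hz => horbK b0 k hk z hz)
      ⟨k0, hk0, b0, MulAction.mem_orbit_self b0, hk0b⟩ ((mem_fixingSubgroup_iff G).2 hg))
    exact eq_of_smul_eq_smul fun z => by
      by_cases hz : z ∈ O
      · rw [hg z hz, one_smul]
      · rw [hKout g hgK z hz, one_smul]
  haveI hF : FaithfulSMul G O := ⟨fun {g h} e => by
    have := hfaith (h⁻¹ * g) fun z hz => by
      have := congrArg Subtype.val (e ⟨z, hz⟩)
      rw [orbit.coe_smul, orbit.coe_smul] at this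
      rw [mul_smul, this, inv_smul_smul]
    exact (inv_mul_eq_one.1 this).symm⟩
  -- no block system
  have hblock : ∀ Δ : Set O, IsBlock G Δ → IsTrivialBlock Δ := by
    intro Δ hΔ
    by_contra hΔt
    simp only [IsTrivialBlock, not_or] at hΔt
    obtain ⟨hsub, huniv⟩ := hΔt
    rw [Set.not_subsingleton_iff] at hsub
    obtain ⟨u0, hu0, v0, hv0, huv0⟩ := hsub
    let M : Subgroup G :=
      { carrier := {x | ∀ g : G, x • (g • Δ) = g • Δ}
        one_mem' := fun g => one_smul G _
        mul_mem' := fun {x y} hx hy g => by rw [mul_smul, hy g, hx g]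
        inv_mem' := fun {x} hx g => by rw [inv_smul_eq_iff]; exact (hx g).symm }
    have hMn : ∀ k ∈ K, ∀ x ∈ M, k * x * k⁻¹ ∈ M := fun k _ x hx g => by
      have h := hx (k⁻¹ * g)
      rw [mul_smul] at h
      rw [mul_smul, mul_smul, h, smul_inv_smul]
    have hpart : ∀ (x g : G), ∀ w ∈ g • Δ, x • w ∈ g • Δ → x • (g • Δ) = g • Δ := by
      intro x g w hw hxw
      rw [← mul_smul]
      refine hΔ.smul_eq_smul_of_nonempty ⟨x • w, ?_, hxw⟩
      rw [mul_smul]
      exact Set.smul_mem_smul_set hw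
    -- the block and the moved set
    set i : Fin q := ⟨0, by omega⟩
    obtain ⟨g0, hg0⟩ := MulAction.exists_smul_eq G u0 ⟨b0, MulAction.mem_orbit_self b0⟩
    have hd2 : 2 ≤ (g0 • Δ).ncard := by
      rw [Set.ncard_smul_set]
      exact (Set.one_lt_ncard_iff (Set.toFinite _)).2 ⟨u0, v0, hu0, hv0, huv0⟩
    -- an element of the small group that lies in the kernel
    have hxM : ∃ x : G, (∀ z ∉ B i, x • z = z) ∧ x • b0 ≠ b0 ∧ x ∈ M := by
      have hin : ∀ (x : G) (Δ' : Set O), (∃ g : G, Δ' = g • Δ) → (∀ z ∉ B i, x • z = z) →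
          ∀ w ∈ Δ', (w : α) ∉ B i → x • Δ' = Δ' := by
        rintro x _ ⟨g, rfl⟩ hx w hw hwB
        refine hpart x g w hw ?_
        rwa [show x • w = w from Subtype.ext (hx _ hwB)]
      set Δ0 := g0 • Δ
      have hb0Δ : (⟨b0, MulAction.mem_orbit_self b0⟩ : O) ∈ Δ0 := hg0 ▸ Set.smul_mem_smul_set hu0
      obtain ⟨c, hcΔ, hcb⟩ : ∃ c ∈ Δ0, c ≠ ⟨b0, MulAction.mem_orbit_self b0⟩ := Set.exists_ne_of_one_lt_ncard hd2 _
      have hcb' : (c : α) ≠ b0 := fun e => hcb (Subtype.ext e)
      by_cases hbig : Δ0.ncard ≤ 2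
      · have hΔ0 : Δ0 = {⟨b0, MulAction.mem_orbit_self b0⟩, c} := (Set.eq_of_subset_of_ncard_le
          (Set.insert_subset hb0Δ (Set.singleton_subset_iff.2 hcΔ)) (by rw [Set.ncard_pair hcb.symm]; exact hbig)
          (Set.toFinite _)).symm
        have hcB : (c : α) ∈ B i := by
          by_contra hcB
          obtain ⟨u, v, hu, hv, huv⟩ := hBne i
          obtain ⟨w, hw, hwb⟩ : ∃ w ∈ B i, w ≠ b0 := by
            by_cases e : u = b0
            · exact ⟨v, hv, e ▸ huv⟩
            · exact ⟨u, hu, e⟩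
          obtain ⟨x, hx, hxb, -⟩ := hmov i b0 hb0 w hw
          have h1 := hin x Δ0 ⟨g0, rfl⟩ hx c hcΔ hcB
          have h2 : x • (⟨b0, MulAction.mem_orbit_self b0⟩ : O) ∈ Δ0 := h1 ▸ Set.smul_mem_smul_set hb0Δ
          rw [hΔ0] at h2
          rcases h2 with h2 | h2
          · exact hwb (hxb.symm.trans (congrArg Subtype.val h2))
          · exact hcB ((hxb.symm.trans (congrArg Subtype.val h2)) ▸ hw)
        obtain ⟨x, hx, hxb, hxc⟩ := hmov i b0 hb0 c hcB
        refine ⟨x, hx, hxb.symm ▸ hcb', fun g => ?_⟩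
        have hΔg : (g • Δ).ncard = 2 := by
          rw [Set.ncard_smul_set, ← Set.ncard_smul_set g0]
          exact le_antisymm hbig hd2
        obtain ⟨w, hw⟩ := Set.nonempty_of_ncard_ne_zero (s := g • Δ) (by omega)
        by_cases hwin : ∃ z ∈ g • Δ, (z : α) ∉ B i
        · obtain ⟨z, hz, hzB⟩ := hwin
          exact hin x _ ⟨g, rfl⟩ hx z hz hzB
        push Not at hwin
        by_cases hmeet : (g • Δ ∩ Δ0).Nonempty
        · rw [hΔ.smul_eq_smul_of_nonempty hmeet]
          refine hpart x g0 _ hb0Δ ?_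
          rw [show x • (⟨b0, MulAction.mem_orbit_self b0⟩ : O) = c from Subtype.ext hxb]; exact hcΔ
        · obtain ⟨w', hw', hww⟩ := Set.exists_ne_of_one_lt_ncard (by omega : 1 < (g • Δ).ncard) w
          have hbw : ∀ z ∈ g • Δ, (z : α) ≠ b0 ∧ (z : α) ≠ c := fun z hz => ⟨fun e => hmeet ⟨z, hz, by
              rw [show z = ⟨b0, MulAction.mem_orbit_self b0⟩ from Subtype.ext e]; exact hb0Δ⟩,
            fun e => hmeet ⟨z, hz, by rw [show z = c from Subtype.ext e]; exact hcΔ⟩⟩
          have hB' : B i = {b0, (c : α), (w : α), (w' : α)} := by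
            refine (Set.eq_of_subset_of_ncard_le ?_ ?_ (Set.toFinite _)).symm
            · simp only [Set.insert_subset_iff, Set.singleton_subset_iff]
              exact ⟨hb0, hcB, hwin w hw, hwin w' hw'⟩
            · rw [hB4, Set.ncard_insert_of_notMem (by
                simp only [Set.mem_insert_iff, Set.mem_singleton_iff, not_or]
                exact ⟨hcb'.symm, (hbw w hw).1.symm, (hbw w' hw').1.symm⟩),
                Set.ncard_insert_of_notMem (by
                simp only [Set.mem_insert_iff, Set.mem_singleton_iff, not_or]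
                exact ⟨(hbw w hw).2.symm, (hbw w' hw').2.symm⟩),
                Set.ncard_pair (fun e => hww (Subtype.ext e).symm)]
          have hxw : x • (w : α) ∈ B i := by
            by_contra e
            have : x • (x • (w : α)) = x • (w : α) := hx _ e
            rw [smul_left_cancel_iff] at this
            exact e (this.symm ▸ hwin w hw)
          rw [hB'] at hxw
          refine hpart x g w hw ?_
          rcases hxw with e | e | e | e
          · rw [← hxc, smul_left_cancel_iff] at e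
            exact absurd e (hbw w hw).2
          · rw [← hxb, smul_left_cancel_iff] at e
            exact absurd e (hbw w hw).1
          · rw [show x • w = w from Subtype.ext e]; exact hw
          · rw [show x • w = w' from Subtype.ext e]; exact hw'
      · push Not at hbig
        obtain ⟨u, v, hu, hv, huv⟩ := hBne i
        obtain ⟨w, hw, hwb⟩ : ∃ w ∈ B i, w ≠ b0 := by
          by_cases e : u = b0
          · exact ⟨v, hv, e ▸ huv⟩
          · exact ⟨u, hu, e⟩
        obtain ⟨x, hx, hxb, -⟩ := hmov i b0 hb0 w hw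
        refine ⟨x, hx, hxb.symm ▸ hwb, fun g => ?_⟩
        by_contra hne'
        have hd : Disjoint (x • (g • Δ)) (g • Δ) := by
          rw [Set.disjoint_iff_inter_eq_empty, ← Set.not_nonempty_iff_eq_empty]
          intro h
          rw [← mul_smul] at h hne'
          exact hne' (hΔ.smul_eq_smul_of_nonempty h)
        have hall' : Subtype.val '' (x • (g • Δ) ∪ g • Δ) ⊆ B i := by
          rintro _ ⟨z, hz | hz, rfl⟩ <;> by_contra hzB
          · have hxz : x • z = z := Subtype.ext (hx _ hzB)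
            obtain ⟨z', hz', hzz'⟩ := Set.mem_smul_set.1 hz
            rw [← hxz, smul_left_cancel_iff] at hzz'
            exact Set.disjoint_left.1 hd hz (hzz' ▸ hz')
          · exact hne' (hpart x g z hz (by rw [show x • z = z from Subtype.ext (hx _ hzB)]; exact hz))
        have := Set.ncard_le_ncard hall' (Set.toFinite _)
        rw [Set.ncard_image_of_injective _ Subtype.val_injective, Set.ncard_union_eq hd (Set.toFinite _) (Set.toFinite _),
          Set.ncard_smul_set, Set.ncard_smul_set, hB4] at this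
        rw [show Δ0 = g0 • Δ from rfl, Set.ncard_smul_set] at hbig
        omega
    obtain ⟨x, hx, hxb, hxM⟩ := hxM
    by_cases hKM : K ≤ M
    · -- some translate avoids the moved set, and `K` acts on it
      obtain ⟨zz, hzz⟩ : ∃ g : G, ∀ w ∈ g • Δ, x • w = w := by
        by_contra hcon
        push Not at hcon
        -- every translate meets the four moved points in two points
        set T : Set O := {w | x • w ≠ w}
        have hT4 : T.ncard ≤ 4 := by
          rw [← hB4 i, ← Set.ncard_image_of_injective T Subtype.val_injective]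
          refine Set.ncard_le_ncard ?_ (Set.toFinite _)
          rintro _ ⟨w, hw, rfl⟩
          by_contra h
          exact hw (Subtype.ext (hx _ h))
        have htwo : ∀ g : G, 2 ≤ (T ∩ g • Δ).ncard := fun g => by
          obtain ⟨w, hw, hxw⟩ := hcon g
          refine (Set.one_lt_ncard_iff (Set.toFinite _)).2 ⟨w, x • w, ⟨hxw, hw⟩, ⟨fun e => hxw (by
            rwa [smul_left_cancel_iff] at e), ?_⟩, hxw.symm⟩
          exact hxM g ▸ Set.smul_mem_smul_set hw
        -- two other translates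
        obtain ⟨w1, hw1⟩ : ∃ w : O, w ∉ g0 • Δ := by
          by_contra h
          push Not at h
          exact huniv ((Set.smul_set_eq_univ (a := g0)).1 (Set.eq_univ_of_forall h))
        obtain ⟨g1, hg1⟩ := MulAction.exists_smul_eq G u0 w1
        have hw1' : w1 ∈ g1 • Δ := hg1 ▸ Set.smul_mem_smul_set hu0
        have hd01 : Disjoint (g0 • Δ) (g1 • Δ) := (hΔ.smul_eq_smul_or_disjoint g0 g1).resolve_left
          fun e => hw1 (e ▸ hw1')
        -- every point lies in one of these two translates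
        have hcov : ∀ w : O, w ∈ g0 • Δ ∪ g1 • Δ := by
          intro w
          by_contra hw
          simp only [Set.mem_union, not_or] at hw
          obtain ⟨g2, hg2⟩ := MulAction.exists_smul_eq G u0 w
          have hw' : w ∈ g2 • Δ := hg2 ▸ Set.smul_mem_smul_set hu0
          have hd02 : Disjoint (g0 • Δ) (g2 • Δ) := (hΔ.smul_eq_smul_or_disjoint g0 g2).resolve_left
            fun e => hw.1 (e ▸ hw')
          have hd12 : Disjoint (g1 • Δ) (g2 • Δ) := (hΔ.smul_eq_smul_or_disjoint g1 g2).resolve_left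
            fun e => hw.2 (e ▸ hw')
          have e1 := Set.ncard_union_eq (hd01.mono (Set.inter_subset_right (s := T)) (Set.inter_subset_right (s := T)))
            (Set.toFinite _) (Set.toFinite _)
          have e2 := Set.ncard_union_eq (s := T ∩ g0 • Δ ∪ T ∩ g1 • Δ) (t := T ∩ g2 • Δ)
            (Disjoint.union_left (hd02.mono Set.inter_subset_right Set.inter_subset_right)
              (hd12.mono Set.inter_subset_right Set.inter_subset_right)) (Set.toFinite _) (Set.toFinite _)
          have := Set.ncard_le_ncard (show T ∩ g0 • Δ ∪ T ∩ g1 • Δ ∪ T ∩ g2 • Δ ⊆ T from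
            Set.union_subset (Set.union_subset Set.inter_subset_left Set.inter_subset_left) Set.inter_subset_left)
            (Set.toFinite _)
          have := htwo g0
          have := htwo g1
          have := htwo g2
          omega
        -- the four point set lies in one translate, as `K` stabilises both
        have hbig : 4 ≤ (g0 • Δ).ncard := by
          have e := Set.ncard_union_eq hd01 (Set.toFinite _) (Set.toFinite _)
          rw [Set.eq_univ_of_forall hcov, Set.ncard_univ, Set.ncard_smul_set, Set.ncard_smul_set,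
            Nat.card_coe_set_eq] at e
          rw [Set.ncard_smul_set]
          omega
        have hBin : ∀ c ∈ B i, ∀ hc : c ∈ O, (⟨c, hc⟩ : O) ∈ g0 • Δ := by
          intro c hc hcO
          obtain ⟨y, hy, hyb, -⟩ := hmov i b0 hb0 c hc
          have hyM : y • (g0 • Δ) = g0 • Δ := by
            by_contra hne'
            have hd : Disjoint (y • (g0 • Δ)) (g0 • Δ) := by
              rw [Set.disjoint_iff_inter_eq_empty, ← Set.not_nonempty_iff_eq_empty]
              intro h
              rw [← mul_smul] at h hne'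
              exact hne' (hΔ.smul_eq_smul_of_nonempty h)
            have hall' : Subtype.val '' (y • (g0 • Δ) ∪ g0 • Δ) ⊆ B i := by
              rintro _ ⟨z, hz | hz, rfl⟩ <;> by_contra hzB
              · have hyz : y • z = z := Subtype.ext (hy _ hzB)
                obtain ⟨z', hz', hzz'⟩ := Set.mem_smul_set.1 hz
                rw [← hyz, smul_left_cancel_iff] at hzz'
                exact Set.disjoint_left.1 hd hz (hzz' ▸ hz')
              · exact hne' (hpart y g0 z hz (by rw [show y • z = z from Subtype.ext (hy _ hzB)]; exact hz))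
            have := Set.ncard_le_ncard hall' (Set.toFinite _)
            rw [Set.ncard_image_of_injective _ Subtype.val_injective,
              Set.ncard_union_eq hd (Set.toFinite _) (Set.toFinite _), Set.ncard_smul_set, hB4] at this
            omega
          have : y • (⟨b0, MulAction.mem_orbit_self b0⟩ : O) ∈ g0 • Δ := by
            have h := Set.smul_mem_smul_set (a := y) (hg0 ▸ Set.smul_mem_smul_set (a := g0) hu0)
            rwa [hyM] at h
          rwa [show y • (⟨b0, MulAction.mem_orbit_self b0⟩ : O) = ⟨c, hcO⟩ from Subtype.ext hyb] at this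
        obtain ⟨w, hw, hxw⟩ := hcon g1
        refine Set.disjoint_left.1 hd01 ?_ hw
        by_cases hwB : (w : α) ∈ B i
        · exact hBin w hwB w.2
        · exact absurd (Subtype.ext (hx _ hwB)) hxw
      refine hnc i b0 hb0 (hBmoved i b0 hb0) x hx hxb (fixer_centralizes hK (T := Subtype.val '' (zz • Δ)) ?_ ?_ ?_)
      · rintro k hk _ ⟨w, hw, rfl⟩
        exact ⟨k • w, hKM hk zz ▸ Set.smul_mem_smul_set hw, rfl⟩
      · obtain ⟨k, hk, hkz⟩ := hKmove ((zz • u0 : O) : α) (zz • u0).2
        exact ⟨k, hk, _, ⟨zz • u0, Set.smul_mem_smul_set hu0, rfl⟩, hkz⟩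
      · refine (mem_fixingSubgroup_iff G).2 ?_
        rintro _ ⟨w, hw, rfl⟩
        exact congrArg Subtype.val (hzz w hw)
    · refine hnc i b0 hb0 (hBmoved i b0 hb0) x hx hxb (centralizes hK M hMn hKM fun k hk => ?_)
      rw [mul_assoc, mul_assoc, ← mul_assoc k]
      exact mul_mem hxM (hMn k hk _ (inv_mem hxM))
  haveI hprim : IsPreprimitive G O := ⟨fun {Δ} hΔ => hblock Δ hΔ⟩
  refine ⟨b0, hO8, hOc, hall, hF, hprim, ?_⟩
  -- the centre is semiregular and normal
  rw [Subgroup.eq_bot_iff_forall]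
  intro z hz
  by_contra hz1
  haveI : ((Subgroup.center K).map K.subtype).Normal := inferInstance
  obtain ⟨a, ha⟩ : ∃ a : O, (z : G) • a ≠ a := by
    by_contra h
    push Not at h
    exact hz1 (Subtype.ext (hfaith z.1 fun w hw => congrArg Subtype.val (h ⟨w, hw⟩)))
  let Z := (Subgroup.center K).map K.subtype
  haveI : Z.Normal := inferInstance
  have hZt : ∀ w : O, ∃ y ∈ Z, y • a = w := by
    have hb : IsBlock G (orbit Z a) := MulAction.IsBlock.orbit_of_normal a
    have hb1 : orbit Z a = Set.univ := by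
      rcases hblock _ hb with h | h
      · exact absurd (h ⟨⟨z.1, ⟨z, hz, rfl⟩⟩, rfl⟩ (MulAction.mem_orbit_self a)) ha
      · exact h
    intro w
    obtain ⟨⟨y, hy⟩, hyw⟩ : w ∈ orbit Z a := hb1 ▸ Set.mem_univ w
    exact ⟨y, hy, hyw⟩
  -- stabilisers in `K` are trivial, so `K` is a homomorphic image of the centre
  have hKZ : ∀ k ∈ K, k ∈ Z := by
    intro k hk
    obtain ⟨y, hy, hyk⟩ := hZt (k • a)
    obtain ⟨y', hy', rfl⟩ := hy
    have hcomm : ∀ w : O, (y'.1⁻¹ * k) • w = w := by
      intro w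
      obtain ⟨_, ⟨v, hv, rfl⟩, rfl⟩ := hZt w
      have hcv : (y'.1⁻¹ * k) * v.1 = v.1 * (y'.1⁻¹ * k) :=
        congrArg Subtype.val (Subgroup.mem_center_iff.1 hv ⟨y'.1⁻¹ * k, mul_mem (inv_mem y'.2) hk⟩)
      show (y'.1⁻¹ * k) • (v.1 • a) = v.1 • a
      rw [← mul_smul, hcv, mul_smul, mul_smul y'.1⁻¹, ← show y'.1 • a = k • a from hyk, inv_smul_smul]
    have := hfaith _ fun w hw => congrArg Subtype.val (hcomm ⟨w, hw⟩)
    exact inv_mul_eq_one.1 this ▸ ⟨y', hy', rfl⟩
  refine Cfsg.Agent.Solv.qs_center_ne_top hK (eq_top_iff.2 fun k _ => ?_)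
  obtain ⟨v, hv, hvk⟩ := hKZ k.1 k.2
  rwa [show k = v from Subtype.ext hvk.symm]

end

end Cfsg.Agent.Char.AltOvergroup
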