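import Mathlib
import Cfsg.Agent.Lib.Char.AltSylowOvergroup

/-!
Overgroups of a Sylow two-subgroup of the alternating group: identification.
-/

set_option autoImplicit false

namespace Cfsg.Agent.Char.AltOvergroup

open MulAction Subgroup
open scoped Pointwise

theorem alt_iso {G β : Type*} [Group G] [Finite G] [Fintype β] [DecidableEq β] [MulAction G β]
    [FaithfulSMul G β] {K : Subgroup G} [K.Normal] (hK : Cfsg.IsQuasisimple K) (h5 : 5 ≤ Nat.card β)
    (hC : ∀ g : G, (∀ k ∈ K, g * k = k * g) → g ∈ K) (hZ : Subgroup.center K = ⊥)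
    (hall : ∀ σ : Equiv.Perm β, Equiv.Perm.sign σ = 1 → ∃ g : G, MulAction.toPerm g = σ) :
    Nonempty (K ≃* alternatingGroup (Fin (Nat.card β))) := by
  classical
  haveI := hK.1
  let N : Subgroup G := (alternatingGroup β).comap (toPermHom G β)
  have hinj : Function.Injective (toPermHom G β) := MulAction.toPerm_injective
  let f : N →* alternatingGroup β := ((toPermHom G β).comp N.subtype).codRestrict _ fun g => g.2
  have hf : Function.Bijective f := by
    refine ⟨fun a b h => Subtype.ext (hinj (congrArg Subtype.val h)), fun ⟨σ, hσ⟩ => ?_⟩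
    obtain ⟨g, hg⟩ := hall σ (Equiv.Perm.mem_alternatingGroup.1 hσ)
    exact ⟨⟨g, show toPermHom G β g ∈ alternatingGroup β by rw [show toPermHom G β g = σ from hg]; exact hσ⟩,
      Subtype.ext hg⟩
  let e : N ≃* alternatingGroup β := MulEquiv.ofBijective f hf
  haveI : N.Normal := inferInstance
  haveI hs : IsSimpleGroup (alternatingGroup β) := alternatingGroup.isSimpleGroup h5
  haveI : Nontrivial N := e.toEquiv.nontrivial
  haveI : IsSimpleGroup N := IsSimpleGroup.isSimpleGroup_of_surjective e.symm.toMonoidHom e.symm.surjective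
  have hNK : N ≤ K := by
    haveI : (K.subgroupOf N).Normal := inferInstance
    rcases (inferInstance : (K.subgroupOf N).Normal).eq_bot_or_eq_top with h | h
    · exfalso
      have hNC : ∀ n ∈ N, ∀ k ∈ K, n * k = k * n := by
        intro n hn k hk
        have hm : n * k * n⁻¹ * k⁻¹ ∈ N ⊓ K := ⟨by
          rw [mul_assoc, mul_assoc, ← mul_assoc k]
          exact N.mul_mem hn ((inferInstance : N.Normal).conj_mem _ (N.inv_mem hn) k),
          K.mul_mem ((inferInstance : K.Normal).conj_mem k hk n) (K.inv_mem hk)⟩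
        have : (⟨_, hm.1⟩ : N) ∈ K.subgroupOf N := hm.2
        rw [h, Subgroup.mem_bot] at this
        exact mul_inv_eq_iff_eq_mul.1 (mul_inv_eq_one.1 (congrArg Subtype.val this))
      obtain ⟨⟨n, hn⟩, hn1⟩ := exists_ne (1 : N)
      have hnK := hC n (hNC n hn)
      have : (⟨n, hnK⟩ : K) ∈ Subgroup.center K := Subgroup.mem_center_iff.2 fun y => Subtype.ext (hNC n hn y.1 y.2).symm
      rw [hZ, Subgroup.mem_bot] at this
      have e' := congrArg (fun y : K => (y : G)) this
      exact hn1 (Subtype.ext e')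
    · exact Subgroup.subgroupOf_eq_top.1 h
  have hNK' : N = K := by
    rcases normal_dichotomy hK N hNK (fun k _ x hx => (inferInstance : N.Normal).conj_mem x hx k) with h | h
    · exact h
    · exfalso
      obtain ⟨⟨n, hn⟩, hn1⟩ := exists_ne (1 : N)
      have : (⟨n, hNK hn⟩ : K) ∈ Subgroup.center K := Subgroup.mem_center_iff.2 fun y => Subtype.ext (h n hn y.1 y.2).symm
      rw [hZ, Subgroup.mem_bot] at this
      have e' := congrArg (fun y : K => (y : G)) this
      exact hn1 (Subtype.ext e')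
  exact ⟨((MulEquiv.subgroupCongr hNK'.symm).trans e).trans
    (Equiv.altCongrHom (Finite.equivFin β))⟩

/-- Degree eight. -/
theorem eight_full {G β : Type*} [Group G] [Finite G] [Fintype β] [DecidableEq β] [MulAction G β]
    [FaithfulSMul G β] {K : Subgroup G} [K.Normal] (hK : Cfsg.IsQuasisimple K) (h8 : Nat.card β = 8)
    (hC : ∀ g : G, (∀ k ∈ K, g * k = k * g) → g ∈ K) (hZ : Subgroup.center K = ⊥)
    (htr : IsPretransitive G β) (hmove : ∀ a : β, ∃ k ∈ K, k • a ≠ a)
    (h64 : 64 ∣ Nat.card ((alternatingGroup β).comap (toPermHom G β))) :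
    ∀ σ : Equiv.Perm β, Equiv.Perm.sign σ = 1 → ∃ g : G, MulAction.toPerm g = σ := by
  classical
  haveI := hK.1
  set G' := (alternatingGroup β).comap (toPermHom G β) with hG'
  haveI : G'.Normal := inferInstance
  have hKG' : K ≤ G' := fun k hk => by
    have := hom_trivial (X := ℤˣ) (fun r hr hrd => Or.inl ((Nat.prime_dvd_prime_iff_eq hr Nat.prime_two).1
      (by rwa [Nat.card_eq_fintype_card, Fintype.card_units_int] at hrd)))
      (Equiv.Perm.sign.comp ((toPermHom G β).comp K.subtype)) ⟨k, hk⟩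
    exact Equiv.Perm.mem_alternatingGroup.2 this
  obtain ⟨E0⟩ := Cfsg.Agent.S0256.result (F := ZMod 2) (ZMod.card 2)
  obtain ⟨E1⟩ := Cfsg.Agent.Lead.GLFourTwo.gl_psl (n := Fin 4)
  let tr : alternatingGroup β ≃* alternatingGroup (Fin 8) :=
    Equiv.altCongrHom ((Finite.equivFin β).trans (finCongr h8))
  let f : G' →* alternatingGroup β := ((toPermHom G β).comp G'.subtype).codRestrict _ fun g => g.2
  have hf : Function.Injective f := fun a b h => Subtype.ext (MulAction.toPerm_injective (congrArg Subtype.val h))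
  let j : G' →* GL (Fin 4) (ZMod 2) := (E1.trans E0).symm.toMonoidHom.comp (tr.toMonoidHom.comp f)
  have hj : Function.Injective j := (E1.trans E0).symm.injective.comp (tr.injective.comp hf)
  let eJ : G' ≃* j.range := MonoidHom.ofInjective hj
  -- normal subgroups of small type are trivial
  have hKeven : 2 ∣ Nat.card K := by
    obtain ⟨a⟩ : Nonempty β := (Nat.card_pos_iff.1 (by omega)).1
    have hb : IsBlock G (orbit K a) := MulAction.IsBlock.orbit_of_normal a
    obtain ⟨k, hk, hka⟩ := hmove a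
    have h1 : 1 < (orbit K a).ncard :=
      (Set.one_lt_ncard_iff (Set.toFinite _)).2 ⟨k • a, a, ⟨⟨k, hk⟩, rfl⟩, MulAction.mem_orbit_self a, hka⟩
    have hdvd : (orbit K a).ncard ∣ 8 := h8 ▸ hb.ncard_dvd_card ⟨a, MulAction.mem_orbit_self a⟩
    have h2 : 2 ∣ (orbit K a).ncard := by
      obtain ⟨i, hi, e⟩ := (Nat.dvd_prime_pow Nat.prime_two).1 (show (orbit K a).ncard ∣ 2 ^ 3 from hdvd)
      rcases i with _ | i
      · rw [e] at h1; norm_num at h1
      · rw [e, pow_succ]; exact dvd_mul_left 2 _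
    refine h2.trans ?_
    rw [← MulAction.index_stabilizer, Subgroup.index]
    exact Subgroup.card_quotient_dvd_card _
  have hsmallnormal : ∀ R : Subgroup G', R.Normal → ((Nat.card R).Coprime 2 ∨ IsPGroup 2 R) → R = ⊥ := by
    intro R hR htype
    set R' := R.map G'.subtype
    have hRinv : ∀ k ∈ K, ∀ x ∈ R', k * x * k⁻¹ ∈ R' := by
      rintro k hk _ ⟨x, hx, rfl⟩
      exact ⟨⟨k, hKG' hk⟩ * x * ⟨k, hKG' hk⟩⁻¹, hR.conj_mem x hx _, rfl⟩
    rcases normal_dichotomy hK (R' ⊓ K) inf_le_right (fun k hk y hy => ⟨hRinv k hk y hy.1,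
      K.mul_mem (K.mul_mem hk hy.2) (K.inv_mem hk)⟩) with h | h
    · exfalso
      have hKR : K ≤ R' := h ▸ inf_le_left
      have hd : Nat.card K ∣ Nat.card R := by
        rw [← Subgroup.card_map_of_injective G'.subtype_injective]
        exact Subgroup.card_dvd_of_le hKR
      rcases htype with h2 | h2
      · exact (Nat.prime_two.coprime_iff_not_dvd).1 h2.symm (hKeven.trans hd)
      · obtain ⟨i, hi⟩ := IsPGroup.iff_card.1 h2
        haveI : Fact (Nat.Prime 2) := ⟨Nat.prime_two⟩
        have hid := hom_trivial (K := K) (X := K) (fun r hr hrd => Or.inl ((Nat.prime_dvd_prime_iff_eq hr Nat.prime_two).1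
          (hr.dvd_of_dvd_pow (show r ∣ 2 ^ i by rw [← hi]; exact hrd.trans hd)))) (MonoidHom.id K)
        haveI := Cfsg.Agent.Solv.qs_nontrivial hK
        obtain ⟨k, hk⟩ := exists_ne (1 : K)
        exact hk (hid k)
    · rw [Subgroup.eq_bot_iff_forall]
      intro x hx
      have hbot : ∀ y ∈ R' ⊓ K, y = 1 := fun y hy => by
        have : (⟨y, hy.2⟩ : K) ∈ Subgroup.center K :=
          Subgroup.mem_center_iff.2 fun z => Subtype.ext (h y hy z.1 z.2).symm
        rw [hZ, Subgroup.mem_bot] at this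
        exact congrArg Subtype.val this
      have hxR : (x : G) ∈ R' := ⟨x, hx, rfl⟩
      have hcomm : ∀ k ∈ K, (x : G) * k = k * x := fun k hk => by
        have hm : (x : G) * k * (x : G)⁻¹ * k⁻¹ ∈ R' ⊓ K := ⟨by
          rw [mul_assoc, mul_assoc, ← mul_assoc k]
          exact R'.mul_mem hxR (hRinv k hk _ (R'.inv_mem hxR)),
          K.mul_mem ((inferInstance : K.Normal).conj_mem k hk _) (K.inv_mem hk)⟩
        exact mul_inv_eq_iff_eq_mul.1 (mul_inv_eq_one.1 (hbot _ hm))
      exact Subtype.ext (hbot _ ⟨hxR, hC _ hcomm⟩)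
  have htriv : ∀ (R : Subgroup j.range), R.Normal → ((Nat.card R).Coprime 2 ∨ IsPGroup 2 R) → R = ⊥ := by
    intro R hR ht
    have h := hsmallnormal (R.comap eJ.toMonoidHom) (hR.comap _) (by
      have hc : Nat.card (R.comap eJ.toMonoidHom) = Nat.card R :=
        Nat.card_congr (eJ.toEquiv.subtypeEquiv fun x => Iff.rfl)
      rcases ht with h | h
      · exact Or.inl (hc ▸ h)
      · exact Or.inr (h.comap_of_injective _ eJ.injective))
    rw [Subgroup.eq_bot_iff_forall] at h ⊢
    intro x hx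
    obtain ⟨y, rfl⟩ := eJ.surjective x
    rw [h y hx, map_one]
  have hne : j.range ≠ ⊥ := by
    intro h
    haveI := Cfsg.Agent.Solv.qs_nontrivial hK
    obtain ⟨k, hk⟩ := exists_ne (1 : K)
    have : j ⟨k.1, hKG' k.2⟩ ∈ (⊥ : Subgroup _) := h ▸ ⟨_, rfl⟩
    rw [Subgroup.mem_bot, ← map_one j] at this
    exact hk (Subtype.ext (congrArg (fun g : G' => (g : G)) (hj this)))
  have hcard : Nat.card G' = 20160 := by
    have h := Cfsg.Agent.Lead.GLFourTwo.main j.range hne
      (by rw [Cfsg.pPrimeCore, sSup_eq_bot]; exact fun R hR => htriv R hR.1 (Or.inl hR.2))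
      (by rw [Cfsg.pCore, sSup_eq_bot]; exact fun R hR => htriv R hR.1 (Or.inr hR.2))
    rw [Nat.card_congr eJ.toEquiv] at h64 ⊢
    rcases h with ⟨n, h1, h2, ⟨e⟩⟩ | ⟨⟨e⟩⟩ | ⟨⟨e⟩⟩ | ⟨⟨e⟩⟩ <;> rw [Nat.card_congr e.toEquiv] at h64 ⊢
    · haveI : Nontrivial (Fin n) := Fin.nontrivial_iff_two_le.2 (by omega)
      rw [nat_card_alternatingGroup, Nat.card_fin] at h64 ⊢
      interval_cases n <;> simp_all [Nat.factorial]
    · rw [Nat.card_perm, Nat.card_fin] at h64; simp [Nat.factorial] at h64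
    · rw [Nat.card_perm, Nat.card_fin] at h64; simp [Nat.factorial] at h64
    · rw [Nat.card_eq_fintype_card] at h64
      rw [← Nat.card_eq_fintype_card, Matrix.card_GL_field] at h64
      simp [Fin.prod_univ_three, ZMod.card] at h64
  have hfs : Function.Surjective f := by
    haveI : Nontrivial β := Finite.one_lt_card_iff_nontrivial.1 (by omega)
    exact ((Nat.bijective_iff_injective_and_card f).2 ⟨hf, by
      rw [hcard, nat_card_alternatingGroup, h8]; rfl⟩).surjective
  intro σ hσ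
  obtain ⟨g, hg⟩ := hfs ⟨σ, Equiv.Perm.mem_alternatingGroup.2 hσ⟩
  exact ⟨g.1, congrArg Subtype.val hg⟩

theorem v4_mul : ∀ a b : Equiv.Perm (Fin 4), a * a = 1 → Equiv.Perm.sign a = 1 → b * b = 1 →
    Equiv.Perm.sign b = 1 → a * b * (a * b) = 1 := by decide +kernel

/-- The double transpositions on four points. -/
def V4 : Subgroup (Equiv.Perm (Fin 4)) where
  carrier := {σ | σ * σ = 1 ∧ Equiv.Perm.sign σ = 1}
  one_mem' := by simp
  mul_mem' := fun {a b} ha hb => by
    exact ⟨v4_mul a b ha.1 ha.2 hb.1 hb.2, by rw [map_mul, ha.2, hb.2, one_mul]⟩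
  inv_mem' := fun {a} ha => by
    obtain ⟨h1, h2⟩ := ha
    exact ⟨by rw [inv_eq_of_mul_eq_one_right h1]; exact h1, by rw [map_inv, h2, inv_one]⟩

theorem v4_trans : ∀ j j' : Fin 4, ∃ σ : Equiv.Perm (Fin 4),
    (σ * σ = 1 ∧ Equiv.Perm.sign σ = 1) ∧ σ j = j' ∧ σ j' = j := by decide +kernel

/-- The assembled statement. -/
theorem gfit_alt (n : ℕ) (hn : 8 ≤ n) (H : Subgroup (Equiv.Perm (Fin n)))
    (hF : Cfsg.IsQuasisimple ↥(Cfsg.generalizedFittingSubgroup ↥H))
    (P : Sylow 2 ↥(alternatingGroup (Fin n)))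
    (hP : ((P : Subgroup ↥(alternatingGroup (Fin n))).map (alternatingGroup (Fin n)).subtype) ≤ H) :
    ∃ m : ℕ, (m = n - 3 ∨ m = n - 2 ∨ m = n - 1 ∨ m = n) ∧
      Nonempty (↥(Cfsg.generalizedFittingSubgroup ↥H) ≃* ↥(alternatingGroup (Fin m))) := by
  classical
  haveI : Fact (Nat.Prime 2) := ⟨Nat.prime_two⟩
  haveI : (Cfsg.generalizedFittingSubgroup ↥H).Normal := Cfsg.Agent.Local.gfit_normal
  set K := Cfsg.generalizedFittingSubgroup ↥H
  have hC : ∀ g : H, (∀ k ∈ K, g * k = k * g) → g ∈ K := fun g hg =>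
    Cfsg.Agent.Solv.centralizer_gfit_le (Subgroup.mem_centralizer_iff.2 fun k hk => (hg k hk).symm)
  set q := n / 4
  let emb : Fin q × Fin 4 ↪ Fin n := finProdFinEquiv.toEmbedding.trans (Fin.castLEEmb (Nat.div_mul_le_self n 4))
  let pr : (Fin q → V4) →* Equiv.Perm (Fin q × Fin 4) :=
    MonoidHom.mk' (fun v => Equiv.prodCongrRight fun i => (v i : Equiv.Perm (Fin 4))) (fun v w => by
      ext ⟨i, j⟩ <;> simp)
  let ψ : (Fin q → V4) →* Equiv.Perm (Fin n) := (Equiv.Perm.viaEmbeddingHom emb).comp pr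
  have hψ : ∀ v i j, ψ v (emb (i, j)) = emb (i, (v i : Equiv.Perm (Fin 4)) j) := fun v i j => by
    show Equiv.Perm.viaEmbedding (pr v) emb (emb (i, j)) = _
    rw [Equiv.Perm.viaEmbedding_apply]; rfl
  have hψout : ∀ v z, z ∉ Set.range emb → ψ v z = z := fun v z hz =>
    Equiv.Perm.viaEmbedding_apply_of_notMem _ _ _ hz
  have hψA : ψ.range ≤ alternatingGroup (Fin n) := by
    rintro _ ⟨v, rfl⟩
    rw [Equiv.Perm.mem_alternatingGroup]
    show Equiv.Perm.sign (Equiv.Perm.viaEmbedding (pr v) emb) = 1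
    rw [Equiv.Perm.viaEmbedding, Equiv.Perm.sign_extendDomain]
    show Equiv.Perm.sign (Equiv.prodCongrRight fun i => (v i : Equiv.Perm (Fin 4))) = 1
    rw [Equiv.Perm.sign_prodCongrRight]
    exact Finset.prod_eq_one fun i _ => (v i).2.2
  have hW2 : IsPGroup 2 (ψ.range.subgroupOf (alternatingGroup (Fin n))) := fun g => by
    obtain ⟨v, hv⟩ := g.2
    refine ⟨1, Subtype.ext (Subtype.ext ?_)⟩
    rw [pow_one, pow_two]
    show (g.1 : Equiv.Perm (Fin n)) * g.1 = 1
    rw [show (g.1 : Equiv.Perm (Fin n)) = ψ v from hv.symm, ← map_mul, show v * v = 1 from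
      funext fun i => Subtype.ext (v i).2.1, map_one]
  obtain ⟨Q, hQ⟩ := hW2.exists_le_sylow
  obtain ⟨g, hg⟩ := MulAction.exists_smul_eq ↥(alternatingGroup (Fin n)) Q P
  have hWH : ∀ v, (g : Equiv.Perm (Fin n)) * ψ v * (g : Equiv.Perm (Fin n))⁻¹ ∈ H := fun v => by
    refine hP ⟨g * ⟨ψ v, hψA ⟨v, rfl⟩⟩ * g⁻¹, ?_, rfl⟩
    rw [← hg, SetLike.mem_coe, Sylow.smul_def, Sylow.pointwise_smul_def]
    exact ⟨⟨ψ v, hψA ⟨v, rfl⟩⟩, hQ (show ψ v ∈ ψ.range from ⟨v, rfl⟩), rfl⟩
  let B : Fin q → Set (Fin n) := fun i => Set.range fun j => (g : Equiv.Perm (Fin n)) (emb (i, j))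
  have hBinj : ∀ i, Function.Injective fun j => (g : Equiv.Perm (Fin n)) (emb (i, j)) := fun i a b h => by
    simpa using emb.injective ((g : Equiv.Perm (Fin n)).injective h)
  have hB4 : ∀ i, (B i).ncard = 4 := fun i => by
    show (Set.range _).ncard = 4
    rw [← Set.image_univ, Set.ncard_image_of_injective _ (hBinj i), Set.ncard_univ, Nat.card_fin]
  have hdis : ∀ i j, i ≠ j → Disjoint (B i) (B j) := fun i i' hne => by
    rw [Set.disjoint_left]
    rintro _ ⟨j, rfl⟩ ⟨j', hj⟩
    exact hne (congrArg Prod.fst (emb.injective ((g : Equiv.Perm (Fin n)).injective hj))).symm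
  have hmov : ∀ i, ∀ b ∈ B i, ∀ c ∈ B i, ∃ h : H, (∀ z ∉ B i, h • z = z) ∧ h • b = c ∧ h • c = b := by
    rintro i _ ⟨j, rfl⟩ _ ⟨j', rfl⟩
    obtain ⟨σ, hσ, h1, h2⟩ := v4_trans j j'
    let v : Fin q → V4 := fun i' => if i' = i then ⟨σ, hσ⟩ else 1
    refine ⟨⟨_, hWH v⟩, fun z hz => ?_, ?_, ?_⟩
    · show (g : Equiv.Perm (Fin n)) (ψ v ((g : Equiv.Perm (Fin n))⁻¹ z)) = z
      obtain ⟨w, rfl⟩ := (g : Equiv.Perm (Fin n)).surjective z
      rw [Equiv.Perm.inv_def, Equiv.symm_apply_apply]
      by_cases hw : w ∈ Set.range emb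
      · obtain ⟨⟨i', k⟩, rfl⟩ := hw
        rw [hψ]
        have : i' ≠ i := fun e => hz ⟨k, by rw [e]⟩
        simp [v, this]
      · rw [hψout v w hw]
    · show (g : Equiv.Perm (Fin n)) (ψ v ((g : Equiv.Perm (Fin n))⁻¹ ((g : Equiv.Perm (Fin n)) (emb (i, j))))) = _
      rw [Equiv.Perm.inv_def, Equiv.symm_apply_apply, hψ]
      simp [v, h1]
    · show (g : Equiv.Perm (Fin n)) (ψ v ((g : Equiv.Perm (Fin n))⁻¹ ((g : Equiv.Perm (Fin n)) (emb (i, j'))))) = _
      rw [Equiv.Perm.inv_def, Equiv.symm_apply_apply, hψ]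
      simp [v, h2]
  have hout : (⋃ i, B i)ᶜ.ncard ≤ 3 := by
    have hU : (⋃ i, B i) = Set.range fun p : Fin q × Fin 4 => (g : Equiv.Perm (Fin n)) (emb p) := by
      ext z; simp [B, Prod.exists]
    rw [Set.ncard_compl, Nat.card_fin, hU, ← Set.image_univ,
      Set.ncard_image_of_injective (f := fun p : Fin q × Fin 4 => (g : Equiv.Perm (Fin n)) (emb p)) _
        ((g : Equiv.Perm (Fin n)).injective.comp emb.injective), Set.ncard_univ,
      Nat.card_prod, Nat.card_fin, Nat.card_fin]
    omega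
  obtain ⟨a, ha8, hac, hall, hfaith, hprim, hZ⟩ := exists_orbit (G := H) hF hC (q := q) (by omega) B hB4 hdis hmov hout
  haveI := hfaith
  haveI := hprim
  set O := orbit H a
  have hcardO : Nat.card O = O.ncard := Nat.card_coe_set_eq O
  have hsum : O.ncard + Oᶜ.ncard = n := by rw [Set.ncard_add_ncard_compl, Nat.card_fin]
  letI : Fintype O := Fintype.ofFinite _
  haveI := Cfsg.Agent.Solv.qs_nontrivial hF
  have hmoveO : ∀ w : O, ∃ k ∈ K, k • w ≠ w := by
    intro w
    by_contra h
    push Not at h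
    have hall' : ∀ k ∈ K, ∀ u : O, k • u = u := fun k hk u => by
      obtain ⟨x, rfl⟩ := MulAction.exists_smul_eq H w u
      have := h _ ((inferInstance : K.Normal).conj_mem k hk x⁻¹)
      rw [inv_inv, mul_smul, mul_smul, inv_smul_eq_iff] at this
      exact this
    obtain ⟨k, hk⟩ := exists_ne (1 : K)
    exact hk (Subtype.ext (eq_of_smul_eq_smul (α := O) fun u => by rw [hall' k.1 k.2 u]; exact (one_smul H u).symm))
  have hfull : ∀ σ : Equiv.Perm O, Equiv.Perm.sign σ = 1 → ∃ x : H, MulAction.toPerm x = σ := by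
    by_cases h9 : 9 ≤ O.ncard
    · let Γ : Set O := Subtype.val ⁻¹' B ⟨0, by omega⟩
      have hΓ : Γ.ncard = 4 := by
        rw [← Set.ncard_image_of_injective Γ Subtype.val_injective, Subtype.image_preimage_coe,
          Set.inter_eq_self_of_subset_right (hall _), hB4]
      have hJ : Cfsg.Agent.Lie.JordanThree.IsJ H Γ := fun x hx y hy => by
        obtain ⟨h, h1, h2, -⟩ := hmov _ x.1 hx y.1 hy
        exact ⟨h, fun z hz => Subtype.ext (h1 z.1 hz), Subtype.ext h2⟩
      exact Cfsg.Agent.Lie.JordanAlt.even_mem hprim hJ (by omega) (by omega)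
    · refine eight_full hF (by omega) hC hZ inferInstance hmoveO ?_
      -- the order
      set G' := (alternatingGroup O).comap (toPermHom H O)
      let R : Subgroup H := ((P : Subgroup ↥(alternatingGroup (Fin n))).map (alternatingGroup (Fin n)).subtype).subgroupOf H
      have hRcard : Nat.card R = Nat.card P := by
        rw [Nat.card_congr (Subgroup.subgroupOfEquivOfLe hP).toEquiv,
          Subgroup.card_map_of_injective (Subgroup.subtype_injective _)]
      haveI : Nontrivial (Fin n) := Fin.nontrivial_iff_two_le.2 (by omega)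
      have hA2 : 2 * Nat.card ↥(alternatingGroup (Fin n)) = n.factorial := by
        rw [two_mul_nat_card_alternatingGroup, Nat.card_perm, Nat.card_fin]
      have hv : ∀ v, 2 ^ (v + 1) ∣ n.factorial → 2 ^ v ∣ Nat.card R := fun v hv => by
        rw [hRcard]
        refine Sylow.pow_dvd_card_of_pow_dvd_card P ?_
        rw [← hA2, pow_succ'] at hv
        exact Nat.dvd_of_mul_dvd_mul_left two_pos hv
      haveI : Nontrivial O := Finite.one_lt_card_iff_nontrivial.1 (by omega)
      by_cases h10 : n ≤ 9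
      · have h6 : 2 ^ 6 ∣ Nat.card R :=
          hv 6 ((by decide : 2 ^ 7 ∣ Nat.factorial 8).trans (Nat.factorial_dvd_factorial hn))
        refine h6.trans (Subgroup.card_dvd_of_le fun r hr => ?_)
        obtain ⟨p, hp, hpr⟩ := hr
        rw [Subgroup.mem_comap, Equiv.Perm.mem_alternatingGroup]
        have hO : ∀ x, (r : Equiv.Perm (Fin n)) x ∈ O ↔ x ∈ O := fun x => by
          constructor
          · intro h
            have := MulAction.mem_orbit_of_mem_orbit r⁻¹ (show r • x ∈ orbit H a from h)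
            rwa [inv_smul_smul] at this
          · exact fun h => MulAction.mem_orbit_of_mem_orbit r h
        have hfixc : ∀ x, (r : Equiv.Perm (Fin n)) x ≠ x → x ∈ O := by
          intro x hx
          by_contra hxO
          refine hx ((Set.ncard_le_one (Set.toFinite _)).1 (by omega : Oᶜ.ncard ≤ 1) _ ?_ _ hxO)
          exact fun h => hxO ((hO x).1 h)
        have hs := Equiv.Perm.sign_subtypePerm (r : Equiv.Perm (Fin n)) hO hfixc
        rw [show toPermHom H O r = Equiv.Perm.subtypePerm (r : Equiv.Perm (Fin n)) hO from Equiv.ext fun x => Subtype.ext rfl]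
        have hr1 : Equiv.Perm.sign (r : Equiv.Perm (Fin n)) = 1 := by
          rw [show (r : Equiv.Perm (Fin n)) = p.1 from hpr.symm]
          exact Equiv.Perm.mem_alternatingGroup.1 p.2
        rw [← hr1, ← hs]
        convert rfl using 4
      · have h7 : 2 ^ 7 ∣ Nat.card R :=
          hv 7 ((by decide : 2 ^ 8 ∣ Nat.factorial 10).trans (Nat.factorial_dvd_factorial (by omega)))
        have hidx : G'.index ∣ 2 := by
          rw [show G'.index = (alternatingGroup O).relIndex (toPermHom H O).range from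
            Subgroup.index_comap _ _]
          refine (Subgroup.relIndex_dvd_index_of_normal (alternatingGroup O) _).trans ?_
          rw [alternatingGroup.index_eq_two]
        have h2 := h7.trans (Subgroup.card_subgroup_dvd_card R)
        rw [← G'.card_mul_index] at h2
        rcases (Nat.dvd_prime Nat.prime_two).1 hidx with e | e <;> rw [e] at h2
        · rw [mul_one] at h2; exact (pow_dvd_pow 2 (show 6 ≤ 7 by norm_num)).trans h2
        · exact Nat.dvd_of_mul_dvd_mul_right two_pos (show 2 ^ 6 * 2 ∣ _ by rw [← pow_succ]; exact h2)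
  obtain ⟨e⟩ := alt_iso hF (by omega) hC hZ hfull
  exact ⟨Nat.card O, by omega, ⟨e⟩⟩

end Cfsg.Agent.Char.AltOvergroup
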