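import Cfsg.Agent.Lib.Char.BlockBasic

/-!
# Characters of the centre of the group algebra modulo `M`
-/

set_option autoImplicit false

namespace Cfsg.Agent.Char

open Cfsg Module
open scoped ComplexConjugate

universe u

variable {G : Type u} [Group G] [Fintype G] {M : Ideal AlgInt} {p : ℕ}

theorem memLI_lam (hM : M.IsPrime) {χ f : G → ℂ} (h : IsIrrCharacter G χ)
    (hf : IsClassFunction G f) (hv : ∀ x, MemLocalIdeal M (f x)) : MemLocalIdeal M (lam χ f) := by
  have := Fintype.ofFinite (ConjClasses G)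
  rw [lam_eq_sum_omega (isClassFunction_character (irr_isCharacter h)) hf]
  exact memLI_sum hM _ _ fun C _ => memLI_mul_right hM (hv _) (memLR_omega hM h _)

/-- A central element killed by all central characters modulo `M` is nilpotent modulo `M`. -/
theorem exists_cpow_memLI (hM : IsPModular p M) {f : G → ℂ} (hf : IsIntClassFun M f)
    (h : ∀ ψ : IrrCharacter G, MemLocalIdeal M (lam (ψ : G → ℂ) f)) :
    ∃ n, ∀ x, MemLocalIdeal M (cpow f n x) := by
  classical
  have hP := pmod_prime hM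
  set a := (Nat.card G).factorization p with ha
  obtain ⟨m, hm⟩ : p ^ a ∣ Nat.card G := Nat.ordProj_dvd _ _
  have hpm : ¬ p ∣ m := by
    have := Nat.not_dvd_ordCompl hM.1 (Nat.card_pos (α := G)).ne'
    rwa [← ha, hm, Nat.mul_div_cancel_left _ (Nat.pow_pos hM.1.pos)] at this
  have hex : ∀ ψ : IrrCharacter G, ∃ n y, MemLocalRing M y ∧
      lam (ψ : G → ℂ) f ^ n = (p : ℂ) ^ (a + 1) * y := fun ψ => memLI_pow_dvd hM (h ψ) (a + 1)
  choose n y hy he using hex
  set N := ∑ ψ, n ψ with hN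
  refine ⟨N, fun x => ?_⟩
  rw [classFun_eq_sum_idem (intClassFun_cpow hP hf N).1, Finset.sum_apply]
  refine memLI_sum hP _ _ fun ψ _ => ?_
  obtain ⟨c, hc⟩ := Nat.exists_eq_add_of_le
    (Finset.single_le_sum (fun i _ => Nat.zero_le (n i)) (Finset.mem_univ ψ))
  rw [lam_cpow hP ψ.2 hf, hN, hc, pow_add, he ψ, Pi.smul_apply, smul_eq_mul]
  have e : (p : ℂ) ^ (a + 1) * y ψ * lam (ψ : G → ℂ) f ^ c * idem (ψ : G → ℂ) x =
      (p : ℂ) * (y ψ * lam (ψ : G → ℂ) f ^ c * ((ψ : G → ℂ) 1 * conj ((ψ : G → ℂ) x)) * (m : ℂ)⁻¹) := by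
    have hp0 : (p : ℂ) ^ a ≠ 0 := pow_ne_zero _ (Nat.cast_ne_zero.mpr hM.1.ne_zero)
    simp only [idem, hm, pow_succ]
    push_cast
    rw [mul_inv]
    field_simp
  rw [e]
  refine memLI_mul_right hP (memLI_p hM) (memLR_mul hP (memLR_mul hP (memLR_mul hP (hy ψ)
    (memLR_pow hP (memLR_lam hP ψ.2 hf.1 hf.2) c)) (memLR_mul hP
      (memLR_char hP (irr_isCharacter ψ.2) 1) ?_)) (memLR_inv_natCast hM hpm))
  rw [← char_inv (irr_isCharacter ψ.2)]
  exact memLR_char hP (irr_isCharacter ψ.2) _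

/-- A `ℂ`-linear functional which is, modulo `M`, a unital algebra homomorphism on the integral
centre of the group algebra. -/
structure IsCentralHom (M : Ideal AlgInt) (Φ : (G → ℂ) → ℂ) : Prop where
  map_add : ∀ f g : G → ℂ, Φ (f + g) = Φ f + Φ g
  map_smul : ∀ (r : ℂ) (f : G → ℂ), Φ (r • f) = r * Φ f
  memLR : ∀ f, IsIntClassFun M f → MemLocalRing M (Φ f)
  map_conv : ∀ f g, IsIntClassFun M f → IsIntClassFun M g →
    MemLocalIdeal M (Φ (conv f g) - Φ f * Φ g)
  map_delta : MemLocalIdeal M (Φ delta - 1)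
  congr : ∀ f, IsIntClassFun M f → (∀ x, MemLocalIdeal M (f x)) → MemLocalIdeal M (Φ f)

variable {Φ : (G → ℂ) → ℂ}

theorem IsCentralHom.map_sub (h : IsCentralHom M Φ) (f g : G → ℂ) : Φ (f - g) = Φ f - Φ g := by
  rw [sub_eq_add_neg, h.map_add, ← neg_one_smul ℂ g, h.map_smul, sub_eq_add_neg, neg_one_mul]

theorem IsCentralHom.map_zero (h : IsCentralHom M Φ) : Φ 0 = 0 := by
  have := h.map_smul 0 0
  rwa [zero_smul, zero_mul] at this

theorem IsCentralHom.map_sum (h : IsCentralHom M Φ) {ι : Type*} (s : Finset ι) (f : ι → G → ℂ) :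
    Φ (∑ i ∈ s, f i) = ∑ i ∈ s, Φ (f i) := by
  classical
  induction s using Finset.induction_on with
  | empty => simp [h.map_zero]
  | insert a s ha ih => rw [Finset.sum_insert ha, h.map_add, ih, Finset.sum_insert ha]

theorem IsCentralHom.map_cpow (h : IsCentralHom M Φ) (hM : M.IsPrime) {f : G → ℂ}
    (hf : IsIntClassFun M f) : ∀ n, MemLocalIdeal M (Φ (cpow f n) - Φ f ^ n)
  | 0 => by simpa [cpow] using h.map_delta
  | n + 1 => by
    rw [cpow, pow_succ]
    refine memLI_trans hM (h.map_conv _ _ (intClassFun_cpow hM hf n) hf) ?_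
    rw [← sub_mul]
    exact memLI_mul_right hM (h.map_cpow hM hf n) (h.memLR f hf)

theorem IsCentralHom.memLI_of_lam (h : IsCentralHom M Φ) (hM : IsPModular p M) {f : G → ℂ}
    (hf : IsIntClassFun M f) (h' : ∀ ψ : IrrCharacter G, MemLocalIdeal M (lam (ψ : G → ℂ) f)) :
    MemLocalIdeal M (Φ f) := by
  have hP := pmod_prime hM
  obtain ⟨n, hn⟩ := exists_cpow_memLI hM hf h'
  refine memLI_pow_mem hP (h.memLR f hf) n ?_
  exact memLI_congr hP (memLI_symm hP (h.map_cpow hP hf n))
    (h.congr _ (intClassFun_cpow hP hf n) hn)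

theorem isIntClassFun_blockCoeff (hM : IsPModular p M) {B : Set (IrrCharacter G)}
    (hB : IsPBlock M B) : IsIntClassFun M (blockCoeff B) :=
  ⟨isClassFunction_blockCoeff B, memLR_blockCoeff hM hB⟩

open scoped Classical in
theorem delta_eq_sum_blocks (hM : M.IsPrime) :
    (delta : G → ℂ) = ∑ B ∈ (Finset.univ : Finset (IrrCharacter G)).image
      (fun χ : IrrCharacter G => blockOf M (χ : G → ℂ)), blockCoeff B := by
  conv_lhs => rw [classFun_eq_sum_idem isClassFunction_delta]
  rw [← Finset.sum_fiberwise_of_maps_to (s := Finset.univ)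
    (t := (Finset.univ : Finset (IrrCharacter G)).image (fun χ : IrrCharacter G => blockOf M (χ : G → ℂ)))
    (g := fun χ : IrrCharacter G => blockOf M (χ : G → ℂ)) (fun χ hχ => Finset.mem_image_of_mem _ hχ)]
  refine Finset.sum_congr rfl fun B hB => ?_
  obtain ⟨χ, -, rfl⟩ := Finset.mem_image.mp hB
  rw [blockCoeff_eq]
  refine Finset.sum_congr ?_ fun ψ _ => by rw [lam_delta ψ.2, one_smul]
  ext ψ
  simp only [Finset.mem_filter, Finset.mem_univ, true_and]
  exact ⟨fun h => h ▸ self_mem_blockOf hM ψ, fun h => (blockOf_eq_of_sameBlock hM h).symm⟩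

/-- Every central homomorphism is the central character of a block. -/
theorem IsCentralHom.exists_block (h : IsCentralHom M Φ) (hM : IsPModular p M) :
    ∃ B : Set (IrrCharacter G), IsPBlock M B ∧ MemLocalIdeal M (Φ (blockCoeff B) - 1) ∧
      ∀ χ ∈ B, ∀ f, IsIntClassFun M f → MemLocalIdeal M (Φ f - lam (χ : G → ℂ) f) := by
  classical
  have hP := pmod_prime hM
  obtain ⟨B, hB, hΦ⟩ : ∃ B : Set (IrrCharacter G), IsPBlock M B ∧
      ¬ MemLocalIdeal M (Φ (blockCoeff B)) := by
    by_contra hne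
    push Not at hne
    refine memLI_one_iff hP (memLI_congr hP (memLI_symm hP h.map_delta) ?_)
    rw [delta_eq_sum_blocks hP, h.map_sum]
    refine memLI_sum hP _ _ fun B hB => ?_
    obtain ⟨χ, -, rfl⟩ := Finset.mem_image.mp hB
    exact hne _ (isPBlock_blockOf M χ)
  have hbI := isIntClassFun_blockCoeff hM hB
  set e := Φ (blockCoeff B) with he
  have he1 : MemLocalIdeal M (e - 1) := by
    have h1 := h.map_conv _ _ hbI hbI
    have hidem : conv (blockCoeff B) (blockCoeff B) = blockCoeff B := by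
      conv_rhs => rw [classFun_eq_sum_idem hbI.1]
      rw [classFun_eq_sum_idem (isClassFunction_conv hbI.1 hbI.1)]
      refine Finset.sum_congr rfl fun χ _ => ?_
      rw [lam_conv χ.2 hbI.1 hbI.1, lam_blockCoeff]
      split_ifs <;> simp
    rw [hidem, ← he, show e - e * e = -(e * (e - 1)) by ring] at h1
    have h2 := memLI_neg hP h1
    rw [neg_neg] at h2
    exact (memLI_mul_mem hP (h.memLR _ hbI) (memLR_sub hP (h.memLR _ hbI) (memLR_one hP)) h2).resolve_left hΦ
  refine ⟨B, hB, he1, fun χ hχ f hf => ?_⟩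
  have hc : MemLocalRing M (lam (χ : G → ℂ) f) := memLR_lam hP χ.2 hf.1 hf.2
  set g := conv f (blockCoeff B) - lam (χ : G → ℂ) f • blockCoeff B with hg
  have hgI : IsIntClassFun M g :=
    intClassFun_sub hP (intClassFun_conv hP hf hbI) (intClassFun_smul hP hc hbI)
  have h1 := h.memLI_of_lam hM hgI fun ψ => by
    rw [hg, lam_sub, lam_smul, lam_conv ψ.2 hf.1 hbI.1, lam_blockCoeff]
    by_cases hψ : ψ ∈ B
    · rw [if_pos hψ, mul_one, mul_one]
      exact lam_congr hP ψ.2 χ.2 (block_sameBlock hP hB hψ hχ) hf.1 hf.2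
    · rw [if_neg hψ, mul_zero, mul_zero, sub_zero]
      exact memLI_zero hP
  rw [hg, h.map_sub, h.map_smul, ← he] at h1
  -- `(Φ f - c) * e` lies in the local ideal and `e` is a unit
  have h2 : MemLocalIdeal M ((Φ f - lam (χ : G → ℂ) f) * e) := by
    have h3 := memLI_sub hP h1 (h.map_conv _ _ hf hbI)
    rw [← he] at h3
    convert h3 using 1
    ring
  exact (memLI_mul_mem hP (memLR_sub hP (h.memLR f hf) hc) (h.memLR _ hbI) h2).resolve_right hΦ

theorem sameBlock_of_lam (hM : M.IsPrime) {χ ψ : IrrCharacter G}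
    (h : ∀ f, IsIntClassFun M f → MemLocalIdeal M (lam (χ : G → ℂ) f - lam (ψ : G → ℂ) f)) :
    SameBlock M (χ : G → ℂ) (ψ : G → ℂ) := by
  classical
  intro g
  have hI : IsIntClassFun M (fun x => if IsConj g x then (1 : ℂ) else 0) := by
    refine ⟨fun a k => ?_, fun x => ?_⟩
    · exact if_congr ⟨fun h => h.trans (isConj_iff.mpr ⟨k⁻¹, by simp [mul_assoc]⟩),
        fun h => h.trans (isConj_iff.mpr ⟨k, rfl⟩)⟩ rfl rfl
    · show MemLocalRing M (if IsConj g x then (1 : ℂ) else 0)
      split_ifs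
      exacts [memLR_one hM, memLR_zero hM]
  have := h _ hI
  rwa [lam_classInd _ (isClassFunction_character (irr_isCharacter χ.2)) g,
    lam_classInd _ (isClassFunction_character (irr_isCharacter ψ.2)) g,
    omega_eq_centralChar, omega_eq_centralChar] at this

/-- `lam χ` is a central homomorphism. -/
theorem isCentralHom_lam (hM : M.IsPrime) (χ : IrrCharacter G) :
    IsCentralHom M (lam (χ : G → ℂ)) where
  map_add := lam_add _
  map_smul := fun r f => lam_smul r _ f
  memLR := fun f hf => memLR_lam hM χ.2 hf.1 hf.2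
  map_conv := fun f g hf hg => by rw [lam_conv χ.2 hf.1 hg.1, sub_self]; exact memLI_zero hM
  map_delta := by rw [lam_delta χ.2, sub_self]; exact memLI_zero hM
  congr := fun f hf hv => memLI_lam hM χ.2 hf.1 hv

end Cfsg.Agent.Char
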