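import Cfsg.Agent.Lib.Char.PParts
import Cfsg.Agent.Lib.Char.LocalRing
import Cfsg.Agent.Lib.Char.Basic

/-!
# Congruence of character values with values at the `p'`-part
-/

set_option autoImplicit false

namespace Cfsg.Agent.Char

open Cfsg Module
open scoped ComplexConjugate

universe u

variable {G : Type u} [Group G] [Finite G] {p : ℕ} {M : Ideal AlgInt}

theorem algInt_eq_mod {a b : AlgInt} (hM : IsPModular p M) {n : ℕ} (h : a ^ p ^ n = b ^ p ^ n) :
    a - b ∈ M := by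
  have := pmod_prime hM
  have := Fact.mk hM.1
  have : CharP (AlgInt ⧸ M) p := by
    rw [CharP.charP_iff_prime_eq_zero hM.1]
    rw [← map_natCast (Ideal.Quotient.mk M)]
    exact Ideal.Quotient.eq_zero_iff_mem.mpr hM.2.2
  rw [← Ideal.Quotient.eq]
  have h' := congrArg (Ideal.Quotient.mk M) h
  rw [map_pow, map_pow] at h'
  rw [← sub_eq_zero]
  refine pow_eq_zero_iff (n := p ^ n) (pow_pos hM.1.pos n).ne' |>.mp ?_
  rw [sub_pow_char_pow, h', sub_self]

theorem char_congr_preg (hM : IsPModular p M) {χ : G → ℂ} (hχ : IsCharacter G χ) (g : G) :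
    MemLocalIdeal M (χ g - χ (preg p g)) := by
  have hP := pmod_prime hM
  obtain ⟨n, ρ, rfl⟩ := hχ
  obtain ⟨⟨y, hxy, hc, ⟨a, ha⟩, hy⟩, hnd, hcomm⟩ := preg_spec hM.1 g
  obtain ⟨k, hk⟩ : ∃ k : ℕ, g ^ k = preg p g := by
    have := preg_mem_zpowers hM.1 g (K := Subgroup.zpowers g) (Subgroup.mem_zpowers g)
    exact (mem_powers_iff_mem_zpowers.mpr this)
  obtain ⟨μ, hμ, htr, -⟩ := exists_eigenvalues ρ g
  have h1 : ρ.character g = ∑ i, μ i := by simpa using htr 1
  rw [h1, ← hk, htr k, ← Finset.sum_sub_distrib]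
  refine memLI_sum hP _ _ fun i _ => ?_
  have he : g ^ (p ^ a) = g ^ (k * p ^ a) := by
    have h2 : (g * (preg p g)⁻¹) ^ p ^ a = 1 := by rw [← ha, pow_orderOf_eq_one]
    rw [hcomm.symm.inv_right.mul_pow, inv_pow, mul_inv_eq_one, ← hk, ← pow_mul] at h2
    exact h2
  have hμe : μ i ^ (p ^ a) = (μ i ^ k) ^ (p ^ a) := by
    rw [← pow_mul]
    exact pow_eq_pow_of_modEq (pow_eq_pow_iff_modEq.mp he) (hμ i)
  have hint := root_of_unity_isIntegral (orderOf_pos g).ne' (hμ i)
  let A : AlgInt := ⟨μ i, hint⟩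
  have hmem : A - A ^ k ∈ M := algInt_eq_mod hM (n := a) (Subtype.ext (by simpa [A] using hμe))
  have := (memLI_coe_iff hP _).mpr hmem
  simpa [A] using this

theorem char_congr_deg (hM : IsPModular p M) {χ : G → ℂ} (hχ : IsCharacter G χ) {g : G}
    (hg : ∃ j : ℕ, orderOf g = p ^ j) : MemLocalIdeal M (χ g - χ 1) := by
  have h := char_congr_preg hM hχ g
  have : preg p (g * 1) = 1 := preg_of_mul hM.1 (Commute.one_right g) hg (by simp [hM.1.ne_one])
  rw [mul_one] at this
  rwa [this] at h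

end Cfsg.Agent.Char
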