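import Cfsg.Agent.Lib.Char.Defect
import Cfsg.Agent.Lib.Char.Burnside

/-!
# Induced blocks and blocks with central defect groups
-/

set_option autoImplicit false

namespace Cfsg.Agent.Char

open Cfsg Module
open scoped ComplexConjugate

universe u

variable {G : Type u} [Group G] [Fintype G] {M : Ideal AlgInt} {p : ℕ}

theorem isClassFunction_restrict {H : Subgroup G} {f : G → ℂ} (hf : IsClassFunction G f) :
    IsClassFunction H (fun x : H => f (x : G)) := fun a k => by
  show f ((k * a * k⁻¹ : H) : G) = f (a : G)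
  simp only [Subgroup.coe_mul, InvMemClass.coe_inv]
  exact hf _ _

/-- The class indicators span the class functions. -/
theorem classFun_eq_sum_classInd [Fintype (ConjClasses G)] {f : G → ℂ}
    (hf : IsClassFunction G f) :
    f = ∑ C : ConjClasses G, f C.out • classInd C.out := by
  classical
  funext x
  have hout : ∀ C : ConjClasses G, ConjClasses.mk C.out = C := fun C => Quotient.out_eq C
  rw [Finset.sum_apply, Finset.sum_eq_single (ConjClasses.mk x)]
  · have h := ConjClasses.mk_eq_mk_iff_isConj.mp (hout (ConjClasses.mk x))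
    obtain ⟨k, hk⟩ := isConj_iff.mp h
    rw [Pi.smul_apply, smul_eq_mul, classInd, if_pos h, mul_one]
    conv_lhs => rw [← hk, hf]
  · intro C _ hC
    rw [Pi.smul_apply, smul_eq_mul, classInd, if_neg, mul_zero]
    exact fun h => hC ((hout C).symm.trans (ConjClasses.mk_eq_mk_iff_isConj.mpr h))
  · exact fun h => absurd (Finset.mem_univ _) h

theorem induced_congr_fun (hM : M.IsPrime) {H : Subgroup G} [Fintype H] {ξ : IrrCharacter H}
    {χ : IrrCharacter G}
    (h : ∀ g, MemLocalIdeal M
      (inducedCentralChar H (ξ : H → ℂ) g - centralChar (χ : G → ℂ) g))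
    {f : G → ℂ} (hf : IsIntClassFun M f) :
    MemLocalIdeal M (lam (ξ : H → ℂ) (fun x : H => f (x : G)) - lam (χ : G → ℂ) f) := by
  classical
  have := Fintype.ofFinite (ConjClasses G)
  have hexp := classFun_eq_sum_classInd hf.1
  have e : (fun x : H => f (x : G)) =
      ∑ C : ConjClasses G, f C.out • fun x : H => classInd C.out (x : G) := by
    funext x
    have := congrFun hexp (x : G)
    rw [Finset.sum_apply] at this ⊢
    exact this
  have h1 : lam (χ : G → ℂ) f = ∑ C : ConjClasses G, f C.out * omega (χ : G → ℂ) C.out := by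
    conv_lhs => rw [hexp, lam_sum]
    refine Finset.sum_congr rfl fun C _ => ?_
    rw [lam_smul, lam_classInd' (isClassFunction_character (irr_isCharacter χ.2))]
  have h2 : lam (ξ : H → ℂ) (fun x : H => f (x : G)) =
      ∑ C : ConjClasses G, f C.out * inducedCentralChar H (ξ : H → ℂ) C.out := by
    rw [e, lam_sum]
    exact Finset.sum_congr rfl fun C _ => by rw [lam_smul, inducedCentralChar_eq]
  rw [h1, h2, ← Finset.sum_sub_distrib]
  refine memLI_sum hM _ _ fun C _ => ?_
  rw [← mul_sub, omega_eq_centralChar]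
  exact memLI_mul_left hM (hf.2 _) (h _)

theorem inducedCentralChar_congr (hM : M.IsPrime) {H : Subgroup G} [Fintype H]
    {ξ ξ' : IrrCharacter H} (hs : SameBlock M (ξ : H → ℂ) (ξ' : H → ℂ)) (g : G) :
    MemLocalIdeal M (inducedCentralChar H (ξ : H → ℂ) g - inducedCentralChar H (ξ' : H → ℂ) g) := by
  rw [inducedCentralChar_eq, inducedCentralChar_eq]
  exact lam_congr hM ξ.2 ξ'.2 hs (isClassFunction_restrict (intClassFun_classInd hM g).1)
    (fun x => (intClassFun_classInd hM g).2 _)

theorem memLR_inducedCentralChar (hM : M.IsPrime) {H : Subgroup G} [Fintype H]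
    (ξ : IrrCharacter H) (g : G) :
    MemLocalRing M (inducedCentralChar H (ξ : H → ℂ) g) := by
  rw [inducedCentralChar_eq]
  exact memLR_lam hM ξ.2 (isClassFunction_restrict (intClassFun_classInd hM g).1)
    (fun x => (intClassFun_classInd hM g).2 _)

theorem brLam_congr (hM : IsPModular p M) {P H : Subgroup G} [Fintype H] (hP : IsPGroup p P)
    (hPH : P ≤ H) (hHN : H ≤ Subgroup.normalizer (P : Set G)) (ξ : IrrCharacter H) {f : G → ℂ}
    (hf : IsIntClassFun M f) :
    MemLocalIdeal M (lam (ξ : H → ℂ) (fun x : H => f (x : G)) - brLam P H (ξ : H → ℂ) f) := by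
  classical
  have hMp := pmod_prime hM
  have hN : (P.subgroupOf H).Normal :=
    (Subgroup.normal_subgroupOf_iff_le_normalizer hPH).mpr hHN
  have hPp : IsPGroup p (P.subgroupOf H) :=
    hP.of_equiv (Subgroup.subgroupOfEquivOfLe hPH).symm
  have hiff : ∀ x : H, x ∈ Subgroup.centralizer ((P.subgroupOf H : Subgroup H) : Set H) →
      (x : G) ∈ Subgroup.centralizer (P : Set G) := fun x h w hw => by
    have h1 := h ⟨w, hPH hw⟩ (Subgroup.mem_subgroupOf.mpr hw)
    exact congrArg Subtype.val h1
  rw [brLam, ← lam_sub]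
  refine lam_congr_centralizer hM (P.subgroupOf H) hPp ξ
    (intClassFun_sub hMp ⟨isClassFunction_restrict hf.1, fun x => hf.2 _⟩
      (intClassFun_brRes hMp hHN hf)) fun x hx => ?_
  simp only [Pi.sub_apply, brRes, if_pos (hiff x hx), sub_self]

theorem inducedCentralChar_brauer_congr (hM : IsPModular p M) {P H : Subgroup G} [Fintype H]
    (hP : IsPGroup p P) (hPH : P ≤ H) (hHN : H ≤ Subgroup.normalizer (P : Set G))
    (ξ : IrrCharacter H) (g : G) :
    MemLocalIdeal M (inducedCentralChar H (ξ : H → ℂ) g - brauerCentralChar P H (ξ : H → ℂ) g) := by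
  rw [inducedCentralChar_eq, brauerCentralChar_eq]
  exact brLam_congr hM hP hPH hHN ξ (intClassFun_classInd (pmod_prime hM) g)

/-- The induced block of a block of a local subgroup is defined. -/
theorem inducedBlockDefined_of_local (hM : IsPModular p M) {P H : Subgroup G} [Fintype H]
    (hP : IsPGroup p P) (hPH : P ≤ H) (hCH : Subgroup.centralizer (P : Set G) ≤ H)
    (hHN : H ≤ Subgroup.normalizer (P : Set G)) {b : Set (IrrCharacter H)} (hb : IsPBlock M b) :
    InducedBlockDefined M H b := by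
  have hMp := pmod_prime hM
  obtain ⟨ξ0, hξ0⟩ := block_nonempty hMp hb
  obtain ⟨B, hB, -, hΦ⟩ := (isCentralHom_brLam hM hP hCH hHN ξ0).exists_block hM
  refine ⟨B, hb, hB, fun ξ hξ χ hχ g => ?_⟩
  refine memLI_trans hMp (inducedCentralChar_congr hMp (block_sameBlock hMp hb hξ hξ0) g) ?_
  refine memLI_trans hMp (inducedCentralChar_brauer_congr hM hP hPH hHN ξ0 g) ?_
  rw [brauerCentralChar_eq, ← omega_eq_centralChar,
    ← lam_classInd' (isClassFunction_character (irr_isCharacter χ.2))]
  exact hΦ χ hχ _ (intClassFun_classInd hMp g)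

omit [Fintype G] in
theorem character_central_mul [Finite G] {χ : G → ℂ} (h : IsIrrCharacter G χ) {z : G}
    (hz : z ∈ Subgroup.center G) (y : G) : ‖χ (z * y)‖ = ‖χ y‖ := by
  classical
  have := Fintype.ofFinite G
  obtain ⟨n, ρ, hρ, rfl⟩ := h
  have := hρ
  have hscal : ρ z = omega ρ.character z • LinearMap.id := by
    rw [← classSum_eq_omega ρ z, Finset.sum_eq_single z]
    · intro x hx hne
      obtain ⟨c, hc⟩ := isConj_iff.mp (show IsConj z x by simpa using hx)
      refine absurd ?_ hne
      rw [← hc, Subgroup.mem_center_iff.mp hz c, mul_inv_cancel_right]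
    · intro h0
      refine absurd ?_ h0
      simp only [Finset.mem_filter, Finset.mem_univ, true_and]
      exact IsConj.refl _
  have hn : ‖ρ.character z‖ = (finrank ℂ (Fin n → ℂ) : ℝ) := (eq_scalar_iff ρ z).mpr ⟨_, hscal⟩
  have hpos : (finrank ℂ (Fin n → ℂ) : ℝ) ≠ 0 := by
    intro h0
    refine irr_one_ne_zero (isIrrCharacter_character ρ hρ) ?_
    rw [Representation.char_one]
    exact_mod_cast h0
  have hmul : ∀ w, ρ.character (z * w) = omega ρ.character z * ρ.character w := fun w => by
    simp [Representation.character, map_mul, hscal, ← Module.End.one_eq_id]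
  have hc1 : ‖omega ρ.character z‖ = 1 := by
    have h1 := hmul 1
    rw [mul_one, Representation.char_one] at h1
    rw [h1, norm_mul, Complex.norm_natCast] at hn
    field_simp at hn
    exact hn
  rw [hmul, norm_mul, hc1, one_mul]

/-- Characters whose degree has the largest possible `p`-part over a central `p`-subgroup have
height zero and vanish outside its sections. -/
theorem central_defect_full (hM : IsPModular p M) {Z : Subgroup G} (hZ : Z ≤ Subgroup.center G)
    {k : ℕ} (hZc : Nat.card Z = p ^ k) (χ : IrrCharacter G) {B : Set (IrrCharacter G)}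
    (hB : IsPBlock M B) (hχ : χ ∈ B)
    (hk : (Nat.card G).factorization p ≤ dexp p (χ : G → ℂ) + k) :
    zI p χ χ = (p : ℤ) ^ dexp p (χ : G → ℂ) ∧
    blockHeight p B (χ : G → ℂ) = 0 ∧ dexp p (χ : G → ℂ) + k = (Nat.card G).factorization p ∧
      ∀ g, g * (preg p g)⁻¹ ∉ Z → (χ : G → ℂ) g = 0 := by
  classical
  have hp := hM.1
  set a := (Nat.card G).factorization p with ha
  set δ := dexp p (χ : G → ℂ) with hδ
  set F : G → ℝ := fun x => ‖(χ : G → ℂ) x‖ ^ 2
  set T := Finset.univ.filter (fun x : G => x * (preg p x)⁻¹ ∈ Z)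
  have hZp : IsPGroup p Z := IsPGroup.of_card hZc
  have hzord : ∀ z ∈ Z, ∃ j, orderOf z = p ^ j := fun z hz => by
    have := Fact.mk hp
    obtain ⟨j, hj⟩ := IsPGroup.iff_orderOf.mp hZp ⟨z, hz⟩
    exact ⟨j, by rwa [Subgroup.orderOf_mk] at hj⟩
  have hpreg : ∀ z ∈ Z, ∀ y : G, ¬ p ∣ orderOf y → preg p (z * y) = y := fun z hz y hy =>
    preg_of_mul hp (Subgroup.mem_center_iff.mp (hZ hz) y).symm (hzord z hz) hy
  have hsum : ∑ x ∈ T, F x = (p : ℝ) ^ k * ∑ y : G with ¬ p ∣ orderOf y, F y := by
    have : Fintype Z := Fintype.ofFinite Z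
    have h1 : ∑ x ∈ T, F x =
        ∑ zy ∈ (Finset.univ : Finset Z) ×ˢ (Finset.univ.filter fun y : G => ¬ p ∣ orderOf y),
          F zy.2 := by
      refine Finset.sum_bij' (fun x hx => (⟨x * (preg p x)⁻¹, (Finset.mem_filter.mp hx).2⟩, preg p x))
        (fun zy _ => (zy.1 : G) * zy.2) ?_ ?_ ?_ ?_ ?_
      · intro x _
        simp [(preg_spec hp x).2.1]
      · intro zy hzy
        have hy := (Finset.mem_filter.mp (Finset.mem_product.mp hzy).2).2
        refine Finset.mem_filter.mpr ⟨Finset.mem_univ _, ?_⟩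
        rw [hpreg _ zy.1.2 _ hy, mul_inv_cancel_right]
        exact zy.1.2
      · intro x _; simp
      · intro zy hzy
        have hy := (Finset.mem_filter.mp (Finset.mem_product.mp hzy).2).2
        refine Prod.ext (Subtype.ext ?_) (hpreg _ zy.1.2 _ hy)
        simp [hpreg _ zy.1.2 _ hy]
      · intro x hx
        have hz : x * (preg p x)⁻¹ ∈ Z := (Finset.mem_filter.mp hx).2
        have := character_central_mul χ.2 (hZ hz) (preg p x)
        rw [inv_mul_cancel_right] at this
        simp only [F, this]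
    rw [h1]
    simp only [Finset.sum_product, Finset.sum_const, Finset.card_univ, ← Nat.card_eq_fintype_card,
      hZc, nsmul_eq_mul, Nat.cast_pow]
  have hnorm : ∑ x : G, F x = Nat.card G := by
    have h := irr_self χ.2
    rw [classInner, inv_mul_eq_iff_eq_mul₀ (Nat.cast_ne_zero.mpr Nat.card_pos.ne'), mul_one] at h
    apply Complex.ofReal_injective
    push_cast
    rw [← h]
    refine Finset.sum_congr rfl fun x _ => ?_
    simp only [F]
    push_cast
    rw [Complex.mul_conj']
  have hreg : ((zI p χ χ : ℤ) : ℝ) * Nat.card G =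
      (p : ℝ) ^ a * ∑ y : G with ¬ p ∣ orderOf y, F y := by
    apply Complex.ofReal_injective
    push_cast
    rw [zI_spec hp, einner_eq_sum, ← ha, mul_assoc]
    congr 1
    have : (Nat.card G : ℂ) ≠ 0 := Nat.cast_ne_zero.mpr Nat.card_pos.ne'
    rw [mul_comm, mul_inv_cancel_left₀ this]
    refine Finset.sum_congr rfl fun x _ => ?_
    simp only [F]
    push_cast
    rw [Complex.mul_conj']
  have hle : ∑ x ∈ T, F x ≤ Nat.card G := hnorm ▸
    Finset.sum_le_univ_sum_of_nonneg fun x => sq_nonneg _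
  -- hence `z ≤ p ^ (a - k)`
  have hz1 : (zI p χ χ : ℝ) * (p : ℝ) ^ k ≤ (p : ℝ) ^ a := by
    rw [hsum] at hle
    have hG : (0 : ℝ) < Nat.card G := Nat.cast_pos.mpr Nat.card_pos
    refine le_of_mul_le_mul_right ?_ hG
    calc (zI p χ χ : ℝ) * (p : ℝ) ^ k * (Nat.card G : ℝ)
        = (p : ℝ) ^ k * ((zI p χ χ : ℝ) * (Nat.card G : ℝ)) := by ring
      _ = (p : ℝ) ^ a * ((p : ℝ) ^ k * ∑ y : G with ¬ p ∣ orderOf y, F y) := by rw [hreg]; ring
      _ ≤ (p : ℝ) ^ a * (Nat.card G : ℝ) := by gcongr
  have hz2 : zI p χ χ * (p : ℤ) ^ k ≤ (p : ℤ) ^ a := by exact_mod_cast hz1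
  have hdvd : (p : ℤ) ^ δ ∣ zI p χ χ := zI_dvd_left hM χ χ
  have hz3 : (p : ℤ) ^ δ ≤ zI p χ χ := Int.le_of_dvd (zI_self_pos hp χ) hdvd
  have hp1 : (1 : ℤ) < p := by exact_mod_cast hp.one_lt
  have hδk : δ + k = a := by
    refine le_antisymm ((pow_le_pow_iff_right₀ hp1).mp ?_) hk
    rw [pow_add]
    exact le_trans (mul_le_mul_of_nonneg_right hz3 (by positivity)) hz2
  have hz4 : zI p χ χ = (p : ℤ) ^ δ := by
    refine le_antisymm ?_ hz3
    rw [← hδk, pow_add] at hz2
    exact le_of_mul_le_mul_right hz2 (by positivity)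
  refine ⟨hz4, (pow_dexp_dvd_iff_height hM hB hχ hχ).mp fun hd => ?_, hδk, fun g hg => ?_⟩
  · rw [hz4] at hd
    have := Int.le_of_dvd (by positivity) hd
    have := (pow_le_pow_iff_right₀ hp1).mp this
    omega
  · have hTeq : ∑ x ∈ T, F x = ∑ x : G, F x := by
      rw [hsum, hnorm]
      have : (p : ℝ) ^ a ≠ 0 := pow_ne_zero _ (Nat.cast_ne_zero.mpr hp.ne_zero)
      refine mul_left_cancel₀ this ?_
      rw [mul_left_comm, ← hreg, hz4, ← hδk, pow_add]
      push_cast
      ring
    have h0 : ∑ x ∈ Tᶜ, F x = 0 := by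
      have := Finset.sum_add_sum_compl T F
      linarith
    have := (Finset.sum_eq_zero_iff_of_nonneg fun x _ => sq_nonneg _).mp h0 g (by simp [T, hg])
    simpa [F] using this

/-- Characters whose degree has the largest possible `p`-part over a central `p`-subgroup have
height zero and vanish outside its sections. -/
theorem central_defect (hM : IsPModular p M) {Z : Subgroup G} (hZ : Z ≤ Subgroup.center G)
    {k : ℕ} (hZc : Nat.card Z = p ^ k) (χ : IrrCharacter G) {B : Set (IrrCharacter G)}
    (hB : IsPBlock M B) (hχ : χ ∈ B)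
    (hk : (Nat.card G).factorization p ≤ dexp p (χ : G → ℂ) + k) :
    blockHeight p B (χ : G → ℂ) = 0 ∧ dexp p (χ : G → ℂ) + k = (Nat.card G).factorization p ∧
      ∀ g, g * (preg p g)⁻¹ ∉ Z → (χ : G → ℂ) g = 0 :=
  (central_defect_full hM hZ hZc χ hB hχ hk).2

end Cfsg.Agent.Char
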