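import Cfsg.Agent.Lib.Char.Height
import Cfsg.Agent.Lib.Char.Induced
import Cfsg.Agent.Lib.Char.SectionPart
import Cfsg.Agent.Lib.Char.Congr
import Cfsg.Agent.Lib.Char.CentralHom

/-!
# Height zero characters and induced blocks
-/

set_option autoImplicit false
set_option linter.unusedSectionVars false
set_option linter.style.haveILetI false

namespace Cfsg.Agent.Char

open Cfsg
open scoped ComplexConjugate

universe u

variable {G : Type u} [Group G] [Fintype G] {M : Ideal AlgInt} {p : ℕ}
  {H : Subgroup G} [Fintype H]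

/-- The test function of a height zero character is a unit at every member of its block. -/
theorem lam_regConj_unit (hM : IsPModular p M) {B : Set (IrrCharacter G)} (hB : IsPBlock M B)
    {χ ψ : IrrCharacter G} (hχ : χ ∈ B) (hψ : ψ ∈ B)
    (h0 : blockHeight p B (ψ : G → ℂ) = 0) :
    ¬ MemLocalIdeal M (lam (χ : G → ℂ) (regConj p (ψ : G → ℂ))) := fun h =>
  (pow_dexp_dvd_iff_height hM hB hχ hψ).mpr h0 ((zI_dvd_and_iff hM χ ψ).2.mp h)

theorem regConj_restrict (f : G → ℂ) :
    (fun x : H => regConj p f (x : G)) = regConj p (fun x : H => f (x : G)) := by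
  funext x
  simp only [regConj, regInd, Subgroup.orderOf_coe]

/-- The restriction of a height zero character is seen by every block inducing its block. -/
theorem lam_restrict_unit (hM : IsPModular p M) {b : Set (IrrCharacter H)}
    {B : Set (IrrCharacter G)} (hind : IsInducedBlock M H b B) {χ : IrrCharacter G} (hχ : χ ∈ B)
    (h0 : blockHeight p B (χ : G → ℂ) = 0) {ξ : IrrCharacter H} (hξ : ξ ∈ b) :
    ¬ MemLocalIdeal M (lam (ξ : H → ℂ) (regConj p (fun x : H => (χ : G → ℂ) (x : G)))) := by
  have hP := pmod_prime hM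
  intro h
  have h1 := induced_congr_fun hP (hind.2.2 ξ hξ χ hχ)
    (f := regConj p (χ : G → ℂ))
    ⟨regConj_class (irr_isCharacter χ.2), regConj_memLR hP (irr_isCharacter χ.2)⟩
  rw [regConj_restrict] at h1
  exact lam_regConj_unit hM hind.2.1 hχ hχ h0 (memLI_congr hP (memLI_symm hP h1) h)

/-- Some height zero constituent in an inducing block has multiplicity prime to `p`. -/
theorem exists_height_zero_constituent (hM : IsPModular p M) {b : Set (IrrCharacter H)}
    {B : Set (IrrCharacter G)} (hind : IsInducedBlock M H b B) {χ : IrrCharacter G} (hχ : χ ∈ B)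
    (h0 : blockHeight p B (χ : G → ℂ) = 0) :
    ∃ η ∈ b, blockHeight p b (η : H → ℂ) = 0 ∧ ∃ n : ℕ,
      classInner (fun h : H => (χ : G → ℂ) h) (η : H → ℂ) = (n : ℂ) ∧ ¬ p ∣ n := by
  classical
  have hP := pmod_prime hM
  have hres : IsCharacter H (fun x : H => (χ : G → ℂ) x) :=
    isCharacter_comp H.subtype (irr_isCharacter χ.2)
  obtain ⟨n, hn⟩ := exists_decomposition hres
  obtain ⟨ξ, hξ⟩ := block_nonempty hP hind.1
  have hu := lam_restrict_unit hM hind hχ h0 hξ
  have e : regConj p (fun x : H => (χ : G → ℂ) x) =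
      ∑ η : IrrCharacter H, (n η : ℂ) • regConj p (η : H → ℂ) := by
    funext x
    have := congrFun hn x
    simp only [regConj, this, Finset.sum_apply, Pi.smul_apply, nsmul_eq_mul, smul_eq_mul, map_sum,
      map_mul, map_natCast, Pi.mul_apply, Pi.natCast_apply, Finset.mul_sum]
    exact Finset.sum_congr rfl fun η _ => by ring
  rw [e, lam_sum] at hu
  simp only [lam_smul] at hu
  obtain ⟨η, hη⟩ : ∃ η : IrrCharacter H,
      ¬ MemLocalIdeal M ((n η : ℂ) * lam (ξ : H → ℂ) (regConj p (η : H → ℂ))) := by
    by_contra hne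
    push Not at hne
    exact hu (memLI_sum hP _ _ fun η _ => hne η)
  have hlam : ¬ MemLocalIdeal M (lam (ξ : H → ℂ) (regConj p (η : H → ℂ))) := fun h =>
    hη (memLI_mul_left hP (memLR_natCast hP _) h)
  have hua : UnitAt p ξ η := fun h => hlam ((zI_dvd_and_iff hM ξ η).2.mpr h)
  have hηb : η ∈ b := (mem_block_iff hP hind.1 hξ η).mpr (hua.sameBlock hM)
  refine ⟨η, hηb, (pow_dexp_dvd_iff_height hM hind.1 hξ hηb).mp hua, n η,
    decomposition_coeff n hn η, fun hd => hη (memLI_mul_right hP ((memLI_natCast_iff hM _).mpr hd)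
      (memLR_lam hP ξ.2 (regConj_class (irr_isCharacter η.2))
        (regConj_memLR hP (irr_isCharacter η.2))))⟩

end Cfsg.Agent.Char
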