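import Cfsg.Agent.Lib.Char.FirstMain
import Cfsg.Agent.Lib.Char.Induced
import Cfsg.Prelude.Def_BlockRank

/-!
# Blocks with a central defect group have rank one
-/

set_option autoImplicit false
set_option linter.style.haveILetI false

namespace Cfsg.Agent.Char

open Cfsg Module
open scoped ComplexConjugate

universe u

variable {G : Type u} [Group G] [Fintype G] {M : Ideal AlgInt} {p : ℕ}

/-- In a block with central defect group the regular parts differ by a scalar. -/
theorem regular_part_scalar (hM : IsPModular p M) {B : Set (IrrCharacter G)} (hB : IsPBlock M B)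
    {Z : Subgroup G} (hD : IsDefectGroup p M B Z) (hZ : Z ≤ Subgroup.center G)
    {χ θ : IrrCharacter G} (hχ : χ ∈ B) (hθ : θ ∈ B) :
    ∃ s : ℂ, ((θ : G → ℂ) * regInd p : G → ℂ) = s • ((χ : G → ℂ) * regInd p) := by
  have hP := pmod_prime hM
  have hp := hM.1
  have hsum := dmin_add_defect (p := p) (block_nonempty hP hB)
  have key : ∀ ψ ∈ B, zI p ψ ψ = (p : ℤ) ^ dmin p B ∧ blockHeight p B (ψ : G → ℂ) = 0 := by
    intro ψ hψ
    obtain ⟨h1, h2, -, -⟩ := central_defect_full hM hZ (card_defectGroup hM hB hD) ψ hB hψ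
      (by have := dmin_le (p := p) hψ; omega)
    rw [(blockHeight_eq_zero_iff hψ).mp h2] at h1
    exact ⟨h1, h2⟩
  set a := (Nat.card G).factorization p
  set d := blockDefect p B
  have hp0 : (p : ℂ) ^ a ≠ 0 := pow_ne_zero _ (Nat.cast_ne_zero.mpr hp.ne_zero)
  set w := wI p B χ θ with hw
  have hself : ∀ ψ ∈ B, wI p B ψ ψ = 1 := fun ψ hψ => by
    rw [wI, (key ψ hψ).1, Int.ediv_self (pow_ne_zero _ (Int.natCast_ne_zero.mpr hp.ne_zero))]
  -- the off-diagonal weight is a sign
  have hsq : ∑ φ ∈ bset B, wI p B χ φ * wI p B φ χ = (p : ℤ) ^ d * wI p B χ χ := by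
    have := sum_wI_sq hM hB hχ
    simp only [pow_two] at this
    refine (Finset.sum_congr rfl fun φ _ => ?_).trans this
    rw [wI_symm hM φ χ]
  set z := zI p χ θ with hz
  refine ⟨(z : ℂ) / (zI p χ χ : ℂ), ?_⟩
  -- the difference has norm zero
  have hne : ∀ ψ ∈ B, (zI p ψ ψ : ℂ) ≠ 0 := fun ψ hψ => Int.cast_ne_zero.mpr (zI_self_pos hp ψ).ne'
  have hw1 : wI p B χ θ * wI p B χ θ = 1 := by
    have hcauchy : (wI p B χ θ : ℤ) ^ 2 ≤ 1 := by
      have h0 : 0 ≤ (classInner ((θ : G → ℂ) * regInd p - ((z : ℂ) / (zI p χ χ : ℂ)) •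
          ((χ : G → ℂ) * regInd p)) ((θ : G → ℂ) * regInd p - ((z : ℂ) / (zI p χ χ : ℂ)) •
          ((χ : G → ℂ) * regInd p))).re := by
        rw [classInner, ← Complex.ofReal_natCast, ← Complex.ofReal_inv, Complex.re_ofReal_mul,
          Complex.re_sum]
        refine mul_nonneg (inv_nonneg.mpr (Nat.cast_nonneg _)) (Finset.sum_nonneg fun x _ => ?_)
        rw [Complex.mul_conj, Complex.ofReal_re]
        exact Complex.normSq_nonneg _
      rw [classInner_sub_left, classInner_sub_right, classInner_sub_right, classInner_smul_left,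
        classInner_smul_left, classInner_smul_right, classInner_smul_right, ← einner_eq, ← einner_eq,
        ← einner_eq, ← einner_eq] at h0
      have e : ∀ a b : IrrCharacter G, einner p (a : G → ℂ) (b : G → ℂ) =
          (zI p a b : ℂ) / (p : ℂ) ^ (Nat.card G).factorization p := fun a b => by
        rw [zI_spec hp, mul_div_cancel_left₀ _ hp0]
      simp only [e, (key χ hχ).1, (key θ hθ).1, zI_symm hp θ χ, hz, zI_eq_mul_wI hM hB hχ θ,
        map_div₀, map_intCast, Int.cast_mul, Int.cast_pow, Int.cast_natCast, map_mul, map_pow,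
        map_natCast] at h0
      have hpm : (0 : ℝ) < (p : ℝ) ^ dmin p B := pow_pos (Nat.cast_pos.mpr hp.pos) _
      have h1 : (0 : ℝ) ≤ (p : ℝ) ^ dmin p B / (p : ℝ) ^ a * (1 - (w : ℝ) ^ 2) := by
        convert h0 using 1
        rw [← Complex.ofReal_re ((p : ℝ) ^ dmin p B / (p : ℝ) ^ a * (1 - (w : ℝ) ^ 2))]
        congr 1
        push_cast
        have : (p : ℂ) ^ dmin p B ≠ 0 := pow_ne_zero _ (Nat.cast_ne_zero.mpr hp.ne_zero)
        field_simp
        ring
      have h2 := (mul_nonneg_iff_of_pos_left (div_pos hpm (pow_pos (Nat.cast_pos.mpr hp.pos) a))).mp h1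
      rw [sub_nonneg] at h2
      exact_mod_cast h2
    have hne0 : wI p B χ θ ≠ 0 := wI_ne_zero hM hB hχ hθ (key θ hθ).2
    nlinarith [sq_nonneg (wI p B χ θ), Int.one_le_abs hne0, abs_mul_abs_self (wI p B χ θ)]
  set f := (θ : G → ℂ) * regInd p - ((z : ℂ) / (zI p χ χ : ℂ)) • ((χ : G → ℂ) * regInd p) with hf
  have hff : classInner f f = 0 := by
    rw [hf, classInner_sub_left, classInner_sub_right, classInner_sub_right, classInner_smul_left,
      classInner_smul_left, classInner_smul_right, classInner_smul_right, ← einner_eq, ← einner_eq,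
      ← einner_eq, ← einner_eq]
    have e : ∀ a b : IrrCharacter G, einner p (a : G → ℂ) (b : G → ℂ) =
        (zI p a b : ℂ) / (p : ℂ) ^ (Nat.card G).factorization p := fun a b => by
      rw [zI_spec hp, mul_div_cancel_left₀ _ hp0]
    simp only [e, (key χ hχ).1, (key θ hθ).1, zI_symm hp θ χ, hz, zI_eq_mul_wI hM hB hχ θ,
      map_div₀, map_intCast, Int.cast_mul, Int.cast_pow, Int.cast_natCast, map_mul, map_pow,
      map_natCast]
    have : (p : ℂ) ^ dmin p B ≠ 0 := pow_ne_zero _ (Nat.cast_ne_zero.mpr hp.ne_zero)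
    have hc : (wI p B χ θ : ℂ) * (wI p B χ θ : ℂ) = 1 := by exact_mod_cast hw1
    field_simp
    linear_combination -((p : ℂ) ^ dmin p B) * hc
  exact sub_eq_zero.mp (classInner_self_eq_zero hff)

/-- The rank of a block with central defect group. -/
theorem blockRank_eq_one_of_central (hM : IsPModular p M) {B : Set (IrrCharacter G)}
    (hB : IsPBlock M B) {Z : Subgroup G} (hD : IsDefectGroup p M B Z)
    (hZ : Z ≤ Subgroup.center G) : blockRank p B = 1 := by
  have hP := pmod_prime hM
  obtain ⟨χ, hχ⟩ := block_nonempty hP hB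
  have hpr : ∀ ψ : IrrCharacter G, pRegularPart p (ψ : G → ℂ) = (ψ : G → ℂ) * regInd p := fun ψ => by
    funext x
    simp only [pRegularPart, IsPRegular, Pi.mul_apply, regInd]
    split_ifs <;> simp_all
  have hne : pRegularPart p (χ : G → ℂ) ≠ 0 := fun h => by
    have := congrFun h 1
    simp [pRegularPart, IsPRegular, hM.1.ne_one] at this
    exact irr_one_ne_zero χ.2 this
  refine le_antisymm (le_trans (Submodule.finrank_mono (Submodule.span_le.2 ?_))
    (le_of_eq (finrank_span_singleton hne))) ?_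
  · rintro _ ⟨θ, hθ, rfl⟩
    obtain ⟨s, hs⟩ := regular_part_scalar hM hB hD hZ hχ hθ
    exact Submodule.mem_span_singleton.2 ⟨s, by simp only [hpr, hs]⟩
  · rw [← finrank_span_singleton (K := ℂ) hne]
    exact Submodule.finrank_mono ((Submodule.span_singleton_le_iff_mem _ _).2
      (Submodule.subset_span ⟨χ, hχ, rfl⟩))

end Cfsg.Agent.Char
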