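import Cfsg.Agent.Lib.Char.BlockNilpotent

/-!
# Pairs of a block of a centralizer, read in the whole group
-/

set_option autoImplicit false

namespace Cfsg.Agent.Char

open Cfsg Module
open scoped ComplexConjugate

universe u

variable {G : Type u} [Group G] [Fintype G] {M : Ideal AlgInt} {p : ℕ}
variable {Q : Subgroup G}

/-- The subgroup `Q R` for `R` inside the centralizer of `Q`. -/
def supSub (Q : Subgroup G) (R0 : Subgroup (Subgroup.centralizer (Q : Set G))) : Subgroup G :=
  Q ⊔ R0.map (Subgroup.centralizer (Q : Set G)).subtype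

omit [Fintype G] in
theorem mem_centralizer_supSub (R0 : Subgroup (Subgroup.centralizer (Q : Set G))) (c : G) :
    c ∈ Subgroup.centralizer (supSub Q R0 : Set G) ↔
      ∃ h : c ∈ Subgroup.centralizer (Q : Set G),
        (⟨c, h⟩ : Subgroup.centralizer (Q : Set G)) ∈
          Subgroup.centralizer (R0 : Set (Subgroup.centralizer (Q : Set G))) := by
  constructor
  · intro h
    refine ⟨fun q hq => h q ((le_sup_left : Q ≤ supSub Q R0) hq), fun r hr => Subtype.ext ?_⟩
    exact h (r : G) ((le_sup_right : R0.map _ ≤ supSub Q R0) ⟨r, hr, rfl⟩)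
  · rintro ⟨hQ, hR⟩ x hx
    have hle : supSub Q R0 ≤ Subgroup.centralizer ({c} : Set G) := by
      refine sup_le (fun q hq => Subgroup.mem_centralizer_singleton_iff.mpr (hQ q hq)) ?_
      rintro _ ⟨r, hr, rfl⟩
      exact Subgroup.mem_centralizer_singleton_iff.mpr (congrArg Subtype.val (hR r hr))
    exact Subgroup.mem_centralizer_singleton_iff.mp (hle hx)

/-- The centralizer of `Q R` in `G` is the centralizer of `R` in that of `Q`. -/
def centSupEquiv (R0 : Subgroup (Subgroup.centralizer (Q : Set G))) :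
    Subgroup.centralizer (supSub Q R0 : Set G) ≃*
      Subgroup.centralizer (R0 : Set (Subgroup.centralizer (Q : Set G))) where
  toFun c := ⟨⟨(c : G), ((mem_centralizer_supSub R0 _).mp c.2).1⟩,
    ((mem_centralizer_supSub R0 _).mp c.2).2⟩
  invFun c := ⟨((c : Subgroup.centralizer (Q : Set G)) : G),
    (mem_centralizer_supSub R0 _).mpr ⟨(c : Subgroup.centralizer (Q : Set G)).2, c.2⟩⟩
  left_inv _ := rfl
  right_inv _ := rfl
  map_mul' _ _ := rfl

/-- A set of characters of the inner centralizer, read on that of `Q R`. -/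
noncomputable def centSupBlock (R0 : Subgroup (Subgroup.centralizer (Q : Set G)))
    (g0 : Set (IrrCharacter (Subgroup.centralizer (R0 : Set (Subgroup.centralizer (Q : Set G)))))) :
    Set (IrrCharacter (Subgroup.centralizer (supSub Q R0 : Set G))) :=
  {ξ' | ∃ ξ ∈ g0, ∀ c : Subgroup.centralizer (supSub Q R0 : Set G),
    (ξ' : Subgroup.centralizer (supSub Q R0 : Set G) → ℂ) c =
      (ξ : Subgroup.centralizer (R0 : Set (Subgroup.centralizer (Q : Set G))) → ℂ) (centSupEquiv R0 c)}

theorem centSupBlock_eq (R0 : Subgroup (Subgroup.centralizer (Q : Set G)))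
    [Fintype (Subgroup.centralizer (supSub Q R0 : Set G))]
    [Fintype (Subgroup.centralizer (R0 : Set (Subgroup.centralizer (Q : Set G))))]
    (g0 : Set (IrrCharacter (Subgroup.centralizer (R0 : Set (Subgroup.centralizer (Q : Set G)))))) :
    centSupBlock R0 g0 = irrTransport (centSupEquiv R0) '' g0 := by
  ext ξ'
  constructor
  · rintro ⟨ξ, hξ, h⟩
    exact ⟨ξ, hξ, Subtype.ext (funext fun c => by rw [irrTransport_apply]; exact (h c).symm)⟩
  · rintro ⟨ξ, hξ, rfl⟩
    exact ⟨ξ, hξ, fun c => irrTransport_apply _ _ c⟩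

variable {f : Set (IrrCharacter (Subgroup.centralizer (Q : Set G)))}
  {R0 : Subgroup (Subgroup.centralizer (Q : Set G))}
  {g0 : Set (IrrCharacter (Subgroup.centralizer (R0 : Set (Subgroup.centralizer (Q : Set G)))))}

theorem subgroupBlockCoeff_centSup (y : G) :
    subgroupBlockCoeff (Subgroup.centralizer (supSub Q R0 : Set G)) (centSupBlock R0 g0) y =
      extendByZero (Subgroup.centralizer (Q : Set G))
        (subgroupBlockCoeff (Subgroup.centralizer (R0 : Set (Subgroup.centralizer (Q : Set G)))) g0) y := by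
  haveI := Fintype.ofFinite (Subgroup.centralizer (supSub Q R0 : Set G))
  haveI := Fintype.ofFinite (Subgroup.centralizer (Q : Set G))
  haveI := Fintype.ofFinite (Subgroup.centralizer (R0 : Set (Subgroup.centralizer (Q : Set G))))
  rw [subgroupBlockCoeff_eq, subgroupBlockCoeff_eq, centSupBlock_eq]
  by_cases hy : y ∈ Subgroup.centralizer (supSub Q R0 : Set G)
  · obtain ⟨hQ, hR⟩ := (mem_centralizer_supSub R0 y).mp hy
    rw [extendByZero_mem _ _ hy, extendByZero_mem _ _ hQ, extendByZero_mem _ _ hR,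
      blockCoeff_transport]
    rfl
  · rw [extendByZero_not_mem _ _ hy]
    by_cases hQ : y ∈ Subgroup.centralizer (Q : Set G)
    · rw [extendByZero_mem _ _ hQ, extendByZero_not_mem]
      exact fun h => hy ((mem_centralizer_supSub R0 y).mpr ⟨hQ, h⟩)
    · rw [extendByZero_not_mem _ _ hQ]

/-- A pair of `f` gives a pair above `(Q, f)`. -/
theorem normalSubpair_centSup (hM : IsPModular p M) (hQ : IsPGroup p Q)
    (h : IsBrauerPairOf p M f R0 g0) :
    IsNormalSubpair p M Q f (supSub Q R0) (centSupBlock R0 g0) := by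
  haveI := Fintype.ofFinite (Subgroup.centralizer (supSub Q R0 : Set G))
  haveI := Fintype.ofFinite (Subgroup.centralizer (Q : Set G))
  haveI := Fintype.ofFinite (Subgroup.centralizer (R0 : Set (Subgroup.centralizer (Q : Set G))))
  have hRC : R0.map (Subgroup.centralizer (Q : Set G)).subtype ≤ Subgroup.centralizer (Q : Set G) :=
    Subgroup.map_subtype_le _
  refine ⟨⟨hQ, h.2.1⟩, ⟨isPGroup_sup (h.1.1.map _) hQ hRC, centSupBlock_eq R0 g0 ▸ isPBlock_transport _ h.1.2⟩, le_sup_left,
    sup_le Subgroup.le_normalizer (hRC.trans (centralizer_le_norm Q)), ?_, ?_⟩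
  · intro x hx
    have hle : supSub Q R0 ≤ pairStab (pmod_prime hM) h.2.1 :=
      sup_le (stabCtx_pairStab hM hQ h.2.1).le (hRC.trans (stabCtx_pairStab hM hQ h.2.1).cent)
    exact ((mem_pairStab _ _).mp (hle hx)).2
  · rw [centSupBlock_eq]
    rintro _ ⟨ξ, hξ, rfl⟩
    have h1 := h.2.2 ξ hξ
    rw [brauerOmega_eq] at h1 ⊢
    convert h1 using 2
    simp only [lam, irrTransport_apply, map_one]
    congr 1
    refine Fintype.sum_equiv (centSupEquiv R0).toEquiv _ _ fun c => ?_
    simp only [MulEquiv.toEquiv_eq_coe, EquivLike.coe_coe, tr_apply]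
    rw [subgroupBlockCoeff_eq, extendByZero_mem _ _ ((mem_centralizer_supSub R0 _).mp c.2).1]
    rfl

/-- The stabilizer of a pair of `f` stabilizes the pair above `(Q, f)`. -/
theorem stabilizes_centSup (hM : IsPModular p M) (hg0 : IsPBlock M g0)
    {x : Subgroup.centralizer (Q : Set G)}
    (hx : x ∈ Subgroup.normalizer (R0 : Set (Subgroup.centralizer (Q : Set G))))
    (hst : StabilizesBlock (Subgroup.centralizer (R0 : Set (Subgroup.centralizer (Q : Set G)))) g0 x) :
    (x : G) ∈ Subgroup.normalizer (supSub Q R0 : Set G) ∧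
      StabilizesBlock (Subgroup.centralizer (supSub Q R0 : Set G)) (centSupBlock R0 g0) (x : G) := by
  haveI := Fintype.ofFinite (Subgroup.centralizer (supSub Q R0 : Set G))
  haveI := Fintype.ofFinite (Subgroup.centralizer (Q : Set G))
  haveI := Fintype.ofFinite (Subgroup.centralizer (R0 : Set (Subgroup.centralizer (Q : Set G))))
  have hn : (x : G) ∈ Subgroup.normalizer (supSub Q R0 : Set G) := by
    rw [Subgroup.mem_normalizer_iff_map_conj_eq, supSub, Subgroup.map_sup,
      Subgroup.mem_normalizer_iff_map_conj_eq.mp (centralizer_le_norm Q x.2), Subgroup.map_map]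
    congr 1
    conv_rhs => rw [← Subgroup.mem_normalizer_iff_map_conj_eq.mp hx, Subgroup.map_map]
    rfl
  refine ⟨hn, stabilizes_of_blockCoeff (pmod_prime hM) hn (centSupBlock_eq R0 g0 ▸ isPBlock_transport _ hg0) fun y => ?_⟩
  show subgroupBlockCoeff _ (centSupBlock R0 g0) ((x : G) * y * (x : G)⁻¹) =
    subgroupBlockCoeff _ (centSupBlock R0 g0) y
  rw [subgroupBlockCoeff_centSup, subgroupBlockCoeff_centSup]
  by_cases hy : y ∈ Subgroup.centralizer (Q : Set G)
  · rw [extendByZero_mem _ _ hy, extendByZero_mem _ _ (mul_mem (mul_mem x.2 hy) (inv_mem x.2))]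
    exact blockCoeff_conj_eq_of_stabilizes hx hst ⟨y, hy⟩
  · rw [extendByZero_not_mem _ _ hy, extendByZero_not_mem]
    exact fun h => hy (by simpa [mul_assoc] using mul_mem (mul_mem (inv_mem x.2) h) x.2)

/-- A local block of a nilpotent block is nilpotent. -/
theorem nilpotent_local (hM : IsPModular p M) {B : Set (IrrCharacter G)}
    (hnil : IsNilpotentBlock p M B) (hQf : IsBrauerPairOf p M B Q f) :
    IsNilpotentBlock p M f := by
  refine ⟨hQf.1.2, fun R0 g0 hR x hx hst hreg => ?_⟩
  have hpair := (brauerPairOf_iff hM hQf.2.1 (normalSubpair_centSup hM hQf.1.1 hR)).mp hQf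
  obtain ⟨hn, hs⟩ := stabilizes_centSup hM hR.1.2 hx hst
  have hc := hnil.2 _ _ hpair (x : G) hn hs (by
    show ¬ p ∣ orderOf (x : G)
    rw [Subgroup.orderOf_coe]
    exact hreg)
  intro r hr
  exact Subtype.ext (hc (r : G) ((le_sup_right : R0.map _ ≤ supSub Q R0) ⟨r, hr, rfl⟩))

variable {B : Set (IrrCharacter G)} {P : Subgroup G}
  {e : Set (IrrCharacter (Subgroup.centralizer (P : Set G)))}

/-- Below the maximal pair of a nilpotent block all pairs are fully centralized. -/
theorem defect_of_nilpotent (hM : IsPModular p M) (hmax : IsMaximalBrauerPair p M B P e)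
    (hnil : IsNilpotentBlock p M B) (hle : SubpairLE p M Q f P e) :
    IsDefectGroup p M f
      ((P ⊓ Subgroup.centralizer (Q : Set G)).subgroupOf (Subgroup.centralizer (Q : Set G))) := by
  have hf := (isBrauerPair_of_le hmax.1.1 hle).2
  have hF := blockFusion_isOn hM hmax
  refine (fullyCentralized_iff hM hF hle hf).mp ⟨subpair_le hle, fun Q' hQ' => ?_⟩
  obtain ⟨g, hg, rfl⟩ := (bfs_isConj_iff hM hF hle).mp hQ'
  obtain ⟨s, hs, hsu⟩ := maps_inner_of_nilpotent hM hmax hnil _ Q f rfl hle g hg
  have hmap : Q.map (MulAut.conj g).toMonoidHom = Q.map (MulAut.conj s).toMonoidHom := by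
    ext z
    simp only [Subgroup.mem_map]
    constructor
    · rintro ⟨u, hu, rfl⟩; exact ⟨u, hu, (hsu u hu).symm⟩
    · rintro ⟨u, hu, rfl⟩; exact ⟨u, hu, hsu u hu⟩
  simp only [FusionSystem.centralizerIn]
  have hP : P.map (MulAut.conj s).toMonoidHom = P :=
    Subgroup.mem_normalizer_iff_map_conj_eq.mp (Subgroup.le_normalizer hs)
  refine le_of_eq ?_
  rw [hmap]
  conv_lhs => rw [← hP]
  exact card_inf_centralizer_conj P Q s

end Cfsg.Agent.Char
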