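import Cfsg.Agent.Lib.Char.Contribution

/-!
# The number of height zero characters against the rank of a subsection
-/

set_option autoImplicit false
set_option linter.unusedSectionVars false
set_option linter.style.haveILetI false

namespace Cfsg.Agent.Char

open Cfsg
open scoped ComplexConjugate

universe u

variable {G : Type u} [Group G] [Fintype G] {M : Ideal AlgInt} {p : ℕ}

/-- A finite family of positive reals with product at least one has sum at least its size. -/
theorem card_le_sum_of_one_le_prod {ι : Type*} [Fintype ι] (f : ι → ℝ) (hf : ∀ i, 0 < f i)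
    (h : 1 ≤ ∏ i, f i) : (Fintype.card ι : ℝ) ≤ ∑ i, f i := by
  have h1 : 0 ≤ ∑ i, Real.log (f i) := by
    rw [← Real.log_prod fun i _ => (hf i).ne']
    exact Real.log_nonneg h
  have h2 : ∑ i, Real.log (f i) ≤ ∑ i, (f i - 1) :=
    Finset.sum_le_sum fun i _ => Real.log_le_sub_one_of_pos (hf i)
  rw [Finset.sum_sub_distrib, Finset.sum_const, Finset.card_univ, nsmul_one] at h2
  linarith

theorem wI_comm_cast (hM : IsPModular p M) (b : Set (IrrCharacter G)) (η θ : IrrCharacter G) :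
    (wI p b η θ : ℂ) = (wI p b θ η : ℂ) := by rw [wI_symm hM η θ]

open scoped Classical in
/-- Brauer's bound on the number of height zero characters. -/
theorem card_height_zero_sq_le (hM : IsPModular p M) {B : Set (IrrCharacter G)} {x : G}
    (hx : ∃ k : ℕ, orderOf x = p ^ k) [Fintype (Subgroup.centralizer ({x} : Set G))]
    {e : Set (IrrCharacter (Subgroup.centralizer ({x} : Set G)))}
    (hind : IsInducedBlock M (Subgroup.centralizer ({x} : Set G)) e B) :
    Nat.card {χ : IrrCharacter G // χ ∈ B ∧ blockHeight p B (χ : G → ℂ) = 0} ^ 2 ≤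
      p ^ (2 * blockDefect p e) * blockRank p e := by
  have hP := pmod_prime hM
  obtain ⟨k, hk⟩ := hx
  set N := orderOf x with hN
  have hN0 : N ≠ 0 := (orderOf_pos x).ne'
  haveI : NeZero N := ⟨hN0⟩
  set xc : Subgroup.centralizer ({x} : Set G) :=
    ⟨x, Subgroup.mem_centralizer_singleton_iff.mpr rfl⟩ with hxc
  have hxN : orderOf xc = N := Subgroup.orderOf_mk x _
  have hcent : ∀ c : Subgroup.centralizer ({x} : Set G), xc * c = c * xc := fun c =>
    Subtype.ext (Subgroup.mem_centralizer_singleton_iff.mp c.2).symm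
  choose ζ hζN hζ using fun η => exists_central_root hcent η
  simp only [hxN] at hζN
  have hζ0 : ∀ η, ζ η ≠ 0 := fun η h => by
    have := hζN η
    rw [h, zero_pow hN0] at this
    exact zero_ne_one this
  have hζc : ∀ η, conj (ζ η) = (ζ η)⁻¹ := fun η =>
    (Complex.inv_eq_conj (Complex.norm_eq_one_of_pow_eq_one (hζN η) hN0)).symm
  set zc : IrrCharacter (Subgroup.centralizer ({x} : Set G)) → cyc N :=
    fun η => ⟨ζ η, mem_cyc (hζN η)⟩ with hzc
  let C : IrrCharacter G → IrrCharacter G → cyc N := fun χ ψ =>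
    ∑ η : IrrCharacter (Subgroup.centralizer ({x} : Set G)) with η ∈ e,
      ∑ θ : IrrCharacter (Subgroup.centralizer ({x} : Set G)) with θ ∈ e,
        (mRes x χ η : cyc N) * (mRes x ψ θ : cyc N) * (wI p e η θ : cyc N) *
          (zc η * (zc θ)⁻¹)
  have hC : ∀ χ ψ, ((C χ ψ : cyc N) : ℂ) = ctr p e ζ χ ψ := fun χ ψ => by
    simp [C, ctr, zc]
  let zu : (ZMod N)ˣ → IrrCharacter (Subgroup.centralizer ({x} : Set G)) → ℂ :=
    fun u η => ζ η ^ (u : ZMod N).val
  have hzuc : ∀ u η, conj (zu u η) = (zu u η)⁻¹ := fun u η => by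
    simp only [zu, map_pow, hζc, inv_pow]
  have hmul : ∀ (u : (ZMod N)ˣ) (η) (j : ℕ), (zu u η) ^ j = ζ η ^ ((u : ZMod N).val * j) :=
    fun u η j => (pow_mul _ _ _).symm
  have hφC : ∀ (φ : cyc N →ₐ[ℚ] ℂ) (j : ℕ),
      (∀ (μ : ℂ) (h : μ ^ N = 1), φ ⟨μ, mem_cyc h⟩ = μ ^ j) →
      ∀ χ ψ, φ (C χ ψ) = ctr p e (fun η => ζ η ^ j) χ ψ := by
    intro φ j hj χ ψ
    have e1 : ∀ η, φ (zc η) = ζ η ^ j := fun η => hj _ (hζN η)
    simp only [C, map_sum, map_mul, map_natCast, map_intCast, map_inv₀, e1, ctr]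
  set q : ℚ := ((p : ℚ) ^ blockDefect p e) ^ 2 * (blockRank p e : ℚ) with hq
  set S : Finset (IrrCharacter G) := Finset.univ.filter fun χ => χ ∈ B with hS
  -- the base equation
  have hbase : ∑ χ ∈ S, ∑ ψ ∈ S, C χ ψ * C ψ χ = (q : cyc N) := by
    apply Subtype.ext
    have h := sum_ctr_sq hM ⟨k, hk⟩ hind hζc hζ
    rw [hq]
    push_cast
    simp only [AddSubmonoidClass.coe_finsetSum, MulMemClass.coe_mul, hC]
    exact h
  -- the conjugate equations
  have heq : ∀ u : (ZMod N)ˣ, ∑ χ ∈ S, ∑ ψ ∈ S, ctr p e (zu u) χ ψ * ctr p e (zu u) ψ χ = (q : ℂ) := by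
    intro u
    obtain ⟨φ, hφ⟩ := exists_embedding_of_power hN0 (ZMod.val_coe_unit_coprime u)
    have h := congrArg φ hbase
    simp only [map_sum, map_mul, map_ratCast, hφC φ _ hφ] at h
    exact h
  have hherm : ∀ u χ ψ, ctr p e (zu u) ψ χ = conj (ctr p e (zu u) χ ψ) := by
    intro u χ ψ
    simp only [ctr, map_sum, map_mul, map_natCast, map_intCast, map_inv₀, hzuc, inv_inv]
    rw [Finset.sum_comm]
    refine Finset.sum_congr rfl fun η _ => Finset.sum_congr rfl fun θ _ => ?_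
    rw [wI_comm_cast hM e θ η]
    ring
  have hreal : ∀ u : (ZMod N)ˣ, ∑ χ ∈ S, ∑ ψ ∈ S, Complex.normSq (ctr p e (zu u) χ ψ) = (q : ℝ) := by
    intro u
    have h := heq u
    have e1 : ∀ χ ψ, ctr p e (zu u) χ ψ * ctr p e (zu u) ψ χ =
        ((Complex.normSq (ctr p e (zu u) χ ψ) : ℝ) : ℂ) := fun χ ψ => by
      rw [hherm u χ ψ, Complex.mul_conj]
    simp only [e1] at h
    exact_mod_cast h
  set T : Finset (IrrCharacter G) :=
    Finset.univ.filter fun χ => χ ∈ B ∧ blockHeight p B (χ : G → ℂ) = 0 with hT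
  -- each pair of height zero characters
  have hpair : ∀ χ ∈ T, ∀ ψ ∈ T,
      (Fintype.card (ZMod N)ˣ : ℝ) ≤ ∑ u : (ZMod N)ˣ, Complex.normSq (ctr p e (zu u) χ ψ) := by
    intro χ hχ ψ hψ
    obtain ⟨hχB, hχ0⟩ := (Finset.mem_filter.mp hχ).2
    obtain ⟨hψB, hψ0⟩ := (Finset.mem_filter.mp hψ).2
    have hint : ∀ u η θ, IsIntegral ℤ (zu u η * (zu u θ)⁻¹) ∧
        (zu u η * (zu u θ)⁻¹) ^ p ^ k = 1 := by
      intro u η θ
      have h1 : (zu u η * (zu u θ)⁻¹) ^ p ^ k = 1 := by
        rw [← hk, mul_pow, inv_pow, hmul, hmul, pow_mul', hζN, one_pow, pow_mul', hζN, one_pow,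
          inv_one, one_mul]
      exact ⟨root_of_unity_isIntegral (pow_ne_zero k hM.1.ne_zero) h1, h1⟩
    have hCint : ∀ u, IsIntegral ℤ (ctr p e (zu u) χ ψ) := fun u =>
      IsIntegral.sum _ fun η _ => IsIntegral.sum _ fun θ _ => IsIntegral.mul
        (IsIntegral.mul (IsIntegral.mul (by exact isIntegral_natCast _)
          (by exact isIntegral_natCast _)) (by exact isIntegral_intCast _)) (hint u η θ).1
    have hCne : ∀ u, ctr p e (zu u) χ ψ ≠ 0 := by
      intro u h0
      refine ctr_one_unit hM hind hχB hψB hχ0 hψ0 ?_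
      rw [← sub_zero (ctr p e (fun _ => 1) χ ψ), ← h0]
      simp only [ctr, ← Finset.sum_sub_distrib]
      refine memLI_sum hP _ _ fun η _ => memLI_sum hP _ _ fun θ _ => ?_
      rw [inv_one, mul_one, ← mul_sub]
      refine memLI_mul_left hP (memLR_mul hP (memLR_mul hP (memLR_natCast hP _)
        (memLR_natCast hP _)) (memLR_intCast hP _)) ?_
      exact memLI_symm hP (root_congr_one hM (hint u η θ).2)
    have hmemc : ∀ u, ctr p e (zu u) χ ψ ∈ cyc N := by
      intro u
      have hz : ∀ η, zu u η ∈ cyc N := fun η => pow_mem (mem_cyc (hζN η)) _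
      refine sum_mem fun η _ => sum_mem fun θ _ => ?_
      exact mul_mem (mul_mem (mul_mem (natCast_mem _ _) (natCast_mem _ _)) (intCast_mem _ _))
        (mul_mem (hz η) (inv_mem (hz θ)))
    set Pr : ℂ := ∏ u : (ZMod N)ˣ, ctr p e (zu u) χ ψ with hPr
    have hPrm : Pr ∈ cyc N := prod_mem fun u _ => hmemc u
    obtain ⟨r, hr⟩ := exists_rat_of_fixed hN0 hPrm fun φ => by
      obtain ⟨j, hj, hφ⟩ := exists_power_of_embedding hN0 φ
      have e0 : (⟨Pr, hPrm⟩ : cyc N) = ∏ u : (ZMod N)ˣ, ⟨_, hmemc u⟩ := by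
        apply Subtype.ext
        simp [hPr]
      rw [e0, map_prod]
      refine Fintype.prod_equiv (Equiv.mulRight (ZMod.unitOfCoprime j hj)) _ _ fun u => ?_
      obtain ⟨φu, hφu⟩ := exists_embedding_of_power hN0 (ZMod.val_coe_unit_coprime u)
      have hz' : (⟨ctr p e (zu u) χ ψ, hmemc u⟩ : cyc N) =
          ∑ η : IrrCharacter (Subgroup.centralizer ({x} : Set G)) with η ∈ e,
            ∑ θ : IrrCharacter (Subgroup.centralizer ({x} : Set G)) with θ ∈ e,
              (mRes x χ η : cyc N) * (mRes x ψ θ : cyc N) * (wI p e η θ : cyc N) *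
                ((zc η) ^ (u : ZMod N).val * ((zc θ) ^ (u : ZMod N).val)⁻¹) := by
        apply Subtype.ext
        simp [ctr, zu, zc]
      have e1 : ∀ η, φ (zc η) = ζ η ^ j := fun η => hφ _ (hζN η)
      have e2 : ∀ η, zu ((Equiv.mulRight (ZMod.unitOfCoprime j hj)) u) η =
          (ζ η ^ j) ^ (u : ZMod N).val := by
        intro η
        simp only [zu, Equiv.coe_mulRight, Units.val_mul, ZMod.coe_unitOfCoprime, ZMod.val_mul,
          ZMod.val_natCast]
        rw [← pow_mul, ← pow_eq_pow_mod _ (hζN η), mul_comm j, pow_mul, pow_mul,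
          ← pow_eq_pow_mod (n := N) j (by rw [← pow_mul, mul_comm, pow_mul, hζN, one_pow])]
      rw [hz']
      simp only [map_sum, map_mul, map_natCast, map_intCast, map_inv₀, map_pow, e1, ctr, e2]
    have hrint : IsIntegral ℤ (r : ℂ) := hr ▸ IsIntegral.prod _ fun u _ => hCint u
    obtain ⟨z, hz⟩ := isIntegral_rat_cast_imp hrint
    have hz0 : z ≠ 0 := by
      intro h
      have : Pr = 0 := by rw [hr, ← hz, h]; simp
      rw [hPr, Finset.prod_eq_zero_iff] at this
      obtain ⟨u, -, hu⟩ := this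
      exact hCne u hu
    have h1 : (1 : ℝ) ≤ ∏ u : (ZMod N)ˣ, Complex.normSq (ctr p e (zu u) χ ψ) := by
      rw [← map_prod, ← hPr, hr, ← hz]
      push_cast
      rw [Complex.normSq_intCast]
      have : (1 : ℤ) ≤ z * z := by
        have := mul_self_pos.mpr hz0
        omega
      exact_mod_cast this
    exact card_le_sum_of_one_le_prod _ (fun u => Complex.normSq_pos.mpr (hCne u)) h1
  have hTS : T ⊆ S := fun χ hχ => Finset.mem_filter.mpr
    ⟨Finset.mem_univ _, (Finset.mem_filter.mp hχ).2.1⟩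
  have hmain : (Fintype.card (ZMod N)ˣ : ℝ) * ((T.card : ℝ) ^ 2) ≤
      (Fintype.card (ZMod N)ˣ : ℝ) * (q : ℝ) := by
    calc (Fintype.card (ZMod N)ˣ : ℝ) * ((T.card : ℝ) ^ 2)
        = ∑ χ ∈ T, ∑ ψ ∈ T, (Fintype.card (ZMod N)ˣ : ℝ) := by
          simp [Finset.sum_const]; ring
      _ ≤ ∑ χ ∈ T, ∑ ψ ∈ T, ∑ u : (ZMod N)ˣ, Complex.normSq (ctr p e (zu u) χ ψ) :=
          Finset.sum_le_sum fun χ hχ => Finset.sum_le_sum fun ψ hψ => hpair χ hχ ψ hψ
      _ = ∑ u : (ZMod N)ˣ, ∑ χ ∈ T, ∑ ψ ∈ T, Complex.normSq (ctr p e (zu u) χ ψ) := by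
          conv_rhs => rw [Finset.sum_comm]
          exact Finset.sum_congr rfl fun _ _ => Finset.sum_comm
      _ ≤ ∑ u : (ZMod N)ˣ, ∑ χ ∈ S, ∑ ψ ∈ S, Complex.normSq (ctr p e (zu u) χ ψ) :=
          Finset.sum_le_sum fun u _ => le_trans
            (Finset.sum_le_sum fun χ _ => Finset.sum_le_sum_of_subset_of_nonneg hTS
              fun _ _ _ => Complex.normSq_nonneg _)
            (Finset.sum_le_sum_of_subset_of_nonneg hTS fun χ _ _ =>
              Finset.sum_nonneg fun _ _ => Complex.normSq_nonneg _)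
      _ = _ := by rw [Finset.sum_congr rfl fun u _ => hreal u, Finset.sum_const, Finset.card_univ,
          nsmul_eq_mul]
  have h2 := le_of_mul_le_mul_left hmain (by exact_mod_cast Fintype.card_pos)
  rw [hq] at h2
  rw [Nat.card_eq_fintype_card, Fintype.card_subtype, ← hT, mul_comm 2, pow_mul]
  exact_mod_cast h2

end Cfsg.Agent.Char
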