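import Cfsg.Agent.Lib.Char.NormalP
import Cfsg.Agent.Lib.Char.Height
import Cfsg.Agent.Lib.Char.Congr

/-!
# Defect classes and defect groups
-/

set_option autoImplicit false

namespace Cfsg.Agent.Char

open Cfsg Module
open scoped ComplexConjugate

universe u

variable {G : Type u} [Group G] [Fintype G] {M : Ideal AlgInt} {p : ℕ}

/-- A Sylow `p`-subgroup of a centralizer, as a subgroup of `G`. -/
def IsSylCent (p : ℕ) (g : G) (D : Subgroup G) : Prop :=
  ∃ P : Sylow p (Subgroup.centralizer ({g} : Set G)),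
    D = (P : Subgroup (Subgroup.centralizer ({g} : Set G))).map
      (Subgroup.centralizer ({g} : Set G)).subtype

omit [Fintype G] in
theorem isDefectGroup_iff (B : Set (IrrCharacter G)) (D : Subgroup G) :
    IsDefectGroup p M B D ↔ ∃ g, IsDefectClass M B g ∧ IsSylCent p g D := Iff.rfl

omit [Fintype G] in
theorem exists_isSylCent (p : ℕ) (g : G) : ∃ D, IsSylCent p g D :=
  ⟨_, Classical.arbitrary (Sylow p (Subgroup.centralizer ({g} : Set G))), rfl⟩

omit [Fintype G] in
theorem IsSylCent.le {g : G} {D : Subgroup G} (h : IsSylCent p g D) :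
    D ≤ Subgroup.centralizer ({g} : Set G) := by
  obtain ⟨P, rfl⟩ := h
  exact Subgroup.map_subtype_le _

omit [Fintype G] in
theorem IsSylCent.isPGroup {g : G} {D : Subgroup G} (h : IsSylCent p g D) : IsPGroup p D := by
  obtain ⟨P, rfl⟩ := h
  exact P.isPGroup'.map _

omit [Fintype G] in
theorem IsSylCent.self_mem_centralizer {g : G} {D : Subgroup G} (h : IsSylCent p g D) :
    g ∈ Subgroup.centralizer (D : Set G) :=
  fun w hw => Subgroup.mem_centralizer_singleton_iff.mp (h.le hw)

theorem IsSylCent.card (hp : p.Prime) {g : G} {D : Subgroup G} (h : IsSylCent p g D) :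
    Nat.card D = p ^ (Nat.card (Subgroup.centralizer ({g} : Set G))).factorization p := by
  obtain ⟨P, rfl⟩ := h
  have := Fact.mk hp
  rw [Subgroup.card_map_of_injective (Subgroup.subtype_injective _)]
  exact P.card_eq_multiplicity

theorem IsSylCent.exists_conj_le (hp : p.Prime) {g : G} {D : Subgroup G} (h : IsSylCent p g D)
    {Q : Subgroup G} (hQ : IsPGroup p Q) {g' : G} (hg' : IsConj g g')
    (hc : g' ∈ Subgroup.centralizer (Q : Set G)) :
    ∃ x : G, Q ≤ D.map (MulAut.conj x).toMonoidHom := by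
  obtain ⟨P, rfl⟩ := h
  have := Fact.mk hp
  obtain ⟨c, rfl⟩ := isConj_iff.mp hg'
  have hle : Q.map (MulAut.conj c⁻¹).toMonoidHom ≤ (Subgroup.centralizer ({g} : Set G)) := by
    rintro _ ⟨w, hw, rfl⟩
    refine Subgroup.mem_centralizer_singleton_iff.mpr ?_
    have h1 := hc w hw
    simp only [MulEquiv.toMonoidHom_eq_coe, MonoidHom.coe_coe, MulAut.conj_apply, inv_inv]
    calc c⁻¹ * w * c * g = c⁻¹ * (w * (c * g * c⁻¹)) * c := by group
      _ = c⁻¹ * (c * g * c⁻¹ * w) * c := by rw [h1]
      _ = g * (c⁻¹ * w * c) := by group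
  have hQ' : IsPGroup p ((Q.map (MulAut.conj c⁻¹).toMonoidHom).subgroupOf (Subgroup.centralizer ({g} : Set G))) :=
    (hQ.map _).of_equiv (Subgroup.subgroupOfEquivOfLe hle).symm
  obtain ⟨R, hR⟩ := hQ'.exists_le_sylow
  obtain ⟨t, rfl⟩ := MulAction.exists_smul_eq (Subgroup.centralizer ({g} : Set G)) P R
  refine ⟨c * (t : G), fun w hw => ?_⟩
  have hmem : c⁻¹ * w * c ∈ Q.map (MulAut.conj c⁻¹).toMonoidHom :=
    ⟨w, hw, by simp⟩
  have h2 : (⟨_, hle hmem⟩ : (Subgroup.centralizer ({g} : Set G))) ∈ ((t • P : Sylow p (Subgroup.centralizer ({g} : Set G))) : Subgroup (Subgroup.centralizer ({g} : Set G))) :=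
    hR (Subgroup.mem_subgroupOf.mpr hmem)
  rw [Sylow.coe_subgroup_smul] at h2
  obtain ⟨u, hu, hut⟩ := h2
  refine ⟨(u : G), ⟨u, hu, rfl⟩, ?_⟩
  have h3 : (t : G) * (u : G) * (t : G)⁻¹ = c⁻¹ * w * c := congrArg Subtype.val hut
  simp only [MulEquiv.toMonoidHom_eq_coe, MonoidHom.coe_coe, MulAut.conj_apply]
  calc c * (t : G) * (u : G) * (c * (t : G))⁻¹ = c * ((t : G) * u * (t : G)⁻¹) * c⁻¹ := by group
    _ = w := by rw [h3]; group

theorem IsSylCent.conj (hp : p.Prime) {g : G} {D : Subgroup G} (h : IsSylCent p g D) (c : G) :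
    IsSylCent p (c * g * c⁻¹) (D.map (MulAut.conj c).toMonoidHom) := by
  have := Fact.mk hp
  have hle : D.map (MulAut.conj c).toMonoidHom ≤ Subgroup.centralizer ({c * g * c⁻¹} : Set G) := by
    rintro _ ⟨w, hw, rfl⟩
    refine Subgroup.mem_centralizer_singleton_iff.mpr ?_
    have h1 := Subgroup.mem_centralizer_singleton_iff.mp (h.le hw)
    simp only [MulEquiv.toMonoidHom_eq_coe, MonoidHom.coe_coe, MulAut.conj_apply]
    calc c * w * c⁻¹ * (c * g * c⁻¹) = c * (w * g) * c⁻¹ := by group
      _ = c * (g * w) * c⁻¹ := by rw [h1]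
      _ = c * g * c⁻¹ * (c * w * c⁻¹) := by group
  obtain ⟨Q, hQ⟩ := exists_isSylCent p (c * g * c⁻¹)
  have hcard : Nat.card (D.map (MulAut.conj c).toMonoidHom) = Nat.card Q := by
    rw [Subgroup.card_map_of_injective (MulEquiv.injective _), h.card hp, hQ.card hp]
    have hmap : Subgroup.centralizer ({c * g * c⁻¹} : Set G) =
        (Subgroup.centralizer ({g} : Set G)).map (MulAut.conj c).toMonoidHom := by
      ext x
      simp only [Subgroup.mem_map_equiv, MulAut.conj_symm_apply, Subgroup.mem_centralizer_singleton_iff]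
      constructor
      · intro hx
        calc c⁻¹ * x * c * g = c⁻¹ * (x * (c * g * c⁻¹)) * c := by group
          _ = c⁻¹ * (c * g * c⁻¹ * x) * c := by rw [hx]
          _ = g * (c⁻¹ * x * c) := by group
      · intro hx
        calc x * (c * g * c⁻¹) = c * (c⁻¹ * x * c * g) * c⁻¹ := by group
          _ = c * (g * (c⁻¹ * x * c)) * c⁻¹ := by rw [hx]
          _ = c * g * c⁻¹ * x := by group
    rw [hmap, Subgroup.card_map_of_injective (MulEquiv.injective _)]
  have hP : Nat.card ((D.map (MulAut.conj c).toMonoidHom).subgroupOf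
      (Subgroup.centralizer ({c * g * c⁻¹} : Set G))) =
      p ^ (Nat.card (Subgroup.centralizer ({c * g * c⁻¹} : Set G))).factorization p := by
    rw [Nat.card_congr (Subgroup.subgroupOfEquivOfLe hle).toEquiv, hcard, hQ.card hp]
  refine ⟨Sylow.ofCard _ hP, ?_⟩
  rw [Sylow.coe_ofCard, Subgroup.map_subgroupOf_eq_of_le hle]

variable {B : Set (IrrCharacter G)}

theorem omega_congr (hM : IsPModular p M) (hB : IsPBlock M B) {χ ψ : IrrCharacter G} (hχ : χ ∈ B)
    (hψ : ψ ∈ B) (g : G) :
    MemLocalIdeal M (omega (χ : G → ℂ) g - omega (ψ : G → ℂ) g) := by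
  rw [omega_eq_centralChar, omega_eq_centralChar]
  exact block_sameBlock (pmod_prime hM) hB hχ hψ g

theorem omega_unit_iff (hM : IsPModular p M) (hB : IsPBlock M B) {χ : IrrCharacter G} (hχ : χ ∈ B)
    (g : G) : (∀ ψ ∈ B, ¬ MemLocalIdeal M (centralChar (ψ : G → ℂ) g)) ↔
      ¬ MemLocalIdeal M (omega (χ : G → ℂ) g) := by
  rw [omega_eq_centralChar]
  refine ⟨fun h => h χ hχ, fun h ψ hψ h' => h ?_⟩
  exact memLI_congr (pmod_prime hM) (block_sameBlock (pmod_prime hM) hB hχ hψ g) h'

theorem exists_defectClass (hM : IsPModular p M) (hB : IsPBlock M B) :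
    ∃ g, IsDefectClass M B g := by
  classical
  have hP := pmod_prime hM
  obtain ⟨χ, hχ⟩ := block_nonempty hP hB
  have := Fintype.ofFinite (ConjClasses G)
  have h1 : lam (χ : G → ℂ) (blockCoeff B) = 1 := by rw [lam_blockCoeff, if_pos hχ]
  by_contra hne
  push Not at hne
  rw [lam_eq_sum_omega (isClassFunction_character (irr_isCharacter χ.2))
    (isClassFunction_blockCoeff B)] at h1
  refine memLI_one_iff hP (h1 ▸ memLI_sum hP _ _ fun C _ => ?_)
  by_contra hC
  refine hne C.out ⟨memLR_blockCoeff hM hB _,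
    fun h => hC (memLI_mul_right hP h (memLR_omega hP χ.2 _)),
    (omega_unit_iff hM hB hχ _).mpr fun h => hC (memLI_mul_left hP (memLR_blockCoeff hM hB _) h)⟩

theorem defectClass_regular (hM : IsPModular p M) (hB : IsPBlock M B) {g : G}
    (hg : IsDefectClass M B g) : ¬ p ∣ orderOf g := by
  intro hd
  refine hg.2.1 ?_
  rw [blockCoeff, weak_orthogonality hM hB (by simp [hM.1.ne_one]) hd, mul_zero]
  exact memLI_zero (pmod_prime hM)

theorem exists_isDefectGroup (hM : IsPModular p M) (hB : IsPBlock M B) :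
    ∃ D, IsDefectGroup p M B D := by
  obtain ⟨g, hg⟩ := exists_defectClass hM hB
  obtain ⟨D, hD⟩ := exists_isSylCent p g
  exact ⟨D, (isDefectGroup_iff B D).mpr ⟨g, hg, hD⟩⟩

theorem conv_congr (hM : M.IsPrime) {f g h : G → ℂ} (hf : ∀ x, MemLocalRing M (f x))
    (hgh : ∀ x, MemLocalIdeal M (g x - h x)) (x : G) :
    MemLocalIdeal M (conv g f x - conv h f x) := by
  simp only [conv, ← Finset.sum_sub_distrib, ← sub_mul]
  exact memLI_sum hM _ _ fun y _ => memLI_mul_right hM (hgh y) (hf _)

theorem delta_conv (f : G → ℂ) : conv delta f = f := by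
  classical
  funext x
  rw [conv, Finset.sum_eq_single 1]
  · simp [delta_apply]
  · intro y _ hy; simp [delta_apply, hy]
  · exact fun h => absurd (Finset.mem_univ _) h

/-- If the block idempotent survives the Brauer map at `Q`, its central character factors through
the Brauer map. -/
theorem exists_brauer_char (hM : IsPModular p M) (hB : IsPBlock M B) {Q H : Subgroup G} [Fintype H]
    (hQ : IsPGroup p Q) (hCH : Subgroup.centralizer (Q : Set G) ≤ H)
    (hHN : H ≤ Subgroup.normalizer (Q : Set G)) {x : G} (hx : x ∈ Subgroup.centralizer (Q : Set G))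
    (hbx : ¬ MemLocalIdeal M (blockCoeff B x)) :
    ∃ ξ : IrrCharacter H, ∀ χ ∈ B, ∀ f, IsIntClassFun M f →
      MemLocalIdeal M (brLam Q H (ξ : H → ℂ) f - lam (χ : G → ℂ) f) := by
  classical
  have hP := pmod_prime hM
  have hbI := isIntClassFun_blockCoeff hM hB
  obtain ⟨ξ, hξ⟩ : ∃ ξ : IrrCharacter H,
      ¬ MemLocalIdeal M (brLam Q H (ξ : H → ℂ) (blockCoeff B)) := by
    by_contra hne
    push Not at hne
    set f := brRes Q H (blockCoeff B) with hf
    have hfI := intClassFun_brRes hP hHN hbI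
    obtain ⟨n, hn⟩ := exists_cpow_memLI hM hfI hne
    have hstab : ∀ k : ℕ, ∀ y, MemLocalIdeal M (cpow f (k + 1) y - f y) := by
      intro k
      induction k with
      | zero =>
        intro y
        rw [cpow, cpow, delta_conv, sub_self]
        exact memLI_zero hP
      | succ k ih =>
        intro y
        rw [cpow]
        refine memLI_trans hP (conv_congr hP hfI.2 ih y) ?_
        have h := brRes_conv hM hQ hCH hbI hbI y
        rw [conv_blockCoeff] at h
        exact memLI_symm hP h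
    have hn1 : ∀ y, MemLocalIdeal M (cpow f (n + 1) y) := fun y =>
      memLI_sum hP _ _ fun z _ => memLI_mul_right hP (hn z) (hfI.2 _)
    have h1 := memLI_congr hP (memLI_symm hP (hstab n ⟨x, hCH hx⟩)) (hn1 _)
    rw [hf, brRes, if_pos hx] at h1
    exact hbx h1
  obtain ⟨B', hB', -, hΦ⟩ :=
    (isCentralHom_brLam hM hQ hCH hHN ξ).exists_block hM
  obtain ⟨χ', hχ'⟩ := block_nonempty hP hB'
  have hmem : χ' ∈ B := by
    by_contra hn
    refine hξ (memLI_congr hP (hΦ χ' hχ' _ hbI) ?_)
    rw [lam_blockCoeff, if_neg hn]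
    exact memLI_zero hP
  refine ⟨ξ, fun χ hχ f hf => ?_⟩
  exact memLI_trans hP (hΦ χ' hχ' f hf)
    (lam_congr hP χ'.2 χ.2 (block_sameBlock hP hB hmem hχ) hf.1 hf.2)

/-- If `ω_B` is nonzero at `h`, every `p`-group detecting `B` centralizes a conjugate of `h`. -/
theorem exists_conj_mem_centralizer (hM : IsPModular p M) (hB : IsPBlock M B) {Q : Subgroup G}
    (hQ : IsPGroup p Q) {x : G} (hx : x ∈ Subgroup.centralizer (Q : Set G))
    (hbx : ¬ MemLocalIdeal M (blockCoeff B x)) {χ : IrrCharacter G} (hχ : χ ∈ B) {h : G}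
    (hh : ¬ MemLocalIdeal M (omega (χ : G → ℂ) h)) :
    ∃ h', IsConj h h' ∧ h' ∈ Subgroup.centralizer (Q : Set G) := by
  classical
  have hP := pmod_prime hM
  have := Fintype.ofFinite (Subgroup.normalizer (Q : Set G))
  obtain ⟨ξ, hξ⟩ := exists_brauer_char hM hB hQ (Subgroup.centralizer_le_normalizer _) le_rfl hx hbx
  by_contra hne
  push Not at hne
  refine hh ?_
  have h1 := hξ χ hχ _ (intClassFun_classInd hP h)
  rw [lam_classInd' (isClassFunction_character (irr_isCharacter χ.2))] at h1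
  refine memLI_congr hP (memLI_symm hP h1) ?_
  have e : brRes Q (Subgroup.normalizer (Q : Set G)) (classInd h) = 0 := by
    funext y
    simp only [brRes, classInd, Pi.zero_apply]
    split_ifs with h2 h3
    · exact absurd h2 (hne _ h3)
    · rfl
    · rfl
  rw [brLam, e, lam]
  simp [memLI_zero hP]

/-- Minimality of defect groups. -/
theorem defect_le_of_omega (hM : IsPModular p M) (hB : IsPBlock M B) {g : G} {D : Subgroup G}
    (hg : IsDefectClass M B g) (hD : IsSylCent p g D) {χ : IrrCharacter G} (hχ : χ ∈ B) {h : G}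
    (hh : ¬ MemLocalIdeal M (omega (χ : G → ℂ) h)) {Q : Subgroup G} (hQ : IsSylCent p h Q) :
    ∃ x : G, D ≤ Q.map (MulAut.conj x).toMonoidHom := by
  obtain ⟨h', hconj, hc⟩ := exists_conj_mem_centralizer hM hB hD.isPGroup hD.self_mem_centralizer
    hg.2.1 hχ hh
  exact hQ.exists_conj_le hM.1 hD.isPGroup hconj hc

/-- Maximality of defect groups among groups detecting the block. -/
theorem le_defect_of_detect (hM : IsPModular p M) (hB : IsPBlock M B) {g : G} {D : Subgroup G}
    (hg : IsDefectClass M B g) (hD : IsSylCent p g D) {Q : Subgroup G} (hQ : IsPGroup p Q) {x : G}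
    (hx : x ∈ Subgroup.centralizer (Q : Set G)) (hbx : ¬ MemLocalIdeal M (blockCoeff B x)) :
    ∃ t : G, Q ≤ D.map (MulAut.conj t).toMonoidHom := by
  obtain ⟨χ, hχ⟩ := block_nonempty (pmod_prime hM) hB
  obtain ⟨g', hconj, hc⟩ := exists_conj_mem_centralizer hM hB hQ hx hbx hχ
    ((omega_unit_iff hM hB hχ g).mp hg.2.2)
  exact hD.exists_conj_le hM.1 hQ hconj hc

theorem defect_groups_conj (hM : IsPModular p M) (hB : IsPBlock M B) {D E : Subgroup G}
    (hD : IsDefectGroup p M B D) (hE : IsDefectGroup p M B E) :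
    ∃ t : G, E = D.map (MulAut.conj t).toMonoidHom := by
  obtain ⟨g, hg, hDg⟩ := (isDefectGroup_iff B D).mp hD
  obtain ⟨g', hg', hEg⟩ := (isDefectGroup_iff B E).mp hE
  obtain ⟨t, ht⟩ := le_defect_of_detect hM hB hg hDg hEg.isPGroup hEg.self_mem_centralizer hg'.2.1
  obtain ⟨s, hs⟩ := le_defect_of_detect hM hB hg' hEg hDg.isPGroup hDg.self_mem_centralizer hg.2.1
  have h1 := Subgroup.card_le_of_le ht
  have h2 := Subgroup.card_le_of_le hs
  rw [Subgroup.card_map_of_injective (MulEquiv.injective _)] at h1 h2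
  refine ⟨t, Subgroup.eq_of_le_of_card_ge ht ?_⟩
  rw [Subgroup.card_map_of_injective (MulEquiv.injective _)]
  exact h2

theorem isDefectGroup_conj (hM : IsPModular p M) {D : Subgroup G}
    (hD : IsDefectGroup p M B D) (t : G) :
    IsDefectGroup p M B (D.map (MulAut.conj t).toMonoidHom) := by
  obtain ⟨g, hg, hDg⟩ := (isDefectGroup_iff B D).mp hD
  refine (isDefectGroup_iff B _).mpr ⟨t * g * t⁻¹, ⟨?_, ?_, fun χ hχ => ?_⟩, hDg.conj hM.1 t⟩
  · rw [isClassFunction_blockCoeff B g t]; exact hg.1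
  · rw [isClassFunction_blockCoeff B g t]; exact hg.2.1
  · have e : centralChar (χ : G → ℂ) (t * g * t⁻¹) = centralChar (χ : G → ℂ) g := by
      rw [← omega_eq_centralChar, ← omega_eq_centralChar,
        ← lam_classInd' (isClassFunction_character (irr_isCharacter χ.2)),
        ← lam_classInd' (isClassFunction_character (irr_isCharacter χ.2))]
      congr 1
      classical
      funext x
      exact if_congr ⟨fun h => (isConj_iff.mpr ⟨t, rfl⟩ : IsConj g (t * g * t⁻¹)).trans h,
        fun h => (isConj_iff.mpr ⟨t, rfl⟩ : IsConj g (t * g * t⁻¹)).symm.trans h⟩ rfl rfl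
    rw [e]; exact hg.2.2 χ hχ

/-- The order of a defect group. -/
theorem factorization_centralizer_defectClass (hM : IsPModular p M) (hB : IsPBlock M B) {g : G}
    (hg : IsDefectClass M B g) :
    (Nat.card (Subgroup.centralizer ({g} : Set G))).factorization p = blockDefect p B := by
  classical
  have hP := pmod_prime hM
  have hp := hM.1
  set a := (Nat.card G).factorization p with ha
  set d' := (Nat.card (Subgroup.centralizer ({g} : Set G))).factorization p with hd'
  obtain ⟨m', hm', hk⟩ : ∃ m', ¬ p ∣ m' ∧ Nat.card {x : G // IsConj g x} = p ^ (a - d') * m' := by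
    refine ⟨_, Nat.not_dvd_ordCompl hp (card_conjClass_ne_zero g), ?_⟩
    have h := congrArg (fun n => n.factorization p) (card_conjClass_mul_centralizer g)
    rw [Nat.factorization_mul (card_conjClass_ne_zero g) Nat.card_pos.ne', Finsupp.add_apply] at h
    rw [show a - d' = (Nat.card {x : G // IsConj g x}).factorization p by omega]
    exact (Nat.ordProj_mul_ordCompl_eq_self _ _).symm
  have hsum := dmin_add_defect (p := p) (block_nonempty hP hB)
  have hd'a : d' ≤ a := (Nat.factorization_le_iff_dvd Nat.card_pos.ne' Nat.card_pos.ne').mpr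
    (Subgroup.card_subgroup_dvd_card _) p
  have hp0 : ∀ k : ℕ, (p : ℂ) ^ k ≠ 0 := fun k => pow_ne_zero _ (Nat.cast_ne_zero.mpr hp.ne_zero)
  -- `d ≤ d'`
  have h1 : a - d' ≤ dmin p B := by
    by_contra hlt
    obtain ⟨χ, hχ, hδ⟩ := exists_dexp_eq_dmin (p := p) (block_nonempty hP hB)
    obtain ⟨c, hc, hdeg⟩ := deg_eq_pow_mul hp χ.2
    refine (omega_unit_iff hM hB hχ g).mp hg.2.2 ?_
    obtain ⟨j, hj⟩ : ∃ j, a - d' = dmin p B + (j + 1) := ⟨a - d' - dmin p B - 1, by omega⟩
    have e : omega (χ : G → ℂ) g =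
        (p : ℂ) * ((p : ℂ) ^ j * (m' : ℂ) * (χ : G → ℂ) g * (c : ℂ)⁻¹) := by
      rw [omega, hk, char_one_eq_deg (irr_isCharacter χ.2), hdeg, hδ, hj]
      have hc0 : (c : ℂ) ≠ 0 := Nat.cast_ne_zero.mpr fun h => hc (h ▸ dvd_zero p)
      have := hp0 (dmin p B)
      push_cast
      rw [pow_add, pow_succ]
      field_simp
    rw [e]
    exact memLI_mul_right hP (memLI_p hM) (memLR_mul hP (memLR_mul hP (memLR_mul hP
      (memLR_pow hP (memLR_natCast hP p) j) (memLR_natCast hP m'))
      (memLR_char hP (irr_isCharacter χ.2) g)) (memLR_inv_natCast hM hc))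
  -- `d' ≤ d`
  have h2 : dmin p B ≤ a - d' := by
    by_contra hlt
    refine hg.2.1 ?_
    obtain ⟨j, hj⟩ : ∃ j, dmin p B = (a - d') + (j + 1) := ⟨dmin p B - (a - d') - 1, by omega⟩
    have hI := intComb_preg hM (intClassFun_classInd hP g).1 (intClassFun_classInd hP g).2
    set A := fun x => classInd g (preg p x) with hA
    have hS : ∑ x : G, A x * blockCoeff B x =
        (Nat.card {x : G // IsConj g x} : ℂ) * blockCoeff B g := by
      have hreg := defectClass_regular hM hB hg
      rw [Nat.card_eq_fintype_card, Fintype.card_subtype, ← nsmul_eq_mul, ← Finset.sum_const,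
        Finset.sum_filter]
      refine Finset.sum_congr rfl fun x _ => ?_
      by_cases hx : p ∣ orderOf x
      · have h0 : blockCoeff B x = 0 := by
          rw [blockCoeff, weak_orthogonality hM hB (by simp [hp.ne_one]) hx, mul_zero]
        rw [h0, mul_zero, if_neg]
        intro hc
        obtain ⟨k, hk⟩ := isConj_iff.mp hc
        rw [← hk, ← MulAut.conj_apply, MulEquiv.orderOf_eq] at hx
        exact hreg hx
      · simp only [hA, preg_of_isPRegular hp hx, classInd, ite_mul, one_mul, zero_mul]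
        by_cases hxg : IsConj g x
        · obtain ⟨k, hk⟩ := isConj_iff.mp hxg
          rw [if_pos hxg, if_pos hxg, ← hk, isClassFunction_blockCoeff B g k]
        · rw [if_neg hxg, if_neg hxg]
    have hS2 : ∑ x : G, A x * blockCoeff B x = ∑ θ : IrrCharacter G,
        classInner A (θ : G → ℂ) * ((θ : G → ℂ) 1 * if θ ∈ B then 1 else 0) := by
      conv_lhs => rw [classFun_expansion hI.1]
      simp only [Finset.sum_apply, Pi.smul_apply, smul_eq_mul, Finset.sum_mul]
      rw [Finset.sum_comm]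
      refine Finset.sum_congr rfl fun θ _ => ?_
      rw [← lam_blockCoeff B θ, lam, mul_div_cancel₀ _ (irr_one_ne_zero θ.2), Finset.mul_sum]
      exact Finset.sum_congr rfl fun x _ => by ring
    have hy : ∀ θ : IrrCharacter G, ∃ y, MemLocalRing M y ∧
        (θ : G → ℂ) 1 * (if θ ∈ B then (1 : ℂ) else 0) = (p : ℂ) ^ dmin p B * y := fun θ => by
      by_cases hθ : θ ∈ B
      · obtain ⟨c, hc⟩ : p ^ dmin p B ∣ deg (θ : G → ℂ) :=
          (Nat.pow_dvd_pow p (dmin_le hθ)).trans (Nat.ordProj_dvd _ _)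
        refine ⟨c, memLR_natCast hP c, ?_⟩
        rw [if_pos hθ, mul_one, char_one_eq_deg (irr_isCharacter θ.2), hc]
        push_cast; rfl
      · exact ⟨0, memLR_zero hP, by rw [if_neg hθ]; ring⟩
    choose y hy hye using hy
    have e : blockCoeff B g = (p : ℂ) * ((p : ℂ) ^ j *
        (∑ θ : IrrCharacter G, classInner A (θ : G → ℂ) * y θ) * (m' : ℂ)⁻¹) := by
      have h3 := hS.symm.trans hS2
      simp only [hye, hk, hj] at h3
      have hm0 : (m' : ℂ) ≠ 0 := Nat.cast_ne_zero.mpr fun h => hm' (h ▸ dvd_zero p)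
      refine mul_left_cancel₀ (mul_ne_zero (hp0 (a - d')) hm0) ?_
      push_cast at h3
      rw [h3]
      simp only [Finset.mul_sum, Finset.sum_mul, pow_add, pow_succ]
      refine Finset.sum_congr rfl fun θ _ => ?_
      field_simp
    rw [e]
    exact memLI_mul_right hP (memLI_p hM) (memLR_mul hP (memLR_mul hP
      (memLR_pow hP (memLR_natCast hP p) j)
      (memLR_sum hP _ _ fun θ _ => memLR_mul hP (hI.2 θ) (hy θ))) (memLR_inv_natCast hM hm'))
  omega

theorem card_defectGroup (hM : IsPModular p M) (hB : IsPBlock M B) {D : Subgroup G}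
    (hD : IsDefectGroup p M B D) : Nat.card D = p ^ blockDefect p B := by
  obtain ⟨g, hg, hDg⟩ := (isDefectGroup_iff B D).mp hD
  rw [hDg.card hM.1, factorization_centralizer_defectClass hM hB hg]

theorem pCore_le_defectGroup (hM : IsPModular p M) (hB : IsPBlock M B) {D : Subgroup G}
    (hD : IsDefectGroup p M B D) (N : Subgroup G) [hN : N.Normal] (hNp : IsPGroup p N) : N ≤ D := by
  obtain ⟨g, hg, hDg⟩ := (isDefectGroup_iff B D).mp hD
  obtain ⟨χ, hχ⟩ := block_nonempty (pmod_prime hM) hB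
  have hgc : g ∈ Subgroup.centralizer (N : Set G) := by
    by_contra hn
    exact (omega_unit_iff hM hB hχ g).mp hg.2.2 (omega_memLI_of_not_centralizing hM N hNp χ hn)
  obtain ⟨x, hx⟩ := hDg.exists_conj_le hM.1 hNp (IsConj.refl g) hgc
  intro w hw
  obtain ⟨v, hv, e⟩ := hx (hN.conj_mem w hw x)
  simp only [MulEquiv.toMonoidHom_eq_coe, MonoidHom.coe_coe, MulAut.conj_apply] at e
  have : v = w := mul_left_cancel (mul_right_cancel e)
  exact this ▸ hv

end Cfsg.Agent.Char
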