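import Cfsg.Agent.Lib.Char.BlockRankCard
import Cfsg.Agent.Lib.Char.Defect

/-!
# Blocks of rank one
-/

set_option autoImplicit false
set_option linter.unusedSectionVars false

namespace Cfsg.Agent.Char

open Cfsg Module
open scoped ComplexConjugate

universe u

variable {G : Type u} [Group G] [Fintype G] {M : Ideal AlgInt} {p : ℕ} {B : Set (IrrCharacter G)}

theorem exists_cartan_rank_one (hM : IsPModular p M) (hB : IsPBlock M B)
    (hl : blockRank p B = 1) :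
    ∃ φ : G → ℂ, ∃ d : IrrCharacter G → ℕ,
      (∃ n : IrrCharacter G → ℤ, ∀ x : G, φ x = ∑ ψ ∈ bset B, (n ψ : ℂ) * (ψ : G → ℂ) x) ∧
      (∀ χ ∈ B, ∀ x : G, ¬ p ∣ orderOf x → (χ : G → ℂ) x = (d χ : ℂ) * φ x) ∧
      ∑ χ ∈ bset B, d χ ^ 2 = p ^ blockDefect p B := by
  classical
  have hp := hM.1
  obtain ⟨χ0, hχ0, h0⟩ := exists_height_zero (p := p) (block_nonempty (pmod_prime hM) hB)
  have h1reg : ¬ p ∣ orderOf (1 : G) := by simp [hp.ne_one]
  -- proportionality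
  set f0 := pRegularPart p (χ0 : G → ℂ) with hf0
  have hf0ne : f0 ≠ 0 := fun e => irr_one_ne_zero χ0.2 (by
    have := congrFun e 1
    simpa [hf0, pRegularPart, IsPRegular, h1reg, hp.ne_one] using this)
  have hspan : Submodule.span ℂ {f0} =
      Submodule.span ℂ ((fun χ : IrrCharacter G => pRegularPart p (χ : G → ℂ)) '' B) := by
    refine Submodule.eq_of_le_of_finrank_eq
      (Submodule.span_mono (Set.singleton_subset_iff.2 ⟨χ0, hχ0, rfl⟩)) ?_
    rw [finrank_span_singleton hf0ne]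
    exact hl.symm
  have hprop : ∀ χ ∈ B, ∀ x : G, ¬ p ∣ orderOf x →
      (χ : G → ℂ) x * (χ0 : G → ℂ) 1 = (χ : G → ℂ) 1 * (χ0 : G → ℂ) x := by
    intro χ hχ x hx
    have hmem : pRegularPart p (χ : G → ℂ) ∈ Submodule.span ℂ {f0} :=
      hspan ▸ Submodule.subset_span ⟨χ, hχ, rfl⟩
    obtain ⟨c, hc⟩ := Submodule.mem_span_singleton.1 hmem
    have e : ∀ y : G, ¬ p ∣ orderOf y → (χ : G → ℂ) y = c * (χ0 : G → ℂ) y := fun y hy => by
      have := congrFun hc y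
      simp only [hf0, pRegularPart, IsPRegular, Pi.smul_apply, smul_eq_mul] at this
      simp [hy] at this
      exact this.symm
    rw [e x hx, e 1 h1reg]
    ring
  -- common divisor of the degrees
  choose D hD using fun χ : IrrCharacter G => charOne_eq_natCast (irr_isCharacter χ.2)
  have hD0 : ∀ χ, D χ ≠ 0 := fun χ e => irr_one_ne_zero χ.2 (by rw [hD, e, Nat.cast_zero])
  set g : ℕ := (bset B).gcd D with hg
  have hgdvd : ∀ χ ∈ bset B, g ∣ D χ := fun χ hχ => Finset.gcd_dvd hχ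
  have hg0 : g ≠ 0 := fun e => hD0 χ0 (Nat.eq_zero_of_zero_dvd (e ▸ hgdvd χ0 (mem_bset.mpr hχ0)))
  obtain ⟨n, hn⟩ : ∃ n : IrrCharacter G → ℤ, (g : ℤ) = ∑ ψ ∈ bset B, n ψ * (D ψ : ℤ) := by
    have : ∀ s : Finset (IrrCharacter G), ∃ n : IrrCharacter G → ℤ,
        ((s.gcd D : ℕ) : ℤ) = ∑ ψ ∈ s, n ψ * (D ψ : ℤ) := by
      intro s
      induction s using Finset.induction_on with
      | empty => exact ⟨0, by simp⟩
      | insert a s ha ih =>
        obtain ⟨n, hn⟩ := ih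
        refine ⟨fun ψ => if ψ = a then Nat.gcdA (D a) (s.gcd D) else
          Nat.gcdB (D a) (s.gcd D) * n ψ, ?_⟩
        rw [Finset.gcd_insert, Finset.sum_insert ha]
        simp only [if_pos]
        rw [ gcd_eq_nat_gcd, Nat.gcd_eq_gcd_ab,
          hn, Finset.sum_mul]
        refine congrArg₂ (· + ·) (mul_comm _ _) (Finset.sum_congr rfl fun ψ hψ => ?_)
        rw [if_neg (fun e => ha (e ▸ hψ) : ψ ≠ a)]
        ring
    exact this (bset B)
  set φ : G → ℂ := fun x => ∑ ψ ∈ bset B, (n ψ : ℂ) * (ψ : G → ℂ) x with hφ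
  have hgc : (g : ℂ) ≠ 0 := Nat.cast_ne_zero.2 hg0
  have hd : ∀ χ ∈ B, ∀ x : G, ¬ p ∣ orderOf x →
      (χ : G → ℂ) x = ((D χ / g : ℕ) : ℂ) * φ x := by
    intro χ hχ x hx
    have h2 : φ x * (χ0 : G → ℂ) 1 = (g : ℂ) * (χ0 : G → ℂ) x := by
      rw [show (g : ℂ) = ∑ ψ ∈ bset B, (n ψ : ℂ) * (D ψ : ℂ) by exact_mod_cast hn, hφ, Finset.sum_mul,
        Finset.sum_mul]
      refine Finset.sum_congr rfl fun ψ hψ => ?_
      rw [mul_assoc, hprop ψ (mem_bset.mp hψ) x hx, hD ψ]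
      ring
    rw [Nat.cast_div (hgdvd χ (mem_bset.mpr hχ)) hgc]
    have h3 := hprop χ hχ x hx
    rw [hD χ] at h3
    have hne := irr_one_ne_zero χ0.2
    field_simp
    refine mul_right_cancel₀ hne ?_
    linear_combination (g : ℂ) * h3 - (D χ : ℂ) * h2
  refine ⟨φ, fun χ => D χ / g, ⟨n, fun x => rfl⟩, hd, ?_⟩
  -- the Cartan invariant
  set d : IrrCharacter G → ℕ := fun χ => D χ / g with hddef
  set S : ℕ := ∑ χ ∈ bset B, d χ ^ 2 with hS
  let e : ℂ := classInner (φ * regInd p) φ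
  have heinner : ∀ χ ∈ B, ∀ ψ ∈ B, einner p (χ : G → ℂ) (ψ : G → ℂ) = (d χ * d ψ : ℕ) * e := by
    intro χ hχ ψ hψ
    rw [einner_eq_sum, show e = _ from einner_eq_sum φ φ, Finset.mul_sum, Finset.mul_sum,
      Finset.mul_sum]
    refine Finset.sum_congr rfl fun x hx => ?_
    rw [hd χ hχ x (Finset.mem_filter.mp hx).2, hd ψ hψ x (Finset.mem_filter.mp hx).2, map_mul,
      map_natCast, Nat.cast_mul]
    ring
  have hSe : (S : ℂ) * e = 1 := by
    have h1 := pow_mul_blockRank hM hB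
    rw [hl, Nat.cast_one, mul_one] at h1
    have h2 : ((p : ℂ) ^ blockDefect p B) = (p : ℂ) ^ blockDefect p B * ((S : ℂ) * e) := by
      have h3 : ((p : ℂ) ^ blockDefect p B) = ∑ χ ∈ bset B, (wI p B χ χ : ℂ) := by exact_mod_cast h1
      refine h3.trans ?_
      rw [hS, Nat.cast_sum, Finset.sum_mul, Finset.mul_sum]
      refine Finset.sum_congr rfl fun χ hχ => ?_
      rw [wI_cast_eq hM hB (mem_bset.mp hχ), heinner χ (mem_bset.mp hχ) χ (mem_bset.mp hχ), pow_two (d χ)]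
    exact (mul_left_cancel₀ (pow_ne_zero _ (Nat.cast_ne_zero.2 hp.ne_zero)) (h2.symm.trans (mul_one _).symm))
  have hw : ∀ χ ∈ B, ∀ ψ ∈ B, (S : ℤ) * wI p B χ ψ = (p : ℤ) ^ blockDefect p B * (d χ * d ψ : ℕ) := by
    intro χ hχ ψ hψ
    have : ((S : ℤ) : ℂ) * (wI p B χ ψ : ℂ) =
        (((p : ℤ) ^ blockDefect p B * (d χ * d ψ : ℕ) : ℤ) : ℂ) := by
      rw [wI_cast_eq hM hB hχ, heinner χ hχ ψ hψ]
      push_cast
      linear_combination ((p : ℂ) ^ blockDefect p B * ((d χ : ℂ) * d ψ)) * hSe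
    exact_mod_cast this
  -- `S` divides the power of `p`
  have hdvd : (S : ℤ) ∣ (p : ℤ) ^ blockDefect p B := by
    have hone : (g : ℤ) = g * ∑ ψ ∈ bset B, n ψ * (d ψ : ℤ) := by
      conv_lhs => rw [hn]
      rw [Finset.mul_sum]
      refine Finset.sum_congr rfl fun ψ hψ => ?_
      rw [show (D ψ : ℤ) = (g : ℤ) * (d ψ : ℤ) by
        exact_mod_cast (Nat.mul_div_cancel' (hgdvd ψ hψ)).symm]
      ring
    have h1 : ∑ ψ ∈ bset B, n ψ * (d ψ : ℤ) = 1 :=
      mul_left_cancel₀ (Int.natCast_ne_zero.2 hg0) (hone.symm.trans (mul_one _).symm)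
    refine ⟨∑ χ ∈ bset B, ∑ ψ ∈ bset B, n χ * n ψ * wI p B χ ψ, ?_⟩
    calc (p : ℤ) ^ blockDefect p B
        = (p : ℤ) ^ blockDefect p B *
            ((∑ χ ∈ bset B, n χ * (d χ : ℤ)) * ∑ ψ ∈ bset B, n ψ * (d ψ : ℤ)) := by rw [h1]; ring
      _ = _ := by
          rw [Finset.sum_mul_sum]
          simp only [Finset.mul_sum]
          refine Finset.sum_congr rfl fun χ hχ => Finset.sum_congr rfl fun ψ hψ => ?_
          rw [show (S : ℤ) * (n χ * n ψ * wI p B χ ψ) = n χ * n ψ * ((S : ℤ) * wI p B χ ψ) by ring,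
            hw χ (mem_bset.mp hχ) ψ (mem_bset.mp hψ)]
          push_cast
          ring
  obtain ⟨k, hk, hSk⟩ := (Nat.dvd_prime_pow hp).1
    (show S ∣ p ^ blockDefect p B by exact_mod_cast hdvd)
  rcases hk.lt_or_eq with hlt | heq
  · exfalso
    have hnd := mt (wI_succ_dvd_iff hM hB hχ0 hχ0).mp (not_not.2 h0)
    rw [h0, zero_add, pow_one] at hnd
    refine hnd ?_
    have h2 := hw χ0 hχ0 χ0 hχ0
    rw [show (S : ℤ) = (p : ℤ) ^ k by exact_mod_cast hSk, ← Nat.add_sub_cancel' hk, pow_add, mul_assoc] at h2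
    rw [mul_left_cancel₀ (pow_ne_zero _ (Int.natCast_ne_zero.2 hp.ne_zero)) h2]
    exact Dvd.dvd.mul_right (dvd_pow_self _ (Nat.sub_ne_zero_of_lt hlt)) _
  · rw [hSk, heq]

end Cfsg.Agent.Char
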