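import Cfsg.Agent.Lib.Char.BlockFusion

/-!
# Nilpotent blocks and abelian defect groups
-/

set_option autoImplicit false

namespace Cfsg.Agent.Char

open Cfsg Module
open scoped ComplexConjugate

universe u

variable {G : Type u} [Group G] [Fintype G] {M : Ideal AlgInt} {p : ℕ}

attribute [local irreducible] conjBlock blockCoeff subgroupBlockCoeff

theorem eq_of_rel_card (hM : IsPModular p M) {a b : BrauerPairIdx G}
    (h : Relation.ReflTransGen (NormalSubpairRel p M) a b) (hc : Nat.card b.1 ≤ Nat.card a.1) :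
    a = b := by
  rcases first_step_rel hM h with h1 | ⟨c, hlt, -, hcb⟩
  · exact h1
  · exact absurd (Subgroup.eq_of_le_of_card_ge (hlt.le.trans (subpair_rel_le hcb)) hc)
      (hlt.trans_le (subpair_rel_le hcb)).ne

variable {B : Set (IrrCharacter G)} {P : Subgroup G}
  {e : Set (IrrCharacter (Subgroup.centralizer (P : Set G)))}

theorem card_le_of_pairOf (hM : IsPModular p M) (hmax : IsMaximalBrauerPair p M B P e)
    {a : BrauerPairIdx G} (ha : IsBrauerPairOf p M B a.1 a.2) : Nat.card a.1 ≤ Nat.card P := by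
  obtain ⟨x, hx⟩ := pairs_conj_into_maximal hM hmax ha
  have h1 := Subgroup.card_le_of_le (subpair_le hx)
  rwa [Subgroup.card_map_of_injective (MulEquiv.injective _)] at h1

/-- For an abelian maximal pair every map below it is induced, up to a centralizing element, by an
element fixing it. -/
theorem abelian_conj_fix (hM : IsPModular p M) (hmax : IsMaximalBrauerPair p M B P e)
    (hab : ∀ x ∈ P, ∀ y ∈ P, x * y = y * x) {Q : Subgroup G}
    {f : Set (IrrCharacter (Subgroup.centralizer (Q : Set G)))} (hQ : SubpairLE p M Q f P e) {g : G}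
    (hg : Relation.ReflTransGen (NormalSubpairRel p M) (conjIdx g ⟨Q, f⟩) ⟨P, e⟩) :
    ∃ c ∈ Subgroup.centralizer ((Q.map (MulAut.conj g).toMonoidHom : Subgroup G) : Set G),
      conjIdx (c * g) (⟨P, e⟩ : BrauerPairIdx G) = ⟨P, e⟩ := by
  have hMp := pmod_prime hM
  have hPe := hmax.1.1
  have key : ∀ (R : Subgroup G) (r : Set (IrrCharacter (Subgroup.centralizer (R : Set G)))),
      SubpairLE p M R r P e → IsNormalSubpair p M R r P e := by
    intro R r hR
    have hPN : P ≤ Subgroup.normalizer (R : Set G) := fun y hy =>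
      centralizer_le_norm R fun w hw => hab w (subpair_le hR hw) y hy
    obtain ⟨g0, hg0, hg0P⟩ := over_below hM hPe hR le_rfl (subpair_le hR) hPN
    have h1 := eq_of_rel_card hM (a := ⟨P, g0⟩) (b := ⟨P, e⟩) hg0P le_rfl
    obtain rfl : g0 = e := eq_of_heq (Sigma.mk.inj_iff.mp h1).2
    exact hg0
  have hPC : ∀ (R : Subgroup G), R ≤ P → P ≤ Subgroup.centralizer (R : Set G) :=
    fun R hR y hy w hw => hab w (hR hw) y hy
  have hQP : Q ≤ P := subpair_le hQ
  have hQ'P : Q.map (MulAut.conj g).toMonoidHom ≤ P := subpair_rel_le hg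
  have hQ' := isBrauerPair_of_le hPe (Q := Q.map (MulAut.conj g).toMonoidHom)
    (f := conjBlock Q g f) hg
  have hctx : StabCtx p M (Q.map (MulAut.conj g).toMonoidHom) (conjBlock Q g f)
      (Subgroup.centralizer ((Q.map (MulAut.conj g).toMonoidHom : Subgroup G) : Set G)) :=
    ⟨hQ'.1, hQ'.2, hQ'P.trans (hPC _ hQ'P), le_rfl, fun u hu =>
      ⟨centralizer_le_norm _ hu, stabilizesBlock_of_centralizer hM hQ'.1 hQ'.2 hu⟩⟩
  have hd : IsMaxOver p M (Subgroup.centralizer ((Q.map (MulAut.conj g).toMonoidHom : Subgroup G) :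
      Set G)) (Q.map (MulAut.conj g).toMonoidHom) (conjBlock Q g f) ⟨P, e⟩ := by
    refine ⟨⟨key _ _ hg, hPC _ hQ'P⟩, fun a ha => ?_⟩
    exact card_le_of_pairOf hM hmax ((brauerPairOf_rel hM hmax.1.2.1
      (Relation.ReflTransGen.single (a := (conjIdx g ⟨Q, f⟩ : BrauerPairIdx G)) ha.1)).mp
      (brauerPairOf_below hM hmax hg))
  have hover : IsOver p M (Subgroup.centralizer ((Q.map (MulAut.conj g).toMonoidHom : Subgroup G) :
      Set G)) (Q.map (MulAut.conj g).toMonoidHom) (conjBlock Q g f) (conjIdx g ⟨P, e⟩) := by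
    refine ⟨normalSubpair_conj hM g (key _ _ hQ), ?_⟩
    rw [centralizer_map_conj]
    exact Subgroup.map_mono (hPC Q hQP)
  obtain ⟨c, hc, hcd⟩ := hctx.conj_into_max hM hover hd
  refine ⟨c, hc, ?_⟩
  have h1 := eq_of_rel_card hM hcd (by rw [card_conjIdx, card_conjIdx])
  rwa [conjIdx_mul hMp c g ⟨P, e⟩ hPe.2] at h1

variable {F : FusionSystem P}

theorem mem_inner_of (hQP : ∀ {Q : Subgroup G} {φ : Q →* G}, φ ∈ F.Hom Q → Q ≤ P)
    (h : ∀ (Q : Subgroup G) (φ : Q →* G), φ ∈ F.Hom Q → ∃ s ∈ P, ∀ u : Q, φ u = s * (u : G) * s⁻¹)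
    (Q : Subgroup G) : F.Hom Q = (innerFusionSystem P).Hom Q := by
  ext φ
  constructor
  · intro hφ
    exact ⟨hQP hφ, h Q φ hφ⟩
  · rintro ⟨hQ, s, hs, hφ⟩
    rw [show φ = conjHom Q s from MonoidHom.ext hφ]
    exact F.conj_mem hQ hs

/-- In a nilpotent block the stabilizer is generated by the centralizer and a largest pair. -/
theorem stab_le_sup_of_nilpotent (hM : IsPModular p M) (hnil : IsNilpotentBlock p M B)
    {Q : Subgroup G} {f : Set (IrrCharacter (Subgroup.centralizer (Q : Set G)))}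
    (hQf : IsBrauerPairOf p M B Q f) {d : BrauerPairIdx G}
    (hd : IsMaxOver p M (pairStab (pmod_prime hM) hQf.1.2) Q f d) :
    pairStab (pmod_prime hM) hQf.1.2 ≤ Subgroup.centralizer (Q : Set G) ⊔ d.1 := by
  haveI := Fact.mk hM.1
  have hMp := pmod_prime hM
  set T := pairStab hMp hQf.1.2
  have hctx := stabCtx_pairStab hM hQf.1.1 hQf.1.2
  have hTN : ∀ u ∈ T, u ∈ Subgroup.normalizer ((Subgroup.centralizer (Q : Set G) : Subgroup G) : Set G) :=
    fun u hu => (hctx.stab u hu).2.1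
  haveI : ((Subgroup.centralizer (Q : Set G)).subgroupOf T).Normal :=
    (Subgroup.normal_subgroupOf_iff_le_normalizer hctx.cent).mpr hTN
  have hp : IsPGroup p (T ⧸ (Subgroup.centralizer (Q : Set G)).subgroupOf T) := by
    intro q
    induction q using QuotientGroup.induction_on with
    | H t =>
      refine ⟨(orderOf t).factorization p, ?_⟩
      rw [← QuotientGroup.mk_pow, QuotientGroup.eq_one_iff, Subgroup.mem_subgroupOf]
      have ht := hctx.stab _ (t ^ p ^ (orderOf t).factorization p).2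
      refine hnil.2 Q f hQf _ ht.1 ht.2 ?_
      show ¬ p ∣ orderOf ((t ^ p ^ (orderOf t).factorization p : T) : G)
      rw [Subgroup.orderOf_coe, orderOf_pow' _ (pow_ne_zero _ hM.1.ne_zero),
        Nat.gcd_eq_right (Nat.ordProj_dvd _ _)]
      exact Nat.not_dvd_ordCompl hM.1 (orderOf_pos t).ne'
  obtain ⟨n, hn⟩ := IsPGroup.iff_card.mp hp
  have h1 : (Subgroup.centralizer (Q : Set G)).relIndex T = p ^ n := hn
  have h2 := hctx.maxOver_relIndex hM hd
  rw [h1, Nat.factorization_pow_self hM.1] at h2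
  have h3 := Subgroup.relIndex_mul_relIndex (Subgroup.centralizer (Q : Set G))
    (Subgroup.centralizer (Q : Set G) ⊔ d.1) T le_sup_left (sup_le hctx.cent hd.1.2)
  rw [relIndex_sup_of_normalizes (fun u hu => hTN u (hd.1.2 hu)), h1, h2] at h3
  exact Subgroup.relIndex_eq_one.mp ((Nat.mul_eq_left (pow_ne_zero _ hM.1.ne_zero)).mp h3)

theorem exists_mul_of_mem_sup {C D : Subgroup G} (hD : D ≤ Subgroup.normalizer (C : Set G)) {k : G}
    (hk : k ∈ C ⊔ D) : ∃ n ∈ D, ∃ c ∈ C, n * c = k := by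
  have h1 : k ∈ ((D ⊔ C : Subgroup G) : Set G) := by rw [sup_comm]; exact hk
  rw [Subgroup.coe_mul_of_left_le_normalizer_right _ _ hD] at h1
  exact Set.mem_mul.mp h1

/-- In a nilpotent block all maps below a maximal pair are induced by its group. -/
theorem maps_inner_of_nilpotent (hM : IsPModular p M) (hmax : IsMaximalBrauerPair p M B P e)
    (hnil : IsNilpotentBlock p M B) :
    ∀ (n : ℕ) (Q : Subgroup G) (f : Set (IrrCharacter (Subgroup.centralizer (Q : Set G)))),
      Nat.card P - Nat.card Q = n → SubpairLE p M Q f P e → ∀ g : G,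
      Relation.ReflTransGen (NormalSubpairRel p M) (conjIdx g ⟨Q, f⟩) ⟨P, e⟩ →
      ∃ s ∈ P, ∀ u ∈ Q, g * u * g⁻¹ = s * u * s⁻¹ := by
  intro n
  induction n using Nat.strong_induction_on with
  | _ n ih =>
    intro Q f hn hQ g hg
    have hMp := pmod_prime hM
    have hPe := hmax.1.1
    have hf := (isBrauerPair_of_le hPe hQ).2
    have hQp := (isBrauerPair_of_le hPe hQ).1
    rcases (subpair_le hQ).lt_or_eq with hlt | heq
    swap
    · have h0 := eq_of_rel_card hM (a := ⟨Q, f⟩) (b := ⟨P, e⟩) hQ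
        (le_of_eq (congrArg (fun K : Subgroup G => Nat.card K) heq).symm)
      subst heq
      obtain rfl : f = e := eq_of_heq (Sigma.mk.inj_iff.mp h0).2
      have hfix : g ∈ pairStab hMp hf := eq_of_rel_card hM hg (by rw [card_conjIdx])
      have hd : IsMaxOver p M (pairStab hMp hf) Q f ⟨Q, f⟩ := by
        refine ⟨isOver_pairStab hM hf (isNormalSubpair_self hM hQp hf), fun a ha => ?_⟩
        exact card_le_of_pairOf hM hmax ((brauerPairOf_rel hM hmax.1.2.1
          (Relation.ReflTransGen.single (a := (⟨Q, f⟩ : BrauerPairIdx G)) ha.1)).mp hmax.1)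
      obtain ⟨s, hs, c, hc, rfl⟩ := exists_mul_of_mem_sup
        (Subgroup.le_normalizer.trans fun u hu => (stabilizes_normalizer hu))
        (stab_le_sup_of_nilpotent hM hnil hmax.1 hd hfix)
      refine ⟨s, hs, fun u hu => ?_⟩
      rw [show s * c * u * (s * c)⁻¹ = s * (c * u * c⁻¹) * s⁻¹ by group, ← hc u hu]
      group
    obtain ⟨d, x, hd, hx, hxd, heq⟩ := exists_fully hM hmax hQ hf
    have step : ∀ (Q1 : Subgroup G) (f1 : Set (IrrCharacter (Subgroup.centralizer (Q1 : Set G))))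
        (y : G), SubpairLE p M Q1 f1 P e →
        conjIdx y (⟨Q1, f1⟩ : BrauerPairIdx G) = conjIdx x ⟨Q, f⟩ →
        ∃ s ∈ P, ∀ u ∈ Q1, y * u * y⁻¹ = s * u * s⁻¹ := by
      intro Q1 f1 y hQ1 hy
      have hcard : Nat.card Q1 = Nat.card Q := by
        have := congrArg (fun a : BrauerPairIdx G => Nat.card a.1) hy
        simpa only [card_conjIdx] using this
      have hlt1 : Q1 < P := lt_of_le_of_ne (subpair_le hQ1) fun h => by
        refine hlt.ne (Subgroup.eq_of_le_of_card_ge hlt.le ?_)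
        rw [← hcard, h]
      set N1 := P ⊓ Subgroup.normalizer (Q1 : Set G) with hN1
      have hQN : Q1 < N1 := lt_inf_normalizer hM.1 hPe.1 hlt1
      obtain ⟨e1, he1, he1P⟩ := over_normalizerIn hM hPe hQ1
      have hf' : IsPBlock M (conjBlock Q x f) := isPBlock_conjBlock x hf
      have hover : NormalSubpairRel p M (conjIdx x (⟨Q, f⟩ : BrauerPairIdx G))
          (conjIdx y ⟨N1, e1⟩) := by
        rw [← hy]
        exact normalSubpair_conj hM y he1
      have hd' := maxOver_conj hM hf x hd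
      have hpair : IsBrauerPairOf p M B (Q.map (MulAut.conj x).toMonoidHom) (conjBlock Q x f) :=
        brauerPairOf_below hM hmax hx
      have hctx := stabCtx_pairStab hM (hQp.map (MulAut.conj x).toMonoidHom) hf'
      obtain ⟨k, hk, hkd⟩ := hctx.conj_into_max hM (a := conjIdx y ⟨N1, e1⟩)
        (isOver_pairStab hM hf' hover) hd'
      obtain ⟨m, hm, c, hc, rfl⟩ := exists_mul_of_mem_sup
        (fun u hu => (hctx.stab u (hd'.1.2 hu)).2.1)
        (stab_le_sup_of_nilpotent hM hnil hpair hd' hk)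
      have hmP : m ∈ P := (subpair_rel_le hxd) hm
      have hcP : Relation.ReflTransGen (NormalSubpairRel p M) (conjIdx (c * y) ⟨N1, e1⟩) ⟨P, e⟩ := by
        have h1 := rel_conj_fix hM hPe (u := m⁻¹) (inv_mem hmP) (hkd.trans hxd)
        have hg1 : IsPBlock M (conjIdx y (⟨N1, e1⟩ : BrauerPairIdx G)).2 :=
          isPBlock_conjBlock y he1.2.1.2
        rwa [conjIdx_mul hMp m⁻¹ (m * c) (conjIdx y ⟨N1, e1⟩) hg1, inv_mul_cancel_left,
          conjIdx_mul hMp c y ⟨N1, e1⟩ he1.2.1.2] at h1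
      have hlt2 : Nat.card Q < Nat.card N1 := by
        rw [← hcard]
        refine lt_of_le_of_ne (Subgroup.card_le_of_le hQN.le) fun h => ?_
        exact hQN.ne (Subgroup.eq_of_le_of_card_ge hQN.le h.ge)
      obtain ⟨s, hs, hsu⟩ := ih (Nat.card P - Nat.card N1)
        (by have h9 : Nat.card N1 ≤ Nat.card P := Subgroup.card_le_of_le inf_le_left; omega) N1 e1 rfl he1P (c * y) hcP
      refine ⟨s, hs, fun u hu => ?_⟩
      rw [← hsu u (hQN.le hu)]
      have hyu : y * u * y⁻¹ ∈ Q.map (MulAut.conj x).toMonoidHom :=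
        (Sigma.mk.inj_iff.mp hy).1.le ⟨u, hu, rfl⟩
      rw [show c * y * u * (c * y)⁻¹ = c * (y * u * y⁻¹) * c⁻¹ by group, ← hc _ hyu]
      group
    obtain ⟨s, hs, hsu⟩ := step Q f x hQ rfl
    obtain ⟨s', hs', hsu'⟩ := step (Q.map (MulAut.conj g).toMonoidHom) (conjBlock Q g f) (x * g⁻¹) hg
      (by
        have h1 := conjIdx_mul hMp (x * g⁻¹) g ⟨Q, f⟩ hf
        rw [inv_mul_cancel_right] at h1
        exact h1)
    refine ⟨s'⁻¹ * s, mul_mem (inv_mem hs') hs, fun u hu => ?_⟩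
    have h1 := hsu' (g * u * g⁻¹) ⟨u, hu, rfl⟩
    have h2 := hsu u hu
    rw [show x * g⁻¹ * (g * u * g⁻¹) * (x * g⁻¹)⁻¹ = x * u * x⁻¹ by group, h2] at h1
    calc g * u * g⁻¹ = s'⁻¹ * (s' * (g * u * g⁻¹) * s'⁻¹) * s' := by group
      _ = s'⁻¹ * (s * u * s⁻¹) * s' := by rw [h1]
      _ = _ := by group
where
  stabilizes_normalizer {Q : Subgroup G} {u : G} (hu : u ∈ Subgroup.normalizer (Q : Set G)) :
      u ∈ Subgroup.normalizer ((Subgroup.centralizer (Q : Set G) : Subgroup G) : Set G) :=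
    Subgroup.mem_normalizer_iff.mpr fun c =>
      (conj_mem_centralizer_iff (H := Subgroup.normalizer (Q : Set G)) le_rfl ⟨u, hu⟩ c).symm

theorem inner_of_nilpotent (hM : IsPModular p M) (hF : IsBlockFusionSystemOn p M B P e F)
    (hnil : IsNilpotentBlock p M B) (Q : Subgroup G) :
    F.Hom Q = (innerFusionSystem P).Hom Q := by
  refine mem_inner_of (fun hφ => ((hF.2 _ _).mp hφ).1) (fun R φ hφ => ?_) Q
  obtain ⟨-, g, hg, -, f, hf, hgf⟩ := (hF.2 R φ).mp hφ
  obtain ⟨s, hs, h⟩ := maps_inner_of_nilpotent hM hF.1 hnil _ R f rfl hf g hgf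
  exact ⟨s, hs, fun u => by rw [hg u, h u u.2]⟩

theorem nilpotent_of_inner (hM : IsPModular p M) (hF : IsBlockFusionSystemOn p M B P e F)
    (hinner : ∀ Q : Subgroup G, F.Hom Q = (innerFusionSystem P).Hom Q) :
    IsNilpotentBlock p M B := by
  haveI := Fact.mk hM.1
  have hMp := pmod_prime hM
  refine ⟨hF.1.1.2.1, fun Q0 e0 hQ0 x hx hst hreg => ?_⟩
  obtain ⟨y, hy⟩ := pairs_conj_into_maximal hM hF.1 hQ0
  have hfix : conjIdx x (⟨Q0, e0⟩ : BrauerPairIdx G) = ⟨Q0, e0⟩ :=
    (conjIdx_eq_self_iff hMp hQ0.1.2 x).mpr ⟨hx, hst⟩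
  set Q := Q0.map (MulAut.conj y).toMonoidHom with hQ
  set z := y * x * y⁻¹ with hz
  have hzf : conjIdx z (⟨Q, conjBlock Q0 y e0⟩ : BrauerPairIdx G) = ⟨Q, conjBlock Q0 y e0⟩ := by
    have h1 := conjIdx_mul hMp z y ⟨Q0, e0⟩ hQ0.1.2
    rw [show z * y = y * x by rw [hz]; group, ← conjIdx_mul hMp y x ⟨Q0, e0⟩ hQ0.1.2, hfix] at h1
    exact h1
  have hzN : z ∈ Subgroup.normalizer (Q : Set G) :=
    ((conjIdx_eq_self_iff hMp (isPBlock_conjBlock y hQ0.1.2) z).mp hzf).1
  have hmem : conjHom Q z ∈ F.Hom Q :=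
    (hF.2 Q _).mpr ⟨subpair_le hy, z, fun u => rfl,
      (Subgroup.mem_normalizer_iff_map_conj_eq.mp hzN).le.trans (subpair_le hy), conjBlock Q0 y e0, hy,
      show Relation.ReflTransGen (NormalSubpairRel p M) (conjIdx z ⟨Q, conjBlock Q0 y e0⟩) ⟨P, e⟩ by
        rw [hzf]; exact hy⟩
  rw [hinner] at hmem
  obtain ⟨-, s, hs, hsz⟩ := hmem
  have hsN : s ∈ Subgroup.normalizer (Q : Set G) := by
    refine Local.FS.mem_normalizer_of_conj_mem (S := P) (subpair_le hy) fun u hu => ?_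
    rw [← show z * u * z⁻¹ = s * u * s⁻¹ from hsz ⟨u, hu⟩]
    exact (Subgroup.mem_normalizer_iff.mp hzN u).mp hu
  set θ := Subgroup.normalizerMonoidHom Q
  have hθ : θ ⟨z, hzN⟩ = θ ⟨s, hsN⟩ := MulEquiv.ext fun u => Subtype.ext (hsz u)
  obtain ⟨k, hk⟩ : ∃ k, (⟨s, hsN⟩ : Subgroup.normalizer (Q : Set G)) ^ p ^ k = 1 := by
    obtain ⟨k, hk⟩ := hF.1.1.1.1 ⟨s, hs⟩
    have h0 : s ^ p ^ k = 1 := by
      have := congrArg Subtype.val hk
      simpa using this
    exact ⟨k, Subtype.ext (by simpa using h0)⟩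
  have h1 : θ ⟨z, hzN⟩ ^ p ^ k = 1 := by rw [hθ, ← map_pow, hk, map_one]
  have h2 : θ ⟨z, hzN⟩ ^ orderOf x = 1 := by
    rw [← map_pow, show (⟨z, hzN⟩ : Subgroup.normalizer (Q : Set G)) ^ orderOf x = 1 from
      Subtype.ext (by rw [SubgroupClass.coe_pow]; show z ^ orderOf x = 1
                      rw [hz, conj_pow, pow_orderOf_eq_one]; simp), map_one]
  have h3 : θ ⟨z, hzN⟩ = 1 := by
    have h4 := pow_gcd_eq_one.mpr ⟨h1, h2⟩
    rwa [Nat.Coprime.gcd_eq_one (Nat.Coprime.pow_left k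
      (hM.1.coprime_iff_not_dvd.mpr hreg)), pow_one] at h4
  have h5 : z ∈ Subgroup.centralizer (Q : Set G) := fun u hu => by
    have := congrArg (fun α : MulAut Q => ((α ⟨u, hu⟩ : Q) : G)) h3
    have h6 : z * u * z⁻¹ = u := this
    calc u * z = z * u * z⁻¹ * z := by rw [h6]
      _ = z * u := by group
  have h7 := (mem_centralizer_map (Q := Q0) y (c := x)).mpr h5
  exact h7

end Cfsg.Agent.Char
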