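import Cfsg.Agent.Lib.Char.SubsectionOrbits
import Cfsg.Agent.Lib.Char.CentralizerPairs
import Cfsg.Agent.Lib.Char.ContributionBound
import Cfsg.Agent.Lib.Char.CentralRank
import Cfsg.Agent.Lib.Char.RankOneCartan
import Cfsg.Agent.S4687

/-!
# Nilpotent blocks with abelian defect group

Such a block has one Brauer character, `p ^ d` characters, all of height zero and all with the same regular part.
-/

set_option autoImplicit false
set_option linter.unusedSectionVars false
set_option linter.style.haveILetI false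

open Cfsg

namespace Cfsg.Agent.Char.NilpotentAbelian

universe u

theorem one_le_blockRank {G : Type u} [Group G] [Fintype G] {M : Ideal AlgInt} {p : ℕ}
    (hM : IsPModular p M) {B : Set (IrrCharacter G)} (hB : IsPBlock M B) : 1 ≤ blockRank p B := by
  obtain ⟨χ, hχ⟩ := block_nonempty (pmod_prime hM) hB
  have hne : pRegularPart p (χ : G → ℂ) ≠ 0 := fun h => by
    have := congrFun h 1
    simp [pRegularPart, IsPRegular, hM.1.ne_one] at this
    exact irr_one_ne_zero χ.2 this
  rw [← finrank_span_singleton (K := ℂ) hne]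
  exact Submodule.finrank_mono ((Submodule.span_singleton_le_iff_mem _ _).2
    (Submodule.subset_span ⟨χ, hχ, rfl⟩))

/-- A block seen on an equal subgroup keeps its invariants. -/
theorem exists_same {G : Type u} [Group G] [Fintype G] {M : Ideal AlgInt} {p : ℕ}
    {B : Set (IrrCharacter G)} {K K' : Subgroup G} (h : K = K') (f : Set (IrrCharacter K))
    (hf : IsPBlock M f) :
    ∃ f' : Set (IrrCharacter K'), IsPBlock M f' ∧ blockDefect p f' = blockDefect p f ∧
      blockRank p f' = blockRank p f ∧ (IsNilpotentBlock p M f → IsNilpotentBlock p M f') ∧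
      subgroupBlockCoeff K' f' = subgroupBlockCoeff K f ∧
      (IsInducedBlock M K f B → IsInducedBlock M K' f' B) := by
  subst h
  exact ⟨f, hf, rfl, rfl, id, rfl, id⟩

open scoped Classical in
theorem main_aux (n : ℕ) : ∀ (G : Type u) [Group G] [Fintype G], Nat.card G = n →
    ∀ (M : Ideal AlgInt) (p : ℕ), IsPModular p M → ∀ (B : Set (IrrCharacter G)) (P : Subgroup G),
      IsPBlock M B → IsDefectGroup p M B P → (∀ x ∈ P, ∀ y ∈ P, x * y = y * x) → IsNilpotentBlock p M B →
        blockRank p B = 1 ∧ Nat.card B = p ^ blockDefect p B ∧ ∀ χ ∈ B, blockHeight p B (χ : G → ℂ) = 0 := by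
  induction n using Nat.strong_induction_on with
  | _ n ih =>
  intro G _ _ hn M p hM B P hB hP hab hnil
  haveI := Fact.mk hM.1
  have hMp := pmod_prime hM
  obtain ⟨e, he⟩ := exists_pair_of_le_defect hM hB hP (le_refl P)
  have hmax := maximal_of_defect hM hP he
  have hS : pairStab hMp hmax.1.1.2 ≤ Subgroup.centralizer (P : Set G) := fun x hx =>
    (S4687.result p M hM B P e hmax hab).mp hnil x ((mem_pairStab hMp hmax.1.1.2).mp hx).1
      ((mem_pairStab hMp hmax.1.1.2).mp hx).2
  have hq : Nat.card P = p ^ blockDefect p B := card_defectGroup hM hB hP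
  -- heights
  have hcenter : Nat.card (Subgroup.center P) = Nat.card P := by
    rw [show Subgroup.center P = ⊤ from Subgroup.ext fun x =>
      ⟨fun _ => trivial, fun _ => Subgroup.mem_center_iff.mpr fun y =>
        Subtype.ext (hab (y : G) y.2 (x : G) x.2)⟩, Subgroup.card_top]
  have hh : ∀ χ ∈ B, blockHeight p B (χ : G → ℂ) = 0 := by
    intro χ hχ
    have h := CentralPairs.card_central_mul_le hM hmax (H := Subgroup.centralizer (P : Set G)) hS
      (fun x hx z hz _ => (hx z hz).symm) hχ
    rw [Subgroup.relIndex_self, one_mul, hcenter, hq, mul_le_iff_le_one_right (pow_pos hM.1.pos _)] at h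
    rcases Nat.eq_zero_or_pos (blockHeight p B (χ : G → ℂ)) with h0 | h0
    · exact h0
    · exact absurd h (not_le.mpr (Nat.one_lt_pow h0.ne' hM.1.one_lt))
  have hk0 : Nat.card {χ : IrrCharacter G // χ ∈ B ∧ blockHeight p B (χ : G → ℂ) = 0} = Nat.card B :=
    Nat.card_congr (Equiv.subtypeEquivRight fun χ => ⟨fun h => h.1, fun h => ⟨h, hh χ h⟩⟩)
  -- counting from below
  obtain ⟨Φ, hΦ, hΦeq, hk⟩ := SubsectionOrbits.card_eq_rank_add hM hmax hab
  set S := Finset.univ.filter fun z : G => z ∈ P ∧ z ≠ 1 with hSdef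
  have hScard : S.card + 1 = Nat.card P := by
    have e1 : S = (Finset.univ.filter fun z : G => z ∈ P).erase 1 := by
      ext z; simp [hSdef, and_comm]
    rw [e1, Finset.card_erase_add_one (by simp), Nat.card_eq_fintype_card, ← Fintype.card_subtype]
  have hinj : (S.image Φ).card = S.card := by
    refine Finset.card_image_of_injOn fun z hz z' hz' heq => ?_
    obtain ⟨hzP, hz1⟩ := (Finset.mem_filter.mp (Finset.mem_coe.mp hz)).2
    obtain ⟨hz'P, hz'1⟩ := (Finset.mem_filter.mp (Finset.mem_coe.mp hz')).2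
    obtain ⟨t, ht, htz⟩ := (hΦeq z hzP hz1 z' hz'P hz'1).mp heq
    rw [← htz, ← hS ht z hzP, mul_inv_cancel_right]
  have hlow : Nat.card P ≤ Nat.card B + 1 - blockRank p B := by
    have h1 : (S.image Φ).card ≤ ∑ a ∈ S.image Φ, blockRank p a.2 := by
      rw [Finset.card_eq_sum_ones]
      refine Finset.sum_le_sum fun a ha => ?_
      obtain ⟨z, hz, rfl⟩ := Finset.mem_image.mp ha
      obtain ⟨hzP, hz1⟩ := (Finset.mem_filter.mp hz).2
      haveI := Fintype.ofFinite (Subgroup.centralizer ({(Φ z).1} : Set G))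
      exact one_le_blockRank hM (hΦ z hzP hz1).2.2.1.1
    omega
  have hl1 := one_le_blockRank hM hB
  -- counting from above
  have hup : Nat.card B ≤ p ^ blockDefect p B := by
    obtain ⟨z, hzP, hz1⟩ : ∃ z ∈ P, (z = 1 ∧ blockRank p B = 1) ∨
        Subgroup.centralizer ({z} : Set G) ≠ ⊤ := by
      by_cases hcen : P ≤ Subgroup.center G
      · exact ⟨1, one_mem P, Or.inl ⟨rfl, blockRank_eq_one_of_central hM hB hP hcen⟩⟩
      · obtain ⟨z, hz, hzc⟩ := SetLike.not_le_iff_exists.mp hcen
        refine ⟨z, hz, Or.inr fun htop => hzc (Subgroup.mem_center_iff.mpr fun g => ?_)⟩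
        exact Subgroup.mem_centralizer_singleton_iff.mp (htop ▸ Subgroup.mem_top g)
    haveI := Fintype.ofFinite (Subgroup.centralizer ({z} : Set G))
    obtain ⟨k, hk'⟩ := IsPGroup.iff_orderOf.mp hmax.1.1.1 ⟨z, hzP⟩
    rw [Subgroup.orderOf_mk] at hk'
    obtain ⟨f, hf, hfp, hfi, hfd⟩ := CentralPairs.exists_below hM hmax hzP fun d hd => hab d hd z hzP
    haveI := Fintype.ofFinite (Subgroup.centralizer (Subgroup.zpowers z : Set G))
    obtain ⟨f', hf'b, hf'd, -, hf'n, -, hf'i⟩ := exists_same (B := B) (p := p)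
      (centralizer_zpowers_eq (x := z)) f hfi.1
    have hind := hf'i hfi
    have hrank : blockRank p f' = 1 := by
      rcases hz1 with ⟨rfl, h⟩ | h
      · refine le_antisymm ?_ (one_le_blockRank hM hf'b)
        rw [← h, ← SubsectionOrbits.rank_at_one hM hB,
          finsum_mem_eq_finite_toFinset_sum _ (Set.toFinite _)]
        exact Finset.single_le_sum (f := fun b => blockRank p b) (fun b _ => Nat.zero_le _)
          ((Set.Finite.mem_toFinset _).mpr hind)
      · obtain ⟨D0, hD0⟩ := exists_isDefectGroup hM hf'b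
        refine (ih (Nat.card (Subgroup.centralizer ({z} : Set G))) ?_ _ rfl M p hM f' D0 hf'b
          hD0 ?_ (hf'n (nilpotent_local hM hnil hfp))).1
        · rw [← hn, ← Subgroup.card_top (G := G)]
          refine lt_of_le_of_ne (Subgroup.card_le_of_le le_top) fun hc => h ?_
          exact Subgroup.eq_top_of_card_eq _ (hc.trans Subgroup.card_top)
        · obtain ⟨E, hE, hle⟩ := induced_defect_le hM hind hD0
          obtain ⟨t, ht⟩ := defect_groups_conj hM hB hP hE
          intro x hx y hy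
          have hx' := hle ⟨x, hx, rfl⟩
          have hy' := hle ⟨y, hy, rfl⟩
          rw [ht] at hx' hy'
          obtain ⟨x0, hx0, hxe⟩ := hx'
          obtain ⟨y0, hy0, hye⟩ := hy'
          refine Subtype.ext ?_
          show (x : G) * (y : G) = (y : G) * (x : G)
          simp only [Subgroup.coe_subtype] at hxe hye
          rw [← hxe, ← hye, ← map_mul, ← map_mul, hab x0 hx0 y0 hy0]
    have h := card_height_zero_sq_le hM ⟨k, hk'⟩ hind
    rw [hk0, hrank, mul_one, hf'd, hfd, mul_comm 2, pow_mul] at h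
    exact (Nat.pow_le_pow_iff_left two_ne_zero).mp h
  refine ⟨by omega, by omega, hh⟩

variable {G : Type u} [Group G] [Fintype G] {M : Ideal AlgInt} {p : ℕ} {B : Set (IrrCharacter G)}
  {P : Subgroup G}

/-- A nilpotent block with abelian defect group. -/
theorem main (hM : IsPModular p M) (hB : IsPBlock M B) (hP : IsDefectGroup p M B P)
    (hab : ∀ x ∈ P, ∀ y ∈ P, x * y = y * x) (hnil : IsNilpotentBlock p M B) :
    blockRank p B = 1 ∧ Nat.card B = p ^ blockDefect p B ∧
      ∀ χ ∈ B, blockHeight p B (χ : G → ℂ) = 0 :=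
  main_aux _ G rfl M p hM B P hB hP hab hnil

/-- All its characters agree on regular elements. -/
theorem regular_eq (hM : IsPModular p M) (hB : IsPBlock M B) (hP : IsDefectGroup p M B P)
    (hab : ∀ x ∈ P, ∀ y ∈ P, x * y = y * x) (hnil : IsNilpotentBlock p M B) {χ θ : IrrCharacter G}
    (hχ : χ ∈ B) (hθ : θ ∈ B) {x : G} (hx : ¬ p ∣ orderOf x) : (χ : G → ℂ) x = (θ : G → ℂ) x := by
  classical
  obtain ⟨hl, hk, -⟩ := main hM hB hP hab hnil
  obtain ⟨φ, d, -, hval, hC⟩ := exists_cartan_rank_one hM hB hl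
  have hd : ∀ ψ ∈ bset B, 1 ≤ d ψ ^ 2 := fun ψ hψ => Nat.one_le_pow _ _
    (Nat.pos_of_ne_zero fun h => irr_one_ne_zero ψ.2 (by
      rw [hval ψ (mem_bset.mp hψ) 1 (by simp [hM.1.ne_one]), h, Nat.cast_zero, zero_mul]))
  have hsum : ∑ _ψ ∈ bset B, 1 = ∑ ψ ∈ bset B, d ψ ^ 2 := by
    rw [hC, ← hk, ← Finset.card_eq_sum_ones, Nat.card_eq_card_toFinset]
    congr 1
    ext ψ
    simp [mem_bset]
  have h1 : ∀ ψ ∈ B, d ψ = 1 := fun ψ hψ => by
    have := (Finset.sum_eq_sum_iff_of_le hd).mp hsum ψ (mem_bset.mpr hψ)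
    exact (Nat.pow_eq_one.mp this.symm).resolve_right two_ne_zero
  rw [hval χ hχ x hx, hval θ hθ x hx, h1 χ hχ, h1 θ hθ]

end Cfsg.Agent.Char.NilpotentAbelian
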