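import Cfsg.Agent.Lib.Char.Contribution

/-!
# The rank of a block against its size
-/

set_option autoImplicit false
set_option linter.unusedSectionVars false

namespace Cfsg.Agent.Char

open Cfsg
open scoped ComplexConjugate

universe u

variable {G : Type u} [Group G] [Fintype G] {M : Ideal AlgInt} {p : ℕ} {B : Set (IrrCharacter G)}

theorem blockRank_le_card : blockRank p B ≤ Nat.card B := by
  classical
  rw [blockRank, Set.image_eq_range, Nat.card_eq_fintype_card]
  exact finrank_range_le_card _

theorem pow_mul_blockRank (hM : IsPModular p M) (hB : IsPBlock M B) :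
    (p : ℤ) ^ blockDefect p B * blockRank p B = ∑ χ ∈ bset B, wI p B χ χ := by
  classical
  have h := blockRank_eq_sum hM hB
  have e : ((∑ χ ∈ bset B, wI p B χ χ : ℤ) : ℂ) =
      (p : ℂ) ^ blockDefect p B * blockRank p B := by
    rw [Int.cast_sum, show (blockRank p B : ℂ) = ∑ χ ∈ bset B, einner p (χ : G → ℂ) (χ : G → ℂ) by
      refine mul_left_cancel₀ (Nat.cast_ne_zero.2 (Nat.card_pos (α := G)).ne' : (Nat.card G : ℂ) ≠ 0)
        (h.trans ?_)
      rw [Finset.sum_comm, Finset.mul_sum]
      refine Finset.sum_congr rfl fun χ _ => ?_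
      rw [einner, classInner, ← mul_assoc, mul_inv_cancel₀ (Nat.cast_ne_zero.2 Nat.card_pos.ne'),
        one_mul, Finset.sum_filter]
      refine Finset.sum_congr rfl fun g _ => ?_
      simp only [Pi.mul_apply, regInd]
      split_ifs <;> simp_all [mul_comm],
      Finset.mul_sum]
    exact Finset.sum_congr rfl fun χ hχ => wI_cast_eq hM hB (mem_bset.mp hχ) χ
  have e' : (((p : ℤ) ^ blockDefect p B * blockRank p B : ℤ) : ℂ) =
      ((∑ χ ∈ bset B, wI p B χ χ : ℤ) : ℂ) := by rw [e]; push_cast; rfl
  exact_mod_cast e'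

theorem defect_zero_iff_rank (hM : IsPModular p M) (hB : IsPBlock M B) :
    (blockDefect p B = 0 ↔ (Nat.card B = 1 ∧ blockRank p B = 1)) ∧
      (blockDefect p B = 0 ↔ Nat.card B = blockRank p B) := by
  classical
  have hP := pmod_prime hM
  obtain ⟨χ, hχ, h0⟩ := exists_height_zero (p := p) (block_nonempty hP hB)
  have hsum := pow_mul_blockRank hM hB
  have hcard : Nat.card B = (bset B).card := by
    rw [Nat.card_eq_fintype_card, ← Set.toFinset_card]
    congr 1
    ext θ
    simp [mem_bset]
  have fwd : blockDefect p B = 0 → Nat.card B = 1 ∧ blockRank p B = 1 := fun hd => by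
    have hw : wI p B χ χ = (p : ℤ) ^ blockDefect p B := by
      have h1 := wI_self_le hM hB hχ
      have h2 := wI_self_pos hM hB hχ
      rw [hd, pow_zero] at h1 ⊢
      omega
    have hs : bset B = {χ} := by
      ext θ
      rw [mem_bset, Finset.mem_singleton]
      exact ⟨fun hθ => eq_of_wI_self_eq hM hB hχ hθ hw, fun e => e ▸ hχ⟩
    rw [hd, pow_zero, one_mul, hs, Finset.sum_singleton, hw, hd, pow_zero] at hsum
    exact ⟨by rw [hcard, hs, Finset.card_singleton], by exact_mod_cast hsum⟩
  have bwd : Nat.card B = blockRank p B → blockDefect p B = 0 := fun he => by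
    rw [← he, hcard] at hsum
    have hall : ∀ θ ∈ bset B, wI p B θ θ = (p : ℤ) ^ blockDefect p B := by
      refine (Finset.sum_eq_sum_iff_of_le fun θ hθ => wI_self_le hM hB (mem_bset.mp hθ)).mp ?_
      rw [← hsum, Finset.sum_const, nsmul_eq_mul, mul_comm]
    have hs : blockOf M (χ : G → ℂ) = {χ} := by
      ext θ
      constructor
      · intro hθ
        exact eq_of_wI_self_eq hM hB hχ ((mem_block_iff hP hB hχ θ).mpr hθ)
          (hall χ (mem_bset.mpr hχ))
      · intro e
        rw [e]
        exact self_mem_blockOf hP χ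
    have h1 := (singleton_iff_dexp hM χ).mp hs
    have h2 := dmin_add_defect (p := p) (block_nonempty hP hB)
    rw [(blockHeight_eq_zero_iff hχ).mp h0] at h1
    omega
  exact ⟨⟨fwd, fun h => bwd (h.1.trans h.2.symm)⟩,
    ⟨fun h => (fwd h).1.trans (fwd h).2.symm, bwd⟩⟩

end Cfsg.Agent.Char
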