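import Cfsg.Agent.Lib.Char.CentralPairs
import Cfsg.Agent.Lib.Char.BlockNilpotent
import Cfsg.Agent.Lib.Char.SectionCount
import Cfsg.Agent.Lib.Char.BlockRankCard

/-!
# Subsections of a block with abelian defect group

For a maximal pair `(D, e)` with `D` abelian the subsections outside the identity correspond to the orbits of the
stabilizer of the pair on the non-identity elements of `D`, and `k(B)` is `l(B)` plus their local ranks.
-/

set_option autoImplicit false
set_option linter.unusedSectionVars false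

open Cfsg

namespace Cfsg.Agent.Char.SubsectionOrbits

universe u

variable {G : Type u} [Group G] [Fintype G] {M : Ideal AlgInt} {p : ℕ} {B : Set (IrrCharacter G)}

/-- A block of the centralizer of `Q` that induces `B` gives a pair of `B`. -/
theorem pair_of_induced (hM : IsPModular p M) {Q : Subgroup G} (hQ : IsPGroup p Q)
    {f : Set (IrrCharacter (Subgroup.centralizer (Q : Set G)))}
    (h : IsInducedBlock M (Subgroup.centralizer (Q : Set G)) f B) : IsBrauerPairOf p M B Q f := by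
  have hP := pmod_prime hM
  haveI := Fintype.ofFinite (Subgroup.centralizer (Q : Set G))
  refine ⟨⟨hQ, h.1⟩, h.2.1, fun ξ hξ => ?_⟩
  obtain ⟨χ, hχ⟩ := block_nonempty hP h.2.1
  have h2 := induced_congr_fun hP (h.2.2 ξ hξ χ hχ) (isIntClassFun_blockCoeff hM h.2.1)
  rw [lam_blockCoeff, if_pos hχ] at h2
  rw [brauerOmega_eq]
  exact h2

open scoped Classical in
theorem blockRank_transport {H K : Type u} [Group H] [Fintype H] [Group K] [Fintype K] (ε : H ≃* K)
    (b : Set (IrrCharacter K)) : blockRank p (irrTransport ε '' b) = blockRank p b := by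
  have hcomp : (fun χ : IrrCharacter H => pRegularPart p (χ : H → ℂ)) '' (irrTransport ε '' b) =
      (LinearEquiv.funCongrLeft ℂ ℂ ε.toEquiv).toLinearMap ''
        ((fun χ : IrrCharacter K => pRegularPart p (χ : K → ℂ)) '' b) := by
    rw [Set.image_image, Set.image_image]
    refine Set.image_congr fun χ _ => ?_
    funext h
    simp only [pRegularPart, IsPRegular, irrTransport_apply, LinearEquiv.coe_coe, LinearEquiv.funCongrLeft_apply,
      LinearMap.funLeft_apply, MulEquiv.toEquiv_eq_coe, EquivLike.coe_coe, MulEquiv.orderOf_eq]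
    by_cases hh : p ∣ orderOf h <;> simp [hh]
  unfold blockRank
  rw [hcomp, Submodule.span_image]
  exact (LinearEquiv.finrank_map_eq (LinearEquiv.funCongrLeft ℂ ℂ ε.toEquiv) _)

open scoped Classical in
/-- At the identity the only local block is `B` itself. -/
theorem rank_at_one (hM : IsPModular p M) (hB : IsPBlock M B) :
    ∑ᶠ b ∈ {b : Set (IrrCharacter ↥(Subgroup.centralizer ({(1 : G)} : Set G))) |
      IsInducedBlock M (Subgroup.centralizer ({(1 : G)} : Set G)) b B}, blockRank p b = blockRank p B := by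
  have hP := pmod_prime hM
  haveI : Fintype (Subgroup.centralizer ({(1 : G)} : Set G)) := Fintype.ofFinite _
  have e1 : Subgroup.centralizer ({(1 : G)} : Set G) = ⊤ := by
    ext g
    simp [Subgroup.mem_centralizer_singleton_iff]
  set ε : Subgroup.centralizer ({(1 : G)} : Set G) ≃* G := (MulEquiv.subgroupCongr e1).trans Subgroup.topEquiv with hε
  have hεc : ∀ c : Subgroup.centralizer ({(1 : G)} : Set G), ε c = (c : G) := fun c => rfl
  have hind : ∀ b : Set (IrrCharacter (Subgroup.centralizer ({(1 : G)} : Set G))), IsPBlock M b →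
      IsInducedBlock M (Subgroup.centralizer ({(1 : G)} : Set G)) b (irrTransport ε.symm '' b) := by
    intro b hb
    refine ⟨hb, isPBlock_transport _ hb, fun ξ hξ χ hχ g => ?_⟩
    have h1 : ∀ g, inducedCentralChar (Subgroup.centralizer ({(1 : G)} : Set G))
        (ξ : Subgroup.centralizer ({(1 : G)} : Set G) → ℂ) g = centralChar (irrTransport ε.symm ξ : G → ℂ) g := by
      intro g
      have hval : ∀ c : Subgroup.centralizer ({(1 : G)} : Set G), IsConj g (c : G) →
          (ξ : Subgroup.centralizer ({(1 : G)} : Set G) → ℂ) c = (irrTransport ε.symm ξ : G → ℂ) g := by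
        intro c hc
        obtain ⟨k, hk⟩ := isConj_iff.mp hc
        rw [← isClassFunction_character (irr_isCharacter (irrTransport ε.symm ξ).2) g k, hk, irrTransport_apply,
          show ε.symm (c : G) = c from ε.symm_apply_eq.mpr (hεc c).symm]
      rw [inducedCentralChar, centralChar, finsum_mem_eq_finite_toFinset_sum _ (Set.toFinite _),
        Finset.sum_congr rfl (g := fun _ => (irrTransport ε.symm ξ : G → ℂ) g / (irrTransport ε.symm ξ : G → ℂ) 1)
          (fun c hc => by
            rw [hval c (by simpa using hc), irrTransport_apply ε.symm ξ 1, map_one]),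
        Finset.sum_const, nsmul_eq_mul, mul_div_assoc]
      congr 2
      rw [← card_conjClass_eq_index, Set.toFinite_toFinset, ← Nat.card_eq_card_toFinset]
      exact Nat.card_congr (ε.toEquiv.subtypeEquiv fun c => by simp [hεc])
    rw [h1]
    exact block_sameBlock hP (isPBlock_transport _ hb) ⟨ξ, hξ, rfl⟩ hχ g
  have hset : {b : Set (IrrCharacter ↥(Subgroup.centralizer ({(1 : G)} : Set G))) |
      IsInducedBlock M (Subgroup.centralizer ({(1 : G)} : Set G)) b B} = {irrTransport ε '' B} := by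
    have hinv : irrTransport ε.symm '' (irrTransport ε '' B) = B := by
      rw [Set.image_image]
      conv_rhs => rw [← Set.image_id' B]
      refine Set.image_congr fun χ _ => ?_
      exact Subtype.ext (funext fun g => by rw [irrTransport_apply, irrTransport_apply, MulEquiv.apply_symm_apply])
    ext b
    refine ⟨fun h => ?_, ?_⟩
    · have h' := hind b h.1
      obtain ⟨ξ, hξ⟩ := block_nonempty hP h.1
      obtain ⟨χ, hχ⟩ := block_nonempty hP hB
      have hmem : irrTransport ε.symm ξ ∈ B := by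
        refine (mem_block_iff hP hB hχ _).mpr fun g => ?_
        exact memLI_trans hP (memLI_symm hP (h.2.2 ξ hξ χ hχ g)) (h'.2.2 ξ hξ _ ⟨ξ, hξ, rfl⟩ g)
      have hBe : B = irrTransport ε.symm '' b := block_disjoint hP hB h'.2.1 hmem ⟨ξ, hξ, rfl⟩
      show b = irrTransport ε '' B
      rw [hBe, Set.image_image]
      conv_lhs => rw [← Set.image_id' b]
      refine Set.image_congr fun η _ => ?_
      exact Subtype.ext (funext fun c => by rw [irrTransport_apply, irrTransport_apply, MulEquiv.symm_apply_apply])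
    · rintro rfl
      have h' := hind _ (isPBlock_transport ε hB)
      rwa [hinv] at h'
  rw [hset, finsum_mem_singleton, blockRank_transport]

variable {D : Subgroup G} {e : Set (IrrCharacter (Subgroup.centralizer (D : Set G)))}

/-- A pair below an abelian maximal pair is a normal one. -/
theorem normal_of_le (hM : IsPModular p M) (hmax : IsMaximalBrauerPair p M B D e)
    (hab : ∀ x ∈ D, ∀ y ∈ D, x * y = y * x) {R : Subgroup G}
    {r : Set (IrrCharacter (Subgroup.centralizer (R : Set G)))} (hR : SubpairLE p M R r D e) :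
    IsNormalSubpair p M R r D e := by
  have hDN : D ≤ Subgroup.normalizer (R : Set G) := fun y hy =>
    centralizer_le_norm R fun w hw => hab w (subpair_le hR hw) y hy
  obtain ⟨g0, hg0, hg0D⟩ := over_below hM hmax.1.1 hR le_rfl (subpair_le hR) hDN
  have h1 := eq_of_rel_card hM (a := ⟨D, g0⟩) (b := ⟨D, e⟩) hg0D le_rfl
  obtain rfl : g0 = e := eq_of_heq (Sigma.mk.inj_iff.mp h1).2
  exact hg0

theorem below_unique (hM : IsPModular p M) {Q : Subgroup G}
    {f f' : Set (IrrCharacter (Subgroup.centralizer (Q : Set G)))} (hf : IsNormalSubpair p M Q f D e)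
    (hf' : IsNormalSubpair p M Q f' D e) : f = f' :=
  (existsUnique_normalSubpair hM hf.2.1.1 hf.2.2.1 hf.2.2.2.1 hf.2.1.2).unique hf hf'

open scoped Classical in
set_option maxHeartbeats 2000000 in
/-- The map from `D \ {1}` onto the subsections outside the identity. -/
theorem exists_orbitMap (hM : IsPModular p M) (hmax : IsMaximalBrauerPair p M B D e)
    (hab : ∀ x ∈ D, ∀ y ∈ D, x * y = y * x) (X : Finset G) (hX : ∀ x ∈ X, ∃ k : ℕ, orderOf x = p ^ k)
    (hXrep : ∀ g : G, (∃ k : ℕ, orderOf g = p ^ k) → ∃! x, x ∈ X ∧ IsConj g x) :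
    ∃ Φ : G → Σ x : G, Set (IrrCharacter (Subgroup.centralizer ({x} : Set G))),
      (∀ z ∈ D, z ≠ 1 → (Φ z).1 ∈ X ∧ (Φ z).1 ≠ 1 ∧ IsConj z (Φ z).1 ∧
        IsInducedBlock M (Subgroup.centralizer ({(Φ z).1} : Set G)) (Φ z).2 B ∧
        blockDefect p (Φ z).2 = blockDefect p B) ∧
      (∀ x ∈ X, x ≠ 1 → ∀ b : Set (IrrCharacter (Subgroup.centralizer ({x} : Set G))),
        IsInducedBlock M (Subgroup.centralizer ({x} : Set G)) b B → ∃ z ∈ D, z ≠ 1 ∧ Φ z = ⟨x, b⟩) ∧
      (∀ z ∈ D, z ≠ 1 → ∀ z' ∈ D, z' ≠ 1 →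
        (Φ z = Φ z' ↔ ∃ t ∈ pairStab (pmod_prime hM) hmax.1.1.2, t * z * t⁻¹ = z')) := by
  have hP := pmod_prime hM
  haveI := Fact.mk hM.1
  set S := Finset.univ.filter (fun z : G => z ∈ D ∧ z ≠ 1) with hS
  have hpow : ∀ z ∈ D, ∃ k : ℕ, orderOf z = p ^ k := by
    intro z hz
    obtain ⟨k, hk⟩ := IsPGroup.iff_orderOf.mp hmax.1.1.1 ⟨z, hz⟩
    exact ⟨k, by rwa [Subgroup.orderOf_mk] at hk⟩
  have hcD : ∀ z ∈ D, ∀ d ∈ D, d * z = z * d := fun z hz d hd => hab d hd z hz
  choose! fb hfn hfp hfi hfd using fun z (hz : z ∈ D) => CentralPairs.exists_below hM hmax hz (hcD z hz)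
  have hb : ∀ z ∈ D, IsPBlock M (⟨Subgroup.zpowers z, fb z⟩ : BrauerPairIdx G).2 := fun z hz => (hfi z hz).1
  have hpick : ∀ z ∈ D, ∃ x ∈ X, IsConj z x ∧ ∃ g : G, g * z * g⁻¹ = x ∧
      ∃ φ : Set (IrrCharacter (Subgroup.centralizer ({x} : Set G))),
        IsInducedBlock M (Subgroup.centralizer ({x} : Set G)) φ B ∧ blockDefect p φ = blockDefect p B ∧
        subgroupBlockCoeff (Subgroup.centralizer ({x} : Set G)) φ =
          subgroupBlockCoeff (Subgroup.centralizer
            ((conjIdx g (⟨Subgroup.zpowers z, fb z⟩ : BrauerPairIdx G)).1 : Set G))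
            (conjIdx g (⟨Subgroup.zpowers z, fb z⟩ : BrauerPairIdx G)).2 := by
    intro z hz
    obtain ⟨x, ⟨hxX, hzx⟩, -⟩ := hXrep z (hpow z hz)
    refine ⟨x, hxX, hzx, ?_⟩
    obtain ⟨g, hg⟩ := isConj_iff.mp hzx
    refine ⟨g, hg, ?_⟩
    have he : Subgroup.centralizer
        ((conjIdx g (⟨Subgroup.zpowers z, fb z⟩ : BrauerPairIdx G)).1 : Set G) =
        Subgroup.centralizer ({x} : Set G) := by
      simp only [conjIdx, MonoidHom.map_zpowers, MulEquiv.coe_toMonoidHom, MulAut.conj_apply, hg,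
        centralizer_zpowers_eq]
    obtain ⟨φ, hφ, hφd, hφc, hφi⟩ := CentralPairs.exists_same (B := B) (p := p) he _
      (isPBlock_conjBlock g (hfi z hz).1)
    refine ⟨φ, ?_, ?_, hφc⟩
    · refine hφi (CentralPairs.induced_of_pair hM ?_ (brauerPairOf_conj g (hfp z hz)))
      show (Subgroup.zpowers z).map (MulAut.conj g).toMonoidHom ≤
        Subgroup.centralizer (((Subgroup.zpowers z).map (MulAut.conj g).toMonoidHom : Subgroup G) : Set G)
      simp only [MonoidHom.map_zpowers, MulEquiv.coe_toMonoidHom, MulAut.conj_apply, hg, centralizer_zpowers_eq]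
      exact Subgroup.zpowers_le.mpr (Subgroup.mem_centralizer_singleton_iff.mpr rfl)
    · rw [hφd]
      haveI := Fintype.ofFinite (Subgroup.centralizer (Subgroup.zpowers z : Set G))
      haveI := Fintype.ofFinite (Subgroup.centralizer
        (((Subgroup.zpowers z).map (MulAut.conj g).toMonoidHom : Subgroup G) : Set G))
      show blockDefect p (conjBlock (Subgroup.zpowers z) g (fb z)) = _
      rw [conjBlock_eq, CentralPairs.blockDefect_transport]
      exact hfd z hz
  choose! rz hrX hrc gz hgz φz hφi hφd hφc using hpick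
  have hne1 : ∀ z ∈ D, z ≠ 1 → rz z ≠ 1 := by
    intro z hz hz1 h
    have := hrc z hz
    rw [h] at this
    exact hz1 (isConj_one_left.mp this)
  -- two ways to reach the same subsection
  have key : ∀ z ∈ D, ∀ z' ∈ D, ∀ g g' : G, g * z * g⁻¹ = g' * z' * g'⁻¹ →
      (∃ t ∈ pairStab hP hmax.1.1.2, t * z * t⁻¹ = z') →
      conjIdx g (⟨Subgroup.zpowers z, fb z⟩ : BrauerPairIdx G) =
        conjIdx g' (⟨Subgroup.zpowers z', fb z'⟩ : BrauerPairIdx G) := by
    intro z hz z' hz' g g' hgg ⟨t, ht, htz⟩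
    have htf : conjIdx t (⟨Subgroup.zpowers z, fb z⟩ : BrauerPairIdx G) = ⟨Subgroup.zpowers z', fb z'⟩ := by
      have h1 : IsNormalSubpair p M (conjIdx t (⟨Subgroup.zpowers z, fb z⟩ : BrauerPairIdx G)).1
          (conjIdx t (⟨Subgroup.zpowers z, fb z⟩ : BrauerPairIdx G)).2
          (⟨D, e⟩ : BrauerPairIdx G).1 (⟨D, e⟩ : BrauerPairIdx G).2 :=
        Eq.mp (congrArg (fun a : BrauerPairIdx G => IsNormalSubpair p M
          (conjIdx t (⟨Subgroup.zpowers z, fb z⟩ : BrauerPairIdx G)).1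
          (conjIdx t (⟨Subgroup.zpowers z, fb z⟩ : BrauerPairIdx G)).2 a.1 a.2)
            (show conjIdx t (⟨D, e⟩ : BrauerPairIdx G) = ⟨D, e⟩ from ht)) (normalSubpair_conj hM t (hfn z hz))
      obtain ⟨Q, f, hQf⟩ : ∃ Q f, (⟨Q, f⟩ : BrauerPairIdx G) =
          conjIdx t (⟨Subgroup.zpowers z, fb z⟩ : BrauerPairIdx G) := ⟨_, _, rfl⟩
      have hQ : Q = Subgroup.zpowers z' := by
        rw [show Q = (Subgroup.zpowers z).map (MulAut.conj t).toMonoidHom from (Sigma.mk.inj_iff.mp hQf).1]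
        simp only [MonoidHom.map_zpowers, MulEquiv.coe_toMonoidHom, MulAut.conj_apply, htz]
      rw [← hQf] at h1 ⊢
      subst hQ
      rw [show f = fb z' from below_unique hM h1 (hfn z' hz')]
    set w := g' * t * g⁻¹ with hw
    have hwx : w * (g * z * g⁻¹) = (g * z * g⁻¹) * w := by
      calc w * (g * z * g⁻¹) = g' * (t * z * t⁻¹) * g'⁻¹ * w := by rw [hw]; group
        _ = (g * z * g⁻¹) * w := by rw [htz, ← hgg]
    rw [← htf, conjIdx_mul hP _ _ _ (hb z hz), show g' * t = w * g by rw [hw]; group,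
      ← conjIdx_mul hP w g _ (hb z hz)]
    have hblk : IsPBlock M (conjBlock (Subgroup.zpowers z) g (fb z)) := isPBlock_conjBlock g (hfi z hz).1
    have hwc : w ∈ Subgroup.centralizer
        (((Subgroup.zpowers z).map (MulAut.conj g).toMonoidHom : Subgroup G) : Set G) := by
      simp only [MonoidHom.map_zpowers, MulEquiv.coe_toMonoidHom, MulAut.conj_apply, centralizer_zpowers_eq]
      exact Subgroup.mem_centralizer_singleton_iff.mpr hwx
    exact ((conjIdx_eq_self_iff hP hblk w).mpr ⟨centralizer_le_norm _ hwc,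
      stabilizesBlock_of_centralizer hM ((hfn z hz).1.1.map _) hblk hwc⟩).symm
  -- a coefficient function determines the block
  have hdet : ∀ (x : G) (φ φ' : Set (IrrCharacter (Subgroup.centralizer ({x} : Set G)))), IsPBlock M φ →
      IsPBlock M φ' → subgroupBlockCoeff (Subgroup.centralizer ({x} : Set G)) φ =
        subgroupBlockCoeff (Subgroup.centralizer ({x} : Set G)) φ' → φ = φ' := by
    intro x φ φ' h h' heq
    haveI := Fintype.ofFinite (Subgroup.centralizer ({x} : Set G))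
    refine blockCoeff_inj hP h h' (funext fun c => ?_)
    have := congrFun heq c
    rwa [subgroupBlockCoeff_eq, subgroupBlockCoeff_eq, extendByZero_mem _ _ c.2, extendByZero_mem _ _ c.2] at this
  refine ⟨fun z => ⟨rz z, φz z⟩, fun z hz hz1 => ⟨hrX z hz, hne1 z hz hz1, hrc z hz, hφi z hz, hφd z hz⟩,
    fun x hxX hx1 b hb' => ?_, fun z hz hz1 z' hz' hz'1 => ⟨fun heq => ?_, fun ht => ?_⟩⟩
  · -- every subsection is reached
    obtain ⟨b', hb'b, -, hb'c, hb'i⟩ := CentralPairs.exists_same (B := B) (p := p)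
      (centralizer_zpowers_eq (x := x)).symm b hb'.1
    have hpair := pair_of_induced hM (isPGroup_zpowers hM.1 (hX x hxX)) (hb'i hb')
    obtain ⟨g, hg⟩ := pairs_conj_into_maximal hM hmax hpair
    have hn := normal_of_le hM hmax hab hg
    set z := g * x * g⁻¹ with hzdef
    have hmap : (Subgroup.zpowers x).map (MulAut.conj g).toMonoidHom = Subgroup.zpowers z := by
      simp only [MonoidHom.map_zpowers, MulEquiv.coe_toMonoidHom, MulAut.conj_apply, hzdef]
    have hz : z ∈ D := subpair_le hg (hmap.symm ▸ Subgroup.mem_zpowers z)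
    have hz1 : z ≠ 1 := fun h => hx1 (conj_eq_one_iff.mp h)
    refine ⟨z, hz, hz1, ?_⟩
    have hfx : conjIdx g (⟨Subgroup.zpowers x, b'⟩ : BrauerPairIdx G) = ⟨Subgroup.zpowers z, fb z⟩ := by
      obtain ⟨Q, f, hQf⟩ : ∃ Q f, (⟨Q, f⟩ : BrauerPairIdx G) =
          conjIdx g (⟨Subgroup.zpowers x, b'⟩ : BrauerPairIdx G) := ⟨_, _, rfl⟩
      have hQ : Q = Subgroup.zpowers z := (Sigma.mk.inj_iff.mp hQf).1.trans hmap
      have h1 : IsNormalSubpair p M (⟨Q, f⟩ : BrauerPairIdx G).1 (⟨Q, f⟩ : BrauerPairIdx G).2 D e :=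
        Eq.mpr (congrArg (fun a : BrauerPairIdx G => IsNormalSubpair p M a.1 a.2 D e) hQf) hn
      rw [← hQf]
      subst hQ
      rw [show f = fb z from below_unique hM h1 (hfn z hz)]
    have hr : rz z = x := by
      obtain ⟨x0, -, huniq⟩ := hXrep z (hpow z hz)
      rw [huniq (rz z) ⟨hrX z hz, hrc z hz⟩,
        huniq x ⟨hxX, (isConj_iff.mpr ⟨g, rfl⟩ : IsConj x z).symm⟩]
    have e2 : conjIdx (gz z) (⟨Subgroup.zpowers z, fb z⟩ : BrauerPairIdx G) = ⟨Subgroup.zpowers x, b'⟩ := by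
      have hgi : g⁻¹ * z * g⁻¹⁻¹ = x := by rw [hzdef]; group
      rw [key z hz z hz (gz z) g⁻¹ (by rw [hgz z hz, hr, hgi]) ⟨1, one_mem _, by simp⟩, ← hfx,
        conjIdx_mul hP _ _ _ hb'b, inv_mul_cancel, conjIdx_one hP _ hb'b]
    have hcoef := hφc z hz
    rw [congrArg (fun a : BrauerPairIdx G => subgroupBlockCoeff (Subgroup.centralizer (a.1 : Set G)) a.2) e2,
      hb'c] at hcoef
    have hall : ∀ (x' : G) (φ : Set (IrrCharacter (Subgroup.centralizer ({x'} : Set G)))), IsPBlock M φ → x' = x →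
        subgroupBlockCoeff (Subgroup.centralizer ({x'} : Set G)) φ =
          subgroupBlockCoeff (Subgroup.centralizer ({x} : Set G)) b →
        (⟨x', φ⟩ : Σ x : G, Set (IrrCharacter (Subgroup.centralizer ({x} : Set G)))) = ⟨x, b⟩ := by
      rintro x' φ hφ rfl h
      rw [hdet _ φ b hφ hb'.1 h]
    exact hall _ _ (hφi z hz).1 hr hcoef
  · obtain ⟨hreq, hheq⟩ := Sigma.mk.inj_iff.mp heq
    have hcong : ∀ (x x' : G) (φ : Set (IrrCharacter (Subgroup.centralizer ({x} : Set G))))
        (φ' : Set (IrrCharacter (Subgroup.centralizer ({x'} : Set G)))), x = x' → HEq φ φ' →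
        subgroupBlockCoeff (Subgroup.centralizer ({x} : Set G)) φ =
          subgroupBlockCoeff (Subgroup.centralizer ({x'} : Set G)) φ' := by
      rintro x x' φ φ' rfl h
      rw [eq_of_heq h]
    have hco := hcong _ _ _ _ hreq hheq
    rw [hφc z' hz', hφc z hz] at hco
    have hzz : gz z * z * (gz z)⁻¹ = gz z' * z' * (gz z')⁻¹ := by rw [hgz z hz, hgz z' hz', hreq]
    have e1 : conjIdx (gz z) (⟨Subgroup.zpowers z, fb z⟩ : BrauerPairIdx G) =
        conjIdx (gz z') (⟨Subgroup.zpowers z', fb z'⟩ : BrauerPairIdx G) := by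
      refine idx_ext hP ?_ (isPBlock_conjBlock _ (hb z hz)) (isPBlock_conjBlock _ (hb z' hz')) fun y => ?_
      · simp only [MonoidHom.map_zpowers, MulEquiv.coe_toMonoidHom, MulAut.conj_apply, hzz]
      · exact congrFun hco y
    refine CentralPairs.fuse hM hmax (hfn z hz) (hfn z' hz') (hcD z hz) (hcD z' hz')
      (g := (gz z')⁻¹ * gz z) ?_ ?_
    · calc (gz z')⁻¹ * gz z * z * ((gz z')⁻¹ * gz z)⁻¹
          = (gz z')⁻¹ * (gz z * z * (gz z)⁻¹) * gz z' := by group
        _ = z' := by rw [hzz]; group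
    · rw [← conjIdx_mul hP _ _ _ (hb z hz), e1, conjIdx_mul hP _ _ _ (hb z' hz'), inv_mul_cancel,
        conjIdx_one hP _ (hb z' hz')]
  · have hreq : rz z = rz z' := by
      obtain ⟨t, -, htz⟩ := ht
      obtain ⟨x0, -, huniq⟩ := hXrep z (hpow z hz)
      rw [huniq (rz z) ⟨hrX z hz, hrc z hz⟩,
        huniq (rz z') ⟨hrX z' hz', (isConj_iff.mpr ⟨t, htz⟩).trans (hrc z' hz')⟩]
    have h1 := key z hz z' hz' (gz z) (gz z') (by rw [hgz z hz, hgz z' hz', hreq]) ht
    have h2 := (hφc z hz).trans ((congrArg (fun a : BrauerPairIdx G =>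
      subgroupBlockCoeff (Subgroup.centralizer (a.1 : Set G)) a.2) h1).trans (hφc z' hz').symm)
    have hall : ∀ (x x' : G) (φ : Set (IrrCharacter (Subgroup.centralizer ({x} : Set G))))
        (φ' : Set (IrrCharacter (Subgroup.centralizer ({x'} : Set G)))), IsPBlock M φ → IsPBlock M φ' → x = x' →
        subgroupBlockCoeff (Subgroup.centralizer ({x} : Set G)) φ =
          subgroupBlockCoeff (Subgroup.centralizer ({x'} : Set G)) φ' →
        (⟨x, φ⟩ : Σ x : G, Set (IrrCharacter (Subgroup.centralizer ({x} : Set G)))) = ⟨x', φ'⟩ := by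
      rintro x x' φ φ' hφ hφ' rfl h
      rw [hdet _ φ φ' hφ hφ' h]
    exact hall _ _ _ _ (hφi z hz).1 (hφi z' hz').1 hreq h2

open scoped Classical in
/-- `k(B)` is `l(B)` plus the ranks of the subsections, one for each orbit. -/
theorem card_eq_rank_add (hM : IsPModular p M) (hmax : IsMaximalBrauerPair p M B D e)
    (hab : ∀ x ∈ D, ∀ y ∈ D, x * y = y * x) :
    ∃ Φ : G → Σ x : G, Set (IrrCharacter (Subgroup.centralizer ({x} : Set G))),
      (∀ z ∈ D, z ≠ 1 → (∃ k : ℕ, orderOf (Φ z).1 = p ^ k) ∧ IsConj z (Φ z).1 ∧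
        IsInducedBlock M (Subgroup.centralizer ({(Φ z).1} : Set G)) (Φ z).2 B ∧
        blockDefect p (Φ z).2 = blockDefect p B) ∧
      (∀ z ∈ D, z ≠ 1 → ∀ z' ∈ D, z' ≠ 1 →
        (Φ z = Φ z' ↔ ∃ t ∈ pairStab (pmod_prime hM) hmax.1.1.2, t * z * t⁻¹ = z')) ∧
      Nat.card B = blockRank p B +
        ∑ a ∈ (Finset.univ.filter fun z : G => z ∈ D ∧ z ≠ 1).image Φ, blockRank p a.2 := by
  have hP := pmod_prime hM
  set r : G → G := fun z => Quotient.out (ConjClasses.mk z) with hr
  have hrc : ∀ z, IsConj z (r z) := fun z =>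
    ConjClasses.mk_eq_mk_iff_isConj.mp (Quotient.out_eq (ConjClasses.mk z)).symm
  set X := (Finset.univ.filter fun g : G => ∃ k : ℕ, orderOf g = p ^ k).image r with hXdef
  have hX : ∀ x ∈ X, ∃ k : ℕ, orderOf x = p ^ k := by
    intro x hx
    obtain ⟨z, hz, rfl⟩ := Finset.mem_image.mp hx
    obtain ⟨c, hc⟩ := isConj_iff.mp (hrc z)
    obtain ⟨k, hk⟩ := (Finset.mem_filter.mp hz).2
    exact ⟨k, by rw [← hc, ← MulAut.conj_apply, MulEquiv.orderOf_eq, hk]⟩
  have hXrep : ∀ g : G, (∃ k : ℕ, orderOf g = p ^ k) → ∃! x, x ∈ X ∧ IsConj g x := by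
    intro g hg
    refine ⟨r g, ⟨Finset.mem_image_of_mem r (Finset.mem_filter.mpr ⟨Finset.mem_univ _, hg⟩), hrc g⟩, ?_⟩
    rintro y ⟨hy, hgy⟩
    obtain ⟨z, -, rfl⟩ := Finset.mem_image.mp hy
    exact congrArg Quotient.out (ConjClasses.mk_eq_mk_iff_isConj.mpr ((hrc z).trans hgy.symm))
  obtain ⟨Φ, h1, h2, h3⟩ := exists_orbitMap hM hmax hab X hX hXrep
  refine ⟨Φ, fun z hz hz1 => ⟨hX _ (h1 z hz hz1).1, (h1 z hz hz1).2.2⟩, h3, ?_⟩
  letI : ∀ x : G, Fintype (Subgroup.centralizer ({x} : Set G)) := fun x => Fintype.ofFinite _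
  rw [card_eq_sum_blockRank hM hmax.1.2.1 X hX hXrep]
  obtain ⟨x1, ⟨hx1, hx1c⟩, -⟩ := hXrep 1 ⟨0, by simp⟩
  obtain rfl : x1 = 1 := isConj_one_right.mp hx1c
  rw [← Finset.add_sum_erase _ _ hx1, rank_at_one hM hmax.1.2.1]
  congr 1
  rw [Finset.sum_congr rfl (g := fun x => ∑ b ∈ Finset.univ.filter
      (fun b : Set (IrrCharacter ↥(Subgroup.centralizer ({x} : Set G))) =>
        IsInducedBlock M (Subgroup.centralizer ({x} : Set G)) b B), blockRank p b) fun x _ =>
    (finsum_mem_eq_finite_toFinset_sum _ (Set.toFinite _)).trans (Finset.sum_congr (by ext; simp) fun _ _ => rfl),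
    Finset.sum_sigma']
  refine Finset.sum_congr ?_ fun _ _ => rfl
  ext ⟨x, b⟩
  simp only [Finset.mem_sigma, Finset.mem_erase, Finset.mem_filter, Finset.mem_univ, true_and, Finset.mem_image]
  constructor
  · rintro ⟨⟨hx1', hxX⟩, hb⟩
    obtain ⟨z, hz, hz1, he⟩ := h2 x hxX hx1' b hb
    exact ⟨z, ⟨hz, hz1⟩, he⟩
  · rintro ⟨z, ⟨hz, hz1⟩, he⟩
    obtain ⟨a, b', c, d, -⟩ := h1 z hz hz1
    rw [he] at a b' d
    exact ⟨⟨b', a⟩, d⟩

end Cfsg.Agent.Char.SubsectionOrbits
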