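import Cfsg.Agent.Lib.Char.InducedIn
import Cfsg.Agent.Lib.Char.NilpotentAbelian
import Cfsg.Agent.Lib.Char.SubsectionOrbits
import Cfsg.Agent.Lib.Char.InducedHeightZero

/-!
# The local blocks below an abelian maximal pair with free action

Below `(D, c)` every pair induces `B`, has the defect of `B` and an abelian defect group; under free action it is
nilpotent, so its characters agree on regular elements, and the multiplicities of a height zero character in it
add up to a number prime to `p`.
-/

set_option autoImplicit false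
set_option linter.unusedSectionVars false
set_option linter.style.haveILetI false

open Cfsg

namespace Cfsg.Agent.Char.BelowData

universe u

variable {G : Type u} [Group G] [Fintype G] {M : Ideal AlgInt} {p : ℕ} {B : Set (IrrCharacter G)}
  {D Q : Subgroup G} {c : Set (IrrCharacter (Subgroup.centralizer (D : Set G)))}
  {f : Set (IrrCharacter (Subgroup.centralizer (Q : Set G)))}

theorem le_centralizer (hab : ∀ x ∈ D, ∀ y ∈ D, x * y = y * x) (hQD : Q ≤ D) :
    D ≤ Subgroup.centralizer (Q : Set G) := fun d hd q hq => hab q (hQD hq) d hd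

/-- Such pairs exist. -/
theorem exists_below (hM : IsPModular p M) (hmax : IsMaximalBrauerPair p M B D c)
    (hab : ∀ x ∈ D, ∀ y ∈ D, x * y = y * x) (hQD : Q ≤ D) :
    ∃ f : Set (IrrCharacter (Subgroup.centralizer (Q : Set G))), IsNormalSubpair p M Q f D c :=
  (existsUnique_normalSubpair hM hmax.1.1.1 hQD
    ((le_centralizer hab hQD).trans (centralizer_le_norm _)) hmax.1.1.2).exists

theorem induced (hM : IsPModular p M) (hmax : IsMaximalBrauerPair p M B D c)
    (hab : ∀ x ∈ D, ∀ y ∈ D, x * y = y * x) (hQ : IsNormalSubpair p M Q f D c) :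
    IsInducedBlock M (Subgroup.centralizer (Q : Set G)) f B :=
  CentralPairs.induced_of_pair hM (hQ.2.2.1.trans (le_centralizer hab hQ.2.2.1))
    ((brauerPairOf_iff hM hmax.1.2.1 hQ).mpr hmax.1)

theorem defect (hM : IsPModular p M) (hmax : IsMaximalBrauerPair p M B D c)
    (hab : ∀ x ∈ D, ∀ y ∈ D, x * y = y * x) (hQ : IsNormalSubpair p M Q f D c) :
    blockDefect p f = blockDefect p B := by
  classical
  have hp := hM.1
  haveI := Fintype.ofFinite (Subgroup.centralizer (Q : Set G))
  obtain ⟨D0, hD0⟩ := exists_isDefectGroup hM hQ.1.2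
  refine le_antisymm ?_ ?_
  · obtain ⟨E, hE, hle'⟩ := induced_defect_le hM (induced hM hmax hab hQ) hD0
    have h1 := Subgroup.card_le_of_le hle'
    rw [Subgroup.card_map_of_injective (Subgroup.subtype_injective _), card_defectGroup hM hQ.1.2 hD0,
      card_defectGroup hM hmax.1.2.1 hE] at h1
    exact (Nat.pow_le_pow_iff_right hp.one_lt).mp h1
  · obtain ⟨t, ht⟩ := inf_le_defect hM (a := (⟨D, c⟩ : BrauerPairIdx G)) hQ hD0
    have h1 := Subgroup.card_le_of_le ht
    rw [card_subgroupOf_inf, inf_eq_left.mpr (le_centralizer hab hQ.2.2.1),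
      Subgroup.card_map_of_injective (MulEquiv.injective _),
      card_defectGroup hM hQ.1.2 hD0, card_defectGroup hM hmax.1.2.1 (maximal_pair_defect hM hmax)] at h1
    exact (Nat.pow_le_pow_iff_right hp.one_lt).mp h1

theorem abelian_defect (hM : IsPModular p M) (hmax : IsMaximalBrauerPair p M B D c)
    (hab : ∀ x ∈ D, ∀ y ∈ D, x * y = y * x) (hQ : IsNormalSubpair p M Q f D c)
    {D0 : Subgroup (Subgroup.centralizer (Q : Set G))} (hD0 : IsDefectGroup p M f D0) :
    ∀ x ∈ D0, ∀ y ∈ D0, x * y = y * x := by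
  haveI := Fintype.ofFinite (Subgroup.centralizer (Q : Set G))
  obtain ⟨E, hE, hle⟩ := induced_defect_le hM (induced hM hmax hab hQ) hD0
  obtain ⟨g, hg⟩ := defect_groups_conj hM hmax.1.2.1 (maximal_pair_defect hM hmax) hE
  intro x hx y hy
  obtain ⟨x', hx', ex⟩ := (hg ▸ hle ⟨x, hx, rfl⟩ : (x : G) ∈ D.map (MulAut.conj g).toMonoidHom)
  obtain ⟨y', hy', ey⟩ := (hg ▸ hle ⟨y, hy, rfl⟩ : (y : G) ∈ D.map (MulAut.conj g).toMonoidHom)
  refine Subtype.ext ?_
  rw [Subgroup.coe_mul, Subgroup.coe_mul, ← ex, ← ey, ← map_mul, ← map_mul, hab x' hx' y' hy']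

section Free

variable (hM : IsPModular p M) (hmax : IsMaximalBrauerPair p M B D c)
  (hab : ∀ x ∈ D, ∀ y ∈ D, x * y = y * x) (hQ : IsNormalSubpair p M Q f D c)
  (hfree : ∀ t ∈ pairStab (pmod_prime hM) hmax.1.1.2, (∀ u ∈ Q, t * u = u * t) →
    t ∈ Subgroup.centralizer (D : Set G))
include hM hmax hab hQ hfree

theorem counts : Nat.card f = p ^ blockDefect p B := by
  classical
  haveI := Fintype.ofFinite (Subgroup.centralizer (Q : Set G))
  obtain ⟨D0, hD0⟩ := exists_isDefectGroup hM hQ.1.2
  rw [(NilpotentAbelian.main hM hQ.1.2 hD0 (abelian_defect hM hmax hab hQ hD0)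
    (InducedIn.nilpotent_of_free hM hmax hab hQ hfree)).2.1, defect hM hmax hab hQ]

theorem rank_one : blockRank p f = 1 := by
  classical
  haveI := Fintype.ofFinite (Subgroup.centralizer (Q : Set G))
  obtain ⟨D0, hD0⟩ := exists_isDefectGroup hM hQ.1.2
  exact (NilpotentAbelian.main hM hQ.1.2 hD0 (abelian_defect hM hmax hab hQ hD0)
    (InducedIn.nilpotent_of_free hM hmax hab hQ hfree)).1

theorem regular {ξ θ : IrrCharacter (Subgroup.centralizer (Q : Set G))} (hξ : ξ ∈ f) (hθ : θ ∈ f)
    {x : Subgroup.centralizer (Q : Set G)} (hx : ¬ p ∣ orderOf x) :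
    (ξ : Subgroup.centralizer (Q : Set G) → ℂ) x = (θ : Subgroup.centralizer (Q : Set G) → ℂ) x := by
  classical
  haveI := Fintype.ofFinite (Subgroup.centralizer (Q : Set G))
  obtain ⟨D0, hD0⟩ := exists_isDefectGroup hM hQ.1.2
  exact NilpotentAbelian.regular_eq hM hQ.1.2 hD0 (abelian_defect hM hmax hab hQ hD0)
    (InducedIn.nilpotent_of_free hM hmax hab hQ hfree) hξ hθ hx

open scoped Classical in
/-- The multiplicities of a height zero character add up to a unit, and a local character has a unit value. -/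
theorem mult_unit [Fintype (Subgroup.centralizer (Q : Set G))] {χ : IrrCharacter G} (hχ : χ ∈ B)
    (h0 : blockHeight p B (χ : G → ℂ) = 0) {n : IrrCharacter (Subgroup.centralizer (Q : Set G)) → ℕ}
    (hn : (fun x : Subgroup.centralizer (Q : Set G) => (χ : G → ℂ) x) =
      ∑ η, n η • (η : Subgroup.centralizer (Q : Set G) → ℂ)) :
    ¬ MemLocalIdeal M (((∑ η : IrrCharacter (Subgroup.centralizer (Q : Set G)) with η ∈ f, n η : ℕ)) : ℂ) ∧
      ∀ θ ∈ f, ∃ x : Subgroup.centralizer (Q : Set G),
        ¬ MemLocalIdeal M ((θ : Subgroup.centralizer (Q : Set G) → ℂ) x) := by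
  have hP := pmod_prime hM
  obtain ⟨ξ, hξ⟩ := block_nonempty hP hQ.1.2
  have hu := lam_restrict_unit hM (induced hM hmax hab hQ) hχ h0 hξ
  have key : ∀ θ ∈ f, lam (ξ : Subgroup.centralizer (Q : Set G) → ℂ)
      (regConj p (fun x : Subgroup.centralizer (Q : Set G) => (χ : G → ℂ) (x : G))) =
      ((∑ η : IrrCharacter (Subgroup.centralizer (Q : Set G)) with η ∈ f, n η : ℕ) : ℂ) *
        lam (ξ : Subgroup.centralizer (Q : Set G) → ℂ)
          (regConj p (θ : Subgroup.centralizer (Q : Set G) → ℂ)) := by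
    intro θ hθ
    have e : regConj p (fun x : Subgroup.centralizer (Q : Set G) => (χ : G → ℂ) x) =
        ∑ η : IrrCharacter (Subgroup.centralizer (Q : Set G)),
          (n η : ℂ) • regConj p (η : Subgroup.centralizer (Q : Set G) → ℂ) := by
      funext x
      have := congrFun hn x
      simp only [regConj, this, Finset.sum_apply, Pi.smul_apply, nsmul_eq_mul, smul_eq_mul, map_sum,
        map_mul, map_natCast, Pi.mul_apply, Pi.natCast_apply, Finset.mul_sum]
      exact Finset.sum_congr rfl fun η _ => by ring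
    rw [e, lam_sum, Nat.cast_sum, Finset.sum_mul, Finset.sum_filter]
    refine Finset.sum_congr rfl fun η _ => ?_
    rw [lam_smul]
    split_ifs with hη
    · congr 2
      funext x
      simp only [regConj]
      by_cases hx : p ∣ orderOf x
      · rw [regInd_of_sing hx, zero_mul, zero_mul]
      · rw [regular hM hmax hab hQ hfree hη hθ hx]
    · rw [lam_regConj, einner_eq_zero_of_not_sameBlock hM ξ η fun hs =>
        hη ((mem_block_iff hP hQ.1.2 hξ η).mpr hs), mul_zero, zero_div, mul_zero]
  constructor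
  · intro h
    refine hu ?_
    rw [key ξ hξ]
    exact memLI_mul_right hP h (memLR_lam hP ξ.2 (regConj_class (irr_isCharacter ξ.2))
      (regConj_memLR hP (irr_isCharacter ξ.2)))
  · intro θ hθ
    by_contra hall
    push Not at hall
    refine hu ?_
    rw [key θ hθ]
    refine memLI_mul_left hP (memLR_natCast hP _) (memLI_lam hP ξ.2 (regConj_class (irr_isCharacter θ.2))
      fun x => ?_)
    simp only [regConj]
    rw [← char_inv (irr_isCharacter θ.2)]
    by_cases hx : p ∣ orderOf x
    · rw [regInd_of_sing hx, zero_mul]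
      exact memLI_zero hP
    · rw [regInd_of_reg hx, one_mul]
      exact hall _

end Free

end Cfsg.Agent.Char.BelowData
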