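import Cfsg.Agent.Lib.Char.Galois
import Cfsg.Agent.Lib.Char.Ortho
import Cfsg.Agent.Lib.Char.LinearExt
import Mathlib

/-!
# Field automorphisms of `ℂ` acting on characters
-/

set_option autoImplicit false
set_option linter.unusedSectionVars false
set_option linter.style.haveILetI false

namespace Cfsg.Agent.Char

open Cfsg Module
open scoped ComplexConjugate

universe u

/-- An automorphism of `ℂ` raising the `n`-th roots of unity to a given power. -/
theorem exists_ringEquiv_pow {n k : ℕ} (hn : n ≠ 0) (hk : k.Coprime n) :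
    ∃ σ : ℂ ≃+* ℂ, ∀ μ : ℂ, μ ^ n = 1 → σ μ = μ ^ k := by
  classical
  haveI : NeZero n := ⟨hn⟩
  let A := algebraicClosure ℚ ℂ
  haveI : IsAlgClosure ℚ A := algebraicClosure.isAlgClosure ℚ ℂ
  haveI : Normal ℚ A := IsAlgClosure.normal ℚ A
  have hζ := Complex.isPrimitiveRoot_exp n hn
  set ζ := Complex.exp (2 * Real.pi * Complex.I / n) with hζdef
  have hint : IsIntegral ℚ ζ := hζ.isIntegral (Nat.pos_of_ne_zero hn) |>.tower_top
  let z : A := ⟨ζ, mem_algebraicClosure_iff.2 hint.isAlgebraic⟩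
  have hz : IsPrimitiveRoot z n := IsPrimitiveRoot.coe_submonoidClass_iff.mp hζ
  obtain ⟨τ, hτ⟩ : ∃ τ : A ≃ₐ[ℚ] A, τ z = z ^ k := by
    have hzk := hz.pow_of_coprime k hk
    have hmin : minpoly ℚ z = minpoly ℚ (z ^ k) := by
      rw [← Polynomial.cyclotomic_eq_minpoly_rat hz (Nat.pos_of_ne_zero hn),
        ← Polynomial.cyclotomic_eq_minpoly_rat hzk (Nat.pos_of_ne_zero hn)]
    obtain ⟨τ, hτ⟩ := (Normal.minpoly_eq_iff_mem_orbit (F := ℚ) (E := A)).1 hmin
    refine ⟨τ⁻¹, ?_⟩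
    have : τ (z ^ k) = z := hτ
    conv_lhs => rw [← this]
    exact τ.symm_apply_apply _
  obtain ⟨s, hs⟩ := exists_isTranscendenceBasis A ℂ
  haveI : IsAlgClosure (Algebra.adjoin A (Set.range ((↑) : s → ℂ))) ℂ :=
    IsAlgClosed.isAlgClosure_of_transcendence_basis _ hs
  let e : Algebra.adjoin A (Set.range ((↑) : s → ℂ)) ≃+*
      Algebra.adjoin A (Set.range ((↑) : s → ℂ)) :=
    hs.1.aevalEquiv.symm.toRingEquiv.trans
      ((MvPolynomial.mapEquiv s τ.toRingEquiv).trans hs.1.aevalEquiv.toRingEquiv)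
  refine ⟨IsAlgClosure.equivOfEquiv ℂ ℂ e, fun μ hμ => ?_⟩
  obtain ⟨i, -, rfl⟩ := hζ.eq_pow_of_pow_eq_one hμ
  have hA : ∀ a : A, IsAlgClosure.equivOfEquiv ℂ ℂ e (a : ℂ) = ((τ a : A) : ℂ) := fun a => by
    have h1 := IsAlgClosure.equivOfEquiv_algebraMap ℂ ℂ e
      (algebraMap A (Algebra.adjoin A (Set.range ((↑) : s → ℂ))) a)
    have h2 : e (algebraMap A (Algebra.adjoin A (Set.range ((↑) : s → ℂ))) a) =
        algebraMap A _ (τ a) := by
      show hs.1.aevalEquiv (MvPolynomial.mapEquiv s τ.toRingEquiv (hs.1.aevalEquiv.symm _)) = _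
      rw [AlgEquiv.commutes, MvPolynomial.mapEquiv_apply, MvPolynomial.algebraMap_eq,
        MvPolynomial.map_C, ← MvPolynomial.algebraMap_eq, AlgEquiv.commutes]
      rfl
    rw [h2] at h1
    exact h1
  rw [map_pow, show ζ = ((z : A) : ℂ) from rfl, hA, hτ]
  push_cast
  rw [← pow_mul, ← pow_mul, mul_comm]

variable {G : Type u} [Group G] [Finite G]

/-- The Galois conjugates of a character are the characters `g ↦ χ (g ^ k)`, with determinant
the corresponding power. -/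
theorem exists_powRep {n : ℕ} (ρ : Representation ℂ G (Fin n → ℂ)) {k : ℕ}
    (hk : k.Coprime (Nat.card G)) :
    ∃ ρ' : Representation ℂ G (Fin n → ℂ), (∀ g, ρ'.character g = ρ.character (g ^ k)) ∧
      ∀ g, LinearMap.det (ρ' g) = LinearMap.det (ρ g) ^ k := by
  classical
  obtain ⟨σ, hσ⟩ := exists_ringEquiv_pow Nat.card_pos.ne' hk
  let e : Matrix (Fin n) (Fin n) ℂ ≃ₐ[ℂ] Module.End ℂ (Fin n → ℂ) := Matrix.toLinAlgEquiv'
  let ρ' : Representation ℂ G (Fin n → ℂ) :=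
    e.toMonoidHom.comp ((σ.toRingHom.mapMatrix.toMonoidHom).comp (e.symm.toMonoidHom.comp ρ))
  have hM : ∀ g, ρ' g = Matrix.toLin' ((LinearMap.toMatrix' (ρ g)).map σ) := fun g => rfl
  refine ⟨ρ', fun g => ?_, fun g => ?_⟩
  · obtain ⟨μ, hμ, htr, -⟩ := exists_eigenvalues ρ g
    have hμn : ∀ i, μ i ^ Nat.card G = 1 := fun i => by
      obtain ⟨c, hc⟩ := orderOf_dvd_natCard g
      rw [hc, pow_mul, hμ, one_pow]
    show LinearMap.trace ℂ _ (ρ' g) = ρ.character (g ^ k)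
    rw [hM, Matrix.trace_toLin'_eq, show ((LinearMap.toMatrix' (ρ g)).map σ).trace =
      σ ((LinearMap.toMatrix' (ρ g)).trace) from (AddMonoidHom.map_trace σ.toRingHom.toAddMonoidHom _).symm,
      ← Matrix.trace_toLin'_eq, Matrix.toLin'_toMatrix', htr k]
    show σ (ρ.character g) = _
    have h1 := htr 1
    rw [pow_one] at h1
    rw [h1, map_sum]
    exact Finset.sum_congr rfl fun i _ => by rw [pow_one, hσ _ (hμn i)]
  · have h1 : LinearMap.det (ρ g) ^ Nat.card G = 1 := by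
      rw [← map_pow, rep_pow_card, map_one]
    rw [hM, LinearMap.det_toLin', show ((LinearMap.toMatrix' (ρ g)).map σ).det =
      σ ((LinearMap.toMatrix' (ρ g)).det) from (σ.toRingHom.map_det _).symm,
      LinearMap.det_toMatrix', hσ _ h1]

theorem isCharacter_pow {χ : G → ℂ} (h : IsCharacter G χ) {k : ℕ} (hk : k.Coprime (Nat.card G)) :
    IsCharacter G (fun g => χ (g ^ k)) := by
  obtain ⟨n, ρ, rfl⟩ := h
  obtain ⟨ρ', hρ', -⟩ := exists_powRep ρ hk
  exact ⟨n, ρ', funext hρ'⟩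

theorem isIrrCharacter_pow {χ : G → ℂ} (h : IsIrrCharacter G χ) {k : ℕ}
    (hk : k.Coprime (Nat.card G)) : IsIrrCharacter G (fun g => χ (g ^ k)) := by
  haveI := Fintype.ofFinite G
  refine isIrr_of_norm_one (isCharacter_pow (irr_isCharacter h) hk) ?_
  rw [← irr_self h]
  simp only [classInner]
  congr 1
  exact Fintype.sum_equiv (powCoprime (Nat.Coprime.symm hk)) _ _ fun g => rfl

theorem detChar_pow {χ : G → ℂ} (h : IsCharacter G χ) {k : ℕ} (hk : k.Coprime (Nat.card G)) :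
    detChar (fun g => χ (g ^ k)) = fun g => detChar χ g ^ k := by
  obtain ⟨n, ρ, rfl⟩ := h
  obtain ⟨ρ', hρ', hdet⟩ := exists_powRep ρ hk
  rw [detChar_eq ρ' (funext hρ'), detChar_eq ρ rfl]
  exact funext hdet

end Cfsg.Agent.Char
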