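import Cfsg.Agent.Lib.Char.PGroupOrderBound

/-!
# Schur's bound for the p-part of a linear group with p-rational character
-/

set_option autoImplicit false
open Cfsg
open scoped ComplexConjugate

namespace Cfsg.Agent.Char.SchurBound

open TwoDeg

universe u

theorem ringEquiv_fix_adjoin (σ : ℂ ≃+* ℂ) {ζ : ℂ} (h : σ ζ = ζ) {x : ℂ}
    (hx : x ∈ IntermediateField.adjoin ℚ ({ζ} : Set ℂ)) : σ x = x := by
  induction hx using IntermediateField.adjoin_induction with
  | mem y hy => rw [Set.mem_singleton_iff.1 hy, h]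
  | algebraMap q => simp
  | add a b _ _ ha hb => rw [map_add, ha, hb]
  | inv a _ ha => rw [map_inv₀, ha]
  | mul a b _ _ ha hb => rw [map_mul, ha, hb]

variable {G : Type u} [Group G] [Fintype G] {p v : ℕ} [Fact p.Prime]

/-- A `p`-rational character has rational values on `p`-elements. -/
theorem gal_fix {χ : G → ℂ} (hχ : IsCharacter G χ) {r : ℕ} (hr0 : 0 < r) (hr : ¬ p ∣ r)
    (hval : ∀ g : G, χ g ∈ IntermediateField.adjoin ℚ ({Complex.exp (2 * Real.pi * Complex.I / r)} : Set ℂ))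
    (u : (ZMod (p ^ v))ˣ) (g : G) (hg : g ^ p ^ v = 1) : χ (g ^ (u : ZMod (p ^ v)).val) = χ g := by
  have hp := (Fact.out : p.Prime)
  haveI : NeZero (p ^ v) := ⟨pow_ne_zero _ hp.ne_zero⟩
  have hcop : (p ^ v).Coprime r := (hp.coprime_iff_not_dvd.2 hr).pow_left v
  obtain ⟨m, hm1, hm2⟩ := Nat.chineseRemainder hcop (u : ZMod (p ^ v)).val 1
  have hmc : m.Coprime (p ^ v * r) := by
    refine Nat.Coprime.mul_right ?_ ?_
    · exact (Nat.ModEq.gcd_eq hm1).trans (val_coprime u)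
    · exact (Nat.ModEq.gcd_eq hm2).trans (Nat.gcd_one_left r)
  obtain ⟨σ, hσ⟩ := exists_ringEquiv_pow (mul_ne_zero (pow_ne_zero _ hp.ne_zero) hr0.ne') hmc
  have hζ := Complex.isPrimitiveRoot_exp r hr0.ne'
  have hfix : σ (Complex.exp (2 * Real.pi * Complex.I / r)) = Complex.exp (2 * Real.pi * Complex.I / r) := by
    rw [hσ _ (by rw [pow_mul', hζ.pow_eq_one, one_pow])]
    rw [pow_eq_pow_mod m hζ.pow_eq_one, show m % r = 1 % r from hm2,
      ← pow_eq_pow_mod 1 hζ.pow_eq_one, pow_one]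
  have h1 := ringEquiv_fix_adjoin σ hfix (hval g)
  obtain ⟨d, ρ, hρ⟩ := hχ
  obtain ⟨μ, hμ, htr, -⟩ := exists_eigenvalues ρ g
  have h2 := htr 1
  simp only [pow_one] at h2
  have h3 : σ (χ g) = χ (g ^ m) := by
    rw [← hρ, h2, map_sum, htr m]
    refine Finset.sum_congr rfl fun i _ => hσ _ ?_
    obtain ⟨c, hc⟩ := (orderOf_dvd_of_pow_eq_one hg).trans (dvd_mul_right (p ^ v) r)
    rw [hc, pow_mul, hμ i, one_pow]
  rw [h1, pow_eq_pow_mod m hg, show m % p ^ v = (u : ZMod (p ^ v)).val % p ^ v from hm1,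
    ← pow_eq_pow_mod _ hg] at h3
  exact h3.symm

theorem bernoulli (hp : 2 ≤ p) (t : ℕ) : 1 + (p - 1) * t ≤ p ^ t := by
  induction t with
  | zero => simp
  | succ t ih =>
    rw [pow_succ]
    obtain ⟨q, rfl⟩ : ∃ q, p = q + 1 := ⟨p - 1, by omega⟩
    rw [Nat.add_sub_cancel] at ih ⊢
    nlinarith [Nat.mul_le_mul_right (q + 1) ih, Nat.zero_le (q * q * t)]

theorem geom_eq (hp : 1 ≤ p) (N : ℕ) : (p - 1) * (∑ i ∈ Finset.range N, p ^ i) + 1 = p ^ N := by
  induction N with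
  | zero => simp
  | succ N ih =>
    rw [Finset.sum_range_succ, mul_add, pow_succ]
    obtain ⟨q, rfl⟩ : ∃ q, p = q + 1 := ⟨p - 1, by omega⟩
    rw [Nat.add_sub_cancel] at ih ⊢
    nlinarith

theorem numeric {b t s n w : ℕ} (hb : (p - 1) * b ≤ (p ^ s - 1) + (p - 1) * (t + 1) * p ^ s)
    (hw : w = (p - 1) * p ^ (s + t)) (hwn : w ≤ n) :
    b ≤ ∑ i ∈ Finset.range (n + 1), w / ((p - 1) * p ^ i) := by
  have hp := (Fact.out : p.Prime)
  have hp1 : 0 < p - 1 := by have := hp.two_le; omega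
  set N := s + t + 1
  have h1 : (p - 1) * b ≤ (p - 1) * ∑ i ∈ Finset.range N, p ^ i := by
    have h2 := geom_eq hp.one_le N
    have h3 : p ^ s * (1 + (p - 1) * (t + 1)) ≤ p ^ N := by
      refine (Nat.mul_le_mul_left _ (bernoulli hp.two_le (t + 1))).trans_eq ?_
      rw [← pow_add]; rfl
    have h4 : 0 < p ^ s := pow_pos hp.pos s
    rw [mul_add, mul_one, mul_comm (p ^ s)] at h3
    omega
  refine (Nat.le_of_mul_le_mul_left h1 hp1).trans ?_
  have hN : N ≤ n + 1 := by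
    have h5 : s + t < p ^ (s + t) := Nat.lt_pow_self hp.one_lt
    have h6 : p ^ (s + t) ≤ w := hw ▸ Nat.le_mul_of_pos_left _ hp1
    omega
  rw [← Finset.sum_range_reflect]
  refine le_of_eq_of_le (Finset.sum_congr rfl fun i hi => ?_)
    (Finset.sum_le_sum_of_subset (f := fun i => w / ((p - 1) * p ^ i)) (Finset.range_mono hN))
  rw [Finset.mem_range] at hi
  rw [hw, Nat.mul_div_mul_left _ _ hp1, Nat.pow_div (by omega) hp.pos]
  congr 1

theorem sum_div_le {ι : Type*} (s : Finset ι) (w : ι → ℕ) (d : ℕ) : ∑ i ∈ s, w i / d ≤ (∑ i ∈ s, w i) / d := by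
  classical
  induction s using Finset.induction_on with
  | empty => simp
  | insert a s ha ih =>
    rw [Finset.sum_insert ha, Finset.sum_insert ha]
    exact (Nat.add_le_add_left ih _).trans (Nat.add_div_le_add_div _ _ _)

open scoped Classical in
/-- The Galois orbit of an irreducible character. -/
noncomputable def orb {P : Type u} [Group P] [Fintype P] (k : ℕ) (θ : IrrCharacter P) : Finset (IrrCharacter P) :=
  Finset.univ.filter fun φ => ∃ u : (ZMod (p ^ k))ˣ, (φ : P → ℂ) = gal u (θ : P → ℂ)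

theorem pgroup_bound {P : Type u} [Group P] [Fintype P] (hP : IsPGroup p P) (hcard : Nat.card P = p ^ v)
    (hv : 1 ≤ v) {ψ : P → ℂ} (hψ : IsCharacter P ψ) (hfaith : ∀ g, ψ g = ψ 1 → g = 1)
    (hfix : ∀ (u : (ZMod (p ^ v))ˣ) (g : P), ψ (g ^ (u : ZMod (p ^ v)).val) = ψ g) :
    v ≤ ∑ i ∈ Finset.range (deg ψ + 1), deg ψ / ((p - 1) * p ^ i) := by
  classical
  have hp := (Fact.out : p.Prime)
  haveI : NeZero (p ^ v) := ⟨pow_ne_zero _ hp.ne_zero⟩
  have hexp : ∀ g : P, g ^ p ^ v = 1 := fun g => hcard ▸ pow_card_eq_one'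
  obtain ⟨m, hm⟩ := exists_decomposition hψ
  have hminv : ∀ (θ φ : IrrCharacter P) (u : (ZMod (p ^ v))ˣ), (φ : P → ℂ) = gal u (θ : P → ℂ) → m φ = m θ := by
    intro θ φ u hφ
    have h1 : classInner ψ (φ : P → ℂ) = classInner ψ (θ : P → ℂ) := by
      rw [hφ]
      simp only [classInner]
      congr 1
      refine Fintype.sum_equiv (powCoprime (Nat.Coprime.symm (coprime_natCard_of_exp hexp (val_coprime u)))) _ _
        fun g => ?_
      show ψ g * _ = ψ (g ^ _) * conj ((θ : P → ℂ) (g ^ _))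
      rw [hfix]
      rfl
    rw [decomposition_coeff m hm, decomposition_coeff m hm] at h1
    exact_mod_cast h1
  set T := Finset.univ.filter fun θ : IrrCharacter P => m θ ≠ 0 ∧ kerC θ ≠ ⊤ with hT
  have hself : ∀ θ : IrrCharacter P, θ ∈ orb (p := p) v θ := fun θ =>
    Finset.mem_filter.2 ⟨Finset.mem_univ _, 1, (gal_one hexp _).symm⟩
  have horb_eq : ∀ θ φ : IrrCharacter P, φ ∈ orb (p := p) v θ → orb (p := p) v φ = orb (p := p) v θ := by
    intro θ φ hφ
    obtain ⟨u, hu⟩ := (Finset.mem_filter.1 hφ).2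
    ext ξ
    simp only [orb, Finset.mem_filter, Finset.mem_univ, true_and]
    refine ⟨fun ⟨w, hw⟩ => ⟨w * u, by rw [gal_mul hexp, ← hu, hw]⟩, fun ⟨w, hw⟩ => ⟨w * u⁻¹, ?_⟩⟩
    rw [hu, ← gal_mul hexp, mul_assoc, inv_mul_cancel, mul_one, hw]
  have hTclosed : ∀ θ ∈ T, ∀ φ ∈ orb (p := p) v θ, φ ∈ T ∧ kerC φ = kerC θ ∧ deg (φ : P → ℂ) = deg (θ : P → ℂ) := by
    intro θ hθ φ hφ
    obtain ⟨u, hu⟩ := (Finset.mem_filter.1 hφ).2
    have hk := PBound.kerC_gal hexp θ φ u hu
    refine ⟨Finset.mem_filter.2 ⟨Finset.mem_univ _, ?_, ?_⟩, hk, ?_⟩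
    · rw [hminv θ φ u hu]; exact (Finset.mem_filter.1 hθ).2.1
    · rw [hk]; exact (Finset.mem_filter.1 hθ).2.2
    · simp [deg, hu, gal]
  set Os := T.image (orb (p := p) v) with hOs
  have hrep : ∀ O : Os, ∃ θ ∈ T, orb (p := p) v θ = O.1 := fun O => Finset.mem_image.1 O.2
  choose rep hrepT hrep using hrep
  have hb : ∀ O : Os, ∃ b, (kerC (rep O)).index = p ^ b := fun O => hP.index _
  choose b hbidx using hb
  have hone : ∀ O : Os, b O ≤ ∑ i ∈ Finset.range (deg ψ + 1),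
      (O.1.card * deg (rep O : P → ℂ)) / ((p - 1) * p ^ i) ∨ deg ψ < O.1.card * deg (rep O : P → ℂ) := by
    intro O
    refine (le_or_gt (O.1.card * deg (rep O : P → ℂ)) (deg ψ)).imp (fun hle => ?_) id
    have hne := (Finset.mem_filter.1 (hrepT O)).2.2
    obtain ⟨c, hc⟩ := PBound.sub_one_dvd_index hP hv hexp (rep O) hne
    have hcard' : O.1.card = (galStab hexp (rep O : P → ℂ)).index := by
      rw [← card_range_gal hexp, ← hrep O]
      rw [← Nat.card_eq_finsetCard]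
      refine Nat.card_congr
        { toFun := fun φ => ⟨(φ.1 : P → ℂ), by
            obtain ⟨u, hu⟩ := (Finset.mem_filter.1 φ.2).2
            exact ⟨u, hu.symm⟩⟩
          invFun := fun f => ⟨⟨f.1, by
              obtain ⟨u, hu⟩ := f.2
              exact hu ▸ isIrr_gal hexp u (rep O).2⟩, Finset.mem_filter.2 ⟨Finset.mem_univ _, by
              obtain ⟨u, hu⟩ := f.2
              exact ⟨u, hu.symm⟩⟩⟩
          left_inv := fun φ => rfl
          right_inv := fun f => rfl }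
    obtain ⟨t, -, ht⟩ := (Nat.dvd_prime_pow hp (m := v - 1) (i := c)).1 (by
      have h1 := Subgroup.index_dvd_card (galStab hexp (rep O : P → ℂ))
      rw [hc, Nat.card_eq_fintype_card, ZMod.card_units_eq_totient, Nat.totient_prime_pow hp hv,
        mul_comm (p ^ (v - 1))] at h1
      exact Nat.dvd_of_mul_dvd_mul_left (by have := hp.two_le; omega) h1)
    obtain ⟨s, -, hs⟩ := (Nat.dvd_prime_pow hp).1 (hcard ▸ deg_dvd_card (rep O).2)
    rw [ht] at hc
    have h2 := PBound.bound (deg (rep O : P → ℂ)) hP hv hexp (rep O) rfl hne (b O) t (hbidx O) hc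
    rw [hs] at h2
    refine numeric h2 ?_ hle
    rw [hcard', hc, hs, pow_add]
    ring
  have hdeg : ∑ θ ∈ T, deg (θ : P → ℂ) ≤ deg ψ := by
    have h1 := congrFun hm 1
    rw [char_one_eq_deg hψ, Finset.sum_apply] at h1
    simp only [Pi.smul_apply, nsmul_eq_mul, fun θ : IrrCharacter P => char_one_eq_deg (irr_isCharacter θ.2)] at h1
    have h2 : deg ψ = ∑ θ, m θ * deg (θ : P → ℂ) := by exact_mod_cast h1
    rw [h2]
    exact (Finset.sum_le_sum fun θ hθ => Nat.le_mul_of_pos_left _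
      (Nat.pos_of_ne_zero (Finset.mem_filter.1 hθ).2.1)).trans
      (Finset.sum_le_sum_of_subset (f := fun θ => m θ * deg (θ : P → ℂ)) (Finset.subset_univ _))
  have hwsum : ∑ O : Os, O.1.card * deg (rep O : P → ℂ) ≤ deg ψ := by
    refine le_of_eq_of_le ?_ hdeg
    rw [← Finset.sum_fiberwise_of_maps_to (t := Os) (g := orb (p := p) v)
      (fun θ hθ => Finset.mem_image_of_mem _ hθ) (fun θ => deg (θ : P → ℂ)), ← Finset.sum_coe_sort Os]
    refine Finset.sum_congr rfl fun O _ => ?_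
    have hfib : (T.filter fun θ => orb (p := p) v θ = O.1) = O.1 := by
      ext φ
      rw [Finset.mem_filter]
      refine ⟨fun h => h.2 ▸ hself φ, fun h => ?_⟩
      rw [← hrep O] at h ⊢
      exact ⟨(hTclosed _ (hrepT O) φ h).1, horb_eq _ _ h⟩
    rw [hfib, Finset.sum_congr rfl fun φ hφ => (hTclosed _ (hrepT O) φ ((hrep O).symm ▸ hφ)).2.2,
      Finset.sum_const, smul_eq_mul]
  have hb' : ∀ O : Os, b O ≤ ∑ i ∈ Finset.range (deg ψ + 1),
      (O.1.card * deg (rep O : P → ℂ)) / ((p - 1) * p ^ i) := fun O =>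
    (hone O).resolve_right (not_lt.2 ((Finset.single_le_sum (f := fun O : Os => O.1.card * deg (rep O : P → ℂ))
      (fun _ _ => Nat.zero_le _) (Finset.mem_univ O)).trans hwsum))
  have hL : (⨅ O : Os, kerC (rep O)) = ⊥ := by
    rw [Subgroup.eq_bot_iff_forall]
    intro x hx
    refine hfaith x ?_
    rw [congrFun hm x, congrFun hm 1, Finset.sum_apply, Finset.sum_apply]
    refine Finset.sum_congr rfl fun θ _ => ?_
    rcases eq_or_ne (m θ) 0 with h0 | h0
    · simp [h0]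
    rw [Pi.smul_apply, Pi.smul_apply]
    congr 1
    refine (PBound.mem_kerC_iff θ x).1 ?_
    by_cases htop : kerC θ = ⊤
    · rw [htop]; trivial
    have hθT : θ ∈ T := Finset.mem_filter.2 ⟨Finset.mem_univ _, h0, htop⟩
    set O : Os := ⟨_, Finset.mem_image_of_mem _ hθT⟩
    have h1 : θ ∈ orb (p := p) v (rep O) := by rw [hrep O]; exact hself θ
    rw [(hTclosed _ (hrepT O) θ h1).2.1]
    exact (Subgroup.mem_iInf.1 hx) O
  have h2 := Subgroup.index_iInf_le (fun O : Os => kerC (rep O))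
  rw [hL, Subgroup.index_bot, hcard, Finset.prod_congr rfl (fun O _ => hbidx O),
    Finset.prod_pow_eq_pow_sum, Nat.pow_le_pow_iff_right hp.one_lt] at h2
  refine h2.trans ((Finset.sum_le_sum fun O _ => hb' O).trans ?_)
  rw [Finset.sum_comm]
  exact Finset.sum_le_sum fun i _ => (sum_div_le _ _ _).trans (Nat.div_le_div_right hwsum)

end Cfsg.Agent.Char.SchurBound
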