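import Cfsg.Agent.S0185
import Cfsg.Agent.Lib.Char.SchurBound
import Cfsg.Agent.Lib.Char.GaloisConj
import Cfsg.Agent.Lib.Char.LinearExt
import Cfsg.Agent.Lib.Char.ProjRep
import Cfsg.Agent.Lib.Perm.NilpotentHall
import Mathlib.GroupTheory.SchurZassenhaus

/-!
# Blichfeldt: abelian Hall subgroups for the primes above `n + 1`

Two irreducible Galois conjugations, one moving only `p`-singular and one only `q`-singular values, force an
element of order `pq`; centralizer induction then assembles the Hall subgroup.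
-/

set_option autoImplicit false
set_option linter.style.haveILetI false
open Cfsg
open scoped ComplexConjugate

namespace Cfsg.Agent.Char.Blichfeldt

universe u

variable {G : Type u} [Group G] [Finite G]

/-- A congruence condition making a Galois conjugation of a character move it. -/
theorem exists_moving {ψ : G → ℂ} (hψ : IsCharacter G ψ) (hfaith : ∀ g, ψ g = ψ 1 → g = 1) {p : ℕ}
    (hp : p.Prime) (hpG : p ∣ Nat.card G) (hdeg : deg ψ + 1 < p) :
    ∃ k : ℕ, k.Coprime (Nat.card G) ∧ (∃ g, ψ (g ^ k) ≠ ψ g) ∧ ∀ g : G, ¬ p ∣ orderOf g → g ^ k = g := by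
  classical
  haveI := Fintype.ofFinite G
  haveI : Fact p.Prime := ⟨hp⟩
  set v := (Nat.card G).factorization p with hv
  set m := Nat.card G / p ^ v with hm
  have hN : p ^ v * m = Nat.card G := Nat.ordProj_mul_ordCompl_eq_self _ p
  have hpm : ¬ p ∣ m := Nat.not_dvd_ordCompl hp Nat.card_pos.ne'
  have hv1 : 1 ≤ v := hp.factorization_pos_of_dvd Nat.card_pos.ne' hpG
  haveI : NeZero (p ^ v) := ⟨pow_ne_zero _ hp.ne_zero⟩
  have hcop : (p ^ v).Coprime m := (hp.coprime_iff_not_dvd.2 hpm).pow_left v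
  have hfix : ∀ (k : ℕ), k ≡ 1 [MOD m] → ∀ g : G, ¬ p ∣ orderOf g → g ^ k = g := by
    intro k hk g hg
    have hd : orderOf g ∣ m := by
      have h1 : orderOf g ∣ p ^ v * m := hN.symm ▸ orderOf_dvd_natCard g
      exact ((hp.coprime_iff_not_dvd.2 hg).symm.pow_right v).dvd_of_dvd_mul_left h1
    conv_rhs => rw [← pow_one g]
    exact pow_eq_pow_iff_modEq.2 (hk.of_dvd hd)
  have hK : ∀ u : (ZMod (p ^ v))ˣ, ∃ k : ℕ, k.Coprime (Nat.card G) ∧ k ≡ (u : ZMod (p ^ v)).val [MOD p ^ v] ∧
      k ≡ 1 [MOD m] := by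
    intro u
    obtain ⟨k, h1, h2⟩ := Nat.chineseRemainder hcop (u : ZMod (p ^ v)).val 1
    refine ⟨k, hN ▸ Nat.Coprime.mul_right ?_ ?_, h1, h2⟩
    · exact (Nat.ModEq.gcd_eq h1).trans (val_coprime u)
    · exact (Nat.ModEq.gcd_eq h2).trans (Nat.gcd_one_left m)
  by_contra hcon
  push Not at hcon
  have hall : ∀ (u : (ZMod (p ^ v))ˣ) (g : G), g ^ p ^ v = 1 → ψ (g ^ (u : ZMod (p ^ v)).val) = ψ g := by
    intro u g hg
    obtain ⟨k, hk1, hk2, hk3⟩ := hK u
    by_contra hne
    obtain ⟨g', hg', hg''⟩ := hcon k hk1 ⟨g, by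
      rwa [show g ^ k = g ^ (u : ZMod (p ^ v)).val from
        pow_eq_pow_iff_modEq.2 (hk2.of_dvd (orderOf_dvd_of_pow_eq_one hg))]⟩
    exact hg'' (hfix k hk3 g' hg')
  obtain P : Sylow p G := default
  haveI := Fintype.ofFinite (P : Subgroup G)
  set φ : ↥(P : Subgroup G) → ℂ := fun x => ψ (x : G) with hφ
  have hb := SchurBound.pgroup_bound (ψ := φ) P.isPGroup' P.card_eq_multiplicity hv1
    (isCharacter_comp (P : Subgroup G).subtype hψ) (fun g hg => Subtype.ext (hfaith g hg)) fun u g => by
      show ψ ((g ^ (u : ZMod (p ^ v)).val : (P : Subgroup G)) : G) = ψ g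
      rw [Subgroup.coe_pow]
      refine hall u (g : G) ?_
      rw [← Subgroup.coe_pow, ← P.card_eq_multiplicity, pow_card_eq_one', Subgroup.coe_one]
  rw [Finset.sum_eq_zero fun i _ => Nat.div_eq_of_lt ?_] at hb
  · omega
  have hd : deg φ = deg ψ := rfl
  calc deg φ < p - 1 := by omega
    _ ≤ (p - 1) * p ^ i := Nat.le_mul_of_pos_right _ (pow_pos hp.pos i)

/-- An irreducible character of small degree forces elements of order `pq`. -/
theorem exists_commuting {ψ : G → ℂ} (hψ : IsIrrCharacter G ψ) (hfaith : ∀ g, ψ g = ψ 1 → g = 1) {p q : ℕ}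
    (hp : p.Prime) (hq : q.Prime) (hpG : p ∣ Nat.card G) (hqG : q ∣ Nat.card G) (hpd : deg ψ + 1 < p)
    (hqd : deg ψ + 1 < q) : ∃ a b : G, orderOf a = p ∧ orderOf b = q ∧ Commute a b := by
  classical
  haveI := Fintype.ofFinite G
  obtain ⟨k, hk, ⟨g₁, hg₁⟩, hkf⟩ := exists_moving (irr_isCharacter hψ) hfaith hp hpG hpd
  obtain ⟨l, hl, ⟨g₂, hg₂⟩, hlf⟩ := exists_moving (irr_isCharacter hψ) hfaith hq hqG hqd
  obtain ⟨g, hgp, hgq⟩ : ∃ g : G, p ∣ orderOf g ∧ q ∣ orderOf g := by
    by_contra hcon
    push Not at hcon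
    set ψk : G → ℂ := fun g => ψ (g ^ k)
    set ψl : G → ℂ := fun g => ψ (g ^ l)
    have h0 : classInner (ψ - ψk) (ψ - ψl) = 0 := by
      rw [classInner, Finset.sum_eq_zero fun g _ => ?_, mul_zero]
      by_cases hg : p ∣ orderOf g
      · have : ψl g = ψ g := by show ψ (g ^ l) = _; rw [hlf g (hcon g hg)]
        rw [Pi.sub_apply ψ ψl, this, sub_self, map_zero, mul_zero]
      · have : ψk g = ψ g := by show ψ (g ^ k) = _; rw [hkf g hg]
        rw [Pi.sub_apply, this, sub_self, zero_mul]
    have hik : IsIrrCharacter G ψk := isIrrCharacter_pow hψ hk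
    have hil : IsIrrCharacter G ψl := isIrrCharacter_pow hψ hl
    rw [classInner_sub_left, classInner_sub_right, classInner_sub_right, irr_self hψ,
      irr_orth hψ hil, irr_orth hik hψ, irr_orth hik hil,
      if_neg (fun e => hg₂ (congrFun e g₂).symm), if_neg (fun e => hg₁ (congrFun e g₁)), sub_zero, zero_sub,
      sub_neg_eq_add] at h0
    split_ifs at h0 <;> norm_num at h0
  refine ⟨g ^ (orderOf g / p), g ^ (orderOf g / q), ?_, ?_, (Commute.refl g).pow_pow _ _⟩
  · exact orderOf_pow_orderOf_div (orderOf_pos g).ne' hgp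
  · exact orderOf_pow_orderOf_div (orderOf_pos g).ne' hgq

theorem rep_injective {m : ℕ} (ρ : Representation ℂ G (Fin m → ℂ)) (hinj : ∀ g, ρ g = 1 → g = 1) :
    Function.Injective ρ := fun a b h => (inv_mul_eq_one.1 (hinj (b⁻¹ * a) (by
      rw [map_mul, h, ← map_mul, inv_mul_cancel, map_one]))).symm

/-- A subgroup all of whose prime divisors exceed the degree is abelian. -/
theorem commute_of_primes {m : ℕ} (ρ : Representation ℂ G (Fin m → ℂ)) (hinj : ∀ g, ρ g = 1 → g = 1)
    (U : Subgroup G) (hU : ∀ r : ℕ, r.Prime → r ∣ Nat.card U → m < r) {a b : G} (ha : a ∈ U) (hb : b ∈ U) :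
    a * b = b * a :=
  congrArg Subtype.val (S0185.result (G := U) (ρ.comp U.subtype)
    ((rep_injective ρ hinj).comp U.subtype_injective)
    (fun r hr hrd => by rw [Module.finrank_fintype_fun_eq_card, Fintype.card_fin]; exact hU r hr hrd)
    ⟨a, ha⟩ ⟨b, hb⟩)

/-- A Hall subgroup for the primes above `n + 1`. -/
def IsHallAbove (n : ℕ) (U : Subgroup G) : Prop :=
  (∀ r : ℕ, r.Prime → r ∣ Nat.card U → n + 1 < r) ∧ ∀ r : ℕ, r.Prime → r ∣ U.index → r ≤ n + 1

theorem index_dvd_of_conj_le {U V : Subgroup G} (g : G) (h : ∀ u ∈ U, g * u * g⁻¹ ∈ V) : V.index ∣ U.index := by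
  rw [← Subgroup.index_map_equiv U (MulAut.conj g)]
  exact Subgroup.index_dvd_of_le (by rintro _ ⟨u, hu, rfl⟩; exact h u hu)

theorem exists_conj_mem {p : ℕ} [Fact p.Prime] {W : Subgroup G} (hW : ¬ p ∣ W.index) {x : G}
    (hx : orderOf x = p) : ∃ g : G, g * x * g⁻¹ ∈ W := by
  obtain ⟨Q, hQ⟩ := Perm.NilpotentHall.exists_sylow_le hW
  obtain ⟨g, -, hg⟩ := Perm.NilpotentHall.conj_into ⊤ Q le_top (Subgroup.zpowers x)
    (IsPGroup.of_card (n := 1) (by rw [Nat.card_zpowers, hx, pow_one])) le_top
  exact ⟨g, hQ (hg x (Subgroup.mem_zpowers x))⟩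

/-- An element of order `p` with `n < p`: the index of its centralizer is prime to `p`. -/
theorem centralizer_index {m : ℕ} (ρ : Representation ℂ G (Fin m → ℂ)) (hinj : ∀ g, ρ g = 1 → g = 1) {p : ℕ}
    [Fact p.Prime] (hmp : m < p) {x : G} (hx : orderOf x = p) :
    ¬ p ∣ (Subgroup.centralizer ({x} : Set G)).index := by
  obtain ⟨Q⟩ : Nonempty (Sylow p G) := inferInstance
  obtain ⟨g, hg⟩ := exists_conj_mem Q.not_dvd_index hx
  intro hd
  refine Q.not_dvd_index (hd.trans (index_dvd_of_conj_le g⁻¹ fun a ha => ?_))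
  rw [Subgroup.mem_centralizer_singleton_iff]
  have hc := commute_of_primes ρ hinj (Q : Subgroup G) (fun r hr hrd => by
    obtain ⟨i, hi⟩ := IsPGroup.iff_card.1 Q.2
    rw [hi] at hrd
    rwa [(Nat.prime_dvd_prime_iff_eq hr Fact.out).1 (hr.dvd_of_dvd_pow hrd)]) ha hg
  calc g⁻¹ * a * g⁻¹⁻¹ * x = g⁻¹ * (a * (g * x * g⁻¹)) * g := by group
    _ = g⁻¹ * (g * x * g⁻¹ * a) * g := by rw [hc]
    _ = x * (g⁻¹ * a * g⁻¹⁻¹) := by group

omit [Finite G] in
/-- The induction step and the statement. -/
theorem exists_hall_aux (n : ℕ) : ∀ (N : ℕ) (G : Type u) [Group G] [Finite G], Nat.card G = N →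
    ∀ (m : ℕ) (ρ : Representation ℂ G (Fin m → ℂ)), (∀ g, ρ g = 1 → g = 1) → m ≤ n →
      ∃ U : Subgroup G, IsHallAbove n U := by
  intro N
  induction N using Nat.strong_induction_on with
  | _ N ih =>
  intro G _ _ hcard m ρ hinj hmn
  classical
  haveI := Fintype.ofFinite G
  -- recursion into proper subgroups
  have hsub : ∀ L : Subgroup G, L ≠ ⊤ → ∃ W : Subgroup G, W ≤ L ∧
      (∀ a ∈ W, ∀ b ∈ W, a * b = b * a) ∧ (∀ r : ℕ, r.Prime → r ∣ Nat.card W → n + 1 < r) ∧
      (∀ r : ℕ, r.Prime → n + 1 < r → ¬ r ∣ L.index → ¬ r ∣ W.index) ∧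
      ∀ r : ℕ, r.Prime → n + 1 < r → r ∣ Nat.card L → r ∣ Nat.card W := by
    intro L hL
    obtain ⟨U, hU1, hU2⟩ := ih _ (hcard ▸ lt_of_le_of_ne (Nat.le_of_dvd Nat.card_pos L.card_subgroup_dvd_card)
      fun e => hL (Subgroup.eq_top_of_card_eq L e)) L rfl m (ρ.comp L.subtype)
      (fun g hg => Subtype.ext (hinj _ hg)) hmn
    have hc : Nat.card (U.map L.subtype) = Nat.card U := Subgroup.card_map_of_injective L.subtype_injective
    refine ⟨U.map L.subtype, Subgroup.map_subtype_le U, fun a ha b hb =>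
      commute_of_primes ρ hinj (U.map L.subtype) (fun r hr hrd => by
        have := hU1 r hr (hc ▸ hrd); omega) ha hb, fun r hr hrd => hU1 r hr (hc ▸ hrd), fun r hr hrn hrL hrW => ?_, fun r hr hrn hrL => ?_⟩
    · rw [Subgroup.index_map_subtype] at hrW
      rcases hr.dvd_mul.1 hrW with h | h
      · have := hU2 r hr h; omega
      · exact hrL h
    · rw [← U.card_mul_index] at hrL
      rcases hr.dvd_mul.1 hrL with h | h
      · exact hc.symm ▸ h
      · have := hU2 r hr h; omega
  have useSub : ∀ L : Subgroup G, L ≠ ⊤ → (∀ r : ℕ, r.Prime → r ∣ L.index → r ≤ n + 1) →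
      ∃ U : Subgroup G, IsHallAbove n U := by
    intro L hL hidx
    obtain ⟨W, -, -, hW1, hW2, -⟩ := hsub L hL
    refine ⟨W, hW1, fun r hr hrd => ?_⟩
    by_contra h
    exact hW2 r hr (by omega) (fun h' => h (hidx r hr h')) hrd
  -- normal subgroups of index prime to the small primes
  have caseB : ∀ M : Subgroup G, M.Normal → M ≠ ⊤ → (∀ r : ℕ, r.Prime → r ∣ M.index → n + 1 < r) →
      ∃ U : Subgroup G, IsHallAbove n U := by
    intro M hMn hM hMidx
    haveI := hMn
    obtain ⟨H, hH1, hH2⟩ := ih _ (hcard ▸ lt_of_le_of_ne (Nat.le_of_dvd Nat.card_pos M.card_subgroup_dvd_card)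
      fun e => hM (Subgroup.eq_top_of_card_eq M e)) M rfl m (ρ.comp M.subtype)
      (fun g hg => Subtype.ext (hinj _ hg)) hmn
    have hcomm : ∀ a b : M, a ∈ H → b ∈ H → a * b = b * a := fun a b ha hb =>
      commute_of_primes (ρ.comp M.subtype) (fun g hg => Subtype.ext (hinj _ hg)) H
        (fun r hr hrd => by have := hH1 r hr hrd; omega) ha hb
    set H' := H.map M.subtype with hH'
    have hfrat : ∀ g : G, ∃ c ∈ M, c * g ∈ Subgroup.normalizer (H' : Set G) := by
      intro g
      let S : Subgroup M := H.map (MulAut.conjNormal g).toMonoidHom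
      have hScard : Nat.card S = Nat.card H := Subgroup.card_map_of_injective (MulEquiv.injective _)
      have hHnil : Group.IsNilpotent H := by
        letI : CommGroup H := { (inferInstance : Group H) with mul_comm := fun a b => Subtype.ext (hcomm a b a.2 b.2) }
        exact inferInstance
      have hSnil : Group.IsNilpotent S := Group.nilpotent_of_mulEquiv
        (H.equivMapOfInjective (MulAut.conjNormal g).toMonoidHom (MulEquiv.injective _))
      obtain ⟨c, -, hc⟩ := Perm.NilpotentHall.nilpotent_conj _ S ⊤ H rfl le_top le_top hHnil hSnil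
        fun r hr hrd hri => by
          have := hH1 r hr (hScard ▸ hrd); have := hH2 r hr hri; omega
      refine ⟨c, c.2, ?_⟩
      have hle : H'.map (MulAut.conj ((c : G) * g)).toMonoidHom ≤ H' := by
        rintro _ ⟨_, ⟨a, ha, rfl⟩, rfl⟩
        refine ⟨_, hc _ ⟨a, ha, rfl⟩, ?_⟩
        show (c : G) * (g * a * g⁻¹) * (c : G)⁻¹ = (c : G) * g * a * ((c : G) * g)⁻¹
        group
      have heq : H'.map (MulAut.conj ((c : G) * g)).toMonoidHom = H' :=
        Subgroup.eq_of_le_of_card_ge hle (Subgroup.card_map_of_injective (MulAut.conj _).injective).ge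
      rw [Subgroup.mem_normalizer_iff]
      intro a
      constructor
      · intro ha
        exact heq ▸ ⟨a, ha, rfl⟩
      · intro ha
        obtain ⟨b, hb, hbe⟩ : (c : G) * g * a * ((c : G) * g)⁻¹ ∈ H'.map (MulAut.conj ((c : G) * g)).toMonoidHom := by
          rwa [heq]
        rwa [← (MulAut.conj ((c : G) * g)).injective hbe]
    by_cases hN : Subgroup.normalizer (H' : Set G) = ⊤
    · haveI hHn : H'.Normal := Subgroup.normalizer_eq_top_iff.1 hN
      have hHM : H' ≤ M := Subgroup.map_subtype_le H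
      set Mb := M.map (QuotientGroup.mk' H') with hMb
      haveI : Mb.Normal := Subgroup.Normal.map inferInstance _ (QuotientGroup.mk'_surjective _)
      have hrel : H'.relIndex M = H.index := by
        rw [hH', Subgroup.relIndex, Subgroup.subgroupOf, Subgroup.comap_map_eq_self_of_injective M.subtype_injective]
      have hMbcard : Nat.card Mb = H.index := by
        rw [← hrel, hMb, ← Subgroup.relIndex_ker, QuotientGroup.ker_mk']
      have hMbidx : Mb.index = M.index := by
        rw [hMb, Subgroup.index_map, QuotientGroup.ker_mk', sup_eq_left.2 hHM,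
          MonoidHom.range_eq_top.2 (QuotientGroup.mk'_surjective _), Subgroup.index_top, mul_one]
      obtain ⟨K, hK⟩ := Subgroup.exists_right_complement'_of_coprime (N := Mb) (by
        rw [hMbcard, hMbidx]
        refine Nat.coprime_of_dvd fun r hr h1 h2 => ?_
        have := hH2 r hr h1; have := hMidx r hr h2; omega)
      have hKcard : Nat.card K = M.index := by
        rw [← hMbidx]
        exact hK.symm.index_eq_card.symm
      have hKidx : K.index = H.index := by
        rw [← hMbcard]
        exact hK.index_eq_card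
      refine ⟨K.comap (QuotientGroup.mk' H'), fun r hr hrd => ?_, fun r hr hrd => ?_⟩
      · have hc : Nat.card (K.comap (QuotientGroup.mk' H')) = M.index * Nat.card H' := by
          refine Nat.eq_of_mul_eq_mul_right (Nat.pos_of_ne_zero (Subgroup.index_ne_zero_of_finite (H := K))) ?_
          conv_lhs => rw [← Subgroup.index_comap_of_surjective K (QuotientGroup.mk'_surjective H')]
          rw [Subgroup.card_mul_index, mul_right_comm, ← hKcard, Subgroup.card_mul_index,
            ← Subgroup.card_eq_card_quotient_mul_card_subgroup]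
        rw [hc] at hrd
        rcases hr.dvd_mul.1 hrd with h | h
        · exact hMidx r hr h
        · refine hH1 r hr ?_
          rwa [hH', Subgroup.card_map_of_injective M.subtype_injective] at h
      · rw [Subgroup.index_comap_of_surjective _ (QuotientGroup.mk'_surjective _), hKidx] at hrd
        exact hH2 r hr hrd
    · refine useSub _ hN fun r hr hrd => ?_
      have htop : M ⊔ Subgroup.normalizer (H' : Set G) = ⊤ := by
        rw [eq_top_iff]
        intro g _
        obtain ⟨c, hc, hcg⟩ := hfrat g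
        rw [show g = c⁻¹ * (c * g) by group]
        exact Subgroup.mul_mem_sup (M.inv_mem hc) hcg
      have hle : H' ≤ Subgroup.normalizer (H' : Set G) := Subgroup.le_normalizer
      refine hH2 r hr (hrd.trans ?_)
      have h1 : (Subgroup.normalizer (H' : Set G)).relIndex M = (Subgroup.normalizer (H' : Set G)).index := by
        set Nz := Subgroup.normalizer (H' : Set G)
        have a1 := Subgroup.relIndex_mul_relIndex ⊥ (Nz ⊓ M) M bot_le inf_le_right
        have a2 := Subgroup.relIndex_mul_relIndex ⊥ (Nz ⊓ M) Nz bot_le inf_le_left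
        rw [Subgroup.inf_relIndex_right, Subgroup.relIndex_bot_left, Subgroup.relIndex_bot_left] at a1
        rw [Subgroup.inf_relIndex_left, Subgroup.relIndex_bot_left, Subgroup.relIndex_bot_left] at a2
        have a3 : M.relIndex Nz = M.index := by
          rw [← Subgroup.relIndex_sup_right, sup_comm, htop, Subgroup.relIndex_top_right]
        refine Nat.eq_of_mul_eq_mul_left (Nat.card_pos (α := Nz)) ?_
        rw [Subgroup.card_mul_index, ← M.card_mul_index, ← a1, ← a2, a3]
        ring
      have h2 : H'.relIndex M = H.index := by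
        rw [hH', Subgroup.relIndex, Subgroup.subgroupOf, Subgroup.comap_map_eq_self_of_injective M.subtype_injective]
      rw [← h1, ← h2]
      exact Subgroup.relIndex_dvd_of_le_left M hle
  by_cases hπ : ∀ r : ℕ, r.Prime → r ∣ Nat.card G → r ≤ n + 1
  · exact ⟨⊥, fun r hr hrd => absurd (by rwa [Subgroup.card_bot] at hrd) hr.not_dvd_one,
      fun r hr hrd => hπ r hr (by rwa [Subgroup.index_bot] at hrd)⟩
  push Not at hπ
  obtain ⟨p, hp, hpG, hpn⟩ := hπ
  haveI : Fact p.Prime := ⟨hp⟩
  obtain ⟨x, hx⟩ := exists_prime_orderOf_dvd_card' p hpG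
  have hx1 : x ≠ 1 := fun e => by rw [e, orderOf_one] at hx; exact hp.ne_one hx.symm
  -- a nontrivial irreducible constituent
  obtain ⟨mult, hmult⟩ := exists_decomposition (isCharacter_character ρ)
  obtain ⟨ψ, hψ0, hψx⟩ : ∃ ψ : IrrCharacter G, mult ψ ≠ 0 ∧ (ψ : G → ℂ) x ≠ (ψ : G → ℂ) 1 := by
    by_contra hcon
    push Not at hcon
    refine hx1 (hinj x ?_)
    refine (eq_id_iff ρ x).1 ?_
    rw [← Representation.char_one ρ, hmult, Finset.sum_apply, Finset.sum_apply]
    refine Finset.sum_congr rfl fun θ _ => ?_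
    by_cases h0 : mult θ = 0
    · simp [h0]
    · rw [Pi.smul_apply, Pi.smul_apply, hcon θ h0]
  have hψd : deg (ψ : G → ℂ) ≤ n := by
    have hne : classInner ρ.character (ψ : G → ℂ) ≠ 0 := by
      rw [decomposition_coeff mult hmult ψ]
      exact_mod_cast hψ0
    have h := degree_le_of_classInner_ne_zero (isCharacter_character ρ) ψ hne
    simp only [char_one_eq_deg (irr_isCharacter ψ.2), Representation.char_one, Complex.natCast_re,
      Module.finrank_fintype_fun_eq_card, Fintype.card_fin] at h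
    exact le_trans (by exact_mod_cast h) hmn
  obtain ⟨χ, hirr⟩ := ψ
  obtain ⟨d, σ, hσ, rfl⟩ := hirr
  simp only at hψx hψd
  have hdn : d ≤ n := by
    simpa [deg, Representation.char_one] using hψd
  by_cases hfaith : ∀ g, σ g = 1 → g = 1
  swap
  · -- pass to a faithful quotient
    set K := MonoidHom.ker σ with hKdef
    have hKne : K ≠ ⊥ := fun e => hfaith fun g hg => by
      have : g ∈ K := hg
      rwa [e, Subgroup.mem_bot] at this
    have hKtop : K ≠ ⊤ := fun e => hψx (by
      have : σ x = 1 := (e ▸ Subgroup.mem_top x : x ∈ K)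
      rw [Representation.char_one, (eq_id_iff σ x).2 this])
    let σ' : Representation ℂ (G ⧸ K) (Fin d → ℂ) := QuotientGroup.lift K σ le_rfl
    obtain ⟨U, hU1, hU2⟩ := ih _ (by
      rw [← hcard, K.card_eq_card_quotient_mul_card_subgroup]
      exact lt_mul_of_one_lt_right Nat.card_pos (K.one_lt_card_iff_ne_bot.2 hKne)) (G ⧸ K) rfl d σ'
      (fun g hg => by
        obtain ⟨g, rfl⟩ := QuotientGroup.mk_surjective g
        exact (QuotientGroup.eq_one_iff g).2 hg) hdn
    have hidx : (U.comap (QuotientGroup.mk' K)).index = U.index :=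
      Subgroup.index_comap_of_surjective _ (QuotientGroup.mk'_surjective _)
    by_cases hV : U.comap (QuotientGroup.mk' K) = ⊤
    · refine caseB K inferInstance hKtop fun r hr hrd => hU1 r hr ?_
      have hUtop : U = ⊤ := Subgroup.comap_injective (QuotientGroup.mk'_surjective _) (by rw [hV, Subgroup.comap_top])
      rwa [hUtop, Subgroup.card_top]
    · exact useSub _ hV fun r hr hrd => hU2 r hr (hidx ▸ hrd)
  have hχf : ∀ g, σ.character g = σ.character 1 → g = 1 := fun g hg =>
    hfaith g ((eq_id_iff σ g).1 (by rw [hg, Representation.char_one]))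
  -- a central element of large prime order gives a normal subgroup
  by_cases hcen : ∃ (r : ℕ) (z : G), r.Prime ∧ n + 1 < r ∧ orderOf z = r ∧ z ∈ Subgroup.center G
  · obtain ⟨r, z, hr, hrn, hz, hzc⟩ := hcen
    haveI := hσ
    obtain ⟨c, hc⟩ := schur_scalar σ (σ z) fun k => by
      show σ z * σ k = σ k * σ z
      rw [← map_mul, ← map_mul, Subgroup.mem_center_iff.1 hzc k]
    have hd0 : 0 < d := by
      rcases Nat.eq_zero_or_pos d with rfl | h
      · exact absurd (by simp [Representation.character, Subsingleton.elim (σ x) (σ 1)]) hψx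
      · exact h
    have hcd : c ^ d ≠ 1 := by
      intro h1
      have hcr : c ^ r = 1 := by
        have h2 : σ (z ^ r) = 1 := by rw [← hz, pow_orderOf_eq_one, map_one]
        rw [map_pow, hc, show (c • LinearMap.id : Module.End ℂ (Fin d → ℂ)) = c • 1 from rfl, smul_pow,
          one_pow] at h2
        have h3 := congrFun (LinearMap.congr_fun h2 (fun _ => 1)) ⟨0, hd0⟩
        simpa using h3
      have hc1 : c = 1 := by
        have hco : Nat.gcd d r = 1 := Nat.Coprime.symm (hr.coprime_iff_not_dvd.2 fun h => by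
          have := Nat.le_of_dvd hd0 h; omega)
        have := pow_gcd_eq_one.2 ⟨h1, hcr⟩
        rwa [hco, pow_one] at this
      have : z = 1 := hfaith z (by rw [hc, hc1, one_smul]; rfl)
      rw [this, orderOf_one] at hz
      exact hr.ne_one hz.symm
    set v := (Nat.card G).factorization r
    set t := Nat.card G / r ^ v with ht
    let f : G →* ℂˣ := (powMonoidHom t).comp (detHom σ)
    refine caseB f.ker inferInstance (fun e => ?_) fun s hs hsd => ?_
    · have h1 : f z = 1 := (e ▸ Subgroup.mem_top z : z ∈ f.ker)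
      have h2 : (detHom σ z : ℂ) = c ^ d := by
        rw [detHom_apply, hc, LinearMap.det_smul, LinearMap.det_id, mul_one, Module.finrank_fintype_fun_eq_card,
          Fintype.card_fin]
      have h3 : (c ^ d) ^ t = 1 := by
        rw [← h2, ← Units.val_pow_eq_pow_val, show detHom σ z ^ t = 1 from h1, Units.val_one]
      have h4 : (c ^ d) ^ r = 1 := by
        rw [← h2, ← Units.val_pow_eq_pow_val, ← map_pow, ← hz, pow_orderOf_eq_one, map_one, Units.val_one]
      refine hcd ?_
      have hco : Nat.gcd t r = 1 := Nat.Coprime.symm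
        (hr.coprime_iff_not_dvd.2 (Nat.not_dvd_ordCompl hr Nat.card_pos.ne'))
      have := pow_gcd_eq_one.2 ⟨h3, h4⟩
      rwa [hco, pow_one] at this
    · haveI : Fact r.Prime := ⟨hr⟩
      have hpg : IsPGroup r f.range := by
        rintro ⟨_, g, rfl⟩
        refine ⟨v, Subtype.ext ?_⟩
        show (f g) ^ r ^ v = 1
        show ((detHom σ g) ^ t) ^ r ^ v = 1
        rw [← pow_mul, mul_comm, Nat.ordProj_mul_ordCompl_eq_self, ← map_pow, pow_card_eq_one', map_one]
      obtain ⟨i, hi⟩ := IsPGroup.iff_card.1 hpg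
      rw [Subgroup.index_ker, hi] at hsd
      rw [(Nat.prime_dvd_prime_iff_eq hs hr).1 (hs.dvd_of_dvd_pow hsd)]
      exact hrn
  push Not at hcen
  have hproper : ∀ (r : ℕ) (y : G), r.Prime → n + 1 < r → orderOf y = r →
      Subgroup.centralizer ({y} : Set G) ≠ ⊤ := fun r y hr hrn hy e =>
    hcen r y hr hrn hy (Subgroup.mem_center_iff.2 fun g =>
      (Subgroup.mem_centralizer_singleton_iff.1 (e ▸ Subgroup.mem_top g : g ∈ Subgroup.centralizer ({y} : Set G))))
  refine useSub _ (hproper p x hp hpn hx) fun q hq hqd => ?_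
  by_contra hqn
  haveI : Fact q.Prime := ⟨hq⟩
  rcases eq_or_ne q p with rfl | -
  · exact centralizer_index ρ hinj (by omega) hx hqd
  have hqG : q ∣ Nat.card G := hqd.trans (Subgroup.index_dvd_card _)
  have hd' : deg σ.character = d := by simp [deg, Representation.char_one]
  obtain ⟨a, b, ha, hb, hab⟩ := exists_commuting (isIrrCharacter_character σ hσ) hχf hp hq hpG hqG
    (by omega) (by omega)
  -- an element of order q whose centralizer contains full Sylow p- and q-subgroups
  obtain ⟨V, -, hVab, -, hVidx, hVdvd⟩ := hsub _ (hproper p a hp hpn ha)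
  have hVp : ¬ p ∣ V.index := hVidx p hp hpn (centralizer_index ρ hinj (by omega) ha)
  have hqV : q ∣ Nat.card V := hVdvd q hq (by omega) (by
    rw [← hb]
    exact Subgroup.orderOf_dvd_natCard _ (Subgroup.mem_centralizer_singleton_iff.2 hab.symm.eq))
  obtain ⟨y, hy⟩ := exists_prime_orderOf_dvd_card' q hqV
  rw [← Subgroup.orderOf_coe] at hy
  have hVy : V ≤ Subgroup.centralizer ({(y : G)} : Set G) := fun v hv =>
    Subgroup.mem_centralizer_singleton_iff.2 (hVab v hv y y.2)
  obtain ⟨W, -, hWab, -, hWidx, -⟩ := hsub _ (hproper q y hq (by omega) hy)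
  have hWp : ¬ p ∣ W.index := hWidx p hp hpn fun h => hVp (h.trans (Subgroup.index_dvd_of_le hVy))
  have hWq : ¬ q ∣ W.index := hWidx q hq (by omega) (centralizer_index ρ hinj (by omega) hy)
  obtain ⟨g, hg⟩ := exists_conj_mem hWp hx
  refine hWq (hqd.trans (index_dvd_of_conj_le g⁻¹ fun a ha => ?_))
  rw [Subgroup.mem_centralizer_singleton_iff]
  calc g⁻¹ * a * g⁻¹⁻¹ * x = g⁻¹ * (a * (g * x * g⁻¹)) * g := by group
    _ = g⁻¹ * (g * x * g⁻¹ * a) * g := by rw [hWab a ha _ hg]
    _ = x * (g⁻¹ * a * g⁻¹⁻¹) := by group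

end Cfsg.Agent.Char.Blichfeldt
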