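import Cfsg.Agent.Lib.Char.Defect

/-!
# Counting blocks of given defect
-/

set_option autoImplicit false
set_option linter.style.haveILetI false

namespace Cfsg.Agent.Char

open Cfsg Module
open scoped ComplexConjugate

universe u v w

variable {G : Type u} [Group G] [Fintype G] {M : Ideal AlgInt} {p : ℕ}

/-- A class of `p`-regular elements of defect `σ`. -/
def IsDefClass (p σ : ℕ) (C : ConjClasses G) : Prop :=
  ¬ p ∣ orderOf C.out ∧
    (Nat.card (Subgroup.centralizer ({C.out} : Set G))).factorization p = σ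

open scoped Classical in
theorem sum_defClass_congr (hM : IsPModular p M) [Fintype (ConjClasses G)] {σ : ℕ}
    {B B' : Set (IrrCharacter G)} (hB : IsPBlock M B) (hσ : blockDefect p B = σ)
    (hB' : IsPBlock M B') (hσ' : blockDefect p B' = σ) {χ : IrrCharacter G} (hχ : χ ∈ B') :
    MemLocalIdeal M ((∑ C ∈ Finset.univ.filter (fun C : ConjClasses G => IsDefClass p σ C),
      blockCoeff B C.out * omega (χ : G → ℂ) C.out) - if χ ∈ B then 1 else 0) := by
  have hP := pmod_prime hM
  rw [← lam_blockCoeff B χ, lam_eq_sum_omega (isClassFunction_character (irr_isCharacter χ.2))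
    (isClassFunction_blockCoeff B)]
  set F := fun C : ConjClasses G => blockCoeff B C.out * omega (χ : G → ℂ) C.out with hF
  rw [← Finset.sum_filter_add_sum_filter_not Finset.univ
    (fun C : ConjClasses G => IsDefClass p σ C) F]
  rw [sub_add_cancel_left]
  refine memLI_neg hP (memLI_sum hP _ _ fun C hC => ?_)
  have hC := (Finset.mem_filter.mp hC).2
  by_contra hn
  have hb : ¬ MemLocalIdeal M (blockCoeff B C.out) := fun h =>
    hn (memLI_mul_right hP h (memLR_omega hP χ.2 _))
  have hw : ¬ MemLocalIdeal M (omega (χ : G → ℂ) C.out) := fun h =>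
    hn (memLI_mul_left hP (memLR_blockCoeff hM hB _) h)
  obtain ⟨g, hg⟩ := exists_defectClass hM hB
  obtain ⟨D, hD⟩ := exists_isSylCent p g
  obtain ⟨g', hg'⟩ := exists_defectClass hM hB'
  obtain ⟨D', hD'⟩ := exists_isSylCent p g'
  obtain ⟨Q, hQ⟩ := exists_isSylCent p C.out
  refine hC ⟨fun hd => hb ?_, ?_⟩
  · rw [blockCoeff, weak_orthogonality hM hB (by simp [hM.1.ne_one]) hd, mul_zero]
    exact memLI_zero hP
  obtain ⟨t, ht⟩ := le_defect_of_detect hM hB hg hD hQ.isPGroup hQ.self_mem_centralizer hb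
  obtain ⟨x, hx⟩ := defect_le_of_omega hM hB' hg' hD' hχ hw hQ
  have h1 := Subgroup.card_le_of_le ht
  have h2 := Subgroup.card_le_of_le hx
  rw [Subgroup.card_map_of_injective (MulEquiv.injective _)] at h1 h2
  rw [hQ.card hM.1, hD.card hM.1, factorization_centralizer_defectClass hM hB hg, hσ] at h1
  rw [hQ.card hM.1, hD'.card hM.1, factorization_centralizer_defectClass hM hB' hg', hσ'] at h2
  exact le_antisymm ((Nat.pow_le_pow_iff_right hM.1.one_lt).mp h1)
    ((Nat.pow_le_pow_iff_right hM.1.one_lt).mp h2)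

/-- A left inverse modulo the local ideal bounds the number of rows. -/
theorem card_le_of_congr_one (hP : M.IsPrime) {ι : Type v} {κ : Type w} [Fintype ι] [Fintype κ]
    [DecidableEq ι] (A : ι → κ → ℂ) (Ω : κ → ι → ℂ) (hA : ∀ i c, MemLocalRing M (A i c))
    (hΩ : ∀ c i, MemLocalRing M (Ω c i))
    (h : ∀ i j, MemLocalIdeal M ((∑ c, A i c * Ω c j) - if i = j then 1 else 0)) :
    Fintype.card ι ≤ Fintype.card κ := by
  let I : Ideal (locRing hP) :=
    { carrier := {x | MemLocalIdeal M (x : ℂ)}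
      add_mem' := fun ha hb => memLI_add hP ha hb
      zero_mem' := memLI_zero hP
      smul_mem' := fun c x hx => memLI_mul_left hP c.2 hx }
  have hI : I ≠ ⊤ := fun h1 => memLI_one_iff hP ((Ideal.eq_top_iff_one I).mp h1 : (1 : locRing hP) ∈ I)
  haveI : Nontrivial (locRing hP ⧸ I) := Ideal.Quotient.nontrivial_iff.mpr hI
  let A' : Matrix ι κ (locRing hP ⧸ I) :=
    Matrix.of fun i c => Ideal.Quotient.mk I ⟨A i c, hA i c⟩
  let Ω' : Matrix κ ι (locRing hP ⧸ I) :=
    Matrix.of fun c i => Ideal.Quotient.mk I ⟨Ω c i, hΩ c i⟩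
  have h1 : A' * Ω' = 1 := by
    ext i j
    rw [Matrix.mul_apply, Matrix.one_apply]
    show ∑ c, Ideal.Quotient.mk I ⟨A i c, hA i c⟩ * Ideal.Quotient.mk I ⟨Ω c j, hΩ c j⟩ = _
    simp only [← map_mul, ← map_sum]
    split_ifs with hij
    · rw [← map_one (Ideal.Quotient.mk I), Ideal.Quotient.mk_eq_mk_iff_sub_mem]
      show MemLocalIdeal M _
      simpa [hij] using h i j
    · rw [Ideal.Quotient.eq_zero_iff_mem]
      show MemLocalIdeal M _
      simpa [hij] using h i j
  have h2 := (Matrix.rank_mul_le_left A' Ω').trans A'.rank_le_card_width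
  rwa [h1, Matrix.rank_one] at h2

open scoped Classical in
theorem card_blocks_le (hM : IsPModular p M) (σ : ℕ) :
    Nat.card {B : Set (IrrCharacter G) // IsPBlock M B ∧ blockDefect p B = σ} ≤
      Nat.card {C : ConjClasses G // IsDefClass p σ C} := by
  have hP := pmod_prime hM
  haveI := Fintype.ofFinite (ConjClasses G)
  rw [Nat.card_eq_fintype_card, Nat.card_eq_fintype_card]
  choose χ hχ using fun i : {B : Set (IrrCharacter G) // IsPBlock M B ∧ blockDefect p B = σ} =>
    block_nonempty hP i.2.1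
  refine card_le_of_congr_one hP (fun i c => blockCoeff i.1 c.1.out)
    (fun c j => omega (χ j : G → ℂ) c.1.out) (fun i _ => memLR_blockCoeff hM i.2.1 _)
    (fun _ j => memLR_omega hP (χ j).2 _) fun i j => ?_
  rw [← Finset.sum_subtype
    (Finset.univ.filter fun C : ConjClasses G => IsDefClass p σ C) (fun C => by simp)
    (fun C => blockCoeff i.1 C.out * omega (χ j : G → ℂ) C.out)]
  have hiff : (χ j ∈ i.1) ↔ i = j :=
    ⟨fun h => Subtype.ext (block_disjoint hP i.2.1 j.2.1 h (hχ j)), fun h => h ▸ hχ j⟩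
  have h := sum_defClass_congr hM i.2.1 i.2.2 j.2.1 j.2.2 (hχ j)
  by_cases hij : i = j
  · rw [if_pos (hiff.mpr hij)] at h; rw [if_pos hij]; exact h
  · rw [if_neg fun h' => hij (hiff.mp h')] at h; rw [if_neg hij]; exact h

/-- Blocks of defect at least `d` inject into regular classes of defect at least `d`. -/
theorem card_blocks_ge_le (hM : IsPModular p M) (d : ℕ) :
    Nat.card {B : Set (IrrCharacter G) // IsPBlock M B ∧ d ≤ blockDefect p B} ≤
      Nat.card {C : ConjClasses G // ¬ p ∣ orderOf C.out ∧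
        d ≤ (Nat.card (Subgroup.centralizer ({C.out} : Set G))).factorization p} := by
  classical
  have emb : ∀ σ, Nonempty ({B : Set (IrrCharacter G) // IsPBlock M B ∧ blockDefect p B = σ} ↪
      {C : ConjClasses G // IsDefClass p σ C}) := fun σ => by
    haveI := Fintype.ofFinite {B : Set (IrrCharacter G) // IsPBlock M B ∧ blockDefect p B = σ}
    haveI := Fintype.ofFinite {C : ConjClasses G // IsDefClass p σ C}
    refine Function.Embedding.nonempty_of_card_le ?_
    simpa [Nat.card_eq_fintype_card] using card_blocks_le (G := G) hM σ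
  let f := fun σ => (emb σ).some
  refine Nat.card_le_card_of_injective
    (fun B => ⟨(f _ ⟨B.1, B.2.1, rfl⟩).1, (f _ ⟨B.1, B.2.1, rfl⟩).2.1,
      B.2.2.trans (f _ ⟨B.1, B.2.1, rfl⟩).2.2.ge⟩) fun B B' h => ?_
  have h' : (f _ ⟨B.1, B.2.1, rfl⟩).1 = (f _ ⟨B'.1, B'.2.1, rfl⟩).1 := congrArg Subtype.val h
  have hσ : blockDefect p B.1 = blockDefect p B'.1 := by
    rw [← (f _ ⟨B.1, B.2.1, rfl⟩).2.2, ← (f _ ⟨B'.1, B'.2.1, rfl⟩).2.2, h']
  have aux : ∀ {σ σ' : ℕ} (e : σ = σ') (x : {B : Set (IrrCharacter G) // IsPBlock M B ∧ blockDefect p B = σ})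
      (y : {B : Set (IrrCharacter G) // IsPBlock M B ∧ blockDefect p B = σ'}),
      (f σ x).1 = (f σ' y).1 → x.1 = y.1 := by
    intro σ σ' e x y h
    subst e
    exact congrArg Subtype.val ((f σ).injective (Subtype.ext h))
  exact Subtype.ext (aux hσ _ _ h')

/-- Blocks of equal defect are separated by the classes of that defect. -/
theorem sameBlock_of_defClass (hM : IsPModular p M) {σ : ℕ} {χ ψ : IrrCharacter G}
    (hχ : blockDefect p (blockOf M (χ : G → ℂ)) = σ)
    (hψ : blockDefect p (blockOf M (ψ : G → ℂ)) = σ)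
    (h : ∀ C : ConjClasses G, IsDefClass p σ C →
      MemLocalIdeal M (omega (χ : G → ℂ) C.out - omega (ψ : G → ℂ) C.out)) :
    SameBlock M (χ : G → ℂ) (ψ : G → ℂ) := by
  classical
  haveI := Fintype.ofFinite (ConjClasses G)
  have hP := pmod_prime hM
  have h1 := sum_defClass_congr hM (isPBlock_blockOf M χ) hχ (isPBlock_blockOf M χ) hχ
    (self_mem_blockOf hP χ)
  have h2 := sum_defClass_congr hM (isPBlock_blockOf M χ) hχ (isPBlock_blockOf M ψ) hψ
    (self_mem_blockOf hP ψ)
  rw [if_pos (self_mem_blockOf hP χ)] at h1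
  by_contra hn
  rw [if_neg (show ψ ∉ blockOf M (χ : G → ℂ) from hn), sub_zero] at h2
  refine memLI_one_iff hP ?_
  have h3 : MemLocalIdeal M
      ((∑ C ∈ Finset.univ.filter (fun C : ConjClasses G => IsDefClass p σ C),
        blockCoeff (blockOf M (χ : G → ℂ)) C.out * omega (χ : G → ℂ) C.out) -
      ∑ C ∈ Finset.univ.filter (fun C : ConjClasses G => IsDefClass p σ C),
        blockCoeff (blockOf M (χ : G → ℂ)) C.out * omega (ψ : G → ℂ) C.out) := by
    rw [← Finset.sum_sub_distrib]
    refine memLI_sum hP _ _ fun C hC => ?_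
    rw [← mul_sub]
    exact memLI_mul_left hP (memLR_blockCoeff hM (isPBlock_blockOf M χ) _)
      (h C (Finset.mem_filter.mp hC).2)
  have h4 := memLI_congr hP h3 h2
  simpa using memLI_sub hP h4 h1

end Cfsg.Agent.Char
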