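import Cfsg.Agent.Lib.Char.FirstMain

/-!
# Brauer induction and the first main theorem
-/

set_option autoImplicit false

namespace Cfsg.Agent.Char

open Cfsg Module
open scoped ComplexConjugate

universe u

variable {G : Type u} [Group G] [Fintype G] {M : Ideal AlgInt} {p : ℕ}

theorem induced_of_pairOf (hM : IsPModular p M) {H : Subgroup G} [Fintype H] {P0 : Subgroup H}
    {e0 : Set (IrrCharacter (Subgroup.centralizer (P0 : Set H)))}
    (hC : Subgroup.centralizer ((P0.map H.subtype : Subgroup G) : Set G) ≤ H)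
    (hHN : H ≤ Subgroup.normalizer ((P0.map H.subtype : Subgroup G) : Set G))
    {c : Set (IrrCharacter H)} {B : Set (IrrCharacter G)} (hc : IsBrauerPairOf p M c P0 e0)
    (hB : IsBrauerPairOf p M B (P0.map H.subtype) (liftBlock P0 e0)) :
    IsInducedBlock M H c B := by
  obtain ⟨B', hind⟩ := inducedBlockDefined_of_local hM (hc.1.1.map H.subtype)
    (Subgroup.map_subtype_le _) hC hHN hc.2.1
  obtain rfl : B = B' := pairOf_unique hM hB (pairOf_of_induced hM hind hC hc)
  exact hind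

theorem exists_pre_pairOf (hM : IsPModular p M) {H : Subgroup G} [Fintype H] {P0 : Subgroup H}
    (hC : Subgroup.centralizer ((P0.map H.subtype : Subgroup G) : Set G) ≤ H)
    {e : Set (IrrCharacter (Subgroup.centralizer ((P0.map H.subtype : Subgroup G) : Set G)))}
    (he : IsBrauerPair p M (P0.map H.subtype) e) :
    ∃ (e0 : Set (IrrCharacter (Subgroup.centralizer (P0 : Set H)))) (c : Set (IrrCharacter H)),
      IsBrauerPairOf p M c P0 e0 ∧ liftBlock P0 e0 = e := by
  obtain ⟨e0, he0, rfl⟩ := exists_preimage P0 hC he.2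
  have hp : IsPGroup p P0 :=
    he.1.of_equiv (P0.equivMapOfInjective _ (Subgroup.subtype_injective H)).symm
  obtain ⟨c, hc⟩ := exists_pairOf hM (P := P0) (e := e0) ⟨hp, he0⟩
  exact ⟨e0, c, hc, rfl⟩

/-- The correspondence given by maximal pairs, from `G` down to `H`. -/
theorem correspond_down (hM : IsPModular p M) {H : Subgroup G} [Fintype H] {P0 : Subgroup H}
    (hN : Subgroup.normalizer ((P0.map H.subtype : Subgroup G) : Set G) ≤ H)
    {B : Set (IrrCharacter G)} (hB : IsPBlock M B)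
    (hD : IsDefectGroup p M B (P0.map H.subtype)) :
    ∃ (e0 : Set (IrrCharacter (Subgroup.centralizer (P0 : Set H)))) (c : Set (IrrCharacter H)),
      IsMaximalBrauerPair p M c P0 e0 ∧
        IsMaximalBrauerPair p M B (P0.map H.subtype) (liftBlock P0 e0) := by
  obtain ⟨e, he⟩ := exists_pair_of_le_defect hM hB hD le_rfl
  obtain ⟨e0, c, hc, rfl⟩ := exists_pre_pairOf hM ((centralizer_le_norm _).trans hN) he.1
  have hmax := maximal_of_defect hM hD he
  exact ⟨e0, c, (maximal_lift_iff hM hN hc he).mpr hmax, hmax⟩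

/-- The correspondence given by maximal pairs, from `H` up to `G`. -/
theorem correspond_up (hM : IsPModular p M) {H : Subgroup G} [Fintype H] {P0 : Subgroup H}
    (hN : Subgroup.normalizer ((P0.map H.subtype : Subgroup G) : Set G) ≤ H)
    {c : Set (IrrCharacter H)} (hc : IsPBlock M c) (hD : IsDefectGroup p M c P0) :
    ∃ (e0 : Set (IrrCharacter (Subgroup.centralizer (P0 : Set H)))) (B : Set (IrrCharacter G)),
      IsMaximalBrauerPair p M c P0 e0 ∧
        IsMaximalBrauerPair p M B (P0.map H.subtype) (liftBlock P0 e0) := by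
  obtain ⟨e0, he0⟩ := exists_pair_of_le_defect hM hc hD le_rfl
  obtain ⟨B, hB⟩ := exists_pairOf hM (P := P0.map H.subtype) (e := liftBlock P0 e0)
    ⟨he0.1.1.map _, isPBlock_liftBlock P0 ((centralizer_le_norm _).trans hN) he0.1.2⟩
  have hmax := maximal_of_defect hM hD he0
  exact ⟨e0, B, hmax, (maximal_lift_iff hM hN he0 hB).mp hmax⟩

theorem brauer_correspondence (hM : IsPModular p M) {H : Subgroup G} [Fintype H] (P0 : Subgroup H)
    (hN : Subgroup.normalizer ((P0.map H.subtype : Subgroup G) : Set G) ≤ H) :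
    (∀ B : Set (IrrCharacter G), IsPBlock M B → IsDefectGroup p M B (P0.map H.subtype) →
      ∃! c : Set (IrrCharacter H), IsPBlock M c ∧ IsDefectGroup p M c P0 ∧
        ∀ x : G, x ∈ Subgroup.centralizer ((P0.map H.subtype : Subgroup G) : Set G) →
          MemLocalIdeal M (blockCoeff B x - subgroupBlockCoeff H c x)) ∧
    (∀ c : Set (IrrCharacter H), IsPBlock M c → IsDefectGroup p M c P0 →
      ∃! B : Set (IrrCharacter G), IsPBlock M B ∧ IsDefectGroup p M B (P0.map H.subtype) ∧
        ∀ x : G, x ∈ Subgroup.centralizer ((P0.map H.subtype : Subgroup G) : Set G) →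
          MemLocalIdeal M (blockCoeff B x - subgroupBlockCoeff H c x)) := by
  have hC := (centralizer_le_norm (P0.map H.subtype)).trans hN
  constructor
  · intro B hB hD
    obtain ⟨e0, c, hc, hBm⟩ := correspond_down hM hN hB hD
    refine ⟨c, ⟨hc.1.2.1, maximal_pair_defect hM hc, brauer_congr_of_maximal hM hN hc hBm⟩, ?_⟩
    rintro c' ⟨hc', -, hcg⟩
    exact pairOf_unique hM (pairOf_sub_of_congr hM hC hc' hBm.1 hc.1.1.2 hc.1.1.1 hcg) hc.1
  · intro c hc hD
    obtain ⟨e0, B, hcm, hBm⟩ := correspond_up hM hN hc hD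
    refine ⟨B, ⟨hBm.1.2.1, maximal_pair_defect hM hBm, brauer_congr_of_maximal hM hN hcm hBm⟩, ?_⟩
    rintro B' ⟨hB', -, hcg⟩
    exact pairOf_unique hM (pairOf_lift_of_congr hM hC hB' hcm.1 hcg) hBm.1

theorem first_main (hM : IsPModular p M) {H : Subgroup G} [Fintype H] (P0 : Subgroup H)
    (hH : H = Subgroup.normalizer ((P0.map H.subtype : Subgroup G) : Set G)) :
    (∀ b : Set (IrrCharacter H), IsPBlock M b → IsDefectGroup p M b P0 →
      ∃ B : Set (IrrCharacter G), IsPBlock M B ∧ IsDefectGroup p M B (P0.map H.subtype) ∧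
        IsInducedBlock M H b B) ∧
    (∀ B : Set (IrrCharacter G), IsPBlock M B → IsDefectGroup p M B (P0.map H.subtype) →
      ∃! b : Set (IrrCharacter H), IsPBlock M b ∧ IsDefectGroup p M b P0 ∧ IsInducedBlock M H b B) := by
  have hN : Subgroup.normalizer ((P0.map H.subtype : Subgroup G) : Set G) ≤ H := hH.ge
  have hC := (centralizer_le_norm (P0.map H.subtype)).trans hN
  constructor
  · intro b hb hD
    obtain ⟨e0, B, hcm, hBm⟩ := correspond_up hM hN hb hD
    exact ⟨B, hBm.1.2.1, maximal_pair_defect hM hBm, induced_of_pairOf hM hC hH.le hcm.1 hBm.1⟩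
  · intro B hB hD
    obtain ⟨e0, c, hc, hBm⟩ := correspond_down hM hN hB hD
    refine ⟨c, ⟨hc.1.2.1, maximal_pair_defect hM hc, induced_of_pairOf hM hC hH.le hc.1 hBm.1⟩, ?_⟩
    rintro b ⟨hb, hbD, hind⟩
    obtain ⟨e0', B', hb', hB'⟩ := correspond_up hM hN hb hbD
    obtain rfl : B = B' := pairOf_unique hM (pairOf_of_induced hM hind hC hb'.1) hB'.1
    exact pairOf_unique hM (pairOf_sub_of_congr hM hC hb hBm.1 hc.1.1.2 hc.1.1.1
      (brauer_congr_of_maximal hM hN hb' hB')) hc.1

theorem exists_induced_iff (hM : IsPModular p M) {H : Subgroup G} [Fintype H] {P : Subgroup G}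
    (hP : IsPGroup p P) (hPH : P ≤ H) (hCH : Subgroup.centralizer (P : Set G) ≤ H)
    (hHN : H ≤ Subgroup.normalizer (P : Set G)) {B : Set (IrrCharacter G)} (hB : IsPBlock M B) :
    (∃ b : Set (IrrCharacter H), IsInducedBlock M H b B) ↔
      ∃ D : Subgroup G, IsDefectGroup p M B D ∧ ∃ x : G, P.map (MulAut.conj x).toMonoidHom ≤ D := by
  constructor
  · rintro ⟨b, hind⟩
    obtain ⟨Db, hDb⟩ := exists_isDefectGroup hM hind.1
    haveI : (P.subgroupOf H).Normal := (Subgroup.normal_subgroupOf_iff_le_normalizer hPH).mpr hHN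
    have h1 := pCore_le_defectGroup hM hind.1 hDb (P.subgroupOf H)
      (hP.of_equiv (Subgroup.subgroupOfEquivOfLe hPH).symm)
    obtain ⟨E, hE, hle⟩ := induced_defect_le hM hind hDb
    refine ⟨E, hE, 1, ?_⟩
    rintro _ ⟨y, hy, rfl⟩
    refine hle ⟨⟨y, hPH hy⟩, h1 hy, ?_⟩
    simp
  · rintro ⟨D, hD, x, hx⟩
    have hle : P ≤ D.map (MulAut.conj x⁻¹).toMonoidHom := fun y hy =>
      ⟨x * y * x⁻¹, hx ⟨y, hy, rfl⟩, by simp [mul_assoc]⟩
    obtain ⟨e, he⟩ := exists_pair_of_le_defect hM hB (isDefectGroup_conj hM hD x⁻¹) hle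
    obtain ⟨P0, rfl⟩ : ∃ P0 : Subgroup H, P0.map H.subtype = P :=
      ⟨P.subgroupOf H, Subgroup.map_subgroupOf_eq_of_le hPH⟩
    obtain ⟨e0, c, hc, rfl⟩ := exists_pre_pairOf hM hCH he.1
    exact ⟨c, induced_of_pairOf hM hCH hHN hc he⟩

end Cfsg.Agent.Char
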