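import Cfsg.Agent.Lib.Char.Inflate
import Cfsg.Agent.Lib.Char.DefectLocal
import Cfsg.Agent.Lib.Char.Osima
import Cfsg.Agent.Lib.Char.KerPPrime
import Cfsg.Agent.Lib.Char.NormalP

/-!
# Blocks of quotients
-/

set_option autoImplicit false

namespace Cfsg.Agent.Char

open Cfsg Module
open scoped ComplexConjugate Classical

universe u

variable {G : Type u} [Group G] [Fintype G] {M : Ideal AlgInt} {p : ℕ}

/-- Blocks are determined on regular classes. -/
theorem sameBlock_of_regular_omega (hM : IsPModular p M) {χ ψ : IrrCharacter G}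
    (h : ∀ g : G, ¬ p ∣ orderOf g →
      MemLocalIdeal M (omega (χ : G → ℂ) g - omega (ψ : G → ℂ) g)) :
    SameBlock M (χ : G → ℂ) (ψ : G → ℂ) := by
  have hP := pmod_prime hM
  have hC := isPBlock_blockOf M χ
  have hI := isIntClassFun_blockCoeff hM hC
  have := Fintype.ofFinite (ConjClasses G)
  have hcongr : MemLocalIdeal M (lam (χ : G → ℂ) (blockCoeff (blockOf M (χ : G → ℂ))) -
      lam (ψ : G → ℂ) (blockCoeff (blockOf M (χ : G → ℂ)))) := by
    rw [lam_eq_sum_omega (isClassFunction_character (irr_isCharacter χ.2)) hI.1,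
      lam_eq_sum_omega (isClassFunction_character (irr_isCharacter ψ.2)) hI.1,
      ← Finset.sum_sub_distrib]
    refine memLI_sum hP _ _ fun C _ => ?_
    rw [← mul_sub]
    by_cases hr : p ∣ orderOf C.out
    · rw [blockCoeff, weak_orthogonality hM hC (by simp [hM.1.ne_one]) hr, mul_zero, zero_mul]
      exact memLI_zero hP
    · exact memLI_mul_left hP (hI.2 _) (h _ hr)
  rw [lam_blockCoeff, lam_blockCoeff, if_pos (self_mem_blockOf hP χ)] at hcongr
  by_contra hn
  rw [if_neg (show ψ ∉ blockOf M (χ : G → ℂ) from hn), sub_zero] at hcongr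
  exact memLI_one_iff hP hcongr

/-- A `p`-subgroup of index prime to `p` in a centralizer. -/
theorem isSylCent_of_relIndex (hp : p.Prime) {g : G} {D : Subgroup G}
    (hle : D ≤ Subgroup.centralizer ({g} : Set G)) (hD : IsPGroup p D)
    (hrel : ¬ p ∣ D.relIndex (Subgroup.centralizer ({g} : Set G))) : IsSylCent p g D := by
  haveI := Fact.mk hp
  set C := Subgroup.centralizer ({g} : Set G) with hC
  have h1 : Nat.card D * D.relIndex C = Nat.card C := by
    rw [← Subgroup.relIndex_bot_left D, Subgroup.relIndex_mul_relIndex _ _ _ bot_le hle,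
      Subgroup.relIndex_bot_left]
  obtain ⟨j, hj⟩ := IsPGroup.iff_card.mp hD
  have hr0 : D.relIndex C ≠ 0 := fun h => hrel (h ▸ dvd_zero p)
  have hcard : Nat.card (D.subgroupOf C) = p ^ (Nat.card C).factorization p := by
    rw [Nat.card_congr (Subgroup.subgroupOfEquivOfLe hle).toEquiv, ← h1, hj,
      Nat.factorization_mul (pow_ne_zero _ hp.ne_zero) hr0, Finsupp.add_apply,
      Nat.factorization_pow_self hp, Nat.factorization_eq_zero_of_not_dvd hrel, add_zero]
  exact ⟨Sylow.ofCard _ hcard, by rw [Sylow.coe_ofCard, Subgroup.map_subgroupOf_eq_of_le hle]⟩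

theorem IsSylCent.not_dvd_relIndex (hp : p.Prime) {g : G} {D : Subgroup G} (h : IsSylCent p g D) :
    ¬ p ∣ D.relIndex (Subgroup.centralizer ({g} : Set G)) := by
  intro hd
  set C := Subgroup.centralizer ({g} : Set G) with hC
  have h1 : Nat.card D * D.relIndex C = Nat.card C := by
    rw [← Subgroup.relIndex_bot_left D, Subgroup.relIndex_mul_relIndex _ _ _ bot_le h.le,
      Subgroup.relIndex_bot_left]
  refine Nat.pow_succ_factorization_not_dvd (Nat.card_pos (α := C)).ne' hp ?_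
  rw [pow_succ]
  conv_rhs => rw [← h1, h.card hp]
  exact Nat.mul_dvd_mul_left _ hd

variable (N : Subgroup G) [hN : N.Normal]

/-- Inflation. -/
noncomputable def inflChar (χ : IrrCharacter (G ⧸ N)) : IrrCharacter G :=
  ⟨fun g => (χ : G ⧸ N → ℂ) (QuotientGroup.mk g), isIrr_inflate N χ.2⟩

/-- The ratio of the class sizes of an element and of its image. -/
noncomputable def clsRatio (g : G) : ℕ :=
  (Subgroup.centralizer ({g} : Set G)).relIndex
    ((Subgroup.centralizer ({(QuotientGroup.mk g : G ⧸ N)} : Set (G ⧸ N))).comap (QuotientGroup.mk' N))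

variable {N}

theorem centralizer_le_comap (g : G) : Subgroup.centralizer ({g} : Set G) ≤
    (Subgroup.centralizer ({(QuotientGroup.mk g : G ⧸ N)} : Set (G ⧸ N))).comap
      (QuotientGroup.mk' N) := fun x hx => by
  rw [Subgroup.mem_comap, Subgroup.mem_centralizer_singleton_iff]
  exact congrArg (QuotientGroup.mk' N) (Subgroup.mem_centralizer_singleton_iff.mp hx)

theorem omega_inflate (χ : IrrCharacter (G ⧸ N)) (g : G) :
    omega (inflChar N χ : G → ℂ) g = (clsRatio N g : ℂ) * omega (χ : G ⧸ N → ℂ) (g : G ⧸ N) := by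
  have h1 : (Subgroup.centralizer ({g} : Set G)).index = clsRatio N g *
      (Subgroup.centralizer ({(g : G ⧸ N)} : Set (G ⧸ N))).index := by
    rw [clsRatio, ← Subgroup.index_comap_of_surjective
      (H := Subgroup.centralizer ({(g : G ⧸ N)} : Set (G ⧸ N))) (QuotientGroup.mk'_surjective N),
      Subgroup.relIndex_mul_index (centralizer_le_comap g)]
  rw [omega_eq_centralChar, omega_eq_centralChar, centralChar, centralChar, h1, Nat.cast_mul]
  show _ * (χ : G ⧸ N → ℂ) (g : G ⧸ N) / (χ : G ⧸ N → ℂ) ((1 : G) : G ⧸ N) = _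
  rw [QuotientGroup.mk_one]
  ring

theorem sameBlock_inflate (hM : M.IsPrime) {χ ψ : IrrCharacter (G ⧸ N)}
    (h : SameBlock M (χ : G ⧸ N → ℂ) (ψ : G ⧸ N → ℂ)) :
    SameBlock M (inflChar N χ : G → ℂ) (inflChar N ψ : G → ℂ) := fun g => by
  rw [← omega_eq_centralChar, ← omega_eq_centralChar, omega_inflate, omega_inflate, ← mul_sub,
    omega_eq_centralChar, omega_eq_centralChar]
  exact memLI_mul_left hM (memLR_natCast hM _) (h _)

theorem exists_regular_lift (hp : p.Prime) {q : G ⧸ N} (hq : ¬ p ∣ orderOf q) :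
    ∃ g : G, ¬ p ∣ orderOf g ∧ (g : G ⧸ N) = q := by
  obtain ⟨g₀, rfl⟩ := QuotientGroup.mk_surjective q
  obtain ⟨⟨y, hxy, hc, ⟨k, hk⟩, hy⟩, hreg, -⟩ := preg_spec hp g₀
  refine ⟨preg p g₀, hreg, ?_⟩
  set x := g₀ * (preg p g₀)⁻¹ with hx
  have hy' : y = preg p g₀ := by
    have h2 : x * y = x * preg p g₀ := by rw [hxy, hx, inv_mul_cancel_right]
    exact mul_left_cancel h2
  subst hy'
  have hπ : IsPPart p (g₀ : G ⧸ N) ((x : G) : G ⧸ N) := by
    refine ⟨((preg p g₀ : G) : G ⧸ N), by rw [← QuotientGroup.mk_mul, hxy],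
      hc.map (QuotientGroup.mk' N), ?_, fun hd => hy (hd.trans ?_)⟩
    · obtain ⟨j, -, hj⟩ := (Nat.dvd_prime_pow hp).mp
        (hk ▸ orderOf_map_dvd (QuotientGroup.mk' N) x)
      exact ⟨j, hj⟩
    · exact orderOf_map_dvd (QuotientGroup.mk' N) (preg p g₀)
  have h1 := preg_eq hp hπ
  rw [preg_of_isPRegular hp hq] at h1
  rw [h1, ← QuotientGroup.mk_inv, ← QuotientGroup.mk_mul, hx]
  congr 1
  group

theorem sameBlock_of_inflate (hM : IsPModular p M)
    (h : ∀ g : G, ¬ p ∣ orderOf g → ¬ p ∣ clsRatio N g ∨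
      ∀ χ : IrrCharacter (G ⧸ N), MemLocalIdeal M (omega (χ : G ⧸ N → ℂ) (g : G ⧸ N)))
    {χ ψ : IrrCharacter (G ⧸ N)}
    (hs : SameBlock M (inflChar N χ : G → ℂ) (inflChar N ψ : G → ℂ)) :
    SameBlock M (χ : G ⧸ N → ℂ) (ψ : G ⧸ N → ℂ) := by
  have hP := pmod_prime hM
  refine sameBlock_of_regular_omega hM fun q hq => ?_
  obtain ⟨g, hg, rfl⟩ := exists_regular_lift hM.1 hq
  rcases h g hg with hr | hz
  · have h1 := hs g
    rw [← omega_eq_centralChar, ← omega_eq_centralChar, omega_inflate, omega_inflate, ← mul_sub] at h1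
    exact (memLI_mul_mem hP (memLR_natCast hP _)
      (memLR_sub hP (memLR_omega hP χ.2 _) (memLR_omega hP ψ.2 _)) h1).resolve_left
      fun h2 => hr ((memLI_natCast_iff hM _).mp h2)
  · exact memLI_sub hP (hz χ) (hz ψ)

/-- A regular element centralizing a normal `p`-subgroup has ratio one. -/
theorem clsRatio_eq_one (hp : p.Prime) (hNp : IsPGroup p N) {g : G} (hg : ¬ p ∣ orderOf g)
    (hgN : g ∈ Subgroup.centralizer (N : Set G)) : clsRatio N g = 1 := by
  rw [clsRatio, Subgroup.relIndex_eq_one]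
  intro c hc
  rw [Subgroup.mem_comap, Subgroup.mem_centralizer_singleton_iff, QuotientGroup.mk'_apply,
    ← QuotientGroup.mk_mul, ← QuotientGroup.mk_mul, QuotientGroup.eq] at hc
  rw [Subgroup.mem_centralizer_singleton_iff]
  set m := (c * g)⁻¹ * (g * c) with hm
  haveI := Fact.mk hp
  have hcomm : Commute g m := (Subgroup.mem_centralizer_iff.mp hgN m hc).symm
  have hgm : g * m = MulAut.conj c⁻¹ g := by
    rw [hm, MulAut.conj_apply]
    group
  obtain ⟨k, hk⟩ := (IsPGroup.iff_orderOf.mp hNp) ⟨m, hc⟩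
  rw [Subgroup.orderOf_mk] at hk
  have hpow : (g * m) ^ orderOf g = 1 := by
    rw [hgm, ← map_pow, pow_orderOf_eq_one, map_one]
  rw [hcomm.mul_pow, pow_orderOf_eq_one, one_mul] at hpow
  have hm1 : m = 1 := by
    rw [← orderOf_eq_one_iff]
    exact Nat.eq_one_of_dvd_coprimes (Nat.Coprime.pow_left k ((hp.coprime_iff_not_dvd).mpr hg))
      (dvd_of_eq hk) (orderOf_dvd_of_pow_eq_one hpow)
  exact inv_mul_eq_one.mp (hm ▸ hm1)

/-- Every block contains a character trivial on a normal `p`-subgroup. -/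
theorem exists_inflate_mem (hM : IsPModular p M) [Fintype N] (hNp : IsPGroup p N)
    {B : Set (IrrCharacter G)} (hB : IsPBlock M B) :
    ∃ χ : IrrCharacter (G ⧸ N), inflChar N χ ∈ B := by
  have hP := pmod_prime hM
  haveI := Fact.mk hM.1
  obtain ⟨θ, hθ, hne⟩ : ∃ θ ∈ B, classInner (fun n : N => (θ : G → ℂ) n)
      ((⟨fun _ => 1, isIrrCharacter_one⟩ : IrrCharacter N) : N → ℂ) ≠ 0 := by
    by_contra hno
    push Not at hno
    obtain ⟨χ₀, hχ₀⟩ := block_nonempty hP hB
    have h1 : ∀ n : N, n ≠ 1 → ∑ θ : IrrCharacter G with θ ∈ B,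
        (θ : G → ℂ) 1 * (θ : G → ℂ) n = 0 := by
      intro n hn
      have hsing : p ∣ orderOf (n : G)⁻¹ := by
        obtain ⟨k, hk⟩ := (IsPGroup.iff_orderOf.mp hNp) n
        rw [orderOf_inv, Subgroup.orderOf_coe, hk]
        exact dvd_pow_self p fun h0 => hn (orderOf_eq_one_iff.mp (by rw [hk, h0, pow_zero]))
      have h0 := weak_orthogonality hM hB (x := (1 : G)) (by simp [hM.1.ne_one]) hsing
      rw [finsum_mem_irr] at h0
      rw [← h0]
      refine Finset.sum_congr rfl fun θ _ => ?_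
      rw [char_inv (irr_isCharacter θ.2), Complex.conj_conj]
    have h2 : ∑ θ : IrrCharacter G with θ ∈ B, (θ : G → ℂ) 1 * (θ : G → ℂ) 1 = 0 := by
      have h3 : ∑ n : N, ∑ θ : IrrCharacter G with θ ∈ B, (θ : G → ℂ) 1 * (θ : G → ℂ) n = 0 := by
        rw [Finset.sum_comm]
        refine Finset.sum_eq_zero fun θ hθ => ?_
        have := hno θ (Finset.mem_filter.mp hθ).2
        simp only [classInner, mul_eq_zero, inv_eq_zero, Nat.cast_eq_zero, Nat.card_pos.ne',
          false_or, map_one, mul_one] at this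
        rw [← Finset.mul_sum, this, mul_zero]
      rwa [Finset.sum_eq_single 1 (fun n _ hn => h1 n hn) (fun h => absurd (Finset.mem_univ _) h),
        OneMemClass.coe_one] at h3
    choose d hd using fun θ : IrrCharacter G => charOne_eq_natCast (irr_isCharacter θ.2)
    simp only [hd] at h2
    have h4 : ∑ θ : IrrCharacter G with θ ∈ B, d θ * d θ = 0 := by exact_mod_cast h2
    have h5 := Finset.sum_eq_zero_iff.mp h4 χ₀ (by simp [hχ₀])
    exact irr_one_ne_zero χ₀.2 (by rw [hd, mul_self_eq_zero.mp h5, Nat.cast_zero])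
  obtain ⟨χ, hχ⟩ := exists_deflate N θ.2 fun n hn => trivial_on_of_constituent N θ hne ⟨n, hn⟩
  refine ⟨χ, ?_⟩
  rwa [show inflChar N χ = θ from Subtype.ext (funext hχ)]

/-- A block-closed sum which is a unit has a block which is one. -/
theorem exists_block_unit {H : Type u} [Group H] [Fintype H] (hM : M.IsPrime)
    {A : Set (IrrCharacter H)}
    (hA : ∀ χ ψ : IrrCharacter H, SameBlock M (χ : H → ℂ) (ψ : H → ℂ) → χ ∈ A → ψ ∈ A) {x : H}
    (hx : ¬ MemLocalIdeal M (blockCoeff A x)) :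
    ∃ B : Set (IrrCharacter H), IsPBlock M B ∧ B ⊆ A ∧ ¬ MemLocalIdeal M (blockCoeff B x) := by
  by_contra hno
  push Not at hno
  refine hx ?_
  rw [blockCoeff_eq, Finset.sum_apply, ← Finset.sum_fiberwise_of_maps_to
    (g := fun χ : IrrCharacter H => blockOf M (χ : H → ℂ))
    (t := (Finset.univ.filter (· ∈ A)).image (fun χ : IrrCharacter H => blockOf M (χ : H → ℂ)))
    (fun χ hχ => Finset.mem_image_of_mem _ hχ)]
  refine memLI_sum hM _ _ fun B hB => ?_
  obtain ⟨χ, hχ, rfl⟩ := Finset.mem_image.mp hB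
  have hχA : χ ∈ A := (Finset.mem_filter.mp hχ).2
  have hsub : blockOf M (χ : H → ℂ) ⊆ A := fun ψ hψ => hA χ ψ hψ hχA
  have h1 := hno _ (isPBlock_blockOf M χ) hsub
  rw [blockCoeff_eq, Finset.sum_apply] at h1
  refine (congrArg (MemLocalIdeal M) (Finset.sum_congr ?_ fun _ _ => rfl)).mp h1
  ext ψ
  simp only [Finset.mem_filter, Finset.mem_univ, true_and]
  exact ⟨fun h => ⟨hsub h, (blockOf_eq_of_sameBlock hM h).symm⟩,
    fun h => h.2 ▸ self_mem_blockOf hM ψ⟩

/-- Images of Sylow subgroups of centralizers. -/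
theorem IsSylCent.map_quotient (hp : p.Prime) {g : G} {P : Subgroup G} (h : IsSylCent p g P)
    (hr : ¬ p ∣ clsRatio N g) :
    IsSylCent p (g : G ⧸ N) (P.map (QuotientGroup.mk' N)) := by
  set C' := (Subgroup.centralizer ({(g : G ⧸ N)} : Set (G ⧸ N))).comap (QuotientGroup.mk' N) with hC'
  have hPC : P ≤ C' := h.le.trans (centralizer_le_comap g)
  refine isSylCent_of_relIndex hp (Subgroup.map_le_iff_le_comap.mpr hPC) (h.isPGroup.map _) ?_
  rw [← Subgroup.map_comap_eq_self_of_surjective (QuotientGroup.mk'_surjective N)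
    (Subgroup.centralizer ({(g : G ⧸ N)} : Set (G ⧸ N))), ← hC', Subgroup.relIndex_map_map]
  intro hd
  have hker : (QuotientGroup.mk' N).ker ≤ C' := Subgroup.ker_le_comap _ _
  rw [sup_eq_left.mpr hker] at hd
  have h2 := hd.trans (Subgroup.relIndex_dvd_of_le_left C'
    (le_sup_left : P ≤ P ⊔ (QuotientGroup.mk' N).ker))
  rw [← Subgroup.relIndex_mul_relIndex P _ C' h.le (centralizer_le_comap g)] at h2
  rcases hp.dvd_mul.mp h2 with h3 | h3
  · exact h.not_dvd_relIndex hp h3
  · exact hr h3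

/-- Defect groups of a block of the quotient inside a block. -/
theorem exists_defect_ge (hM : IsPModular p M) {Bbar : Set (IrrCharacter (G ⧸ N))}
    (hBbar : IsPBlock M Bbar) {B : Set (IrrCharacter G)} (hB : IsPBlock M B)
    {χ : IrrCharacter (G ⧸ N)} (hχ : χ ∈ Bbar) (hχB : inflChar N χ ∈ B) {Dbar : Subgroup (G ⧸ N)}
    (hD : IsDefectGroup p M Bbar Dbar) :
    ∃ P : Subgroup G, IsDefectGroup p M B P ∧ Dbar ≤ P.map (QuotientGroup.mk' N) := by
  have hP := pmod_prime hM
  obtain ⟨q, hq, hqD⟩ := (isDefectGroup_iff Bbar Dbar).mp hD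
  have hI := isIntClassFun_blockCoeff hM hB
  obtain ⟨g, hu, hω⟩ : ∃ g : G, ¬ MemLocalIdeal M (blockCoeff B g) ∧
      ¬ MemLocalIdeal M (omega (inflChar N χ : G → ℂ) g) := by
    by_contra hno
    push Not at hno
    refine memLI_one_iff hP ?_
    have := Fintype.ofFinite (ConjClasses G)
    rw [show (1 : ℂ) = lam (inflChar N χ : G → ℂ) (blockCoeff B) by rw [lam_blockCoeff, if_pos hχB],
      lam_eq_sum_omega (isClassFunction_character (irr_isCharacter (inflChar N χ).2)) hI.1]
    refine memLI_sum hP _ _ fun C _ => ?_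
    by_cases h : MemLocalIdeal M (blockCoeff B C.out)
    · exact memLI_mul_right hP h (memLR_omega hP (inflChar N χ).2 _)
    · exact memLI_mul_left hP (hI.2 _) (hno _ h)
  obtain ⟨P, hgP⟩ := exists_isSylCent p g
  have hPdef : IsDefectGroup p M B P := (isDefectGroup_iff B P).mpr
    ⟨g, ⟨hI.2 g, hu, (omega_unit_iff hM hB hχB g).mpr hω⟩, hgP⟩
  rw [omega_inflate] at hω
  have hr : ¬ p ∣ clsRatio N g := fun h => hω
    (memLI_mul_right hP ((memLI_natCast_iff hM _).mpr h) (memLR_omega hP χ.2 _))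
  obtain ⟨xb, hxb⟩ := defect_le_of_omega hM hBbar hq hqD hχ (h := (g : G ⧸ N))
    (fun h => hω (memLI_mul_left hP (memLR_natCast hP _) h)) (hgP.map_quotient hM.1 hr)
  obtain ⟨x, rfl⟩ := QuotientGroup.mk_surjective xb
  refine ⟨_, isDefectGroup_conj hM hPdef x, hxb.trans ?_⟩
  rintro _ ⟨_, ⟨w, hw, rfl⟩, rfl⟩
  exact ⟨_, ⟨w, hw, rfl⟩, rfl⟩

/-- A block of the quotient by a normal `p`-subgroup with the images of the defect groups. -/
theorem exists_quotient_block_defect (hM : IsPModular p M) (hNp : IsPGroup p N)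
    {B : Set (IrrCharacter G)} (hB : IsPBlock M B) :
    ∃ Bbar : Set (IrrCharacter (G ⧸ N)), IsPBlock M Bbar ∧ (∀ χ ∈ Bbar, inflChar N χ ∈ B) ∧
      ∀ P : Subgroup G, IsDefectGroup p M B P →
        IsDefectGroup p M Bbar (P.map (QuotientGroup.mk' N)) := by
  have hP := pmod_prime hM
  have hp := hM.1
  haveI := Fact.mk hp
  have := Fintype.ofFinite N
  obtain ⟨P₀, hP₀⟩ := exists_isDefectGroup hM hB
  obtain ⟨g, hg, hgP⟩ := (isDefectGroup_iff B P₀).mp hP₀
  have hreg := defectClass_regular hM hB hg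
  have hgN : g ∈ Subgroup.centralizer (N : Set G) := Subgroup.mem_centralizer_iff.mpr fun n hn =>
    Subgroup.mem_centralizer_iff.mp hgP.self_mem_centralizer n
      (pCore_le_defectGroup hM hB hP₀ N hNp hn)
  have hr := clsRatio_eq_one hp hNp hreg hgN
  set A : Set (IrrCharacter (G ⧸ N)) := {χ | inflChar N χ ∈ B} with hA
  have hAclosed : ∀ χ ψ : IrrCharacter (G ⧸ N), SameBlock M (χ : G ⧸ N → ℂ) (ψ : G ⧸ N → ℂ) →
      χ ∈ A → ψ ∈ A := fun χ ψ hs hχ =>
    (mem_block_iff hP hB hχ _).mpr (sameBlock_inflate hP hs)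
  -- the image of the idempotent
  set h : G ⧸ N → ℂ := fun q => ∑ x ∈ (Finset.univ : Finset G).filter (fun x : G => (QuotientGroup.mk x : G ⧸ N) = q),
    blockCoeff B x with hh
  have hhc : IsClassFunction (G ⧸ N) h := by
    intro a k
    obtain ⟨k, rfl⟩ := QuotientGroup.mk_surjective k
    refine Finset.sum_equiv (MulAut.conj k⁻¹).toEquiv (fun x => ?_) (fun x _ => ?_)
    · simp only [Finset.mem_filter, Finset.mem_univ, true_and, MulEquiv.toEquiv_eq_coe,
        EquivLike.coe_coe, MulAut.conj_apply, QuotientGroup.mk_mul, QuotientGroup.mk_inv, inv_inv]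
      constructor
      · intro hx; rw [hx]; group
      · intro hx; rw [← hx]; group
    · show blockCoeff B x = blockCoeff B (k⁻¹ * x * k⁻¹⁻¹)
      rw [isClassFunction_blockCoeff B x k⁻¹]
  have hheq : h = blockCoeff A := by
    rw [classFun_eq_sum_idem hhc, blockCoeff_eq, Finset.sum_filter]
    refine Finset.sum_congr rfl fun χ _ => ?_
    have e : lam (χ : G ⧸ N → ℂ) h = lam (inflChar N χ : G → ℂ) (blockCoeff B) := by
      simp only [lam, hh, Finset.sum_mul]
      congr 1
      rw [← Finset.sum_fiberwise Finset.univ (fun x : G => (x : G ⧸ N))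
        (fun x => blockCoeff B x * (inflChar N χ : G → ℂ) x)]
      refine Finset.sum_congr rfl fun q _ => Finset.sum_congr rfl fun x hx => ?_
      rw [← (Finset.mem_filter.mp hx).2]
      rfl
    rw [e, lam_blockCoeff]
    by_cases hχ : χ ∈ A
    · rw [if_pos hχ, if_pos (show inflChar N χ ∈ B from hχ), one_smul]
    · rw [if_neg hχ, if_neg (show ¬ inflChar N χ ∈ B from hχ), zero_smul]
  have hval : h (g : G ⧸ N) = blockCoeff B g := by
    rw [hh]
    refine (Finset.sum_eq_single_of_mem g (by simp) fun x hx hne => ?_)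
    have hxn : g⁻¹ * x ∈ N := QuotientGroup.eq.mp (Finset.mem_filter.mp hx).2.symm
    have hcomm : Commute (g⁻¹ * x) g := Subgroup.mem_centralizer_iff.mp hgN _ hxn
    obtain ⟨k, hk⟩ := (IsPGroup.iff_orderOf.mp hNp) ⟨_, hxn⟩
    rw [Subgroup.orderOf_mk] at hk
    have hord : p ∣ orderOf x := by
      have hco : (orderOf (g⁻¹ * x)).Coprime (orderOf g) := by
        rw [hk]; exact Nat.Coprime.pow_left k ((hp.coprime_iff_not_dvd).mpr hreg)
      have h1 := hcomm.orderOf_mul_eq_mul_orderOf_of_coprime hco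
      rw [hcomm.eq, mul_inv_cancel_left] at h1
      rw [h1, hk]
      refine Dvd.dvd.mul_right (dvd_pow_self p fun h0 => hne ?_) _
      rw [h0, pow_zero, orderOf_eq_one_iff] at hk
      exact (inv_mul_eq_one.mp hk).symm
    rw [blockCoeff, weak_orthogonality hM hB (by simp [hp.ne_one]) hord, mul_zero]
  obtain ⟨Bbar, hBbar, hsub, hu⟩ := exists_block_unit hP hAclosed (x := (g : G ⧸ N))
    (by rw [← hheq, hval]; exact hg.2.1)
  refine ⟨Bbar, hBbar, fun χ hχ => hsub hχ, fun P hPd => ?_⟩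
  have hD₀ : IsDefectGroup p M Bbar (P₀.map (QuotientGroup.mk' N)) := by
    refine (isDefectGroup_iff Bbar _).mpr ⟨g, ⟨memLR_blockCoeff hM hBbar _, hu, fun χ hχ => ?_⟩,
      hgP.map_quotient hp (by rw [hr]; exact hp.not_dvd_one)⟩
    have h1 := (omega_unit_iff hM hB (hsub hχ) g).mp hg.2.2
    rw [omega_inflate, hr, Nat.cast_one, one_mul, omega_eq_centralChar] at h1
    exact h1
  obtain ⟨t, ht⟩ := defect_groups_conj hM hB hP₀ hPd
  have := isDefectGroup_conj hM hD₀ (t : G ⧸ N)
  rw [ht]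
  refine (congrArg (IsDefectGroup p M Bbar) ?_).mp this
  rw [Subgroup.map_map, Subgroup.map_map]
  rfl

end Cfsg.Agent.Char
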