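import Cfsg.Agent.Lib.Char.CentralAverage
import Cfsg.Agent.Lib.Char.ContributionBound
import Cfsg.Agent.Lib.Char.QuotientBlocks
import Cfsg.Agent.Lib.Char.FirstMainInduced
import Cfsg.Agent.Lib.Solv.Basic

/-!
# The number of characters of a block against its defect

`k(B) ≤ p ^ d` for `d ≤ 2` and `k(B) ≤ p ^ (2 d - 2)` for `d ≥ 3`, by induction through a subsection and the
quotient of its centralizer by the central element.
-/

set_option autoImplicit false
set_option linter.unusedSectionVars false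

open Cfsg

namespace Cfsg.Agent.Char.CentralClass

universe u

variable {G : Type u} [Group G] [Fintype G] {M : Ideal AlgInt} {p : ℕ}

theorem natCard_eq_bset (B : Set (IrrCharacter G)) : Nat.card B = (bset B).card := by
  classical
  rw [Nat.card_eq_fintype_card, ← Set.toFinset_card]
  congr 1
  ext θ
  simp [mem_bset]

open scoped Classical in
/-- The rank of a block is bounded by the size of each class of a central element. -/
theorem blockRank_le_card_cls (hM : IsPModular p M) {e : Set (IrrCharacter G)} (he : IsPBlock M e) {z : G}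
    (hzc : ∀ c, z * c = c * z) {a : ℕ} (hza : orderOf z = p ^ a) {ω : ℂ} (hω : IsPrimitiveRoot ω (p ^ a))
    {j : IrrCharacter G → ℕ} (hj : ∀ η, j η < p ^ a)
    (hz : ∀ (η : IrrCharacter G) (c : G), (η : G → ℂ) (z * c) = ω ^ j η * (η : G → ℂ) c) {s : ℕ}
    (hs : s < p ^ a) : blockRank p e ≤ (cls e j s).card := by
  have hp : (0 : ℤ) < p := by exact_mod_cast hM.1.pos
  set q : ℤ := (p : ℤ) ^ blockDefect p e with hq
  set N : ℤ := ((p ^ a : ℕ) : ℤ) with hN
  have hN0 : 0 < N := by rw [hN]; exact_mod_cast pow_pos hM.1.pos a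
  have hdiag : ∀ θ ∈ cls e j s, N * wI p e θ θ ≤ q := by
    intro θ hθ
    have h := mul_sum_cls hM he hzc hza hω hj hz (mem_cls.mp hθ).1 (mem_cls.mp hθ).1 hs
    have hpos := wI_self_pos hM he (mem_cls.mp hθ).1
    have h1 : N * (wI p e θ θ * wI p e θ θ) ≤ q * wI p e θ θ := by
      rw [← h]
      refine mul_le_mul_of_nonneg_left ?_ hN0.le
      refine Finset.single_le_sum (f := fun φ => wI p e θ φ * wI p e φ θ) (fun φ _ => ?_) hθ
      rw [wI_symm hM φ θ]
      exact mul_self_nonneg _
    exact le_of_mul_le_mul_right (by rw [mul_assoc]; exact h1) hpos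
  have htr : N * ∑ θ ∈ cls e j s, wI p e θ θ = q * (blockRank p e : ℤ) := by
    have h1 : ∑ η ∈ bset e, N * ∑ θ ∈ cls e j s, wI p e η θ * wI p e θ η =
        N * ∑ θ ∈ cls e j s, q * wI p e θ θ := by
      rw [← Finset.mul_sum, Finset.sum_comm]
      congr 1
      refine Finset.sum_congr rfl fun θ hθ => ?_
      rw [← sum_wI_sq hM he (mem_cls.mp hθ).1]
      exact Finset.sum_congr rfl fun η _ => by rw [wI_symm hM η θ, sq]
    rw [Finset.sum_congr rfl fun η hη =>
      mul_sum_cls hM he hzc hza hω hj hz (mem_bset.mp hη) (mem_bset.mp hη) hs,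
      ← Finset.mul_sum, ← pow_mul_blockRank hM he, ← Finset.mul_sum] at h1
    refine mul_left_cancel₀ (pow_ne_zero (blockDefect p e) hp.ne') ?_
    rw [← hq, h1]
    ring
  have hle : q * (blockRank p e : ℤ) ≤ q * ((cls e j s).card : ℤ) := by
    rw [← htr, Finset.mul_sum, mul_comm q, ← nsmul_eq_mul, ← Finset.sum_const]
    exact Finset.sum_le_sum hdiag
  exact_mod_cast le_of_mul_le_mul_left hle (pow_pos hp _)

/-- The target bound. -/
def kBound (p d : ℕ) : ℕ := if d ≤ 2 then p ^ d else p ^ (2 * d - 2)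

theorem kBound_mono (hp : 0 < p) {d d' : ℕ} (h : d ≤ d') : kBound p d ≤ kBound p d' := by
  unfold kBound
  split_ifs <;> exact Nat.pow_le_pow_right hp (by omega)

/-- `k(B)` is at most the bound of its defect. -/
theorem card_le_kBound (hM : IsPModular p M) : ∀ (d : ℕ) {G : Type u} [Group G] [Fintype G]
    (B : Set (IrrCharacter G)), IsPBlock M B → blockDefect p B = d → Nat.card B ≤ kBound p d := by
  intro d
  induction d using Nat.strong_induction_on with
  | _ d ih =>
  intro G _ _ B hB hd
  classical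
  have hP := pmod_prime hM
  have hp := hM.1
  haveI := Fact.mk hp
  rcases Nat.eq_zero_or_pos d with rfl | hd0
  · rw [((defect_zero_iff_rank hM hB).1.mp hd).1]
    simp [kBound]
  by_cases hpos : ∃ χ ∈ B, blockHeight p B (χ : G → ℂ) ≠ 0
  · obtain ⟨χ, hχ, h⟩ := hpos
    have h3 := height_add_two_le hM hB hχ h
    have h4 := two_mul_card_le hM hB hχ h
    rw [hd] at h3 h4
    rw [natCard_eq_bset, kBound, if_neg (by omega)]
    omega
  push Not at hpos
  obtain ⟨D, hD⟩ := exists_isDefectGroup hM hB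
  have hcardD := card_defectGroup hM hB hD
  rw [hd] at hcardD
  obtain ⟨⟨x, hxD⟩, hxo⟩ := exists_prime_orderOf_dvd_card' (G := D) p (hcardD ▸ dvd_pow_self p (by omega))
  rw [Subgroup.orderOf_mk] at hxo
  set H := Subgroup.centralizer ({x} : Set G) with hH
  haveI : Fintype H := Fintype.ofFinite _
  have hxk : ∃ k : ℕ, orderOf x = p ^ k := ⟨1, by rw [hxo, pow_one]⟩
  have hxH : x ∈ H := Subgroup.mem_centralizer_singleton_iff.mpr rfl
  obtain ⟨e, hind⟩ := (exists_induced_iff hM (P := Subgroup.zpowers x) (H := H) (isPGroup_zpowers hp hxk)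
    (Subgroup.zpowers_le.mpr hxH) (le_of_eq centralizer_zpowers_eq)
    (le_trans (le_of_eq (centralizer_zpowers_eq (x := x)).symm) (Subgroup.centralizer_le_normalizer _)) hB).mpr
      ⟨D, hD, 1, by
        rintro _ ⟨y, hy, rfl⟩
        have : y ∈ D := Subgroup.zpowers_le.mpr hxD hy
        simpa using this⟩
  have he := hind.1
  obtain ⟨Db, hDb⟩ := exists_isDefectGroup hM he
  obtain ⟨E, hE, hle⟩ := induced_defect_le hM hind hDb
  set d' := blockDefect p e with hd'
  have hcardDb := card_defectGroup hM he hDb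
  have hd'le : d' ≤ d := by
    have h1 := Subgroup.card_le_of_le hle
    rw [Subgroup.card_map_of_injective H.subtype_injective, hcardDb, card_defectGroup hM hB hE, hd] at h1
    exact (Nat.pow_le_pow_iff_right hp.one_lt).mp h1
  set xc : H := ⟨x, hxH⟩ with hxc
  have hcent : ∀ c : H, xc * c = c * xc := fun c => Subtype.ext (cent_mul_comm c)
  set Z := Subgroup.zpowers xc with hZ
  haveI : Z.Normal := ⟨fun w hw g => by
    obtain ⟨n, rfl⟩ := hw
    have hc : Commute g (xc ^ n) := Commute.zpow_right (hcent g).symm n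
    rw [hc.eq, mul_inv_cancel_right]
    exact Subgroup.zpow_mem_zpowers _ _⟩
  have hxco : orderOf xc = p ^ 1 := by rw [hxc, Subgroup.orderOf_mk, hxo, pow_one]
  have hZp : IsPGroup p Z := IsPGroup.of_card (n := 1) (by rw [hZ, Nat.card_zpowers, hxco])
  have hZD : Z ≤ Db := pCore_le_defectGroup hM he hDb Z hZp
  have hd'1 : 1 ≤ d' := by
    by_contra h0
    have h1 := Subgroup.card_le_of_le hZD
    rw [hcardDb, ← hd', show d' = 0 by omega, pow_zero, hZ, Nat.card_zpowers, hxco, pow_one] at h1
    exact absurd h1 (by have := hp.two_le; omega)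
  -- the rank of the local block
  have hl : blockRank p e ≤ kBound p (d' - 1) := by
    haveI : Fintype (H ⧸ Z) := Fintype.ofFinite _
    obtain ⟨Bbar, hBbar, hsub, hdef⟩ := exists_quotient_block_defect hM hZp he
    have hdbar : blockDefect p Bbar = d' - 1 := by
      have h1 := card_defectGroup hM hBbar (hdef Db hDb)
      have h2 := Cfsg.Agent.Solv.card_map_mk'_mul_card_inf Z Db
      rw [inf_eq_left.mpr hZD, h1, hcardDb, show Nat.card Z = orderOf xc from Nat.card_zpowers xc, hxco, ← hd', ← pow_add] at h2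
      have := Nat.pow_right_injective hp.two_le h2
      omega
    obtain ⟨ω, hω⟩ : ∃ ω : ℂ, IsPrimitiveRoot ω (p ^ 1) :=
      ⟨_, Complex.isPrimitiveRoot_exp _ (pow_ne_zero 1 hp.ne_zero)⟩
    obtain ⟨j, hj, hz⟩ := MajorSub.exists_expo (x := x) (p := p) (k := 1) (by rw [hxo, pow_one]) hω
    refine (blockRank_le_card_cls hM he hcent hxco hω hj hz (s := 0) (pow_pos hp.pos 1)).trans ?_
    refine le_trans ?_ (ih (d' - 1) (by omega) Bbar hBbar hdbar)
    rw [natCard_eq_bset]
    refine le_trans (Finset.card_le_card (t := (bset Bbar).image (inflChar Z)) ?_) Finset.card_image_le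
    intro η hη
    obtain ⟨hηe, hη0⟩ := mem_cls.mp hη
    have hstep : ∀ c : H, (η : H → ℂ) (xc * c) = (η : H → ℂ) c := fun c => by
      rw [hz η c, hη0, pow_zero, one_mul]
    have htriv : ∀ n ∈ Z, (η : H → ℂ) n = (η : H → ℂ) 1 := by
      intro n hn
      obtain ⟨i, -, hi⟩ : ∃ i, i < orderOf xc ∧ xc ^ i = n := by
        simpa [Finset.mem_image, Finset.mem_range] using
          (isOfFinOrder_of_finite xc).mem_zpowers_iff_mem_range_orderOf.mp hn
      subst hi
      induction i with
      | zero => rw [pow_zero]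
      | succ i ihi => rw [pow_succ', hstep]; exact ihi (Subgroup.npow_mem_zpowers _ _)
    obtain ⟨χ, hχ⟩ := exists_deflate Z η.2 htriv
    refine Finset.mem_image.mpr ⟨χ, mem_bset.mpr ?_, Subtype.ext (funext hχ)⟩
    obtain ⟨χ0, hχ0⟩ := block_nonempty hP hBbar
    refine (mem_block_iff hP hBbar hχ0 χ).mpr ?_
    refine sameBlock_of_inflate hM (fun g hg => Or.inl ?_) ?_
    · rw [clsRatio_eq_one hp hZp hg (Subgroup.mem_centralizer_iff.mpr fun n hn => by
        obtain ⟨i, rfl⟩ := hn
        exact (Commute.zpow_right (hcent g).symm i).eq.symm)]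
      exact hp.not_dvd_one
    · exact (mem_block_iff hP he (hsub χ0 hχ0) _).mp (by
        rw [show inflChar Z χ = η from Subtype.ext (funext hχ)]; exact hηe)
  have hall : Nat.card B = Nat.card {χ : IrrCharacter G // χ ∈ B ∧ blockHeight p B (χ : G → ℂ) = 0} :=
    Nat.card_congr (Equiv.subtypeEquivRight fun χ => ⟨fun h => ⟨h, hpos χ h⟩, fun h => h.1⟩)
  have hsq := card_height_zero_sq_le hM hxk hind
  rw [← hall] at hsq
  refine le_trans ?_ (kBound_mono hp.pos hd'le)
  rcases (by omega : d' = 1 ∨ d' = 2 ∨ 3 ≤ d') with h | h | h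
  · rw [← hd', h] at hsq
    rw [h] at hl ⊢
    simp only [kBound, Nat.sub_self, pow_zero, zero_le, if_true] at hl
    have : Nat.card B ^ 2 ≤ (p ^ 1) ^ 2 := hsq.trans (le_trans (Nat.mul_le_mul_left _ hl) (by ring_nf; rfl))
    simpa [kBound] using (Nat.pow_le_pow_iff_left two_ne_zero).mp this
  · have h2 := card_heightZero_le_pow (a := 1) hM (by rw [hxo, pow_one]) le_rfl hind h
    rw [hall, h, Nat.card_eq_fintype_card, Fintype.card_subtype]
    simpa [kBound] using h2
  · rw [kBound, if_neg (by omega)]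
    refine (Nat.pow_le_pow_iff_left two_ne_zero).mp (hsq.trans ?_)
    refine (Nat.mul_le_mul_left _ hl).trans (le_of_eq ?_)
    rw [← hd', kBound, ← pow_mul]
    split_ifs with h2
    · rw [← pow_add]; congr 1; omega
    · rw [← pow_add]; congr 1; omega

end Cfsg.Agent.Char.CentralClass
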