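import Cfsg.Agent.Lib.Char.IntComb
import Cfsg.Agent.Lib.Char.PParts

/-!
# Indicator functions of `ℓ`-sections are local-integral combinations of characters
-/

set_option autoImplicit false

namespace Cfsg.Agent.Char

open Cfsg Module
open scoped ComplexConjugate

universe u

variable {G : Type u} [Group G] [Fintype G] {M : Ideal AlgInt} {ℓ : ℕ}

open scoped Classical in
/-- `o(s)` on the coset `sP`, as a function on a subgroup `E`. -/
noncomputable def cosetFun (s : G) (P : Subgroup G) (E : Subgroup G) : E → ℂ :=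
  fun x => if ∃ v ∈ P, (x : G) = s * v then (orderOf s : ℂ) else 0

/-- The elementary subgroup `⟨s⟩ × P`. -/
def elemSub (s : G) (P : Subgroup G) : Subgroup G := Subgroup.zpowers s ⊔ P

theorem commute_of_le_centralizer {s : G} {P : Subgroup G}
    (hP : P ≤ Subgroup.centralizer ({s} : Set G)) {v : G} (hv : v ∈ P) : Commute s v :=
  (Subgroup.mem_centralizer_singleton_iff.mp (hP hv)).symm

theorem elemSub_mem {s : G} {P : Subgroup G} (hP : P ≤ Subgroup.centralizer ({s} : Set G)) {x : G}
    (hx : x ∈ elemSub s P) : ∃ c ∈ Subgroup.zpowers s, ∃ v ∈ P, x = c * v := by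
  let K : Subgroup G :=
    { carrier := {x | ∃ c ∈ Subgroup.zpowers s, ∃ v ∈ P, x = c * v}
      one_mem' := ⟨1, one_mem _, 1, one_mem _, by simp⟩
      mul_mem' := by
        rintro _ _ ⟨c, hc, v, hv, rfl⟩ ⟨c', hc', v', hv', rfl⟩
        obtain ⟨i, rfl⟩ := Subgroup.mem_zpowers_iff.mp hc'
        refine ⟨c * s ^ i, mul_mem hc hc', v * v', mul_mem hv hv', ?_⟩
        have := (commute_of_le_centralizer hP hv).zpow_left i
        simp only [mul_assoc]
        rw [← mul_assoc v, ← this.eq, mul_assoc]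
      inv_mem' := by
        rintro _ ⟨c, hc, v, hv, rfl⟩
        obtain ⟨i, rfl⟩ := Subgroup.mem_zpowers_iff.mp hc
        refine ⟨(s ^ i)⁻¹, inv_mem hc, v⁻¹, inv_mem hv, ?_⟩
        rw [mul_inv_rev]
        exact ((commute_of_le_centralizer hP hv).zpow_left i).inv_inv.symm.eq }
  have hle : elemSub s P ≤ K := sup_le (fun c hc => ⟨c, hc, 1, one_mem _, by simp⟩)
    (fun v hv => ⟨1, one_mem _, v, hv, by simp⟩)
  exact hle hx

theorem card_elemSub (hℓ : ℓ.Prime) {s : G} (hs : ¬ ℓ ∣ orderOf s) {P : Subgroup G}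
    (hP : P ≤ Subgroup.centralizer ({s} : Set G)) (hPl : IsPGroup ℓ P) :
    Nat.card (elemSub s P) = orderOf s * Nat.card P := by
  have := Fact.mk hℓ
  obtain ⟨k, hk⟩ := IsPGroup.iff_card.mp hPl
  have hcop : (Nat.card (Subgroup.zpowers s)).Coprime (Nat.card P) := by
    rw [Nat.card_zpowers, hk]
    exact Nat.Coprime.pow_right _ ((hℓ.coprime_iff_not_dvd.mpr hs).symm)
  have hdis : Subgroup.zpowers s ⊓ P = ⊥ := by
    rw [eq_bot_iff]
    intro x hx
    rw [Subgroup.mem_bot, ← orderOf_eq_one_iff, ← Nat.dvd_one, ← hcop.gcd_eq_one]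
    exact Nat.dvd_gcd
      (by simpa using Subgroup.orderOf_dvd_natCard _ (Subgroup.mem_inf.mp hx).1)
      (by simpa using Subgroup.orderOf_dvd_natCard _ (Subgroup.mem_inf.mp hx).2)
  have hle1 : Subgroup.zpowers s ≤ elemSub s P := le_sup_left
  have hle2 : P ≤ elemSub s P := le_sup_right
  let e : Subgroup.zpowers s × P → elemSub s P := fun cv =>
    ⟨(cv.1 : G) * cv.2, mul_mem (hle1 cv.1.2) (hle2 cv.2.2)⟩
  have hbij : Function.Bijective e := by
    constructor
    · intro a b h
      have h' : (a.1 : G) * a.2 = b.1 * b.2 := congrArg Subtype.val h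
      exact Subgroup.mul_injective_of_disjoint (disjoint_iff.mpr hdis) h'
    · rintro ⟨x, hx⟩
      obtain ⟨c, hc, v, hv, rfl⟩ := elemSub_mem hP hx
      exact ⟨(⟨c, hc⟩, ⟨v, hv⟩), rfl⟩
  rw [← Nat.card_eq_of_bijective e hbij, Nat.card_prod, Nat.card_zpowers]

theorem self_mem_elemSub (s : G) (P : Subgroup G) : s ∈ elemSub s P :=
  (le_sup_left : Subgroup.zpowers s ≤ elemSub s P) (Subgroup.mem_zpowers s)

theorem isClassFunction_cosetFun {s : G} {P : Subgroup G}
    (hP : P ≤ Subgroup.centralizer ({s} : Set G)) :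
    IsClassFunction (elemSub s P) (cosetFun s P (elemSub s P)) := by
  classical
  intro a k
  obtain ⟨c, hc, v, hv, hk⟩ := elemSub_mem hP k.2
  obtain ⟨i, rfl⟩ := Subgroup.mem_zpowers_iff.mp hc
  have key : ∀ w ∈ P, (k : G) * (s * w) * (k : G)⁻¹ = s * (v * w * v⁻¹) := by
    intro w hw
    have h1 := (commute_of_le_centralizer hP (mul_mem (mul_mem hv hw) (inv_mem hv))).zpow_left i
    have h2 := commute_of_le_centralizer hP hv
    calc (k : G) * (s * w) * (k : G)⁻¹ = s ^ i * (v * s) * w * v⁻¹ * (s ^ i)⁻¹ := by rw [hk]; group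
      _ = s * (s ^ i * (v * w * v⁻¹)) * (s ^ i)⁻¹ := by rw [← h2.eq]; group
      _ = s * (v * w * v⁻¹) := by rw [h1.eq]; group
  simp only [cosetFun]
  refine if_congr ⟨?_, ?_⟩ rfl rfl
  · rintro ⟨w, hw, h⟩
    refine ⟨v⁻¹ * w * v, mul_mem (mul_mem (inv_mem hv) hw) hv, ?_⟩
    have := key _ (mul_mem (mul_mem (inv_mem hv) hw) hv)
    rw [show v * (v⁻¹ * w * v) * v⁻¹ = w by group] at this
    rw [← this] at h
    simpa using h
  · rintro ⟨w, hw, h⟩
    refine ⟨v * w * v⁻¹, mul_mem (mul_mem hv hw) (inv_mem hv), ?_⟩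
    rw [← key w hw, ← h]
    simp

theorem intComb_cosetFun (hM : IsPModular ℓ M) {s : G} (hs : ¬ ℓ ∣ orderOf s) {P : Subgroup G}
    (hP : P ≤ Subgroup.centralizer ({s} : Set G)) (hPl : IsPGroup ℓ P)
    [Fintype (elemSub s P)] :
    IntComb M (cosetFun s P (elemSub s P)) := by
  classical
  have hMp := pmod_prime hM
  have := Fintype.ofFinite P
  have hle2 : P ≤ elemSub s P := le_sup_right
  have := Fact.mk hM.1
  refine ⟨isClassFunction_cosetFun hP, fun η => ?_⟩
  set s' : elemSub s P := ⟨s, self_mem_elemSub s P⟩ with hs'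
  let ι : P →* elemSub s P := Subgroup.inclusion hle2
  obtain ⟨n, ρ, hρ, hη⟩ := η.2
  have := hρ
  have hsc : ∀ x : elemSub s P, s' * x = x * s' := fun x => by
    obtain ⟨c, hc, v, hv, hx⟩ := elemSub_mem hP x.2
    obtain ⟨i, rfl⟩ := Subgroup.mem_zpowers_iff.mp hc
    refine Subtype.ext ?_
    show s * (x : G) = (x : G) * s
    rw [hx]
    exact (((Commute.refl s).zpow_right i).mul_right (commute_of_le_centralizer hP hv)).eq
  have hscal : ρ s' = omega ρ.character s' • LinearMap.id := by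
    rw [← classSum_eq_omega ρ s', Finset.sum_eq_single s']
    · intro x hx hne
      obtain ⟨c, hc⟩ := isConj_iff.mp (show IsConj s' x by simpa using hx)
      exact absurd (by rw [← hc, ← hsc c, mul_inv_cancel_right]) hne
    · intro h
      refine absurd ?_ h
      simp only [Finset.mem_filter, Finset.mem_univ, true_and]
      exact IsConj.refl _
  set c := omega ρ.character s'
  have hc : MemLocalRing M (conj c) := by
    refine memLocalRing_of_isIntegral hMp.ne_top ?_
    exact map_isIntegral_int (starRingEnd ℂ) (omega_isIntegral ⟨n, ρ, hρ, rfl⟩ s')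
  have hval : ∀ v : P, (η : elemSub s P → ℂ) (s' * ι v) = c * ρ.character (ι v) := fun v => by
    rw [← hη]
    simp [Representation.character, map_mul, hscal, ← Module.End.one_eq_id, smul_mul_assoc]
  have hsum : ∑ x : elemSub s P, cosetFun s P (elemSub s P) x * conj ((η : elemSub s P → ℂ) x) =
      (orderOf s : ℂ) * conj c * ∑ v : P, conj (ρ.character (ι v)) := by
    have himg : ∀ x : elemSub s P, (∃ v ∈ P, (x : G) = s * v) ↔
        x ∈ (Finset.univ : Finset P).image (fun v => s' * ι v) := fun x => by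
      simp only [Finset.mem_image, Finset.mem_univ, true_and]
      constructor
      · rintro ⟨v, hv, h⟩
        exact ⟨⟨v, hv⟩, Subtype.ext h.symm⟩
      · rintro ⟨v, rfl⟩
        exact ⟨v, v.2, rfl⟩
    simp only [cosetFun, himg, ite_mul, zero_mul]
    rw [← Finset.sum_filter, Finset.filter_univ_mem, Finset.sum_image, Finset.mul_sum]
    · exact Finset.sum_congr rfl fun v _ => by rw [hval, map_mul]; ring
    · intro a _ b _ h
      exact Subgroup.inclusion_injective hle2 (mul_left_cancel h)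
  obtain ⟨k, hk⟩ := classInner_natCast (G := P) isCharacter_one
    (isCharacter_comp ι (isCharacter_character ρ))
  have hfin : classInner (cosetFun s P (elemSub s P)) (η : elemSub s P → ℂ) = conj c * k := by
    rw [classInner, hsum, ← hk, classInner, card_elemSub hM.1 hs hP hPl, Nat.cast_mul, mul_inv]
    have : (orderOf s : ℂ) ≠ 0 := Nat.cast_ne_zero.mpr (orderOf_pos s).ne'
    simp only [one_mul]
    field_simp
    rfl
  rw [hfin]
  exact memLR_mul hMp hc (memLR_natCast hMp k)

open scoped Classical in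
/-- The indicator function of the `ℓ`-section of an `ℓ`-regular element. -/
noncomputable def secInd (ℓ : ℕ) (s : G) : G → ℂ :=
  fun x => if IsConj s (preg ℓ x) then 1 else 0

theorem exists_sylow_centralizer (hℓ : ℓ.Prime) (s : G) :
    ∃ P : Subgroup G, P ≤ Subgroup.centralizer ({s} : Set G) ∧ IsPGroup ℓ P ∧
      ¬ ℓ ∣ P.relIndex (Subgroup.centralizer ({s} : Set G)) := by
  have := Fact.mk hℓ
  obtain ⟨Q⟩ := (inferInstance : Nonempty (Sylow ℓ (Subgroup.centralizer ({s} : Set G))))
  refine ⟨(Q : Subgroup _).map (Subgroup.centralizer ({s} : Set G)).subtype,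
    Subgroup.map_subtype_le _, Q.isPGroup'.map _, ?_⟩
  rw [Subgroup.relIndex, Subgroup.subgroupOf,
    Subgroup.comap_map_eq_self_of_injective (Subgroup.subtype_injective _)]
  exact Q.not_dvd_index

theorem indFun_cosetFun_off (hℓ : ℓ.Prime) {s : G} (hs : ¬ ℓ ∣ orderOf s) {P : Subgroup G}
    (hP : P ≤ Subgroup.centralizer ({s} : Set G)) (hPl : IsPGroup ℓ P) {x : G}
    (hx : ¬ IsConj s (preg ℓ x)) :
    indFun (elemSub s P) (cosetFun s P (elemSub s P)) x = 0 := by
  have := Fact.mk hℓ
  rw [indFun, Finset.sum_eq_zero, mul_zero]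
  intro t _
  by_cases hm : t⁻¹ * x * t ∈ elemSub s P
  · rw [extendByZero_mem _ _ hm, cosetFun, if_neg]
    rintro ⟨v, hv, h⟩
    have h' : t⁻¹ * x * t = s * v := h
    refine hx ?_
    have e : x = t * (s * v) * t⁻¹ := by rw [← h']; group
    have hv' : ∃ k, orderOf v = ℓ ^ k := by
      obtain ⟨k, hk⟩ := IsPGroup.iff_orderOf.mp hPl ⟨v, hv⟩
      exact ⟨k, by rwa [Subgroup.orderOf_mk] at hk⟩
    have hc := commute_of_le_centralizer hP hv
    rw [e, preg_conj hℓ, hc.eq, preg_of_mul hℓ hc.symm hv' hs]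
    exact isConj_iff.mpr ⟨t, rfl⟩
  · exact extendByZero_not_mem _ _ hm

theorem indFun_cosetFun_on (hℓ : ℓ.Prime) {s : G} (hs : ¬ ℓ ∣ orderOf s) {P : Subgroup G}
    (hP : P ≤ Subgroup.centralizer ({s} : Set G)) (hPl : IsPGroup ℓ P)
    (hidx : ¬ ℓ ∣ P.relIndex (Subgroup.centralizer ({s} : Set G))) {x : G}
    (hx : preg ℓ x = s) :
    ∃ n : ℕ, ¬ ℓ ∣ n ∧ indFun (elemSub s P) (cosetFun s P (elemSub s P)) x = n := by
  classical
  have := Fact.mk hℓ
  set C := Subgroup.centralizer ({s} : Set G) with hC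
  obtain ⟨⟨y, hxy, hcy, ⟨a, ha⟩, hy⟩, -, hcomm⟩ := preg_spec hℓ x
  rw [hx] at ha hcomm
  set u := x * s⁻¹ with hu
  have huC : u ∈ C := Subgroup.mem_centralizer_singleton_iff.mpr
    ((hcomm.mul_right ((Commute.refl s).inv_right)).symm.eq)
  have hxsu : x = s * u := by
    rw [hu, ← mul_assoc, hcomm.eq, mul_inv_cancel_right]
  have huo : ∃ k, orderOf u = ℓ ^ k := ⟨a, ha⟩
  set u' : C := ⟨u, huC⟩ with hu'
  set X := C ⧸ P.subgroupOf C
  have hpg : IsPGroup ℓ (Subgroup.zpowers u') := by
    refine IsPGroup.of_card (n := a) ?_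
    rw [Nat.card_zpowers, ← Subgroup.orderOf_coe]
    exact ha
  have hmod := hpg.card_modEq_card_fixedPoints X
  have hX : ¬ ℓ ∣ Nat.card X := by
    rwa [← Subgroup.index_eq_card]
  refine ⟨Nat.card (MulAction.fixedBy X u'), fun hd => hX ?_, ?_⟩
  · have e : Nat.card (MulAction.fixedPoints (Subgroup.zpowers u') X) =
        Nat.card (MulAction.fixedBy X u') := by
      refine Nat.card_congr (Equiv.subtypeEquivRight fun q => ?_)
      rw [MulAction.mem_fixedBy]
      refine ⟨fun h => h ⟨u', Subgroup.mem_zpowers u'⟩, fun h v => ?_⟩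
      obtain ⟨i, hi⟩ := Subgroup.mem_zpowers_iff.mp v.2
      have h2 : (u' ^ i) • q = q :=
        MulAction.mem_fixedBy_zpowers_iff_mem_fixedBy.mpr h i
      rw [hi] at h2
      exact h2
    rw [e] at hmod
    exact (Nat.ModEq.dvd_iff hmod dvd_rfl).mpr hd
  have := Fintype.ofFinite C
  rw [card_fixedBy_eq_indFun ((1 : C) : X) u']
  have hstab : MulAction.stabilizer C ((1 : C) : X) = P.subgroupOf C := by
    rw [MulAction.stabilizer_quotient]
  have hcardP : Nat.card (MulAction.stabilizer C ((1 : C) : X)) = Nat.card P := by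
    rw [hstab]; exact Nat.card_congr (Subgroup.subgroupOfEquivOfLe hP).toEquiv
  have hos : (orderOf s : ℂ) ≠ 0 := Nat.cast_ne_zero.mpr (orderOf_pos s).ne'
  rw [indFun, indFun, hcardP, card_elemSub hℓ hs hP hPl, Nat.cast_mul, mul_inv]
  have key : ∀ t : G, extendByZero (elemSub s P) (cosetFun s P (elemSub s P)) (t⁻¹ * x * t) =
      if t ∈ C ∧ t⁻¹ * u * t ∈ P then (orderOf s : ℂ) else 0 := by
    intro t
    by_cases ht : t ∈ C ∧ t⁻¹ * u * t ∈ P
    · obtain ⟨ht, htu⟩ := ht
      have hts : Commute t s := Subgroup.mem_centralizer_singleton_iff.mp ht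
      have e : t⁻¹ * x * t = s * (t⁻¹ * u * t) := by
        rw [hxsu]
        calc t⁻¹ * (s * u) * t = t⁻¹ * s * (u * t) := by group
          _ = s * t⁻¹ * (u * t) := by rw [(hts.inv_left).eq]
          _ = s * (t⁻¹ * u * t) := by group
      have hm : t⁻¹ * x * t ∈ elemSub s P := by
        rw [e]
        exact mul_mem (self_mem_elemSub s P) ((le_sup_right : P ≤ elemSub s P) htu)
      rw [if_pos ⟨ht, htu⟩, extendByZero_mem _ _ hm, cosetFun, if_pos ⟨_, htu, e⟩]
    · rw [if_neg ht]
      by_cases hm : t⁻¹ * x * t ∈ elemSub s P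
      · rw [extendByZero_mem _ _ hm, cosetFun, if_neg]
        rintro ⟨v, hv, h⟩
        have h' : t⁻¹ * x * t = s * v := h
        refine ht ?_
        have hv' : ∃ k, orderOf v = ℓ ^ k := by
          obtain ⟨k, hk⟩ := IsPGroup.iff_orderOf.mp hPl ⟨v, hv⟩
          exact ⟨k, by rwa [Subgroup.orderOf_mk] at hk⟩
        have hcv := commute_of_le_centralizer hP hv
        have e1 : preg ℓ (t⁻¹ * x * t) = t⁻¹ * s * t := by
          have := preg_conj hℓ x t⁻¹
          rwa [inv_inv, hx] at this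
        rw [h', hcv.eq, preg_of_mul hℓ hcv.symm hv' hs] at e1
        have hts : Commute t s := by
          show t * s = s * t
          conv_lhs => rw [e1]
          group
        refine ⟨Subgroup.mem_centralizer_singleton_iff.mpr hts, ?_⟩
        have e2 : s * (t⁻¹ * u * t) = s * v := by
          rw [← h', hxsu]
          calc s * (t⁻¹ * u * t) = s * t⁻¹ * (u * t) := by group
            _ = t⁻¹ * s * (u * t) := by rw [(hts.inv_left).eq]
            _ = t⁻¹ * (s * u) * t := by group
        exact (mul_left_cancel e2).symm ▸ hv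
      · exact extendByZero_not_mem _ _ hm
  have key2 : ∀ t : C, extendByZero (MulAction.stabilizer C ((1 : C) : X)) (fun _ => (1 : ℂ))
      (t⁻¹ * u' * t) = if (t : G)⁻¹ * u * t ∈ P then 1 else 0 := by
    intro t
    have hiff : t⁻¹ * u' * t ∈ MulAction.stabilizer C ((1 : C) : X) ↔
        (t : G)⁻¹ * u * t ∈ P := by
      rw [hstab, Subgroup.mem_subgroupOf]; rfl
    split_ifs with h
    · exact extendByZero_mem _ _ (hiff.mpr h)
    · exact extendByZero_not_mem _ _ (fun h' => h (hiff.mp h'))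
  simp only [key, key2]
  have hsum : ∑ t : G, (if t ∈ C ∧ t⁻¹ * u * t ∈ P then (orderOf s : ℂ) else 0) =
      (orderOf s : ℂ) * ∑ t : C, if (t : G)⁻¹ * u * t ∈ P then (1 : ℂ) else 0 := by
    simp only [Finset.mul_sum, mul_ite, mul_one, mul_zero, ite_and]
    rw [← Finset.sum_filter]
    exact Finset.sum_subtype _ (by simp) _
  rw [hsum]
  field_simp

theorem isClassFunction_secInd (hℓ : ℓ.Prime) (s : G) : IsClassFunction G (secInd ℓ s) := by
  classical
  intro g k
  simp only [secInd, preg_conj hℓ]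
  exact if_congr ⟨fun h => h.trans (isConj_iff.mpr ⟨k⁻¹, by simp [mul_assoc]⟩),
    fun h => h.trans (isConj_iff.mpr ⟨k, rfl⟩)⟩ rfl rfl

/-- A power of the induced coset function approximates the section indicator. -/
theorem secInd_approx (hM : IsPModular ℓ M) {s : G} (hs : ¬ ℓ ∣ orderOf s) :
    ∃ (P : Subgroup G) (N : ℕ), P ≤ Subgroup.centralizer ({s} : Set G) ∧ IsPGroup ℓ P ∧
      ∀ x, ∃ y, MemLocalRing M y ∧
        indFun (elemSub s P) (cosetFun s P (elemSub s P)) x ^ (N + 1) - secInd ℓ s x =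
          (ℓ : ℂ) ^ (Nat.card G).factorization ℓ * y := by
  classical
  have hP := pmod_prime hM
  obtain ⟨P, hPC, hPl, hidx⟩ := exists_sylow_centralizer hM.1 s
  set f := indFun (elemSub s P) (cosetFun s P (elemSub s P)) with hf
  set a := (Nat.card G).factorization ℓ with ha
  obtain ⟨N, hN⟩ : ∃ N, ℓ ^ a * (ℓ - 1) = N + 1 :=
    ⟨ℓ ^ a * (ℓ - 1) - 1, (Nat.sub_add_cancel (Nat.one_le_iff_ne_zero.mpr
      (mul_ne_zero (pow_ne_zero _ hM.1.ne_zero) (by have := hM.1.two_le; omega)))).symm⟩
  refine ⟨P, N, hPC, hPl, fun x => ?_⟩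
  by_cases hx : IsConj s (preg ℓ x)
  · obtain ⟨c, hc⟩ := isConj_iff.mp hx
    have hval : f x = f (c⁻¹ * x * c) := by
      have := (hf ▸ isClassFunction_indFun _ _ : IsClassFunction G f) (c⁻¹ * x * c) c
      rw [show c * (c⁻¹ * x * c) * c⁻¹ = x by group] at this
      exact this
    have hx' : preg ℓ (c⁻¹ * x * c) = s := by
      have := preg_conj hM.1 x c⁻¹
      rw [inv_inv] at this
      rw [this, ← hc]; group
    obtain ⟨n, hn, hfn⟩ := indFun_cosetFun_on hM.1 hs hPC hPl hidx hx'
    obtain ⟨z, hz⟩ := exists_pow_eq_one_add hM.1 hn a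
    refine ⟨(z : ℂ), memLR_intCast hP z, ?_⟩
    have hz' : (n : ℂ) ^ (N + 1) = 1 + (ℓ : ℂ) ^ a * (z : ℂ) := by
      rw [← hN]; exact_mod_cast hz
    rw [secInd, if_pos hx, ← hf, hval, hf, hfn, hz']
    ring
  · refine ⟨0, memLR_zero hP, ?_⟩
    rw [secInd, if_neg hx, indFun_cosetFun_off hM.1 hs hPC hPl hx,
      zero_pow (Nat.succ_ne_zero N)]
    ring

/-- The indicator function of an `ℓ`-section is a local-integral combination of characters. -/
theorem intComb_secInd (hM : IsPModular ℓ M) {s : G} (hs : ¬ ℓ ∣ orderOf s) :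
    IntComb M (secInd ℓ s) := by
  have hP := pmod_prime hM
  obtain ⟨P, N, hPC, hPl, happ⟩ := secInd_approx hM hs
  have := Fintype.ofFinite (elemSub s P)
  have hpow := intComb_pow hP
    (intComb_ind hP _ (intComb_cosetFun hM hs hPC hPl)) (N + 1)
  set g := indFun (elemSub s P) (cosetFun s P (elemSub s P)) ^ (N + 1) with hg
  have herr : IntComb M (g - secInd ℓ s) := intComb_of_dvd hM
    (fun a k => by simp only [Pi.sub_apply, hpow.1 a k, isClassFunction_secInd hM.1 s a k])
    (fun x => by simpa [hg] using happ x)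
  have := intComb_sub hP hpow herr
  rwa [sub_sub_cancel] at this

open scoped Classical in
theorem exists_preg_expansion (hℓ : ℓ.Prime) [Fintype (ConjClasses G)] :
    ∃ rep : ConjClasses G → G, ∀ a : G → ℂ, IsClassFunction G a →
      (fun x => a (preg ℓ x)) = ∑ c : ConjClasses G,
        if ¬ ℓ ∣ orderOf (rep c) then a (rep c) • secInd ℓ (rep c) else 0 := by
  choose rep hout using fun c : ConjClasses G => ConjClasses.exists_rep c
  refine ⟨rep, fun a ha => ?_⟩
  funext x
  rw [Finset.sum_apply, Finset.sum_eq_single (ConjClasses.mk (preg ℓ x))]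
  · have hconj : IsConj (rep (ConjClasses.mk (preg ℓ x))) (preg ℓ x) :=
      ConjClasses.mk_eq_mk_iff_isConj.mp (hout _)
    have hreg : ¬ ℓ ∣ orderOf (rep (ConjClasses.mk (preg ℓ x))) := by
      obtain ⟨k, hk⟩ := isConj_iff.mp hconj
      have := (preg_spec hℓ x).2.1
      rwa [← hk, ← MulAut.conj_apply, MulEquiv.orderOf_eq] at this
    rw [if_pos hreg, Pi.smul_apply, smul_eq_mul, secInd, if_pos hconj, mul_one]
    obtain ⟨k, hk⟩ := isConj_iff.mp hconj
    have h3 : a (preg ℓ x) = a (rep (ConjClasses.mk (preg ℓ x))) := by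
      conv_lhs => rw [← hk]
      exact ha _ _
    exact h3
  · intro c _ hc
    split_ifs
    · rfl
    · rw [Pi.smul_apply, secInd, if_neg, smul_zero]
      exact fun h => hc ((hout c).symm.trans (ConjClasses.mk_eq_mk_iff_isConj.mpr h))
  · exact fun h => absurd (Finset.mem_univ _) h

/-- A class function pulled back along `g ↦ g_{ℓ'}` is a local-integral combination of characters
when its values are local integers. -/
theorem intComb_preg (hM : IsPModular ℓ M) {a : G → ℂ} (ha : IsClassFunction G a)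
    (hv : ∀ x, MemLocalRing M (a x)) : IntComb M (fun x => a (preg ℓ x)) := by
  classical
  have := Fintype.ofFinite (ConjClasses G)
  have hP := pmod_prime hM
  obtain ⟨rep, hrep⟩ := exists_preg_expansion (G := G) hM.1
  rw [hrep a ha]
  refine intComb_sum hP _ _ fun c _ => ?_
  split_ifs with h
  · exact intComb_zero hP
  · exact intComb_smul hP (hv _) (intComb_secInd hM h)

end Cfsg.Agent.Char
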