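import Cfsg.Agent.Lib.Char.Height
import Cfsg.Agent.Lib.Char.Defect
import Cfsg.Agent.Lib.Char.Section

/-!
# The exact `p`-part of the dimension of a block
-/

set_option autoImplicit false

namespace Cfsg.Agent.Char

open Cfsg Module
open scoped ComplexConjugate

universe u

variable {G : Type u} [Group G] [Fintype G] {M : Ideal AlgInt} {p : ℕ}
  {B : Set (IrrCharacter G)}

open scoped Classical in
/-- The sum of squares of the degrees in a block is `|G|` times `p^m` times a local unit. -/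
theorem exists_unit_sum_sq (hM : IsPModular p M) (hB : IsPBlock M B) :
    ∃ t : ℂ, MemLocalRing M t ∧ ¬ MemLocalIdeal M t ∧
      ∑ χ : IrrCharacter G with χ ∈ B, (χ : G → ℂ) 1 * (χ : G → ℂ) 1 =
        (Nat.card G : ℂ) * ((p : ℂ) ^ dmin p B * t) := by
  have hP := pmod_prime hM
  have hp := hM.1
  have hG0 : (Nat.card G : ℂ) ≠ 0 := Nat.cast_ne_zero.mpr Nat.card_pos.ne'
  have hb := isClassFunction_blockCoeff B
  set a : G → ℂ := fun x => blockCoeff B x⁻¹ with ha
  have hac : IsClassFunction G a := fun g k => by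
    simp only [ha, mul_inv_rev, inv_inv, ← mul_assoc]; exact hb g⁻¹ k
  set H : G → ℂ := fun x => a (preg p x) with hH
  have hI : IntComb M H := intComb_preg hM hac fun x => memLR_blockCoeff hM hB _
  have hHreg : H * regInd p = a := by
    funext x
    by_cases hx : p ∣ orderOf x
    · rw [Pi.mul_apply, regInd_of_sing hx, mul_zero, ha]
      show 0 = blockCoeff B x⁻¹
      rw [blockCoeff, weak_orthogonality hM hB (by simp [hp.ne_one]) (by rwa [orderOf_inv]),
        mul_zero]
    · rw [Pi.mul_apply, regInd_of_reg hx, mul_one, hH]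
      show a (preg p x) = a x
      rw [preg_of_isPRegular hp hx]
  set y : IrrCharacter G → ℂ := fun θ => classInner H (θ : G → ℂ) with hy
  have hexp : ∀ χ : IrrCharacter G, (χ : G → ℂ) 1 * (if χ ∈ B then 1 else 0) =
      (Nat.card G : ℂ) * ∑ θ : IrrCharacter G, y θ * einner p (θ : G → ℂ) (χ : G → ℂ) := by
    intro χ
    have e1 : (Nat.card G : ℂ) * classInner a (χ : G → ℂ) =
        (χ : G → ℂ) 1 * (if χ ∈ B then 1 else 0) := by
      rw [classInner, mul_inv_cancel_left₀ hG0, ← lam_blockCoeff B χ, lam,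
        mul_div_cancel₀ _ (irr_one_ne_zero χ.2)]
      refine Fintype.sum_equiv (Equiv.inv G) _ _ fun x => ?_
      simp only [ha, Equiv.inv_apply]
      rw [← char_inv (irr_isCharacter χ.2)]
    rw [← e1, ← hHreg]
    congr 1
    conv_lhs => rw [classFun_expansion hI.1]
    rw [Finset.sum_mul, classInner_sum_left]
    refine Finset.sum_congr rfl fun θ _ => ?_
    rw [smul_mul_assoc, classInner_smul_left]
    rfl
  obtain ⟨χ0, hχ0, hd0⟩ := exists_dexp_eq_dmin (p := p) (block_nonempty hP hB)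
  have hn : ∀ θ : IrrCharacter G, ∃ n : ℕ, θ ∈ B →
      (θ : G → ℂ) 1 = (p : ℂ) ^ dmin p B * n := by
    intro θ
    by_cases hθ : θ ∈ B
    · obtain ⟨c, hc⟩ : p ^ dmin p B ∣ deg (θ : G → ℂ) :=
        (Nat.pow_dvd_pow p (dmin_le hθ)).trans (Nat.ordProj_dvd _ _)
      exact ⟨c, fun _ => by rw [char_one_eq_deg (irr_isCharacter θ.2), hc]; push_cast; rfl⟩
    · exact ⟨0, fun h => absurd h hθ⟩
  choose n hn using hn
  set t : ℂ := ∑ θ : IrrCharacter G with θ ∈ B, y θ * n θ with ht
  have htR : MemLocalRing M t := memLR_sum hP _ _ fun θ _ => memLR_mul hP (hI.2 θ) (memLR_natCast hP _)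
  have hzero : ∀ θ χ : IrrCharacter G, θ ∉ B → χ ∈ B →
      einner p (θ : G → ℂ) (χ : G → ℂ) = 0 := fun θ χ hθ hχ =>
    einner_eq_zero_of_not_sameBlock hM θ χ fun hs =>
      hθ ((mem_block_iff hP hB hχ θ).mpr (sameBlock_symm hP hs))
  refine ⟨t, htR, fun htM => ?_, ?_⟩
  · set U : IrrCharacter G → ℂ := fun θ => lam (θ : G → ℂ) (regConj p (χ0 : G → ℂ)) with hU
    have h1 := hexp χ0
    rw [if_pos hχ0, mul_one] at h1
    have h2 : ((n χ0 : ℂ)) = ∑ θ : IrrCharacter G with θ ∈ B, y θ * n θ * U θ := by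
      refine mul_left_cancel₀ (pow_ne_zero (dmin p B) (Nat.cast_ne_zero.mpr hp.ne_zero) :
        (p : ℂ) ^ dmin p B ≠ 0) ?_
      rw [← hn χ0 hχ0, h1, Finset.mul_sum, Finset.mul_sum, Finset.sum_filter]
      refine Finset.sum_congr rfl fun θ _ => ?_
      split_ifs with hθ
      · simp only [hU, lam_regConj]
        rw [hn θ hθ]
        have hθ1 := irr_one_ne_zero θ.2
        rw [hn θ hθ] at hθ1
        obtain ⟨hpm, hnθ⟩ := mul_ne_zero_iff.mp hθ1
        field_simp
      · rw [hzero θ χ0 hθ hχ0]; ring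
    have h3 : MemLocalIdeal M ((n χ0 : ℂ) - U χ0 * t) := by
      rw [h2, ht, Finset.mul_sum, ← Finset.sum_sub_distrib]
      refine memLI_sum hP _ _ fun θ hθ => ?_
      rw [show y θ * n θ * U θ - U χ0 * (y θ * n θ) = y θ * n θ * (U θ - U χ0) by ring]
      refine memLI_mul_left hP (memLR_mul hP (hI.2 θ) (memLR_natCast hP _)) ?_
      exact lam_congr hP θ.2 χ0.2
        (block_sameBlock hP hB (Finset.mem_filter.mp hθ).2 hχ0)
        (regConj_class (irr_isCharacter χ0.2)) (regConj_memLR hP (irr_isCharacter χ0.2))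
    have h4 : p ∣ n χ0 := (memLI_natCast_iff hM _).mp (memLI_congr hP h3
      (memLI_mul_left hP (memLR_lam hP χ0.2 (regConj_class (irr_isCharacter χ0.2))
        (regConj_memLR hP (irr_isCharacter χ0.2))) htM))
    have h5 : deg (χ0 : G → ℂ) = p ^ dmin p B * n χ0 := by
      have := hn χ0 hχ0
      rw [char_one_eq_deg (irr_isCharacter χ0.2)] at this
      exact_mod_cast this
    obtain ⟨c, hc, hdeg⟩ := deg_eq_pow_mul hp χ0.2
    rw [hd0] at hdeg
    exact hc (Nat.eq_of_mul_eq_mul_left (pow_pos hp.pos _) (hdeg.symm.trans h5) ▸ h4)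
  · rw [Finset.sum_congr rfl fun χ (hχ : χ ∈ Finset.univ.filter (· ∈ B)) => show
      (χ : G → ℂ) 1 * (χ : G → ℂ) 1 = (χ : G → ℂ) 1 *
        ((χ : G → ℂ) 1 * (if χ ∈ B then 1 else 0)) by rw [if_pos (Finset.mem_filter.mp hχ).2, mul_one]]
    simp only [hexp, Finset.mul_sum]
    rw [Finset.sum_comm, ht]
    simp only [Finset.mul_sum]
    rw [Finset.sum_filter]
    refine Finset.sum_congr rfl fun θ _ => ?_
    split_ifs with hθ
    · have hblk : B = blockOf M (θ : G → ℂ) := block_eq_blockOf hP hB hθ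
      have h6 := congrFun (sum_block_einner hM θ) 1
      rw [Pi.mul_apply, regInd_of_reg (by simp [hp.ne_one]), mul_one, Finset.sum_apply, ← hblk] at h6
      rw [show (Nat.card G : ℂ) * ((p : ℂ) ^ dmin p B * (y θ * n θ)) =
        (Nat.card G : ℂ) * y θ * ((p : ℂ) ^ dmin p B * n θ) by ring, ← hn θ hθ, h6, Finset.mul_sum]
      refine Finset.sum_congr rfl fun χ _ => ?_
      rw [Pi.smul_apply, smul_eq_mul]; ring
    · refine Finset.sum_eq_zero fun χ hχ => ?_
      rw [hzero θ χ hθ (Finset.mem_filter.mp hχ).2]; ring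

/-- The exact power of `p` dividing the sum of squares of the degrees in a block. -/
theorem factorization_sum_sq (hM : IsPModular p M) (hB : IsPBlock M B) :
    (∑ᶠ χ ∈ B, charDegree (χ : G → ℂ) ^ 2).factorization p =
      2 * (Nat.card G).factorization p - blockDefect p B := by
  classical
  have hP := pmod_prime hM
  have hp := hM.1
  obtain ⟨t, htR, htM, ht⟩ := exists_unit_sum_sq hM hB
  obtain ⟨g', hg', hcard⟩ := card_eq_pow_mul (G := G) hp
  have hsum := dmin_add_defect (p := p) (block_nonempty hP hB)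
  generalize hS : (∑ᶠ χ ∈ B, charDegree (χ : G → ℂ) ^ 2) = S
  have hSc : (S : ℂ) = ∑ χ : IrrCharacter G with χ ∈ B, (χ : G → ℂ) 1 * (χ : G → ℂ) 1 := by
    rw [← hS, finsum_mem_irr, Nat.cast_sum]
    refine Finset.sum_congr rfl fun χ _ => ?_
    rw [Nat.cast_pow, charDegree_eq_deg, ← char_one_eq_deg (irr_isCharacter χ.2), pow_two]
  generalize (Nat.card G).factorization p = a at hcard hsum ⊢
  have hu : MemLocalRing M ((g' : ℂ) * t) := memLR_mul hP (memLR_natCast hP _) htR
  have heq : (g' : ℂ) * t * (p : ℂ) ^ (a + dmin p B) = ((S : ℤ) : ℂ) := by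
    rw [Int.cast_natCast, hSc, ht, hcard, pow_add]; push_cast; ring
  have hd := int_dvd_of_local hM hu heq
  have hnd : ¬ (p : ℤ) ^ (a + dmin p B + 1) ∣ (S : ℤ) := fun h =>
    memLR_unit_mul_not hP (memLR_natCast hP _) htR (fun h' => hg' ((memLI_natCast_iff hM _).mp h'))
      htM ((int_dvd_succ_iff hM hu heq).mpr h)
  have hS0 : S ≠ 0 := fun h => hnd (by simp [h])
  rw [show 2 * a - blockDefect p B = a + dmin p B by omega]
  refine le_antisymm ?_ ?_
  · by_contra hlt
    exact hnd (by exact_mod_cast (hp.pow_dvd_iff_le_factorization hS0).mpr (not_le.mp hlt))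
  · exact (hp.pow_dvd_iff_le_factorization hS0).mp (by exact_mod_cast hd)

end Cfsg.Agent.Char
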