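import Cfsg.Agent.Lib.Char.LocalPairs
import Cfsg.Prelude.Def_BlockFusion
import Cfsg.Agent.Lib.Local.FS.Sat

/-!
# The fusion system of a block
-/

set_option autoImplicit false

namespace Cfsg.Agent.Char

open Cfsg Module
open scoped ComplexConjugate

universe u

variable {G : Type u} [Group G] [Fintype G] {M : Ideal AlgInt} {p : ℕ}

attribute [local irreducible] conjBlock blockCoeff subgroupBlockCoeff

theorem normalRel_conj_inv (hM : IsPModular p M) (x : G) {a b : BrauerPairIdx G}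
    (ha : IsPBlock M a.2) (h : NormalSubpairRel p M (conjIdx x a) b) :
    NormalSubpairRel p M a (conjIdx x⁻¹ b) := by
  have h1 : NormalSubpairRel p M (conjIdx x⁻¹ (conjIdx x a)) (conjIdx x⁻¹ b) :=
    normalSubpair_conj hM x⁻¹ h
  rwa [conjIdx_mul (pmod_prime hM) _ _ _ ha, inv_mul_cancel, conjIdx_one (pmod_prime hM) _ ha] at h1

omit [Fintype G] in
theorem card_conjIdx (x : G) (a : BrauerPairIdx G) : Nat.card (conjIdx x a).1 = Nat.card a.1 :=
  Subgroup.card_map_of_injective (MulEquiv.injective _)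

theorem centralizer_map_conj (Q : Subgroup G) (x : G) :
    Subgroup.centralizer ((Q.map (MulAut.conj x).toMonoidHom : Subgroup G) : Set G) =
      (Subgroup.centralizer (Q : Set G)).map (MulAut.conj x).toMonoidHom := by
  refine le_antisymm ?_ ?_
  · intro c hc
    refine ⟨x⁻¹ * c * x, (mem_centralizer_map x).mpr ?_, ?_⟩
    · rw [show x * (x⁻¹ * c * x) * x⁻¹ = c by group]; exact hc
    · show x * (x⁻¹ * c * x) * x⁻¹ = c
      group
  · rintro _ ⟨c, hc, rfl⟩
    exact (mem_centralizer_map x).mp hc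

theorem card_inf_centralizer_conj (R Q : Subgroup G) (x : G) :
    Nat.card (R.map (MulAut.conj x).toMonoidHom ⊓
        Subgroup.centralizer ((Q.map (MulAut.conj x).toMonoidHom : Subgroup G) : Set G) : Subgroup G) =
      Nat.card (R ⊓ Subgroup.centralizer (Q : Set G) : Subgroup G) := by
  rw [centralizer_map_conj, ← Subgroup.map_inf _ _ _ (MulEquiv.injective (MulAut.conj x)),
    Subgroup.card_map_of_injective (MulEquiv.injective _)]

omit [Fintype G] in
theorem inf_normalizer_inf_centralizer (P Q : Subgroup G) :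
    P ⊓ Subgroup.normalizer (Q : Set G) ⊓ Subgroup.centralizer (Q : Set G) =
      P ⊓ Subgroup.centralizer (Q : Set G) := by
  rw [inf_assoc, inf_eq_right.mpr (Subgroup.centralizer_le_normalizer (Q : Set G))]

theorem over_le_pairStab (hM : IsPModular p M) {Q : Subgroup G}
    {f : Set (IrrCharacter (Subgroup.centralizer (Q : Set G)))} {R : Subgroup G}
    {g : Set (IrrCharacter (Subgroup.centralizer (R : Set G)))} (h : IsNormalSubpair p M Q f R g) :
    R ≤ pairStab (pmod_prime hM) h.1.2 :=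
  fun x hx => (mem_pairStab _ h.1.2).mpr ⟨h.2.2.2.1 hx, h.2.2.2.2.1 x hx⟩

theorem isOver_pairStab (hM : IsPModular p M) {Q : Subgroup G}
    {f : Set (IrrCharacter (Subgroup.centralizer (Q : Set G)))} (hf : IsPBlock M f)
    {a : BrauerPairIdx G} (h : IsNormalSubpair p M Q f a.1 a.2) :
    IsOver p M (pairStab (pmod_prime hM) hf) Q f a :=
  ⟨h, over_le_pairStab hM h⟩

theorem maxOver_conj (hM : IsPModular p M) {Q : Subgroup G}
    {f : Set (IrrCharacter (Subgroup.centralizer (Q : Set G)))} (hf : IsPBlock M f) (x : G)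
    {d : BrauerPairIdx G} (hd : IsMaxOver p M (pairStab (pmod_prime hM) hf) Q f d) :
    IsMaxOver p M (pairStab (pmod_prime hM) (isPBlock_conjBlock x hf))
      (Q.map (MulAut.conj x).toMonoidHom) (conjBlock Q x f) (conjIdx x d) := by
  refine ⟨isOver_pairStab hM (isPBlock_conjBlock x hf) (normalSubpair_conj hM x hd.1.1), fun a ha => ?_⟩
  rw [card_conjIdx x d, ← card_conjIdx x⁻¹ a]
  exact hd.2 _ (isOver_pairStab hM hf (normalRel_conj_inv hM x (a := ⟨Q, f⟩) hf ha.1))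

variable {P Q : Subgroup G} {e : Set (IrrCharacter (Subgroup.centralizer (P : Set G)))}
  {f : Set (IrrCharacter (Subgroup.centralizer (Q : Set G)))}

omit [Fintype G] in
theorem isBrauerPair_of_le (hPe : IsBrauerPair p M P e) (h : SubpairLE p M Q f P e) :
    IsBrauerPair p M Q f :=
  subpair_rel_pair (a := (⟨Q, f⟩ : BrauerPairIdx G)) (b := ⟨P, e⟩) h hPe

theorem subpair_between (hM : IsPModular p M) (hPe : IsBrauerPair p M P e)
    (hQ : SubpairLE p M Q f P e) {R : Subgroup G}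
    {g : Set (IrrCharacter (Subgroup.centralizer (R : Set G)))} (hR : SubpairLE p M R g P e)
    (hQR : Q ≤ R) : SubpairLE p M Q f R g := by
  obtain ⟨f', ⟨hf', hf'R⟩, -⟩ := existsUnique_subpair hM (isBrauerPair_of_le hPe hR) hQR
  obtain rfl : f' = f := (existsUnique_subpair hM hPe (subpair_le hQ)).unique
    ⟨hf', hf'R.trans hR⟩ ⟨(isBrauerPair_of_le hPe hQ).2, hQ⟩
  exact hf'R

theorem over_below (hM : IsPModular p M) (hPe : IsBrauerPair p M P e) (hQ : SubpairLE p M Q f P e)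
    {R : Subgroup G} (hRP : R ≤ P) (hQR : Q ≤ R) (hRN : R ≤ Subgroup.normalizer (Q : Set G)) :
    ∃ g, IsNormalSubpair p M Q f R g ∧ SubpairLE p M R g P e := by
  obtain ⟨g, ⟨hg, hgP⟩, -⟩ := existsUnique_subpair hM hPe hRP
  obtain ⟨f0, hf0, -⟩ := existsUnique_normalSubpair hM (hPe.1.to_le hRP) hQR hRN hg
  obtain rfl : f0 = f := (existsUnique_subpair hM hPe (hQR.trans hRP)).unique
    ⟨hf0.1.2, Relation.ReflTransGen.head (a := (⟨Q, f0⟩ : BrauerPairIdx G)) (b := ⟨R, g⟩) hf0 hgP⟩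
    ⟨(isBrauerPair_of_le hPe hQ).2, hQ⟩
  exact ⟨g, hf0, hgP⟩

theorem over_normalizerIn (hM : IsPModular p M) (hPe : IsBrauerPair p M P e)
    (hQ : SubpairLE p M Q f P e) :
    ∃ g, IsNormalSubpair p M Q f (P ⊓ Subgroup.normalizer (Q : Set G)) g ∧
      SubpairLE p M (P ⊓ Subgroup.normalizer (Q : Set G)) g P e :=
  over_below hM hPe hQ inf_le_left (le_inf (subpair_le hQ) Subgroup.le_normalizer) inf_le_right

theorem conjIdx_fix_self (hM : IsPModular p M) (hPe : IsBrauerPair p M P e) {u : G} (hu : u ∈ P) :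
    conjIdx u (⟨P, e⟩ : BrauerPairIdx G) = ⟨P, e⟩ :=
  (conjIdx_eq_self_iff (pmod_prime hM) hPe.2 u).mpr
    ⟨Subgroup.le_normalizer hu, (isNormalSubpair_self hM hPe.1 hPe.2).2.2.2.2.1 u hu⟩

theorem rel_conj_fix (hM : IsPModular p M) (hPe : IsBrauerPair p M P e) {u : G} (hu : u ∈ P)
    {a : BrauerPairIdx G} (ha : Relation.ReflTransGen (NormalSubpairRel p M) a ⟨P, e⟩) :
    Relation.ReflTransGen (NormalSubpairRel p M) (conjIdx u a) ⟨P, e⟩ := by
  have h1 := subpair_rel_conj hM u ha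
  rwa [conjIdx_fix_self hM hPe hu] at h1

variable {B : Set (IrrCharacter G)}

theorem brauerPairOf_below (hM : IsPModular p M) (hmax : IsMaximalBrauerPair p M B P e)
    {a : BrauerPairIdx G} (ha : Relation.ReflTransGen (NormalSubpairRel p M) a ⟨P, e⟩) :
    IsBrauerPairOf p M B a.1 a.2 := (brauerPairOf_rel hM hmax.1.2.1 ha).mpr hmax.1

/-- A conjugate of `(Q, f)` below `(P, e)` whose normalizer in `P` is a largest pair above it. -/
theorem exists_fully (hM : IsPModular p M) (hmax : IsMaximalBrauerPair p M B P e)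
    (hQ : SubpairLE p M Q f P e) (hf : IsPBlock M f) :
    ∃ (d : BrauerPairIdx G) (x : G), IsMaxOver p M (pairStab (pmod_prime hM) hf) Q f d ∧
      Relation.ReflTransGen (NormalSubpairRel p M) (conjIdx x ⟨Q, f⟩) ⟨P, e⟩ ∧
      Relation.ReflTransGen (NormalSubpairRel p M) (conjIdx x d) ⟨P, e⟩ ∧
      P ⊓ Subgroup.normalizer ((Q.map (MulAut.conj x).toMonoidHom : Subgroup G) : Set G) =
        (conjIdx x d).1 := by
  have hPe := hmax.1.1
  have hctx := stabCtx_pairStab hM (isBrauerPair_of_le hPe hQ).1 hf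
  obtain ⟨d, hd⟩ := hctx.exists_maxOver hM
  have hrel : Relation.ReflTransGen (NormalSubpairRel p M) (⟨Q, f⟩ : BrauerPairIdx G) d :=
    Relation.ReflTransGen.single hd.1.1
  obtain ⟨x, hx⟩ := pairs_conj_into_maximal hM hmax
    ((brauerPairOf_rel hM hmax.1.2.1 hrel).mp (brauerPairOf_below hM hmax (a := ⟨Q, f⟩) hQ))
  have hxQ := (subpair_rel_conj hM x hrel).trans hx
  refine ⟨d, x, hd, hxQ, hx, ?_⟩
  have hmx := maxOver_conj hM hf x hd
  obtain ⟨g, hg, -⟩ := over_normalizerIn hM hPe (Q := Q.map (MulAut.conj x).toMonoidHom)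
    (f := conjBlock Q x f) hxQ
  refine (Subgroup.eq_of_le_of_card_ge ?_ ?_).symm
  · exact le_inf (subpair_rel_le hx) hmx.1.1.2.2.2.1
  · exact hmx.2 _ (isOver_pairStab hM (isPBlock_conjBlock x hf)
      (a := ⟨P ⊓ Subgroup.normalizer ((Q.map (MulAut.conj x).toMonoidHom : Subgroup G) : Set G), g⟩) hg)

theorem card_le_maxOver_of_conj (hM : IsPModular p M) (hPe : IsBrauerPair p M P e)
    (hf : IsPBlock M f) {d : BrauerPairIdx G}
    (hd : IsMaxOver p M (pairStab (pmod_prime hM) hf) Q f d) (hQ : IsPGroup p Q) (g : G)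
    (hg : Relation.ReflTransGen (NormalSubpairRel p M) (conjIdx g ⟨Q, f⟩) ⟨P, e⟩) :
    Nat.card (P ⊓ Subgroup.normalizer ((Q.map (MulAut.conj g).toMonoidHom : Subgroup G) : Set G) :
        Subgroup G) ≤ Nat.card d.1 ∧
    Nat.card (P ⊓ Subgroup.centralizer ((Q.map (MulAut.conj g).toMonoidHom : Subgroup G) : Set G) :
        Subgroup G) ≤ Nat.card (d.1 ⊓ Subgroup.centralizer (Q : Set G) : Subgroup G) := by
  obtain ⟨r, hr, -⟩ := over_normalizerIn hM hPe (Q := Q.map (MulAut.conj g).toMonoidHom)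
    (f := conjBlock Q g f) hg
  have hm := maxOver_conj hM hf g hd
  constructor
  · rw [← card_conjIdx g d]
    have h1 := isOver_pairStab hM (isPBlock_conjBlock g hf)
      (a := (⟨P ⊓ Subgroup.normalizer ((Q.map (MulAut.conj g).toMonoidHom : Subgroup G) : Set G), r⟩ :
        BrauerPairIdx G)) hr
    exact hm.2 _ h1
  · rw [← card_inf_centralizer_conj d.1 Q g, ← inf_normalizer_inf_centralizer P]
    have hctx := stabCtx_pairStab hM (hQ.map (MulAut.conj g).toMonoidHom) (isPBlock_conjBlock g hf)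
    exact hctx.card_inf_le_max hM (a := (⟨P ⊓ Subgroup.normalizer
      ((Q.map (MulAut.conj g).toMonoidHom : Subgroup G) : Set G), r⟩ : BrauerPairIdx G))
      (d := conjIdx g d) hr hm

variable {F : FusionSystem P}

theorem bfs_isConj_iff (hM : IsPModular p M) (hF : IsBlockFusionSystemOn p M B P e F)
    (hQ : SubpairLE p M Q f P e) {Q' : Subgroup G} :
    F.IsConj Q Q' ↔ ∃ g : G,
      Relation.ReflTransGen (NormalSubpairRel p M) (conjIdx g ⟨Q, f⟩) ⟨P, e⟩ ∧
        Q.map (MulAut.conj g).toMonoidHom = Q' := by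
  have hPe := hF.1.1.1
  constructor
  · rintro ⟨φ, hφ, rfl⟩
    obtain ⟨hQP, g, hg, -, f', hf', hgf'⟩ := (hF.2 Q φ).mp hφ
    obtain rfl : f' = f := (existsUnique_subpair hM hPe hQP).unique
      ⟨(isBrauerPair_of_le hPe hf').2, hf'⟩ ⟨(isBrauerPair_of_le hPe hQ).2, hQ⟩
    refine ⟨g, hgf', le_antisymm ?_ ?_⟩
    · rintro _ ⟨u, hu, rfl⟩
      exact ⟨⟨u, hu⟩, hg ⟨u, hu⟩⟩
    · rintro _ ⟨u, rfl⟩
      exact ⟨u, u.2, (hg u).symm⟩
  · rintro ⟨g, hg, rfl⟩
    refine ⟨conjHom Q g, (hF.2 Q _).mpr ⟨subpair_le hQ, g, fun u => rfl,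
      subpair_rel_le hg, f, hQ, hg⟩, le_antisymm ?_ ?_⟩
    · rintro _ ⟨u, rfl⟩
      exact ⟨u, u.2, rfl⟩
    · rintro _ ⟨u, hu, rfl⟩
      exact ⟨⟨u, hu⟩, rfl⟩

theorem fullyNormalized_iff (hM : IsPModular p M) (hF : IsBlockFusionSystemOn p M B P e F)
    (hQ : SubpairLE p M Q f P e) (hf : IsPBlock M f) {d : BrauerPairIdx G}
    (hd : IsMaxOver p M (pairStab (pmod_prime hM) hf) Q f d) :
    F.IsFullyNormalized Q ↔
      Nat.card d.1 ≤ Nat.card (P ⊓ Subgroup.normalizer (Q : Set G) : Subgroup G) := by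
  have hPe := hF.1.1.1
  have hQp := (isBrauerPair_of_le hPe hQ).1
  constructor
  · rintro ⟨-, h⟩
    obtain ⟨d', x, hd', hx, -, heq⟩ := exists_fully hM hF.1 hQ hf
    have h1 := h _ ((bfs_isConj_iff hM hF hQ).mpr ⟨x, hx, rfl⟩)
    simp only [FusionSystem.normalizerIn] at h1
    rw [heq, card_conjIdx] at h1
    exact (hd'.2 d hd.1).trans h1
  · refine fun hle => ⟨subpair_le hQ, fun Q' hQ' => ?_⟩
    obtain ⟨g, hg, rfl⟩ := (bfs_isConj_iff hM hF hQ).mp hQ'
    exact ((card_le_maxOver_of_conj hM hPe hf hd hQp g hg).1).trans hle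

theorem fullyCentralized_iff (hM : IsPModular p M) (hF : IsBlockFusionSystemOn p M B P e F)
    (hQ : SubpairLE p M Q f P e) (hf : IsPBlock M f) :
    F.IsFullyCentralized Q ↔ IsDefectGroup p M f
      ((P ⊓ Subgroup.centralizer (Q : Set G)).subgroupOf (Subgroup.centralizer (Q : Set G))) := by
  have hPe := hF.1.1.1
  have hQp := (isBrauerPair_of_le hPe hQ).1
  obtain ⟨d, x, hd, hx, -, heq⟩ := exists_fully hM hF.1 hQ hf
  obtain ⟨g0, hg0, -⟩ := over_normalizerIn hM hPe hQ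
  have key := (stabCtx_pairStab hM hQp hf).inf_defect_iff hM (a := ⟨_, g0⟩) hg0 hd
  rw [inf_normalizer_inf_centralizer] at key
  rw [key]
  constructor
  · rintro ⟨-, h⟩
    have h1 := h _ ((bfs_isConj_iff hM hF hQ).mpr ⟨x, hx, rfl⟩)
    simp only [FusionSystem.centralizerIn] at h1
    rw [← inf_normalizer_inf_centralizer P, heq] at h1
    exact (card_inf_centralizer_conj d.1 Q x).ge.trans h1
  · refine fun hle => ⟨subpair_le hQ, fun Q' hQ' => ?_⟩
    obtain ⟨g, hg, rfl⟩ := (bfs_isConj_iff hM hF hQ).mp hQ'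
    exact ((card_le_maxOver_of_conj hM hPe hf hd hQp g hg).2).trans hle

theorem centric_iff (hM : IsPModular p M) (hF : IsBlockFusionSystemOn p M B P e F)
    (hQ : SubpairLE p M Q f P e) (hf : IsPBlock M f) :
    F.IsCentric Q ↔ IsDefectGroup p M f
      ((Q ⊓ Subgroup.centralizer (Q : Set G)).subgroupOf (Subgroup.centralizer (Q : Set G))) := by
  have hPe := hF.1.1.1
  have hQp := (isBrauerPair_of_le hPe hQ).1
  obtain ⟨d, x, hd, hx, -, heq⟩ := exists_fully hM hF.1 hQ hf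
  have key := (stabCtx_pairStab hM hQp hf).inf_defect_iff hM (a := ⟨Q, f⟩)
    (isNormalSubpair_self hM hQp hf) hd
  rw [key]
  constructor
  · rintro ⟨-, h⟩
    have h1 := h _ ((bfs_isConj_iff hM hF hQ).mpr ⟨x, hx, rfl⟩)
    simp only [FusionSystem.centralizerIn] at h1
    have h2 := Subgroup.card_le_of_le (le_inf h1 inf_le_right)
    rw [← inf_normalizer_inf_centralizer P, heq, card_inf_centralizer_conj Q Q x] at h2
    exact (card_inf_centralizer_conj d.1 Q x).ge.trans h2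
  · refine fun hle => ⟨subpair_le hQ, fun Q' hQ' => ?_⟩
    obtain ⟨g, hg, rfl⟩ := (bfs_isConj_iff hM hF hQ).mp hQ'
    have h1 := ((card_le_maxOver_of_conj hM hPe hf hd hQp g hg).2).trans hle
    rw [← card_inf_centralizer_conj Q Q g] at h1
    have h2 : Q.map (MulAut.conj g).toMonoidHom ≤ P := subpair_rel_le hg
    exact ((Subgroup.eq_of_le_of_card_ge (inf_le_inf_right _ h2) h1).symm.le).trans inf_le_left

/-- The fusion system of a block. -/
def blockFusion (hM : IsPModular p M) (hmax : IsMaximalBrauerPair p M B P e) : FusionSystem P where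
  Hom Q := {φ | Q ≤ P ∧ ∃ g : G, (∀ u : Q, φ u = g * (u : G) * g⁻¹) ∧
    Q.map (MulAut.conj g).toMonoidHom ≤ P ∧
    ∃ f : Set (IrrCharacter (Subgroup.centralizer (Q : Set G))),
      SubpairLE p M Q f P e ∧
        SubpairLE p M (Q.map (MulAut.conj g).toMonoidHom) (conjBlock Q g f) P e}
  le_of_mem := by
    rintro R φ ⟨hR, g, hg, hmap, -⟩
    exact ⟨hR, fun x => by rw [hg x]; exact hmap ⟨x, x.2, rfl⟩⟩
  injective_of_mem := by
    rintro R φ ⟨-, g, hg, -⟩ a b hab
    exact Subtype.ext (mul_left_cancel (mul_right_cancel (((hg a).symm.trans hab).trans (hg b))))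
  conj_mem := by
    intro R g hR hg
    obtain ⟨f, ⟨-, hf⟩, -⟩ := existsUnique_subpair hM hmax.1.1 hR
    have h1 := rel_conj_fix hM hmax.1.1 hg (a := ⟨R, f⟩) hf
    exact ⟨hR, g, fun u => rfl, subpair_rel_le h1, f, hf, h1⟩
  comp_mem := by
    rintro R R' φ ψ ⟨hR, g, hg, -, f, hf, hgf⟩ ⟨-, k, hk, -, f', hf', hkf'⟩ h
    have hle : R.map (MulAut.conj g).toMonoidHom ≤ R' := by
      rintro _ ⟨u, hu, rfl⟩
      show g * u * g⁻¹ ∈ R'
      rw [← hg ⟨u, hu⟩]
      exact h ⟨u, hu⟩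
    have h1 := subpair_rel_conj hM k
      (subpair_between hM hmax.1.1 hgf hf' hle :
        Relation.ReflTransGen (NormalSubpairRel p M) (conjIdx g ⟨R, f⟩) ⟨R', f'⟩)
    have e1 := conjIdx_mul (pmod_prime hM) k g (⟨R, f⟩ : BrauerPairIdx G)
      (isBrauerPair_of_le hmax.1.1 hf).2
    have h2 : Relation.ReflTransGen (NormalSubpairRel p M) (conjIdx (k * g) ⟨R, f⟩) ⟨P, e⟩ :=
      e1 ▸ h1.trans hkf'
    refine ⟨hR, k * g, fun u => ?_, subpair_rel_le h2, f, hf, h2⟩
    show ψ (φ.codRestrict R' h u) = _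
    rw [hk]
    show k * φ u * k⁻¹ = _
    rw [hg]
    group
  inv_mem := by
    rintro R φ ⟨hR, g, hg, hmap, f, hf, hgf⟩
    have hrange : φ.range = R.map (MulAut.conj g).toMonoidHom := by
      refine le_antisymm ?_ ?_
      · rintro _ ⟨u, rfl⟩
        exact ⟨u, u.2, (hg u).symm⟩
      · rintro _ ⟨u, hu, rfl⟩
        exact ⟨⟨u, hu⟩, hg ⟨u, hu⟩⟩
    refine ⟨conjHom φ.range g⁻¹, ?_, fun x => ?_⟩
    · rw [hrange]
      have h1 : Relation.ReflTransGen (NormalSubpairRel p M)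
          (conjIdx g⁻¹ (conjIdx g ⟨R, f⟩)) ⟨P, e⟩ := by
        rw [conjIdx_mul (pmod_prime hM) _ _ _ (isBrauerPair_of_le hmax.1.1 hf).2, inv_mul_cancel,
          conjIdx_one (pmod_prime hM) _ (isBrauerPair_of_le hmax.1.1 hf).2]
        exact hf
      exact ⟨hmap, g⁻¹, fun u => rfl, subpair_rel_le h1, conjBlock R g f, hgf, h1⟩
    · show g⁻¹ * φ x * g⁻¹⁻¹ = x
      rw [hg]
      group

theorem blockFusion_isOn (hM : IsPModular p M) (hmax : IsMaximalBrauerPair p M B P e) :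
    IsBlockFusionSystemOn p M B P e (blockFusion hM hmax) :=
  ⟨hmax, fun _ _ => Iff.rfl⟩

open Local.FS

theorem bfs_map_iff (hM : IsPModular p M) (hF : IsBlockFusionSystemOn p M B P e F)
    (hQ : SubpairLE p M Q f P e) {m : G → G} :
    Map F Q m ↔ ∃ g : G, (∀ u ∈ Q, m u = g * u * g⁻¹) ∧
      Relation.ReflTransGen (NormalSubpairRel p M) (conjIdx g ⟨Q, f⟩) ⟨P, e⟩ := by
  have hPe := hF.1.1.1
  constructor
  · rintro ⟨φ, hφ, he⟩
    obtain ⟨hQP, g, hg, -, f', hf', hgf'⟩ := (hF.2 Q φ).mp hφ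
    obtain rfl : f' = f := (existsUnique_subpair hM hPe hQP).unique
      ⟨(isBrauerPair_of_le hPe hf').2, hf'⟩ ⟨(isBrauerPair_of_le hPe hQ).2, hQ⟩
    exact ⟨g, fun u hu => by rw [← he ⟨u, hu⟩, hg], hgf'⟩
  · rintro ⟨g, hg, hgf⟩
    exact ⟨conjHom Q g, (hF.2 Q _).mpr ⟨subpair_le hQ, g, fun u => rfl, subpair_rel_le hgf, f, hQ, hgf⟩,
      fun u => (hg u u.2).symm⟩

omit [Fintype G] in
theorem im_conj_eq (Q : Subgroup G) {g : G} {m : G → G} (h : ∀ u ∈ Q, m u = g * u * g⁻¹) :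
    im Q m = Q.map (MulAut.conj g).toMonoidHom := by
  refine le_antisymm (im_le_iff.2 fun u hu => ?_) ?_
  · rw [h u hu]
    exact ⟨u, hu, rfl⟩
  · rintro _ ⟨u, hu, rfl⟩
    show g * u * g⁻¹ ∈ _
    rw [← h u hu]
    exact mem_im_of_mem hu

/-- The automorphisms of the system are those induced by the stabilizer of the pair. -/
theorem card_autGroup (hM : IsPModular p M) (hF : IsBlockFusionSystemOn p M B P e F)
    (hQ : SubpairLE p M Q f P e) (hf : IsPBlock M f) :
    Nat.card (F.autGroup Q) =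
      (Subgroup.centralizer (Q : Set G)).relIndex (pairStab (pmod_prime hM) hf) := by
  have hMp := pmod_prime hM
  have hPe := hF.1.1.1
  set T := pairStab hMp hf
  have hTN : T ≤ Subgroup.normalizer (Q : Set G) := fun u hu => ((mem_pairStab hMp hf).mp hu).1
  set θ : T →* MulAut Q := (Subgroup.normalizerMonoidHom Q).comp (Subgroup.inclusion hTN) with hθ
  have hθv : ∀ (t : T) (x : G) (hx : x ∈ Q), av (θ t) x = (t : G) * x * (t : G)⁻¹ :=
    fun t x hx => by rw [av_apply _ hx]; rfl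
  have hrange : θ.range = F.autGroup Q := by
    ext α
    rw [mem_autGroup_iff (subpair_le hQ), bfs_map_iff hM hF hQ]
    constructor
    · rintro ⟨t, rfl⟩
      refine ⟨t, fun u hu => hθv t u hu, ?_⟩
      rw [show conjIdx (t : G) (⟨Q, f⟩ : BrauerPairIdx G) = ⟨Q, f⟩ from t.2]
      exact hQ
    · rintro ⟨g, hg, hgf⟩
      have hgQ : Q.map (MulAut.conj g).toMonoidHom = Q := (im_conj_eq Q hg).symm.trans (im_av α)
      have hgT : g ∈ T := by
        refine (mem_pairStab hMp hf).mpr ⟨Subgroup.mem_normalizer_iff_map_conj_eq.mpr hgQ, ?_⟩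
        have h1 := subpair_between hM hPe (Q := Q.map (MulAut.conj g).toMonoidHom)
          (f := conjBlock Q g f) hgf hQ hgQ.le
        rcases first_step_rel hM (a := conjIdx g ⟨Q, f⟩) (b := ⟨Q, f⟩) h1 with h | ⟨c, hlt, -, hcb⟩
        · exact ((conjIdx_eq_self_iff hMp hf g).mp h).2
        · exact absurd (subpair_rel_le hcb) (hlt.trans_le' hgQ.ge).not_ge
      exact ⟨⟨g, hgT⟩, aut_ext fun x hx => by rw [hθv _ x hx, hg x hx]⟩
  rw [← hrange, ← Subgroup.index_ker, hθ, ← MonoidHom.comap_ker, Subgroup.normalizerMonoidHom_ker,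
    Subgroup.relIndex]
  rfl

theorem saturated (hM : IsPModular p M) (hF : IsBlockFusionSystemOn p M B P e F) :
    F.IsSaturated p := by
  haveI := Fact.mk hM.1
  have hMp := pmod_prime hM
  have hmax := hF.1
  have hPe := hmax.1.1
  intro Q0 hQ0
  obtain ⟨f0, ⟨hf0, hQf0⟩, -⟩ := existsUnique_subpair hM hPe hQ0
  obtain ⟨d0, x, hd0, hx, hxd, heq⟩ := exists_fully hM hmax hQf0 hf0
  refine ⟨Q0.map (MulAut.conj x).toMonoidHom, (bfs_isConj_iff hM hF hQf0).mpr ⟨x, hx, rfl⟩, ?_⟩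
  -- the fully normalized conjugate
  have hd := maxOver_conj hM hf0 x hd0
  set Q := Q0.map (MulAut.conj x).toMonoidHom with hQdef
  set f := conjBlock Q0 x f0 with hfdef
  have hQ : SubpairLE p M Q f P e := hx
  have hf : IsPBlock M f := isPBlock_conjBlock x hf0
  have hQP : Q ≤ P := subpair_rel_le hx
  set d := conjIdx x d0 with hddef
  have hQp := (isBrauerPair_of_le hPe hQ).1
  have hctx := stabCtx_pairStab hM hQp hf
  constructor
  · rw [fa_iff]
    refine ⟨hQP, autInducedBy_le_autGroup hQP, isPGroup_autS hPe.1, ?_⟩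
    have hS : Nat.card (autInducedBy P Q) = (Subgroup.centralizer (Q : Set G)).relIndex d.1 := by
      have h1 := card_autS_mul (S := P) (P := Q)
      simp only [FusionSystem.centralizerIn, FusionSystem.normalizerIn] at h1
      rw [← inf_normalizer_inf_centralizer P, heq, inf_comm,
        card_eq_inf_mul_relIndex (Subgroup.centralizer (Q : Set G)) d.1, mul_comm] at h1
      exact Nat.eq_of_mul_eq_mul_left Nat.card_pos h1
    have hA := card_autGroup hM hF hQ hf
    haveI := mulAut_finite_of_le hQP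
    have h2 := card_eq_inf_mul_relIndex (autInducedBy P Q) (F.autGroup Q)
    rw [inf_eq_left.mpr (autInducedBy_le_autGroup hQP), hS, hctx.maxOver_relIndex hM hd, hA] at h2
    intro hdvd
    have hne : (Subgroup.centralizer (Q : Set G)).relIndex (pairStab hMp hf) ≠ 0 :=
      Subgroup.index_ne_zero_of_finite
    have h3 := (hM.1.pow_dvd_iff_le_factorization hne).mp
      (((pow_succ _ _).dvd.trans (mul_dvd_mul_left _ hdvd)).trans (dvd_of_eq h2.symm))
    omega
  · refine receptive_iff.2 ⟨hQP, fun R m hm hmQ => ?_⟩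
    obtain ⟨fR, ⟨hfR, hR⟩, -⟩ := existsUnique_subpair hM hPe hm.le
    obtain ⟨g, hg, hgR⟩ := (bfs_map_iff hM hF hR).mp hm
    have hgRQ : R.map (MulAut.conj g).toMonoidHom = Q := (im_conj_eq R hg).symm.trans hmQ
    have hidx : conjIdx g (⟨R, fR⟩ : BrauerPairIdx G) = ⟨Q, f⟩ := by
      have h1 := subpair_between hM hPe (Q := R.map (MulAut.conj g).toMonoidHom)
        (f := conjBlock R g fR) hgR hQ hgRQ.le
      rcases first_step_rel hM (a := conjIdx g ⟨R, fR⟩) (b := ⟨Q, f⟩) h1 with h | ⟨c, hlt, -, hcb⟩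
      · exact h
      · exact absurd (subpair_rel_le hcb) (hlt.trans_le' hgRQ.ge).not_ge
    set N := Nf P R m with hN
    have hNP : N ≤ P := Nf_le.trans inf_le_left
    obtain ⟨eN, heN, heNP⟩ := over_below hM hPe hR hNP (le_Nf hm) (Nf_le.trans inf_le_right)
    have hover : NormalSubpairRel p M (⟨Q, f⟩ : BrauerPairIdx G) (conjIdx g ⟨N, eN⟩) := by
      rw [← hidx]
      exact normalSubpair_conj hM g heN
    have hQd : Q ≤ d.1 := hd.1.1.2.2.1
    set H := Subgroup.centralizer (Q : Set G) ⊔ d.1 with hH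
    have hHT : H ≤ pairStab hMp hf := sup_le hctx.cent hd.1.2
    have hH' : StabCtx p M Q f H := ⟨hQp, hf, hQd.trans le_sup_right, le_sup_left,
      fun u hu => hctx.stab u (hHT hu)⟩
    have hNH : (conjIdx g (⟨N, eN⟩ : BrauerPairIdx G)).1 ≤ H := by
      rintro _ ⟨u, hu, rfl⟩
      obtain ⟨huP, huN, h, hh, hhu⟩ := mem_Nf.mp hu
      have hact : ∀ y ∈ Q, g * u * g⁻¹ * y * (g * u * g⁻¹)⁻¹ = h * y * h⁻¹ := by
        intro y hy
        rw [← hgRQ] at hy
        obtain ⟨r, hr, rfl⟩ := hy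
        have h1 := hhu r hr
        rw [hg r hr, hg _ ((Subgroup.mem_normalizer_iff.mp huN r).mp hr)] at h1
        show g * u * g⁻¹ * (g * r * g⁻¹) * (g * u * g⁻¹)⁻¹ = h * (g * r * g⁻¹) * h⁻¹
        rw [← h1]; group
      have hgu : g * u * g⁻¹ ∈ Subgroup.normalizer (Q : Set G) := hover.2.2.2.1 ⟨u, hu, rfl⟩
      have hhN : h ∈ Subgroup.normalizer (Q : Set G) := by
        refine mem_normalizer_of_conj_mem hQP fun y hy => ?_
        rw [← hact y hy]
        exact (Subgroup.mem_normalizer_iff.mp hgu y).mp hy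
      have hhd : h ∈ d.1 := heq.le ⟨hh, hhN⟩
      have hc : h⁻¹ * (g * u * g⁻¹) ∈ Subgroup.centralizer (Q : Set G) := fun y hy => by
        have h2 := hact y hy
        calc y * (h⁻¹ * (g * u * g⁻¹)) = h⁻¹ * (h * y * h⁻¹) * (g * u * g⁻¹) := by group
          _ = h⁻¹ * (g * u * g⁻¹ * y * (g * u * g⁻¹)⁻¹) * (g * u * g⁻¹) := by rw [h2]
          _ = _ := by group
      show g * u * g⁻¹ ∈ H
      rw [show g * u * g⁻¹ = h * (h⁻¹ * (g * u * g⁻¹)) by group]
      exact mul_mem (Subgroup.mem_sup_right hhd) (Subgroup.mem_sup_left hc)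
    have hdH : IsMaxOver p M H Q f d :=
      ⟨⟨hd.1.1, le_sup_right⟩, fun a ha => hd.2 a ⟨ha.1, ha.2.trans hHT⟩⟩
    obtain ⟨k, hk, hkd⟩ := hH'.conj_into_max hM (a := conjIdx g ⟨N, eN⟩) ⟨hover, hNH⟩ hdH
    have hkP := hkd.trans (hxd : Relation.ReflTransGen (NormalSubpairRel p M) d ⟨P, e⟩)
    -- split off a part in `P`
    obtain ⟨n, hn, c, hc, rfl⟩ : ∃ n ∈ d.1, ∃ c ∈ Subgroup.centralizer (Q : Set G), n * c = k := by
      have hdN : d.1 ≤ Subgroup.normalizer ((Subgroup.centralizer (Q : Set G) : Subgroup G) : Set G) :=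
        fun u hu => (hctx.stab u (hd.1.2 hu)).2.1
      have h1 : k ∈ ((d.1 ⊔ Subgroup.centralizer (Q : Set G) : Subgroup G) : Set G) := by
        rw [sup_comm]; exact hk
      rw [Subgroup.coe_mul_of_left_le_normalizer_right _ _ hdN] at h1
      exact Set.mem_mul.mp h1
    have hcP : Relation.ReflTransGen (NormalSubpairRel p M) (conjIdx (c * g) ⟨N, eN⟩) ⟨P, e⟩ := by
      have h1 := rel_conj_fix hM hPe (u := n⁻¹) (inv_mem ((subpair_rel_le hxd : d.1 ≤ P) hn)) hkP
      have hg1 : IsPBlock M (conjIdx g (⟨N, eN⟩ : BrauerPairIdx G)).2 :=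
        isPBlock_conjBlock g heN.2.1.2
      rwa [conjIdx_mul hMp n⁻¹ (n * c) (conjIdx g ⟨N, eN⟩) hg1, inv_mul_cancel_left,
        conjIdx_mul hMp c g ⟨N, eN⟩ heN.2.1.2] at h1
    refine ⟨fun u => c * g * u * (c * g)⁻¹,
      (bfs_map_iff hM hF heNP).mpr ⟨c * g, fun u _ => rfl, hcP⟩, fun u hu => ?_⟩
    have h1 : g * u * g⁻¹ ∈ Q := hgRQ.le ⟨u, hu, rfl⟩
    rw [hg u hu]
    show c * g * u * (c * g)⁻¹ = g * u * g⁻¹
    rw [show c * g * u * (c * g)⁻¹ = c * (g * u * g⁻¹) * c⁻¹ by group, ← hc _ h1]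
    group

end Cfsg.Agent.Char
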