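import Cfsg.Agent.Lib.Char.BlockDim
import Cfsg.Agent.Lib.Char.ThirdMain
import Cfsg.Agent.Lib.Char.GaloisConj
import Mathlib

/-!
# Intersections of blocks for two primes, and Galois action on the principal block
-/

set_option autoImplicit false
set_option linter.unusedSectionVars false

namespace Cfsg.Agent.Char

open Cfsg
open scoped ComplexConjugate

universe u

variable {G : Type u} [Group G] [Fintype G] {M Mp Mq : Ideal AlgInt} {p q : ℕ}

theorem orderOf_ne_mul_of_no (hp : p.Prime) (hq : q.Prime) (hpq : p ≠ q)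
    (hno : ∀ g : G, orderOf g ≠ p * q) {z : G} (h1 : p ∣ orderOf z) (h2 : q ∣ orderOf z) :
    False := by
  obtain ⟨c, hc⟩ := ((Nat.coprime_primes hp hq).mpr hpq).mul_dvd_of_dvd_of_dvd h1 h2
  have hc0 : c ≠ 0 := by rintro rfl; simp [(orderOf_pos z).ne'] at hc
  refine hno (z ^ c) ?_
  rw [orderOf_pow' z hc0, hc, Nat.gcd_mul_left_left,
    Nat.mul_div_cancel _ (Nat.pos_of_ne_zero hc0)]

open scoped Classical in
/-- Two blocks for two primes are orthogonal between singular elements. -/
theorem sum_inter_eq_zero (hMp : IsPModular p Mp) (hMq : IsPModular q Mq) (hpq : p ≠ q)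
    (hno : ∀ g : G, orderOf g ≠ p * q) {Bp Bq : Set (IrrCharacter G)} (hBp : IsPBlock Mp Bp)
    (hBq : IsPBlock Mq Bq) {a b : G} (ha : p ∣ orderOf a) (hb : q ∣ orderOf b) :
    ∑ χ : IrrCharacter G with χ ∈ Bp ∧ χ ∈ Bq, (χ : G → ℂ) a * (χ : G → ℂ) b = 0 := by
  have hsum : ∑ z : G, (∑ χ : IrrCharacter G with χ ∈ Bp, (χ : G → ℂ) a * (χ : G → ℂ) z) *
      (∑ ψ : IrrCharacter G with ψ ∈ Bq, (ψ : G → ℂ) b * conj ((ψ : G → ℂ) z)) = 0 := by
    refine Finset.sum_eq_zero fun z _ => ?_
    by_cases hz : q ∣ orderOf z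
    · have hzp : ¬ p ∣ orderOf z := fun h => orderOf_ne_mul_of_no hMp.1 hMq.1 hpq hno h hz
      have h := weak_orthogonality hMp hBp (x := z⁻¹) (y := a) (by rwa [orderOf_inv]) ha
      rw [finsum_mem_irr] at h
      have h' := congrArg conj h
      rw [map_sum, map_zero] at h'
      rw [show ∑ χ : IrrCharacter G with χ ∈ Bp, (χ : G → ℂ) a * (χ : G → ℂ) z = 0 by
        rw [← h']
        refine Finset.sum_congr rfl fun χ _ => ?_
        rw [map_mul, Complex.conj_conj, char_inv (irr_isCharacter χ.2), Complex.conj_conj]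
        ring, zero_mul]
    · have h := weak_orthogonality hMq hBq (x := z) (y := b) hz hb
      rw [finsum_mem_irr] at h
      have h' := congrArg conj h
      rw [map_sum, map_zero] at h'
      rw [show ∑ ψ : IrrCharacter G with ψ ∈ Bq, (ψ : G → ℂ) b * conj ((ψ : G → ℂ) z) = 0 by
        rw [← h']
        exact Finset.sum_congr rfl fun χ _ => by rw [map_mul, Complex.conj_conj]; ring, mul_zero]
  simp only [Finset.sum_mul, Finset.mul_sum] at hsum
  rw [Finset.sum_comm] at hsum
  rw [Finset.sum_congr rfl fun χ _ => Finset.sum_comm] at hsum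
  have hG : (Nat.card G : ℂ) ≠ 0 := Nat.cast_ne_zero.mpr Nat.card_pos.ne'
  have e : ∀ χ ψ : IrrCharacter G, ∑ z : G, (χ : G → ℂ) a * (χ : G → ℂ) z *
      ((ψ : G → ℂ) b * conj ((ψ : G → ℂ) z)) =
      (Nat.card G : ℂ) * ((χ : G → ℂ) a * (ψ : G → ℂ) b) * if χ = ψ then 1 else 0 := fun χ ψ => by
    rw [← irrC_orth χ ψ, classInner]
    field_simp
    rw [Finset.mul_sum]
    exact Finset.sum_congr rfl fun z _ => by ring
  simp only [e, mul_ite, mul_one, mul_zero, Finset.sum_ite_eq, Finset.sum_ite_eq', Finset.mem_filter, Finset.mem_univ,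
    true_and] at hsum
  rw [← Finset.sum_filter, Finset.filter_filter] at hsum
  rw [← Finset.mul_sum, mul_eq_zero, or_iff_right hG] at hsum
  refine Eq.trans (Finset.sum_congr (Finset.filter_congr fun χ _ => and_comm) fun _ _ => rfl) hsum

open scoped Classical in
/-- The principal block is invariant under the Galois action. -/
theorem principalBlock_pow (hM : IsPModular p M) {k : ℕ} (hk : k.Coprime (Nat.card G))
    {χ ψ : IrrCharacter G} (hψ : ∀ g : G, (ψ : G → ℂ) g = (χ : G → ℂ) (g ^ k))
    (hχ : χ ∈ principalBlock M G) : ψ ∈ principalBlock M G := by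
  rw [← lam_regInd_unit_iff hM] at hχ ⊢
  have e : lam (ψ : G → ℂ) (regInd p) = lam (χ : G → ℂ) (regInd p) := by
    simp only [lam, hψ, one_pow]
    congr 1
    refine Fintype.sum_equiv (powCoprime (Nat.Coprime.symm hk)) _ _ fun g => ?_
    rw [powCoprime_apply]
    congr 1
    simp only [regInd, Nat.Coprime.orderOf_pow ((hk.coprime_dvd_right (orderOf_dvd_natCard g)).symm)]
  rwa [e]

theorem one_mem_principal (hM : IsPModular p M) :
    (⟨fun _ => 1, isIrrCharacter_one⟩ : IrrCharacter G) ∈ principalBlock M G :=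
  sameBlock_refl (pmod_prime hM) (fun _ : G => (1 : ℂ))

open scoped Classical in
/-- The parity/residue of the number of `p'`-degree characters: the sum of squares is divisible
by `p` when `p` divides the group order. -/
theorem dvd_sum_sq_principal (hM : IsPModular p M) (hpG : p ∣ Nat.card G) :
    p ∣ ∑ χ : IrrCharacter G with χ ∈ principalBlock M G, charDegree (χ : G → ℂ) ^ 2 := by
  have h1 := factorization_sum_sq hM (isPBlock_principalBlock (G := G) M)
  rw [finsum_mem_irr] at h1
  have ha : 0 < (Nat.card G).factorization p :=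
    hM.1.factorization_pos_of_dvd Nat.card_pos.ne' hpG
  have hd := dmin_add_defect (p := p) (block_nonempty (pmod_prime hM)
    (isPBlock_principalBlock (G := G) M))
  exact Nat.dvd_of_factorization_pos (by omega)

end Cfsg.Agent.Char
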