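import Cfsg.Agent.Lib.Char.SectionCount
import Cfsg.Agent.Lib.Char.ThirdMain
import Cfsg.Agent.Lib.Char.PrincipalBlock
import Cfsg.Agent.Lib.Char.RealBlock
import Cfsg.Agent.Lib.Char.Inflate

/-!
# Sets closed under linking, and orthogonality between different sections
-/

set_option autoImplicit false
set_option linter.unusedSectionVars false
set_option linter.style.haveILetI false

namespace Cfsg.Agent.Char

open Cfsg
open scoped ComplexConjugate

universe u

variable {G : Type u} [Group G] [Fintype G] {M : Ideal AlgInt} {p : ℕ}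

/-- A set of irreducible characters closed under linking has integral coefficients. -/
theorem memLR_blockCoeff_linked (hM : IsPModular p M) {A : Set (IrrCharacter G)}
    (hA : ∀ χ ∈ A, ∀ ψ ∉ A, einner p (χ : G → ℂ) (ψ : G → ℂ) = 0) (g : G) :
    MemLocalRing M (blockCoeff A g) := by
  classical
  have hP := pmod_prime hM
  haveI := Fact.mk hM.1
  set F := Finset.univ.filter fun χ : IrrCharacter G => χ ∈ A with hF
  let Φ : G → G → ℂ := fun h x => ∑ χ ∈ F, conj ((χ : G → ℂ) h) * (χ : G → ℂ) x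
  have hexp : ∀ χ ∈ F, ∀ x, ((χ : G → ℂ) * regInd p : G → ℂ) x =
      ∑ ψ ∈ F, einner p (χ : G → ℂ) (ψ : G → ℂ) * (ψ : G → ℂ) x := by
    intro χ hχ x
    rw [expansion_regInd (irr_isCharacter χ.2), Finset.sum_apply]
    refine (Finset.sum_subset (Finset.subset_univ F) fun ψ _ hψ => ?_).symm
    rw [Pi.smul_apply, hA χ (by simpa [hF] using hχ) ψ (by simpa [hF] using hψ), zero_smul]
  have hvan : ∀ h x : G, ¬ p ∣ orderOf h → p ∣ orderOf x → Φ h x = 0 := by
    intro h x hh hx
    calc Φ h x = ∑ ψ ∈ F, conj (((ψ : G → ℂ) * regInd p : G → ℂ) h) * (ψ : G → ℂ) x := by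
          refine Finset.sum_congr rfl fun ψ _ => ?_
          rw [Pi.mul_apply, regInd_of_reg hh, mul_one]
      _ = ∑ χ ∈ F, conj ((χ : G → ℂ) h) * ((χ : G → ℂ) * regInd p : G → ℂ) x := by
          refine (Finset.sum_congr rfl fun ψ hψ => by rw [hexp ψ hψ h]).trans
            (Eq.trans ?_ (Finset.sum_congr rfl fun χ hχ => by rw [hexp χ hχ x]).symm)
          simp only [map_sum, map_mul, einner_conj, Finset.mul_sum, Finset.sum_mul]
          rw [Finset.sum_comm]
          exact Finset.sum_congr rfl fun a _ => Finset.sum_congr rfl fun b _ => by ring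
      _ = 0 := by simp [regInd_of_sing hx]
  have hval : blockCoeff A g = (Nat.card G : ℂ)⁻¹ * Φ g 1 := by
    rw [blockCoeff, finsum_mem_irr]
    congr 1
    exact Finset.sum_congr rfl fun χ _ => mul_comm _ _
  by_cases hg : p ∣ orderOf g
  · have h0 : Φ g 1 = 0 := by
      have h1 := congrArg conj (hvan 1 g (by simp [hM.1.ne_one]) hg)
      rw [map_zero, map_sum] at h1
      rw [← h1]
      exact Finset.sum_congr rfl fun χ _ => by rw [map_mul, Complex.conj_conj, mul_comm]
    rw [hval, h0, mul_zero]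
    exact memLR_zero hP
  obtain ⟨P⟩ := (inferInstance : Nonempty (Sylow p G))
  haveI := Fintype.ofFinite (P : Subgroup G)
  choose n hn using fun χ : IrrCharacter G => classInner_natCast
    (isCharacter_comp (P : Subgroup G).subtype (irr_isCharacter χ.2))
    (isCharacter_one (G := (P : Subgroup G)))
  have hsum : Φ g 1 = (Nat.card (P : Subgroup G) : ℂ) * ∑ χ ∈ F, conj ((χ : G → ℂ) g) * n χ := by
    have h1 : ∑ v : (P : Subgroup G), Φ g v = Φ g 1 := by
      rw [Finset.sum_eq_single (1 : (P : Subgroup G))]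
      · rfl
      · intro v _ hv
        refine hvan g v hg ?_
        obtain ⟨k, hk⟩ := IsPGroup.iff_orderOf.mp P.2 v
        rcases k with _ | k
        · exact absurd (orderOf_eq_one_iff.mp (by simpa using hk)) hv
        · rw [Subgroup.orderOf_coe, hk]
          exact dvd_pow_self p (by omega)
      · exact fun h => absurd (Finset.mem_univ _) h
    rw [← h1, Finset.mul_sum, Finset.sum_comm]
    refine Finset.sum_congr rfl fun χ _ => ?_
    rw [← hn χ, classInner, ← Finset.mul_sum]
    have : (Nat.card (P : Subgroup G) : ℂ) ≠ 0 := Nat.cast_ne_zero.mpr Nat.card_pos.ne'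
    simp only [Function.comp_apply, Subgroup.coe_subtype, map_one, mul_one]
    field_simp
  have hcard : (Nat.card G : ℂ) = (Nat.card (P : Subgroup G) : ℂ) * (P : Subgroup G).index := by
    rw [← Nat.cast_mul, Subgroup.card_mul_index]
  have hP0 : (Nat.card (P : Subgroup G) : ℂ) ≠ 0 := Nat.cast_ne_zero.mpr Nat.card_pos.ne'
  rw [hval, hsum, hcard, mul_inv, mul_mul_mul_comm, inv_mul_cancel₀ hP0, one_mul]
  exact memLR_mul hP (memLR_inv_natCast hM P.not_dvd_index) (memLR_sum hP _ _ fun χ _ =>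
    memLR_mul hP (conj_char_memLR hP (irr_isCharacter χ.2) g) (memLR_natCast hP _))

/-- A set closed under linking is a union of blocks. -/
theorem mem_of_linked_closed (hM : IsPModular p M) {A : Set (IrrCharacter G)}
    (hA : ∀ χ ∈ A, ∀ ψ ∉ A, einner p (χ : G → ℂ) (ψ : G → ℂ) = 0) {χ ψ : IrrCharacter G}
    (hχ : χ ∈ A) (hs : SameBlock M (χ : G → ℂ) (ψ : G → ℂ)) : ψ ∈ A :=
  union_of_blocks (pmod_prime hM) (memLR_blockCoeff_linked hM hA) hχ hs

omit [Fintype G] in
theorem isPPart_conj [Finite G] {g z : G} (h : IsPPart p g z) (c : G) :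
    IsPPart p (c * g * c⁻¹) (c * z * c⁻¹) := by
  obtain ⟨w, hw, hcm, ⟨k, hk⟩, hreg⟩ := h
  refine ⟨c * w * c⁻¹, by rw [← hw]; group, ?_, ⟨k, ?_⟩, ?_⟩
  · simpa [MulAut.conj_apply] using hcm.map (MulAut.conj c)
  · rw [← hk, ← MulAut.conj_apply, MulEquiv.orderOf_eq]
  · rwa [← MulAut.conj_apply, MulEquiv.orderOf_eq]

open scoped Classical in
/-- The columns of a block at elements of different sections are orthogonal. -/
theorem sum_block_column_orth (hM : IsPModular p M) {B : Set (IrrCharacter G)} (hB : IsPBlock M B)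
    {g z h w : G} (hg : IsPPart p g z) (hh : IsPPart p h w) (hzw : ¬ IsConj z w) :
    ∑ χ : IrrCharacter G with χ ∈ B, conj ((χ : G → ℂ) h) * (χ : G → ℂ) g = 0 := by
  have hz : ∃ k : ℕ, orderOf z = p ^ k := by
    obtain ⟨_, _, _, hk, _⟩ := hg
    exact hk
  have h0 := blockPart_eq_zero_of_isPPart hM hz (intClassFun_classInd (G := G) (pmod_prime hM) h).1
    (fun u z' hu hzz' => by
      rw [classInd]
      refine if_neg fun hc => hzw ?_
      obtain ⟨c, hc⟩ := isConj_iff.mp hc
      have e := isPPart_unique hM.1 hu (hc ▸ isPPart_conj hh c)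
      exact hzz'.trans (e ▸ (isConj_iff.mpr ⟨c, rfl⟩ : IsConj w (c * w * c⁻¹)).symm))
    hB hg (IsConj.refl z)
  rw [blockPart_eq] at h0
  simp only [classInner_classInd _ (isClassFunction_character (irr_isCharacter (Subtype.prop _))),
    mul_assoc, ← Finset.mul_sum] at h0
  exact (mul_eq_zero.mp h0).resolve_left (inv_ne_zero (Nat.cast_ne_zero.mpr Nat.card_pos.ne'))

omit [Fintype G] in
/-- A character differs at `s` and `as` by twice an integer, `a` an involution. -/
theorem char_sub_even [Finite G] {χ : G → ℂ} (h : IsCharacter G χ) {a s : G} (ha : a * a = 1)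
    (hc : Commute a s) (hs : Odd (orderOf s)) :
    ∃ z : ℂ, IsIntegral ℤ z ∧ χ s - χ (a * s) = 2 * z := by
  obtain ⟨n, ρ, rfl⟩ := h
  obtain ⟨μ, hμ, htr, -⟩ := exists_eigenvalues ρ (a * s)
  obtain ⟨k, hk⟩ := hs
  have hpow : (a * s) ^ (2 * k + 2) = s := by
    rw [hc.mul_pow, show 2 * k + 2 = 2 * (k + 1) by ring, pow_mul, pow_two, ha, one_pow, one_mul,
      show 2 * (k + 1) = orderOf s + 1 by omega, pow_succ, pow_orderOf_eq_one, one_mul]
  have hord : (a * s) ^ (2 * (2 * k + 1)) = 1 := by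
    rw [hc.mul_pow, pow_mul, pow_two, ha, one_pow, one_mul, ← hk, mul_comm, pow_mul,
      pow_orderOf_eq_one, one_pow]
  have key : ∀ i, ∃ z : ℂ, IsIntegral ℤ z ∧ μ i ^ (2 * k + 2) - μ i = 2 * z := by
    intro i
    have h2 : (μ i ^ (2 * k + 1)) ^ 2 = 1 := by
      rw [← pow_mul, mul_comm]
      obtain ⟨d, hd⟩ := orderOf_dvd_of_pow_eq_one hord
      rw [hd, pow_mul, hμ i, one_pow]
    rcases sq_eq_one_iff.mp h2 with e | e
    · exact ⟨0, isIntegral_zero, by rw [pow_succ, e]; ring⟩
    · refine ⟨-μ i, ?_, by rw [pow_succ, e]; ring⟩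
      refine IsIntegral.neg (IsIntegral.of_pow (orderOf_pos (a * s)) ?_)
      rw [hμ i]
      exact isIntegral_one
  choose z hz hze using key
  refine ⟨∑ i, z i, IsIntegral.sum _ fun i _ => hz i, ?_⟩
  have h1 := htr (2 * k + 2)
  have h2 := htr 1
  rw [hpow] at h1
  simp only [pow_one] at h2
  rw [h1, h2, ← Finset.sum_sub_distrib, Finset.mul_sum]
  exact Finset.sum_congr rfl fun i _ => hze i

end Cfsg.Agent.Char
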