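import Cfsg.Agent.Lib.Char.BrauerStep

/-!
# Inclusion of Brauer pairs
-/

set_option autoImplicit false

namespace Cfsg.Agent.Char

open Cfsg Module
open scoped ComplexConjugate

universe u

variable {G : Type u} [Group G] [Fintype G] {M : Ideal AlgInt} {p : ℕ}

omit [Fintype G] in
theorem subpair_rel_le {a b : BrauerPairIdx G}
    (h : Relation.ReflTransGen (NormalSubpairRel p M) a b) : a.1 ≤ b.1 := by
  induction h with
  | refl => exact le_rfl
  | tail _ hbc ih => exact ih.trans hbc.2.2.1

omit [Fintype G] in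
theorem subpair_rel_pair {a b : BrauerPairIdx G}
    (h : Relation.ReflTransGen (NormalSubpairRel p M) a b) (hb : IsBrauerPair p M b.1 b.2) :
    IsBrauerPair p M a.1 a.2 := by
  induction h using Relation.ReflTransGen.head_induction_on with
  | refl => exact hb
  | head h _ _ => exact h.1

omit [Fintype G] in
theorem subpair_le {Q P : Subgroup G} {f : Set (IrrCharacter (Subgroup.centralizer (Q : Set G)))}
    {e : Set (IrrCharacter (Subgroup.centralizer (P : Set G)))} (h : SubpairLE p M Q f P e) :
    Q ≤ P := subpair_rel_le (a := ⟨Q, f⟩) (b := ⟨P, e⟩) h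

/-- A normal subpair of the top of a chain is one of every member above it. -/
theorem descend_rel (hM : IsPModular p M) {Q : Subgroup G}
    {f : Set (IrrCharacter (Subgroup.centralizer (Q : Set G)))} {a b : BrauerPairIdx G}
    (hab : Relation.ReflTransGen (NormalSubpairRel p M) a b) (hb : IsNormalSubpair p M Q f b.1 b.2)
    (hQ : Q ≤ a.1) : IsNormalSubpair p M Q f a.1 a.2 := by
  induction hab using Relation.ReflTransGen.head_induction_on with
  | refl => exact hb
  | head h _ ih => exact normalSubpair_between hM (ih (hQ.trans h.2.2.1)) h hQ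

theorem normalSubpair_same (hM : IsPModular p M) {Q : Subgroup G}
    {f g : Set (IrrCharacter (Subgroup.centralizer (Q : Set G)))}
    (h : IsNormalSubpair p M Q f Q g) : f = g :=
  (existsUnique_normalSubpair hM h.2.1.1 le_rfl Subgroup.le_normalizer h.2.1.2).unique h
    (isNormalSubpair_self hM h.2.1.1 h.2.1.2)

theorem first_step_rel (hM : IsPModular p M) {a b : BrauerPairIdx G}
    (h : Relation.ReflTransGen (NormalSubpairRel p M) a b) :
    a = b ∨ ∃ c : BrauerPairIdx G, a.1 < c.1 ∧ NormalSubpairRel p M a c ∧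
      Relation.ReflTransGen (NormalSubpairRel p M) c b := by
  induction h using Relation.ReflTransGen.head_induction_on with
  | refl => exact Or.inl rfl
  | @head a c hac hcb ih =>
    rcases (show a.1 ≤ c.1 from hac.2.2.1).lt_or_eq with hlt | heq
    · exact Or.inr ⟨c, hlt, hac, hcb⟩
    · obtain ⟨Q, f⟩ := a
      obtain ⟨R, g⟩ := c
      dsimp only at heq
      subst heq
      obtain rfl : f = g := normalSubpair_same hM hac
      exact ih

omit [Fintype G] in
theorem lt_inf_normalizer [Finite G] (hp : p.Prime) {Q P : Subgroup G} (hP : IsPGroup p P)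
    (h : Q < P) : Q < P ⊓ Subgroup.normalizer (Q : Set G) := by
  haveI := Fact.mk hp
  haveI : Group.IsNilpotent P := hP.isNilpotent
  have h1 : Q.subgroupOf P < ⊤ := by
    rw [lt_top_iff_ne_top, Ne, Subgroup.subgroupOf_eq_top]
    exact fun h' => h.not_ge h'
  obtain ⟨x, hx, hxQ⟩ := SetLike.exists_of_lt (normalizerCondition_of_isNilpotent (Q.subgroupOf P) h1)
  refine lt_of_le_of_ne (le_inf h.le Subgroup.le_normalizer) fun e => hxQ (Subgroup.mem_subgroupOf.mpr ?_)
  rw [e]
  refine Subgroup.mem_inf.mpr ⟨x.2, Subgroup.mem_normalizer_iff.mpr fun y => ?_⟩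
  have hn := Subgroup.mem_normalizer_iff.mp hx
  by_cases hy : y ∈ P
  · simpa [Subgroup.mem_subgroupOf] using hn ⟨y, hy⟩
  · refine ⟨fun hyQ => absurd (h.le hyQ) hy, fun hxy => absurd ?_ hy⟩
    have := P.mul_mem (P.mul_mem (P.inv_mem x.2) (h.le hxy)) x.2
    simpa [mul_assoc] using this

/-- Each subgroup of the group of a Brauer pair carries exactly one subpair. -/
theorem existsUnique_subpair (hM : IsPModular p M) {P Q : Subgroup G}
    {e : Set (IrrCharacter (Subgroup.centralizer (P : Set G)))} (hPe : IsBrauerPair p M P e)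
    (hQP : Q ≤ P) :
    ∃! f : Set (IrrCharacter (Subgroup.centralizer (Q : Set G))),
      IsPBlock M f ∧ SubpairLE p M Q f P e := by
  suffices key : ∀ n : ℕ, ∀ (P Q : Subgroup G)
      (e : Set (IrrCharacter (Subgroup.centralizer (P : Set G)))), IsBrauerPair p M P e → Q ≤ P →
      Nat.card P - Nat.card Q = n → ∃! f : Set (IrrCharacter (Subgroup.centralizer (Q : Set G))),
        IsPBlock M f ∧ SubpairLE p M Q f P e from key _ P Q e hPe hQP rfl
  intro n
  induction n using Nat.strong_induction_on with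
  | _ n ih =>
    intro P Q e hPe hQP hn
    rcases hQP.lt_or_eq with hlt | heq
    swap
    · subst heq
      refine ⟨e, ⟨hPe.2, Relation.ReflTransGen.refl⟩, fun f ⟨_, hf⟩ => ?_⟩
      rcases first_step_rel hM hf with h | ⟨c, hlt, -, hcb⟩
      · exact eq_of_heq (Sigma.mk.inj_iff.mp h).2
      · exact absurd (subpair_rel_le hcb) hlt.not_ge
    set N := P ⊓ Subgroup.normalizer (Q : Set G) with hN
    have hQN : Q < N := lt_inf_normalizer hM.1 hPe.1 hlt
    have hNP : N ≤ P := inf_le_left
    have hcard : ∀ {A B : Subgroup G}, A < B → Nat.card A < Nat.card B := fun {A B} hAB => by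
      refine lt_of_le_of_ne (Subgroup.card_le_of_le hAB.le) fun h => ?_
      exact hAB.ne (Subgroup.eq_of_le_of_card_ge hAB.le h.ge)
    obtain ⟨m, ⟨hm, hmP⟩, -⟩ := ih (Nat.card P - Nat.card N)
      (by have := hcard hQN; have := Subgroup.card_le_of_le hNP; omega) P N e hPe hNP rfl
    have hNp : IsPGroup p N := hPe.1.to_le hNP
    obtain ⟨f0, hf0, huniq⟩ := existsUnique_normalSubpair hM hNp hQN.le inf_le_right hm
    refine ⟨f0, ⟨hf0.1.2, Relation.ReflTransGen.head (a := (⟨Q, f0⟩ : BrauerPairIdx G)) (b := ⟨N, m⟩) hf0 hmP⟩, fun f ⟨_, hf⟩ => ?_⟩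
    rcases first_step_rel hM hf with h | ⟨⟨R, g⟩, hQR, hstep, hRP⟩
    · exact absurd (Sigma.mk.inj_iff.mp h).1 hlt.ne
    · have hRN : R ≤ N := le_inf (subpair_rel_le hRP) hstep.2.2.2.1
      dsimp only at hQR hstep
      obtain ⟨g', ⟨hg', hg'N⟩, -⟩ := ih (Nat.card N - Nat.card R)
        (by have := hcard hQR; have := Subgroup.card_le_of_le hNP
            have := Subgroup.card_le_of_le hRN; omega) N R m ⟨hNp, hm⟩ hRN rfl
      have hu := ih (Nat.card P - Nat.card R)
        (by have := hcard hQR; have := Subgroup.card_le_of_le hNP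
            have := Subgroup.card_le_of_le hRN; omega) P R e hPe (hRN.trans hNP) rfl
      obtain rfl : g = g' := hu.unique ⟨hstep.2.1.2, hRP⟩ ⟨hg', hg'N.trans hmP⟩
      have hd : IsNormalSubpair p M Q f0 R g :=
        descend_rel hM (a := ⟨R, g⟩) (b := ⟨N, m⟩) hg'N hf0 hQR.le
      exact (existsUnique_normalSubpair hM (hPe.1.to_le (hRN.trans hNP)) hQR.le
        hstep.2.2.2.1 hstep.2.1.2).unique hstep hd

theorem brauerPairOf_rel (hM : IsPModular p M) {B : Set (IrrCharacter G)} (hB : IsPBlock M B)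
    {a b : BrauerPairIdx G} (h : Relation.ReflTransGen (NormalSubpairRel p M) a b) :
    IsBrauerPairOf p M B a.1 a.2 ↔ IsBrauerPairOf p M B b.1 b.2 := by
  induction h with
  | refl => exact Iff.rfl
  | tail _ hbc ih => exact ih.trans (brauerPairOf_iff hM hB hbc)

theorem brauerPairOf_subpair (hM : IsPModular p M) {B : Set (IrrCharacter G)} (hB : IsPBlock M B)
    {Q P : Subgroup G} {f : Set (IrrCharacter (Subgroup.centralizer (Q : Set G)))}
    {e : Set (IrrCharacter (Subgroup.centralizer (P : Set G)))} (h : SubpairLE p M Q f P e) :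
    IsBrauerPairOf p M B Q f ↔ IsBrauerPairOf p M B P e :=
  brauerPairOf_rel hM hB (a := ⟨Q, f⟩) (b := ⟨P, e⟩) h

end Cfsg.Agent.Char
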