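import Cfsg.Agent.Lib.Char.CentralHom
import Cfsg.Agent.Lib.Char.Regular

/-!
# The Brauer homomorphism
-/

set_option autoImplicit false

namespace Cfsg.Agent.Char

open Cfsg Module
open scoped ComplexConjugate

universe u

variable {G : Type u} [Group G] [Fintype G] {M : Ideal AlgInt} {p : ℕ}

open scoped Classical in
/-- Sums of functions invariant under a `p`-group reduce to the fixed points modulo `M`. -/
theorem sum_centralizer_congr (hM : IsPModular p M) {P : Subgroup G} (hP : IsPGroup p P)
    (F : G → ℂ) (hF : ∀ x, MemLocalRing M (F x))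
    (hinv : ∀ u ∈ P, ∀ x, F (u * x * u⁻¹) = F x) :
    MemLocalIdeal M ((∑ x : G, F x) -
      ∑ x : G with x ∈ Subgroup.centralizer (P : Set G), F x) := by
  have hMp := pmod_prime hM
  haveI := Fact.mk hM.1
  let S : Setoid G :=
    { r := fun x y => ∃ u ∈ P, u * x * u⁻¹ = y
      iseqv :=
        { refl := fun x => ⟨1, P.one_mem, by simp⟩
          symm := fun {x y} h => by
            obtain ⟨u, hu, rfl⟩ := h
            exact ⟨u⁻¹, P.inv_mem hu, by group⟩
          trans := fun {x y z} h h' => by
            obtain ⟨u, hu, rfl⟩ := h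
            obtain ⟨v, hv, rfl⟩ := h'
            exact ⟨v * u, P.mul_mem hv hu, by group⟩ } }
  set C := Subgroup.centralizer (P : Set G)
  rw [show (∑ x : G, F x) - ∑ x : G with x ∈ C, F x = ∑ x : G with x ∉ C, F x by
    rw [← Finset.sum_filter_add_sum_filter_not Finset.univ (fun x => x ∈ C), add_sub_cancel_left]]
  rw [← Finset.sum_fiberwise (Finset.univ.filter fun x => x ∉ C) (fun x => Quotient.mk S x)]
  refine memLI_sum hMp _ _ fun q _ => ?_
  obtain ⟨x0, rfl⟩ := Quotient.exists_rep q
  set T := (Finset.univ.filter fun x => x ∉ C).filter fun x => Quotient.mk S x = Quotient.mk S x0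
  have hT : ∀ x ∈ T, F x = F x0 := by
    intro x hx
    obtain ⟨u, hu, e⟩ := Quotient.exact (Finset.mem_filter.mp hx).2
    rw [← e, hinv u hu]
  rw [Finset.sum_congr rfl hT, Finset.sum_const, nsmul_eq_mul]
  by_cases hne : T.Nonempty
  · obtain ⟨x1, hx1⟩ := hne
    obtain ⟨hx1C, hx1q⟩ := Finset.mem_filter.mp hx1
    have hx1C' : x1 ∉ C := (Finset.mem_filter.mp hx1C).2
    refine memLI_mul_right hMp ?_ (hF x0)
    refine (memLI_natCast_iff hM _).mpr ?_
    let A : MulAction P G := MulAction.compHom G
      (MonoidHom.comp (ConjAct.toConjAct : G ≃* ConjAct G).toMonoidHom P.subtype)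
    have hsm : ∀ (u : P) (x : G), A.smul u x = (u : G) * x * (u : G)⁻¹ := fun u x => rfl
    have hCiff : ∀ u ∈ P, ∀ x : G, u * x * u⁻¹ ∈ C ↔ x ∈ C := by
      intro u hu x
      constructor
      · intro h w hw
        have h1 := h (u * w * u⁻¹) (P.mul_mem (P.mul_mem hu hw) (P.inv_mem hu))
        calc w * x = u⁻¹ * (u * w * u⁻¹ * (u * x * u⁻¹)) * u := by group
          _ = u⁻¹ * (u * x * u⁻¹ * (u * w * u⁻¹)) * u := by rw [h1]
          _ = x * w := by group
      · intro h w hw
        have h1 := h (u⁻¹ * w * u) (P.mul_mem (P.mul_mem (P.inv_mem hu) hw) hu)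
        calc w * (u * x * u⁻¹) = u * (u⁻¹ * w * u * x) * u⁻¹ := by group
          _ = u * (x * (u⁻¹ * w * u)) * u⁻¹ := by rw [h1]
          _ = u * x * u⁻¹ * w := by group
    obtain ⟨k, hk⟩ := (letI := A; hP.card_orbit (α := G) x1)
    have hset : @MulAction.orbit P G A.toSMul x1 = (T : Set G) := by
      ext y
      rw [@MulAction.mem_orbit_iff P G A.toSMul]
      constructor
      · rintro ⟨u, hu⟩
        change A.smul u x1 = y at hu
        rw [hsm] at hu
        subst hu
        refine Finset.mem_coe.mpr (Finset.mem_filter.mpr ⟨Finset.mem_filter.mpr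
          ⟨Finset.mem_univ _, fun h => hx1C' ((hCiff u u.2 x1).mp h)⟩, ?_⟩)
        rw [← hx1q]
        exact (Quotient.sound (s := S) (⟨(u : G), u.2, rfl⟩ : ∃ v ∈ P, v * x1 * v⁻¹ = (u : G) * x1 * (u : G)⁻¹)).symm
      · intro hy
        obtain ⟨u, hu, e⟩ : S x1 y := Quotient.exact
          (hx1q.trans (Finset.mem_filter.mp (Finset.mem_coe.mp hy)).2.symm)
        exact ⟨⟨u, hu⟩, e⟩
    rw [hset, Nat.card_coe_set_eq, Set.ncard_coe_finset] at hk
    rw [hk]
    refine dvd_pow_self p fun hk0 => hx1C' fun w hw => ?_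
    rw [hk0, pow_zero, Finset.card_eq_one] at hk
    obtain ⟨z, hz⟩ := hk
    have h1 : x1 = z := Finset.mem_singleton.mp (hz ▸ hx1)
    have h2 : w * x1 * w⁻¹ ∈ T :=
      Finset.mem_filter.mpr ⟨Finset.mem_filter.mpr
        ⟨Finset.mem_univ _, fun h => hx1C' ((hCiff w hw x1).mp h)⟩,
          (Quotient.sound (s := S) ⟨w, hw, rfl⟩).symm.trans hx1q⟩
    rw [hz, Finset.mem_singleton, ← h1] at h2
    exact eq_mul_of_mul_inv_eq h2
  · rw [Finset.not_nonempty_iff_eq_empty.mp hne, Finset.card_empty, Nat.cast_zero, zero_mul]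
    exact memLI_zero hMp

open scoped Classical in
/-- Truncation to `C_G(P)`, on a subgroup. -/
noncomputable def brRes (P H : Subgroup G) (f : G → ℂ) : H → ℂ :=
  fun x => if (x : G) ∈ Subgroup.centralizer (P : Set G) then f x else 0

/-- The central character of `ξ` after the Brauer map at `P`. -/
noncomputable def brLam (P H : Subgroup G) [Fintype H] (ξ : H → ℂ) (f : G → ℂ) : ℂ :=
  lam ξ (brRes P H f)

omit [Fintype G] in
theorem conj_mem_centralizer_iff {P H : Subgroup G} (hHN : H ≤ Subgroup.normalizer (P : Set G))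
    (k : H) (x : G) : (k : G) * x * (k : G)⁻¹ ∈ Subgroup.centralizer (P : Set G) ↔
      x ∈ Subgroup.centralizer (P : Set G) := by
  have hk := Subgroup.mem_normalizer_iff.mp (hHN k.2)
  constructor
  · intro h w hw
    have h1 := h _ ((hk w).mp hw)
    calc w * x = (k : G)⁻¹ * (k * w * (k : G)⁻¹ * (k * x * (k : G)⁻¹)) * k := by group
      _ = (k : G)⁻¹ * (k * x * (k : G)⁻¹ * (k * w * (k : G)⁻¹)) * k := by rw [h1]
      _ = x * w := by group
  · intro h w hw
    have h1 : (k : G)⁻¹ * w * k ∈ P := (hk _).mpr (by simpa [mul_assoc] using hw)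
    calc w * (k * x * (k : G)⁻¹) = k * ((k : G)⁻¹ * w * k * x) * (k : G)⁻¹ := by group
      _ = k * (x * ((k : G)⁻¹ * w * k)) * (k : G)⁻¹ := by rw [h _ h1]
      _ = k * x * (k : G)⁻¹ * w := by group

omit [Fintype G] in
theorem isClassFunction_brRes {P H : Subgroup G} (hHN : H ≤ Subgroup.normalizer (P : Set G))
    {f : G → ℂ} (hf : IsClassFunction G f) : IsClassFunction H (brRes P H f) := by
  classical
  intro a k
  simp only [brRes, Subgroup.coe_mul, InvMemClass.coe_inv]
  rw [hf]
  exact if_congr (conj_mem_centralizer_iff hHN k a) rfl rfl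

theorem intClassFun_brRes (hM : M.IsPrime) {P H : Subgroup G}
    (hHN : H ≤ Subgroup.normalizer (P : Set G)) {f : G → ℂ} (hf : IsIntClassFun M f) :
    IsIntClassFun M (brRes P H f) := by
  classical
  refine ⟨isClassFunction_brRes hHN hf.1, fun x => ?_⟩
  simp only [brRes]
  split_ifs
  exacts [hf.2 _, memLR_zero hM]

/-- The Brauer map is multiplicative modulo `M`. -/
theorem brRes_conv (hM : IsPModular p M) {P H : Subgroup G} [Fintype H] (hP : IsPGroup p P)
    (hCH : Subgroup.centralizer (P : Set G) ≤ H) {f g : G → ℂ} (hf : IsIntClassFun M f)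
    (hg : IsIntClassFun M g) (x : H) :
    MemLocalIdeal M (brRes P H (conv f g) x - conv (brRes P H f) (brRes P H g) x) := by
  classical
  have hMp := pmod_prime hM
  set C := Subgroup.centralizer (P : Set G) with hC
  by_cases hx : (x : G) ∈ C
  · have hinv : ∀ u ∈ P, ∀ y, f (u * y * u⁻¹) * g ((u * y * u⁻¹)⁻¹ * x) = f y * g (y⁻¹ * x) := by
      intro u hu y
      have h1 : u * (x : G) = x * u := hx u hu
      rw [hf.1, show (u * y * u⁻¹)⁻¹ * (x : G) = u * (y⁻¹ * x) * u⁻¹ by
        calc (u * y * u⁻¹)⁻¹ * (x : G) = u * y⁻¹ * u⁻¹ * ((x : G) * u) * u⁻¹ := by group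
          _ = u * y⁻¹ * u⁻¹ * (u * x) * u⁻¹ := by rw [h1]
          _ = u * (y⁻¹ * x) * u⁻¹ := by group, hg.1]
    have h := sum_centralizer_congr hM hP (fun y => f y * g (y⁻¹ * (x : G)))
      (fun y => memLR_mul hMp (hf.2 _) (hg.2 _)) hinv
    convert h using 1
    rw [brRes, if_pos hx]
    congr 1
    simp only [conv, brRes]
    rw [Finset.sum_filter]
    refine Eq.trans ?_ (sum_extendByZero_mul H
      (fun y : H => if (y : G) ∈ C then f y * g ((y : G)⁻¹ * x) else 0) (fun _ => 1)).symm |>.trans ?_
    · refine Finset.sum_congr rfl fun y _ => ?_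
      rw [mul_one]
      by_cases hy : (y : G) ∈ C
      · rw [if_pos hy, if_pos hy, Subgroup.coe_mul, InvMemClass.coe_inv,
          if_pos (C.mul_mem (C.inv_mem hy) hx)]
      · rw [if_neg hy, if_neg hy, zero_mul]
    · refine Finset.sum_congr rfl fun y _ => ?_
      by_cases hy : y ∈ C
      · simp only [extendByZero_mem H _ (hCH hy), if_pos hy, mul_one, if_pos (show y ∈ Subgroup.centralizer (P : Set G) from hy)]
      · rw [if_neg hy, mul_one]
        by_cases hy' : y ∈ H
        · rw [extendByZero_mem H _ hy', if_neg hy]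
        · rw [extendByZero_not_mem H _ hy']
  · have e1 : brRes P H (conv f g) x = 0 := by rw [brRes, if_neg hx]
    have e2 : conv (brRes P H f) (brRes P H g) x = 0 := by
      refine Finset.sum_eq_zero fun y _ => ?_
      simp only [brRes, Subgroup.coe_mul, InvMemClass.coe_inv]
      by_cases hy : (y : G) ∈ C
      · rw [if_pos hy, if_neg (fun h => hx (by simpa using C.mul_mem hy h)), mul_zero]
      · rw [if_neg hy, zero_mul]
    rw [e1, e2, sub_self]
    exact memLI_zero hMp

/-- The Brauer map followed by a central character is a central homomorphism. -/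
theorem isCentralHom_brLam (hM : IsPModular p M) {P H : Subgroup G} [Fintype H] (hP : IsPGroup p P)
    (hCH : Subgroup.centralizer (P : Set G) ≤ H) (hHN : H ≤ Subgroup.normalizer (P : Set G))
    (ξ : IrrCharacter H) : IsCentralHom M (brLam P H (ξ : H → ℂ)) := by
  classical
  have hMp := pmod_prime hM
  refine ⟨fun f g => ?_, fun r f => ?_, fun f hf => ?_, fun f g hf hg => ?_, ?_, fun f hf hv => ?_⟩
  · simp only [brLam, ← lam_add]
    congr 1
    funext x
    simp only [brRes, Pi.add_apply]
    split_ifs <;> simp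
  · simp only [brLam, ← lam_smul]
    congr 1
    funext x
    simp only [brRes, Pi.smul_apply, smul_eq_mul]
    split_ifs <;> simp
  · exact memLR_lam hMp ξ.2 (isClassFunction_brRes hHN hf.1) (intClassFun_brRes hMp hHN hf).2
  · have h1 := intClassFun_brRes hMp hHN hf
    have h2 := intClassFun_brRes hMp hHN hg
    have h3 := intClassFun_brRes hMp hHN (intClassFun_conv hMp hf hg)
    simp only [brLam]
    rw [← lam_conv ξ.2 h1.1 h2.1, ← lam_sub]
    exact memLI_lam hMp ξ.2 (intClassFun_sub hMp h3 (intClassFun_conv hMp h1 h2)).1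
      fun x => brRes_conv hM hP hCH hf hg x
  · have e : brRes P H (delta : G → ℂ) = delta := by
      funext x
      simp only [brRes, delta_apply]
      by_cases hx : x = 1
      · rw [if_pos hx, if_pos (by rw [hx]; exact Subgroup.one_mem _), hx, Subgroup.coe_one, if_pos rfl]
      · have h1 : (x : G) ≠ 1 := fun h => hx (Subtype.ext h)
        rw [if_neg hx, if_neg h1, ite_self]
    rw [brLam, e, lam_delta ξ.2, sub_self]
    exact memLI_zero hMp
  · refine memLI_lam hMp ξ.2 (isClassFunction_brRes hHN hf.1) fun x => ?_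
    simp only [brRes]
    split_ifs
    exacts [hv _, memLI_zero hMp]

open scoped Classical in
/-- The indicator function of a conjugacy class. -/
noncomputable def classInd (g : G) : G → ℂ := fun x => if IsConj g x then 1 else 0

theorem intClassFun_classInd (hM : M.IsPrime) (g : G) : IsIntClassFun M (classInd g) := by
  classical
  refine ⟨fun a k => ?_, fun x => ?_⟩
  · exact if_congr ⟨fun h => h.trans (isConj_iff.mpr ⟨k⁻¹, by simp [mul_assoc]⟩),
      fun h => h.trans (isConj_iff.mpr ⟨k, rfl⟩)⟩ rfl rfl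
  · simp only [classInd]
    split_ifs
    exacts [memLR_one hM, memLR_zero hM]

theorem lam_classInd' {χ : G → ℂ} (hχ : IsClassFunction G χ) (g : G) :
    lam χ (classInd g) = omega χ g := by
  classical
  exact lam_classInd χ hχ g

theorem brauerCentralChar_eq (P H : Subgroup G) [Fintype H] (ξ : H → ℂ) (g : G) :
    brauerCentralChar P H ξ g = brLam P H ξ (classInd g) := by
  classical
  rw [brauerCentralChar, finsum_mem_eq_finite_toFinset_sum _ (Set.toFinite _), brLam, lam,
    Finset.sum_div]
  simp only [brRes, classInd, ← ite_and, ite_mul, one_mul, zero_mul, ite_div, zero_div,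
    ← Finset.sum_filter]
  refine Finset.sum_congr ?_ fun _ _ => rfl
  ext h
  simp [and_comm]

theorem inducedCentralChar_eq (H : Subgroup G) [Fintype H] (ξ : H → ℂ) (g : G) :
    inducedCentralChar H ξ g = lam ξ (fun x : H => classInd g (x : G)) := by
  classical
  rw [inducedCentralChar, finsum_mem_eq_finite_toFinset_sum _ (Set.toFinite _), lam, Finset.sum_div]
  simp only [classInd, ite_mul, one_mul, zero_mul, ite_div, zero_div, ← Finset.sum_filter]
  refine Finset.sum_congr ?_ fun _ _ => rfl
  ext h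
  simp

end Cfsg.Agent.Char
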