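import Cfsg.Agent.Lib.Char.BrauerMax

/-!
# Brauer pairs of a subgroup, read in the ambient group
-/

set_option autoImplicit false

namespace Cfsg.Agent.Char

open Cfsg Module
open scoped ComplexConjugate

universe u

variable {G : Type u} [Group G] {M : Ideal AlgInt} {p : ℕ}

theorem mem_centralizer_map_subtype {H : Subgroup G} {R : Subgroup H} (c : H) :
    c ∈ Subgroup.centralizer (R : Set H) ↔
      (c : G) ∈ Subgroup.centralizer ((R.map H.subtype : Subgroup G) : Set G) := by
  constructor
  · rintro h _ ⟨w, hw, rfl⟩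
    exact congrArg Subtype.val (h w hw)
  · intro h w hw
    exact Subtype.ext (h (w : G) ⟨w, hw, rfl⟩)

/-- The centralizer in `H` is the whole centralizer, when that lies in `H`. -/
def liftEquiv {H : Subgroup G} (R : Subgroup H)
    (hC : Subgroup.centralizer ((R.map H.subtype : Subgroup G) : Set G) ≤ H) :
    Subgroup.centralizer (R : Set H) ≃*
      Subgroup.centralizer ((R.map H.subtype : Subgroup G) : Set G) where
  toFun c := ⟨((c : H) : G), (mem_centralizer_map_subtype (c : H)).mp c.2⟩
  invFun c := ⟨⟨(c : G), hC c.2⟩, (mem_centralizer_map_subtype _).mpr c.2⟩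
  left_inv _ := rfl
  right_inv _ := rfl
  map_mul' _ _ := rfl

/-- A set of characters of a centralizer in `H`, read on the centralizer in `G`. -/
def liftBlock {H : Subgroup G} (R : Subgroup H)
    (g : Set (IrrCharacter (Subgroup.centralizer (R : Set H)))) :
    Set (IrrCharacter (Subgroup.centralizer ((R.map H.subtype : Subgroup G) : Set G))) :=
  {ξ' | ∃ ξ ∈ g, ∀ (c : Subgroup.centralizer (R : Set H))
      (c' : Subgroup.centralizer ((R.map H.subtype : Subgroup G) : Set G)),
      (c' : G) = ((c : H) : G) →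
        (ξ' : _ → ℂ) c' = (ξ : Subgroup.centralizer (R : Set H) → ℂ) c}

/-- A pair of a subgroup, read in the ambient group. -/
def liftIdx (H : Subgroup G) (a : BrauerPairIdx H) : BrauerPairIdx G :=
  ⟨a.1.map H.subtype, liftBlock a.1 a.2⟩

variable [Fintype G] {H : Subgroup G} [Fintype H]

theorem liftBlock_eq (R : Subgroup H)
    (hC : Subgroup.centralizer ((R.map H.subtype : Subgroup G) : Set G) ≤ H)
    [Fintype (Subgroup.centralizer (R : Set H))]
    [Fintype (Subgroup.centralizer ((R.map H.subtype : Subgroup G) : Set G))]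
    (g : Set (IrrCharacter (Subgroup.centralizer (R : Set H)))) :
    liftBlock R g = irrTransport (liftEquiv R hC).symm '' g := by
  ext ξ'
  constructor
  · rintro ⟨ξ, hξ, h⟩
    refine ⟨ξ, hξ, Subtype.ext (funext fun c' => ?_)⟩
    rw [irrTransport_apply]
    exact (h ((liftEquiv R hC).symm c') c' rfl).symm
  · rintro ⟨ξ, hξ, rfl⟩
    refine ⟨ξ, hξ, fun c c' h => ?_⟩
    rw [irrTransport_apply]
    exact congrArg _ ((MulEquiv.symm_apply_eq _).mpr (Subtype.ext h))

theorem isPBlock_liftBlock (R : Subgroup H)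
    (hC : Subgroup.centralizer ((R.map H.subtype : Subgroup G) : Set G) ≤ H)
    {g : Set (IrrCharacter (Subgroup.centralizer (R : Set H)))} (hg : IsPBlock M g) :
    IsPBlock M (liftBlock R g) := by
  haveI := Fintype.ofFinite (Subgroup.centralizer (R : Set H))
  haveI := Fintype.ofFinite (Subgroup.centralizer ((R.map H.subtype : Subgroup G) : Set G))
  rw [liftBlock_eq R hC]
  exact isPBlock_transport _ hg

theorem exists_preimage (R : Subgroup H)
    (hC : Subgroup.centralizer ((R.map H.subtype : Subgroup G) : Set G) ≤ H)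
    {g' : Set (IrrCharacter (Subgroup.centralizer ((R.map H.subtype : Subgroup G) : Set G)))}
    (hg : IsPBlock M g') :
    ∃ g : Set (IrrCharacter (Subgroup.centralizer (R : Set H))),
      IsPBlock M g ∧ liftBlock R g = g' := by
  haveI := Fintype.ofFinite (Subgroup.centralizer (R : Set H))
  haveI := Fintype.ofFinite (Subgroup.centralizer ((R.map H.subtype : Subgroup G) : Set G))
  refine ⟨irrTransport (liftEquiv R hC) '' g', isPBlock_transport _ hg, ?_⟩
  rw [liftBlock_eq R hC, Set.image_image,
    Set.image_congr fun χ _ => irrTransport_symm _ χ, Set.image_id']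

theorem subgroupBlockCoeff_lift (R : Subgroup H)
    (hC : Subgroup.centralizer ((R.map H.subtype : Subgroup G) : Set G) ≤ H)
    (g : Set (IrrCharacter (Subgroup.centralizer (R : Set H)))) (y : G) :
    subgroupBlockCoeff (Subgroup.centralizer ((R.map H.subtype : Subgroup G) : Set G))
        (liftBlock R g) y =
      extendByZero H (subgroupBlockCoeff (Subgroup.centralizer (R : Set H)) g) y := by
  haveI := Fintype.ofFinite (Subgroup.centralizer (R : Set H))
  haveI := Fintype.ofFinite (Subgroup.centralizer ((R.map H.subtype : Subgroup G) : Set G))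
  rw [subgroupBlockCoeff_eq, subgroupBlockCoeff_eq, liftBlock_eq R hC]
  by_cases hy : y ∈ Subgroup.centralizer ((R.map H.subtype : Subgroup G) : Set G)
  · rw [extendByZero_mem _ _ hy, extendByZero_mem _ _ (hC hy),
      extendByZero_mem _ _ ((mem_centralizer_map_subtype (⟨y, hC hy⟩ : H)).mpr hy),
      blockCoeff_transport]
    rfl
  · rw [extendByZero_not_mem _ _ hy]
    by_cases hyH : y ∈ H
    · rw [extendByZero_mem _ _ hyH,
        extendByZero_not_mem _ _ (fun h => hy ((mem_centralizer_map_subtype (⟨y, hyH⟩ : H)).mp h))]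
    · rw [extendByZero_not_mem _ _ hyH]

theorem brOne_lift_iff (R : Subgroup H)
    (hC : Subgroup.centralizer ((R.map H.subtype : Subgroup G) : Set G) ≤ H)
    {F : H → ℂ} {F' : G → ℂ}
    (hF : ∀ c : H, c ∈ Subgroup.centralizer (R : Set H) → F' (c : G) = F c)
    (g : Set (IrrCharacter (Subgroup.centralizer (R : Set H)))) :
    BrOne M (R.map H.subtype) F' (liftBlock R g) ↔ BrOne M R F g := by
  haveI := Fintype.ofFinite (Subgroup.centralizer (R : Set H))
  haveI := Fintype.ofFinite (Subgroup.centralizer ((R.map H.subtype : Subgroup G) : Set G))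
  rw [liftBlock_eq R hC]
  have key : ∀ ξ : IrrCharacter (Subgroup.centralizer (R : Set H)),
      brauerOmega (R.map H.subtype) F'
        (irrTransport (liftEquiv R hC).symm ξ :
          Subgroup.centralizer ((R.map H.subtype : Subgroup G) : Set G) → ℂ) =
      brauerOmega R F (ξ : Subgroup.centralizer (R : Set H) → ℂ) := by
    intro ξ
    rw [brauerOmega_eq, brauerOmega_eq]
    simp only [lam, irrTransport_apply, map_one]
    congr 1
    refine (Fintype.sum_equiv (liftEquiv R hC).toEquiv _ _ fun c => ?_).symm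
    simp only [MulEquiv.toEquiv_eq_coe, EquivLike.coe_coe, MulEquiv.symm_apply_apply, tr_apply]
    rw [← hF (c : H) c.2]
    rfl
  constructor
  · intro h ξ hξ
    rw [← key]
    exact h _ ⟨ξ, hξ, rfl⟩
  · rintro h _ ⟨ξ, hξ, rfl⟩
    rw [key]
    exact h ξ hξ

omit [Fintype H] in
theorem centralizer_lift_le {Q R : Subgroup H} (hQR : Q ≤ R)
    (hC : Subgroup.centralizer ((Q.map H.subtype : Subgroup G) : Set G) ≤ H) :
    Subgroup.centralizer ((R.map H.subtype : Subgroup G) : Set G) ≤ H :=
  (centralizer_antitone (Subgroup.map_mono hQR)).trans hC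

theorem normalSubpair_lift (hM : IsPModular p M) {a b : BrauerPairIdx H}
    (hC : Subgroup.centralizer ((a.1.map H.subtype : Subgroup G) : Set G) ≤ H)
    (h : IsNormalSubpair p M a.1 a.2 b.1 b.2) :
    IsNormalSubpair p M (liftIdx H a).1 (liftIdx H a).2 (liftIdx H b).1 (liftIdx H b).2 := by
  obtain ⟨Q, f⟩ := a
  obtain ⟨R, g⟩ := b
  obtain ⟨⟨hQp, hf⟩, ⟨hRp, hg⟩, hQR, hRN, hst, hone⟩ := h
  have hCR := centralizer_lift_le hQR hC
  haveI := Fintype.ofFinite (Subgroup.centralizer (Q : Set H))
  haveI := Fintype.ofFinite (Subgroup.centralizer ((Q.map H.subtype : Subgroup G) : Set G))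
  have hN : ∀ u ∈ R, (u : G) ∈ Subgroup.normalizer ((Q.map H.subtype : Subgroup G) : Set G) :=
    fun u hu => Subgroup.le_normalizer_map H.subtype ⟨u, hRN hu, rfl⟩
  refine ⟨⟨hQp.map _, isPBlock_liftBlock Q hC hf⟩, ⟨hRp.map _, isPBlock_liftBlock R hCR hg⟩,
    Subgroup.map_mono hQR, ?_, ?_, ?_⟩
  · rintro _ ⟨u, hu, rfl⟩
    exact hN u hu
  · rintro _ ⟨u, hu, rfl⟩
    refine stabilizes_of_blockCoeff (pmod_prime hM) (hN u hu) (isPBlock_liftBlock Q hC hf) fun y => ?_
    show subgroupBlockCoeff (Subgroup.centralizer ((Q.map H.subtype : Subgroup G) : Set G))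
        (liftBlock Q f) ((u : G) * y * (u : G)⁻¹) =
      subgroupBlockCoeff (Subgroup.centralizer ((Q.map H.subtype : Subgroup G) : Set G))
        (liftBlock Q f) y
    rw [subgroupBlockCoeff_lift Q hC, subgroupBlockCoeff_lift Q hC]
    by_cases hy : y ∈ H
    · rw [extendByZero_mem _ _ hy, extendByZero_mem _ _ (mul_mem (mul_mem u.2 hy) (inv_mem u.2))]
      exact blockCoeff_conj_eq_of_stabilizes (hRN hu) (hst u hu) ⟨y, hy⟩
    · rw [extendByZero_not_mem _ _ hy, extendByZero_not_mem]
      exact fun h => hy (by simpa [mul_assoc] using mul_mem (mul_mem (inv_mem u.2) h) u.2)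
  · refine (brOne_lift_iff R hCR (F := subgroupBlockCoeff (Subgroup.centralizer (Q : Set H)) f)
      (fun c _ => ?_) g).mpr hone
    exact (subgroupBlockCoeff_lift Q hC f (c : G)).trans (extendByZero_mem _ _ c.2)

theorem subpair_rel_lift (hM : IsPModular p M) {a b : BrauerPairIdx H}
    (hC : Subgroup.centralizer ((a.1.map H.subtype : Subgroup G) : Set G) ≤ H)
    (h : Relation.ReflTransGen (NormalSubpairRel p M) a b) :
    Relation.ReflTransGen (NormalSubpairRel p M) (liftIdx H a) (liftIdx H b) := by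
  induction h with
  | refl => exact Relation.ReflTransGen.refl
  | tail hab hbc ih =>
    exact ih.tail (normalSubpair_lift hM (centralizer_lift_le (subpair_rel_le hab) hC) hbc)

theorem liftIdx_conj (hM : M.IsPrime) (h : H) {a : BrauerPairIdx H}
    (hC : Subgroup.centralizer ((a.1.map H.subtype : Subgroup G) : Set G) ≤ H)
    (hC' : Subgroup.centralizer (((conjIdx h a).1.map H.subtype : Subgroup G) : Set G) ≤ H)
    (ha : IsPBlock M a.2) :
    liftIdx H (conjIdx h a) = conjIdx (h : G) (liftIdx H a) := by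
  obtain ⟨R, g⟩ := a
  have hg1 : IsPBlock M (conjBlock R h g) := isPBlock_conjBlock h ha
  refine idx_ext hM ?_ (isPBlock_liftBlock _ hC' hg1)
    (isPBlock_conjBlock (h : G) (isPBlock_liftBlock R hC ha)) fun z => ?_
  · show (R.map (MulAut.conj h).toMonoidHom).map H.subtype =
      (R.map H.subtype).map (MulAut.conj (h : G)).toMonoidHom
    rw [Subgroup.map_map, Subgroup.map_map]
    rfl
  obtain ⟨w, rfl⟩ : ∃ w, z = (h : G) * w * (h : G)⁻¹ := ⟨(h : G)⁻¹ * z * h, by group⟩
  refine Eq.trans ?_ (subgroupBlockCoeff_conj (R.map H.subtype) (h : G) (liftBlock R g) w).symm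
  refine (subgroupBlockCoeff_lift _ hC' _ _).trans ?_
  rw [subgroupBlockCoeff_lift R hC]
  by_cases hw : w ∈ H
  · rw [extendByZero_mem _ _ hw, extendByZero_mem _ _ (mul_mem (mul_mem h.2 hw) (inv_mem h.2))]
    exact subgroupBlockCoeff_conj R h g ⟨w, hw⟩
  · rw [extendByZero_not_mem _ _ hw, extendByZero_not_mem]
    exact fun hh => hw (by simpa [mul_assoc] using mul_mem (mul_mem (inv_mem h.2) hh) h.2)

end Cfsg.Agent.Char
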