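import Cfsg.Agent.Lib.Char.BrauerConj

/-!
# Maximal Brauer pairs
-/

set_option autoImplicit false

namespace Cfsg.Agent.Char

open Cfsg Module
open scoped ComplexConjugate

universe u

variable {G : Type u} [Group G] [Fintype G] {M : Ideal AlgInt} {p : ℕ}

omit [Fintype G] in
theorem centralizer_le_norm (P : Subgroup G) :
    Subgroup.centralizer (P : Set G) ≤ Subgroup.normalizer (P : Set G) :=
  Subgroup.centralizer_le_normalizer _

theorem isGoodFun_extN (hM : M.IsPrime) {P T : Subgroup G}
    {f : Subgroup.normalizer (P : Set G) → ℂ} (hf : IsIntClassFun M f)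
    (hT : T ≤ Subgroup.normalizer (P : Set G))
    (hC : Subgroup.centralizer (T : Set G) ≤ Subgroup.normalizer (P : Set G)) :
    IsGoodFun M T (extendByZero (Subgroup.normalizer (P : Set G)) f) := by
  have key : ∀ a ∈ Subgroup.normalizer (P : Set G), ∀ y,
      extendByZero (Subgroup.normalizer (P : Set G)) f (a * y * a⁻¹) =
        extendByZero (Subgroup.normalizer (P : Set G)) f y := by
    intro a ha y
    by_cases hy : y ∈ Subgroup.normalizer (P : Set G)
    · rw [extendByZero_mem _ _ hy, extendByZero_mem _ _ (mul_mem (mul_mem ha hy) (inv_mem ha))]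
      exact hf.1 ⟨y, hy⟩ ⟨a, ha⟩
    · rw [extendByZero_not_mem _ _ hy, extendByZero_not_mem]
      exact fun h => hy (by simpa [mul_assoc] using mul_mem (mul_mem (inv_mem ha) h) ha)
  refine ⟨fun x => ?_, fun a ha => key a (hT ha), fun a ha => key a (hC ha)⟩
  by_cases hx : x ∈ Subgroup.normalizer (P : Set G)
  · rw [extendByZero_mem _ _ hx]; exact hf.2 _
  · rw [extendByZero_not_mem _ _ hx]; exact memLR_zero hM

variable {P : Subgroup G} [Fintype (Subgroup.centralizer (P : Set G))]
  [Fintype (Subgroup.normalizer (P : Set G))]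

theorem isCentralHom_local (hM : IsPModular p M) (hP : IsPGroup p P)
    (ξ : IrrCharacter (Subgroup.centralizer (P : Set G))) :
    IsCentralHom M (fun f : Subgroup.normalizer (P : Set G) → ℂ =>
      lam (ξ : Subgroup.centralizer (P : Set G) → ℂ)
        (tr P (extendByZero (Subgroup.normalizer (P : Set G)) f))) := by
  classical
  have hMp := pmod_prime hM
  have hg : ∀ {f : Subgroup.normalizer (P : Set G) → ℂ}, IsIntClassFun M f →
      IsGoodFun M P (extendByZero (Subgroup.normalizer (P : Set G)) f) := fun hf =>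
    isGoodFun_extN hMp hf Subgroup.le_normalizer (centralizer_le_norm P)
  have hv : ∀ (f : Subgroup.normalizer (P : Set G) → ℂ) (x : Subgroup.centralizer (P : Set G)),
      tr P (extendByZero (Subgroup.normalizer (P : Set G)) f) x = f ⟨x, centralizer_le_norm P x.2⟩ :=
    fun f x => extendByZero_mem _ f (centralizer_le_norm P x.2)
  refine ⟨fun f g => ?_, fun r f => ?_, fun f hf => ?_, fun f g hf hg' => ?_, ?_, fun f hf hv' => ?_⟩
  · rw [← lam_add]
    exact congrArg _ (funext fun x => by simp only [Pi.add_apply, hv])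
  · rw [← lam_smul]
    exact congrArg _ (funext fun x => by simp only [Pi.smul_apply, hv])
  · exact memLR_lam hMp ξ.2 (hg hf).tr.1 (hg hf).tr.2
  · rw [← lam_conv ξ.2 (hg hf).tr.1 (hg hg').tr.1, ← extendByZero_conv]
    exact lam_ceq hMp ξ ((hg hf).conv hMp (hg hg')).tr.1
      (intClassFun_conv hMp (hg hf).tr (hg hg').tr).1 (tr_conv hM hP (hg hf) (hg hg'))
  · have e : tr P (extendByZero (Subgroup.normalizer (P : Set G)) delta) =
        (delta : Subgroup.centralizer (P : Set G) → ℂ) := funext fun x => by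
      rw [hv]
      simp only [delta_apply]
      exact if_congr ⟨fun h => Subtype.ext (congrArg Subtype.val h :),
        fun h => Subtype.ext (congrArg Subtype.val h :)⟩ rfl rfl
    show MemLocalIdeal M (lam _ (tr P (extendByZero (Subgroup.normalizer (P : Set G)) delta)) - 1)
    rw [e, lam_delta ξ.2, sub_self]
    exact memLI_zero hMp
  · exact memLI_lam hMp ξ.2 (hg hf).tr.1 fun x => by rw [hv]; exact hv' _

/-- `b` is the block of the normalizer belonging to the block `e` of the centralizer. -/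
def IsLocalBlock (M : Ideal AlgInt) (P : Subgroup G) [Fintype (Subgroup.centralizer (P : Set G))]
    [Fintype (Subgroup.normalizer (P : Set G))]
    (e : Set (IrrCharacter (Subgroup.centralizer (P : Set G))))
    (b : Set (IrrCharacter (Subgroup.normalizer (P : Set G)))) : Prop :=
  IsPBlock M b ∧ ∀ ξ ∈ e, ∀ ψ ∈ b, ∀ f : Subgroup.normalizer (P : Set G) → ℂ, IsIntClassFun M f →
    MemLocalIdeal M (lam (ξ : Subgroup.centralizer (P : Set G) → ℂ)
      (tr P (extendByZero (Subgroup.normalizer (P : Set G)) f)) -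
      lam (ψ : Subgroup.normalizer (P : Set G) → ℂ) f)

theorem exists_localBlock (hM : IsPModular p M) (hP : IsPGroup p P)
    {e : Set (IrrCharacter (Subgroup.centralizer (P : Set G)))} (he : IsPBlock M e) :
    ∃ b, IsLocalBlock M P e b := by
  have hMp := pmod_prime hM
  obtain ⟨ξ0, hξ0⟩ := block_nonempty hMp he
  obtain ⟨b, hb, -, hΦ⟩ := (isCentralHom_local hM hP ξ0).exists_block hM
  refine ⟨b, hb, fun ξ hξ ψ hψ f hf => ?_⟩
  have hg := isGoodFun_extN hMp hf (T := P) Subgroup.le_normalizer (centralizer_le_norm P)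
  exact memLI_trans hMp (lam_congr hMp ξ.2 ξ0.2 (block_sameBlock hMp he hξ hξ0) hg.tr.1 hg.tr.2)
    (hΦ ψ hψ f hf)

/-- Blocks of the centralizer under the same block of the normalizer are conjugate. -/
theorem localBlock_orbit (hM : IsPModular p M)
    {e e' : Set (IrrCharacter (Subgroup.centralizer (P : Set G)))} (he : IsPBlock M e)
    (he' : IsPBlock M e') {b : Set (IrrCharacter (Subgroup.normalizer (P : Set G)))}
    (h : IsLocalBlock M P e b) (h' : IsLocalBlock M P e' b) :
    ∃ n ∈ Subgroup.normalizer (P : Set G),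
      (⟨P, e'⟩ : BrauerPairIdx G) = conjIdx n ⟨P, e⟩ := by
  classical
  have hMp := pmod_prime hM
  set U : Set (IrrCharacter (Subgroup.centralizer (P : Set G))) :=
    {χ | ∃ n : Subgroup.normalizer (P : Set G), irrComp (conjC P n) χ ∈ e} with hU
  have hinvU : ∀ n : Subgroup.normalizer (P : Set G), irrComp (conjC P n) '' U = U := by
    intro n
    refine Set.eq_of_subset_of_ncard_le ?_ ?_ (Set.toFinite _)
    · rintro _ ⟨χ, ⟨m, hm⟩, rfl⟩
      refine ⟨n⁻¹ * m, ?_⟩
      convert hm using 1
      refine Subtype.ext (funext fun c => ?_)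
      rw [irrComp_apply, irrComp_apply, irrComp_apply]
      refine congrArg _ (Subtype.ext ?_)
      simp only [conjC_apply, Subgroup.coe_mul, InvMemClass.coe_inv]
      group
    · rw [Set.ncard_image_of_injective _ (irrComp_injective _)]
  have hUint : IsIntClassFun M (fun y : Subgroup.normalizer (P : Set G) =>
      extendByZero (Subgroup.centralizer (P : Set G)) (blockCoeff U) (y : G)) := by
    refine ⟨fun y n => ?_, fun y => ?_⟩
    · show extendByZero _ _ ((n : G) * (y : G) * (n : G)⁻¹) = extendByZero _ _ (y : G)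
      by_cases hy : (y : G) ∈ Subgroup.centralizer (P : Set G)
      · rw [extendByZero_mem _ _ hy, extendByZero_mem _ _ (conj_mem_centralizer n.2 hy)]
        conv_rhs => rw [← hinvU n, blockCoeff_image]
        exact congrArg _ (Subtype.ext rfl)
      · rw [extendByZero_not_mem _ _ hy, extendByZero_not_mem]
        exact fun h => hy (by simpa [mul_assoc] using conj_mem_centralizer (inv_mem n.2) h)
    · show MemLocalRing M (extendByZero _ _ (y : G))
      by_cases hy : (y : G) ∈ Subgroup.centralizer (P : Set G)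
      · rw [extendByZero_mem _ _ hy]
        refine memLR_blockCoeff_union hM (fun χ ψ hχ hs => ?_) _
        obtain ⟨n, hn⟩ := hχ
        exact ⟨n, (mem_block_iff hMp he hn _).mpr (sameBlock_irrComp _ hs)⟩
      · rw [extendByZero_not_mem _ _ hy]; exact memLR_zero hMp
  have hval : ∀ ξ : IrrCharacter (Subgroup.centralizer (P : Set G)),
      lam (ξ : Subgroup.centralizer (P : Set G) → ℂ) (tr P
        (extendByZero (Subgroup.normalizer (P : Set G)) fun y : Subgroup.normalizer (P : Set G) =>
          extendByZero (Subgroup.centralizer (P : Set G)) (blockCoeff U) (y : G))) =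
        if ξ ∈ U then 1 else 0 := fun ξ => by
    refine Eq.trans ?_ ((lam_blockCoeff U ξ).trans (by congr))
    refine congrArg (lam _) (funext fun c => ?_)
    rw [tr_apply, extendByZero_mem _ _ (centralizer_le_norm P c.2), extendByZero_mem _ _ c.2]
  obtain ⟨ξ, hξ⟩ := block_nonempty hMp he
  obtain ⟨ξ', hξ'⟩ := block_nonempty hMp he'
  obtain ⟨ψ, hψ⟩ := block_nonempty hMp h.1
  have h1 := h.2 ξ hξ ψ hψ _ hUint
  have h2 := h'.2 ξ' hξ' ψ hψ _ hUint
  rw [hval, if_pos (show ξ ∈ U from ⟨1, by
    convert hξ using 1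
    exact Subtype.ext (funext fun c => by
      rw [irrComp_apply]; exact congrArg _ (Subtype.ext (by simp [conjC_apply])))⟩)] at h1
  rw [hval] at h2
  by_cases hmem : ξ' ∈ U
  swap
  · rw [if_neg hmem] at h2
    have h3 := memLI_sub hMp h1 h2
    simp only [sub_sub_sub_cancel_right, sub_zero] at h3
    exact absurd h3 (memLI_one_iff hMp)
  obtain ⟨n, hn⟩ := hmem
  refine ⟨n, n.2, idx_ext hMp ?_ he' (isPBlock_conjBlock (n : G) he) fun y => ?_⟩
  · exact (Subgroup.mem_normalizer_iff_map_conj_eq.mp n.2).symm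
  · have himg : irrComp (conjC P n) '' e' = e :=
      block_disjoint hMp (isPBlock_image _ he') he ⟨ξ', hξ', rfl⟩ hn
    obtain ⟨w, rfl⟩ : ∃ w, y = (n : G) * w * (n : G)⁻¹ := ⟨(n : G)⁻¹ * y * n, by group⟩
    rw [show subgroupBlockCoeff _ (conjBlock P (n : G) e) ((n : G) * w * (n : G)⁻¹) =
      subgroupBlockCoeff _ e w from subgroupBlockCoeff_conj P n e w, subgroupBlockCoeff_eq,
      subgroupBlockCoeff_eq]
    by_cases hw : w ∈ Subgroup.centralizer (P : Set G)
    · rw [extendByZero_mem _ _ hw, extendByZero_mem _ _ (conj_mem_centralizer n.2 hw)]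
      conv_rhs => rw [← himg, blockCoeff_image]
      exact congrArg _ (Subtype.ext rfl)
    · rw [extendByZero_not_mem _ _ hw, extendByZero_not_mem]
      exact fun h => hw (by simpa [mul_assoc] using conj_mem_centralizer (inv_mem n.2) h)

omit [Fintype (Subgroup.centralizer (P : Set G))] [Fintype (Subgroup.normalizer (P : Set G))] in
theorem pair_lam (hM : IsPModular p M) [Fintype (Subgroup.centralizer (P : Set G))]
    {B : Set (IrrCharacter G)}
    {e : Set (IrrCharacter (Subgroup.centralizer (P : Set G)))}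
    (h : IsBrauerPairOf p M B P e) {ξ : IrrCharacter (Subgroup.centralizer (P : Set G))} (hξ : ξ ∈ e)
    {χ : IrrCharacter G} (hχ : χ ∈ B) {f : G → ℂ} (hf : IsIntClassFun M f) :
    MemLocalIdeal M (lam (ξ : Subgroup.centralizer (P : Set G) → ℂ) (tr P f) -
      lam (χ : G → ℂ) f) := by
  classical
  have hMp := pmod_prime hM
  obtain ⟨B', hB', -, hΦ⟩ := (isCentralHom_brLam hM h.1.1 le_rfl (centralizer_le_norm P) ξ).exists_block hM
  have htr : ∀ F : G → ℂ, brRes P (Subgroup.centralizer (P : Set G)) F = tr P F := fun F =>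
    funext fun c => by rw [brRes, if_pos c.2]; rfl
  simp only [brLam, htr] at hΦ
  obtain ⟨χ', hχ'⟩ := block_nonempty hMp hB'
  have hB : χ' ∈ B := by
    have h1 := hΦ χ' hχ' _ (isIntClassFun_blockCoeff hM h.2.1)
    have h2 := h.2.2 ξ hξ
    rw [brauerOmega_eq] at h2
    rw [lam_blockCoeff] at h1
    by_contra hn
    rw [if_neg hn, sub_zero] at h1
    refine memLI_one_iff hMp ?_
    simpa using memLI_sub hMp h1 h2
  exact hΦ χ (by rw [block_disjoint hMp hB' h.2.1 hχ' hB]; exact hχ) f hf

/-- A maximal pair gives a block of the normalizer with defect group `P`. -/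
theorem localBlock_defect (hM : IsPModular p M) {B : Set (IrrCharacter G)}
    {e : Set (IrrCharacter (Subgroup.centralizer (P : Set G)))}
    (hmax : IsMaximalBrauerPair p M B P e)
    {b : Set (IrrCharacter (Subgroup.normalizer (P : Set G)))} (hb : IsLocalBlock M P e b) :
    IsDefectGroup p M b (P.subgroupOf (Subgroup.normalizer (P : Set G))) := by
  classical
  have hMp := pmod_prime hM
  have hP : IsPGroup p P := hmax.1.1.1
  have hPn : (P.subgroupOf (Subgroup.normalizer (P : Set G))).Normal :=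
    (Subgroup.normal_subgroupOf_iff_le_normalizer Subgroup.le_normalizer).mpr le_rfl
  obtain ⟨D, hD⟩ := exists_isDefectGroup hM hb.1
  obtain ⟨g, hg, hgD⟩ := (isDefectGroup_iff b D).mp hD
  have hPD : P.subgroupOf (Subgroup.normalizer (P : Set G)) ≤ D :=
    pCore_le_defectGroup hM hb.1 hD _
      (hP.of_equiv (Subgroup.subgroupOfEquivOfLe Subgroup.le_normalizer).symm)
  set D0 := D.map (Subgroup.normalizer (P : Set G)).subtype with hD0
  have hPD0 : P ≤ D0 := fun x hx => ⟨⟨x, Subgroup.le_normalizer hx⟩, hPD hx, rfl⟩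
  have hD0N : D0 ≤ Subgroup.normalizer (P : Set G) := Subgroup.map_subtype_le _
  have hD0p : IsPGroup p D0 := hgD.isPGroup.map _
  have hCN : Subgroup.centralizer (D0 : Set G) ≤ Subgroup.normalizer (P : Set G) :=
    (centralizer_antitone hPD0).trans (centralizer_le_norm P)
  have hgC : (g : G) ∈ Subgroup.centralizer (D0 : Set G) := by
    rintro _ ⟨w, hw, rfl⟩
    exact congrArg Subtype.val (hgD.self_mem_centralizer w hw)
  have hβ := isIntClassFun_blockCoeff hM hb.1
  set β := extendByZero (Subgroup.normalizer (P : Set G)) (blockCoeff b) with hβd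
  have hββ : conv β β = β := by rw [hβd, extendByZero_conv, conv_blockCoeff]
  have hgood := isGoodFun_extN hMp hβ hD0N hCN
  obtain ⟨d, hd, hdone⟩ := exists_brOne hM hD0p hgood hββ (x := ⟨(g : G), hgC⟩)
    (by rw [extendByZero_mem _ _ g.2]; exact hg.2.1)
  obtain ⟨f, hf, -⟩ := existsUnique_normalSubpair hM hD0p hPD0 hD0N hd
  have hgP := isGoodFun_extN hMp hβ (T := P) Subgroup.le_normalizer (centralizer_le_norm P)
  have hfone := (brOne_iff_transfer hM hf hgP hgood.invT hββ).mpr hdone
  obtain ⟨bf, hbf⟩ := exists_localBlock hM hP hf.1.2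
  have hbb : bf = b := by
    obtain ⟨ξ, hξ⟩ := block_nonempty hMp hf.1.2
    obtain ⟨ψ, hψ⟩ := block_nonempty hMp hbf.1
    have h1 := hbf.2 ξ hξ ψ hψ _ hβ
    have h2 := hfone ξ hξ
    rw [brauerOmega_eq] at h2
    rw [lam_blockCoeff] at h1
    refine block_disjoint hMp hbf.1 hb.1 hψ ?_
    by_contra hn
    rw [if_neg hn, sub_zero] at h1
    refine memLI_one_iff hMp ?_
    simpa using memLI_sub hMp h1 h2
  subst hbb
  obtain ⟨n, hn, hfe⟩ := localBlock_orbit hM hmax.1.1.2 hf.1.2 hb hbf
  have hrel : Relation.ReflTransGen (NormalSubpairRel p M) (⟨P, f⟩ : BrauerPairIdx G) ⟨D0, d⟩ :=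
    Relation.ReflTransGen.single hf
  have hrel2 := subpair_rel_conj hM n⁻¹ hrel
  rw [hfe, conjIdx_mul hMp _ _ _ hmax.1.1.2, inv_mul_cancel,
    conjIdx_one hMp _ hmax.1.1.2] at hrel2
  have hpair := (brauerPairOf_rel hM hmax.1.2.1 hrel2).mp hmax.1
  have heq : D0.map (MulAut.conj n⁻¹).toMonoidHom = P := hmax.2 _ _ hpair hrel2
  have hcard : Nat.card D ≤ Nat.card (P.subgroupOf (Subgroup.normalizer (P : Set G))) := by
    have h1 := congrArg (fun H : Subgroup G => Nat.card H) heq
    rw [Subgroup.card_map_of_injective (MulEquiv.injective (MulAut.conj n⁻¹)), hD0,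
      Subgroup.card_map_of_injective (Subgroup.subtype_injective _)] at h1
    rw [Nat.card_congr (Subgroup.subgroupOfEquivOfLe (Subgroup.le_normalizer (H := P))).toEquiv, h1]
  rwa [Subgroup.eq_of_le_of_card_ge hPD hcard]

omit [Fintype (Subgroup.centralizer (P : Set G))] in
theorem sylCent_of_local (hp : p.Prime) (hP : IsPGroup p P)
    {g : Subgroup.normalizer (P : Set G)}
    (h : IsSylCent p g (P.subgroupOf (Subgroup.normalizer (P : Set G)))) :
    IsSylCent p (g : G) P := by
  haveI := Fact.mk hp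
  have hPC : P ≤ Subgroup.centralizer ({(g : G)} : Set G) := fun x hx =>
    Subgroup.mem_centralizer_singleton_iff.mpr (congrArg Subtype.val
      (Subgroup.mem_centralizer_singleton_iff.mp
        (h.le (x := ⟨x, Subgroup.le_normalizer hx⟩) hx)))
  obtain ⟨S, hS⟩ := (hP.of_equiv (Subgroup.subgroupOfEquivOfLe hPC).symm).exists_le_sylow
  set S0 := (S : Subgroup (Subgroup.centralizer ({(g : G)} : Set G))).map
    (Subgroup.centralizer ({(g : G)} : Set G)).subtype with hS0
  have hPS : P ≤ S0 := fun x hx => ⟨⟨x, hPC hx⟩, hS hx, rfl⟩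
  rcases hPS.lt_or_eq with hlt | heq
  · exfalso
    have hX := lt_inf_normalizer hp (S.isPGroup'.map _) hlt
    set X := S0 ⊓ Subgroup.normalizer (P : Set G)
    have hXp : IsPGroup p (X.subgroupOf (Subgroup.normalizer (P : Set G))) :=
      ((S.isPGroup'.map _).to_le inf_le_left).of_equiv
        (Subgroup.subgroupOfEquivOfLe inf_le_right).symm
    have hgX : g ∈ Subgroup.centralizer (X.subgroupOf (Subgroup.normalizer (P : Set G)) :
        Set (Subgroup.normalizer (P : Set G))) := fun w hw => by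
      obtain ⟨s, -, hs⟩ := (Subgroup.mem_inf.mp hw).1
      refine Subtype.ext ?_
      show (w : G) * (g : G) = (g : G) * w
      have hs' : (s : G) = (w : G) := hs
      rw [← hs']
      exact Subgroup.mem_centralizer_singleton_iff.mp s.2
    obtain ⟨x, hx⟩ := h.exists_conj_le hp hXp (IsConj.refl g) hgX
    have h1 := Subgroup.card_le_of_le hx
    rw [Subgroup.card_map_of_injective (MulEquiv.injective _),
      Nat.card_congr (Subgroup.subgroupOfEquivOfLe (inf_le_right : X ≤ _)).toEquiv,
      Nat.card_congr (Subgroup.subgroupOfEquivOfLe (Subgroup.le_normalizer (H := P))).toEquiv] at h1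
    exact hX.ne (Subgroup.eq_of_le_of_card_ge hX.le h1)
  · exact ⟨S, heq⟩

omit [Fintype (Subgroup.centralizer (P : Set G))] [Fintype (Subgroup.normalizer (P : Set G))] in
theorem fusion_centralizer (hp : p.Prime) {g h : G} (hg : IsSylCent p g P)
    (hconj : IsConj g h) (hh : h ∈ Subgroup.centralizer (P : Set G)) :
    ∃ n ∈ Subgroup.normalizer (P : Set G), n * g * n⁻¹ = h := by
  haveI := Fact.mk hp
  obtain ⟨c, rfl⟩ := isConj_iff.mp hconj
  have hPp := hg.isPGroup
  set C := Subgroup.centralizer ({g} : Set G)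
  obtain ⟨P0, hP0⟩ := hg
  set R0 := P.map (MulAut.conj c⁻¹).toMonoidHom
  have hRC : R0 ≤ C := by
    rintro _ ⟨w, hw, rfl⟩
    refine Subgroup.mem_centralizer_singleton_iff.mpr ?_
    have h1 : w * (c * g * c⁻¹) = c * g * c⁻¹ * w := hh w hw
    show c⁻¹ * w * c⁻¹⁻¹ * g = g * (c⁻¹ * w * c⁻¹⁻¹)
    calc c⁻¹ * w * c⁻¹⁻¹ * g = c⁻¹ * (w * (c * g * c⁻¹)) * c := by group
      _ = c⁻¹ * (c * g * c⁻¹ * w) * c := by rw [h1]
      _ = _ := by group
  obtain ⟨R, hR⟩ := ((hPp.map _).of_equiv (Subgroup.subgroupOfEquivOfLe hRC).symm :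
    IsPGroup p (R0.subgroupOf C)).exists_le_sylow
  have hcard : Nat.card (R : Subgroup C) ≤ Nat.card (R0.subgroupOf C) := by
    rw [Nat.card_congr (Subgroup.subgroupOfEquivOfLe hRC).toEquiv,
      Subgroup.card_map_of_injective (MulEquiv.injective _), hP0,
      Subgroup.card_map_of_injective (Subgroup.subtype_injective _), R.card_eq_multiplicity,
      P0.card_eq_multiplicity]
  have hReq := Subgroup.eq_of_le_of_card_ge hR hcard
  obtain ⟨y, hy⟩ := MulAction.exists_smul_eq C P0 R
  have hyg : (y : G) * g = g * (y : G) := Subgroup.mem_centralizer_singleton_iff.mp y.2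
  refine ⟨c * (y : G), ?_, by
    calc c * (y : G) * g * (c * (y : G))⁻¹ = c * ((y : G) * g) * (y : G)⁻¹ * c⁻¹ := by group
      _ = c * (g * (y : G)) * (y : G)⁻¹ * c⁻¹ := by rw [hyg]
      _ = c * g * c⁻¹ := by group⟩
  have hle : P.map (MulAut.conj (c * (y : G))).toMonoidHom ≤ P := by
    rintro _ ⟨z, hz, rfl⟩
    obtain ⟨w, hw, rfl⟩ := (hP0 ▸ hz : z ∈ (P0 : Subgroup C).map C.subtype)
    have h1 : y * w * y⁻¹ ∈ (R : Subgroup C) := by
      rw [← hy]
      exact Subgroup.smul_mem_pointwise_smul w (MulAut.conj y) _ hw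
    rw [← hReq] at h1
    obtain ⟨v, hv, hvv⟩ := h1
    have h2 : c⁻¹ * v * c⁻¹⁻¹ = (y : G) * (w : G) * (y : G)⁻¹ := hvv
    show c * (y : G) * (w : G) * (c * (y : G))⁻¹ ∈ P
    rwa [show c * (y : G) * (w : G) * (c * (y : G))⁻¹ = c * ((y : G) * w * (y : G)⁻¹) * c⁻¹ by group,
      ← h2, show c * (c⁻¹ * v * c⁻¹⁻¹) * c⁻¹ = v by group]
  refine Subgroup.mem_normalizer_iff_map_conj_eq.mpr (Subgroup.eq_of_le_of_card_ge hle ?_)
  rw [Subgroup.card_map_of_injective (MulEquiv.injective _)]

/-- The first main theorem: the defect group passes from the normalizer to `G`. -/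
theorem defect_of_localBlock (hM : IsPModular p M) {B : Set (IrrCharacter G)}
    {e : Set (IrrCharacter (Subgroup.centralizer (P : Set G)))}
    (hpair : IsBrauerPairOf p M B P e)
    {b : Set (IrrCharacter (Subgroup.normalizer (P : Set G)))} (hb : IsLocalBlock M P e b)
    (hdef : IsDefectGroup p M b (P.subgroupOf (Subgroup.normalizer (P : Set G)))) :
    IsDefectGroup p M B P := by
  classical
  have hMp := pmod_prime hM
  obtain ⟨g, hg, hgP⟩ := (isDefectGroup_iff b _).mp hdef
  have hsyl := sylCent_of_local hM.1 hpair.1.1 hgP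
  obtain ⟨ξ, hξ⟩ := block_nonempty hMp hpair.1.2
  obtain ⟨ψ, hψ⟩ := block_nonempty hMp hb.1
  obtain ⟨χ, hχ⟩ := block_nonempty hMp hpair.2.1
  have hωb := (omega_unit_iff hM hb.1 hψ g).mp hg.2.2
  have hωB : ¬ MemLocalIdeal M (omega (χ : G → ℂ) (g : G)) := by
    intro h0
    refine hωb ?_
    rw [← lam_classInd' (isClassFunction_character (irr_isCharacter ψ.2))]
    refine memLI_congr hMp (memLI_symm hMp (hb.2 ξ hξ ψ hψ _ (intClassFun_classInd hMp g))) ?_
    have e1 : tr P (extendByZero (Subgroup.normalizer (P : Set G)) (classInd g)) =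
        tr P (classInd (g : G)) := funext fun c => by
      have hiff : IsConj g ⟨(c : G), centralizer_le_norm P c.2⟩ ↔ IsConj (g : G) (c : G) :=
        ⟨fun h => (Subgroup.normalizer (P : Set G)).subtype.map_isConj h, fun h => by
          obtain ⟨n, hn, hnc⟩ := fusion_centralizer hM.1 hsyl h c.2
          exact isConj_iff.mpr ⟨⟨n, hn⟩, Subtype.ext hnc⟩⟩
      rw [tr_apply, extendByZero_mem _ _ (centralizer_le_norm P c.2), tr_apply]
      simp only [classInd, hiff]
    rw [e1]
    refine memLI_congr hMp (pair_lam hM hpair hξ hχ (intClassFun_classInd hMp (g : G))) ?_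
    rwa [lam_classInd' (isClassFunction_character (irr_isCharacter χ.2))]
  obtain ⟨D, hD⟩ := exists_isDefectGroup hM hpair.2.1
  obtain ⟨g0, hg0, hD0⟩ := (isDefectGroup_iff B D).mp hD
  obtain ⟨x, hx⟩ := defect_le_of_omega hM hpair.2.1 hg0 hD0 hχ hωB hsyl
  obtain ⟨t, ht⟩ : ∃ t : G, P ≤ D.map (MulAut.conj t).toMonoidHom := by
    obtain ⟨z, hz⟩ : ∃ z : Subgroup.centralizer (P : Set G),
        ¬ MemLocalIdeal M (blockCoeff B (z : G)) := by
      by_contra hne
      push Not at hne
      refine memLI_one_iff hMp ?_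
      have h1 := hpair.2.2 ξ hξ
      rw [brauerOmega_eq] at h1
      have h2 := memLI_lam hMp ξ.2 (isGoodFun_of_classFun P
        (isIntClassFun_blockCoeff hM hpair.2.1)).tr.1 hne
      simpa using memLI_sub hMp h2 h1
    exact le_defect_of_detect hM hpair.2.1 hg0 hD0 hpair.1.1 z.2 hz
  have h1 := Subgroup.card_le_of_le hx
  rw [Subgroup.card_map_of_injective (MulEquiv.injective _)] at h1
  have h2 : P = D.map (MulAut.conj t).toMonoidHom := Subgroup.eq_of_le_of_card_ge ht (by
    rwa [Subgroup.card_map_of_injective (MulEquiv.injective _)])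
  rw [h2]
  exact isDefectGroup_conj hM hD t

/-- Maximal pairs of a block on the same group are conjugate in the normalizer. -/
theorem maximal_pairs_conj (hM : IsPModular p M) {B : Set (IrrCharacter G)}
    {e e' : Set (IrrCharacter (Subgroup.centralizer (P : Set G)))}
    (hmax : IsMaximalBrauerPair p M B P e) (hpair' : IsBrauerPairOf p M B P e') :
    ∃ n ∈ Subgroup.normalizer (P : Set G), (⟨P, e'⟩ : BrauerPairIdx G) = conjIdx n ⟨P, e⟩ := by
  classical
  have hMp := pmod_prime hM
  have hP : IsPGroup p P := hmax.1.1.1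
  obtain ⟨b, hb⟩ := exists_localBlock hM hP hmax.1.1.2
  obtain ⟨b', hb'⟩ := exists_localBlock hM hP hpair'.1.2
  suffices h : b' = b from localBlock_orbit hM hmax.1.1.2 hpair'.1.2 hb (h ▸ hb')
  obtain ⟨g, hg, hgP⟩ := (isDefectGroup_iff b _).mp (localBlock_defect hM hmax hb)
  have hβ := isIntClassFun_blockCoeff hM hb.1
  -- a class function on `G` agreeing with the coefficients of `b` on `C(P)` modulo `M`
  have hsyl : ∀ x : Subgroup.normalizer (P : Set G), (x : G) ∈ Subgroup.centralizer (P : Set G) →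
      ¬ MemLocalIdeal M (blockCoeff b x) → IsSylCent p (x : G) P := by
    intro x hx hu
    refine sylCent_of_local hM.1 hP ?_
    obtain ⟨Q, hQ⟩ := exists_isSylCent p x
    have hPx : P.subgroupOf (Subgroup.normalizer (P : Set G)) ≤
        Subgroup.centralizer ({x} : Set (Subgroup.normalizer (P : Set G))) := fun w hw =>
      Subgroup.mem_centralizer_singleton_iff.mpr (Subtype.ext (hx (w : G) hw))
    obtain ⟨S, rfl⟩ := hQ
    haveI := Fact.mk hM.1
    have hPp : IsPGroup p (P.subgroupOf (Subgroup.normalizer (P : Set G))) :=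
      hP.of_equiv (Subgroup.subgroupOfEquivOfLe Subgroup.le_normalizer).symm
    have hxC : x ∈ Subgroup.centralizer (((S : Subgroup (Subgroup.centralizer
        ({x} : Set (Subgroup.normalizer (P : Set G))))).map (Subgroup.centralizer
        ({x} : Set (Subgroup.normalizer (P : Set G)))).subtype :
          Subgroup (Subgroup.normalizer (P : Set G))) : Set (Subgroup.normalizer (P : Set G))) := by
      rintro _ ⟨s, -, rfl⟩
      exact Subgroup.mem_centralizer_singleton_iff.mp s.2
    obtain ⟨t, ht⟩ := le_defect_of_detect hM hb.1 hg hgP (S.isPGroup'.map _) hxC hu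
    have hPn : (P.subgroupOf (Subgroup.normalizer (P : Set G))).Normal :=
      (Subgroup.normal_subgroupOf_iff_le_normalizer Subgroup.le_normalizer).mpr le_rfl
    have hmap : (P.subgroupOf (Subgroup.normalizer (P : Set G))).map (MulAut.conj t).toMonoidHom =
        P.subgroupOf (Subgroup.normalizer (P : Set G)) :=
      Subgroup.mem_normalizer_iff_map_conj_eq.mp (Subgroup.mem_normalizer_iff.mpr fun z =>
        ⟨fun hz => hPn.conj_mem z hz t, fun hz => by
          simpa [mul_assoc] using hPn.conj_mem _ hz t⁻¹⟩)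
    rw [hmap] at ht
    obtain ⟨R, hR⟩ := (hPp.of_equiv (Subgroup.subgroupOfEquivOfLe hPx).symm).exists_le_sylow
    refine ⟨R, le_antisymm (fun w hw => ⟨⟨w, hPx hw⟩, hR hw, rfl⟩) ?_⟩
    have h1 : (R : Subgroup (Subgroup.centralizer ({x} : Set (Subgroup.normalizer (P : Set G))))) =
        (P.subgroupOf (Subgroup.normalizer (P : Set G))).subgroupOf _ :=
      (Subgroup.eq_of_le_of_card_ge hR (by
        rw [Nat.card_congr (Subgroup.subgroupOfEquivOfLe hPx).toEquiv, R.card_eq_multiplicity,
          ← S.card_eq_multiplicity]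
        have h2 := Subgroup.card_le_of_le ht
        rwa [Subgroup.card_map_of_injective (Subgroup.subtype_injective _)] at h2)).symm
    rw [h1]
    rintro _ ⟨w, hw, rfl⟩
    exact hw
  set f : G → ℂ := fun y => if h : ∃ x : Subgroup.normalizer (P : Set G),
      (x : G) ∈ Subgroup.centralizer (P : Set G) ∧ ¬ MemLocalIdeal M (blockCoeff b x) ∧
        IsConj y (x : G) then blockCoeff b h.choose else 0 with hf
  have hwd : ∀ (y : G) (x : Subgroup.normalizer (P : Set G)),
      (x : G) ∈ Subgroup.centralizer (P : Set G) → ¬ MemLocalIdeal M (blockCoeff b x) →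
      IsConj y (x : G) → f y = blockCoeff b x := by
    intro y x hx hu hyx
    have hex : ∃ x : Subgroup.normalizer (P : Set G), (x : G) ∈ Subgroup.centralizer (P : Set G) ∧
        ¬ MemLocalIdeal M (blockCoeff b x) ∧ IsConj y (x : G) := ⟨x, hx, hu, hyx⟩
    rw [hf]
    simp only [dif_pos hex]
    obtain ⟨hc, hcu, hcy⟩ := hex.choose_spec
    obtain ⟨n, hn, hnc⟩ := fusion_centralizer hM.1 (hsyl _ hc hcu) (hcy.symm.trans hyx) hx
    rw [show x = ⟨n, hn⟩ * hex.choose * ⟨n, hn⟩⁻¹ from Subtype.ext hnc.symm]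
    exact (hβ.1 _ _).symm
  have hfI : IsIntClassFun M f := by
    refine ⟨fun a k => ?_, fun y => ?_⟩
    · by_cases hex : ∃ x : Subgroup.normalizer (P : Set G),
          (x : G) ∈ Subgroup.centralizer (P : Set G) ∧ ¬ MemLocalIdeal M (blockCoeff b x) ∧
            IsConj a (x : G)
      · obtain ⟨x, hx, hu, hax⟩ := hex
        rw [hwd a x hx hu hax, hwd _ x hx hu ((isConj_iff.mpr ⟨k⁻¹, by group⟩).trans hax)]
      · have hex' : ¬ ∃ x : Subgroup.normalizer (P : Set G),
            (x : G) ∈ Subgroup.centralizer (P : Set G) ∧ ¬ MemLocalIdeal M (blockCoeff b x) ∧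
              IsConj (k * a * k⁻¹) (x : G) := fun ⟨x, hx, hu, h⟩ =>
          hex ⟨x, hx, hu, (isConj_iff.mpr ⟨k, rfl⟩).trans h⟩
        simp only [hf, dif_neg hex, dif_neg hex']
    · simp only [hf]
      split_ifs
      exacts [hβ.2 _, memLR_zero hMp]
  have hgood := isGoodFun_extN hMp hβ (T := P) Subgroup.le_normalizer (centralizer_le_norm P)
  have hceq : CEq M (tr P (extendByZero (Subgroup.normalizer (P : Set G)) (blockCoeff b)))
      (tr P f) := by
    intro c
    rw [tr_apply, tr_apply, extendByZero_mem _ _ (centralizer_le_norm P c.2)]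
    by_cases hu : MemLocalIdeal M (blockCoeff b ⟨c, centralizer_le_norm P c.2⟩)
    · by_cases hex : ∃ x : Subgroup.normalizer (P : Set G),
          (x : G) ∈ Subgroup.centralizer (P : Set G) ∧ ¬ MemLocalIdeal M (blockCoeff b x) ∧
            IsConj (c : G) (x : G)
      · obtain ⟨x, hx, hxu, hcx⟩ := hex
        obtain ⟨n, hn, hnc⟩ := fusion_centralizer hM.1 (hsyl x hx hxu) hcx.symm c.2
        refine absurd ?_ hxu
        rw [show (⟨(c : G), centralizer_le_norm P c.2⟩ : Subgroup.normalizer (P : Set G)) =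
          ⟨n, hn⟩ * x * ⟨n, hn⟩⁻¹ from Subtype.ext hnc.symm, hβ.1] at hu
        exact hu
      · simp only [hf, dif_neg hex, sub_zero]
        exact hu
    · rw [hwd (c : G) ⟨c, centralizer_le_norm P c.2⟩ c.2 hu (IsConj.refl _), sub_self]
      exact memLI_zero hMp
  obtain ⟨ξ, hξ⟩ := block_nonempty hMp hmax.1.1.2
  obtain ⟨ξ', hξ'⟩ := block_nonempty hMp hpair'.1.2
  obtain ⟨χ, hχ⟩ := block_nonempty hMp hmax.1.2.1
  obtain ⟨ψ, hψ⟩ := block_nonempty hMp hb.1
  obtain ⟨ψ', hψ'⟩ := block_nonempty hMp hb'.1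
  have htrf := (isGoodFun_of_classFun P hfI).tr
  have h1 := memLI_trans hMp (lam_ceq hMp ξ hgood.tr.1 htrf.1 hceq) (pair_lam hM hmax.1 hξ hχ hfI)
  have h2 := memLI_trans hMp (lam_ceq hMp ξ' hgood.tr.1 htrf.1 hceq) (pair_lam hM hpair' hξ' hχ hfI)
  have h3 := memLI_trans hMp (memLI_symm hMp (hb.2 ξ hξ ψ hψ _ hβ))
    (memLI_trans hMp h1 (memLI_trans hMp (memLI_symm hMp h2) (hb'.2 ξ' hξ' ψ' hψ' _ hβ)))
  rw [lam_blockCoeff, lam_blockCoeff, if_pos hψ] at h3
  by_cases hmem : ψ' ∈ b
  · exact block_disjoint hMp hb'.1 hb.1 hψ' hmem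
  · rw [if_neg hmem, sub_zero] at h3
    exact absurd h3 (memLI_one_iff hMp)

omit [Fintype (Subgroup.centralizer (P : Set G))] [Fintype (Subgroup.normalizer (P : Set G))] in
/-- The group of a maximal Brauer pair is a defect group. -/
theorem maximal_pair_defect (hM : IsPModular p M) {B : Set (IrrCharacter G)}
    {e : Set (IrrCharacter (Subgroup.centralizer (P : Set G)))}
    (hmax : IsMaximalBrauerPair p M B P e) : IsDefectGroup p M B P := by
  haveI := Fintype.ofFinite (Subgroup.centralizer (P : Set G))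
  haveI := Fintype.ofFinite (Subgroup.normalizer (P : Set G))
  obtain ⟨b, hb⟩ := exists_localBlock hM hmax.1.1.1 hmax.1.1.2
  exact defect_of_localBlock hM hmax.1 hb (localBlock_defect hM hmax hb)

set_option maxHeartbeats 1000000 in
omit [Fintype (Subgroup.centralizer (P : Set G))] [Fintype (Subgroup.normalizer (P : Set G))] in
/-- All pairs of a block lie below a maximal one, up to conjugation. -/
theorem pairs_conj_into_maximal (hM : IsPModular p M) {B : Set (IrrCharacter G)}
    {e : Set (IrrCharacter (Subgroup.centralizer (P : Set G)))}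
    (hmax : IsMaximalBrauerPair p M B P e) {Q : Subgroup G}
    {f : Set (IrrCharacter (Subgroup.centralizer (Q : Set G)))}
    (hQf : IsBrauerPairOf p M B Q f) :
    ∃ x : G, SubpairLE p M (Q.map (MulAut.conj x).toMonoidHom) (conjBlock Q x f) P e := by
  classical
  have hMp := pmod_prime hM
  obtain ⟨⟨R, r⟩, ⟨hQR, hR⟩, hRmax⟩ := Set.exists_max_image
    {a : BrauerPairIdx G | Relation.ReflTransGen (NormalSubpairRel p M) ⟨Q, f⟩ a ∧
      IsBrauerPairOf p M B a.1 a.2} (fun a => Nat.card a.1) (Set.toFinite _)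
    ⟨⟨Q, f⟩, Relation.ReflTransGen.refl, hQf⟩
  have hRm : IsMaximalBrauerPair p M B R r := ⟨hR, fun R' r' hp hle => by
    have h1 := hRmax ⟨R', r'⟩ ⟨hQR.trans hle, hp⟩
    exact (Subgroup.eq_of_le_of_card_ge (subpair_le hle) h1).symm⟩
  obtain ⟨t, ht⟩ := defect_groups_conj hM hmax.1.2.1 (maximal_pair_defect hM hRm)
    (maximal_pair_defect hM hmax)
  subst ht
  haveI := Fintype.ofFinite
    (Subgroup.centralizer ((R.map (MulAut.conj t).toMonoidHom : Subgroup G) : Set G))
  haveI := Fintype.ofFinite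
    (Subgroup.normalizer ((R.map (MulAut.conj t).toMonoidHom : Subgroup G) : Set G))
  obtain ⟨n, -, hn⟩ := maximal_pairs_conj hM hmax (brauerPairOf_conj t hR)
  refine ⟨n⁻¹ * t, ?_⟩
  have h1 := subpair_rel_conj hM (n⁻¹ * t) hQR
  rw [← conjIdx_mul hMp n⁻¹ t ⟨R, r⟩ hR.1.2, show conjIdx t (⟨R, r⟩ : BrauerPairIdx G) =
    ⟨R.map (MulAut.conj t).toMonoidHom, conjBlock R t r⟩ from rfl, hn,
    conjIdx_mul hMp n⁻¹ n _ hmax.1.1.2, inv_mul_cancel, conjIdx_one hMp _ hmax.1.1.2] at h1
  exact h1

end Cfsg.Agent.Char
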