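import Cfsg.Agent.Lib.Char.ModAlg
import Cfsg.Agent.Lib.Char.Glauberman
import Cfsg.Agent.Lib.Char.RealBlock
import Cfsg.Prelude.Def_BrauerPairs

/-!
# Brauer pairs: one normal step
-/

set_option autoImplicit false

namespace Cfsg.Agent.Char

open Cfsg Module
open scoped ComplexConjugate

universe u

variable {G : Type u} [Group G] {M : Ideal AlgInt} {p : ℕ}

/-- Functions on `G` that are invariant under `T` and under its centralizer. -/
structure IsGoodFun (M : Ideal AlgInt) (T : Subgroup G) (F : G → ℂ) : Prop where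
  memLR : ∀ x, MemLocalRing M (F x)
  invT : ∀ a ∈ T, ∀ y, F (a * y * a⁻¹) = F y
  invC : ∀ a ∈ Subgroup.centralizer (T : Set G), ∀ y, F (a * y * a⁻¹) = F y

/-- Truncation to the centralizer. -/
def tr (T : Subgroup G) (F : G → ℂ) : Subgroup.centralizer (T : Set G) → ℂ := fun x => F x

theorem tr_apply (T : Subgroup G) (F : G → ℂ) (x : Subgroup.centralizer (T : Set G)) :
    tr T F x = F x := rfl

theorem IsGoodFun.tr {T : Subgroup G} {F : G → ℂ} (h : IsGoodFun M T F) :
    IsIntClassFun M (Char.tr T F) :=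
  ⟨fun a k => by
    show F ((k : G) * (a : G) * (k : G)⁻¹) = F a
    exact h.invC _ k.2 _, fun x => h.memLR _⟩

theorem isGoodFun_of_classFun (T : Subgroup G) {F : G → ℂ} (hF : IsIntClassFun M F) :
    IsGoodFun M T F :=
  ⟨hF.2, fun a _ y => hF.1 y a, fun a _ y => hF.1 y a⟩

variable [Fintype G]

theorem IsGoodFun.conv (hM : M.IsPrime) {T : Subgroup G} {F F' : G → ℂ} (h : IsGoodFun M T F)
    (h' : IsGoodFun M T F') : IsGoodFun M T (Char.conv F F') := by
  have key : ∀ a, (∀ y, F (a * y * a⁻¹) = F y) → (∀ y, F' (a * y * a⁻¹) = F' y) →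
      ∀ y, Char.conv F F' (a * y * a⁻¹) = Char.conv F F' y := by
    intro a ha ha' y
    simp only [Char.conv]
    refine (Fintype.sum_equiv (MulAut.conj a).toEquiv _ _ fun z => ?_).symm
    show F z * F' (z⁻¹ * y) = F (a * z * a⁻¹) * F' ((a * z * a⁻¹)⁻¹ * (a * y * a⁻¹))
    rw [ha, show (a * z * a⁻¹)⁻¹ * (a * y * a⁻¹) = a * (z⁻¹ * y) * a⁻¹ by group, ha']
  exact ⟨fun x => memLR_sum hM _ _ fun y _ => memLR_mul hM (h.memLR _) (h'.memLR _),
    fun a ha => key a (h.invT a ha) (h'.invT a ha), fun a ha => key a (h.invC a ha) (h'.invC a ha)⟩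

theorem tr_conv (hM : IsPModular p M) {T : Subgroup G} [Fintype (Subgroup.centralizer (T : Set G))]
    (hT : IsPGroup p T) {F F' : G → ℂ} (h : IsGoodFun M T F) (h' : IsGoodFun M T F') :
    CEq M (tr T (conv F F')) (conv (tr T F) (tr T F')) := by
  classical
  intro x
  have hinv : ∀ a ∈ T, ∀ y, F (a * y * a⁻¹) * F' ((a * y * a⁻¹)⁻¹ * (x : G)) =
      F y * F' (y⁻¹ * (x : G)) := by
    intro a ha y
    have hax : a * (x : G) = x * a := x.2 a ha
    rw [h.invT a ha, show (a * y * a⁻¹)⁻¹ * (x : G) = a * (y⁻¹ * x) * a⁻¹ by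
      calc (a * y * a⁻¹)⁻¹ * (x : G) = a * y⁻¹ * a⁻¹ * ((x : G) * a) * a⁻¹ := by group
        _ = a * y⁻¹ * a⁻¹ * (a * x) * a⁻¹ := by rw [hax]
        _ = a * (y⁻¹ * x) * a⁻¹ := by group, h'.invT a ha]
  have hh := sum_centralizer_congr hM hT (fun y => F y * F' (y⁻¹ * (x : G)))
    (fun y => memLR_mul (pmod_prime hM) (h.memLR _) (h'.memLR _)) hinv
  convert hh using 2
  · exact congrArg (fun z : ℂ => z) rfl
  · rw [conv, Finset.sum_subtype (p := fun y => y ∈ Subgroup.centralizer (T : Set G))
      (Finset.univ.filter fun y => y ∈ Subgroup.centralizer (T : Set G)) (fun y => by simp)]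
    rfl

theorem tr_delta (T : Subgroup G) [Fintype (Subgroup.centralizer (T : Set G))] :
    tr T (delta : G → ℂ) = delta := by
  classical
  funext x
  simp only [tr, delta_apply, OneMemClass.coe_eq_one]

theorem extendByZero_conv (K : Subgroup G) [Fintype K] (f g : K → ℂ) :
    conv (extendByZero K f) (extendByZero K g) = extendByZero K (conv f g) := by
  classical
  funext x
  simp only [conv]
  rw [sum_extendByZero_mul K f (fun y => extendByZero K g (y⁻¹ * x))]
  by_cases hx : x ∈ K
  · rw [extendByZero_mem K _ hx]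
    refine Finset.sum_congr rfl fun y _ => ?_
    rw [extendByZero_mem K g (K.mul_mem (K.inv_mem y.2) hx)]
    rfl
  · rw [extendByZero_not_mem K _ hx]
    refine Finset.sum_eq_zero fun y _ => ?_
    rw [extendByZero_not_mem K g (fun h => hx ((K.mul_mem_cancel_left (K.inv_mem y.2)).mp h)),
      mul_zero]

omit [Fintype G] in
theorem subgroupBlockCoeff_eq (K : Subgroup G) (e : Set (IrrCharacter K)) :
    subgroupBlockCoeff K e = extendByZero K (blockCoeff e) := by
  funext g
  unfold subgroupBlockCoeff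
  by_cases hg : g ∈ K
  · rw [dif_pos hg, extendByZero_mem K _ hg]
  · rw [dif_neg hg, extendByZero_not_mem K _ hg]

theorem brauerOmega_eq (T : Subgroup G) [Fintype (Subgroup.centralizer (T : Set G))] (F : G → ℂ)
    (ξ : Subgroup.centralizer (T : Set G) → ℂ) : brauerOmega T F ξ = lam ξ (tr T F) := by
  rw [brauerOmega, finsum_eq_sum_of_fintype, ← Finset.sum_div]
  rfl

/-- `F` takes the value one modulo `M` at the block `e` after truncation. -/
def BrOne (M : Ideal AlgInt) (T : Subgroup G) (F : G → ℂ)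
    (e : Set (IrrCharacter (Subgroup.centralizer (T : Set G)))) : Prop :=
  ∀ ξ ∈ e, MemLocalIdeal M
    (brauerOmega T F (ξ : Subgroup.centralizer (T : Set G) → ℂ) - 1)

theorem brOne_of_mem (hM : IsPModular p M) {T : Subgroup G} {F : G → ℂ}
    {e : Set (IrrCharacter (Subgroup.centralizer (T : Set G)))} (he : IsPBlock M e)
    (hF : IsGoodFun M T F) {ξ : IrrCharacter (Subgroup.centralizer (T : Set G))} (hξ : ξ ∈ e)
    (h : MemLocalIdeal M (brauerOmega T F (ξ : Subgroup.centralizer (T : Set G) → ℂ) - 1)) :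
    BrOne M T F e := by
  haveI := Fintype.ofFinite (Subgroup.centralizer (T : Set G))
  intro η hη
  rw [brauerOmega_eq] at h ⊢
  exact memLI_trans (pmod_prime hM) (lam_congr (pmod_prime hM) η.2 ξ.2
    (block_sameBlock (pmod_prime hM) he hη hξ) hF.tr.1 hF.tr.2) h

theorem isModIdem_tr (hM : IsPModular p M) {T : Subgroup G}
    [Fintype (Subgroup.centralizer (T : Set G))] (hT : IsPGroup p T) {F : G → ℂ}
    (h : IsGoodFun M T F) (hFF : conv F F = F) : IsModIdem M (tr T F) := by
  refine ⟨h.tr, ?_⟩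
  have := tr_conv hM hT h h
  rw [hFF] at this
  exact this.symm (pmod_prime hM)

/-- Some block sees a nonzero idempotent. -/
theorem exists_brOne (hM : IsPModular p M) {T : Subgroup G} (hT : IsPGroup p T) {F : G → ℂ}
    (h : IsGoodFun M T F) (hFF : conv F F = F) {x : Subgroup.centralizer (T : Set G)}
    (hx : ¬ MemLocalIdeal M (F (x : G))) :
    ∃ e : Set (IrrCharacter (Subgroup.centralizer (T : Set G))), IsPBlock M e ∧ BrOne M T F e := by
  haveI := Fintype.ofFinite (Subgroup.centralizer (T : Set G))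
  have hP := pmod_prime hM
  have hi := isModIdem_tr hM hT h hFF
  by_contra hne
  push Not at hne
  refine hx ?_
  have h0 := hi.eq_zero hM (fun ψ => (hi.lam_cases hP ψ).resolve_right fun h1 =>
    hne _ (isPBlock_blockOf M ψ) (brOne_of_mem hM (isPBlock_blockOf M ψ) h (self_mem_blockOf hP ψ)
      (by rwa [brauerOmega_eq]))) x
  rwa [Pi.zero_apply, sub_zero] at h0

section Conj

variable {Q : Subgroup G}

omit [Fintype G] in
theorem conj_mem_centralizer {u : G} (hu : u ∈ Subgroup.normalizer (Q : Set G)) {c : G}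
    (hc : c ∈ Subgroup.centralizer (Q : Set G)) :
    u * c * u⁻¹ ∈ Subgroup.centralizer (Q : Set G) :=
  (conj_mem_centralizer_iff (H := Subgroup.normalizer (Q : Set G)) le_rfl ⟨u, hu⟩ c).mpr hc

/-- Conjugation as an automorphism of the centralizer. -/
def conjC (Q : Subgroup G) (u : Subgroup.normalizer (Q : Set G)) :
    MulAut (Subgroup.centralizer (Q : Set G)) where
  toFun c := ⟨(u : G) * (c : G) * (u : G)⁻¹, conj_mem_centralizer u.2 c.2⟩
  invFun c := ⟨(u : G)⁻¹ * (c : G) * (u : G), by
    simpa using conj_mem_centralizer (inv_mem u.2) c.2⟩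
  left_inv c := Subtype.ext (by simp [mul_assoc])
  right_inv c := Subtype.ext (by simp [mul_assoc])
  map_mul' a b := Subtype.ext (by simp [mul_assoc])

omit [Fintype G] in
theorem conjC_apply (u : Subgroup.normalizer (Q : Set G))
    (c : Subgroup.centralizer (Q : Set G)) : (conjC Q u c : G) = (u : G) * (c : G) * (u : G)⁻¹ := rfl

variable [Fintype (Subgroup.centralizer (Q : Set G))]

theorem irrComp_injective (α : MulAut (Subgroup.centralizer (Q : Set G))) :
    Function.Injective (irrComp α) := fun χ ψ h => Subtype.ext (funext fun c => by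
  have := congrFun (congrArg Subtype.val h) (α⁻¹ c)
  rwa [irrComp_apply, irrComp_apply, MulAut.apply_inv_self] at this)

theorem blockCoeff_image (α : MulAut (Subgroup.centralizer (Q : Set G)))
    (e : Set (IrrCharacter (Subgroup.centralizer (Q : Set G))))
    (c : Subgroup.centralizer (Q : Set G)) :
    blockCoeff (irrComp α '' e) c = blockCoeff e (α c) := by
  simp only [blockCoeff]
  rw [finsum_mem_image (Set.injOn_of_injective (irrComp_injective α))]
  simp only [irrComp_apply, map_one]

theorem isPBlock_image (α : MulAut (Subgroup.centralizer (Q : Set G)))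
    {e : Set (IrrCharacter (Subgroup.centralizer (Q : Set G)))} (he : IsPBlock M e) :
    IsPBlock M (irrComp α '' e) := by
  obtain ⟨ξ, rfl⟩ := he
  refine ⟨irrComp α ξ, Set.ext fun ψ => ⟨?_, fun h => ?_⟩⟩
  · rintro ⟨η, hη, rfl⟩
    exact sameBlock_irrComp α hη
  · have e1 : ∀ η : IrrCharacter (Subgroup.centralizer (Q : Set G)),
        irrComp α (irrComp α⁻¹ η) = η := fun η => Subtype.ext (funext fun c => by
      rw [irrComp_apply, irrComp_apply, MulAut.inv_apply_self])
    refine ⟨irrComp α⁻¹ ψ, ?_, e1 ψ⟩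
    have h1 := sameBlock_irrComp α⁻¹ (χ := irrComp α ξ) (ψ := ψ) h
    have e2 : irrComp α⁻¹ (irrComp α ξ) = ξ := Subtype.ext (funext fun c => by
      rw [irrComp_apply, irrComp_apply, MulAut.apply_inv_self])
    rwa [e2] at h1

theorem blockCoeff_conj_eq_of_stabilizes {u : G} (hu : u ∈ Subgroup.normalizer (Q : Set G))
    {f : Set (IrrCharacter (Subgroup.centralizer (Q : Set G)))}
    (h : StabilizesBlock (Subgroup.centralizer (Q : Set G)) f u) (y : G) :
    subgroupBlockCoeff (Subgroup.centralizer (Q : Set G)) f (u * y * u⁻¹) =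
      subgroupBlockCoeff (Subgroup.centralizer (Q : Set G)) f y := by
  have himg : irrComp (conjC Q ⟨u, hu⟩)⁻¹ '' f = f := by
    refine Set.eq_of_subset_of_ncard_le ?_ ?_ (Set.toFinite _)
    · rintro _ ⟨χ, hχ, rfl⟩
      obtain ⟨χ', hχ', hc⟩ := h.2 χ hχ
      convert hχ' using 1
      refine Subtype.ext (funext fun c => ?_)
      rw [irrComp_apply, hc ((conjC Q ⟨u, hu⟩)⁻¹ c) c]
      exact (congrArg Subtype.val (MulAut.apply_inv_self _ (conjC Q ⟨u, hu⟩) c)).symm
    · rw [Set.ncard_image_of_injective _ (irrComp_injective _)]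
  rw [subgroupBlockCoeff_eq]
  by_cases hy : y ∈ Subgroup.centralizer (Q : Set G)
  · rw [extendByZero_mem _ _ hy, extendByZero_mem _ _ (conj_mem_centralizer hu hy)]
    conv_lhs => rw [← himg, blockCoeff_image]
    congr 1
    rw [MulAut.inv_apply, MulEquiv.symm_apply_eq]
    rfl
  · rw [extendByZero_not_mem _ _ hy, extendByZero_not_mem]
    exact fun h' => hy (by simpa [mul_assoc] using conj_mem_centralizer (inv_mem hu) h')

theorem stabilizes_of_blockCoeff (hM : M.IsPrime) {u : G}
    (hu : u ∈ Subgroup.normalizer (Q : Set G))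
    {f : Set (IrrCharacter (Subgroup.centralizer (Q : Set G)))} (hf : IsPBlock M f)
    (h : ∀ y, subgroupBlockCoeff (Subgroup.centralizer (Q : Set G)) f (u * y * u⁻¹) =
      subgroupBlockCoeff (Subgroup.centralizer (Q : Set G)) f y) :
    StabilizesBlock (Subgroup.centralizer (Q : Set G)) f u := by
  have himg : irrComp (conjC Q ⟨u, hu⟩)⁻¹ '' f = f := by
    refine blockCoeff_inj hM (isPBlock_image _ hf) hf (funext fun c => ?_)
    rw [blockCoeff_image]
    have h1 := h ((conjC Q ⟨u, hu⟩)⁻¹ c : G)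
    rw [show u * (((conjC Q ⟨u, hu⟩)⁻¹ c : Subgroup.centralizer (Q : Set G)) : G) * u⁻¹ = (c : G) from
      congrArg Subtype.val (MulAut.apply_inv_self _ (conjC Q ⟨u, hu⟩) c),
      subgroupBlockCoeff_eq, extendByZero_mem _ _ c.2, extendByZero_mem _ _
        ((conjC Q ⟨u, hu⟩)⁻¹ c).2] at h1
    exact h1.symm
  refine ⟨?_, fun χ hχ => ⟨irrComp (conjC Q ⟨u, hu⟩)⁻¹ χ, himg.subset ⟨χ, hχ, rfl⟩, fun k k' e => ?_⟩⟩
  · rw [Subgroup.mem_normalizer_iff]
    exact fun c => (conj_mem_centralizer_iff (H := Subgroup.normalizer (Q : Set G)) le_rfl ⟨u, hu⟩ c).symm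
  · rw [irrComp_apply]
    exact congrArg _ ((MulEquiv.symm_apply_eq _).mpr (Subtype.ext e))

end Conj

theorem centralizer_antitone {Q T : Subgroup G} (h : Q ≤ T) :
    Subgroup.centralizer (T : Set G) ≤ Subgroup.centralizer (Q : Set G) :=
  Subgroup.centralizer_le h

/-- The block coefficients of a stable block are good. -/
theorem isGoodFun_stable (hM : IsPModular p M) {Q T : Subgroup G} (hQT : Q ≤ T)
    (hTN : T ≤ Subgroup.normalizer (Q : Set G))
    {f : Set (IrrCharacter (Subgroup.centralizer (Q : Set G)))} (hf : IsPBlock M f)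
    (hst : ∀ x ∈ T, StabilizesBlock (Subgroup.centralizer (Q : Set G)) f x) :
    IsGoodFun M T (subgroupBlockCoeff (Subgroup.centralizer (Q : Set G)) f) := by
  haveI := Fintype.ofFinite (Subgroup.centralizer (Q : Set G))
  refine ⟨fun x => ?_, fun a ha y => blockCoeff_conj_eq_of_stabilizes (hTN ha) (hst a ha) y,
    fun a ha y => ?_⟩
  · rw [subgroupBlockCoeff_eq]
    by_cases hx : x ∈ Subgroup.centralizer (Q : Set G)
    · rw [extendByZero_mem _ _ hx]; exact memLR_blockCoeff hM hf _
    · rw [extendByZero_not_mem _ _ hx]; exact memLR_zero (pmod_prime hM)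
  · have haC := centralizer_antitone hQT ha
    rw [subgroupBlockCoeff_eq]
    by_cases hy : y ∈ Subgroup.centralizer (Q : Set G)
    · rw [extendByZero_mem _ _ hy,
        extendByZero_mem _ _ (mul_mem (mul_mem haC hy) (inv_mem haC))]
      exact isClassFunction_blockCoeff f ⟨y, hy⟩ ⟨a, haC⟩
    · rw [extendByZero_not_mem _ _ hy, extendByZero_not_mem]
      exact fun h => hy (by simpa [mul_assoc] using mul_mem (mul_mem (inv_mem haC) h) haC)

theorem conv_subgroupBlockCoeff (K : Subgroup G) (f : Set (IrrCharacter K)) :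
    conv (subgroupBlockCoeff K f) (subgroupBlockCoeff K f) = subgroupBlockCoeff K f := by
  haveI := Fintype.ofFinite K
  rw [subgroupBlockCoeff_eq, extendByZero_conv, conv_blockCoeff]

/-- The pair `(Q, Q)` step. -/
theorem isNormalSubpair_self (hM : IsPModular p M) {Q : Subgroup G} (hQ : IsPGroup p Q)
    {f : Set (IrrCharacter (Subgroup.centralizer (Q : Set G)))} (hf : IsPBlock M f) :
    IsNormalSubpair p M Q f Q f := by
  classical
  haveI := Fintype.ofFinite (Subgroup.centralizer (Q : Set G))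
  have hP := pmod_prime hM
  refine ⟨⟨hQ, hf⟩, ⟨hQ, hf⟩, le_rfl, Subgroup.le_normalizer, fun x hx => ?_, fun ξ hξ => ?_⟩
  · refine stabilizes_of_blockCoeff hP (Subgroup.le_normalizer hx) hf fun y => ?_
    rw [subgroupBlockCoeff_eq]
    by_cases hy : y ∈ Subgroup.centralizer (Q : Set G)
    · rw [show x * y * x⁻¹ = y by rw [hy x hx]; group]
    · rw [extendByZero_not_mem _ _ hy, extendByZero_not_mem]
      exact fun h => hy (by
        simpa [mul_assoc] using conj_mem_centralizer (inv_mem (Subgroup.le_normalizer hx)) h)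
  · rw [brauerOmega_eq, show tr Q (subgroupBlockCoeff (Subgroup.centralizer (Q : Set G)) f) =
      blockCoeff f from funext fun c => by
        rw [tr_apply, subgroupBlockCoeff_eq, extendByZero_mem _ _ c.2], lam_blockCoeff, if_pos hξ,
      sub_self]
    exact memLI_zero hP

end Cfsg.Agent.Char
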