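import Cfsg.Agent.Lib.Char.BrauerPairs

/-!
# Brauer pairs: existence, uniqueness and transfer along one normal step
-/

set_option autoImplicit false

namespace Cfsg.Agent.Char

open Cfsg Module
open scoped ComplexConjugate

universe u

variable {G : Type u} [Group G] [Fintype G] {M : Ideal AlgInt} {p : ℕ}

theorem image_image_conjC {Q : Subgroup G} [Fintype (Subgroup.centralizer (Q : Set G))]
    (a b c : Subgroup.normalizer (Q : Set G)) (h : (c : G) = (a : G) * b)
    (f : Set (IrrCharacter (Subgroup.centralizer (Q : Set G)))) :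
    irrComp (conjC Q b) '' (irrComp (conjC Q a) '' f) = irrComp (conjC Q c) '' f := by
  rw [Set.image_image]
  refine Set.image_congr fun χ _ => Subtype.ext (funext fun x => ?_)
  rw [irrComp_apply, irrComp_apply, irrComp_apply]
  refine congrArg _ (Subtype.ext ?_)
  rw [conjC_apply, conjC_apply, conjC_apply, h]
  group

theorem image_conjC_one {Q : Subgroup G} [Fintype (Subgroup.centralizer (Q : Set G))]
    (a : Subgroup.normalizer (Q : Set G)) (h : (a : G) = 1)
    (f : Set (IrrCharacter (Subgroup.centralizer (Q : Set G)))) :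
    irrComp (conjC Q a) '' f = f := by
  refine (Set.image_congr fun χ _ => Subtype.ext (funext fun x => ?_)).trans (Set.image_id f)
  rw [irrComp_apply]
  refine congrArg _ (Subtype.ext ?_)
  rw [conjC_apply, h]
  group

/-- Existence and uniqueness of a normal subpair. -/
theorem existsUnique_normalSubpair (hM : IsPModular p M) {Q T : Subgroup G} (hT : IsPGroup p T)
    (hQT : Q ≤ T) (hTN : T ≤ Subgroup.normalizer (Q : Set G))
    {e : Set (IrrCharacter (Subgroup.centralizer (T : Set G)))} (he : IsPBlock M e) :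
    ∃! f : Set (IrrCharacter (Subgroup.centralizer (Q : Set G))),
      IsNormalSubpair p M Q f T e := by
  classical
  haveI := Fintype.ofFinite (Subgroup.centralizer (Q : Set G))
  haveI := Fintype.ofFinite (Subgroup.centralizer (T : Set G))
  have hP := pmod_prime hM
  obtain ⟨ξ0, hξ0⟩ := block_nonempty hP he
  set X := {f : Set (IrrCharacter (Subgroup.centralizer (Q : Set G))) // IsPBlock M f}
  haveI : Fintype X := Fintype.ofFinite X
  let nmem : T → Subgroup.normalizer (Q : Set G) := fun t => ⟨(t : G)⁻¹, inv_mem (hTN t.2)⟩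
  letI act : MulAction T X :=
    { smul := fun t f => ⟨irrComp (conjC Q (nmem t)) '' f.1, isPBlock_image _ f.2⟩
      one_smul := fun f => Subtype.ext (image_conjC_one _ (by simp [nmem]) _)
      mul_smul := fun s t f => Subtype.ext
        (image_image_conjC (nmem t) (nmem s) (nmem (s * t)) (by simp [nmem]) f.1).symm }
  set F : X → ℂ := fun f => lam (ξ0 : Subgroup.centralizer (T : Set G) → ℂ)
    (tr T (subgroupBlockCoeff (Subgroup.centralizer (Q : Set G)) f.1)) with hF
  have hgood0 : ∀ f : X, IsIntClassFun M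
      (tr T (subgroupBlockCoeff (Subgroup.centralizer (Q : Set G)) f.1)) := fun f => by
    refine ⟨fun a k => ?_, fun x => ?_⟩
    · rw [tr_apply, tr_apply, subgroupBlockCoeff_eq,
        extendByZero_mem _ _ (centralizer_antitone hQT a.2),
        extendByZero_mem _ _ (centralizer_antitone hQT (k * a * k⁻¹).2)]
      exact isClassFunction_blockCoeff f.1 ⟨(a : G), centralizer_antitone hQT a.2⟩
        ⟨(k : G), centralizer_antitone hQT k.2⟩
    · rw [tr_apply, subgroupBlockCoeff_eq, extendByZero_mem _ _ (centralizer_antitone hQT x.2)]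
      exact memLR_blockCoeff hM f.2 _
  have hR : ∀ f : X, MemLocalRing M (F f) := fun f =>
    memLR_lam hP ξ0.2 (hgood0 f).1 (hgood0 f).2
  have hinv : ∀ (t : T) (f : X), F (t • f) = F f := fun t f => by
    refine congrArg (lam _) (funext fun x => ?_)
    rw [tr_apply, tr_apply, subgroupBlockCoeff_eq, subgroupBlockCoeff_eq,
      extendByZero_mem _ _ (centralizer_antitone hQT x.2),
      extendByZero_mem _ _ (centralizer_antitone hQT x.2)]
    show blockCoeff (irrComp (conjC Q (nmem t)) '' f.1) _ = _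
    rw [blockCoeff_image]
    congr 1
    refine Subtype.ext ?_
    rw [conjC_apply]
    show (t : G)⁻¹ * (x : G) * (t : G)⁻¹⁻¹ = x
    rw [inv_inv, mul_assoc, ← x.2 (t : G) t.2, inv_mul_cancel_left]
  have hsum : ∑ f : X, F f = 1 := by
    rw [hF, ← lam_sum]
    have hd : ∑ f : X, tr T (subgroupBlockCoeff (Subgroup.centralizer (Q : Set G)) f.1) =
        (delta : Subgroup.centralizer (T : Set G) → ℂ) := by
      funext x
      rw [Finset.sum_apply]
      have h1 := congrFun (delta_eq_sum_blocks (G := Subgroup.centralizer (Q : Set G)) hP)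
        ⟨x, centralizer_antitone hQT x.2⟩
      rw [Finset.sum_apply] at h1
      rw [show (delta : Subgroup.centralizer (T : Set G) → ℂ) x =
        (delta : Subgroup.centralizer (Q : Set G) → ℂ) ⟨x, centralizer_antitone hQT x.2⟩ by
          simp only [delta_apply]
          exact if_congr ⟨fun h => Subtype.ext (congrArg Subtype.val h :),
            fun h => Subtype.ext (congrArg Subtype.val h :)⟩ rfl rfl, h1,
        Finset.sum_subtype (p := fun f => IsPBlock M f)
          ((Finset.univ : Finset (IrrCharacter (Subgroup.centralizer (Q : Set G)))).image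
            fun ξ : IrrCharacter (Subgroup.centralizer (Q : Set G)) =>
              blockOf M (ξ : Subgroup.centralizer (Q : Set G) → ℂ))
          (fun f => by simp [IsPBlock, eq_comm])]
      refine Finset.sum_congr rfl fun f _ => ?_
      rw [tr_apply, subgroupBlockCoeff_eq, extendByZero_mem _ _ (centralizer_antitone hQT x.2)]
    rw [hd, lam_delta ξ0.2]
  obtain ⟨f, hfix, hfu⟩ : ∃ f : X, f ∈ MulAction.fixedPoints T X ∧ ¬ MemLocalIdeal M (F f) := by
    by_contra hne
    push Not at hne
    have h1 := sum_fixedPoints_congr hM hT F hR hinv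
    rw [hsum] at h1
    refine memLI_one_iff hP (memLI_congr hP h1 ?_)
    exact memLI_sum hP _ _ fun f hf => hne f (Finset.mem_filter.mp hf).2
  have hst : ∀ t ∈ T, StabilizesBlock (Subgroup.centralizer (Q : Set G)) f.1 t := fun t ht => by
    refine stabilizes_of_blockCoeff hP (hTN ht) f.2 fun y => ?_
    have h1 : irrComp (conjC Q (nmem ⟨t⁻¹, inv_mem ht⟩)) '' f.1 = f.1 :=
      congrArg Subtype.val (hfix ⟨t⁻¹, inv_mem ht⟩)
    rw [subgroupBlockCoeff_eq]
    by_cases hy : y ∈ Subgroup.centralizer (Q : Set G)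
    · rw [extendByZero_mem _ _ hy, extendByZero_mem _ _ (conj_mem_centralizer (hTN ht) hy)]
      conv_rhs => rw [← h1, blockCoeff_image]
      congr 1
      refine Subtype.ext ?_
      rw [conjC_apply]
      simp [nmem]
    · rw [extendByZero_not_mem _ _ hy, extendByZero_not_mem]
      exact fun h' => hy (by simpa [mul_assoc] using conj_mem_centralizer (inv_mem (hTN ht)) h')
  have hQp : IsPGroup p Q := hT.to_le hQT
  have hg := isGoodFun_stable hM hQT hTN f.2 hst
  refine ⟨f.1, ⟨⟨hQp, f.2⟩, ⟨hT, he⟩, hQT, hTN, hst, ?_⟩, ?_⟩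
  · refine brOne_of_mem hM he hg hξ0 ?_
    rw [brauerOmega_eq]
    exact ((isModIdem_tr hM hT hg (conv_subgroupBlockCoeff _ _)).lam_cases hP ξ0).resolve_left hfu
  · rintro g ⟨⟨-, hgb⟩, -, -, -, hgst, hgone⟩
    by_contra hne
    have hgg := isGoodFun_stable hM hQT hTN hgb hgst
    have h0 := tr_conv hM hT hgg hg
    have e0 : conv (subgroupBlockCoeff (Subgroup.centralizer (Q : Set G)) g)
        (subgroupBlockCoeff (Subgroup.centralizer (Q : Set G)) f.1) = 0 := by
      rw [subgroupBlockCoeff_eq, subgroupBlockCoeff_eq, extendByZero_conv,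
        conv_blockCoeff_ne hP hgb f.2 hne]
      funext x
      by_cases hx : x ∈ Subgroup.centralizer (Q : Set G)
      · rw [extendByZero_mem _ _ hx]; rfl
      · rw [extendByZero_not_mem _ _ hx]; rfl
    have h1 := lam_ceq hP ξ0 (hgg.conv hP hg).tr.1 (intClassFun_conv hP hgg.tr hg.tr).1 h0
    have h2 := hgone ξ0 hξ0
    rw [brauerOmega_eq] at h2
    rw [e0, show tr T (0 : G → ℂ) = 0 from rfl, lam_zero, lam_conv ξ0.2 hgg.tr.1 hg.tr.1, zero_sub]
      at h1
    have h3 := memLI_neg hP h1
    rw [neg_neg] at h3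
    refine hfu (memLI_congr hP ?_ h3)
    rw [show F f - lam (ξ0 : _ → ℂ) (tr T (subgroupBlockCoeff _ g)) * lam (ξ0 : _ → ℂ)
      (tr T (subgroupBlockCoeff _ f.1)) = -((lam (ξ0 : _ → ℂ) (tr T (subgroupBlockCoeff _ g)) - 1) *
        F f) by rw [hF]; ring]
    exact memLI_neg hP (memLI_mul_right hP h2 (hR f))

theorem conv_idem_block (hM : IsPModular p M) {h : G → ℂ} (hh : IsModIdem M h)
    {s : Set (IrrCharacter G)} (hs : IsPBlock M s) {ξ : IrrCharacter G} (hξ : ξ ∈ s) :
    CEq M (conv h (blockCoeff s)) (lam (ξ : G → ℂ) h • blockCoeff s) := by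
  classical
  have hP := pmod_prime hM
  have hb := isModIdem_blockCoeff hM hs
  have hcb : IsModIdem M (conv h (blockCoeff s)) := hh.mul hP hb
  have hval : ∀ ψ : IrrCharacter G, MemLocalIdeal M (lam (ψ : G → ℂ) (conv h (blockCoeff s)) -
      lam (ξ : G → ℂ) h * lam (ψ : G → ℂ) (blockCoeff s)) := by
    intro ψ
    rw [lam_conv ψ.2 hh.1.1 hb.1.1, lam_blockCoeff]
    split_ifs with hψ
    · rw [mul_one, mul_one]
      exact lam_congr hP ψ.2 ξ.2 (block_sameBlock hP hs hψ hξ) hh.1.1 hh.1.2
    · simpa using memLI_zero hP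
  rcases hh.lam_cases hP ξ with h0 | h1
  · refine (hcb.eq_zero hM fun ψ => ?_).trans hP fun x => ?_
    · exact memLI_congr hP (hval ψ) (memLI_mul_right hP h0 (memLR_lam hP ψ.2 hb.1.1 hb.1.2))
    · rw [Pi.zero_apply, zero_sub, Pi.smul_apply, smul_eq_mul]
      exact memLI_neg hP (memLI_mul_right hP h0 (hb.1.2 x))
  · refine (hcb.ext hM hb fun ψ => ?_).trans hP fun x => ?_
    · refine memLI_trans hP (hval ψ) ?_
      rw [← sub_one_mul]
      exact memLI_mul_right hP h1 (memLR_lam hP ψ.2 hb.1.1 hb.1.2)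
    · rw [Pi.smul_apply, smul_eq_mul, show blockCoeff s x - lam (ξ : G → ℂ) h * blockCoeff s x =
        -((lam (ξ : G → ℂ) h - 1) * blockCoeff s x) by ring]
      exact memLI_neg hP (memLI_mul_right hP h1 (hb.1.2 x))

/-- Transfer of values along a normal step. -/
theorem lam_transfer (hM : IsPModular p M) {S T : Subgroup G}
    [Fintype (Subgroup.centralizer (S : Set G))] [Fintype (Subgroup.centralizer (T : Set G))]
    {s : Set (IrrCharacter (Subgroup.centralizer (S : Set G)))}
    {t : Set (IrrCharacter (Subgroup.centralizer (T : Set G)))}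
    (h : IsNormalSubpair p M S s T t) {F : G → ℂ} (hF : IsGoodFun M S F)
    (hFT : ∀ a ∈ T, ∀ y, F (a * y * a⁻¹) = F y) (hidem : IsModIdem M (tr S F))
    {ξs : IrrCharacter (Subgroup.centralizer (S : Set G))} (hξs : ξs ∈ s)
    {ξt : IrrCharacter (Subgroup.centralizer (T : Set G))} (hξt : ξt ∈ t) :
    MemLocalIdeal M (lam (ξt : _ → ℂ) (tr T F) - lam (ξs : _ → ℂ) (tr S F)) := by
  classical
  obtain ⟨⟨-, hs⟩, ⟨hT, ht⟩, hST, hTN, hst, hone⟩ := h
  have hP := pmod_prime hM
  set hh := tr S F with hhdef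
  set c := lam (ξs : Subgroup.centralizer (S : Set G) → ℂ) hh with hc
  have hcR : MemLocalRing M c := memLR_lam hP ξs.2 hidem.1.1 hidem.1.2
  set b := blockCoeff s with hb
  have hcases : CEq M (conv hh b) (c • b) := conv_idem_block hM hidem hs hξs
  set F1 := extendByZero (Subgroup.centralizer (S : Set G)) hh with hF1
  have hTC : Subgroup.centralizer (T : Set G) ≤ (Subgroup.centralizer (S : Set G)) := centralizer_antitone hST
  have hF1v : ∀ y, F1 y = if y ∈ (Subgroup.centralizer (S : Set G)) then F y else 0 := by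
    intro y
    by_cases hy : y ∈ (Subgroup.centralizer (S : Set G))
    · rw [hF1, extendByZero_mem _ _ hy, if_pos hy]; rfl
    · rw [hF1, extendByZero_not_mem _ _ hy, if_neg hy]
  have hg1 : IsGoodFun M T F1 := by
    refine ⟨fun x => ?_, fun a ha y => ?_, fun a ha y => ?_⟩
    · rw [hF1v]
      split_ifs
      exacts [hF.memLR _, memLR_zero hP]
    · rw [hF1v, hF1v, hFT a ha]
      exact if_congr (conj_mem_centralizer_iff (H := Subgroup.normalizer (S : Set G)) le_rfl
        ⟨a, hTN ha⟩ y) rfl rfl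
    · rw [hF1v, hF1v, hF.invC a (hTC ha)]
      refine if_congr ⟨fun h => ?_, fun h => mul_mem (mul_mem (hTC ha) h) (inv_mem (hTC ha))⟩ rfl rfl
      simpa [mul_assoc] using mul_mem (mul_mem (inv_mem (hTC ha)) h) (hTC ha)
  have hgb := isGoodFun_stable hM hST hTN hs hst
  have htr : tr T F1 = tr T F := funext fun x => by
    rw [tr_apply, tr_apply, hF1v, if_pos (hTC x.2)]
  have h1 := lam_ceq hP ξt (hg1.conv hP hgb).tr.1 (intClassFun_conv hP hg1.tr hgb.tr).1
    (tr_conv hM hT hg1 hgb)
  rw [lam_conv ξt.2 hg1.tr.1 hgb.tr.1, htr] at h1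
  set L := lam (ξt : Subgroup.centralizer (T : Set G) → ℂ) (tr T F) with hL
  set B1 := lam (ξt : Subgroup.centralizer (T : Set G) → ℂ) (tr T (subgroupBlockCoeff (Subgroup.centralizer (S : Set G)) s)) with hB1
  have hB : MemLocalIdeal M (B1 - 1) := by
    have := hone ξt hξt
    rwa [brauerOmega_eq] at this
  have hBR : MemLocalRing M B1 := memLR_lam hP ξt.2 hgb.tr.1 hgb.tr.2
  have hLR : MemLocalRing M L := by
    rw [hL, ← htr]
    exact memLR_lam hP ξt.2 hg1.tr.1 hg1.tr.2
  have h2 : CEq M (tr T (conv F1 (subgroupBlockCoeff (Subgroup.centralizer (S : Set G)) s))) (c • tr T (subgroupBlockCoeff (Subgroup.centralizer (S : Set G)) s)) := by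
    intro x
    rw [tr_apply, hF1, subgroupBlockCoeff_eq, extendByZero_conv, extendByZero_mem _ _ (hTC x.2),
      Pi.smul_apply, tr_apply, extendByZero_mem _ _ (hTC x.2)]
    exact hcases ⟨x, hTC x.2⟩
  have h3 := lam_ceq hP ξt (hg1.conv hP hgb).tr.1 (intClassFun_smul hP hcR hgb.tr).1 h2
  rw [lam_smul] at h3
  have h4 : MemLocalIdeal M (L * B1 - c * B1) := memLI_trans hP (memLI_symm hP h1) h3
  have e : L - c = (L * B1 - c * B1) - (L - c) * (B1 - 1) := by ring
  rw [e]
  exact memLI_sub hP h4 (memLI_mul_left hP (memLR_sub hP hLR hcR) hB)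

theorem brOne_iff_transfer (hM : IsPModular p M) {S T : Subgroup G}
    {s : Set (IrrCharacter (Subgroup.centralizer (S : Set G)))}
    {t : Set (IrrCharacter (Subgroup.centralizer (T : Set G)))}
    (h : IsNormalSubpair p M S s T t) {F : G → ℂ} (hF : IsGoodFun M S F)
    (hFT : ∀ a ∈ T, ∀ y, F (a * y * a⁻¹) = F y) (hFF : conv F F = F) :
    BrOne M S F s ↔ BrOne M T F t := by
  haveI := Fintype.ofFinite (Subgroup.centralizer (S : Set G))
  haveI := Fintype.ofFinite (Subgroup.centralizer (T : Set G))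
  have hP := pmod_prime hM
  have hidem := isModIdem_tr hM h.1.1 hF hFF
  obtain ⟨ξs0, hξs0⟩ := block_nonempty hP h.1.2
  obtain ⟨ξt0, hξt0⟩ := block_nonempty hP h.2.1.2
  constructor
  · intro h1 ξt hξt
    have h2 := h1 ξs0 hξs0
    rw [brauerOmega_eq] at h2 ⊢
    exact memLI_trans hP (lam_transfer hM h hF hFT hidem hξs0 hξt) h2
  · intro h1 ξs hξs
    have h2 := h1 ξt0 hξt0
    rw [brauerOmega_eq] at h2 ⊢
    exact memLI_trans hP (memLI_symm hP (lam_transfer hM h hF hFT hidem hξs hξt0)) h2

theorem brauerPairOf_iff (hM : IsPModular p M) {B : Set (IrrCharacter G)} (hB : IsPBlock M B)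
    {S T : Subgroup G}
    {s : Set (IrrCharacter (Subgroup.centralizer (S : Set G)))}
    {t : Set (IrrCharacter (Subgroup.centralizer (T : Set G)))}
    (h : IsNormalSubpair p M S s T t) :
    IsBrauerPairOf p M B S s ↔ IsBrauerPairOf p M B T t := by
  have hb := isIntClassFun_blockCoeff hM hB
  have key := brOne_iff_transfer hM h (isGoodFun_of_classFun S hb) (fun a _ y => hb.1 y a)
    (conv_blockCoeff B)
  exact ⟨fun h1 => ⟨h.2.1, hB, key.mp h1.2.2⟩, fun h1 => ⟨h.1, hB, key.mpr h1.2.2⟩⟩

/-- A subpair of a pair restricts to subpairs of intermediate pairs. -/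
theorem normalSubpair_between (hM : IsPModular p M) {Q S T : Subgroup G}
    {f : Set (IrrCharacter (Subgroup.centralizer (Q : Set G)))}
    {s : Set (IrrCharacter (Subgroup.centralizer (S : Set G)))}
    {t : Set (IrrCharacter (Subgroup.centralizer (T : Set G)))}
    (hft : IsNormalSubpair p M Q f T t) (hst : IsNormalSubpair p M S s T t) (hQS : Q ≤ S) :
    IsNormalSubpair p M Q f S s := by
  obtain ⟨hfp, -, hQT, hTN, hfst, hfone⟩ := hft
  have hST := hst.2.2.1
  have hfS : ∀ x ∈ S, StabilizesBlock (Subgroup.centralizer (Q : Set G)) f x :=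
    fun x hx => hfst x (hST hx)
  refine ⟨hfp, hst.1, hQS, hST.trans hTN, hfS, ?_⟩
  have hgood := isGoodFun_stable hM hQS (hST.trans hTN) hfp.2 hfS
  exact (brOne_iff_transfer hM hst hgood (isGoodFun_stable hM hQT hTN hfp.2 hfst).invT
    (conv_subgroupBlockCoeff _ _)).mpr hfone

end Cfsg.Agent.Char
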