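import Cfsg.Agent.Lib.Char.FrobSylowOrbit
import Cfsg.Agent.Lib.Char.BrauerChar
import Mathlib

/-!
# Class functions on the singular elements from invariant functions on `P`
-/

set_option autoImplicit false
set_option linter.unusedSectionVars false

namespace Cfsg.Agent.Char

open Cfsg
open scoped ComplexConjugate

universe u

/-- Taking `p`-parts is multiplicative on an elementary group. -/
theorem ppt_mul_of_elementary {E : Type u} [Group E] [Finite E] {ℓ p : ℕ} (hℓ : ℓ.Prime)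
    (hp : p.Prime) (hE : IsElementary ℓ E) (a b : E) : ppt p (a * b) = ppt p a * ppt p b := by
  classical
  haveI := Fintype.ofFinite E
  obtain ⟨x, hx, hcop, k, hk⟩ := hE
  set X := Subgroup.zpowers x with hX
  have hXc : X ≤ Subgroup.center E := Subgroup.zpowers_le.mpr hx
  haveI hXn : X.Normal := ⟨fun n hn g => by
    rw [Subgroup.mem_center_iff.mp (hXc hn) g, mul_inv_cancel_right]; exact hn⟩
  have hXℓ : ¬ ℓ ∣ Nat.card X := by
    rw [hX, Nat.card_zpowers]
    exact hℓ.coprime_iff_not_dvd.mp hcop.symm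
  have hmemX : ∀ e : E, ¬ ℓ ∣ orderOf e → e ∈ X := fun e he =>
    (regular_iff_mem_of_index hℓ X hXℓ hk e).mp he
  obtain ⟨j, -, hj⟩ := (Nat.dvd_prime_pow hℓ).mp (hk ▸ Subgroup.index_dvd_of_le hXc)
  -- transfer into the centre
  have hpow : ∀ u v : E, (u * v) ^ ℓ ^ j = u ^ ℓ ^ j * v ^ ℓ ^ j := fun u v => by
    have := congrArg Subtype.val (map_mul (MonoidHom.transferCenterPow E) u v)
    simp only [Subgroup.coe_mul, MonoidHom.transferCenterPow_apply, hj] at this
    exact this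
  have hzc : ∀ e : E, e ^ ℓ ^ j ∈ Subgroup.center E := fun e =>
    hj ▸ (Subgroup.center E).pow_index_mem e
  obtain ⟨ka, hka⟩ := ppt_ppower hp a
  obtain ⟨kb, hkb⟩ := ppt_ppower hp b
  have hra := (preg_spec hp a).2.1
  have hrb := (preg_spec hp b).2.1
  by_cases hpl : p = ℓ
  · subst hpl
    have ha : preg p a ∈ Subgroup.center E := hXc (hmemX _ hra)
    have hb : preg p b ∈ Subgroup.center E := hXc (hmemX _ hrb)
    have e : a * b = (ppt p a * ppt p b) * (preg p a * preg p b) := by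
      conv_lhs => rw [← ppt_mul_preg (p := p) a, ← ppt_mul_preg (p := p) b]
      rw [mul_assoc, mul_assoc, ← mul_assoc (preg p a),
        ← Subgroup.mem_center_iff.mp ha (ppt p b), mul_assoc]
    rw [e]
    refine ppt_mul hp ?_ ?_ ?_
    · exact Subgroup.mem_center_iff.mp (Subgroup.mul_mem _ ha hb) _
    · have h1 : ((ppt p a * ppt p b) ^ p ^ j) ^ p ^ (ka + kb) = 1 := by
        rw [hpow, (show Commute (ppt p a ^ p ^ j) (ppt p b ^ p ^ j) from
          (Subgroup.mem_center_iff.mp (hzc _) _)).mul_pow,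
          orderOf_dvd_iff_pow_eq_one.mp ?_, orderOf_dvd_iff_pow_eq_one.mp ?_, one_mul]
        · exact (orderOf_pow_dvd _).trans (hkb.symm ▸ pow_dvd_pow p (Nat.le_add_left _ _))
        · exact (orderOf_pow_dvd _).trans (hka.symm ▸ pow_dvd_pow p (Nat.le_add_right _ _))
      rw [← pow_mul, ← pow_add] at h1
      obtain ⟨i, -, hi⟩ := (Nat.dvd_prime_pow hp).mp (orderOf_dvd_of_pow_eq_one h1)
      exact ⟨i, hi⟩
    · have hmem : preg p a * preg p b ∈ X := X.mul_mem (hmemX _ hra) (hmemX _ hrb)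
      exact fun hd => hXℓ (hd.trans (Subgroup.orderOf_mk _ hmem ▸ orderOf_dvd_natCard _))
  · have hcent : ∀ e : E, ppt p e ∈ Subgroup.center E := fun e => by
      obtain ⟨i, hi⟩ := ppt_ppower hp e
      refine hXc (hmemX _ fun hd => ?_)
      rw [hi] at hd
      exact hpl ((Nat.prime_dvd_prime_iff_eq hℓ hp).mp (hℓ.dvd_of_dvd_pow hd)).symm
    have e : a * b = (ppt p a * ppt p b) * (preg p a * preg p b) := by
      conv_lhs => rw [← ppt_mul_preg (p := p) a, ← ppt_mul_preg (p := p) b]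
      rw [mul_assoc, mul_assoc, ← mul_assoc (preg p a),
        Subgroup.mem_center_iff.mp (hcent b) (preg p a), mul_assoc]
    rw [e]
    refine ppt_mul hp ?_ ?_ ?_
    · exact (Subgroup.mem_center_iff.mp (Subgroup.mul_mem _ (hcent a) (hcent b)) _).symm
    · have hcab : Commute (ppt p a) (ppt p b) := Subgroup.mem_center_iff.mp (hcent b) _
      have hd := hcab.orderOf_mul_dvd_mul_orderOf
      rw [hka, hkb, ← pow_add] at hd
      obtain ⟨i, -, hi⟩ := (Nat.dvd_prime_pow hp).mp hd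
      exact ⟨i, hi⟩
    · intro hd
      set w := preg p a * preg p b with hw
      have hcw : Commute (preg p a ^ ℓ ^ j) (preg p b ^ ℓ ^ j) :=
        (Subgroup.mem_center_iff.mp (hzc _) _)
      have h1 : orderOf (w ^ ℓ ^ j) ∣ orderOf (preg p a) * orderOf (preg p b) := by
        rw [hw, hpow]
        exact hcw.orderOf_mul_dvd_mul_orderOf.trans
          (Nat.mul_dvd_mul (orderOf_pow_dvd _) (orderOf_pow_dvd _))
      have h2 : orderOf w ∣ ℓ ^ j * orderOf (w ^ ℓ ^ j) := by
        refine orderOf_dvd_of_pow_eq_one ?_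
        rw [pow_mul, pow_orderOf_eq_one]
      have h3 := hd.trans (h2.trans (Nat.mul_dvd_mul_left _ h1))
      rcases hp.dvd_mul.mp h3 with h4 | h4
      · exact hpl ((Nat.prime_dvd_prime_iff_eq hp hℓ).mp (hp.dvd_of_dvd_pow h4))
      · exact (hp.dvd_mul.mp h4).elim hra hrb

variable {G : Type u} [Group G] [Fintype G] {p : ℕ} [Fact p.Prime] {P : Sylow p G} {m : ℕ}

/-- The `p`-parts in an elementary subgroup form a homomorphism into a conjugate of `P`. -/
theorem exists_hom_ppt (E : Subgroup G) {ℓ : ℕ} (hℓ : ℓ.Prime) (hE : IsElementary ℓ E) :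
    ∃ f : ↥E →* ↥(P : Subgroup G), ∀ e : E, IsConj (ppt p (e : G)) ((f e : ↥(P : Subgroup G)) : G) := by
  have hp : p.Prime := Fact.out
  let g : ↥E →* G :=
    MonoidHom.mk' (fun e => ppt p (e : G)) fun a b => by
      simp only [ppt_coe hp E]
      rw [ppt_mul_of_elementary hℓ hp hE a b, Subgroup.coe_mul]
  have hrange : IsPGroup p g.range := by
    refine IsPGroup.iff_orderOf.mpr ?_
    rintro ⟨x, e, rfl⟩
    obtain ⟨k, hk⟩ := ppt_ppower hp (e : G)
    exact ⟨k, (Subgroup.orderOf_mk _ _).trans hk⟩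
  obtain ⟨Q, hQ⟩ := hrange.exists_le_sylow
  obtain ⟨c, hc⟩ := MulAction.exists_smul_eq G Q P
  have hmem : ∀ e, c * g e * c⁻¹ ∈ (P : Subgroup G) := fun e => by
    rw [← hc, Sylow.coe_subgroup_smul]
    exact ⟨g e, hQ ⟨e, rfl⟩, rfl⟩
  exact ⟨((MulAut.conj c).toMonoidHom.comp g).codRestrict _ hmem,
    fun e => isConj_iff.mpr ⟨c, rfl⟩⟩

open scoped Classical in
/-- The class function vanishing on regular elements with given values on `P`. -/
noncomputable def liftP (P : Sylow p G) (f : ↥(P : Subgroup G) → ℂ) : G → ℂ := fun g =>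
  if h : ∃ y : ↥(P : Subgroup G), IsConj (ppt p g) (y : G) then f h.choose else 0

/-- Invariance under the normalizer. -/
def NInv (P : Sylow p G) (f : ↥(P : Subgroup G) → ℂ) : Prop :=
  ∀ (n : ↥(Subgroup.normalizer ((P : Subgroup G) : Set G))) (y : ↥(P : Subgroup G)),
    f (conjP n y) = f y

namespace FrobSylow

variable (h : FrobSylow P m) {f : ↥(P : Subgroup G) → ℂ}
include h

theorem inv_of_isConj (hf : NInv P f) {y y' : ↥(P : Subgroup G)} (hc : IsConj (y : G) (y' : G)) :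
    f y = f y' := by
  obtain ⟨n, hn, he⟩ := h.fusion hc
  have : conjP ⟨n, hn⟩ y' = y := Subtype.ext (by rw [coe_conjP, ← he]; group)
  rw [← this, hf]

theorem liftP_apply (hf : NInv P f) {g : G} {y : ↥(P : Subgroup G)}
    (hc : IsConj (ppt p g) (y : G)) : liftP P f g = f y := by
  have hex : ∃ y : ↥(P : Subgroup G), IsConj (ppt p g) (y : G) := ⟨y, hc⟩
  rw [liftP, dif_pos hex]
  exact h.inv_of_isConj hf (hex.choose_spec.symm.trans hc)

theorem liftP_regular (hf : NInv P f) (h1 : f 1 = 0) {g : G} (hg : ¬ p ∣ orderOf g) :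
    liftP P f g = 0 := by
  rw [h.liftP_apply hf (y := 1) (by rw [(ppt_eq_one_iff Fact.out g).mpr hg, OneMemClass.coe_one]),
    h1]

theorem isClassFunction_liftP (hf : NInv P f) : IsClassFunction G (liftP P f) := by
  intro g k
  obtain ⟨y, hy⟩ := exists_conj_ppt (P := P) g
  rw [h.liftP_apply hf hy]
  refine h.liftP_apply hf ?_
  rw [ppt_conj Fact.out]
  exact (isConj_iff.mpr ⟨k, rfl⟩ : IsConj (ppt p g) (k * ppt p g * k⁻¹)).symm.trans hy

theorem isGen_liftP (hf : NInv P f) {A B : Finset (↥(P : Subgroup G) →* ℂˣ)}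
    (hAB : ∀ y, f y = ∑ ψ ∈ A, ((ψ y : ℂˣ) : ℂ) - ∑ ψ ∈ B, ((ψ y : ℂˣ) : ℂ)) :
    IsGeneralizedCharacter G (liftP P f) := by
  refine brauer_characterization (h.isClassFunction_liftP hf) fun E ℓ hℓ hE => ?_
  obtain ⟨g, hg⟩ := exists_hom_ppt (P := P) E hℓ hE
  refine ⟨fun e => ∑ ψ ∈ A, (((ψ.comp g) e : ℂˣ) : ℂ),
    fun e => ∑ ψ ∈ B, (((ψ.comp g) e : ℂˣ) : ℂ), ?_, ?_, ?_⟩
  · convert isCharacter_sum A (fun ψ => fun e => (((ψ.comp g) e : ℂˣ) : ℂ))
      (fun ψ _ => isCharacter_linear _) using 1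
    funext e
    simp
  · convert isCharacter_sum B (fun ψ => fun e => (((ψ.comp g) e : ℂˣ) : ℂ))
      (fun ψ _ => isCharacter_linear _) using 1
    funext e
    simp
  · funext e
    rw [Pi.sub_apply, h.liftP_apply hf (hg e), hAB]
    rfl

theorem liftP_section (hf : NInv P f) {y : ↥(P : Subgroup G)}
    (v : Subgroup.centralizer ({(y : G)} : Set G)) (hv : ¬ p ∣ orderOf v) :
    liftP P f ((y : G) * (v : G)) = f y :=
  h.liftP_apply hf (by
    rw [ppt_mul Fact.out (cent_mul_comm v) (ppower (P := P) y) (by rwa [Subgroup.orderOf_coe])])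

theorem liftP_coe (hf : NInv P f) (y : ↥(P : Subgroup G)) : liftP P f (y : G) = f y :=
  h.liftP_apply hf (by rw [ppt_of_ppower Fact.out (ppower (P := P) y)])

end FrobSylow

end Cfsg.Agent.Char
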