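import Cfsg.Agent.Lib.Char.FrobSylowSections
import Cfsg.Agent.Lib.Char.FrobSylowLift
import Cfsg.Agent.Lib.Char.Exceptional
import Mathlib

/-!
# The principal block: exceptional and non-exceptional characters
-/

set_option autoImplicit false
set_option linter.unusedSectionVars false

namespace Cfsg.Agent.Char

open Cfsg
open scoped ComplexConjugate

universe u

variable {G : Type u} [Group G] [Fintype G] {M : Ideal AlgInt} {p : ℕ} [Fact p.Prime]
  {P : Sylow p G} {m r : ℕ}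

/-- The indexing of the orbits on the non-trivial linear characters of `P`. -/
structure OrbitIndex [Fintype (↥(P : Subgroup G) →* ℂˣ)] (m : ℕ)
    (rep : Fin r → (↥(P : Subgroup G) →* ℂˣ))
    (idx : (↥(P : Subgroup G) →* ℂˣ) → Fin r) : Prop where
  count : r * m + 1 = Nat.card P
  rep_ne : ∀ i, rep i ≠ 1
  idx_rep : ∀ i, idx (rep i) = i
  mem : ∀ ψ, ψ ≠ 1 → ψ ∈ orbP (rep (idx ψ))
  const : ∀ ψ, ψ ≠ 1 → ∀ ψ' ∈ orbP ψ, idx ψ' = idx ψ

/-- The principal block in the exceptional situation. -/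
structure PrincipalExc [Fintype (↥(P : Subgroup G) →* ℂˣ)] (M : Ideal AlgInt)
    (m : ℕ) (rep : Fin r → (↥(P : Subgroup G) →* ℂˣ))
    (X : Finset (IrrCharacter G)) (μ : Fin r → IrrCharacter G)
    (a : IrrCharacter G → ℤ) (d δ : ℤ) : Prop where
  sign : δ = 1 ∨ δ = -1
  inj : Function.Injective μ
  mem_iff : ∀ χ, χ ∈ principalBlock M G ↔ χ ∈ X ∨ ∃ i, μ i = χ
  notMem : ∀ i, μ i ∉ X
  one_mem : (⟨fun _ => 1, isIrrCharacter_one⟩ : IrrCharacter G) ∈ X
  one_val : a ⟨fun _ => 1, isIrrCharacter_one⟩ = 1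
  a_ne : ∀ χ ∈ X, a χ ≠ 0
  a_val : ∀ χ ∈ X, ∀ y ∈ nonOne P, (χ : G → ℂ) (y : G) = (a χ : ℂ)
  mu_val : ∀ i, ∀ y ∈ nonOne P,
    (μ i : G → ℂ) (y : G) = (d : ℂ) + (δ : ℂ) * orbSum (rep i) y
  norm : (d - δ) ^ 2 + ((r : ℤ) - 1) * d ^ 2 + ∑ χ ∈ X, a χ ^ 2 = (m : ℤ) + 1
  reg : ∀ i j, ∀ g : G, ¬ p ∣ orderOf g → (μ i : G → ℂ) g = (μ j : G → ℂ) g
  rel : ∀ i, ∀ g : G, ¬ p ∣ orderOf g →
    ((r : ℂ) * d - δ) * (μ i : G → ℂ) g + ∑ χ ∈ X, (a χ : ℂ) * (χ : G → ℂ) g = 0

namespace FrobSylow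

open scoped Classical in
theorem classInner_liftP (h : FrobSylow P m) (hm : m ≠ 0) {f : ↥(P : Subgroup G) → ℂ}
    (hf : NInv P f) (h1 : f 1 = 0) {F : G → ℂ} (hF : IsClassFunction G F)
    (hs : ∀ y : ↥(P : Subgroup G), (y : G) ≠ 1 →
      ∀ v : Subgroup.centralizer ({(y : G)} : Set G), ¬ p ∣ orderOf v →
        F ((y : G) * (v : G)) = F (y : G)) :
    ((Nat.card P : ℂ) * m) * classInner (liftP P f) F =
      ∑ y : ↥(P : Subgroup G), f y * conj (F (y : G)) := by
  have hsum : ∑ g : G, liftP P f g * conj (F g) =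
      ∑ g : G with p ∣ orderOf g, liftP P f g * conj (F g) := by
    symm
    refine Finset.sum_filter_of_ne fun g _ hne => ?_
    by_contra hg
    exact hne (by rw [h.liftP_regular hf h1 hg, zero_mul])
  have hcl : IsClassFunction G fun g => liftP P f g * conj (F g) := fun g k => by
    show liftP P f _ * conj (F _) = _
    rw [h.isClassFunction_liftP hf g k, hF g k]
  rw [classInner, hsum, mul_left_comm, h.sum_singular_const hcl fun y hy v hv => by
    rw [h.liftP_section hf v hv, h.liftP_coe hf, hs y hy v hv]]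
  rw [← mul_assoc, inv_mul_cancel₀ (Nat.cast_ne_zero.mpr Nat.card_pos.ne'), one_mul]
  simp only [h.liftP_coe hf]
  refine Finset.sum_subset (Finset.subset_univ _) fun y _ hy => ?_
  rw [mem_nonOne, not_not] at hy
  rw [show y = 1 from Subtype.ext hy, h1, zero_mul]

theorem classInner_liftP_nonprincipal (hM : IsPModular p M) (h : FrobSylow P m) (hm : m ≠ 0)
    {f : ↥(P : Subgroup G) → ℂ} (hf : NInv P f) (h1 : f 1 = 0) {χ : IrrCharacter G}
    (hχ : χ ∉ principalBlock M G) : classInner (liftP P f) (χ : G → ℂ) = 0 := by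
  classical
  have hcl : IsClassFunction G fun g => liftP P f g * conj ((χ : G → ℂ) g) := fun g k => by
    show liftP P f _ * conj ((χ : G → ℂ) _) = _
    rw [h.isClassFunction_liftP hf g k, isClassFunction_character (irr_isCharacter χ.2) g k]
  have hsum : ∑ g : G, liftP P f g * conj ((χ : G → ℂ) g) =
      ∑ g : G with p ∣ orderOf g, liftP P f g * conj ((χ : G → ℂ) g) := by
    symm
    refine Finset.sum_filter_of_ne fun g _ hne => ?_
    by_contra hg
    exact hne (by rw [h.liftP_regular hf h1 hg, zero_mul])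
  have h2 := h.sum_singular hcl
  rw [Finset.sum_eq_zero (s := nonOne P) fun y hy => ?_, ← hsum, mul_eq_zero,
    or_iff_right (Nat.cast_ne_zero.mpr hm)] at h2
  · rw [classInner, h2, mul_zero]
  · rw [Finset.sum_congr rfl fun v hv => by
      rw [h.liftP_section hf v (Finset.mem_filter.mp hv).2], ← Finset.mul_sum, ← map_sum,
      h.nonprincipal_sum_zero hM hχ (mem_nonOne.mp hy), map_zero, mul_zero, mul_zero]

variable [Fintype (↥(P : Subgroup G) →* ℂˣ)]

open scoped Classical in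
theorem sum_orbSum_mul (h : FrobSylow P m) (ψ φ : ↥(P : Subgroup G) →* ℂˣ) :
    ∑ y : ↥(P : Subgroup G), orbSum ψ y * conj (orbSum φ y) =
      (Nat.card P : ℂ) * ((orbP ψ ∩ orbP φ).card : ℂ) := by
  simp only [orbSum, map_sum, Finset.sum_mul, Finset.mul_sum]
  rw [Finset.sum_comm, Finset.sum_congr rfl fun a _ => Finset.sum_comm]
  simp only [sum_linear_mul, Finset.sum_ite_eq, Finset.sum_ite_eq']
  rw [← Finset.sum_filter, Finset.sum_const, nsmul_eq_mul, mul_comm]
  congr 2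
  refine congrArg Finset.card ?_
  ext x
  simp [Finset.mem_inter, and_comm]

open scoped Classical in
theorem sum_orbSum (h : FrobSylow P m) {ψ : ↥(P : Subgroup G) →* ℂˣ} (hψ : ψ ≠ 1) :
    ∑ y : ↥(P : Subgroup G), orbSum ψ y = 0 := by
  simp only [orbSum]
  rw [Finset.sum_comm]
  refine Finset.sum_eq_zero fun a ha => ?_
  have := sum_linear_mul a (1 : ↥(P : Subgroup G) →* ℂˣ)
  simp only [MonoidHom.one_apply, Units.val_one, map_one, mul_one] at this
  rw [this, if_neg fun e => one_notMem_orbP hψ (by rw [← e]; exact ha)]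

theorem orbSum_one (h : FrobSylow P m) {ψ : ↥(P : Subgroup G) →* ℂˣ} (hψ : ψ ≠ 1) :
    orbSum ψ 1 = m := by
  simp [orbSum, h.card_orbP hψ]

open scoped Classical in
theorem sum_nonOne (F : ↥(P : Subgroup G) → ℂ) :
    ∑ y ∈ nonOne P, F y = ∑ y : ↥(P : Subgroup G), F y - F 1 := by
  classical
  have e : nonOne P = Finset.univ.erase 1 := by
    ext y
    simp [mem_nonOne]
  rw [e, Finset.sum_erase_eq_sub (Finset.mem_univ _)]

variable {rep : Fin r → (↥(P : Subgroup G) →* ℂˣ)} {idx : (↥(P : Subgroup G) →* ℂˣ) → Fin r}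

open scoped Classical in
theorem filter_idx (hI : OrbitIndex m rep idx) (i : Fin r) :
    ((Finset.univ : Finset (↥(P : Subgroup G) →* ℂˣ)).erase 1).filter (fun ψ => idx ψ = i) =
      orbP (rep i) := by
  ext ψ
  simp only [Finset.mem_filter, Finset.mem_erase, Finset.mem_univ, and_true]
  constructor
  · rintro ⟨hψ, rfl⟩
    exact hI.mem ψ hψ
  · intro hψ
    exact ⟨fun e => one_notMem_orbP (hI.rep_ne i) (e ▸ hψ),
      (hI.const _ (hI.rep_ne i) ψ hψ).trans (hI.idx_rep i)⟩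

open scoped Classical in
theorem orbP_inter (h : FrobSylow P m) (hI : OrbitIndex m rep idx) (i j : Fin r) :
    ((orbP (rep i) ∩ orbP (rep j)).card : ℂ) = if i = j then (m : ℂ) else 0 := by
  split_ifs with e
  · subst e
    rw [Finset.inter_self, h.card_orbP (hI.rep_ne i)]
  · rw [Finset.card_eq_zero.mpr, Nat.cast_zero]
    refine Finset.eq_empty_of_forall_notMem fun ψ hψ => e ?_
    rw [← filter_idx hI, ← filter_idx hI, Finset.mem_inter, Finset.mem_filter,
      Finset.mem_filter] at hψ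
    exact hψ.1.2.symm.trans hψ.2.2

theorem sum_all_orbSum (h : FrobSylow P m) (hI : OrbitIndex m rep idx) {y : ↥(P : Subgroup G)}
    (hy : (y : G) ≠ 1) : ∑ i, orbSum (rep i) y = -1 := by
  classical
  have h0 := h.sum_dual_apply y
  rw [if_neg fun e => hy (by rw [e]; rfl), ← Finset.add_sum_erase _ _ (Finset.mem_univ 1),
    MonoidHom.one_apply, Units.val_one, ← Finset.sum_fiberwise (((Finset.univ :
      Finset (↥(P : Subgroup G) →* ℂˣ)).erase 1)) idx] at h0
  simp only [filter_idx hI] at h0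
  exact eq_neg_of_add_eq_zero_right h0

open scoped Classical in
theorem exists_principal_exc (hM : IsPModular p M) (h : FrobSylow P m) (hm : m ≠ 0) (hr : 2 ≤ r)
    (hI : OrbitIndex m rep idx) :
    ∃ (X : Finset (IrrCharacter G)) (μ : Fin r → IrrCharacter G) (a : IrrCharacter G → ℤ)
      (d δ : ℤ), PrincipalExc M m rep X μ a d δ := by
  have hp : p.Prime := Fact.out
  set i₀ : Fin r := ⟨0, by omega⟩ with hi₀
  have hPm : ((Nat.card P : ℂ) * m) ≠ 0 :=
    mul_ne_zero (Nat.cast_ne_zero.mpr Nat.card_pos.ne') (Nat.cast_ne_zero.mpr hm)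
  have hcardP : (Nat.card P : ℂ) ≠ 0 := Nat.cast_ne_zero.mpr Nat.card_pos.ne'
  set f : Fin r → ↥(P : Subgroup G) → ℂ := fun i y => orbSum (rep i) y - orbSum (rep i₀) y
    with hf
  have hinv : ∀ i, NInv P (f i) := fun i n y => by simp only [hf, orbSum_conj]
  have hf1 : ∀ i, f i 1 = 0 := fun i => by
    simp only [hf, h.orbSum_one (hI.rep_ne _), sub_self]
  set τ : Fin r → G → ℂ := fun i => liftP P (f i) with hτ
  -- the Gram matrix
  have hgram : ∀ i j, i ≠ i₀ → j ≠ i₀ → classInner (τ i) (τ j) = if i = j then 2 else 1 := by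
    intro i j hi hj
    refine mul_left_cancel₀ hPm ?_
    rw [h.classInner_liftP hm (hinv i) (hf1 i) (h.isClassFunction_liftP (hinv j))
      fun y _ v hv => by rw [h.liftP_section (hinv j) v hv, h.liftP_coe (hinv j)]]
    simp only [h.liftP_coe (hinv j)]
    simp only [hf, map_sub, sub_mul, mul_sub, Finset.sum_sub_distrib, h.sum_orbSum_mul,
      h.orbP_inter hI]
    simp only [if_neg hi, if_neg (Ne.symm hj), if_true]
    split_ifs <;> ring
  obtain ⟨ε, hε, ν, hνirr, hνinj, hτν⟩ := exists_exceptional r i₀ τ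
    (by
      funext g
      obtain ⟨y, hy⟩ := exists_conj_ppt (P := P) g
      show liftP P (f i₀) g = 0
      rw [h.liftP_apply (hinv i₀) hy]
      simp [hf])
    (fun i => h.isGen_liftP (hinv i) (A := orbP (rep i)) (B := orbP (rep i₀)) fun y => rfl)
    (fun i => h.liftP_regular (hinv i) (hf1 i) (by simp [hp.ne_one])) hgram
  obtain ⟨δ, hδ, hεδ⟩ : ∃ δ : ℤ, (δ = 1 ∨ δ = -1) ∧ ε = (δ : ℂ) := by
    rcases hε with e | e
    · exact ⟨1, Or.inl rfl, by rw [e, Int.cast_one]⟩
    · exact ⟨-1, Or.inr rfl, by rw [e, Int.cast_neg, Int.cast_one]⟩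
  subst hεδ
  set μ : Fin r → IrrCharacter G := fun i => ⟨ν i, hνirr i⟩ with hμ
  have hμinj : Function.Injective μ := fun i j e => hνinj (congrArg Subtype.val e)
  have hδ2 : (δ : ℂ) * δ = 1 := by rcases hδ with e | e <;> simp [e]
  have hδc : conj (δ : ℂ) = δ := map_intCast _ _
  have hval : ∀ i (χ : IrrCharacter G), classInner (τ i) (χ : G → ℂ) =
      (δ : ℂ) * ((if μ i = χ then 1 else 0) - if μ i₀ = χ then 1 else 0) := fun i χ => by
    rw [hτν i, classInner_smul_left, classInner_sub_left,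
      show ν i = ((μ i : IrrCharacter G) : G → ℂ) from rfl,
      show ν i₀ = ((μ i₀ : IrrCharacter G) : G → ℂ) from rfl, irrC_orth, irrC_orth]
  -- the exceptional characters lie in the principal block
  have hμB : ∀ i, μ i ∈ principalBlock M G := by
    have hk : ∀ i, i ≠ i₀ → μ i ∈ principalBlock M G ∧ μ i₀ ∈ principalBlock M G := by
      intro i hi
      constructor <;> by_contra hn <;>
        have h0 := h.classInner_liftP_nonprincipal hM hm (hinv i) (hf1 i) hn
      · have h1 := hval i (μ i)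
        rw [h0, if_pos rfl, if_neg fun e => hi (hμinj e).symm, sub_zero, mul_one] at h1
        exact (Int.cast_ne_zero.mpr (by rcases hδ with e | e <;> simp [e])) h1.symm
      · have h1 := hval i (μ i₀)
        rw [h0, if_pos rfl, if_neg fun e => hi (hμinj e), zero_sub, mul_neg, mul_one] at h1
        exact (Int.cast_ne_zero.mpr (by rcases hδ with e | e <;> simp [e]))
          (neg_eq_zero.mp h1.symm)
    intro i
    by_cases hi : i = i₀
    · subst hi
      exact (hk ⟨1, by omega⟩ (by simp [hi₀, Fin.ext_iff])).2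
    · exact (hk i hi).1
  -- multiplicities on `P`
  have hmult : ∀ (χ : IrrCharacter G) (ψ : ↥(P : Subgroup G) →* ℂˣ), ∃ n : ℕ,
      ∑ w : ↥(P : Subgroup G), (χ : G → ℂ) (w : G) * conj ((ψ w : ℂˣ) : ℂ) =
        (Nat.card P : ℂ) * n := by
    intro χ ψ
    obtain ⟨n, hn⟩ := classInner_natCast
      (isCharacter_comp (P : Subgroup G).subtype (irr_isCharacter χ.2)) (isCharacter_linear ψ)
    refine ⟨n, ?_⟩
    rw [← hn, classInner, ← mul_assoc, mul_inv_cancel₀ hcardP, one_mul]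
    rfl
  choose n hn using hmult
  have hninv : ∀ χ (k : ↥(Subgroup.normalizer ((P : Subgroup G) : Set G))) ψ,
      n χ (twP k ψ) = n χ ψ := by
    intro χ k ψ
    have e : ∑ w : ↥(P : Subgroup G), (χ : G → ℂ) (w : G) * conj ((twP k ψ w : ℂˣ) : ℂ) =
        ∑ w : ↥(P : Subgroup G), (χ : G → ℂ) (w : G) * conj ((ψ w : ℂˣ) : ℂ) := by
      refine Fintype.sum_bijective (conjP k) ?_ _ _ fun w => ?_
      · refine Finite.injective_iff_bijective.mp fun a b e => ?_
        have := congrArg Subtype.val e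
        simp only [coe_conjP, mul_left_inj, mul_right_inj] at this
        exact Subtype.ext this
      · rw [twP_apply, coe_conjP]
        congr 1
        rw [← isClassFunction_character (irr_isCharacter χ.2) (w : G) (k : G)⁻¹, inv_inv]
    rw [hn, hn] at e
    exact_mod_cast mul_left_cancel₀ hcardP e
  have hncl : ∀ χ ψ, ψ ≠ 1 → n χ ψ = n χ (rep (idx ψ)) := fun χ ψ hψ => by
    obtain ⟨k, hk⟩ := mem_orbP.mp (hI.mem ψ hψ)
    conv_lhs => rw [← hk]
    exact hninv χ k _
  have hexp : ∀ (χ : IrrCharacter G) (y : ↥(P : Subgroup G)),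
      (χ : G → ℂ) (y : G) = ∑ ψ, (n χ ψ : ℂ) * ((ψ y : ℂˣ) : ℂ) := by
    intro χ y
    refine mul_left_cancel₀ hcardP ?_
    rw [Finset.mul_sum, Finset.sum_congr rfl fun ψ _ =>
      (mul_assoc (Nat.card P : ℂ) _ _).symm.trans
        (congrArg (fun t => t * ((ψ y : ℂˣ) : ℂ)) (hn χ ψ).symm)]
    simp only [Finset.sum_mul]
    rw [Finset.sum_comm]
    have e : ∀ w : ↥(P : Subgroup G), ∑ ψ : ↥(P : Subgroup G) →* ℂˣ,
        (χ : G → ℂ) (w : G) * conj ((ψ w : ℂˣ) : ℂ) * ((ψ y : ℂˣ) : ℂ) =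
        if y = w then (χ : G → ℂ) (w : G) * (Nat.card P : ℂ) else 0 := fun w => by
      rw [Finset.sum_congr rfl (g := fun ψ : ↥(P : Subgroup G) →* ℂˣ =>
        (χ : G → ℂ) (w : G) * ((ψ (y * w⁻¹) : ℂˣ) : ℂ)) fun ψ _ => ?_, ← Finset.mul_sum,
        h.sum_dual_apply]
      · simp only [mul_inv_eq_one, mul_ite, mul_zero]
      · rw [← char_inv (isCharacter_linear ψ) w, map_mul, Units.val_mul]
        ring
    rw [Finset.sum_congr rfl fun w _ => e w, Finset.sum_ite_eq, if_pos (Finset.mem_univ y),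
      mul_comm]
  have hinner : ∀ i (χ : IrrCharacter G), χ ∈ principalBlock M G →
      classInner (τ i) (χ : G → ℂ) = (n χ (rep i) : ℂ) - n χ (rep i₀) := by
    intro i χ hχ
    refine mul_left_cancel₀ hPm ?_
    rw [h.classInner_liftP hm (hinv i) (hf1 i) (isClassFunction_character (irr_isCharacter χ.2))
      fun y hy v hv => h.principal_const hM hχ hy v hv]
    have hS : ∀ ψ, ψ ≠ 1 → ∑ y : ↥(P : Subgroup G), orbSum ψ y * conj ((χ : G → ℂ) (y : G)) =
        (Nat.card P : ℂ) * m * n χ ψ := by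
      intro ψ hψ
      simp only [orbSum, Finset.sum_mul]
      rw [Finset.sum_comm, Finset.sum_congr rfl (g := fun _ => (Nat.card P : ℂ) * n χ ψ)
        fun φ hφ => ?_, Finset.sum_const, h.card_orbP hψ, nsmul_eq_mul]
      · ring
      · obtain ⟨k, rfl⟩ := mem_orbP.mp hφ
        rw [← hninv χ k ψ]
        have h2 := congrArg conj (hn χ (twP k ψ))
        rw [map_sum, map_mul, map_natCast, map_natCast] at h2
        rw [← h2]
        exact Finset.sum_congr rfl fun y _ => by rw [map_mul, Complex.conj_conj, mul_comm]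
    simp only [hf, sub_mul, Finset.sum_sub_distrib, hS _ (hI.rep_ne _)]
    ring
  set a : IrrCharacter G → ℤ := fun χ => (n χ 1 : ℤ) - n χ (rep i₀) with ha
  set X : Finset (IrrCharacter G) :=
    Finset.univ.filter fun χ => χ ∈ principalBlock M G ∧ ∀ i, μ i ≠ χ with hX
  have hmemX : ∀ χ, χ ∈ X ↔ χ ∈ principalBlock M G ∧ ∀ i, μ i ≠ χ := fun χ => by simp [hX]
  have hsplit : ∀ (χ : IrrCharacter G) {y : ↥(P : Subgroup G)}, (y : G) ≠ 1 →
      ∀ c : ℂ, ∀ e : ℂ, (∀ ψ, ψ ≠ 1 → (n χ ψ : ℂ) = c + if idx ψ = i₀ then e else 0) →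
      (χ : G → ℂ) (y : G) = (n χ 1 : ℂ) - c + e * orbSum (rep i₀) y := by
    intro χ y hy c e hc
    have h0 := h.sum_dual_apply y
    rw [if_neg fun e => hy (by rw [e]; rfl), ← Finset.add_sum_erase _ _ (Finset.mem_univ 1),
      MonoidHom.one_apply, Units.val_one] at h0
    rw [hexp, ← Finset.add_sum_erase _ _ (Finset.mem_univ 1), MonoidHom.one_apply, Units.val_one,
      mul_one, Finset.sum_congr rfl fun ψ hψ => by rw [hc ψ (Finset.mem_erase.mp hψ).1, add_mul,
        ite_mul, zero_mul], Finset.sum_add_distrib, ← Finset.mul_sum, ← Finset.sum_filter,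
      filter_idx hI, ← Finset.mul_sum, eq_neg_of_add_eq_zero_right h0, orbSum]
    ring
  have haX : ∀ χ ∈ X, ∀ y ∈ nonOne P, (χ : G → ℂ) (y : G) = (a χ : ℂ) := by
    intro χ hχ y hy
    obtain ⟨hB, hne⟩ := (hmemX χ).mp hχ
    rw [hsplit χ (mem_nonOne.mp hy) (n χ (rep i₀) : ℂ) 0 fun ψ hψ => ?_]
    · simp [ha]
    · have h1 := hinner (idx ψ) χ hB
      rw [hval, if_neg (hne _), if_neg (hne _), sub_zero, mul_zero] at h1
      rw [hncl χ ψ hψ, ite_self, add_zero]
      exact sub_eq_zero.mp h1.symm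
  set d : ℤ := a (μ i₀) + δ with hd
  have hμ0 : ∀ y ∈ nonOne P,
      (μ i₀ : G → ℂ) (y : G) = (d : ℂ) + (δ : ℂ) * orbSum (rep i₀) y := by
    intro y hy
    rw [hsplit (μ i₀) (mem_nonOne.mp hy) ((n (μ i₀) (rep i₀) : ℂ) - δ) (δ : ℂ) fun ψ hψ => ?_]
    · simp only [hd, ha]
      push_cast
      ring
    · have h1 := hinner (idx ψ) (μ i₀) (hμB i₀)
      rw [hval, if_pos rfl] at h1
      rw [hncl _ ψ hψ]
      by_cases hψi : idx ψ = i₀
      · rw [if_pos hψi, hψi]; ring
      · rw [if_neg fun e => hψi (hμinj e), zero_sub, mul_neg, mul_one] at h1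
        rw [if_neg hψi, add_zero, sub_eq_add_neg (_ : ℂ) (δ : ℂ), h1]
        ring
  have hμv : ∀ i, ∀ y ∈ nonOne P,
      (μ i : G → ℂ) (y : G) = (d : ℂ) + (δ : ℂ) * orbSum (rep i) y := by
    intro i y hy
    have h1 := congrFun (hτν i) (y : G)
    rw [Pi.smul_apply, Pi.sub_apply, smul_eq_mul] at h1
    have h2 : (μ i : G → ℂ) (y : G) - (μ i₀ : G → ℂ) (y : G) = (δ : ℂ) * f i y := by
      rw [← h.liftP_coe (hinv i) y, show liftP P (f i) (y : G) = τ i (y : G) from rfl, h1,
        ← mul_assoc, hδ2, one_mul]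
    rw [sub_eq_iff_eq_add.mp h2, hμ0 y hy]
    simp only [hf]
    ring
  have hreg : ∀ i j, ∀ g : G, ¬ p ∣ orderOf g → (μ i : G → ℂ) g = (μ j : G → ℂ) g := by
    have hk : ∀ i, ∀ g : G, ¬ p ∣ orderOf g → (μ i : G → ℂ) g = (μ i₀ : G → ℂ) g := by
      intro i g hg
      have h1 := congrFun (hτν i) g
      rw [Pi.smul_apply, Pi.sub_apply, smul_eq_mul,
        show τ i g = 0 from h.liftP_regular (hinv i) (hf1 i) hg] at h1
      exact sub_eq_zero.mp ((mul_eq_zero.mp h1.symm).resolve_left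
        (Int.cast_ne_zero.mpr (by rcases hδ with e | e <;> simp [e])))
    intro i j g hg
    rw [hk i g hg, hk j g hg]
  set e1 : IrrCharacter G := ⟨fun _ => 1, isIrrCharacter_one⟩ with he1
  have he1B : e1 ∈ principalBlock M G := self_mem_blockOf (pmod_prime hM) e1
  obtain ⟨y₁, hy₁, -⟩ := h.principal_exists_ne hM he1B
  have he1X : e1 ∈ X := by
    refine (hmemX e1).mpr ⟨he1B, fun i hi => ?_⟩
    obtain ⟨j, hj⟩ : ∃ j : Fin r, j ≠ i₀ ∧ (i = i₀ ∨ i = j) := by
      by_cases hii : i = i₀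
      · exact ⟨⟨1, by omega⟩, by simp [hi₀, Fin.ext_iff], Or.inl hii⟩
      · exact ⟨i, hii, Or.inr rfl⟩
    have h1 := hinner j e1 he1B
    have hn0 : ∀ ψ, ψ ≠ 1 → (n e1 ψ : ℂ) = 0 := by
      intro ψ hψ
      refine (mul_eq_zero.mp ((hn e1 ψ).symm.trans ?_)).resolve_left hcardP
      have h2 := sum_linear_mul (1 : ↥(P : Subgroup G) →* ℂˣ) ψ
      rw [if_neg hψ.symm] at h2
      simpa [he1] using h2
    rw [hval, hn0 _ (hI.rep_ne _), hn0 _ (hI.rep_ne _), sub_zero, mul_eq_zero,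
      or_iff_right (Int.cast_ne_zero.mpr (by rcases hδ with e | e <;> simp [e])), ← hi] at h1
    rcases hj.2 with e | e
    · subst e
      rw [if_neg fun e => hj.1 (hμinj e), if_pos rfl] at h1
      norm_num at h1
    · subst e
      rw [if_pos rfl, if_neg fun e => hj.1 (hμinj e).symm] at h1
      norm_num at h1
  have hpart : ∀ F : IrrCharacter G → ℂ,
      ∑ χ : IrrCharacter G with χ ∈ principalBlock M G, F χ = ∑ χ ∈ X, F χ + ∑ i, F (μ i) := by
    intro F
    rw [← Finset.sum_image (g := μ) (f := F) fun i _ j _ e => hμinj e,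
      ← Finset.sum_union]
    · refine Finset.sum_congr ?_ fun _ _ => rfl
      ext χ
      simp only [Finset.mem_filter, Finset.mem_univ, true_and, Finset.mem_union, hmemX,
        Finset.mem_image]
      constructor
      · intro hχ
        by_cases hh : ∃ i, μ i = χ
        · exact Or.inr hh
        · push Not at hh
          exact Or.inl ⟨hχ, hh⟩
      · rintro (⟨hχ, -⟩ | ⟨i, rfl⟩)
        · exact hχ
        · exact hμB i
    · refine Finset.disjoint_left.mpr fun χ hχ hχ' => ?_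
      obtain ⟨i, -, rfl⟩ := Finset.mem_image.mp hχ'
      exact ((hmemX _).mp hχ).2 i rfl
  have hrm : (r : ℂ) * m = (Nat.card P : ℂ) - 1 := by
    rw [← hI.count]
    push_cast
    ring
  have hsum1 : ∀ i, ∑ y ∈ nonOne P, orbSum (rep i) y = -(m : ℂ) := fun i => by
    rw [sum_nonOne, h.sum_orbSum (hI.rep_ne i), h.orbSum_one (hI.rep_ne i), zero_sub]
  have hsum2 : ∀ i, ∑ y ∈ nonOne P, orbSum (rep i) y * conj (orbSum (rep i) y) =
      (Nat.card P : ℂ) * m - m * m := fun i => by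
    rw [sum_nonOne, h.sum_orbSum_mul, h.orbP_inter hI, if_pos rfl,
      h.orbSum_one (hI.rep_ne i), map_natCast]
  have hnorm : (d - δ) ^ 2 + ((r : ℤ) - 1) * d ^ 2 + ∑ χ ∈ X, a χ ^ 2 = (m : ℤ) + 1 := by
    have hlhs : ∑ y ∈ nonOne P, ∑ χ : IrrCharacter G with χ ∈ principalBlock M G,
        (χ : G → ℂ) (y : G) * conj ((χ : G → ℂ) (y : G)) =
        ((nonOne P).card : ℂ) * Nat.card P := by
      rw [Finset.sum_congr rfl fun y hy => h.sum_norm_principal hM (mem_nonOne.mp hy),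
        Finset.sum_const, nsmul_eq_mul]
    have hcard1 : ((nonOne P).card : ℂ) = (Nat.card P : ℂ) - 1 := by
      rw [show ((nonOne P).card : ℂ) = ∑ y ∈ nonOne P, (1 : ℂ) by simp, sum_nonOne]
      simp [Nat.card_eq_fintype_card]
    have hX2 : ∀ χ ∈ X, ∑ y ∈ nonOne P, (χ : G → ℂ) (y : G) * conj ((χ : G → ℂ) (y : G)) =
        ((Nat.card P : ℂ) - 1) * (a χ : ℂ) ^ 2 := fun χ hχ => by
      rw [Finset.sum_congr rfl fun y hy => by
        rw [haX χ hχ y hy, map_intCast], Finset.sum_const, nsmul_eq_mul, hcard1]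
      ring
    have hμ2 : ∀ i, ∑ y ∈ nonOne P, (μ i : G → ℂ) (y : G) * conj ((μ i : G → ℂ) (y : G)) =
        ((Nat.card P : ℂ) - 1) * (d : ℂ) ^ 2
          - 2 * (d : ℂ) * δ * m + ((Nat.card P : ℂ) * m - m * m) := fun i => by
      rw [Finset.sum_congr rfl (g := fun y => (d : ℂ) ^ 2 + (d : ℂ) * δ * orbSum (rep i) y +
        conj ((d : ℂ) * δ * orbSum (rep i) y) + orbSum (rep i) y * conj (orbSum (rep i) y))
        fun y hy => ?_]
      · simp only [Finset.sum_add_distrib, Finset.sum_const, nsmul_eq_mul, ← Finset.mul_sum,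
          ← map_sum, hcard1, hsum1, hsum2, map_mul, map_neg, map_natCast, map_intCast]
        ring
      · rw [hμv i y hy]
        simp only [map_add, map_mul, map_intCast]
        linear_combination (orbSum (rep i) y * conj (orbSum (rep i) y)) * hδ2
    rw [Finset.sum_congr rfl fun y _ => hpart _, Finset.sum_add_distrib, Finset.sum_comm,
      Finset.sum_congr rfl hX2, ← Finset.mul_sum] at hlhs
    rw [Finset.sum_comm (s := nonOne P), Finset.sum_congr rfl fun i _ => hμ2 i, Finset.sum_const,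
      Finset.card_univ, Fintype.card_fin, nsmul_eq_mul, hcard1] at hlhs
    have h0 : ((Nat.card P : ℂ) - 1) ≠ 0 := by
      rw [← hrm]
      exact mul_ne_zero (Nat.cast_ne_zero.mpr (by omega)) (Nat.cast_ne_zero.mpr hm)
    have h1 : ((∑ χ ∈ X, a χ ^ 2 : ℤ) : ℂ) + r * (d : ℂ) ^ 2 - 2 * d * δ = m := by
      refine mul_left_cancel₀ h0 ?_
      push_cast
      linear_combination hlhs + (2 * (d : ℂ) * δ - (Nat.card P : ℂ) + m) * hrm
    have h2 : (∑ χ ∈ X, a χ ^ 2) + (r : ℤ) * d ^ 2 - 2 * d * δ = m := by exact_mod_cast h1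
    have h3 : δ ^ 2 = 1 := by rcases hδ with e | e <;> simp [e]
    linear_combination h2 + h3
  refine ⟨X, μ, a, d, δ, hδ, hμinj, fun χ => ?_, fun i hi => ((hmemX _).mp hi).2 i rfl, he1X, ?_,
    fun χ hχ h0 => ?_, haX, hμv, hnorm, hreg, fun i g hg => ?_⟩
  · constructor
    · intro hχ
      by_cases hh : ∃ i, μ i = χ
      · exact Or.inr hh
      · push Not at hh
        exact Or.inl ((hmemX χ).mpr ⟨hχ, hh⟩)
    · rintro (hχ | ⟨i, rfl⟩)
      · exact ((hmemX χ).mp hχ).1
      · exact hμB i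
  · have h5 : (1 : ℂ) = (a e1 : ℂ) := haX e1 he1X y₁ hy₁
    exact (Int.cast_eq_one.mp h5.symm : a e1 = 1)
  · obtain ⟨y, hy, hne⟩ := h.principal_exists_ne hM ((hmemX χ).mp hχ).1
    rw [haX χ hχ y hy, h0, Int.cast_zero] at hne
    exact hne rfl
  · have hsing : p ∣ orderOf (y₁ : G) := by
      by_contra hn'
      exact mem_nonOne.mp hy₁ ((ppt_of_ppower hp (ppower (P := P) y₁)).symm.trans
        ((ppt_eq_one_iff hp _).mpr hn'))
    have h0 := weak_orthogonality hM (isPBlock_principalBlock M) hg hsing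
    rw [finsum_mem_irr, hpart,
      Finset.sum_congr rfl (g := fun χ => (a χ : ℂ) * (χ : G → ℂ) g) fun χ hχ => by
        rw [haX χ hχ y₁ hy₁, map_intCast, mul_comm],
      Finset.sum_congr rfl (g := fun j => (μ i : G → ℂ) g *
        conj ((d : ℂ) + δ * orbSum (rep j) y₁)) fun j _ => by rw [hμv j y₁ hy₁, hreg j i g hg],
      ← Finset.mul_sum, ← map_sum, Finset.sum_add_distrib, Finset.sum_const, Finset.card_univ,
      Fintype.card_fin, ← Finset.mul_sum, h.sum_all_orbSum hI (mem_nonOne.mp hy₁)] at h0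
    simp only [map_add, map_mul, map_neg, map_one, map_intCast, nsmul_eq_mul, map_natCast] at h0
    linear_combination h0

end FrobSylow

end Cfsg.Agent.Char
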