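import Cfsg.Agent.Lib.Char.PrimeSylowBlockRank
import Cfsg.Agent.Lib.Char.FrobSylowExceptional
import Mathlib

/-!
# The principal block for a Sylow subgroup of prime order
-/

set_option autoImplicit false
set_option linter.unusedSectionVars false

namespace Cfsg.Agent.Char

open Cfsg
open scoped ComplexConjugate

universe u

variable {G : Type u} [Group G] [Fintype G] {M : Ideal AlgInt} {p : ℕ} [Fact p.Prime]
  {P : Sylow p G}

theorem eq_zpowers_of_prime_sylow (hP : Nat.card P = p) {x : G} (hx : x ∈ (P : Subgroup G))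
    (hx1 : x ≠ 1) : Subgroup.zpowers x = (P : Subgroup G) := by
  have h1 := zpowers_eq_top_of_prime_card (G := ↥(P : Subgroup G)) hP
    (g := ⟨x, hx⟩) (fun e => hx1 (congrArg Subtype.val e))
  have h2 := congrArg (Subgroup.map (P : Subgroup G).subtype) h1
  rwa [MonoidHom.map_zpowers, ← MonoidHom.range_eq_map, Subgroup.range_subtype] at h2

/-- A Sylow subgroup of prime order satisfies the Frobenius hypothesis. -/
theorem frobSylow_of_prime (hP : Nat.card P = p) :
    FrobSylow P ((Subgroup.centralizer ((P : Subgroup G) : Set G)).relIndex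
      (Subgroup.normalizer ((P : Subgroup G) : Set G))) := by
  have hp : p.Prime := Fact.out
  haveI : IsCyclic ↥(P : Subgroup G) := isCyclic_of_prime_card hP
  refine ⟨IsCyclic.commutative, by rw [hP]; exact hp.ne_one, rfl, fun y hy hy1 => ?_⟩
  have e : Subgroup.centralizer ({y} : Set G) = Subgroup.centralizer ((P : Subgroup G) : Set G) := by
    rw [← eq_zpowers_of_prime_sylow hP hy hy1, centralizer_zpowers_eq]
  rw [e]
  exact inf_eq_left.mpr (Subgroup.centralizer_le_normalizer _)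

open scoped Classical in
/-- The sum of a character over `P`. -/
theorem exists_sum_on_sylow (χ : IrrCharacter G) :
    ∃ n : ℕ, ∑ y : ↥(P : Subgroup G), (χ : G → ℂ) (y : G) = (Nat.card P : ℂ) * n := by
  obtain ⟨n, hn⟩ := classInner_natCast
    (isCharacter_comp (P : Subgroup G).subtype (irr_isCharacter χ.2))
    (irr_isCharacter (isIrrCharacter_one (G := ↥(P : Subgroup G))))
  refine ⟨n, ?_⟩
  rw [← hn, classInner, ← mul_assoc, mul_inv_cancel₀ (Nat.cast_ne_zero.mpr Nat.card_pos.ne'),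
    one_mul]
  exact Finset.sum_congr rfl fun y _ => by rw [map_one, mul_one]; rfl

/-- The structure of the principal block. -/
structure PrimePrincipal (M : Ideal AlgInt) (P : Sylow p G) (e : ℕ)
    (X Y : Finset (IrrCharacter G)) (a : IrrCharacter G → ℤ) (δ : ℤ) : Prop where
  mem_iff : ∀ χ, χ ∈ principalBlock M G ↔ χ ∈ X ∨ χ ∈ Y
  disj : Disjoint X Y
  cardX : X.card = e
  cardY : Y.card = (p - 1) / e
  a_sign : ∀ χ ∈ X, a χ = 1 ∨ a χ = -1
  a_congr : ∀ χ ∈ X, (charDegree (χ : G → ℂ) : ℤ) ≡ a χ [ZMOD p]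
  a_val : ∀ χ ∈ X, ∀ y ∈ nonOne P, (χ : G → ℂ) (y : G) = (a χ : ℂ)
  sign : δ = 1 ∨ δ = -1
  congrY : ∀ θ ∈ Y, (charDegree (θ : G → ℂ) : ℤ) ≡ δ * (e : ℤ) [ZMOD p]
  regY : ∀ θ ∈ Y, ∀ θ' ∈ Y, ∀ g : G, ¬ p ∣ orderOf g → (θ : G → ℂ) g = (θ' : G → ℂ) g
  rel : ∀ θ ∈ Y, ∀ g : G, ¬ p ∣ orderOf g →
    (δ : ℂ) * (θ : G → ℂ) g = ∑ χ ∈ X, (a χ : ℂ) * (χ : G → ℂ) g

theorem blockRank_le_of_relation {B : Set (IrrCharacter G)} (X : Finset (IrrCharacter G))
    (hspan : ∀ χ ∈ B, pRegularPart p (χ : G → ℂ) ∈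
      Submodule.span ℂ ((fun χ : IrrCharacter G => pRegularPart p (χ : G → ℂ)) '' (X : Set _))) :
    blockRank p B ≤ X.card := by
  classical
  rw [blockRank]
  have h1 : Submodule.span ℂ ((fun χ : IrrCharacter G => pRegularPart p (χ : G → ℂ)) '' B) ≤
      Submodule.span ℂ (↑(X.image fun χ : IrrCharacter G => pRegularPart p (χ : G → ℂ)) : Set _) := by
    rw [Finset.coe_image, Submodule.span_le]
    rintro _ ⟨χ, hχ, rfl⟩
    exact hspan χ hχ
  exact (Submodule.finrank_mono h1).trans ((finrank_span_finset_le_card _).trans Finset.card_image_le)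

theorem exists_prime_principal_one (hM : IsPModular p M) (hP : Nat.card P = p) {e : ℕ}
    (h : FrobSylow P e) (hrank : e ≤ blockRank p (principalBlock M G))
    [Fintype (↥(P : Subgroup G) →* ℂˣ)] {ψ₀ : ↥(P : Subgroup G) →* ℂˣ} (hψ₀ : ψ₀ ≠ 1)
    (hep : e + 1 = p) (hcardn : ((nonOne P).card : ℤ) = (p : ℤ) - 1)
    (hcongr : ∀ (χ : IrrCharacter G) (s : ℤ),
      ∑ y ∈ nonOne P, (χ : G → ℂ) (y : G) = (s : ℂ) →
      (charDegree (χ : G → ℂ) : ℤ) ≡ -s [ZMOD p]) :
    ∃ (X Y : Finset (IrrCharacter G)) (a : IrrCharacter G → ℤ) (δ : ℤ),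
      PrimePrincipal M P e X Y a δ := by
  classical
  have hp : p.Prime := Fact.out
  have he1 : (e : ℤ) = (p : ℤ) - 1 := by omega
  have he0 : 0 < e := by have := hp.two_le; omega
  have hdiv : (p - 1) / e = 1 := by rw [← hep, Nat.add_sub_cancel, Nat.div_self he0]
  have hone : (⟨fun _ => 1, isIrrCharacter_one⟩ : IrrCharacter G) ∈ principalBlock M G :=
    sameBlock_refl (pmod_prime hM) (fun _ : G => (1 : ℂ))
  obtain ⟨y₁, hy₁, -⟩ := h.principal_exists_ne hM hone
  have hy₁' := mem_nonOne.mp hy₁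
  have hconj : ∀ y ∈ nonOne P, IsConj (y₁ : G) (y : G) := by
    have hsub : (Finset.univ.filter fun w : ↥(P : Subgroup G) => IsConj (y₁ : G) (w : G)) ⊆
        nonOne P := fun w hw => mem_nonOne.mpr fun e1 => by
      have := (Finset.mem_filter.mp hw).2
      rw [e1] at this
      exact hy₁' (isConj_one_left.mp this)
    have heq := Finset.eq_of_subset_of_card_le hsub (by
      rw [h.card_conj_class hy₁']; omega)
    intro y hy
    rw [← heq] at hy
    exact (Finset.mem_filter.mp hy).2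
  have hconst' : ∀ (χ : IrrCharacter G), ∀ y ∈ nonOne P,
      (χ : G → ℂ) (y : G) = (χ : G → ℂ) (y₁ : G) := by
    intro χ y hy
    obtain ⟨c, hc⟩ := isConj_iff.mp (hconj y hy)
    rw [← hc, isClassFunction_character (irr_isCharacter χ.2)]
  -- the values are integers
  have hint : ∀ χ : IrrCharacter G, ∃ z : ℤ, (χ : G → ℂ) (y₁ : G) = z := by
    intro χ
    obtain ⟨n, hn⟩ := exists_sum_on_sylow (P := P) χ
    obtain ⟨m₀, hm₀⟩ := classInner_natCast
      (isCharacter_comp (P : Subgroup G).subtype (irr_isCharacter χ.2))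
      (isCharacter_linear ψ₀)
    refine ⟨(n : ℤ) - m₀, ?_⟩
    set v := (χ : G → ℂ) (y₁ : G)
    have hsumv : ∀ F : ↥(P : Subgroup G) → ℂ, ∑ y : ↥(P : Subgroup G), (χ : G → ℂ) (y : G) * F y =
        (χ : G → ℂ) 1 * F 1 + v * (∑ y : ↥(P : Subgroup G), F y - F 1) := by
      intro F
      rw [← FrobSylow.sum_nonOne F, Finset.mul_sum]
      have e2 := FrobSylow.sum_nonOne (P := P) (fun y => (χ : G → ℂ) (y : G) * F y)
      rw [OneMemClass.coe_one] at e2
      rw [Finset.sum_congr rfl (g := fun y => v * F y) fun y hy => by rw [hconst' χ y hy]] at e2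
      linear_combination -e2
    have h1 := hsumv fun _ => 1
    have h2 := hsumv fun y => conj ((ψ₀ y : ℂˣ) : ℂ)
    rw [← map_sum conj, show ∑ y : ↥(P : Subgroup G), ((ψ₀ y : ℂˣ) : ℂ) = 0 from by
      have := FrobSylow.sum_linear_mul ψ₀ (1 : ↥(P : Subgroup G) →* ℂˣ)
      rw [if_neg hψ₀] at this
      simpa using this] at h2
    simp only [mul_one, map_zero, map_one, Units.val_one, zero_sub, Finset.sum_const,
      Finset.card_univ, nsmul_eq_mul, ← Nat.card_eq_fintype_card] at h1 h2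
    have h3 : ∑ y : ↥(P : Subgroup G), (χ : G → ℂ) (y : G) * conj ((ψ₀ y : ℂˣ) : ℂ) =
        (Nat.card P : ℂ) * m₀ := by
      rw [← hm₀, classInner, ← mul_assoc,
        mul_inv_cancel₀ (Nat.cast_ne_zero.mpr Nat.card_pos.ne'), one_mul]
      rfl
    rw [hn] at h1
    rw [h3] at h2
    have hp0 : (Nat.card P : ℂ) ≠ 0 := Nat.cast_ne_zero.mpr Nat.card_pos.ne'
    push_cast
    refine mul_left_cancel₀ hp0 ?_
    linear_combination h2 - h1
  choose a ha using hint
  have hval : ∀ χ : IrrCharacter G, ∀ y ∈ nonOne P, (χ : G → ℂ) (y : G) = (a χ : ℂ) :=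
    fun χ y hy => (hconst' χ y hy).trans (ha χ)
  set B := (Finset.univ : Finset (IrrCharacter G)).filter fun χ => χ ∈ principalBlock M G with hB
  have hmemB : ∀ χ, χ ∈ B ↔ χ ∈ principalBlock M G := fun χ => by simp [hB]
  have hne : ∀ χ ∈ B, a χ ≠ 0 := fun χ hχ h0 => by
    obtain ⟨y, hy, hne⟩ := h.principal_exists_ne hM ((hmemB χ).mp hχ)
    exact hne (by rw [hval χ y hy, h0, Int.cast_zero])
  have hnorm : ∑ χ ∈ B, a χ ^ 2 = (p : ℤ) := by
    have h1 := h.sum_norm_principal hM hy₁'
    have : ((∑ χ ∈ B, a χ ^ 2 : ℤ) : ℂ) = ((p : ℤ) : ℂ) := by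
      push_cast
      rw [← hP, ← h1]
      refine Finset.sum_congr rfl fun χ _ => ?_
      rw [ha, map_intCast]
      ring
    exact_mod_cast this
  have hrel : ∀ g : G, ¬ p ∣ orderOf g → ∑ χ ∈ B, (a χ : ℂ) * (χ : G → ℂ) g = 0 := by
    intro g hg
    have hsing : p ∣ orderOf (y₁ : G) := by
      by_contra hn'
      exact hy₁' ((ppt_of_ppower hp (FrobSylow.ppower (P := P) y₁)).symm.trans
        ((ppt_eq_one_iff hp _).mpr hn'))
    have h0 := weak_orthogonality hM (isPBlock_principalBlock M) hg hsing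
    rw [finsum_mem_irr] at h0
    rw [← h0]
    exact Finset.sum_congr rfl fun χ _ => by rw [ha, map_intCast, mul_comm]
  obtain ⟨η, hη⟩ : ∃ η, η ∈ B := ⟨_, (hmemB _).mpr hone⟩
  have hrankle : blockRank p (principalBlock M G) ≤ (B.erase η).card := by
    refine blockRank_le_of_relation (B.erase η) fun χ hχ => ?_
    by_cases hχη : χ = η
    · subst hχη
      have hane : (a χ : ℂ) ≠ 0 := Int.cast_ne_zero.mpr (hne χ hη)
      have e1 : pRegularPart p (χ : G → ℂ) =
          ∑ ψ ∈ B.erase χ, (-(a χ : ℂ)⁻¹ * (a ψ : ℂ)) • pRegularPart p (ψ : G → ℂ) := by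
        funext g
        simp only [Finset.sum_apply, Pi.smul_apply, smul_eq_mul, pRegularPart, IsPRegular]
        by_cases hg : p ∣ orderOf g
        · simp [hg]
        · simp only [hg, not_false_eq_true, if_true, mul_assoc, ← Finset.mul_sum]
          have h1 := hrel g hg
          rw [← Finset.add_sum_erase _ _ hη] at h1
          field_simp
          linear_combination h1
      rw [e1]
      exact Submodule.sum_mem _ fun ψ hψ =>
        Submodule.smul_mem _ _ (Submodule.subset_span ⟨ψ, Finset.mem_coe.mpr hψ, rfl⟩)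
    · exact Submodule.subset_span
        ⟨χ, Finset.mem_coe.mpr (Finset.mem_erase.mpr ⟨hχη, (hmemB χ).mpr hχ⟩), rfl⟩
  have hBcard : (B.card : ℤ) ≤ p := by
    rw [← hnorm, Finset.card_eq_sum_ones, Nat.cast_sum]
    refine Finset.sum_le_sum fun χ hχ => ?_
    have := sq_pos_of_ne_zero (hne χ hχ)
    push_cast
    omega
  have hge := hrank.trans hrankle
  rw [Finset.card_erase_of_mem hη] at hge
  have hcardB : B.card = p := by
    have : 1 ≤ B.card := Finset.card_pos.mpr ⟨η, hη⟩
    omega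
  have hsq : ∀ χ ∈ B, a χ ^ 2 = 1 := by
    intro χ hχ
    have h1 : ∑ χ ∈ B, (a χ ^ 2 - 1) = 0 := by
      rw [Finset.sum_sub_distrib, Finset.sum_const, nsmul_one, hnorm, hcardB, sub_self]
    have h2 := (Finset.sum_eq_zero_iff_of_nonneg fun ψ hψ => by
      have := sq_pos_of_ne_zero (hne ψ hψ); omega).mp h1 χ hχ
    omega
  have hcg : ∀ χ : IrrCharacter G, (charDegree (χ : G → ℂ) : ℤ) ≡ a χ [ZMOD p] := fun χ => by
    have h1 := hcongr χ (((p : ℤ) - 1) * a χ) (by
      rw [Finset.sum_congr rfl fun y hy => hval χ y hy, Finset.sum_const, nsmul_eq_mul,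
        show ((nonOne P).card : ℂ) = (((p : ℤ) - 1 : ℤ) : ℂ) by exact_mod_cast hcardn]
      push_cast
      ring)
    exact h1.trans (Int.modEq_iff_dvd.mpr ⟨a χ, by ring⟩)
  refine ⟨B.erase η, {η}, a, -a η, fun χ => ?_, ?_, ?_, ?_,
    fun χ hχ => sq_eq_one_iff.mp (hsq χ (Finset.mem_of_mem_erase hχ)),
    fun χ _ => hcg χ, fun χ _ => hval χ, ?_, ?_, ?_, ?_⟩
  · rw [← hmemB, Finset.mem_singleton, Finset.mem_erase]
    constructor
    · intro hχ
      by_cases e1 : χ = η
      · exact Or.inr e1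
      · exact Or.inl ⟨e1, hχ⟩
    · rintro (⟨-, hχ⟩ | rfl)
      · exact hχ
      · exact hη
  · simp
  · rw [Finset.card_erase_of_mem hη]; omega
  · rw [Finset.card_singleton, hdiv]
  · rcases sq_eq_one_iff.mp (hsq η hη) with e1 | e1 <;> simp [e1]
  · intro θ hθ
    rw [Finset.mem_singleton.mp hθ]
    refine (hcg η).trans (Int.modEq_iff_dvd.mpr ⟨-a η, ?_⟩)
    rw [he1]
    ring
  · intro θ hθ θ' hθ' g _
    rw [Finset.mem_singleton.mp hθ, Finset.mem_singleton.mp hθ']
  · intro θ hθ g hg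
    rw [Finset.mem_singleton.mp hθ]
    have h1 := hrel g hg
    rw [← Finset.add_sum_erase _ _ hη] at h1
    push_cast
    linear_combination -h1


theorem exists_prime_principal (hM : IsPModular p M) (hP : Nat.card P = p) {e : ℕ}
    (he : (Subgroup.centralizer ((P : Subgroup G) : Set G)).relIndex
      (Subgroup.normalizer ((P : Subgroup G) : Set G)) = e) :
    ∃ (X Y : Finset (IrrCharacter G)) (a : IrrCharacter G → ℤ) (δ : ℤ),
      PrimePrincipal M P e X Y a δ := by
  classical
  have hp : p.Prime := Fact.out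
  have h : FrobSylow P e := he ▸ frobSylow_of_prime hP
  have hrank : e ≤ blockRank p (principalBlock M G) := he ▸ le_blockRank_principal hM P hP
  haveI := h.finite_dual.1
  haveI : Fintype (↥(P : Subgroup G) →* ℂˣ) := Fintype.ofFinite _
  obtain ⟨r, rep, idx, hr0, hcount, hrep, hidx, hmem, hconst⟩ := h.exists_orbit_index
  have hI : OrbitIndex e rep idx := ⟨hcount, hrep, hidx, hmem, hconst⟩
  rw [hP] at hcount
  have he0 : e ≠ 0 := by
    intro h0
    rw [h0, mul_zero] at hcount
    exact hp.ne_one (by omega)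
  have hdiv : (p - 1) / e = r := by
    rw [← hcount, Nat.add_sub_cancel, Nat.mul_div_cancel _ (Nat.pos_of_ne_zero he0)]
  have hcardn : ((nonOne P).card : ℤ) = (p : ℤ) - 1 := by
    have : ((nonOne P).card : ℂ) = ((p : ℤ) - 1 : ℤ) := by
      rw [show ((nonOne P).card : ℂ) = ∑ y ∈ nonOne P, (1 : ℂ) by simp, FrobSylow.sum_nonOne]
      simp only [Finset.sum_const, Finset.card_univ, nsmul_eq_mul, mul_one,
        ← Nat.card_eq_fintype_card, hP]
      push_cast
      ring
    exact_mod_cast this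
  have hpc : (p : ℤ) = r * e + 1 := by rw [← hcount]; push_cast; ring
  -- congruence from the value on the non-trivial elements
  have hcongr : ∀ (χ : IrrCharacter G) (s : ℤ),
      ∑ y ∈ nonOne P, (χ : G → ℂ) (y : G) = (s : ℂ) →
      (charDegree (χ : G → ℂ) : ℤ) ≡ -s [ZMOD p] := by
    intro χ s hs
    obtain ⟨n, hn⟩ := exists_sum_on_sylow (P := P) χ
    have h1 := FrobSylow.sum_nonOne (P := P) (fun y => (χ : G → ℂ) (y : G))
    rw [hs, hn, hP, OneMemClass.coe_one, char_one_eq_deg (irr_isCharacter χ.2)] at h1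
    have h2 : (charDegree (χ : G → ℂ) : ℤ) = (p : ℤ) * n - s := by
      have : ((charDegree (χ : G → ℂ) : ℤ) : ℂ) = (((p : ℤ) * n - s : ℤ) : ℂ) := by
        rw [charDegree_eq_deg]
        push_cast
        linear_combination h1
      exact_mod_cast this
    rw [h2, Int.modEq_iff_dvd]
    exact ⟨-n, by ring⟩
  by_cases hr : 2 ≤ r
  · obtain ⟨X, μ, a, d, δ, hX⟩ := h.exists_principal_exc hM he0 hr hI
    have hδ2 : δ ^ 2 = 1 := by rcases hX.sign with e | e <;> simp [e]
    have hne : (r : ℤ) * d - δ ≠ 0 := by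
      intro h0
      rcases hX.sign with e' | e' <;> subst e'
      · have : (r : ℤ) * d = 1 := by omega
        have := Int.eq_one_of_mul_eq_one_right (by omega) this
        omega
      · have : (r : ℤ) * (-d) = 1 := by rw [mul_neg]; omega
        have := Int.eq_one_of_mul_eq_one_right (by omega) this
        omega
    have hneC : ((r : ℂ) * d - δ) ≠ 0 := by
      have : (((r : ℤ) * d - δ : ℤ) : ℂ) ≠ 0 := Int.cast_ne_zero.mpr hne
      simpa using this
    have hXle : e ≤ X.card := by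
      refine hrank.trans (blockRank_le_of_relation X fun χ hχ => ?_)
      rcases (hX.mem_iff χ).mp hχ with hm | ⟨i, rfl⟩
      · exact Submodule.subset_span ⟨χ, Finset.mem_coe.mpr hm, rfl⟩
      · have e1 : pRegularPart p (μ i : G → ℂ) =
            ∑ χ ∈ X, (-((r : ℂ) * d - δ)⁻¹ * (a χ : ℂ)) • pRegularPart p (χ : G → ℂ) := by
          funext g
          simp only [Finset.sum_apply, Pi.smul_apply, smul_eq_mul, pRegularPart, IsPRegular]
          by_cases hg : p ∣ orderOf g
          · simp [hg]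
          · simp only [hg, not_false_eq_true, if_true, mul_assoc, ← Finset.mul_sum]
            have h1 := hX.rel i g hg
            field_simp
            linear_combination h1
        rw [e1]
        exact Submodule.sum_mem _ fun χ hχ =>
          Submodule.smul_mem _ _ (Submodule.subset_span ⟨χ, Finset.mem_coe.mpr hχ, rfl⟩)
    have hsum : (X.card : ℤ) ≤ ∑ χ ∈ X, a χ ^ 2 := by
      rw [Finset.card_eq_sum_ones, Nat.cast_sum]
      refine Finset.sum_le_sum fun χ hχ => ?_
      have := sq_pos_of_ne_zero (hX.a_ne χ hχ)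
      push_cast
      omega
    have hXe : (e : ℤ) ≤ X.card := by exact_mod_cast hXle
    have hn := hX.norm
    have hr' : (2 : ℤ) ≤ (r : ℤ) := by exact_mod_cast hr
    have hcase : d = 0 ∨ (d = δ ∧ r = 2) := by
      by_cases hd : d = 0
      · exact Or.inl hd
      have hd2 := sq_pos_of_ne_zero hd
      have h1 : (r : ℤ) - 1 ≤ ((r : ℤ) - 1) * d ^ 2 := le_mul_of_one_le_right (by omega) hd2
      have h2 := sq_nonneg (d - δ)
      refine Or.inr ⟨?_, by omega⟩
      have h3 : (d - δ) ^ 2 = 0 := by omega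
      exact sub_eq_zero.mp (sq_eq_zero_iff.mp h3)
    have hsumle : ∑ χ ∈ X, a χ ^ 2 ≤ (e : ℤ) := by
      rcases hcase with rfl | ⟨rfl, hr2⟩
      · rw [zero_sub, neg_sq, hδ2] at hn
        have : ((r : ℤ) - 1) * (0 : ℤ) ^ 2 = 0 := by ring
        omega
      · subst hr2
        rw [sub_self, hδ2] at hn
        push_cast at hn
        omega
    have hcardX : X.card = e := by omega
    have hsq : ∀ χ ∈ X, a χ ^ 2 = 1 := by
      intro χ hχ
      have h1 : ∑ χ ∈ X, (a χ ^ 2 - 1) = 0 := by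
        rw [Finset.sum_sub_distrib, Finset.sum_const, nsmul_one]
        omega
      have h2 := (Finset.sum_eq_zero_iff_of_nonneg fun ψ hψ => by
        have := sq_pos_of_ne_zero (hX.a_ne ψ hψ); omega).mp h1 χ hχ
      omega
    have hSsum : ∀ i, ∑ y ∈ nonOne P, (μ i : G → ℂ) (y : G) =
        ((((p : ℤ) - 1) * d - δ * e : ℤ) : ℂ) := by
      intro i
      rw [Finset.sum_congr rfl fun y hy => hX.mu_val i y hy, Finset.sum_add_distrib,
        Finset.sum_const, ← Finset.mul_sum, FrobSylow.sum_nonOne, h.sum_orbSum (hrep i),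
        h.orbSum_one (hrep i), nsmul_eq_mul,
        show ((nonOne P).card : ℂ) = (((p : ℤ) - 1 : ℤ) : ℂ) by exact_mod_cast hcardn]
      push_cast
      ring
    refine ⟨X, Finset.univ.image μ, a, (if d = 0 then δ else -δ), fun χ => ?_, ?_, hcardX, ?_,
      fun χ hχ => sq_eq_one_iff.mp (hsq χ hχ), fun χ hχ => ?_, hX.a_val, ?_, ?_, ?_, ?_⟩
    · rw [hX.mem_iff]; simp
    · refine Finset.disjoint_left.mpr fun χ hχ hχ' => ?_
      obtain ⟨i, -, rfl⟩ := Finset.mem_image.mp hχ'
      exact hX.notMem i hχ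
    · rw [Finset.card_image_of_injective _ hX.inj, Finset.card_univ, Fintype.card_fin, hdiv]
    · have h1 := hcongr χ (((p : ℤ) - 1) * a χ) (by
        rw [Finset.sum_congr rfl fun y hy => hX.a_val χ hχ y hy, Finset.sum_const, nsmul_eq_mul,
          show ((nonOne P).card : ℂ) = (((p : ℤ) - 1 : ℤ) : ℂ) by exact_mod_cast hcardn]
        push_cast
        ring)
      refine h1.trans (Int.modEq_iff_dvd.mpr ⟨a χ, by ring⟩)
    · split_ifs <;> rcases hX.sign with e' | e' <;> simp [e']
    · intro θ hθ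
      obtain ⟨i, -, rfl⟩ := Finset.mem_image.mp hθ
      refine (hcongr _ _ (hSsum i)).trans ?_
      rcases hcase with rfl | ⟨rfl, hr2⟩
      · rw [if_pos rfl]
        exact Int.modEq_iff_dvd.mpr ⟨0, by ring⟩
      · have hd0 : d ≠ 0 := by rcases hX.sign with e' | e' <;> simp [e']
        rw [if_neg hd0]
        subst hr2
        refine Int.modEq_iff_dvd.mpr ⟨0, ?_⟩
        rw [hpc]
        push_cast
        ring
    · rintro θ hθ θ' hθ' g hg
      obtain ⟨i, -, rfl⟩ := Finset.mem_image.mp hθ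
      obtain ⟨j, -, rfl⟩ := Finset.mem_image.mp hθ'
      exact hX.reg i j g hg
    · rintro θ hθ g hg
      obtain ⟨i, -, rfl⟩ := Finset.mem_image.mp hθ
      have h1 := hX.rel i g hg
      rcases hcase with rfl | ⟨rfl, hr2⟩
      · rw [if_pos rfl]
        simp only [Int.cast_zero, mul_zero, zero_sub] at h1
        linear_combination -h1
      · rw [if_neg (by rcases hX.sign with e' | e' <;> simp [e'])]
        subst hr2
        push_cast at h1 ⊢
        linear_combination -h1
  · obtain rfl : r = 1 := by omega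
    exact exists_prime_principal_one hM hP h hrank (hrep ⟨0, hr0⟩) (by omega) hcardn hcongr

end Cfsg.Agent.Char
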