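import Cfsg.Agent.Lib.Char.PrincipalBlock
import Cfsg.Agent.Lib.Char.Basic
import Cfsg.Agent.Lib.Char.Linear
import Cfsg.Agent.Lib.Char.LinearExt

/-!
# The centralizer of a Sylow subgroup and faithful principal characters of small degree
-/

set_option autoImplicit false

namespace Cfsg.Agent.Char

open Cfsg Module
open scoped ComplexConjugate

universe u

theorem centralizer_sylow_isPGroup_of_small_degree {G : Type u} [Group G] [Finite G] {p : ℕ}
    [hp : Fact p.Prime] {M : Ideal AlgInt} (hM : IsPModular p M) (hperf : commutator G = ⊤) (P : Sylow p G)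
    (χ : IrrCharacter G) (hχ : χ ∈ principalBlock M G)
    (hfaith : ∀ g : G, (χ : G → ℂ) g = (χ : G → ℂ) 1 → g = 1)
    (hdeg : charDegree (χ : G → ℂ) < 2 * p) :
    IsPGroup p ↥(Subgroup.centralizer ((P : Subgroup G) : Set G)) := by
  classical
  haveI := Fintype.ofFinite G
  have hP := pmod_prime hM
  obtain ⟨n, ρ, hρ⟩ := irr_isCharacter χ.2
  have hn : (χ : G → ℂ) 1 = n := char_one_eq_dim ρ hρ
  have hcd : charDegree (χ : G → ℂ) = n := by rw [charDegree, hn, Complex.natCast_re, Nat.floor_natCast]
  rw [hcd] at hdeg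
  have hfr : finrank ℂ (Fin n → ℂ) = n := Module.finrank_fin_fun ℂ
  have hdet : ∀ g, LinearMap.det (ρ g) = 1 := fun g => by
    have h1 : (detHom ρ) g = 1 := by
      have hker : commutator G ≤ (detHom ρ).ker := by
        rw [commutator_def, Subgroup.commutator_le]
        intro a _ b _
        rw [MonoidHom.mem_ker, commutatorElement_def, map_mul, map_mul, map_mul, map_inv, map_inv]
        exact (by simp [mul_comm, mul_left_comm])
      exact hker (hperf ▸ Subgroup.mem_top g)
    rw [← detHom_apply, h1, Units.val_one]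
  -- the congruence
  have hcongr : ∀ x ∈ Subgroup.centralizer ((P : Subgroup G) : Set G),
      MemLocalIdeal M ((χ : G → ℂ) x - n) := by
    intro x hx
    have hle : (P : Subgroup G) ≤ Subgroup.centralizer ({x} : Set G) := fun y hy =>
      Subgroup.mem_centralizer_singleton_iff.2 (Subgroup.mem_centralizer_iff.1 hx y hy)
    have hk : ¬ p ∣ (Subgroup.centralizer ({x} : Set G)).index :=
      fun h => P.not_dvd_index (h.trans (Subgroup.index_dvd_of_le hle))
    set k := (Subgroup.centralizer ({x} : Set G)).index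
    have hn0 : (n : ℂ) ≠ 0 := fun h => irr_one_ne_zero χ.2 (hn.trans h)
    have h : MemLocalIdeal M ((k : ℂ) * 1 / 1 - (k : ℂ) * (χ : G → ℂ) x / (χ : G → ℂ) 1) := hχ x
    have h2 := memLI_mul_right hP (memLI_mul_right hP h (memLR_natCast hP n))
      (memLR_inv_natCast hM hk)
    have hk0 : (k : ℂ) ≠ 0 := Nat.cast_ne_zero.2 fun h0 => hk (h0 ▸ dvd_zero p)
    have e : ((k : ℂ) * 1 / 1 - (k : ℂ) * (χ : G → ℂ) x / (χ : G → ℂ) 1) * n * (k : ℂ)⁻¹ =
        (n : ℂ) - (χ : G → ℂ) x := by
      rw [hn]
      field_simp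
    rw [e] at h2
    exact memLI_symm hP h2
  intro c
  obtain ⟨a, ha⟩ : ∃ a, orderOf c = p ^ a := by
    by_contra hno
    push Not at hno
    obtain ⟨q, hq, hqc, hqp⟩ : ∃ q : ℕ, q.Prime ∧ q ∣ orderOf c ∧ q ≠ p := by
      by_contra hh
      push Not at hh
      exact hno _ (Nat.eq_prime_pow_of_unique_prime_dvd (orderOf_pos c).ne' fun {d} hd hdv => hh d hd hdv)
    set y := c ^ (orderOf c / q) with hy
    have hoy : orderOf y = q := orderOf_pow_orderOf_div (orderOf_pos c).ne' hqc
    set x : G := (y : G) with hxdef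
    have hox : orderOf x = q := by rw [hxdef, orderOf_submonoid y, hoy]
    obtain ⟨μ, hμ, htr, hde⟩ := exists_eigenvalues ρ x
    rw [hox] at hμ
    have hmult : ∀ ζ : ℂ, ζ ^ q = 1 → ζ ≠ 1 → p ∣ (Finset.univ.filter fun i => μ i = ζ).card := by
      intro ζ hζ hζ1
      have hζ0 : ζ ≠ 0 := by rintro rfl; rw [zero_pow hq.ne_zero] at hζ; exact zero_ne_one hζ
      have hgeom : ∀ z : ℂ, z ^ q = 1 → ∑ j ∈ Finset.range q, z ^ j = if z = 1 then (q : ℂ) else 0 := by
        intro z hz
        split_ifs with h1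
        · simp [h1]
        · rw [geom_sum_eq h1, hz, sub_self, zero_div]
      have key : MemLocalIdeal M (∑ j ∈ Finset.range q, (ζ⁻¹) ^ j * ((χ : G → ℂ) (x ^ j) - n)) := by
        refine memLI_sum hP _ _ fun j _ => memLI_mul_left hP (memLocalRing_of_isIntegral hP.ne_top
          ((root_of_unity_isIntegral hq.ne_zero (by rw [inv_pow, hζ, inv_one])).pow j)) ?_
        exact hcongr _ (Subgroup.pow_mem _ y.2 j)
      have hval : ∀ j : ℕ, (χ : G → ℂ) (x ^ j) = ∑ i, μ i ^ j := fun j => by rw [← hρ]; exact htr j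
      have e : ∑ j ∈ Finset.range q, (ζ⁻¹) ^ j * ((χ : G → ℂ) (x ^ j) - n) =
          (((Finset.univ.filter fun i => μ i = ζ).card * q : ℕ) : ℂ) := by
        simp only [mul_sub, Finset.sum_sub_distrib, hval, ← Finset.sum_mul, Finset.mul_sum, ← mul_pow]
        rw [hgeom ζ⁻¹ (by rw [inv_pow, hζ, inv_one]), if_neg (fun h => hζ1 (inv_eq_one.1 h)), zero_mul,
          sub_zero, Finset.sum_comm, Finset.sum_congr rfl fun i _ => hgeom _ (by rw [mul_pow, inv_pow, hζ, inv_one, one_mul, hμ i])]
        rw [Finset.sum_congr rfl fun i _ => if_congr (inv_mul_eq_one₀ hζ0) rfl rfl, ← Finset.sum_filter,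
          Finset.sum_const, nsmul_eq_mul, Nat.cast_mul]
        congr 3
        ext i
        simp [eq_comm]
      rw [e, memLI_natCast_iff hM] at key
      exact ((Nat.Prime.dvd_mul hp.out).1 key).resolve_right fun h =>
        hqp ((Nat.prime_dvd_prime_iff_eq hp.out hq).1 h).symm
    have hall : ∀ i, μ i = 1 := by
      intro i
      by_contra hi
      set ζ := μ i
      set S := Finset.univ.filter fun j => μ j = ζ
      have hS : p ≤ S.card := Nat.le_of_dvd (Finset.card_pos.2 ⟨i, by simp [S, ζ]⟩) (hmult ζ (hμ i) hi)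
      have hrest : ∀ j, j ∉ S → μ j = 1 := by
        intro j hj
        by_contra hj1
        set T := Finset.univ.filter fun l => μ l = μ j
        have hT : p ≤ T.card := Nat.le_of_dvd (Finset.card_pos.2 ⟨j, by simp [T]⟩) (hmult _ (hμ j) hj1)
        have hdisj : Disjoint S T := Finset.disjoint_left.2 fun l hl hl' => hj (by
          rw [Finset.mem_filter] at hl hl' ⊢
          exact ⟨Finset.mem_univ _, hl'.2.symm.trans hl.2⟩)
        have := Finset.card_le_univ (S ∪ T)
        rw [Finset.card_union_of_disjoint hdisj, Fintype.card_fin] at this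
        omega
      have h1 := hde 1
      simp only [pow_one] at h1
      rw [hdet, ← Finset.prod_mul_prod_compl S, Finset.prod_congr rfl (s₁ := S) fun j hj => (Finset.mem_filter.1 hj).2,
        Finset.prod_const, Finset.prod_congr rfl (s₁ := Sᶜ) fun j hj => hrest j (Finset.mem_compl.1 hj),
        Finset.prod_const_one, mul_one] at h1
      have hcard : S.card = p := by
        have hd := hmult ζ (hμ i) hi
        have hle := Finset.card_le_univ S
        rw [Fintype.card_fin] at hle
        obtain ⟨t, ht⟩ := hd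
        change S.card = p * t at ht
        rcases Nat.lt_or_ge t 2 with h | h
        · interval_cases t <;> omega
        · nlinarith [hp.out.pos]
      rw [hcard] at h1
      exact hi ((pow_eq_one_iff_of_coprime ((Nat.coprime_primes hq hp.out).2 hqp)).1 ⟨hμ i, h1.symm⟩)
    have hx1 : x = 1 := hfaith x (by
      have h1 := htr 1
      simp only [pow_one, hall, Finset.sum_const, Finset.card_univ, Fintype.card_fin, Module.finrank_fin_fun,
        nsmul_one] at h1
      rw [hn, ← hρ, h1])
    rw [hx1, orderOf_one] at hox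
    exact hq.one_lt.ne hox
  exact ⟨a, by rw [← ha, pow_orderOf_eq_one]⟩

end Cfsg.Agent.Char
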