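import Cfsg.Agent.Lib.Char.AbelianTIDegree
import Cfsg.Agent.Lib.Char.Blichfeldt
import Cfsg.Agent.Lib.Char.Glauberman
import Cfsg.Agent.Lib.Solv.Coprime
import Cfsg.Agent.Lib.Fusion.Cores
import Mathlib

/-!
# Small degree: elements of `p`-power order centralize normalized `p'`-subgroups, and the theorem
of Feit and Thompson on normal Sylow subgroups
-/

set_option autoImplicit false
set_option linter.unusedSectionVars false
set_option linter.style.haveILetI false

open scoped ComplexConjugate commutatorElement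

namespace Cfsg.Agent.Char.SmallSylow

open Cfsg Cfsg.Agent Cfsg.Agent.Char

universe u

variable {G : Type u} [Group G] [Fintype G] {p : ℕ} [hp : Fact p.Prime] {n : ℕ}
  (ρ : Representation ℂ G (Fin n → ℂ))

theorem eq_one_of_char (hρ : Function.Injective ρ) {g : G} (h : ρ.character g = (n : ℂ)) : g = 1 :=
  hρ (((eq_id_iff ρ g).mp (by rw [h, Module.finrank_fin_fun])).trans (map_one ρ).symm)

theorem char_one_nat : ρ.character 1 = (n : ℂ) := by
  rw [Representation.char_one, Module.finrank_fin_fun]

theorem sum_deg {H : Type u} [Group H] [Fintype H] {f : H → ℂ} (m : IrrCharacter H → ℕ)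
    (h : f = ∑ ψ, m ψ • (ψ : H → ℂ)) {d : ℕ} (hd : f 1 = d) :
    d = ∑ ψ, m ψ * deg (ψ : H → ℂ) := by
  have h1 := congrFun h 1
  simp only [hd, Finset.sum_apply, Pi.smul_apply, nsmul_eq_mul, Pi.mul_apply, Pi.natCast_apply] at h1
  rw [Finset.sum_congr rfl fun ψ _ => by rw [char_one_eq_deg (irr_isCharacter ψ.2)]] at h1
  exact_mod_cast h1

theorem deg_le {H : Type u} [Group H] [Fintype H] {f : H → ℂ} (m : IrrCharacter H → ℕ)
    (h : f = ∑ ψ, m ψ • (ψ : H → ℂ)) {d : ℕ} (hd : f 1 = d) {ψ : IrrCharacter H} (hψ : m ψ ≠ 0) :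
    deg (ψ : H → ℂ) ≤ d := by
  rw [sum_deg m h hd]
  exact le_trans (Nat.le_mul_of_pos_left _ (Nat.pos_of_ne_zero hψ))
    (Finset.single_le_sum (f := fun φ => m φ * deg (φ : H → ℂ)) (fun _ _ => Nat.zero_le _)
      (Finset.mem_univ ψ))

/-- The constituents on a normalized subgroup are fixed. -/
theorem constituent_fixed (hn : n < p) {R : Subgroup G} [Fintype R] {x : G}
    (hx : x ∈ Subgroup.normalizer (R : Set G)) (hxp : ∀ g ∈ R, Commute (x ^ p) g)
    (m : IrrCharacter R → ℕ) (hm : (fun g : R => ρ.character g) = ∑ ψ, m ψ • (ψ : R → ℂ))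
    {θ : IrrCharacter R} (hθ : m θ ≠ 0) (g : R) :
    (θ : R → ℂ) ⟨x * g * x⁻¹, (Subgroup.mem_normalizer_iff.mp hx g).mp g.2⟩ = (θ : R → ℂ) g := by
  classical
  set α : MulAut R := Subgroup.normalizerMonoidHom R ⟨x, hx⟩ with hα
  have hαv : ∀ g : R, ((α g : R) : G) = x * g * x⁻¹ := fun g => rfl
  set σ : IrrCharacter R → IrrCharacter R := fun ψ => irrComp α ψ with hσ
  have hit : ∀ (i : ℕ) (ψ : IrrCharacter R) (g : R),
      (σ^[i] ψ : R → ℂ) g = (ψ : R → ℂ) ((α ^ i) g) := by
    intro i
    induction i with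
    | zero => intro ψ g; rfl
    | succ i ih =>
      intro ψ g
      rw [Function.iterate_succ_apply', pow_succ, MulAut.mul_apply]
      simp only [hσ, irrComp_apply]
      exact ih ψ (α g)
  have hαp : α ^ p = 1 := by
    refine MulEquiv.ext fun g => Subtype.ext ?_
    rw [hα, ← map_pow]
    show x ^ p * g * (x ^ p)⁻¹ = g
    rw [(hxp g g.2).eq, mul_inv_cancel_right]
  suffices h : σ θ = θ by
    exact congrFun (congrArg Subtype.val h) g
  by_contra hne
  have hper : Function.IsPeriodicPt σ p θ := Subtype.ext (funext fun g => by rw [hit, hαp]; rfl)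
  have hmin : Function.minimalPeriod σ θ = p :=
    (Nat.Prime.eq_one_or_self_of_dvd hp.out _ hper.minimalPeriod_dvd).resolve_left fun h1 =>
      hne (Function.minimalPeriod_eq_one_iff_isFixedPt.mp h1)
  have hchar : ρ.character 1 = (n : ℂ) := char_one_nat ρ
  have hinv : ∀ ψ : IrrCharacter R, m (σ ψ) = m ψ := by
    intro ψ
    apply Nat.cast_injective (R := ℂ)
    rw [← decomposition_coeff m hm, ← decomposition_coeff m hm, classInner, classInner]
    congr 1
    refine Fintype.sum_equiv α.toEquiv _ _ fun g => ?_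
    simp only [hσ, irrComp_apply, MulEquiv.toEquiv_eq_coe, EquivLike.coe_coe, hαv]
    rw [Representation.char_conj]
  have hmi : ∀ i : ℕ, m (σ^[i] θ) = m θ := by
    intro i
    induction i with
    | zero => rfl
    | succ i ih => rw [Function.iterate_succ_apply', hinv, ih]
  have hinj : Set.InjOn (fun i => σ^[i] θ) (Finset.range p : Set ℕ) := by
    intro i hi j hj e
    rw [Finset.coe_range, Set.mem_Iio] at hi hj
    exact Function.iterate_injOn_Iio_minimalPeriod (f := σ) (x := θ)
      (by rw [hmin]; exact hi) (by rw [hmin]; exact hj) e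
  have hsum := sum_deg m hm (d := n) hchar
  have hle : p ≤ n := by
    calc p = ∑ _i ∈ Finset.range p, 1 := by simp
      _ ≤ ∑ i ∈ Finset.range p, m (σ^[i] θ) * deg (σ^[i] θ : R → ℂ) := by
        refine Finset.sum_le_sum fun i _ => Nat.one_le_iff_ne_zero.mpr (mul_ne_zero (hmi i ▸ hθ) ?_)
        intro h0
        exact irr_one_ne_zero (σ^[i] θ).2 (by
          rw [char_one_eq_deg (irr_isCharacter (σ^[i] θ).2), h0, Nat.cast_zero])
      _ = ∑ ψ ∈ (Finset.range p).image (fun i => σ^[i] θ), m ψ * deg (ψ : R → ℂ) :=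
        (Finset.sum_image (f := fun ψ : IrrCharacter R => m ψ * deg (ψ : R → ℂ)) hinj).symm
      _ ≤ _ := Finset.sum_le_univ_sum_of_nonneg fun _ => Nat.zero_le _
      _ = n := hsum.symm
  omega

/-- A constituent of degree `p - 1` on a subgroup of prime power order. -/
def Exc (p : ℕ) (ρ : Representation ℂ G (Fin n → ℂ)) : Prop :=
  ∃ (R : Subgroup G) (r : ℕ) (_ : Fintype R) (θ : IrrCharacter R), r.Prime ∧ IsPGroup r R ∧
    classInner (fun g : R => ρ.character g) (θ : R → ℂ) ≠ 0 ∧ deg (θ : R → ℂ) + 1 = p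

theorem not_exc (hn : n + 1 < p) : ¬ Exc p ρ := by
  classical
  rintro ⟨R, r, hR, θ, -, -, hθ, hd⟩
  obtain ⟨m, hm⟩ := exists_decomposition (isCharacter_comp R.subtype (isCharacter_character ρ))
  have := deg_le m hm (d := n) (char_one_nat ρ) (ψ := θ) fun h0 => hθ (by
    rw [show (fun g : R => ρ.character g) = ρ.character ∘ R.subtype from rfl,
      decomposition_coeff m hm θ, h0, Nat.cast_zero])
  omega

/-- If the proper invariant subgroups are centralized, so is the whole `r`-group. -/
theorem centralizes_of_minimal (hρ : Function.Injective ρ) (hn : n < p) (hex : ¬ Exc p ρ)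
    {r : ℕ} (hr : r.Prime) {R : Subgroup G} (hRr : IsPGroup r R)
    (hR : ¬ p ∣ Nat.card R) (hnil : Group.IsNilpotent R) {x : G} (hxo : ∃ k : ℕ, orderOf x = p ^ k)
    (hx : x ∈ Subgroup.normalizer (R : Set G)) (hxp : ∀ g ∈ R, Commute (x ^ p) g)
    (hmin : ∀ S : Subgroup G, S ≤ R → S ≠ R → x ∈ Subgroup.normalizer (S : Set G) →
      ∀ g ∈ S, Commute x g) :
    ∀ g ∈ R, Commute x g := by
  classical
  haveI := Fintype.ofFinite R
  haveI := hnil
  by_contra hcon
  push Not at hcon
  obtain ⟨g0, hg0, hg0x⟩ := hcon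
  obtain ⟨k, hk⟩ := hxo
  have hconjR : ∀ g ∈ R, x * g * x⁻¹ ∈ R := fun g hg => (Subgroup.mem_normalizer_iff.mp hx g).mp hg
  have hfix : ∀ g ∈ R, Commute x (g⁻¹ * (x * g * x⁻¹)) → Commute x g := by
    intro g hg hc
    set c := g⁻¹ * (x * g * x⁻¹) with hcdef
    have hit : ∀ i : ℕ, x ^ i * g * (x ^ i)⁻¹ = g * c ^ i := by
      intro i
      induction i with
      | zero => simp
      | succ i ih =>
        rw [pow_succ' x i, _root_.mul_inv_rev,
          show x * x ^ i * g * ((x ^ i)⁻¹ * x⁻¹) = x * (x ^ i * g * (x ^ i)⁻¹) * x⁻¹ by group, ih,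
          show x * (g * c ^ i) * x⁻¹ = (x * g * x⁻¹) * (x * c ^ i * x⁻¹) by group,
          (hc.pow_right i).eq, mul_inv_cancel_right, pow_succ' c i, ← mul_assoc, hcdef,
          mul_inv_cancel_left]
    have h1 := hit (p ^ k)
    rw [← hk, pow_orderOf_eq_one, one_mul, inv_one, mul_one, left_eq_mul, hk] at h1
    have hcR : c ∈ R := R.mul_mem (R.inv_mem hg) (hconjR g hg)
    have h2 : c = 1 := orderOf_eq_one_iff.mp (Nat.eq_one_of_dvd_coprimes
      (Nat.Coprime.pow_left k (hp.out.coprime_iff_not_dvd.mpr hR)) (orderOf_dvd_of_pow_eq_one h1)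
      (by rw [← Subgroup.orderOf_mk c hcR]; exact orderOf_dvd_natCard _))
    rw [hcdef, inv_mul_eq_one] at h2
    exact mul_inv_eq_iff_eq_mul.mp h2.symm
  have hnormalizes : ∀ S : Subgroup G, (∀ g ∈ S, x * g * x⁻¹ ∈ S) →
      x ∈ Subgroup.normalizer (S : Set G) := by
    intro S h
    refine Subgroup.mem_normalizer_iff_map_conj_eq.mpr (Subgroup.eq_of_le_of_card_ge ?_
      (Subgroup.card_map_of_injective (MulAut.conj x).injective).ge)
    rintro _ ⟨g, hg, rfl⟩
    exact h g hg
  -- `R` is generated by the `g⁻¹ (x g x⁻¹)`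
  set W := Subgroup.closure {w : G | ∃ g ∈ R, w = g⁻¹ * (x * g * x⁻¹)} with hW
  have hWR : W ≤ R := by
    rw [hW, Subgroup.closure_le]
    rintro _ ⟨g, hg, rfl⟩
    exact R.mul_mem (R.inv_mem hg) (hconjR g hg)
  have hWeq : W = R := by
    by_contra hne
    have hWx : x ∈ Subgroup.normalizer (W : Set G) := hnormalizes W fun w hw => by
      have : W ≤ W.comap (MulAut.conj x).toMonoidHom := by
        conv_lhs => rw [hW]
        rw [Subgroup.closure_le]
        rintro _ ⟨g, hg, rfl⟩
        refine Subgroup.subset_closure ⟨x * g * x⁻¹, hconjR g hg, ?_⟩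
        show x * (g⁻¹ * (x * g * x⁻¹)) * x⁻¹ = _
        group
      exact this hw
    exact hg0x (hfix g0 hg0 (hmin W hWR hne hWx _ (Subgroup.subset_closure ⟨g0, hg0, rfl⟩)))
  -- the derived subgroup is centralized
  have hder : ∀ a ∈ R, ∀ b ∈ R, Commute x ⁅a, b⁆ := by
    intro a ha b hb
    set D := (commutator R).map R.subtype with hD
    have hDeq : D = ⁅R, R⁆ := by
      rw [hD, commutator_def, Subgroup.map_commutator, ← MonoidHom.range_eq_map,
        Subgroup.range_subtype]
    have hDne : D ≠ R := by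
      intro e
      have htop : commutator R = ⊤ := by
        refine Subgroup.map_injective R.subtype_injective ?_
        rw [← hD, e, ← MonoidHom.range_eq_map, Subgroup.range_subtype]
      rcases subsingleton_or_nontrivial R with hs | hnt
      · exact hg0x (by
          rw [show g0 = 1 from congrArg Subtype.val (Subsingleton.elim (⟨g0, hg0⟩ : R) 1)]
          exact Commute.one_right x)
      · exact (Group.IsSolvable.commutator_lt_top_of_nontrivial R).ne htop
    refine hmin D (Subgroup.map_subtype_le _) hDne ?_ _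
      (hDeq ▸ Subgroup.commutator_mem_commutator ha hb)
    rw [hDeq, Subgroup.mem_normalizer_iff_map_conj_eq]
    have := Subgroup.mem_normalizer_iff_map_conj_eq.mp hx
    rw [Subgroup.map_commutator]
    exact congrArg₂ (fun A B => ⁅A, B⁆) this this
  -- the fixed points are central
  have hcen : ∀ c ∈ R, Commute x c → ∀ g ∈ R, c * g = g * c := by
    intro c hc hxc
    have hle : W ≤ Subgroup.centralizer ({c} : Set G) := by
      rw [hW, Subgroup.closure_le]
      rintro _ ⟨g, hg, rfl⟩
      rw [SetLike.mem_coe, Subgroup.mem_centralizer_singleton_iff]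
      set g' := x * g * x⁻¹ with hg'
      have h1 : x * ⁅c, g⁆ * x⁻¹ = ⁅c, g⁆ := by
        rw [(hder c hc g hg).eq, mul_inv_cancel_right]
      have h2 : x * c * x⁻¹ = c := by rw [hxc.eq, mul_inv_cancel_right]
      have h3 : c * g' * c⁻¹ * g'⁻¹ = c * g * c⁻¹ * g⁻¹ := by
        rw [← commutatorElement_def c g, ← h1, commutatorElement_def]
        conv_lhs => rw [← h2, hg']
        group
      have h4 : g' * c⁻¹ * g'⁻¹ = g * c⁻¹ * g⁻¹ := mul_left_cancel (a := c) (by
        simpa [mul_assoc] using h3)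
      have h5 : (g⁻¹ * g') * c⁻¹ = c⁻¹ * (g⁻¹ * g') := by
        calc g⁻¹ * g' * c⁻¹ = g⁻¹ * (g' * c⁻¹ * g'⁻¹) * g' := by group
          _ = g⁻¹ * (g * c⁻¹ * g⁻¹) * g' := by rw [h4]
          _ = _ := by group
      exact (Commute.inv_right_iff.mp (show Commute (g⁻¹ * g') c⁻¹ from h5)).eq
    intro g hg
    exact (Subgroup.mem_centralizer_singleton_iff.mp (hle (hWeq ▸ hg))).symm
  -- all constituents are linear
  obtain ⟨m, hm⟩ := exists_decomposition (isCharacter_comp R.subtype (isCharacter_character ρ))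
  obtain ⟨M, hM⟩ := exists_pModular hp.out
  letI : MulAction (Subgroup.zpowers x) R :=
    { smul := fun s g => ⟨(s : G) * g * (s : G)⁻¹,
        (Subgroup.mem_normalizer_iff.mp ((Subgroup.zpowers_le.mpr hx) s.2) g).mp g.2⟩
      one_smul := fun g => Subtype.ext (show ((1 : Subgroup.zpowers x) : G) * g * ((1 : Subgroup.zpowers x) : G)⁻¹ = g by simp)
      mul_smul := fun s t g => Subtype.ext (show ((s * t : Subgroup.zpowers x) : G) * g * ((s * t : Subgroup.zpowers x) : G)⁻¹ = (s : G) * ((t : G) * g * (t : G)⁻¹) * (s : G)⁻¹ by simp [mul_assoc]) }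
  have hpg : IsPGroup p (Subgroup.zpowers x) := IsPGroup.of_card (n := k) (by rw [Nat.card_zpowers, hk])
  have hfixiff : ∀ g : R, g ∈ MulAction.fixedPoints (Subgroup.zpowers x) R ↔ Commute x g := by
    intro g
    constructor
    · intro h
      exact mul_inv_eq_iff_eq_mul.mp (congrArg Subtype.val (h ⟨x, Subgroup.mem_zpowers x⟩))
    · rintro h ⟨s, hs⟩
      obtain ⟨i, rfl⟩ := Subgroup.mem_zpowers_iff.mp hs
      exact Subtype.ext (show x ^ i * (g : G) * (x ^ i)⁻¹ = g by
        rw [(h.zpow_left i).eq, mul_inv_cancel_right])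
  have hlin : ∀ θ : IrrCharacter R, m θ ≠ 0 → (θ : R → ℂ) 1 = 1 := by
    intro θ hθ
    set d := deg (θ : R → ℂ) with hd
    have hd0 : 0 < d := Nat.pos_of_ne_zero fun h0 => irr_one_ne_zero θ.2 (by
      rw [char_one_eq_deg (irr_isCharacter θ.2), ← hd, h0, Nat.cast_zero])
    set F : R → ℂ := fun g => (θ : R → ℂ) g * conj ((θ : R → ℂ) g) with hF
    have hinv : ∀ (s : Subgroup.zpowers x) (g : R), F (s • g) = F g := by
      rintro ⟨s, hs⟩ g
      obtain ⟨i, rfl⟩ := mem_powers_iff_mem_zpowers.mpr hs
      have key : ∀ (i : ℕ) (g : R), F ⟨x ^ i * g * (x ^ i)⁻¹,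
          (Subgroup.mem_normalizer_iff.mp (pow_mem hx i) g).mp g.2⟩ = F g := by
        intro i
        induction i with
        | zero => intro g; exact congrArg F (Subtype.ext (by simp))
        | succ i ih =>
          intro g
          have h1 := constituent_fixed ρ hn hx hxp m hm hθ
            ⟨x ^ i * g * (x ^ i)⁻¹, (Subgroup.mem_normalizer_iff.mp (pow_mem hx i) g).mp g.2⟩
          rw [← ih g]
          simp only [hF]
          rw [← h1]
          have e : (⟨x ^ (i + 1) * g * (x ^ (i + 1))⁻¹,
              (Subgroup.mem_normalizer_iff.mp (pow_mem hx (i + 1)) g).mp g.2⟩ : R) =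
              ⟨x * (x ^ i * g * (x ^ i)⁻¹) * x⁻¹, hconjR _
                ((Subgroup.mem_normalizer_iff.mp (pow_mem hx i) g).mp g.2)⟩ :=
            Subtype.ext (show x ^ (i + 1) * (g : G) * (x ^ (i + 1))⁻¹ =
              x * (x ^ i * (g : G) * (x ^ i)⁻¹) * x⁻¹ by rw [pow_succ']; group)
          rw [e]
      exact key i g
    have hR' : ∀ g : R, MemLocalRing M (F g) := fun g =>
      memLR_mul (pmod_prime hM) (memLR_char (pmod_prime hM) (irr_isCharacter θ.2) g)
        (memLR_char (pmod_prime hM) (isCharacter_conj (irr_isCharacter θ.2)) g)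
    have h1 := sum_fixedPoints_congr hM hpg F hR' hinv
    have h2 := sum_fixedPoints_congr (X := R) hM hpg (fun _ => ((d * d : ℕ) : ℂ))
      (fun _ => memLR_natCast (pmod_prime hM) _) (fun _ _ => rfl)
    have hsum : ∑ g : R, F g = (Nat.card R : ℂ) := by
      have := irr_self θ.2
      rw [classInner, inv_mul_eq_one₀ (Nat.cast_ne_zero.mpr Nat.card_pos.ne')] at this
      exact this.symm
    have hfixed : ∀ g : R, g ∈ MulAction.fixedPoints (Subgroup.zpowers x) R →
        F g = ((d * d : ℕ) : ℂ) := by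
      intro g hg
      obtain ⟨c, hc, hcm⟩ := AbTI.center_mul θ (z := g) (Subgroup.mem_center_iff.mpr fun a =>
        Subtype.ext (hcen g g.2 ((hfixiff g).mp hg) a a.2).symm)
      have hv := hcm 1
      rw [one_mul, char_one_eq_deg (irr_isCharacter θ.2), ← hd] at hv
      simp only [hF, hv, Complex.mul_conj, map_mul, hc, one_mul, Complex.normSq_natCast]
      push_cast
      rfl
    rw [hsum, Finset.sum_congr rfl fun g hg => hfixed g (Finset.mem_filter.mp hg).2] at h1
    rw [Finset.sum_const, Finset.card_univ, ← Nat.card_eq_fintype_card, nsmul_eq_mul] at h2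
    have h3 := memLI_sub (pmod_prime hM) h2 h1
    have h4 : MemLocalIdeal M ((Nat.card R * (d * d - 1) : ℕ) : ℂ) := by
      convert h3 using 1
      rw [Nat.cast_mul, Nat.cast_sub (Nat.mul_pos hd0 hd0), Nat.cast_one]
      ring
    have h5 := (memLI_natCast_iff hM _).mp h4
    have h6 : p ∣ (d + 1) * (d - 1) := by
      have e : (d + 1) * (d - 1) = d * d - 1 := by
        rw [← Nat.mul_self_sub_mul_self_eq]
      rw [e]
      exact (hp.out.dvd_mul.mp h5).resolve_left hR
    have hdn : d ≤ n := deg_le m hm (d := n) (char_one_nat ρ) hθ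
    rcases hp.out.dvd_mul.mp h6 with h | h
    · have := Nat.le_of_dvd (by omega) h
      refine absurd ⟨R, r, inferInstance, θ, hr, hRr, ?_, by omega⟩ hex
      rw [show (fun g : R => ρ.character g) = ρ.character ∘ R.subtype from rfl,
        decomposition_coeff m hm θ]
      exact Nat.cast_ne_zero.mpr hθ
    · rcases Nat.eq_zero_or_pos (d - 1) with h0 | h0
      · rw [char_one_eq_deg (irr_isCharacter θ.2), ← hd, show d = 1 by omega, Nat.cast_one]
      · have := Nat.le_of_dvd h0 h
        omega
  refine hg0x ?_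
  have hw : g0⁻¹ * (x * g0 * x⁻¹) = 1 := by
    refine eq_one_of_char ρ hρ ?_
    have hmem : g0⁻¹ * (x * g0 * x⁻¹) ∈ R := R.mul_mem (R.inv_mem hg0) (hconjR g0 hg0)
    have e1 := congrFun hm ⟨_, hmem⟩
    have e2 := congrFun hm 1
    simp only [Function.comp_apply, Subgroup.coe_subtype, OneMemClass.coe_one, Finset.sum_apply,
      Pi.smul_apply] at e1 e2
    rw [e1, ← char_one_nat ρ, e2]
    refine Finset.sum_congr rfl fun θ _ => ?_
    by_cases h0 : m θ = 0
    · rw [h0, zero_smul, zero_smul]
    obtain ⟨l, hl⟩ := exists_hom_of_degree_one (irr_isCharacter θ.2) (hlin θ h0)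
    have h1 := constituent_fixed ρ hn hx hxp m hm h0 ⟨g0, hg0⟩
    rw [hl] at h1 ⊢
    have h2 : l ⟨x * g0 * x⁻¹, hconjR g0 hg0⟩ = l ⟨g0, hg0⟩ := Units.ext h1
    show m θ • ((l _ : ℂˣ) : ℂ) = m θ • ((l 1 : ℂˣ) : ℂ)
    rw [show (⟨g0⁻¹ * (x * g0 * x⁻¹), hmem⟩ : R) = (⟨g0, hg0⟩ : R)⁻¹ * ⟨_, hconjR g0 hg0⟩ from rfl,
      map_mul, map_inv, h2, inv_mul_cancel, map_one]
  rw [inv_mul_eq_one] at hw
  exact mul_inv_eq_iff_eq_mul.mp hw.symm

/-- An element of `p`-power order centralizes every `p'`-subgroup it normalizes. -/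
theorem commute_pprime_of_not_exc (hρ : Function.Injective ρ) (hn : n < p) (hex : ¬ Exc p ρ) :
    ∀ (k : ℕ) (x : G), x ^ p ^ k = 1 → ∀ R : Subgroup G, ¬ p ∣ Nat.card R →
      x ∈ Subgroup.normalizer (R : Set G) → ∀ g ∈ R, Commute x g := by
  classical
  intro k
  induction k with
  | zero => intro x hx R _ _ g _; rw [pow_zero, pow_one] at hx; subst hx; exact Commute.one_left g
  | succ k ih =>
    intro x hxk R hR hxR
    obtain ⟨j, -, hj⟩ := (Nat.dvd_prime_pow hp.out).mp (orderOf_dvd_of_pow_eq_one hxk)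
    have hpk : (x ^ p) ^ p ^ k = 1 := by rw [← pow_mul, ← pow_succ']; exact hxk
    -- invariant subgroups of prime power order
    have hprim : ∀ (N : ℕ) (S : Subgroup G), Nat.card S = N → S ≤ R → ∀ (r : ℕ) [Fact r.Prime],
        IsPGroup r S → x ∈ Subgroup.normalizer (S : Set G) → ∀ g ∈ S, Commute x g := by
      intro N
      induction N using Nat.strong_induction_on with
      | _ N ihN =>
        intro S hS hSR r hr' hSr hxS
        refine centralizes_of_minimal ρ hρ hn hex hr'.out hSr
          (fun h => hR (h.trans (Subgroup.card_dvd_of_le hSR))) hSr.isNilpotent ⟨j, hj⟩ hxS (ih (x ^ p) hpk S (fun h => hR (h.trans (Subgroup.card_dvd_of_le hSR)))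
            (pow_mem hxS p)) fun T hT hne hxT => ?_
        refine ihN _ (hS ▸ lt_of_le_of_ne (Subgroup.card_le_of_le hT) fun e =>
          hne (Subgroup.eq_of_le_of_card_ge hT e.ge)) T rfl (hT.trans hSR) r (hSr.to_le hT) hxT
    set D := R ⊓ Subgroup.centralizer ({x} : Set G) with hD
    have hDR : D = R := by
      refine Subgroup.eq_of_le_of_card_ge inf_le_left (Nat.le_of_dvd Nat.card_pos ?_)
      rw [← Nat.factorization_le_iff_dvd Nat.card_pos.ne' Nat.card_pos.ne']
      intro r
      by_cases hr : r.Prime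
      swap
      · rw [Nat.factorization_eq_zero_of_not_prime _ hr]; exact Nat.zero_le _
      haveI := Fact.mk hr
      have hco : (Nat.card (Subgroup.zpowers x)).Coprime (Nat.card R) := by
        rw [Nat.card_zpowers, hj]
        exact Nat.Coprime.pow_left j (hp.out.coprime_iff_not_dvd.mpr hR)
      obtain ⟨S, hS, hxS⟩ := Solv.exists_invariant_sylow (Subgroup.zpowers_le.mpr hxR) hco
        (Or.inl inferInstance) r
      have hSD : S ≤ D := fun g hg => ⟨hS.1 hg, Subgroup.mem_centralizer_singleton_iff.mpr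
        (hprim _ S rfl hS.1 r hS.isPGroup (hxS (Subgroup.mem_zpowers x)) g hg).symm⟩
      have h1 := Subgroup.card_dvd_of_le hSD
      rw [hS.2] at h1
      exact (hr.pow_dvd_iff_le_factorization Nat.card_pos.ne').mp h1
    intro g hg
    rw [← hDR] at hg
    exact (Subgroup.mem_centralizer_singleton_iff.mp hg.2).symm


theorem commute_pprime (hρ : Function.Injective ρ) (hn : n + 1 < p) :
    ∀ (k : ℕ) (x : G), x ^ p ^ k = 1 → ∀ R : Subgroup G, ¬ p ∣ Nat.card R →
      x ∈ Subgroup.normalizer (R : Set G) → ∀ g ∈ R, Commute x g :=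
  commute_pprime_of_not_exc ρ hρ (by omega) (not_exc ρ hn)

/-- The hypothesis of the theorem of Feit and Thompson. -/
def Hyp (p n : ℕ) (X : Type u) [Group X] : Prop :=
  (n + 1) ^ 2 ≤ p ∨ (n + 1 < p ∧
    ∀ K : Subgroup X, ¬ p ^ 2 ∣ Nat.card K → ∀ Q : Sylow p K, (Q : Subgroup K).Normal)

omit [Fintype G] hp in
theorem normal_of_equiv {A B : Type*} [Group A] [Group B] (e : A ≃* B) {Q : Subgroup A}
    (h : (Q.map e.toMonoidHom).Normal) : Q.Normal := by
  have := h.comap e.toMonoidHom
  rwa [Subgroup.comap_map_eq_self_of_injective e.injective] at this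

theorem hyp_subgroup (h : Hyp p n G) (L : Subgroup G) : Hyp p n L := by
  rcases h with h | ⟨h1, h2⟩
  · exact Or.inl h
  · refine Or.inr ⟨h1, fun K hK Q => ?_⟩
    let e : K ≃* K.map L.subtype := Subgroup.equivMapOfInjective K L.subtype L.subtype_injective
    have := h2 (K.map L.subtype) (by rwa [Subgroup.card_map_of_injective L.subtype_injective])
      (Q.mapSurjective (f := e.toMonoidHom) e.surjective)
    exact normal_of_equiv e this

/-- A normal subgroup containing `P` and having a normal Sylow subgroup makes `P` normal. -/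
theorem normal_of_le (P : Sylow p G) (L : Subgroup G) [L.Normal] (hPL : (P : Subgroup G) ≤ L)
    (hL : ∀ Q : Sylow p L, (Q : Subgroup L).Normal) : (P : Subgroup G).Normal := by
  let P' := P.subtype hPL
  haveI hPn := hL P'
  haveI : (P' : Subgroup L).Characteristic := P'.characteristic_of_normal hPn
  have := ConjAct.normal_of_characteristic_of_normal (H := L) (K := (P' : Subgroup L))
  have e0 : (P' : Subgroup L).map L.subtype = (P : Subgroup G) := by
    show ((P.subtype hPL : Sylow p L) : Subgroup L).map L.subtype = _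
    rw [Sylow.coe_subtype]
    exact Subgroup.map_subgroupOf_eq_of_le hPL
  rwa [e0] at this

theorem normal_sylow :
    ∀ (N : ℕ) (G : Type u) [Group G] [Fintype G] (ρ : Representation ℂ G (Fin n → ℂ)),
      Nat.card G = N → Function.Injective ρ → Hyp p n G →
      ∀ P : Sylow p G, (P : Subgroup G).Normal := by
  intro N
  induction N using Nat.strong_induction_on with
  | _ N ih =>
    intro G _ _ ρ hN hρ hyp P
    classical
    rcases Nat.eq_zero_or_pos n with hn0 | hn0
    · subst hn0
      have hone : ∀ g : G, g = 1 := fun g => hρ (LinearMap.ext fun v => Subsingleton.elim _ _)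
      exact ⟨fun a ha b => by rw [hone b]; simpa using ha⟩
    have hn : n + 1 < p := by
      rcases hyp with h | ⟨h, -⟩
      · have : (n + 1) * 2 ≤ (n + 1) ^ 2 := by rw [sq]; exact Nat.mul_le_mul_left _ (by omega)
        omega
      · exact h
    by_contra hnn
    have hinj : ∀ g, ρ g = 1 → g = 1 := fun g hg => hρ (hg.trans (map_one ρ).symm)
    have hPab : ∀ a ∈ (P : Subgroup G), ∀ b ∈ (P : Subgroup G), a * b = b * a := fun a ha b hb =>
      Blichfeldt.commute_of_primes ρ hinj (P : Subgroup G) (fun r hr hrd => by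
        obtain ⟨k, hk⟩ := IsPGroup.iff_card.mp P.isPGroup'
        rw [hk] at hrd
        rw [(Nat.prime_dvd_prime_iff_eq hr hp.out).mp (hr.dvd_of_dvd_pow hrd)]
        omega) ha hb
    have hprop : ∀ L : Subgroup G, L ≠ ⊤ → ∀ Q : Sylow p L, (Q : Subgroup L).Normal := by
      intro L hL Q
      haveI := Fintype.ofFinite L
      refine ih (Nat.card L) ?_ L (ρ.comp L.subtype) rfl (hρ.comp L.subtype_injective)
        (hyp_subgroup hyp L) Q
      rw [← hN]
      exact lt_of_le_of_ne (Subgroup.card_le_card_group L) fun e =>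
        hL (Subgroup.eq_top_of_card_eq L e)
    have hall : ∀ K : Subgroup G, K.Normal → (P : Subgroup G) ≤ K → K = ⊤ := fun K hK hPK => by
      by_contra hne
      haveI := hK
      exact hnn (normal_of_le P K hPK (hprop K hne))
    by_cases hperf : commutator G = ⊤
    swap
    · -- not perfect: a normal `p`-complement
      set C0 := commutator G with hC0
      haveI := hprop C0 hperf
      obtain ⟨A0⟩ : Nonempty (Sylow p C0) := inferInstance
      haveI hA0n := hprop C0 hperf A0
      haveI : (A0 : Subgroup C0).Characteristic := A0.characteristic_of_normal hA0n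
      set A := (A0 : Subgroup C0).map C0.subtype with hA
      haveI hAn : A.Normal := ConjAct.normal_of_characteristic_of_normal
      have hAP : A ≤ (P : Subgroup G) := (A0.isPGroup'.map _).le_sylow_of_normal P
      haveI : (Subgroup.centralizer (A : Set G)).Normal := Subgroup.normal_centralizer (H := A)
      have hcen := hall _ inferInstance (fun u hu =>
        Subgroup.mem_centralizer_iff.mpr fun a ha => hPab a (hAP ha) u hu :
        (P : Subgroup G) ≤ Subgroup.centralizer (A : Set G))
      have hco : (Nat.card (A0 : Subgroup C0)).Coprime (A0 : Subgroup C0).index :=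
        A0.card_coprime_index
      obtain ⟨K0, hK0⟩ := Subgroup.exists_right_complement'_of_coprime hco
      haveI hK0n : K0.Normal := by
        refine Subgroup.normalizer_eq_top_iff.mp (eq_top_iff.mpr (hK0.sup_eq_top ▸ sup_le ?_
          Subgroup.le_normalizer))
        refine fun a ha => Subgroup.centralizer_le_normalizer _ (Subgroup.mem_centralizer_iff.mpr
          fun y hy => Subtype.ext ?_)
        have hy' : ((y : C0) : G) ∈ Subgroup.centralizer (A : Set G) := by rw [hcen]; trivial
        exact (Subgroup.mem_centralizer_iff.mp hy' (a : G) ⟨a, ha, rfl⟩).symm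
      have hK0p : ¬ p ∣ Nat.card K0 := by
        rw [← hK0.symm.index_eq_card]
        exact A0.not_dvd_index
      have hK0le : K0 ≤ pPrimeCore p C0 :=
        Fusion.le_pPrimeCore ((hp.out.coprime_iff_not_dvd.mpr hK0p).symm)
      haveI : (pPrimeCore p C0).Characteristic := Fusion.pPrimeCore_characteristic
      set K := (pPrimeCore p C0).map C0.subtype with hK
      haveI hKn : K.Normal := ConjAct.normal_of_characteristic_of_normal
      have hKp : ¬ p ∣ Nat.card K := by
        rw [hK, Subgroup.card_map_of_injective C0.subtype_injective]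
        exact hp.out.coprime_iff_not_dvd.mp (Fusion.card_pPrimeCore_coprime p C0).symm
      have htop : C0 ⊔ (P : Subgroup G) = ⊤ := by
        haveI : (C0 ⊔ (P : Subgroup G)).Normal := Subgroup.Normal.of_commutator_le _ le_sup_left
        exact hall _ inferInstance le_sup_right
      have hle : C0 ≤ K ⊔ (P : Subgroup G) := by
        have h1 : (⊤ : Subgroup C0).map C0.subtype ≤ K ⊔ (P : Subgroup G) := by
          rw [← hK0.sup_eq_top, Subgroup.map_sup]
          exact sup_le (hAP.trans le_sup_right) ((Subgroup.map_mono hK0le).trans le_sup_left)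
        rwa [← MonoidHom.range_eq_map, Subgroup.range_subtype] at h1
      refine hnn (Subgroup.normalizer_eq_top_iff.mp (eq_top_iff.mpr (htop ▸ sup_le
        (hle.trans (sup_le ?_ Subgroup.le_normalizer)) Subgroup.le_normalizer)))
      refine fun g hg => Subgroup.centralizer_le_normalizer _ (Subgroup.mem_centralizer_iff.mpr
        fun u hu => ?_)
      obtain ⟨k, hk⟩ := P.isPGroup' ⟨u, hu⟩
      exact (commute_pprime ρ hρ hn k u (by simpa using congrArg Subtype.val hk) K hKp
        (by rw [Subgroup.normalizer_eq_top]; trivial) g hg).eq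
    -- perfect
    haveI := Fintype.ofFinite (P : Subgroup G)
    obtain ⟨m, hm⟩ := exists_decomposition (isCharacter_character ρ)
    have hdn : ∀ φ : IrrCharacter G, m φ ≠ 0 → deg (φ : G → ℂ) ≤ n := fun φ hφ =>
      deg_le m hm (d := n) (char_one_nat ρ) hφ
    have hval : ∀ x : G, (∀ φ : IrrCharacter G, m φ ≠ 0 → (φ : G → ℂ) x = (φ : G → ℂ) 1) → x = 1 := by
      intro x hx
      refine eq_one_of_char ρ hρ ?_
      have e1 := congrFun hm x
      have e2 := congrFun hm 1
      simp only [Finset.sum_apply, Pi.smul_apply] at e1 e2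
      rw [e1, ← char_one_nat ρ, e2]
      refine Finset.sum_congr rfl fun φ _ => ?_
      by_cases h0 : m φ = 0
      · rw [h0, zero_smul, zero_smul]
      · rw [hx φ h0]
    have hPZ : (P : Subgroup G) ⊓ Subgroup.center G = ⊥ := by
      rw [eq_bot_iff]
      rintro z ⟨hzP, hzZ⟩
      rw [Subgroup.mem_bot]
      refine hval z fun φ hφ => ?_
      have hdn' := hdn φ hφ
      obtain ⟨d, σ, hσ, e⟩ := id φ.2
      haveI := hσ
      obtain ⟨c, hc⟩ := schur_scalar σ (σ z) (fun k => by
        change σ z * σ k = σ k * σ z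
        rw [← map_mul, ← map_mul, Subgroup.mem_center_iff.mp hzZ k])
      have hd : deg (φ : G → ℂ) = d := Nat.cast_injective (R := ℂ) (by
        rw [← char_one_eq_deg (irr_isCharacter φ.2), ← e, Representation.char_one,
          Module.finrank_fin_fun])
      have hd0 : 0 < d := by
        rw [← hd]
        exact Nat.pos_of_ne_zero fun h0 => irr_one_ne_zero φ.2 (by
          rw [char_one_eq_deg (irr_isCharacter φ.2), h0, Nat.cast_zero])
      have hdet : ∀ g : G, LinearMap.det (σ g) = 1 := by
        let δ : G →* ℂ := (LinearMap.det (M := Fin d → ℂ) (A := ℂ)).comp σ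
        have hker : commutator G ≤ δ.toHomUnits.ker := by
          rw [commutator_def, Subgroup.commutator_le]
          intro a _ b _
          rw [MonoidHom.mem_ker, map_commutatorElement, commutatorElement_eq_one_iff_mul_comm]
          exact mul_comm _ _
        intro g
        have h1 : δ.toHomUnits g = 1 := hker (hperf ▸ Subgroup.mem_top g)
        exact congrArg Units.val h1
      have hcd : c ^ d = 1 := by
        have := hdet z
        rwa [hc, LinearMap.det_smul, LinearMap.det_id, mul_one, Module.finrank_fin_fun] at this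
      obtain ⟨k, hk⟩ := P.isPGroup' ⟨z, hzP⟩
      have hzk : z ^ p ^ k = 1 := by simpa using congrArg Subtype.val hk
      have hck : c ^ p ^ k = 1 := by
        have h1 := congrArg σ hzk
        rw [map_pow, map_one, hc, ← Module.End.one_eq_id, smul_pow, one_pow] at h1
        haveI : Nonempty (Fin d) := ⟨⟨0, hd0⟩⟩
        have h2 := LinearMap.congr_fun h1 (fun _ => (1 : ℂ))
        simpa using congrFun h2 ⟨0, hd0⟩
      have hc1 : c = 1 := by
        refine orderOf_eq_one_iff.mp (Nat.eq_one_of_dvd_coprimes (Nat.Coprime.pow_left k ?_)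
          (orderOf_dvd_of_pow_eq_one hck) (orderOf_dvd_of_pow_eq_one hcd))
        refine hp.out.coprime_iff_not_dvd.mpr fun h => ?_
        have := Nat.le_of_dvd hd0 h
        omega
      rw [← e]
      show LinearMap.trace ℂ _ (σ z) = LinearMap.trace ℂ _ (σ 1)
      rw [hc, hc1, one_smul, show σ 1 = 1 from map_one σ, Module.End.one_eq_id]
    have hPne : (P : Subgroup G) ≠ ⊥ := fun h => hnn (by rw [h]; infer_instance)
    have hproper : ∀ g : G, g ∉ Subgroup.center G → Subgroup.centralizer ({g} : Set G) ≠ ⊤ := by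
      intro g hg e
      refine hg (Subgroup.mem_center_iff.mpr fun y => ?_)
      exact Subgroup.mem_centralizer_singleton_iff.mp (e ▸ Subgroup.mem_top y)
    have huniq : ∀ L : Subgroup G, L ≠ ⊤ → ∀ (S : Sylow p G) (y : G),
        (S : Subgroup G) ≤ L → y ∈ L → (∃ k, y ^ p ^ k = 1) → y ∈ (S : Subgroup G) := by
      intro L hL S y hS hy hyk
      obtain ⟨k, hk⟩ := hyk
      have hpg : IsPGroup p (Subgroup.zpowers (⟨y, hy⟩ : L)) := by
        obtain ⟨i, -, hi⟩ := (Nat.dvd_prime_pow hp.out).mp
          (orderOf_dvd_of_pow_eq_one (Subtype.ext hk : (⟨y, hy⟩ : L) ^ p ^ k = 1))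
        exact IsPGroup.of_card (n := i) (by rw [Nat.card_zpowers, hi])
      obtain ⟨R, hR⟩ := hpg.exists_le_sylow
      haveI := hprop L hL (S.subtype hS)
      haveI := Sylow.unique_of_normal (S.subtype hS) ‹_›
      have h1 := hR (Subgroup.mem_zpowers _)
      rw [Subsingleton.elim R (S.subtype hS), Sylow.coe_subtype] at h1
      exact h1
    have hone : ∀ g : G, g ∉ Subgroup.center G → ∀ a b : G,
        Subgroup.centralizer ({g} : Set G) ⊓ (P : Subgroup G).map (MulAut.conj a).toMonoidHom ≠ ⊥ →
        Subgroup.centralizer ({g} : Set G) ⊓ (P : Subgroup G).map (MulAut.conj b).toMonoidHom ≠ ⊥ →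
        (P : Subgroup G).map (MulAut.conj a).toMonoidHom =
          (P : Subgroup G).map (MulAut.conj b).toMonoidHom := by
      intro g hg a b ha hb
      set Pa : Sylow p G := P.mapSurjective (f := (MulAut.conj a).toMonoidHom) (MulAut.conj a).surjective
      set Pb : Sylow p G := P.mapSurjective (f := (MulAut.conj b).toMonoidHom) (MulAut.conj b).surjective
      show (Pa : Subgroup G) = (Pb : Subgroup G)
      obtain ⟨x, hx, hx1⟩ := (Subgroup.bot_or_exists_ne_one
        (Subgroup.centralizer ({g} : Set G) ⊓ (Pa : Subgroup G))).resolve_left ha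
      obtain ⟨y, hy, hy1⟩ := (Subgroup.bot_or_exists_ne_one
        (Subgroup.centralizer ({g} : Set G) ⊓ (Pb : Subgroup G))).resolve_left hb
      have hab : ∀ (c : G), ∀ u ∈ (P : Subgroup G).map (MulAut.conj c).toMonoidHom,
          ∀ v ∈ (P : Subgroup G).map (MulAut.conj c).toMonoidHom, u * v = v * u := by
        rintro c _ ⟨u, hu, rfl⟩ _ ⟨v, hv, rfl⟩
        rw [← map_mul, ← map_mul, hPab u hu v hv]
      have hnc : ∀ (c : G) (u : G), u ∈ (P : Subgroup G).map (MulAut.conj c).toMonoidHom → u ≠ 1 →
          u ∉ Subgroup.center G := by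
        rintro c _ ⟨v, hv, rfl⟩ h1 hz
        refine h1 ?_
        have hvz : v ∈ Subgroup.center G := by
          have := (inferInstance : (Subgroup.center G).Normal).conj_mem _ hz c⁻¹
          simpa [mul_assoc] using this
        have hm' : v ∈ (P : Subgroup G) ⊓ Subgroup.center G := ⟨hv, hvz⟩
        rw [hPZ, Subgroup.mem_bot] at hm'
        rw [hm', map_one]
      -- commuting `x` and `y`
      have hLg := hproper g hg
      have hxy : x * y = y * x := by
        obtain ⟨S0⟩ : Nonempty (Sylow p (Subgroup.centralizer ({g} : Set G))) := inferInstance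
        obtain ⟨S, hS⟩ := (S0.isPGroup'.map (Subgroup.centralizer ({g} : Set G)).subtype).exists_le_sylow
        haveI := hprop _ hLg S0
        haveI := Sylow.unique_of_normal S0 ‹_›
        have hin : ∀ (w : G) (c : G), w ∈ Subgroup.centralizer ({g} : Set G) →
            w ∈ (P : Subgroup G).map (MulAut.conj c).toMonoidHom → w ∈ (S : Subgroup G) := by
          intro w c hw hwc
          obtain ⟨k, hk⟩ := (P.isPGroup'.map (MulAut.conj c).toMonoidHom) ⟨w, hwc⟩
          have hpg : IsPGroup p (Subgroup.zpowers (⟨w, hw⟩ : Subgroup.centralizer ({g} : Set G))) := by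
            obtain ⟨i, -, hi⟩ := (Nat.dvd_prime_pow hp.out).mp (orderOf_dvd_of_pow_eq_one
              (Subtype.ext (show w ^ p ^ k = 1 from congrArg Subtype.val hk) :
                (⟨w, hw⟩ : Subgroup.centralizer ({g} : Set G)) ^ p ^ k = 1))
            exact IsPGroup.of_card (n := i) (by rw [Nat.card_zpowers, hi])
          obtain ⟨R, hR⟩ := hpg.exists_le_sylow
          have h1 := hR (Subgroup.mem_zpowers _)
          rw [Subsingleton.elim R S0] at h1
          exact hS ⟨_, h1, rfl⟩
        have hxS := hin x a hx.1 hx.2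
        have hyS := hin y b hy.1 hy.2
        obtain ⟨c, hc⟩ := MulAction.exists_smul_eq G P S
        have hcm : (S : Subgroup G) = (P : Subgroup G).map (MulAut.conj c).toMonoidHom := by
          rw [← hc]; rfl
        exact hab c x (hcm ▸ hxS) y (hcm ▸ hyS)
      -- `x` lies in both
      have hxb : x ∈ (Pb : Subgroup G) := by
        refine huniq _ (hproper y (hnc b y hy.2 hy1)) Pb x (fun v hv => ?_) ?_ ?_
        · exact Subgroup.mem_centralizer_singleton_iff.mpr (hab b v hv y hy.2)
        · exact Subgroup.mem_centralizer_singleton_iff.mpr hxy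
        · obtain ⟨k, hk⟩ := Pa.isPGroup' ⟨x, hx.2⟩
          exact ⟨k, by simpa using congrArg Subtype.val hk⟩
      have hLx := hproper x (hnc a x hx.2 hx1)
      apply le_antisymm
      · intro v hv
        refine huniq _ hLx Pb v (fun w hw => Subgroup.mem_centralizer_singleton_iff.mpr
          (hab b w hw x hxb)) (Subgroup.mem_centralizer_singleton_iff.mpr (hab a v hv x hx.2)) ?_
        obtain ⟨k, hk⟩ := Pa.isPGroup' ⟨v, hv⟩
        exact ⟨k, by simpa using congrArg Subtype.val hk⟩
      · intro v hv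
        refine huniq _ hLx Pa v (fun w hw => Subgroup.mem_centralizer_singleton_iff.mpr
          (hab a w hw x hx.2)) (Subgroup.mem_centralizer_singleton_iff.mpr (hab b v hv x hxb)) ?_
        obtain ⟨k, hk⟩ := Pb.isPGroup' ⟨v, hv⟩
        exact ⟨k, by simpa using congrArg Subtype.val hk⟩
    -- a constituent which is nontrivial on `P`
    obtain ⟨x, hxP, hx1⟩ := (Subgroup.bot_or_exists_ne_one _).resolve_left hPne
    obtain ⟨φ, hφ, hφx⟩ : ∃ φ : IrrCharacter G, m φ ≠ 0 ∧ (φ : G → ℂ) x ≠ (φ : G → ℂ) 1 := by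
      by_contra hno
      push Not at hno
      exact hx1 (hval x hno)
    have hd2 : 2 ≤ deg (φ : G → ℂ) := by
      by_contra hlt
      have hd0 : deg (φ : G → ℂ) ≠ 0 := fun h0 => irr_one_ne_zero φ.2 (by
        rw [char_one_eq_deg (irr_isCharacter φ.2), h0, Nat.cast_zero])
      have h1 : (φ : G → ℂ) 1 = 1 := by
        rw [char_one_eq_deg (irr_isCharacter φ.2), show deg (φ : G → ℂ) = 1 by omega, Nat.cast_one]
      obtain ⟨l, hl⟩ := exists_hom_of_degree_one (irr_isCharacter φ.2) h1
      have hker : commutator G ≤ l.ker := by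
        rw [commutator_def, Subgroup.commutator_le]
        intro a _ b _
        rw [MonoidHom.mem_ker, map_commutatorElement, commutatorElement_eq_one_iff_mul_comm]
        exact mul_comm _ _
      refine hφx ?_
      rw [hl]
      show ((l x : ℂˣ) : ℂ) = ((l 1 : ℂˣ) : ℂ)
      rw [show l x = 1 from hker (hperf ▸ Subgroup.mem_top x), map_one]
    have hb := AbTI.succ_sq_deg_gt (P : Subgroup G) hPab hPZ hone φ hd2 hall
    have hdle := hdn φ hφ
    have hlt : Nat.card (P : Subgroup G) < (n + 1) ^ 2 := by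
      refine lt_of_lt_of_le ?_ (Nat.pow_le_pow_left (show 1 + deg (φ : G → ℂ) ≤ n + 1 by omega) 2)
      exact_mod_cast hb
    obtain ⟨k, hk⟩ := IsPGroup.iff_card.mp P.isPGroup'
    have hk0 : k ≠ 0 := by
      rintro rfl
      exact hPne (Subgroup.card_eq_one.mp (by simpa using hk))
    rcases hyp with h | ⟨-, h⟩
    · have := Nat.le_of_dvd (pow_pos hp.out.pos k) (dvd_pow_self p hk0)
      omega
    · by_cases hp2 : p ^ 2 ∣ Nat.card G
      · have hk2 : 2 ≤ k := by
          have h1 := (hp.out.pow_dvd_iff_le_factorization Nat.card_pos.ne').mp hp2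
          have h2 : p ^ k = p ^ (Nat.card G).factorization p := hk.symm.trans P.card_eq_multiplicity
          rwa [← Nat.pow_right_injective hp.out.two_le h2] at h1
        have h1 : p ^ 2 ≤ p ^ k := Nat.pow_le_pow_right hp.out.pos hk2
        have h3 : (n + 1) ^ 2 ≤ p ^ 2 := Nat.pow_le_pow_left hn.le 2
        omega
      · let e : G ≃* (⊤ : Subgroup G) := Subgroup.topEquiv.symm
        exact hnn (normal_of_equiv e (h ⊤ (by rwa [Subgroup.card_top])
          (P.mapSurjective (f := e.toMonoidHom) e.surjective)))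

end Cfsg.Agent.Char.SmallSylow
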