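import Cfsg.Agent.Lib.Char.SmallDegreeBound
import Cfsg.Agent.Lib.Char.SmallDegreeSylow

/-!
# Faithful degree below `(p - 1) / 2` and `p` dividing the order once

The Sylow `p`-subgroup is normal (Brauer).
-/

set_option autoImplicit false
set_option linter.unusedSectionVars false
set_option linter.style.haveILetI false

open Cfsg
open scoped ComplexConjugate Classical

namespace Cfsg.Agent.Char.SmallBound

universe u

variable {p : ℕ} [hp : Fact p.Prime] {n : ℕ}

theorem normal_sylow_first_power (hn : 2 * n + 1 < p) :
    ∀ (N : ℕ) (G : Type u) [Group G] [Fintype G] (ρ : Representation ℂ G (Fin n → ℂ)),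
      Nat.card G = N → Function.Injective ρ → ¬ p ^ 2 ∣ Nat.card G →
      ∀ P : Sylow p G, (P : Subgroup G).Normal := by
  intro N
  induction N using Nat.strong_induction_on with
  | _ N ih =>
    intro G _ _ ρ hN hρ hsq P
    by_cases hdiv : p ∣ Nat.card G
    swap
    · have h1 : Nat.card P = 1 := by
        rw [P.card_eq_multiplicity, Nat.factorization_eq_zero_of_not_dvd hdiv, pow_zero]
      rw [Subgroup.card_eq_one.mp h1]
      infer_instance
    by_contra hnn
    have hn1 : n + 1 < p := by omega
    have hfac : (Nat.card G).factorization p = 1 := by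
      have h1 := (hp.out.dvd_iff_one_le_factorization Nat.card_pos.ne').mp hdiv
      have h2 : ¬ 2 ≤ (Nat.card G).factorization p := fun h =>
        hsq ((hp.out.pow_dvd_iff_le_factorization Nat.card_pos.ne').mpr h)
      omega
    have hP : Nat.card P = p := by rw [P.card_eq_multiplicity, hfac, pow_one]
    have hpow : ∀ u ∈ (P : Subgroup G), u ^ p ^ 1 = 1 := fun u hu => by
      have h := pow_card_eq_one' (x := (⟨u, hu⟩ : (P : Subgroup G)))
      rw [hP] at h
      rw [pow_one]
      exact congrArg Subtype.val h
    have hprop : ∀ L : Subgroup G, L ≠ ⊤ → ∀ Q : Sylow p L, (Q : Subgroup L).Normal := by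
      intro L hL Q
      haveI := Fintype.ofFinite L
      refine ih (Nat.card L) ?_ L (ρ.comp L.subtype) rfl (hρ.comp L.subtype_injective)
        (fun h => hsq (h.trans (Subgroup.card_subgroup_dvd_card L))) Q
      rw [← hN]
      exact lt_of_le_of_ne (Subgroup.card_le_card_group L) fun e => hL (Subgroup.eq_top_of_card_eq L e)
    have hall : ∀ K : Subgroup G, K.Normal → (P : Subgroup G) ≤ K → K = ⊤ := fun K hK hPK => by
      by_contra hne
      haveI := hK
      exact hnn (SmallSylow.normal_of_le P K hPK (hprop K hne))
    -- normal subgroups of order prime to `p` are centralized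
    have hpprime : ∀ K : Subgroup G, K.Normal → ¬ p ∣ Nat.card K → K ≤ Subgroup.center G := by
      intro K hK hKp
      haveI := hK
      have hPK : (P : Subgroup G) ≤ Subgroup.centralizer (K : Set G) := fun u hu =>
        Subgroup.mem_centralizer_iff.mpr fun g hg =>
          (SmallSylow.commute_pprime ρ hρ hn1 1 u (hpow u hu) K hKp
            (by rw [Subgroup.normalizer_eq_top]; trivial) g hg).eq.symm
      have hC := hall _ (Subgroup.normal_centralizer (H := K)) hPK
      intro g hg
      exact Subgroup.mem_center_iff.mpr fun y =>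
        (Subgroup.mem_centralizer_iff.mp (hC ▸ Subgroup.mem_top y) g hg).symm
    -- normal subgroups of order divisible by `p` are everything
    have hpdvd : ∀ K : Subgroup G, K.Normal → p ∣ Nat.card K → K = ⊤ := by
      intro K hK hKp
      refine hall K hK ?_
      obtain ⟨x, hx⟩ := exists_prime_orderOf_dvd_card' p hKp
      have hxo : orderOf (x : G) = p := by rw [Subgroup.orderOf_coe, hx]
      obtain ⟨Q, hQ⟩ := (IsPGroup.of_card (n := 1) (by rw [Nat.card_zpowers, hxo, pow_one]) :
        IsPGroup p (Subgroup.zpowers (x : G))).exists_le_sylow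
      obtain ⟨c, hc⟩ := MulAction.exists_smul_eq G Q P
      have hmem : c * (x : G) * c⁻¹ ∈ (P : Subgroup G) := by
        rw [← hc, Sylow.coe_subgroup_smul]
        exact ⟨(x : G), hQ (Subgroup.mem_zpowers _), rfl⟩
      have hne : c * (x : G) * c⁻¹ ≠ 1 := fun h => by
        rw [conj_eq_one_iff] at h
        rw [h, orderOf_one] at hxo
        exact hp.out.ne_one hxo.symm
      rw [← eq_zpowers_of_prime_sylow hP hmem hne, Subgroup.zpowers_le]
      exact hK.conj_mem _ x.2 c
    by_cases hperf : commutator G = ⊤
    swap
    · -- the derived subgroup is central, so `P` is normal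
      haveI : (commutator G).Normal := inferInstance
      have hCp : ¬ p ∣ Nat.card (commutator G) := fun h => hperf (hpdvd _ inferInstance h)
      have hcenter := hpprime _ inferInstance hCp
      have hA : (commutator G ⊔ (P : Subgroup G)) = ⊤ := by
        haveI : (commutator G ⊔ (P : Subgroup G)).Normal := Subgroup.Normal.of_commutator_le _ le_sup_left
        exact hall _ inferInstance le_sup_right
      refine hnn (Subgroup.normalizer_eq_top_iff.mp (eq_top_iff.mpr (hA ▸ sup_le
        (hcenter.trans ((Subgroup.center_le_centralizer _).trans (Subgroup.centralizer_le_normalizer _)))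
        Subgroup.le_normalizer)))
    have hlin : ∀ χ : IrrCharacter G, deg (χ : G → ℂ) = 1 → χ = triv G := by
      intro χ hχ
      obtain ⟨l, hl⟩ := exists_hom_of_degree_one (irr_isCharacter χ.2)
        (by rw [char_one_eq_deg (irr_isCharacter χ.2), hχ, Nat.cast_one])
      have hker : commutator G ≤ l.ker := Abelianization.commutator_subset_ker l
      refine Subtype.ext (funext fun g => ?_)
      rw [hl]
      show ((l g : ℂˣ) : ℂ) = 1
      rw [show l g = 1 from hker (hperf ▸ Subgroup.mem_top g), Units.val_one]
    have hcen : ∀ K : Subgroup G, K.Normal → K ≠ ⊤ → K ≤ Subgroup.center G := fun K hK hne =>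
      hpprime K hK fun h => hne (hpdvd K hK h)
    -- the inertial index
    set q := (Subgroup.centralizer ((P : Subgroup G) : Set G)).relIndex
      (Subgroup.normalizer ((P : Subgroup G) : Set G)) with hqdef
    have hq : FrobSylow P q := frobSylow_of_prime hP
    have hq0 : q ≠ 0 := Subgroup.index_ne_zero_of_finite
    have hq2 : 2 ≤ q := by
      by_contra hlt
      have hq1 : q = 1 := by omega
      have hNC : Subgroup.normalizer ((P : Subgroup G) : Set G) ≤ Subgroup.centralizer ((P : Subgroup G) : Set G) :=
        Subgroup.relIndex_eq_one.mp hq1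
      have hnp := Fusion.hnpc_of_normalizer_le_centralizer P hNC
      have hcop := Fusion.hnpc_iff.1 hnp
      have hV : pResidual p G ≤ Subgroup.center G :=
        hpprime _ inferInstance (Fusion.coprime_card_iff_not_dvd.1 hcop)
      have hsup := (Fusion.isComplement'_of_coprime_card P hcop).sup_eq_top
      exact hnn (Subgroup.normalizer_eq_top_iff.mp (eq_top_iff.mpr (hsup ▸ sup_le
        (hV.trans ((Subgroup.center_le_centralizer _).trans (Subgroup.centralizer_le_normalizer _)))
        Subgroup.le_normalizer)))
    -- a constituent which is nontrivial on `P`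
    obtain ⟨y0, hy0⟩ := exists_nonOne hP
    obtain ⟨m, hm⟩ := exists_decomposition (isCharacter_character ρ)
    obtain ⟨φ, hφ, hφy⟩ : ∃ φ : IrrCharacter G, m φ ≠ 0 ∧ (φ : G → ℂ) (y0 : G) ≠ (φ : G → ℂ) 1 := by
      by_contra hno
      push Not at hno
      refine hy0 (SmallSylow.eq_one_of_char ρ hρ ?_)
      have e1 := congrFun hm (y0 : G)
      have e2 := congrFun hm 1
      simp only [Finset.sum_apply, Pi.smul_apply] at e1 e2
      rw [e1, ← SmallSylow.char_one_nat ρ, e2]
      refine Finset.sum_congr rfl fun φ _ => ?_
      by_cases h0 : m φ = 0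
      · rw [h0, zero_smul, zero_smul]
      · rw [hno φ h0]
    have hdn : deg (φ : G → ℂ) ≤ n := SmallSylow.deg_le m hm (d := n) (SmallSylow.char_one_nat ρ) hφ
    have hd : 2 * deg (φ : G → ℂ) + 1 < p := by omega
    -- the local analysis
    let S : PConj.Setup G p :=
      { a := (Nat.card G).factorization p
        m := Nat.card G / p ^ (Nat.card G).factorization p
        cop := (hp.out.coprime_iff_not_dvd.2 (Nat.not_dvd_ordCompl hp.out Nat.card_pos.ne')).pow_left _
        card := (Nat.ordProj_mul_ordCompl_eq_self _ _).symm
        ndvd := Nat.not_dvd_ordCompl hp.out Nat.card_pos.ne' }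
    haveI := hq.finite_dual.1
    haveI : Fintype (↥(P : Subgroup G) →* ℂˣ) := Fintype.ofFinite _
    obtain ⟨V, hL⟩ := exists_loc hP
    haveI := Fintype.ofFinite V
    obtain ⟨l₀, hl₀, hsupp, hsum⟩ := support hL S hdiv hsq hq φ hd hφy
    have hqd := inertia_le hL hq φ hl₀ hsupp
    obtain ⟨φ', hne, hreg, hzero⟩ := exists_partner hL S hq φ hqd hd hl₀ hsupp
    exact no_partner hL hq hq2 hcen hlin φ φ' hne hreg hzero hd hqd fun hV => central_case hL φ hV hsum

end Cfsg.Agent.Char.SmallBound
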