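import Cfsg.Agent.Lib.Char.GreenCore
import Cfsg.Agent.Lib.Char.DefectLocal
import Cfsg.Agent.Lib.Char.Osima

/-!
# Green: a defect group as an intersection of two Sylow subgroups
-/

set_option autoImplicit false

namespace Cfsg.Agent.Char

open Cfsg Module
open scoped ComplexConjugate

universe u

variable {G : Type u} [Group G] [Fintype G] {M : Ideal AlgInt} {p : ℕ}
  {B : Set (IrrCharacter G)}

theorem blockCoeff_eq_zero_of_singular (hM : IsPModular p M) (hB : IsPBlock M B) {x : G}
    (hx : p ∣ orderOf x) : blockCoeff B x = 0 := by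
  rw [blockCoeff, weak_orthogonality hM hB (by simp [hM.1.ne_one]) hx, mul_zero]

/-- A `p`-group centralizing an element of the support of the idempotent is no larger than the
defect group. -/
theorem card_le_of_detect (hM : IsPModular p M) (hB : IsPBlock M B) {D : Subgroup G}
    (hD : IsDefectGroup p M B D) {Q : Subgroup G} (hQ : IsPGroup p Q) {x : G}
    (hx : x ∈ Subgroup.centralizer (Q : Set G)) (hbx : ¬ MemLocalIdeal M (blockCoeff B x)) :
    Nat.card Q ≤ Nat.card D := by
  obtain ⟨g, hg, hDg⟩ := (isDefectGroup_iff B D).mp hD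
  obtain ⟨t, ht⟩ := le_defect_of_detect hM hB hg hDg hQ hx hbx
  have h := Subgroup.card_le_of_le ht
  rwa [Subgroup.card_map_of_injective (MulEquiv.injective _)] at h

/-- An element of the support of the idempotent centralizing the defect group has it as a Sylow
subgroup of its centralizer. -/
theorem isSylCent_of_detect (hM : IsPModular p M) (hB : IsPBlock M B) {D : Subgroup G}
    (hD : IsDefectGroup p M B D) {x : G} (hx : x ∈ Subgroup.centralizer (D : Set G))
    (hbx : ¬ MemLocalIdeal M (blockCoeff B x)) : IsSylCent p x D := by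
  have := Fact.mk hM.1
  obtain ⟨g, -, hDg⟩ := (isDefectGroup_iff B D).mp hD
  have hle : D ≤ Subgroup.centralizer ({x} : Set G) := fun d hd =>
    Subgroup.mem_centralizer_singleton_iff.mpr (hx d hd)
  obtain ⟨R, hR⟩ := (hDg.isPGroup.of_equiv (Subgroup.subgroupOfEquivOfLe hle).symm).exists_le_sylow
  refine ⟨R, ?_⟩
  have hDR : D ≤ (R : Subgroup (Subgroup.centralizer ({x} : Set G))).map
      (Subgroup.centralizer ({x} : Set G)).subtype := fun d hd =>
    ⟨⟨d, hle hd⟩, hR (Subgroup.mem_subgroupOf.mpr hd), rfl⟩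
  refine Subgroup.eq_of_le_of_card_ge hDR (card_le_of_detect hM hB hD (R.isPGroup'.map _) ?_ hbx)
  rintro _ ⟨r, -, rfl⟩
  exact Subgroup.mem_centralizer_singleton_iff.mp r.2

theorem orderOf_eq_one_of_regular_mul (hp : p.Prime) {y z : G} (hy : ¬ p ∣ orderOf y)
    (hc : Commute y z) (hz : ∃ k, orderOf z = p ^ k) (hyz : ¬ p ∣ orderOf (y * z)) : z = 1 := by
  obtain ⟨k, hk⟩ := hz
  have h1 : orderOf (y⁻¹ * (y * z)) ∣ Nat.lcm (orderOf y⁻¹) (orderOf (y * z)) :=
    Commute.orderOf_mul_dvd_lcm ((Commute.refl y).inv_left.mul_right hc.inv_left)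
  rw [inv_mul_cancel_left, orderOf_inv, hk] at h1
  cases k with
  | zero => exact orderOf_eq_one_iff.mp (by simpa using hk)
  | succ k =>
    have h2 : p ∣ orderOf y * orderOf (y * z) :=
      ((dvd_pow_self p k.succ_ne_zero).trans h1).trans (Nat.lcm_dvd_mul _ _)
    exact absurd ((hp.dvd_mul.mp h2).resolve_left hy) hyz

open scoped Classical in
/-- A coset sum of the idempotent over the centralizer of a defect group in a `p`-subgroup is a
unit. -/
theorem exists_centralizer_coset_sum (hM : IsPModular p M) (hB : IsPBlock M B) {D : Subgroup G}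
    (hD : IsDefectGroup p M B D) {P : Subgroup G} (hP : IsPGroup p P) (hDP : D ≤ P) :
    ∃ x ∈ Subgroup.centralizer (D : Set G), ¬ MemLocalIdeal M
      (∑ u : G with u ∈ P ⊓ Subgroup.centralizer (D : Set G), blockCoeff B (x * u)) := by
  have hMp := pmod_prime hM
  have := Fact.mk hM.1
  obtain ⟨g, hg, hDg⟩ := (isDefectGroup_iff B D).mp hD
  haveI := charP_res hMp hM
  set C := Subgroup.centralizer (D : Set G) with hC
  by_contra hne
  push Not at hne
  have hbI := isIntClassFun_blockCoeff hM hB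
  set F : C → Res hMp := fun y => red hMp (brRes D C (blockCoeff B) y) with hF
  set e : MonoidAlgebra (Res hMp) C := ∑ y : C, MonoidAlgebra.single y (F y) with he
  have hec : ∀ y, e.coeff y = F y := fun y => by
    simp [he, MonoidAlgebra.coeff_sum, Finsupp.single_apply]
  have hCN : C ≤ Subgroup.normalizer (D : Set G) := Subgroup.centralizer_le_normalizer _
  have hfI := intClassFun_brRes hMp hCN hbI
  have hee : e * e = e := by
    ext x
    rw [hec]
    have hstep : e * e = ∑ y : C, MonoidAlgebra.single y (F y) * e :=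
      (congrArg (· * e) he).trans (Finset.sum_mul _ _ _)
    rw [hstep]
    clear_value e
    simp only [MonoidAlgebra.coeff_sum, Finsupp.coe_finsetSum, Finset.sum_apply,
      MonoidAlgebra.coeff_single_mul_apply, hec, hF]
    rw [Finset.sum_congr rfl fun y _ => (red_mul hMp (hfI.2 y) (hfI.2 (y⁻¹ * x))).symm,
      ← red_sum hMp _ _ fun y _ => memLR_mul hMp (hfI.2 _) (hfI.2 _)]
    have h := brRes_conv hM hDg.isPGroup (le_refl C) hbI hbI x
    rw [conv_blockCoeff] at h
    exact (red_eq_iff hMp (memLR_sum hMp _ _ fun y _ => memLR_mul hMp (hfI.2 _) (hfI.2 _))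
      (hfI.2 x)).mpr (memLI_symm hMp h)
  have hval : ∀ y : C, brRes D C (blockCoeff B) y = blockCoeff B y := fun y => if_pos y.2
  have hsum : ∀ (T : Subgroup C) (x : C),
      (e * ∑ u : C with u ∈ T, MonoidAlgebra.single u (1 : Res hMp)).coeff x =
        red hMp (∑ u : C with u ∈ T, blockCoeff B ((x : G) * (u : G)⁻¹)) := by
    intro T x
    rw [red_sum hMp _ _ (fun u _ => hbI.2 _), Finset.mul_sum]
    simp only [MonoidAlgebra.coeff_sum, Finsupp.coe_finsetSum, Finset.sum_apply,
      MonoidAlgebra.coeff_mul_single_apply, mul_one, hec, hF, hval, Subgroup.coe_mul,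
      InvMemClass.coe_inv]
  have h0 := mul_sum_ne_zero_of_free_support (D.subgroupOf C) (P.subgroupOf C)
    (fun z hz => hDP hz) (hP.comap_of_injective C.subtype C.subtype_injective)
    (fun z hz c => Subtype.ext (c.2 z.1 hz)) e hee
    (fun a y => by simp only [hec, hF, hfI.1 y a]) ?_ ?_
  · have hgC : g ∈ C := hDg.self_mem_centralizer
    have h1 : (e * ∑ u : C with u ∈ D.subgroupOf C, MonoidAlgebra.single u (1 : Res hMp)).coeff
        ⟨g, hgC⟩ = 0 := by rw [h0]; rfl
    rw [hsum, Finset.sum_eq_single (1 : C), red_eq_zero_iff hMp (hbI.2 _)] at h1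
    · simp at h1
      exact hg.2.1 h1
    · intro z hz hz1
      refine blockCoeff_eq_zero_of_singular hM hB (not_not.mp fun hr => hz1 (Subtype.ext ?_))
      have hzD : (z : G) ∈ D := (Finset.mem_filter.mp hz).2
      refine inv_eq_one.mp (orderOf_eq_one_of_regular_mul hM.1 (defectClass_regular hM hB hg)
        (Commute.inv_right (hgC z hzD).symm) ?_ hr)
      obtain ⟨k, hk⟩ := IsPGroup.iff_orderOf.mp hDg.isPGroup ⟨z, hzD⟩
      exact ⟨k, by rw [orderOf_inv]; rwa [Subgroup.orderOf_mk] at hk⟩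
    · simp
  · intro y hy u hu huy
    have hyu : ¬ MemLocalIdeal M (blockCoeff B (y : G)) := fun h => hy (by
      rw [hec, hF]
      exact (red_eq_zero_iff hMp (hfI.2 y)).mpr (by rw [hval]; exact h))
    have hQP : D ⊔ Subgroup.zpowers (u : G) ≤ P := sup_le hDP (Subgroup.zpowers_le.mpr hu)
    have hyQ : (y : G) ∈ Subgroup.centralizer ((D ⊔ Subgroup.zpowers (u : G) : Subgroup G) : Set G) := by
      have : D ⊔ Subgroup.zpowers (u : G) ≤ Subgroup.centralizer ({(y : G)} : Set G) :=
        sup_le (fun d hd => Subgroup.mem_centralizer_singleton_iff.mpr (y.2 d hd))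
          (Subgroup.zpowers_le.mpr (Subgroup.mem_centralizer_singleton_iff.mpr
            (congrArg Subtype.val huy)))
      exact fun w hw => Subgroup.mem_centralizer_singleton_iff.mp (this hw)
    have heq := Subgroup.eq_of_le_of_card_ge (le_sup_left : D ≤ D ⊔ Subgroup.zpowers (u : G))
      (card_le_of_detect hM hB hD (hP.to_le hQP) hyQ hyu)
    exact Subgroup.mem_subgroupOf.mpr (heq ▸ (le_sup_right : _ ≤ D ⊔ Subgroup.zpowers (u : G))
      (Subgroup.mem_zpowers (u : G)))
  · ext x
    rw [hsum, MonoidAlgebra.coeff_zero, Finsupp.coe_zero, Pi.zero_apply,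
      red_eq_zero_iff hMp (memLR_sum hMp _ _ fun u _ => hbI.2 _)]
    convert hne x x.2 using 1
    refine Finset.sum_bij (fun u _ => (u : G)⁻¹) (fun u hu => ?_) (fun a _ b _ h => ?_)
      (fun w hw => ?_) (fun u _ => rfl)
    · exact Finset.mem_filter.mpr ⟨Finset.mem_univ _, P.inv_mem (Finset.mem_filter.mp hu).2,
        C.inv_mem u.2⟩
    · exact Subtype.ext (inv_inj.mp h)
    · obtain ⟨hwP, hwC⟩ := (Finset.mem_filter.mp hw).2
      exact ⟨⟨w⁻¹, C.inv_mem hwC⟩, Finset.mem_filter.mpr ⟨Finset.mem_univ _, P.inv_mem hwP⟩,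
        inv_inv w⟩

open scoped Classical in
/-- Green: a defect group is the intersection of a given Sylow subgroup over it with a conjugate
by a regular element of its centralizer. -/
theorem exists_inter_conj_eq_defectGroup (hM : IsPModular p M) (hB : IsPBlock M B)
    {D : Subgroup G} (hD : IsDefectGroup p M B D) {P : Subgroup G} (hP : IsPGroup p P)
    (hDP : D ≤ P) :
    ∃ x : G, ¬ p ∣ orderOf x ∧ IsSylCent p x D ∧
      P ⊓ P.map (MulAut.conj x).toMonoidHom = D := by
  have hMp := pmod_prime hM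
  obtain ⟨g, hg, hDg⟩ := (isDefectGroup_iff B D).mp hD
  obtain ⟨x, hxC, hx⟩ := exists_centralizer_coset_sum hM hB hD hP hDP
  set C := Subgroup.centralizer (D : Set G) with hC
  have hbI := isIntClassFun_blockCoeff hM hB
  set F : G → ℂ := fun y => if x⁻¹ * y ∈ P then blockCoeff B y else 0 with hFdef
  have hF : ∀ y, MemLocalRing M (F y) := fun y => by
    simp only [hFdef]; split_ifs
    exacts [hbI.2 _, memLR_zero hMp]
  have hinv : ∀ u ∈ P ⊓ P.map (MulAut.conj x).toMonoidHom, ∀ y, F (u * y * u⁻¹) = F y := by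
    rintro u ⟨hu, v, hv, rfl⟩ y
    simp only [MulEquiv.toMonoidHom_eq_coe, MonoidHom.coe_coe, MulAut.conj_apply] at hu ⊢
    simp only [hFdef]
    rw [hbI.1 y]
    refine if_congr ?_ rfl rfl
    rw [show x⁻¹ * (x * v * x⁻¹ * y * (x * v * x⁻¹)⁻¹) = v * (x⁻¹ * y) * (x * v * x⁻¹)⁻¹ by group,
      P.mul_mem_cancel_right (P.inv_mem hu), P.mul_mem_cancel_left hv]
  have hDR : D ≤ P ⊓ P.map (MulAut.conj x).toMonoidHom := fun d hd => ⟨hDP hd, d, hDP hd, by
    simp only [MulEquiv.toMonoidHom_eq_coe, MonoidHom.coe_coe, MulAut.conj_apply]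
    rw [← hxC d hd, mul_inv_cancel_right]⟩
  have hall : ¬ MemLocalIdeal M (∑ y : G, F y) := by
    intro h
    refine hx (memLI_congr hMp ?_ h)
    have h1 := sum_centralizer_congr hM hDg.isPGroup F hF (fun u hu y => hinv u (hDR hu) y)
    have e : ∑ y : G with y ∈ C, F y = ∑ u : G with u ∈ P ⊓ C, blockCoeff B (x * u) := by
      rw [Finset.sum_filter, Finset.sum_filter]
      refine (Fintype.sum_equiv (Equiv.mulLeft x) _ _ fun u => ?_).symm
      simp only [Equiv.coe_mulLeft, hFdef, inv_mul_cancel_left, Subgroup.mem_inf,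
        C.mul_mem_cancel_left hxC]
      by_cases hu : u ∈ P <;> simp [hu]
    rw [← e]
    exact memLI_symm hMp h1
  obtain ⟨y, hyR, hyP, hby⟩ : ∃ y ∈ Subgroup.centralizer
      ((P ⊓ P.map (MulAut.conj x).toMonoidHom : Subgroup G) : Set G),
      x⁻¹ * y ∈ P ∧ ¬ MemLocalIdeal M (blockCoeff B y) := by
    by_contra hne
    push Not at hne
    refine hall (memLI_congr hMp (sum_centralizer_congr hM (hP.to_le inf_le_left) F hF hinv) ?_)
    refine memLI_sum hMp _ _ fun y hy => ?_
    simp only [hFdef]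
    split_ifs with h
    exacts [hne y (Finset.mem_filter.mp hy).2 h, memLI_zero hMp]
  have hR : P ⊓ P.map (MulAut.conj x).toMonoidHom = D :=
    (Subgroup.eq_of_le_of_card_ge hDR
      (card_le_of_detect hM hB hD (hP.to_le inf_le_left) hyR hby)).symm
  refine ⟨y, fun h => hby ?_, isSylCent_of_detect hM hB hD (fun d hd => hyR d (hDR hd)) hby, ?_⟩
  · rw [blockCoeff_eq_zero_of_singular hM hB h]
    exact memLI_zero hMp
  · rw [← hR]
    congr 1
    ext w
    simp only [Subgroup.mem_map, MulEquiv.toMonoidHom_eq_coe, MonoidHom.coe_coe, MulAut.conj_apply]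
    constructor
    · rintro ⟨v, hv, rfl⟩
      exact ⟨x⁻¹ * y * v * (x⁻¹ * y)⁻¹, P.mul_mem (P.mul_mem hyP hv) (P.inv_mem hyP), by group⟩
    · rintro ⟨v, hv, rfl⟩
      exact ⟨(x⁻¹ * y)⁻¹ * v * (x⁻¹ * y), P.mul_mem (P.mul_mem (P.inv_mem hyP) hv) hyP, by group⟩

end Cfsg.Agent.Char
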