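import Cfsg.Agent.Lib.Char.Galois
import Cfsg.Agent.Lib.Char.GaloisConj
import Cfsg.Agent.Lib.Char.Induction
import Mathlib.FieldTheory.PrimitiveElement
import Mathlib.Data.ZMod.Units

/-!
# Orbits of class functions under the Galois action given by powers
-/

set_option autoImplicit false
open Cfsg Module IntermediateField
open scoped ComplexConjugate

namespace Cfsg.Agent.Char

universe u

variable {n : ℕ} [NeZero n] {G : Type u} [Group G]

/-- The action of a unit modulo `n` on functions on a group. -/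
def gal (u : (ZMod n)ˣ) (f : G → ℂ) : G → ℂ := fun g => f (g ^ (u : ZMod n).val)

omit [NeZero n] in
theorem pow_val_one (hexp : ∀ g : G, g ^ n = 1) (g : G) : g ^ ((1 : (ZMod n)ˣ) : ZMod n).val = g := by
  rcases eq_or_ne n 1 with rfl | h
  · have h1 : g = 1 := by simpa using hexp g
    subst h1
    exact one_pow _
  rw [Units.val_one, ZMod.val_one'' h, pow_one]

omit [NeZero n] in
theorem pow_val_mul (hexp : ∀ g : G, g ^ n = 1) (g : G) (u v : (ZMod n)ˣ) :
    g ^ ((u * v : (ZMod n)ˣ) : ZMod n).val = (g ^ (u : ZMod n).val) ^ (v : ZMod n).val := by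
  rw [Units.val_mul, ZMod.val_mul, ← pow_eq_pow_mod _ (hexp g), pow_mul]

omit [NeZero n] in
theorem gal_mul (hexp : ∀ g : G, g ^ n = 1) (u v : (ZMod n)ˣ) (f : G → ℂ) :
    gal (u * v) f = gal u (gal v f) := by
  funext g
  exact congrArg f (pow_val_mul hexp g u v)

omit [NeZero n] in
theorem gal_one (hexp : ∀ g : G, g ^ n = 1) (f : G → ℂ) : gal (1 : (ZMod n)ˣ) f = f := by
  funext g
  exact congrArg f (pow_val_one hexp g)

/-- The stabilizer of a function under the Galois action. -/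
def galStab (hexp : ∀ g : G, g ^ n = 1) (f : G → ℂ) : Subgroup (ZMod n)ˣ where
  carrier := {u | gal u f = f}
  one_mem' := gal_one hexp f
  mul_mem' := fun {u v} hu hv => by
    show gal (u * v) f = f
    rw [gal_mul hexp, show gal v f = f from hv]; exact hu
  inv_mem' := fun {u} hu => by
    show gal u⁻¹ f = f
    conv_lhs => rw [← show gal u f = f from hu]
    rw [← gal_mul hexp, inv_mul_cancel, gal_one hexp]

omit [NeZero n] in
theorem mem_galStab {hexp : ∀ g : G, g ^ n = 1} {f : G → ℂ} {u : (ZMod n)ˣ} :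
    u ∈ galStab hexp f ↔ gal u f = f := Iff.rfl

omit [NeZero n] in
theorem gal_eq_gal_iff (hexp : ∀ g : G, g ^ n = 1) (f : G → ℂ) (u v : (ZMod n)ˣ) :
    gal u f = gal v f ↔ u⁻¹ * v ∈ galStab hexp f := by
  rw [mem_galStab, gal_mul hexp]
  constructor
  · intro h
    rw [← h, ← gal_mul hexp, inv_mul_cancel, gal_one hexp]
  · intro h
    have h1 := congrArg (gal u) h
    rw [← gal_mul hexp, mul_inv_cancel, gal_one hexp] at h1
    exact h1.symm

omit [NeZero n] in
theorem card_range_gal (hexp : ∀ g : G, g ^ n = 1) (f : G → ℂ) :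
    Nat.card (Set.range fun u : (ZMod n)ˣ => gal u f) = (galStab hexp f).index := by
  refine (Nat.card_eq_of_bijective
    (fun q : (ZMod n)ˣ ⧸ galStab hexp f => Quotient.liftOn q
      (fun u => (⟨gal u f, u, rfl⟩ : Set.range fun u : (ZMod n)ˣ => gal u f))
      fun a b hab => Subtype.ext ((gal_eq_gal_iff hexp f a b).2 (QuotientGroup.leftRel_apply.1 hab)))
    ⟨?_, ?_⟩).symm
  · intro a b
    induction a using Quotient.inductionOn with
    | _ a =>
    induction b using Quotient.inductionOn with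
    | _ b =>
    intro h
    exact Quotient.sound (QuotientGroup.leftRel_apply.2 ((gal_eq_gal_iff hexp f a b).1 (congrArg Subtype.val h)))
  · rintro ⟨_, u, rfl⟩
    exact ⟨QuotientGroup.mk u, rfl⟩

theorem val_coprime (u : (ZMod n)ˣ) : Nat.Coprime (u : ZMod n).val n := ZMod.val_coe_unit_coprime u

omit [NeZero n] in
theorem gal_comp {H : Type*} [Group H] (φ : H →* G) (u : (ZMod n)ˣ) (f : G → ℂ) :
    gal u (f ∘ φ) = gal u f ∘ φ := by
  funext h
  simp [gal, Function.comp_apply, map_pow]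

variable [Fintype G]

theorem coprime_natCard_of_exp (hexp : ∀ g : G, g ^ n = 1) {k : ℕ} (hk : k.Coprime n) :
    k.Coprime (Nat.card G) := by
  refine Nat.coprime_of_dvd fun q hq hqk hqG => ?_
  haveI := Fact.mk hq
  obtain ⟨x, hx⟩ := exists_prime_orderOf_dvd_card' (G := G) q hqG
  have h1 : q ∣ n := hx ▸ orderOf_dvd_of_pow_eq_one (hexp x)
  exact hq.ne_one (Nat.dvd_one.1 (hk ▸ Nat.dvd_gcd hqk h1))

theorem isCharacter_gal (hexp : ∀ g : G, g ^ n = 1) (u : (ZMod n)ˣ) {f : G → ℂ} (hf : IsCharacter G f) :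
    IsCharacter G (gal u f) :=
  isCharacter_pow hf (coprime_natCard_of_exp hexp (val_coprime u))

theorem isIrr_gal (hexp : ∀ g : G, g ^ n = 1) (u : (ZMod n)ˣ) {f : G → ℂ} (hf : IsIrrCharacter G f) :
    IsIrrCharacter G (gal u f) :=
  isIrrCharacter_pow hf (coprime_natCard_of_exp hexp (val_coprime u))

theorem conj_pow_aux (x g : G) (i : ℕ) : x⁻¹ * g ^ i * x = (x⁻¹ * g * x) ^ i := by
  simpa using (conj_pow (a := x⁻¹) (b := g) (i := i)).symm

theorem gal_indFun (hexp : ∀ g : G, g ^ n = 1) (u : (ZMod n)ˣ) (H : Subgroup G) (θ : H → ℂ) :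
    gal u (indFun H θ) = indFun H (gal u θ) := by
  funext g
  obtain ⟨j, hj⟩ := exists_pow_eq_self_of_coprime (x := g) (n := (u : ZMod n).val)
    ((val_coprime u).coprime_dvd_right (orderOf_dvd_of_pow_eq_one (hexp g)))
  simp only [gal, indFun]
  congr 1
  refine Finset.sum_congr rfl fun x _ => ?_
  by_cases hx : x⁻¹ * g * x ∈ H
  · rw [extendByZero_mem H _ hx, extendByZero_mem H _ (show x⁻¹ * g ^ (u : ZMod n).val * x ∈ H by
      rw [conj_pow_aux]; exact pow_mem hx _)]
    exact congrArg θ (Subtype.ext (by rw [Subgroup.coe_pow]; exact conj_pow_aux x g _))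
  · rw [extendByZero_not_mem H _ hx, extendByZero_not_mem H _ fun h => hx ?_]
    have h1 := pow_mem h j
    rwa [← conj_pow_aux, hj] at h1

omit [NeZero n] in
theorem char_mem_cyc (hexp : ∀ g : G, g ^ n = 1) {χ : G → ℂ} (h : IsCharacter G χ) (g : G) :
    χ g ∈ cyc n := by
  obtain ⟨m, ρ, rfl⟩ := h
  obtain ⟨μ, hμ, htr, -⟩ := exists_eigenvalues ρ g
  have h1 := htr 1
  simp only [pow_one] at h1
  rw [h1]
  refine sum_mem fun i _ => mem_cyc ?_
  obtain ⟨c, hc⟩ := orderOf_dvd_of_pow_eq_one (hexp g)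
  rw [hc, pow_mul, hμ i, one_pow]

omit [NeZero n] in
theorem embedding_char (hexp : ∀ g : G, g ^ n = 1) {χ : G → ℂ} (h : IsCharacter G χ)
    (φ : cyc n →ₐ[ℚ] ℂ) (k : ℕ) (hk : ∀ (μ : ℂ) (hμ : μ ^ n = 1), φ ⟨μ, mem_cyc hμ⟩ = μ ^ k) (g : G) :
    φ ⟨χ g, char_mem_cyc hexp h g⟩ = χ (g ^ k) := by
  obtain ⟨m, ρ, rfl⟩ := id h
  obtain ⟨μ, hμ, htr, -⟩ := exists_eigenvalues ρ g
  have hμn : ∀ i, μ i ^ n = 1 := fun i => by
    obtain ⟨c, hc⟩ := orderOf_dvd_of_pow_eq_one (hexp g)
    rw [hc, pow_mul, hμ i, one_pow]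
  have h1 := htr 1
  simp only [pow_one] at h1
  have e : (⟨ρ.character g, char_mem_cyc hexp h g⟩ : cyc n) = ∑ i, (⟨μ i, mem_cyc (hμn i)⟩ : cyc n) := by
    ext
    simp [h1]
  rw [e, map_sum, htr k]
  exact Finset.sum_congr rfl fun i _ => hk _ (hμn i)

/-- The degree of the field of values is the size of the Galois orbit. -/
theorem finrank_adjoin_values (hexp : ∀ g : G, g ^ n = 1) {χ : G → ℂ} (h : IsCharacter G χ) :
    Module.finrank ℚ (IntermediateField.adjoin ℚ (Set.range χ)) = (galStab hexp χ).index := by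
  have hn : n ≠ 0 := NeZero.ne n
  set E := IntermediateField.adjoin ℚ (Set.range χ) with hE
  have hle : E ≤ cyc n := IntermediateField.adjoin_le_iff.2 (by
    rintro _ ⟨g, rfl⟩; exact char_mem_cyc hexp h g)
  haveI : FiniteDimensional ℚ E := IntermediateField.finiteDimensional_adjoin (S := Set.range χ) fun x hx => by
    obtain ⟨g, rfl⟩ := hx
    exact isIntegral_of_mem_cyc hn (char_mem_cyc hexp h g)
  rw [← card_range_gal hexp χ, ← AlgHom.card ℚ E ℂ, ← Nat.card_eq_fintype_card]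
  let Ψ : (E →ₐ[ℚ] ℂ) → (G → ℂ) := fun φ g => φ ⟨χ g, IntermediateField.subset_adjoin _ _ ⟨g, rfl⟩⟩
  have hinj : Function.Injective Ψ := by
    intro φ ψ hφψ
    refine IntermediateField.algHom_ext_of_eq_adjoin _ hE fun x hx => ?_
    obtain ⟨g, rfl⟩ := hx
    exact congrFun hφψ g
  have hrange : Set.range Ψ = Set.range fun u : (ZMod n)ˣ => gal u χ := by
    ext f
    constructor
    · rintro ⟨φ, rfl⟩
      obtain ⟨φ', hφ'⟩ : ∃ φ' : cyc n →ₐ[ℚ] ℂ, φ'.comp (IntermediateField.inclusion hle) = φ :=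
        IntermediateField.exists_algHom_adjoin_of_splits (cyc_splits hn) φ hle
      obtain ⟨k, hk, hpow⟩ := exists_power_of_embedding hn φ'
      refine ⟨ZMod.unitOfCoprime k hk, funext fun g => ?_⟩
      show gal _ χ g = φ _
      rw [← hφ']
      show gal _ χ g = φ' _
      rw [gal, ZMod.coe_unitOfCoprime, ZMod.val_natCast, ← pow_eq_pow_mod _ (hexp g),
        ← embedding_char hexp h φ' k hpow g]
      rfl
    · rintro ⟨u, rfl⟩
      obtain ⟨φ', hpow⟩ := exists_embedding_of_power hn (val_coprime u)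
      exact ⟨φ'.comp (IntermediateField.inclusion hle), funext fun g =>
        embedding_char hexp h φ' _ hpow g⟩
  rw [← hrange]
  exact Nat.card_congr (Equiv.ofInjective Ψ hinj)

end Cfsg.Agent.Char
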