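import Cfsg.Agent.Lib.Char.Coprime
import Cfsg.Agent.Lib.Char.Clifford
import Cfsg.Agent.Lib.Char.GaloisOrbit

/-!
# A Galois-stable character replacing a character of a group with a normal `p`-complement
-/

set_option autoImplicit false
set_option linter.style.haveILetI false
set_option linter.unusedSectionVars false

namespace Cfsg.Agent.Char.CanSum

open Cfsg Module
open scoped ComplexConjugate ComplexOrder

universe u

variable {T : Type u} [Group T] [Fintype T] (K : Subgroup T) [hKn : K.Normal] [Fintype K]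

/-- The inertia group of an irreducible character of `K`. -/
def iner (θ : IrrCharacter K) : Subgroup T where
  carrier := {g | ∀ n : K, (θ : K → ℂ) (MulAut.conjNormal g n) = (θ : K → ℂ) n}
  one_mem' := fun n => by rw [map_one]; rfl
  mul_mem' := fun {a b} ha hb n => by rw [map_mul, MulAut.mul_apply, ha, hb]
  inv_mem' := fun {a} ha n => by
    conv_rhs => rw [← MulEquiv.apply_symm_apply (MulAut.conjNormal a : MulAut K) n]
    rw [ha, map_inv]
    rfl

theorem le_iner (θ : IrrCharacter K) : K ≤ iner K θ := fun k hk n => by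
  have h := isClassFunction_character (irr_isCharacter θ.2) n (⟨k, hk⟩ : K)
  rw [← h]
  exact congrArg _ (Subtype.ext (by simp))

/-- The canonical extension to the inertia group is fixed by the Galois automorphisms fixing the
roots of unity of order dividing `|K|`. -/
theorem exists_canonical {p j : ℕ} (hK : (Nat.card K).Coprime p) (hidx : K.index = p ^ j)
    (θ : IrrCharacter K) :
    ∃ ξ : iner K θ → ℂ, IsIrrCharacter (iner K θ) ξ ∧
      (∀ n : K, ξ ⟨n, le_iner K θ n.2⟩ = (θ : K → ℂ) n) ∧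
      ∀ k : ℕ, k.Coprime (Nat.card T) → k ≡ 1 [MOD Nat.card K] → ∀ g, ξ (g ^ k) = ξ g := by
  classical
  set H := iner K θ with hH
  let N : Subgroup H := K.subgroupOf H
  let e : N ≃* K := Subgroup.subgroupOfEquivOfLe (le_iner K θ)
  haveI : Fintype N := Fintype.ofFinite _
  have hNc : Nat.card N = Nat.card K := Nat.card_congr e.toEquiv
  have hcop : N.index.Coprime (Nat.card N) := by
    have hd : N.index ∣ K.index := Dvd.intro _ (Subgroup.relIndex_mul_index (le_iner K θ))
    refine Nat.Coprime.coprime_dvd_left hd ?_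
    rw [hidx, hNc]
    exact hK.symm.pow_left j
  let θ' : N → ℂ := fun x => (θ : K → ℂ) (e x)
  have hθ' : IsIrrCharacter N θ' := isIrrCharacter_comp_equiv e θ.2
  have hinv : ∀ (g : H) (x : N), θ' (MulAut.conjNormal g x) = θ' x := fun g x => by
    refine Eq.trans ?_ (g.2 (e x))
    exact congrArg _ (Subtype.ext rfl)
  have hd1 : θ' 1 = (deg θ' : ℕ) := char_one_eq_deg (irr_isCharacter hθ')
  have hcopd : N.index.Coprime (deg θ') := hcop.coprime_dvd_right (deg_dvd_card hθ')
  obtain ⟨d, σ, hσ⟩ := irr_isCharacter hθ'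
  have hdinv : ∀ (g : H) (x : N), detHom σ (MulAut.conjNormal g x) = detHom σ x := fun g x => by
    apply Units.ext
    have e1 := detChar_conj_inv N (irr_isCharacter hθ') hinv g x
    rw [detChar_eq_hom σ hσ] at e1
    exact e1
  have ho : orderOf (detHom σ) ∣ Nat.card N :=
    orderOf_dvd_of_pow_eq_one (MonoidHom.ext fun z => by
      rw [MonoidHom.pow_apply, MonoidHom.one_apply, ← map_pow, pow_card_eq_one', map_one])
  obtain ⟨μ, hμ, hμo⟩ := exists_linear_extension_coprime N (detHom σ) hdinv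
    (hcop.coprime_dvd_right ho)
  have hμ' : ∀ x : N, (μ (x : H) : ℂ) = detChar θ' x := fun x => by
    rw [hμ, detChar_eq_hom σ hσ]
  obtain ⟨η, hη, hres⟩ := exists_extension_of_det_extension N hθ' hinv (deg θ') hd1 hcopd μ hμ'
  obtain ⟨ξ, ⟨hξ, hξres, hξdet⟩, huniq⟩ :=
    existsUnique_extension_det N hθ' (deg θ') hd1 hcopd hη hres μ hμ'
  refine ⟨ξ, hξ, fun n => ?_, fun k hk hk1 g => ?_⟩
  · exact (hξres (e.symm n)).trans (congrArg (θ : K → ℂ) (e.apply_symm_apply n))
  · have hkH : k.Coprime (Nat.card H) := hk.coprime_dvd_right (Subgroup.card_subgroup_dvd_card H)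
    have heq : (fun g => ξ (g ^ k)) = ξ := huniq _ ⟨isIrrCharacter_pow hξ hkH, fun x => by
        show ξ ((x : H) ^ k) = θ' x
        rw [← Subgroup.coe_pow, pow_eq_pow_mod k (n := Nat.card N) pow_card_eq_one', hNc,
          show k % Nat.card K = 1 % Nat.card K from hk1, ← hNc,
          ← pow_eq_pow_mod 1 (n := Nat.card N) pow_card_eq_one', pow_one, hξres], ?_⟩
    · exact congrFun heq g
    · rw [detChar_pow (irr_isCharacter hξ) hkH, hξdet]
      funext h
      rw [← Units.val_pow_eq_pow_val]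
      congr 1
      conv_rhs => rw [← pow_one (μ h)]
      refine pow_eq_pow_iff_modEq.2 (hk1.of_dvd ?_)
      rw [← hNc]
      refine Dvd.dvd.trans ?_ (hμo.dvd.trans ho)
      exact orderOf_dvd_of_pow_eq_one (by
        rw [← MonoidHom.pow_apply, pow_orderOf_eq_one, MonoidHom.one_apply])

/-- Restriction to `K` of a character induced from the inertia group. -/
theorem indFun_iner_restrict (θ : IrrCharacter K) (ξ : iner K θ → ℂ)
    (hres : ∀ n : K, ξ ⟨n, le_iner K θ n.2⟩ = (θ : K → ℂ) n) (n : K) :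
    indFun (iner K θ) ξ (n : T) = ∑ φ ∈ cliffOrbit K θ, (φ : K → ℂ) n := by
  classical
  have hH : (Nat.card (iner K θ) : ℂ) ≠ 0 := Nat.cast_ne_zero.mpr Nat.card_pos.ne'
  have h1 : ∀ x : T, extendByZero (iner K θ) ξ (x⁻¹ * (n : T) * x) =
      (irrComp (MulAut.conjNormal x⁻¹) θ : K → ℂ) n := fun x => by
    rw [irrComp_apply]
    have hm : ((MulAut.conjNormal x⁻¹ n : K) : T) = x⁻¹ * (n : T) * x := by simp
    rw [← hm, extendByZero_mem _ ξ (le_iner K θ (MulAut.conjNormal x⁻¹ n).2)]
    exact hres _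
  rw [indFun, Finset.sum_congr rfl fun x _ => h1 x,
    Fintype.sum_equiv (Equiv.inv T) (fun x => (irrComp (MulAut.conjNormal x⁻¹) θ : K → ℂ) n)
      (fun x => (irrComp (MulAut.conjNormal x) θ : K → ℂ) n) (fun x => rfl),
    ← Finset.sum_fiberwise_of_maps_to (t := cliffOrbit K θ)
      (g := fun x : T => irrComp (MulAut.conjNormal x) θ)
      (fun x _ => mem_cliffOrbit.mpr ⟨x, rfl⟩), Finset.mul_sum]
  refine Finset.sum_congr rfl fun φ hφ => ?_
  obtain ⟨g, hg⟩ := mem_cliffOrbit.mp hφ
  rw [Finset.sum_congr rfl (g := fun _ => (φ : K → ℂ) n) (fun x hx => by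
    rw [(Finset.mem_filter.1 hx).2]), Finset.sum_const, nsmul_eq_mul]
  have hcard : (Finset.univ.filter fun x : T => irrComp (MulAut.conjNormal x) θ = φ).card =
      Nat.card (iner K θ) := by
    rw [← Fintype.card_subtype, ← Nat.card_eq_fintype_card]
    refine Nat.card_congr
      { toFun := fun x => ⟨x.1 * g⁻¹, fun m => ?_⟩
        invFun := fun h => ⟨h.1 * g, ?_⟩
        left_inv := fun x => Subtype.ext (inv_mul_cancel_right _ _)
        right_inv := fun h => Subtype.ext (mul_inv_cancel_right _ _) }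
    · have e := congrFun (congrArg Subtype.val (x.2.trans hg.symm)) (MulAut.conjNormal g⁻¹ m)
      rw [irrComp_apply, irrComp_apply] at e
      rw [map_mul, MulAut.mul_apply, e, ← MulAut.mul_apply, ← map_mul, mul_inv_cancel, map_one]
      rfl
    · rw [← hg]
      refine Subtype.ext (funext fun m => ?_)
      rw [irrComp_apply, irrComp_apply, map_mul, MulAut.mul_apply]
      exact h.2 _
  rw [hcard, ← mul_assoc, inv_mul_cancel₀ hH, one_mul]

theorem exists_sum_stable {p j : ℕ} (hK : (Nat.card K).Coprime p) (hidx : K.index = p ^ j) :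
    ∀ (s : Finset (IrrCharacter K)),
      (∀ θ ∈ s, ∀ g : T, irrComp (MulAut.conjNormal g) θ ∈ s) →
      ∃ Φ : T → ℂ, IsCharacter T Φ ∧ (∀ n : K, Φ n = ∑ θ ∈ s, (θ : K → ℂ) n) ∧
        ∀ k : ℕ, k.Coprime (Nat.card T) → k ≡ 1 [MOD Nat.card K] → ∀ g, Φ (g ^ k) = Φ g := by
  classical
  intro s
  induction s using Finset.strongInductionOn with
  | _ s ih =>
    intro hs
    rcases s.eq_empty_or_nonempty with rfl | ⟨θ, hθ⟩
    · exact ⟨0, isCharacter_zero, fun n => by simp, fun _ _ _ _ => rfl⟩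
    have hO : cliffOrbit K θ ⊆ s := fun φ hφ => by
      obtain ⟨g, rfl⟩ := mem_cliffOrbit.mp hφ
      exact hs θ hθ g
    obtain ⟨Φ', hΦ', hres', hgal'⟩ := ih (s \ cliffOrbit K θ)
      (Finset.sdiff_ssubset hO ⟨θ, self_mem_cliffOrbit θ⟩) fun φ hφ g => by
        rw [Finset.mem_sdiff] at hφ ⊢
        refine ⟨hs φ hφ.1 g, fun hmem => hφ.2 ?_⟩
        obtain ⟨x, hx⟩ := mem_cliffOrbit.mp hmem
        refine mem_cliffOrbit.mpr ⟨x * g⁻¹, Subtype.ext (funext fun m => ?_)⟩
        have e := congrFun (congrArg Subtype.val hx) (MulAut.conjNormal g⁻¹ m)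
        rw [irrComp_apply, irrComp_apply] at e
        rw [irrComp_apply, map_mul, MulAut.mul_apply, e, ← MulAut.mul_apply, ← map_mul,
          mul_inv_cancel, map_one]
        rfl
    obtain ⟨ξ, hξ, hξres, hξgal⟩ := exists_canonical K hK hidx θ
    refine ⟨fun g => indFun (iner K θ) ξ g + Φ' g,
      isCharacter_add (isCharacter_indFun _ (irr_isCharacter hξ)) hΦ', fun n => ?_,
      fun k hk hk1 g => ?_⟩
    · dsimp only
      rw [indFun_iner_restrict K θ ξ hξres, hres', add_comm, Finset.sum_sdiff hO]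
    · dsimp only
      rw [hgal' k hk hk1]
      congr 1
      obtain ⟨i, hi⟩ := exists_pow_eq_self_of_coprime (x := g) (n := k)
        (hk.coprime_dvd_right (orderOf_dvd_natCard g))
      simp only [indFun]
      congr 1
      refine Finset.sum_congr rfl fun x _ => ?_
      by_cases hx : x⁻¹ * g * x ∈ iner K θ
      · have hx' : x⁻¹ * g ^ k * x ∈ iner K θ := by rw [conj_pow_aux]; exact pow_mem hx _
        rw [extendByZero_mem _ _ hx, extendByZero_mem _ _ hx', ← hξgal k hk hk1 ⟨_, hx⟩]
        exact congrArg ξ (Subtype.ext (by rw [Subgroup.coe_pow]; exact conj_pow_aux x g _))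
      · rw [extendByZero_not_mem _ _ hx, extendByZero_not_mem _ _ fun h => hx ?_]
        have h1 := pow_mem h i
        rwa [← conj_pow_aux, hi] at h1

/-- A character of a group with a normal `p`-complement `K` can be traded for one of no larger
degree, with the same kernel on `K`, fixed by the Galois automorphisms that fix the roots of
unity of order dividing `|K|`. -/
theorem exists_stable {p j : ℕ} (hK : (Nat.card K).Coprime p) (hidx : K.index = p ^ j)
    {χ : T → ℂ} (hχ : IsCharacter T χ) (hfaith : ∀ x : K, χ x = χ 1 → x = 1) :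
    ∃ Φ : T → ℂ, IsCharacter T Φ ∧ deg Φ ≤ deg χ ∧ (∀ x : K, Φ x = Φ 1 → x = 1) ∧
      ∀ k : ℕ, k.Coprime (Nat.card T) → k ≡ 1 [MOD Nat.card K] → ∀ g, Φ (g ^ k) = Φ g := by
  classical
  have hr : IsCharacter K (fun x : K => χ x) := isCharacter_comp K.subtype hχ
  obtain ⟨m, hm⟩ := exists_decomposition hr
  set s := Finset.univ.filter fun θ : IrrCharacter K => m θ ≠ 0 with hs
  obtain ⟨Φ, hΦ, hres, hgal⟩ := exists_sum_stable K hK hidx s fun θ hθ g => by
    refine Finset.mem_filter.2 ⟨Finset.mem_univ _, ?_⟩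
    have h0 := (Finset.mem_filter.1 hθ).2
    have h1 := classInner_restrict_conj (N := K) (isClassFunction_character hχ) (θ : K → ℂ) g
    rw [show (fun n => (θ : K → ℂ) (MulAut.conjNormal g n)) =
      (irrComp (MulAut.conjNormal g) θ : K → ℂ) from funext fun n => (irrComp_apply _ _ n).symm,
      decomposition_coeff m hm, decomposition_coeff m hm] at h1
    rwa [Nat.cast_inj.1 h1]
  have hχK : ∀ x : K, χ x = ∑ θ ∈ s, (m θ : ℂ) * (θ : K → ℂ) x := fun x => by
    have h1 := congrFun hm x
    rw [Finset.sum_apply] at h1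
    rw [h1]
    simp only [Pi.smul_apply, nsmul_eq_mul]
    rw [hs, Finset.sum_filter]
    refine Finset.sum_congr rfl fun θ _ => ?_
    split_ifs with h
    · rfl
    · rw [not_not.1 h]; simp
  have hΦ1 : Φ 1 = ∑ θ ∈ s, (deg (θ : K → ℂ) : ℂ) := by
    have h := hres 1
    rw [OneMemClass.coe_one] at h
    rw [h]
    exact Finset.sum_congr rfl fun θ _ => char_one_eq_deg (irr_isCharacter θ.2)
  refine ⟨Φ, hΦ, ?_, fun x hx => hfaith x ?_, hgal⟩
  · have h1 : deg Φ = ∑ θ ∈ s, deg (θ : K → ℂ) := by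
      have := (char_one_eq_deg hΦ).symm.trans hΦ1
      exact_mod_cast this
    have h2 : deg χ = ∑ θ ∈ s, m θ * deg (θ : K → ℂ) := by
      have h := hχK 1
      rw [OneMemClass.coe_one, char_one_eq_deg hχ] at h
      simp only [fun θ : IrrCharacter K => char_one_eq_deg (irr_isCharacter θ.2)] at h
      exact_mod_cast h
    rw [h1, h2]
    exact Finset.sum_le_sum fun θ hθ =>
      Nat.le_mul_of_pos_left _ (Nat.pos_of_ne_zero (Finset.mem_filter.1 hθ).2)
  · have hle : ∀ θ ∈ s, ((θ : K → ℂ) x).re ≤ ((θ : K → ℂ) 1).re := fun θ _ =>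
      (Complex.re_le_norm _).trans (char_norm_le (irr_isCharacter θ.2) x)
    have hsum : ∑ θ ∈ s, ((θ : K → ℂ) x).re = ∑ θ ∈ s, ((θ : K → ℂ) 1).re := by
      rw [← Complex.re_sum, ← Complex.re_sum, ← hres, ← hres, hx, OneMemClass.coe_one]
    have heq : ∀ θ ∈ s, (θ : K → ℂ) x = (θ : K → ℂ) 1 := fun θ hθ => by
      have h1 := (Finset.sum_eq_sum_iff_of_le hle).1 hsum θ hθ
      have h2 : (θ : K → ℂ) 1 = (((θ : K → ℂ) 1).re : ℂ) := by
        rw [char_one_eq_deg (irr_isCharacter θ.2), Complex.natCast_re, Complex.ofReal_natCast]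
      have h3 := char_norm_le (irr_isCharacter θ.2) x
      rw [← h1] at h3
      have h4 : 0 ≤ (θ : K → ℂ) x := Complex.re_eq_norm.1 (le_antisymm (Complex.re_le_norm _) h3)
      rw [h2, ← h1]
      exact Complex.ext rfl (by simpa using (Complex.le_def.1 h4).2.symm)
    show χ x = χ 1
    rw [hχK, ← OneMemClass.coe_one K, hχK]
    exact Finset.sum_congr rfl fun θ hθ => by rw [heq θ hθ]

end Cfsg.Agent.Char.CanSum
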