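import Cfsg.Agent.Lib.Char.DihedralSection

/-!
# The homomorphism from the dihedral group given by a rotation and a reflection
-/

set_option autoImplicit false

namespace Cfsg.Agent.Char

open DihedralGroup

universe u

variable {G : Type u} [Group G] {N : ℕ} [NeZero N] {σ τ : G}

theorem zmod_pow_add (hσ : σ ^ N = 1) (i j : ZMod N) :
    σ ^ (i + j).val = σ ^ i.val * σ ^ j.val := by
  rw [← pow_add, ZMod.val_add, ← pow_eq_pow_mod (i.val + j.val) hσ]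

theorem refl_mul_rot (hσ : σ ^ N = 1) (hτ : τ * τ = 1) (hrel : τ * σ * τ⁻¹ = σ⁻¹) (i : ZMod N) :
    σ ^ i.val * τ = τ * σ ^ (-i).val := by
  have hτi : τ⁻¹ = τ := inv_eq_of_mul_eq_one_left hτ
  have h0 : σ ^ (-i).val * σ ^ i.val = 1 := by
    rw [← zmod_pow_add hσ, neg_add_cancel, ZMod.val_zero, pow_zero]
  have h1 : τ * σ ^ i.val * τ⁻¹ = (σ ^ i.val)⁻¹ := by rw [← conj_pow, hrel, inv_pow]
  rw [hτi, ← eq_inv_of_mul_eq_one_left h0] at h1
  calc σ ^ i.val * τ = τ * (τ * σ ^ i.val * τ) := by rw [← mul_assoc, ← mul_assoc, hτ, one_mul]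
    _ = _ := by rw [h1]

/-- The parametrization. -/
noncomputable def dihHom (hσ : σ ^ N = 1) (hτ : τ * τ = 1) (hrel : τ * σ * τ⁻¹ = σ⁻¹) :
    DihedralGroup N →* G where
  toFun
    | .r i => σ ^ i.val
    | .sr i => τ * σ ^ i.val
  map_one' := by rw [DihedralGroup.one_def]; simp
  map_mul' := by
    rintro (i | i) (j | j)
    · simp only [r_mul_r]; exact zmod_pow_add hσ i j
    · simp only [r_mul_sr]
      rw [sub_eq_neg_add, zmod_pow_add hσ, ← mul_assoc, ← mul_assoc, refl_mul_rot hσ hτ hrel]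
    · simp only [sr_mul_r]; rw [zmod_pow_add hσ, mul_assoc]
    · simp only [sr_mul_sr]
      rw [sub_eq_neg_add, zmod_pow_add hσ, mul_assoc, ← mul_assoc (σ ^ i.val),
        refl_mul_rot hσ hτ hrel, ← mul_assoc, ← mul_assoc, hτ, one_mul]

theorem dihHom_r (hσ : σ ^ N = 1) (hτ : τ * τ = 1) (hrel : τ * σ * τ⁻¹ = σ⁻¹) (l : ℕ) :
    dihHom hσ hτ hrel (r (l : ZMod N)) = σ ^ l := by
  show σ ^ (l : ZMod N).val = σ ^ l
  rw [ZMod.val_natCast, ← pow_eq_pow_mod l hσ]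

theorem dihHom_sr_zero (hσ : σ ^ N = 1) (hτ : τ * τ = 1) (hrel : τ * σ * τ⁻¹ = σ⁻¹) :
    dihHom hσ hτ hrel (sr 0) = τ := by
  show τ * σ ^ (0 : ZMod N).val = τ
  rw [ZMod.val_zero, pow_zero, mul_one]

theorem dihHom_injective (h4 : 4 ∣ N) (hσo : orderOf σ = N) (hσ : σ ^ N = 1) (hτ : τ * τ = 1)
    (hrel : τ * σ * τ⁻¹ = σ⁻¹) : Function.Injective (dihHom hσ hτ hrel) := by
  rw [injective_iff_map_eq_one]
  intro d hd
  cases d with
  | r i =>
    change σ ^ i.val = 1 at hd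
    have h2 := orderOf_dvd_of_pow_eq_one hd
    rw [hσo] at h2
    rw [(ZMod.val_eq_zero i).1 (Nat.eq_zero_of_dvd_of_lt h2 (ZMod.val_lt i)), DihedralGroup.one_def]
  | sr i =>
    exfalso
    change τ * σ ^ i.val = 1 at hd
    have ht : τ = (σ ^ i.val)⁻¹ := eq_inv_of_mul_eq_one_left hd
    have h1 : τ * σ * τ⁻¹ = σ := by
      rw [ht, inv_inv, mul_assoc, ← pow_succ' σ, pow_succ, inv_mul_cancel_left]
    rw [hrel, inv_eq_iff_mul_eq_one, ← pow_two] at h1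
    have h2 := orderOf_dvd_of_pow_eq_one h1
    rw [hσo] at h2
    have := Nat.le_of_dvd two_pos h2
    have := Nat.le_of_dvd (Nat.pos_of_ne_zero (NeZero.ne N)) h4
    omega

theorem dihHom_range_le (hσ : σ ^ N = 1) (hτ : τ * τ = 1) (hrel : τ * σ * τ⁻¹ = σ⁻¹)
    {H : Subgroup G} (h1 : σ ∈ H) (h2 : τ ∈ H) : (dihHom hσ hτ hrel).range ≤ H := by
  rintro _ ⟨d, rfl⟩
  cases d with
  | r i => exact H.pow_mem h1 _
  | sr i => exact H.mul_mem h2 (H.pow_mem h1 _)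

end Cfsg.Agent.Char
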