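import Cfsg.Agent.Lib.Char.FrobSylowLocal
import Mathlib

/-!
# The principal block on the sections of a Sylow subgroup with Frobenius action
-/

set_option autoImplicit false
set_option linter.unusedSectionVars false

namespace Cfsg.Agent.Char

open Cfsg
open scoped ComplexConjugate

universe u

variable {G : Type u} [Group G] [Fintype G] {M : Ideal AlgInt} {p : ℕ} [Fact p.Prime]
  {P : Sylow p G} {m : ℕ}

namespace FrobSylow

open scoped Classical in
/-- The regular elements of a local centralizer see only the characters trivial on them. -/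
theorem sum_local_principal (hM : IsPModular p M) (h : FrobSylow P m)
    {y : ↥(P : Subgroup G)} (hy : (y : G) ≠ 1)
    (v v' : Subgroup.centralizer ({(y : G)} : Set G)) (hv : ¬ p ∣ orderOf v)
    (hv' : ¬ p ∣ orderOf v') :
    ∑ χ : IrrCharacter G with χ ∈ principalBlock M G,
      conj ((χ : G → ℂ) ((y : G) * (v : G))) * (χ : G → ℂ) ((y : G) * (v' : G)) =
      (Nat.card P : ℂ) := by
  obtain ⟨V, hVn, hVp, hVi, hV⟩ := h.hnpc_centralizer hy
  obtain ⟨k, hk⟩ := IsPGroup.iff_card.mp P.isPGroup'
  rw [sum_block_section_orth hM (ppower y) (isPBlock_principalBlock M) v v' hv hv',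
    principal_section_filter hM (ppower y), Finset.sum_singleton, ← hVi,
    ← sum_sq_trivial_on V (pmod_prime hM)]
  refine Finset.sum_congr (Finset.filter_congr fun ξ _ => ?_) fun ξ hξ => ?_
  · exact mem_principal_iff_of_index hM V hVp (hVi.trans hk) ξ
  · obtain ⟨d, hd⟩ := charOne_eq_natCast (irr_isCharacter ξ.2)
    have hξ' := (Finset.mem_filter.mp hξ).2
    rw [hξ' v ((hV v).mp hv), hξ' v' ((hV v').mp hv'), hd, map_natCast]

open scoped Classical in
/-- The norm of a column of the principal block. -/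
theorem sum_norm_principal (hM : IsPModular p M) (h : FrobSylow P m)
    {y : ↥(P : Subgroup G)} (hy : (y : G) ≠ 1) :
    ∑ χ : IrrCharacter G with χ ∈ principalBlock M G,
      (χ : G → ℂ) (y : G) * conj ((χ : G → ℂ) (y : G)) = (Nat.card P : ℂ) := by
  have hp : p.Prime := Fact.out
  rw [← h.sum_local_principal hM hy 1 1 (by simp [hp.ne_one]) (by simp [hp.ne_one])]
  refine Finset.sum_congr rfl fun χ _ => ?_
  rw [OneMemClass.coe_one, mul_one, mul_comm]

/-- The characters of the principal block are constant on the sections. -/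
theorem principal_const (hM : IsPModular p M) (h : FrobSylow P m) {χ : IrrCharacter G}
    (hχ : χ ∈ principalBlock M G) {y : ↥(P : Subgroup G)} (hy : (y : G) ≠ 1)
    (v : Subgroup.centralizer ({(y : G)} : Set G)) (hv : ¬ p ∣ orderOf v) :
    (χ : G → ℂ) ((y : G) * (v : G)) = (χ : G → ℂ) (y : G) := by
  classical
  have hp : p.Prime := Fact.out
  have h1 : ¬ p ∣ orderOf (1 : Subgroup.centralizer ({(y : G)} : Set G)) := by simp [hp.ne_one]
  set D : IrrCharacter G → ℂ := fun ξ =>
    (ξ : G → ℂ) ((y : G) * (v : G)) - (ξ : G → ℂ) (y : G) with hD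
  have e := fun v v' hv hv' => h.sum_local_principal hM hy v v' hv hv'
  have e11 := e 1 1 h1 h1
  have e1v := e 1 v h1 hv
  have ev1 := e v 1 hv h1
  have evv := e v v hv hv
  simp only [OneMemClass.coe_one, mul_one] at e11 e1v ev1
  have hsum : ∑ ξ : IrrCharacter G with ξ ∈ principalBlock M G, conj (D ξ) * D ξ = 0 := by
    simp only [hD, map_sub, sub_mul, mul_sub, Finset.sum_sub_distrib, evv, ev1, e1v, e11]
    ring
  have hre : ∑ ξ : IrrCharacter G with ξ ∈ principalBlock M G, Complex.normSq (D ξ) = 0 := by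
    have h2 : ((∑ ξ : IrrCharacter G with ξ ∈ principalBlock M G, Complex.normSq (D ξ) : ℝ) : ℂ)
        = 0 := by
      rw [Complex.ofReal_sum, ← hsum]
      exact Finset.sum_congr rfl fun ξ _ => Complex.normSq_eq_conj_mul_self
    exact_mod_cast h2
  have h3 := (Finset.sum_eq_zero_iff_of_nonneg fun ξ _ => Complex.normSq_nonneg _).mp hre χ
    (Finset.mem_filter.mpr ⟨Finset.mem_univ _, hχ⟩)
  exact sub_eq_zero.mp (Complex.normSq_eq_zero.mp h3)

open scoped Classical in
/-- Outside the principal block the sum over each section vanishes. -/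
theorem nonprincipal_sum_zero (hM : IsPModular p M) (h : FrobSylow P m) {χ : IrrCharacter G}
    (hχ : χ ∉ principalBlock M G) {y : ↥(P : Subgroup G)} (hy : (y : G) ≠ 1) :
    ∑ v : Subgroup.centralizer ({(y : G)} : Set G) with ¬ p ∣ orderOf v,
      (χ : G → ℂ) ((y : G) * (v : G)) = 0 := by
  have hP := pmod_prime hM
  obtain ⟨V, hVn, hVp, hVi, hV⟩ := h.hnpc_centralizer hy
  obtain ⟨k, hk⟩ := IsPGroup.iff_card.mp P.isPGroup'
  set R := (Finset.univ : Finset (Subgroup.centralizer ({(y : G)} : Set G))).filter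
    fun v => ¬ p ∣ orderOf v with hR
  set B := blockOf M (χ : G → ℂ) with hB
  have hBb : IsPBlock M B := isPBlock_blockOf M χ
  set A : IrrCharacter G → ℂ := fun ξ => ∑ v ∈ R, (ξ : G → ℂ) ((y : G) * (v : G)) with hA
  have hsum : ∑ ξ : IrrCharacter G with ξ ∈ B, conj (A ξ) * A ξ = 0 := by
    simp only [hA, map_sum, Finset.sum_mul, Finset.mul_sum]
    rw [Finset.sum_comm]
    refine Finset.sum_eq_zero fun v hv => ?_
    rw [Finset.sum_comm]
    rw [Finset.sum_congr rfl fun v' hv' => sum_block_section_orth hM (ppower y) hBb v' v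
      (Finset.mem_filter.mp hv').2 (Finset.mem_filter.mp hv).2, Finset.sum_comm]
    refine Finset.sum_eq_zero fun b hb => ?_
    rw [Finset.sum_comm]
    refine Finset.sum_eq_zero fun ξ hξ => ?_
    rw [← Finset.sum_mul, ← map_sum]
    obtain ⟨-, hind⟩ := Finset.mem_filter.mp hb
    have hnp : ξ ∉ principalBlock M (Subgroup.centralizer ({(y : G)} : Set G)) := fun hc => by
      have hbp := (eq_principal_iff hM hind.1 (Finset.mem_filter.mp hξ).2).mpr hc
      have := (third_main hM hind).mpr hbp
      exact hχ ((eq_principal_iff hM hBb (self_mem_blockOf hP χ)).mp this)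
    rw [mem_principal_iff_of_index hM V hVp (hVi.trans hk), trivial_on_iff_lam] at hnp
    have h0 := (lam_subInd_cases hP V ξ).resolve_right hnp
    rw [lam, div_eq_zero_iff, or_iff_left (irr_one_ne_zero ξ.2)] at h0
    have : ∑ v' ∈ R, (ξ : _ → ℂ) v' = 0 := by
      rw [← h0, hR, Finset.sum_filter]
      refine Finset.sum_congr rfl fun v' _ => ?_
      by_cases hv' : p ∣ orderOf v'
      · rw [if_neg (not_not_intro hv'), subInd, if_neg fun hm => (hV v').mpr hm hv', zero_mul]
      · rw [if_pos hv', subInd, if_pos ((hV v').mp hv'), one_mul]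
    rw [this, map_zero, zero_mul]
  have hre : ∑ ξ : IrrCharacter G with ξ ∈ B, Complex.normSq (A ξ) = 0 := by
    have h2 : ((∑ ξ : IrrCharacter G with ξ ∈ B, Complex.normSq (A ξ) : ℝ) : ℂ) = 0 := by
      rw [Complex.ofReal_sum, ← hsum]
      exact Finset.sum_congr rfl fun ξ _ => Complex.normSq_eq_conj_mul_self
    exact_mod_cast h2
  exact Complex.normSq_eq_zero.mp ((Finset.sum_eq_zero_iff_of_nonneg
    fun ξ _ => Complex.normSq_nonneg _).mp hre χ
      (Finset.mem_filter.mpr ⟨Finset.mem_univ _, self_mem_blockOf hP χ⟩))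

/-- Characters of the principal block at an element with given `p`-part. -/
theorem principal_apply (hM : IsPModular p M) (h : FrobSylow P m) {χ : IrrCharacter G}
    (hχ : χ ∈ principalBlock M G) {z : G} {y : ↥(P : Subgroup G)} (hz : IsPPart p z (y : G))
    (hy : (y : G) ≠ 1) : (χ : G → ℂ) z = (χ : G → ℂ) (y : G) := by
  obtain ⟨w, hw, hcm, -, hr⟩ := hz
  rw [← hw]
  exact h.principal_const hM hχ hy
    ⟨w, Subgroup.mem_centralizer_singleton_iff.mpr hcm.eq.symm⟩ (by rwa [Subgroup.orderOf_mk])

open scoped Classical in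
/-- A character of the principal block does not vanish on all of `P#`. -/
theorem principal_exists_ne (hM : IsPModular p M) (h : FrobSylow P m) {χ : IrrCharacter G}
    (hχ : χ ∈ principalBlock M G) : ∃ y ∈ nonOne P, (χ : G → ℂ) (y : G) ≠ 0 := by
  by_contra hno
  push Not at hno
  have hsing : ∀ g : G, p ∣ orderOf g → (χ : G → ℂ) g = 0 := by
    intro g hg
    obtain ⟨y, hy, hc⟩ := exists_conj_ppt_sing (P := P) hg
    obtain ⟨c, hc⟩ := isConj_iff.mp hc
    rw [← isClassFunction_character (irr_isCharacter χ.2) g c]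
    have hpp : IsPPart p (c * g * c⁻¹) (y : G) := by
      rw [← hc, ← ppt_conj Fact.out]
      exact isPPart_ppt Fact.out _
    rw [h.principal_apply hM hχ hpp hy]
    exact hno y (mem_nonOne.mpr hy)
  set e1 : IrrCharacter G := ⟨fun _ => 1, isIrrCharacter_one⟩ with he1
  by_cases h1 : χ = e1
  · have : ∃ y : ↥(P : Subgroup G), (y : G) ≠ 1 := by
      haveI : Nontrivial ↥(P : Subgroup G) :=
        Finite.one_lt_card_iff_nontrivial.mp (lt_of_le_of_ne Nat.card_pos (Ne.symm h.nontriv))
      obtain ⟨y, hy⟩ := exists_ne (1 : ↥(P : Subgroup G))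
      exact ⟨y, by simpa using hy⟩
    obtain ⟨y, hy⟩ := this
    have := hno y (mem_nonOne.mpr hy)
    rw [h1] at this
    exact one_ne_zero this
  · refine (lam_regInd_unit_iff hM χ).mpr hχ ?_
    have h0 : ∑ g : G, (χ : G → ℂ) g = 0 := by
      have := irrC_orth χ e1
      rw [if_neg h1, classInner] at this
      simp only [e1, map_one, mul_one, mul_eq_zero, inv_eq_zero, Nat.cast_eq_zero,
        Nat.card_pos.ne', false_or] at this
      exact this
    have : ∑ g : G, (regInd p : G → ℂ) g * (χ : G → ℂ) g = 0 := by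
      rw [← h0]
      refine Finset.sum_congr rfl fun g _ => ?_
      by_cases hg : p ∣ orderOf g
      · rw [hsing g hg, mul_zero]
      · rw [regInd_of_reg hg, one_mul]
    rw [lam, this, zero_div]
    exact memLI_zero (pmod_prime hM)

end FrobSylow

end Cfsg.Agent.Char
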