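import Cfsg.Agent.Lib.Char.SolvableDegreeDivisor
import Cfsg.Agent.Lib.Char.PrimeSylowPrincipal
import Cfsg.Agent.Lib.Char.FrobSylowSections
import Cfsg.Agent.Lib.Char.PermLemma
import Cfsg.Agent.Lib.Char.BlockInter
import Cfsg.Agent.Lib.Char.GlaubermanOver
import Cfsg.Agent.Lib.Solv.Parts

/-!
# All irreducible degrees below `p`: a normal abelian Sylow `p`-subgroup
-/

set_option autoImplicit false
set_option linter.unusedSectionVars false
set_option linter.style.haveILetI false

open scoped ComplexConjugate commutatorElement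

namespace Cfsg.Agent.Char.DegBelow

open Cfsg Cfsg.Agent Cfsg.Agent.Char

universe u

/-- All irreducible degrees are below `p`. -/
def Small (p : ℕ) (X : Type u) [Group X] : Prop := ∀ χ : IrrCharacter X, deg (χ : X → ℂ) < p

variable {p : ℕ} [hp : Fact p.Prime] {G : Type u} [Group G] [Fintype G]

theorem small_subgroup (h : Small p G) (H : Subgroup G) [Fintype H] : Small p H := by
  intro θ
  obtain ⟨χ, hχ⟩ := exists_constituent_over H θ
  have h1 := degree_le_of_classInner_ne_zero (isCharacter_comp H.subtype (irr_isCharacter χ.2)) θ hχ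
  rw [char_one_eq_deg (irr_isCharacter θ.2),
    show ((χ : G → ℂ) ∘ H.subtype) 1 = (χ : G → ℂ) 1 from congrArg _ (map_one H.subtype),
    char_one_eq_deg (irr_isCharacter χ.2), Complex.natCast_re, Complex.natCast_re,
    Nat.cast_le] at h1
  exact h1.trans_lt (h χ)

theorem small_quotient (h : Small p G) (N : Subgroup G) [N.Normal] [Fintype (G ⧸ N)] :
    Small p (G ⧸ N) := by
  intro ψ
  have h1 := h (inflateEquiv N ψ).1
  have h2 : deg ((inflateEquiv N ψ).1 : G → ℂ) = deg (ψ : G ⧸ N → ℂ) := Nat.cast_injective (R := ℂ) (by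
    rw [← char_one_eq_deg (irr_isCharacter (inflateEquiv N ψ).1.2),
      ← char_one_eq_deg (irr_isCharacter ψ.2), inflateEquiv_apply, QuotientGroup.mk_one])
  rwa [h2] at h1

theorem sylow_commute (h : Small p G) (P : Sylow p G) :
    ∀ a ∈ (P : Subgroup G), ∀ b ∈ (P : Subgroup G), a * b = b * a := by
  classical
  intro a ha b hb
  haveI := Fintype.ofFinite (P : Subgroup G)
  set c : (P : Subgroup G) := ⁅(⟨a, ha⟩ : (P : Subgroup G)), ⟨b, hb⟩⁆ with hc
  have hval : ∀ χ : IrrCharacter G, (χ : G → ℂ) (c : G) = (χ : G → ℂ) 1 := by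
    intro χ
    refine SolvDiv.value_of_constituents χ (P : Subgroup G) fun θ hθ => ?_
    have hle : deg (θ : ↥(P : Subgroup G) → ℂ) < p := small_subgroup h _ θ
    obtain ⟨k, hk⟩ := IsPGroup.iff_card.mp P.isPGroup'
    obtain ⟨j, -, hj⟩ := (Nat.dvd_prime_pow hp.out).mp (hk ▸ deg_dvd_card θ.2)
    have hj0 : j = 0 := by
      by_contra h0
      exact absurd hle (not_lt.mpr (hj ▸ Nat.le_self_pow h0 p))
    obtain ⟨l, hl⟩ := exists_hom_of_degree_one (irr_isCharacter θ.2)
      (by rw [char_one_eq_deg (irr_isCharacter θ.2), hj, hj0, pow_zero, Nat.cast_one])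
    have h1 : l c = 1 := by rw [hc, map_commutatorElement, commutatorElement_eq_one_iff_mul_comm, mul_comm]
    rw [hl]
    show ((l c : ℂˣ) : ℂ) = ((l 1 : ℂˣ) : ℂ)
    rw [h1, map_one]
  have hc1 : (c : G) = 1 := by
    by_contra hne
    have h1 := regular_sum (c : G)
    rw [if_neg hne, Finset.sum_congr rfl fun χ _ => by rw [hval χ, ← pow_two], sum_sq_deg] at h1
    exact Nat.card_pos.ne' (Nat.cast_eq_zero.mp h1)
  rw [hc] at hc1
  exact commutatorElement_eq_one_iff_mul_comm.mp hc1

/-- A normal `p'`-subgroup is centralized by `P`. -/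
theorem commute_normal (h : Small p G) (P : Sylow p G) (N : Subgroup G) [N.Normal]
    (hNp : ¬ p ∣ Nat.card N) {x : G} (hx : x ∈ (P : Subgroup G)) : ∀ n ∈ N, Commute x n := by
  classical
  haveI := Fintype.ofFinite N
  have hinv : ∀ θ : IrrCharacter N, irrComp (MulAut.conjNormal x) θ = θ := by
    intro θ
    obtain ⟨χ, hχ⟩ := exists_constituent_over N θ
    let I : Subgroup G :=
      { carrier := {g | irrComp (MulAut.conjNormal g) θ = θ}
        one_mem' := by
          show irrComp (MulAut.conjNormal (1 : G)) θ = θ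
          exact irrComp_conj_one θ
        mul_mem' := fun {a b} (ha : _ = θ) (hb : _ = θ) => by
          show irrComp (MulAut.conjNormal (a * b)) θ = θ
          rw [← irrComp_conj_mul, ha, hb]
        inv_mem' := fun {a} (ha : _ = θ) => by
          show irrComp (MulAut.conjNormal a⁻¹) θ = θ
          conv_rhs => rw [← irrComp_conj_one θ, ← mul_inv_cancel a, ← irrComp_conj_mul, ha] }
    obtain ⟨m, hm⟩ := exists_decomposition (isCharacter_comp N.subtype (irr_isCharacter χ.2))
    have hco : classInner (fun n : N => (χ : G → ℂ) n) (θ : N → ℂ) = m θ :=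
      decomposition_coeff m hm θ
    have hmul := card_cliffOrbit_mul θ
    rw [show Nat.card {g // irrComp (MulAut.conjNormal g) θ = θ} = Nat.card I from rfl] at hmul
    have hidx : (cliffOrbit N θ).card = I.index := by
      rw [← Subgroup.index_mul_card I] at hmul
      exact Nat.eq_of_mul_eq_mul_right Nat.card_pos hmul
    have h1 := congrFun (clifford_restrict χ θ hχ) 1
    have hall' : ∀ ψ ∈ cliffOrbit N θ, (ψ : N → ℂ) 1 = (θ : N → ℂ) 1 := by
      intro ψ hψ
      obtain ⟨g, rfl⟩ := mem_cliffOrbit.mp hψ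
      rw [irrComp_apply, map_one]
    rw [Pi.smul_apply, Finset.sum_apply, Finset.sum_congr rfl hall', Finset.sum_const, smul_eq_mul,
      nsmul_eq_mul, hco, Subgroup.coe_one, char_one_eq_deg (irr_isCharacter χ.2),
      char_one_eq_deg (irr_isCharacter θ.2), hidx] at h1
    have h2 : deg (χ : G → ℂ) = m θ * (I.index * deg (θ : N → ℂ)) := by exact_mod_cast h1
    have hlt : I.index < p := lt_of_le_of_lt
      (Nat.le_of_dvd (deg_pos χ.2) ⟨m θ * deg (θ : N → ℂ), by rw [h2]; ring⟩) (h χ)
    -- the orbit of `⟨x⟩` has `p`-power order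
    have hxI : (Subgroup.zpowers x) ≤ I := by
      obtain ⟨k, hk⟩ := P.isPGroup' ⟨x, hx⟩
      have hA : IsPGroup p (Subgroup.zpowers x) := P.isPGroup'.to_le (Subgroup.zpowers_le.mpr hx)
      obtain ⟨j, hj⟩ := hA.index (I.subgroupOf (Subgroup.zpowers x))
      have hle : I.relIndex (Subgroup.zpowers x) ≤ I.index := by
        rw [← Subgroup.relIndex_top_right]
        exact Subgroup.relIndex_le_of_le_right le_top (by
          rw [Subgroup.relIndex_top_right]; exact Subgroup.index_ne_zero_of_finite)
      have hj0 : j = 0 := by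
        by_contra h0
        have h3 := Nat.le_self_pow h0 p
        rw [← hj] at h3
        exact absurd hlt (not_lt.mpr (h3.trans hle))
      rw [hj0, pow_zero] at hj
      exact Subgroup.relIndex_eq_one.mp hj
    exact hxI (Subgroup.mem_zpowers x)
  have hcls : ∀ C : ConjClasses N,
      ConjClasses.map (MulAut.conjNormal x : MulAut N).toMonoidHom C = C := by
    have h1 := card_fixed_irr_eq_card_fixed_classes (MulAut.conjNormal x : MulAut N)
    have h2 := card_fixed_irr_eq_card_fixed_classes (1 : MulAut N)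
    have h3 : ∀ C : ConjClasses N, ConjClasses.map (1 : MulAut N).toMonoidHom C = C := fun C => by
      obtain ⟨c, rfl⟩ := C.exists_rep
      rfl
    have h4 : ∀ θ : IrrCharacter N, irrComp (1 : MulAut N) θ = θ := fun θ =>
      Subtype.ext (funext fun n => by rw [irrComp_apply]; rfl)
    rw [Nat.card_congr (Equiv.subtypeUnivEquiv hinv)] at h1
    rw [Nat.card_congr (Equiv.subtypeUnivEquiv h4), Nat.card_congr (Equiv.subtypeUnivEquiv h3), h1]
      at h2
    intro C
    by_contra hC
    have h5 : Nat.card {C : ConjClasses N //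
        ConjClasses.map (MulAut.conjNormal x : MulAut N).toMonoidHom C = C} <
        Nat.card (ConjClasses N) := by
      rw [Nat.card_eq_fintype_card, Nat.card_eq_fintype_card]
      exact Fintype.card_subtype_lt hC
    exact h5.ne h2
  have hco : (orderOf x).Coprime (Nat.card N) := by
    obtain ⟨k, hk⟩ := IsPGroup.iff_orderOf.mp P.isPGroup' ⟨x, hx⟩
    rw [Subgroup.orderOf_mk] at hk
    rw [hk]
    exact Nat.Coprime.pow_left k (hp.out.coprime_iff_not_dvd.mpr hNp)
  have htop : (Subgroup.centralizer ({x} : Set G)).subgroupOf N = ⊤ := by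
    refine Solv.eq_top_of_forall_conj_mem _ fun n => ?_
    obtain ⟨m, hm, hxm⟩ := exists_fixed_of_fixed_class N x hco n (hcls _)
    obtain ⟨c, hc⟩ := isConj_iff.1 (ConjClasses.mk_eq_mk_iff_isConj.1 hm.symm)
    refine ⟨c, ?_⟩
    rw [hc, Subgroup.mem_subgroupOf, Subgroup.mem_centralizer_singleton_iff]
    exact hxm.symm
  intro n hn
  have h1 : (⟨n, hn⟩ : N) ∈ (Subgroup.centralizer ({x} : Set G)).subgroupOf N := htop ▸ trivial
  exact (Subgroup.mem_centralizer_singleton_iff.mp (Subgroup.mem_subgroupOf.mp h1)).symm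

theorem card_centralizer_mul (x : G) :
    Nat.card {y : G // IsConj x y} * Nat.card (Subgroup.centralizer ({x} : Set G)) = Nat.card G := by
  classical
  have h := MulAction.card_orbit_mul_card_stabilizer_eq_card_group (ConjAct G) x
  rw [← Nat.card_eq_fintype_card, ← Nat.card_eq_fintype_card, ← Nat.card_eq_fintype_card] at h
  rw [show Nat.card {y : G // IsConj x y} = Nat.card (MulAction.orbit (ConjAct G) x) from
    Nat.card_congr (Equiv.subtypeEquivRight fun y => by
      rw [ConjAct.mem_orbit_conjAct, isConj_comm]),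
    show Nat.card (Subgroup.centralizer ({x} : Set G)) =
      Nat.card (MulAction.stabilizer (ConjAct G) x) from
      Nat.card_congr (Equiv.subtypeEquiv ConjAct.toConjAct.toEquiv fun g => by
        rw [Subgroup.mem_centralizer_singleton_iff, MulAction.mem_stabilizer_iff,
          ConjAct.smul_def]
        exact mul_inv_eq_iff_eq_mul.symm)]
  exact h

/-- Some class other than the trivial one has fewer than `p ^ 2` elements. -/
theorem exists_small_class (h : Small p G) [Nontrivial G] :
    ∃ x : G, x ≠ 1 ∧ (Subgroup.centralizer ({x} : Set G)).index < p ^ 2 := by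
  classical
  by_contra hno
  push Not at hno
  have hk : Nat.card (IrrCharacter G) = Nat.card (ConjClasses G) := by
    have h2 := card_fixed_irr_eq_card_fixed_classes (1 : MulAut G)
    have h3 : ∀ C : ConjClasses G, ConjClasses.map (1 : MulAut G).toMonoidHom C = C := fun C => by
      obtain ⟨c, rfl⟩ := C.exists_rep
      rfl
    have h4 : ∀ θ : IrrCharacter G, irrComp (1 : MulAut G) θ = θ := fun θ =>
      Subtype.ext (funext fun n => by rw [irrComp_apply]; rfl)
    rwa [Nat.card_congr (Equiv.subtypeUnivEquiv h4), Nat.card_congr (Equiv.subtypeUnivEquiv h3)] at h2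
  set k := Nat.card (ConjClasses G) with hkd
  set g := Nat.card G with hg
  -- class sizes
  have hcomm : ∑ x : G, Nat.card (Subgroup.centralizer ({x} : Set G)) = k * g := by
    rw [hkd, hg, ← card_comm_eq_card_conjClasses_mul_card,
      ← Nat.card_congr (Equiv.subtypeProdEquivSigmaSubtype fun a b : G => Commute a b).symm,
      Nat.card_sigma]
    refine Finset.sum_congr rfl fun x _ => Nat.card_congr (Equiv.subtypeEquivRight fun y => ?_)
    rw [Subgroup.mem_centralizer_singleton_iff]
    exact ⟨fun e => e.symm, fun e => e.symm⟩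
  have hup : k * g * p ^ 2 ≤ g * p ^ 2 + (g - 1) * g := by
    rw [← hcomm, Finset.sum_mul, ← Finset.add_sum_erase _ _ (Finset.mem_univ (1 : G))]
    refine add_le_add ?_ ?_
    · exact Nat.mul_le_mul_right _ (Subgroup.card_le_card_group _)
    · calc ∑ x ∈ Finset.univ.erase (1 : G), Nat.card (Subgroup.centralizer ({x} : Set G)) * p ^ 2
          ≤ ∑ x ∈ Finset.univ.erase (1 : G), g := Finset.sum_le_sum fun x hx => by
            rw [hg, ← Subgroup.card_mul_index (Subgroup.centralizer ({x} : Set G))]
            exact Nat.mul_le_mul_left _ (hno x (Finset.ne_of_mem_erase hx))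
        _ = (g - 1) * g := by
          rw [Finset.sum_const, Finset.card_erase_of_mem (Finset.mem_univ _), Finset.card_univ,
            ← Nat.card_eq_fintype_card, smul_eq_mul]
  set one : IrrCharacter G := ⟨fun _ => 1, isIrrCharacter_one⟩
  have hone : deg (one : G → ℂ) = 1 := Nat.cast_injective (R := ℂ) (by
    rw [← char_one_eq_deg (irr_isCharacter one.2), Nat.cast_one])
  have hsum : g = ∑ χ : IrrCharacter G, deg (χ : G → ℂ) ^ 2 := Nat.cast_injective (R := ℂ) (by
    rw [Nat.cast_sum, hg, ← sum_sq_deg]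
    exact Finset.sum_congr rfl fun χ _ => by rw [char_one_eq_deg (irr_isCharacter χ.2), Nat.cast_pow])
  have hlow : g ≤ 1 + (k - 1) * (p - 1) ^ 2 := by
    rw [hsum, ← Finset.add_sum_erase _ _ (Finset.mem_univ one), hone, one_pow]
    refine add_le_add le_rfl ?_
    calc ∑ χ ∈ Finset.univ.erase one, deg (χ : G → ℂ) ^ 2
        ≤ ∑ χ ∈ Finset.univ.erase one, (p - 1) ^ 2 := Finset.sum_le_sum fun χ _ =>
          Nat.pow_le_pow_left (Nat.le_sub_one_of_lt (h χ)) 2
      _ = (k - 1) * (p - 1) ^ 2 := by
        rw [Finset.sum_const, Finset.card_erase_of_mem (Finset.mem_univ _), Finset.card_univ,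
          ← Nat.card_eq_fintype_card, hk, smul_eq_mul]
  have hg1 : 1 < g := Finite.one_lt_card
  have hk1 : 1 ≤ k := Nat.card_pos
  have hlt : (p - 1) ^ 2 < p ^ 2 := Nat.pow_lt_pow_left (Nat.sub_lt hp.out.pos one_pos) two_ne_zero
  clear_value k g
  obtain ⟨k', rfl⟩ : ∃ k', k = k' + 1 := ⟨k - 1, (Nat.sub_add_cancel hk1).symm⟩
  obtain ⟨g', rfl⟩ : ∃ g', g = g' + 1 := ⟨g - 1, (Nat.sub_add_cancel hg1.le).symm⟩
  simp only [Nat.add_sub_cancel] at hup hlow
  have h1 : k' * p ^ 2 ≤ g' := by
    have : (g' + 1) * (k' * p ^ 2) ≤ (g' + 1) * g' := by linarith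
    exact Nat.le_of_mul_le_mul_left this (Nat.succ_pos _)
  have hk' : k' ≠ 0 := by
    rintro rfl
    simp only [zero_mul, add_zero] at hlow
    omega
  have h2 : k' * (p - 1) ^ 2 < k' * p ^ 2 := Nat.mul_lt_mul_of_pos_left hlt (Nat.pos_of_ne_zero hk')
  omega

/-- A simple group with a Sylow subgroup of prime order has a degree at least `p`. -/
theorem not_simple_prime (h : Small p G) [IsSimpleGroup G] (hna : ¬ ∀ a b : G, a * b = b * a)
    (P : Sylow p G) (hP : Nat.card P = p) : False := by
  classical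
  have hp' := hp.out
  have hp3 : 3 ≤ p := by
    by_contra hlt
    refine hna (forall_linear_iff_comm.mpr fun χ => ?_)
    have := h χ
    have := deg_pos χ.2
    have h1 : deg (χ : G → ℂ) = 1 := by have := hp'.two_le; omega
    rw [char_one_eq_deg (irr_isCharacter χ.2), h1, Nat.cast_one]
  obtain ⟨M, hM⟩ := exists_pModular hp'
  set e := (Subgroup.centralizer ((P : Subgroup G) : Set G)).relIndex
      (Subgroup.normalizer ((P : Subgroup G) : Set G)) with hedef
  obtain ⟨X, Y, a, δ, hS⟩ := exists_prime_principal hM hP (e := e) hedef.symm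
  have hF : FrobSylow P e := hedef ▸ frobSylow_of_prime hP
  haveI := hF.finite_dual.1
  haveI : Fintype (↥(P : Subgroup G) →* ℂˣ) := Fintype.ofFinite _
  obtain ⟨r, -, -, hr0, hre, -⟩ := hF.exists_orbit_index
  rw [hP] at hre
  have he0 : 0 < e := by
    refine Nat.pos_of_ne_zero fun h0 => ?_
    rw [h0, mul_zero] at hre
    omega
  have hdiv : (p - 1) / e = r := by rw [← hre, Nat.add_sub_cancel, Nat.mul_div_cancel _ he0]
  have hYne : Y.Nonempty := Finset.card_pos.mp (by rw [hS.cardY, hdiv]; exact hr0)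
  set one : IrrCharacter G := ⟨fun _ => 1, isIrrCharacter_one⟩ with honedef
  have hone : deg (one : G → ℂ) = 1 := Nat.cast_injective (R := ℂ) (by
    rw [← char_one_eq_deg (irr_isCharacter one.2), Nat.cast_one])
  have hker : ∀ χ : IrrCharacter G, χ ≠ one → ∀ g : G, (χ : G → ℂ) g = (χ : G → ℂ) 1 → g = 1 := by
    intro χ hχ g hg
    obtain ⟨K, hKn, hK⟩ := exists_charKernel (irr_isCharacter χ.2)
    rcases hKn.eq_bot_or_eq_top with hb | ht
    · have := (hK g).mpr hg
      rwa [hb, Subgroup.mem_bot] at this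
    · exfalso
      refine hna fun u v => ?_
      have hc : ∀ w : G, (χ : G → ℂ) w = (χ : G → ℂ) 1 := fun w => (hK w).mp (ht ▸ trivial)
      exfalso
      refine hχ (Subtype.ext (funext fun w => ?_))
      show (χ : G → ℂ) w = 1
      have h1 := irr_self χ.2
      rw [classInner, Finset.sum_congr rfl fun z _ => by rw [hc z],
        Finset.sum_const, Finset.card_univ, ← Nat.card_eq_fintype_card, nsmul_eq_mul, ← mul_assoc,
        inv_mul_cancel₀ (Nat.cast_ne_zero.mpr Nat.card_pos.ne'), one_mul,
        char_one_eq_deg (irr_isCharacter χ.2), Complex.conj_natCast, ← Nat.cast_mul,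
        Nat.cast_eq_one, mul_eq_one] at h1
      rw [hc w, char_one_eq_deg (irr_isCharacter χ.2), h1.1, Nat.cast_one]
  have hdeg2 : ∀ χ : IrrCharacter G, χ ≠ one → 2 ≤ deg (χ : G → ℂ) := by
    intro χ hχ
    have := deg_pos χ.2
    by_contra hlt
    obtain ⟨l, hl⟩ := exists_hom_of_degree_one (irr_isCharacter χ.2)
      (by rw [char_one_eq_deg (irr_isCharacter χ.2), show deg (χ : G → ℂ) = 1 by omega, Nat.cast_one])
    refine hna fun u v => commutatorElement_eq_one_iff_mul_comm.mp (hker χ hχ _ ?_)
    rw [hl]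
    show ((l ⁅u, v⁆ : ℂˣ) : ℂ) = ((l 1 : ℂˣ) : ℂ)
    rw [map_commutatorElement, commutatorElement_eq_one_iff_mul_comm.mpr (mul_comm (l u) (l v)),
      map_one]
  have hXdeg : ∀ χ ∈ X, χ ≠ one → a χ = -1 ∧ deg (χ : G → ℂ) = p - 1 := by
    intro χ hχ hne
    have h1 := hdeg2 χ hne
    have h2 := h χ
    have h3 := hS.a_congr χ hχ
    rw [charDegree_eq_deg] at h3
    rcases hS.a_sign χ hχ with ha | ha
    · exfalso
      rw [ha, Int.modEq_comm, Int.modEq_iff_dvd] at h3
      have := Int.le_of_dvd (by omega) h3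
      omega
    · refine ⟨ha, ?_⟩
      rw [ha, Int.modEq_comm, Int.modEq_iff_dvd] at h3
      have := Int.le_of_dvd (by omega) h3
      omega
  have h1ord : ¬ p ∣ orderOf (1 : G) := by rw [orderOf_one]; exact hp'.not_dvd_one
  have hrel : ∀ θ ∈ Y, δ * (deg (θ : G → ℂ) : ℤ) = ∑ χ ∈ X, a χ * (deg (χ : G → ℂ) : ℤ) := by
    intro θ hθ
    have h1 := hS.rel θ hθ 1 h1ord
    rw [char_one_eq_deg (irr_isCharacter θ.2),
      Finset.sum_congr rfl fun χ _ => by rw [char_one_eq_deg (irr_isCharacter χ.2)]] at h1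
    exact_mod_cast h1
  have hsumX : ∑ χ ∈ X.erase one, a χ * (deg (χ : G → ℂ) : ℤ) =
      -(((X.erase one).card : ℤ) * ((p : ℤ) - 1)) := by
    rw [Finset.sum_congr rfl fun χ hχ => by
      rw [(hXdeg χ (Finset.mem_of_mem_erase hχ) (Finset.ne_of_mem_erase hχ)).1,
        (hXdeg χ (Finset.mem_of_mem_erase hχ) (Finset.ne_of_mem_erase hχ)).2, Nat.cast_sub (by omega),
        Nat.cast_one], Finset.sum_const, nsmul_eq_mul]
    ring
  obtain ⟨θ, hθ⟩ := hYne
  have hPne : (P : Subgroup G) ≠ ⊥ := fun hb => hp'.one_lt.ne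
    ((Subgroup.card_eq_one.mpr hb).symm.trans hP)
  obtain ⟨⟨y0, hy0P⟩, hy0'⟩ := Subgroup.ne_bot_iff_exists_ne_one.mp hPne
  have hy0 : y0 ≠ 1 := fun e' => hy0' (Subtype.ext e')
  rcases (hS.mem_iff one).mp (one_mem_principal hM) with h1X | h1Y
  swap
  · have h1 := hrel one h1Y
    have hnot : one ∉ X := Finset.disjoint_right.mp hS.disj h1Y
    rw [hone, ← Finset.erase_eq_of_notMem hnot, hsumX, Finset.erase_eq_of_notMem hnot, hS.cardX] at h1
    rcases hS.sign with hd | hd <;> rw [hd] at h1 <;> push_cast at h1 <;> nlinarith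
  have hθ1 : θ ≠ one := fun e' => Finset.disjoint_left.mp hS.disj h1X (e' ▸ hθ)
  have ha1 : a one = 1 := by
    have h1 := hS.a_val one h1X ⟨y0, hy0P⟩ (mem_nonOne.mpr hy0)
    have h2 : (1 : ℂ) = (a one : ℂ) := h1
    exact_mod_cast h2.symm
  have h1 := hrel θ hθ
  rw [← Finset.add_sum_erase _ _ h1X, hsumX, ha1, hone, Finset.card_erase_of_mem h1X, hS.cardX,
    Nat.cast_sub he0, Nat.cast_one] at h1
  have hθlo := hdeg2 θ hθ1
  have hθhi := h θ
  have he2 : e = 2 := by
    rcases hS.sign with hd | hd <;> rw [hd] at h1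
    · exfalso
      rcases Nat.lt_or_ge e 2 with h2 | h2
      · rw [show e = 1 by omega] at h1
        push_cast at h1
        omega
      · have h2' : (2 : ℤ) ≤ e := by exact_mod_cast h2
        nlinarith [h1, hθlo, hp3]
    · rcases Nat.lt_or_ge e 3 with h2 | h2
      · by_contra hne
        rw [show e = 1 by omega] at h1
        push_cast at h1
        omega
      · exfalso
        have h2' : (3 : ℤ) ≤ e := by exact_mod_cast h2
        nlinarith [h1, hθhi, hp3]
  have hδ : δ = -1 := by
    rcases hS.sign with hd | hd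
    · exfalso
      rw [hd, he2] at h1
      push_cast at h1
      omega
    · exact hd
  have hdθ : deg (θ : G → ℂ) = p - 2 := by
    rw [hδ, he2] at h1
    push_cast at h1
    omega
  -- the nontrivial character in `X`
  obtain ⟨χ1, hχ1X, hχ1⟩ : ∃ χ ∈ X, χ ≠ one :=
    Finset.exists_mem_ne (by rw [hS.cardX, he2]; norm_num) one
  obtain ⟨haχ1, hdχ1⟩ := hXdeg χ1 hχ1X hχ1
  have hsy : (fun y : (P : Subgroup G) => (χ1 : G → ℂ) y) = fun y : (P : Subgroup G) =>
      if y = 1 then ((p - 1 : ℕ) : ℂ) else -1 := by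
    funext y
    split_ifs with hy
    · rw [hy, OneMemClass.coe_one, char_one_eq_deg (irr_isCharacter χ1.2), hdχ1]
    · rw [hS.a_val χ1 hχ1X y (mem_nonOne.mpr fun e' => hy (Subtype.ext e')), haχ1]
      norm_num
  -- elements centralizing a non-trivial element of `P`
  have hV : ∀ y ∈ (P : Subgroup G), y ≠ 1 → ∀ v : G, Commute y v → ¬ p ∣ orderOf v → v = 1 := by
    intro y hy hy1 v hv hvp
    have hval : ∀ z : (P : Subgroup G), z ≠ 1 → (χ1 : G → ℂ) ((z : G) * v) = -1 := by
      intro z hz
      have hz1 : (z : G) ≠ 1 := fun e' => hz (Subtype.ext e')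
      obtain ⟨i, hi⟩ := Subgroup.mem_zpowers_iff.mp
        (show (z : G) ∈ Subgroup.zpowers y by rw [eq_zpowers_of_prime_sylow hP hy hy1]; exact z.2)
      have hzv : Commute (z : G) v := hi ▸ hv.zpow_left i
      rw [hF.principal_const hM ((hS.mem_iff χ1).mpr (Or.inl hχ1X)) hz1
        ⟨v, Subgroup.mem_centralizer_singleton_iff.mpr hzv.eq.symm⟩
        (by rwa [Subgroup.orderOf_mk]), congrFun hsy z, if_neg hz]
    obtain ⟨d, ρ, hρi, hρ⟩ := χ1.2
    set T : Module.End ℂ (Fin d → ℂ) := ∑ z : (P : Subgroup G), ρ (z : G) with hT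
    have htrT : LinearMap.trace ℂ _ T = 0 := by
      rw [hT, map_sum]
      show ∑ z : (P : Subgroup G), ρ.character (z : G) = 0
      rw [hρ, Finset.sum_congr rfl fun z _ => congrFun hsy z,
        ← Finset.add_sum_erase _ _ (Finset.mem_univ 1), if_pos rfl,
        Finset.sum_congr rfl fun z hz => if_neg (Finset.ne_of_mem_erase hz), Finset.sum_const,
        Finset.card_erase_of_mem (Finset.mem_univ _), Finset.card_univ, ← Nat.card_eq_fintype_card, hP,
        nsmul_eq_mul]
      ring
    have hTT : T * T = (p : ℂ) • T := by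
      conv_lhs => rw [hT, Finset.sum_mul]
      rw [Finset.sum_congr rfl (g := fun _ => T) fun z _ => by
        rw [Finset.mul_sum, hT]
        exact Fintype.sum_equiv (Equiv.mulLeft z) _ _ fun w => by
          rw [← map_mul]; rfl]
      rw [Finset.sum_const, Finset.card_univ, ← Nat.card_eq_fintype_card, hP, ← Nat.cast_smul_eq_nsmul ℂ]
    have hT0 : T = 0 := by
      have hpC : (p : ℂ) ≠ 0 := Nat.cast_ne_zero.mpr hp'.ne_zero
      set E : Module.End ℂ (Fin d → ℂ) := (p : ℂ)⁻¹ • T with hE
      have hEE : IsIdempotentElem E := by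
        rw [IsIdempotentElem, hE, smul_mul_smul_comm, hTT, smul_smul]
        congr 1
        field_simp
      have hproj := LinearMap.IsProj.trace ((LinearMap.isProj_range_iff_isIdempotentElem E).mpr hEE)
      rw [hE, map_smul, htrT, smul_zero, eq_comm, Nat.cast_eq_zero, Submodule.finrank_eq_zero,
        LinearMap.range_eq_bot, smul_eq_zero] at hproj
      exact hproj.resolve_left (inv_ne_zero hpC)
    have h2 : ∑ z : (P : Subgroup G), (χ1 : G → ℂ) ((z : G) * v) = 0 := by
      rw [← hρ]
      show ∑ z : (P : Subgroup G), LinearMap.trace ℂ _ (ρ ((z : G) * v)) = 0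
      simp only [map_mul]
      rw [← map_sum, ← Finset.sum_mul, ← hT, hT0, zero_mul, map_zero]
    rw [← Finset.add_sum_erase _ _ (Finset.mem_univ 1),
      Finset.sum_congr rfl fun z hz => hval z (Finset.ne_of_mem_erase hz), Finset.sum_const,
      Finset.card_erase_of_mem (Finset.mem_univ _), Finset.card_univ, ← Nat.card_eq_fintype_card, hP,
      nsmul_eq_mul, OneMemClass.coe_one, one_mul] at h2
    refine hker χ1 hχ1 v ?_
    rw [char_one_eq_deg (irr_isCharacter χ1.2), hdχ1]
    linear_combination h2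
  have hcent : Subgroup.centralizer ({y0} : Set G) = (P : Subgroup G) := by
    refine le_antisymm (fun g hg => ?_) fun g hg => Subgroup.mem_centralizer_singleton_iff.mpr
      (sylow_commute h P g hg y0 hy0P)
    have hgc : Commute g y0 := Subgroup.mem_centralizer_singleton_iff.mp hg
    obtain ⟨hpp, hvp, -⟩ := preg_spec hp' g
    have hvC := preg_mem_zpowers hp' g hg
    have hv1 := hV y0 hy0P hy0 (preg p g)
      (Subgroup.mem_centralizer_singleton_iff.mp hvC : Commute (preg p g) y0).symm hvp
    rw [hv1, inv_one, mul_one] at hpp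
    obtain ⟨w, -, -, hk, -⟩ := hpp
    refine mem_sylow_of_commute P (isPGroup_of_ppower hp' hk) ?_
    rw [← eq_zpowers_of_prime_sylow hP hy0P hy0, Subgroup.mem_centralizer_iff]
    intro w hw
    obtain ⟨i, rfl⟩ := Subgroup.mem_zpowers_iff.mp hw
    exact (hgc.zpow_right i).symm.eq
  have hall : ∀ χ : IrrCharacter G, χ ∈ principalBlock M G := by
    intro χ
    by_contra hχ
    have hz : ∀ y ∈ nonOne P, (χ : G → ℂ) (y : G) = 0 := by
      intro y hy
      have hy1 := mem_nonOne.mp hy
      have hcy : Subgroup.centralizer ({(y : G)} : Set G) = (P : Subgroup G) := by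
        refine (le_antisymm (fun g hg => ?_) fun g hg => ?_).trans hcent
        · obtain ⟨i, hi⟩ := Subgroup.mem_zpowers_iff.mp
            (show y0 ∈ Subgroup.zpowers (y : G) by rw [eq_zpowers_of_prime_sylow hP y.2 hy1]; exact hy0P)
          rw [← hi, Subgroup.mem_centralizer_singleton_iff]
          exact (Commute.zpow_right (Subgroup.mem_centralizer_singleton_iff.mp hg : Commute g (y : G)) i).eq
        · obtain ⟨i, hi⟩ := Subgroup.mem_zpowers_iff.mp
            (show (y : G) ∈ Subgroup.zpowers y0 by rw [eq_zpowers_of_prime_sylow hP hy0P hy0]; exact y.2)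
          rw [← hi, Subgroup.mem_centralizer_singleton_iff]
          exact (Commute.zpow_right (Subgroup.mem_centralizer_singleton_iff.mp hg : Commute g y0) i).eq
      have h1 := second_orth (y : G) y
      have hc0 := card_centralizer_mul (y : G)
      rw [hcy, hP] at hc0
      rw [if_pos (IsConj.refl _), ← hc0, Nat.cast_mul,
        mul_div_cancel_left₀ _ (Nat.cast_ne_zero.mpr (card_conjClass_ne_zero _)),
        ← Finset.sum_filter_add_sum_filter_not Finset.univ (fun ψ => ψ ∈ principalBlock M G),
        hF.sum_norm_principal hM hy1, hP, add_eq_left] at h1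
      simp only [Complex.mul_conj, ← Complex.ofReal_sum, Complex.ofReal_eq_zero] at h1
      have h2 := (Finset.sum_eq_zero_iff_of_nonneg fun ψ _ => Complex.normSq_nonneg _).mp h1 χ
        (Finset.mem_filter.mpr ⟨Finset.mem_univ _, hχ⟩)
      exact Complex.normSq_eq_zero.mp h2
    obtain ⟨n, hn⟩ := exists_sum_on_sylow (P := P) χ
    have h1 := FrobSylow.sum_nonOne (P := P) fun y => (χ : G → ℂ) (y : G)
    rw [Finset.sum_eq_zero hz, hn, hP, OneMemClass.coe_one, char_one_eq_deg (irr_isCharacter χ.2)] at h1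
    have h2 : deg (χ : G → ℂ) = p * n := by exact_mod_cast (eq_of_sub_eq_zero h1.symm).symm
    have := h χ
    have := deg_pos χ.2
    rcases Nat.eq_zero_or_pos n with rfl | hn0
    · omega
    · have := Nat.le_mul_of_pos_right p hn0
      omega
  have hg : Nat.card G = 1 + ((p - 1) ^ 2 + Y.card * (p - 2) ^ 2) := by
    have h2 : (Nat.card G : ℂ) = ∑ χ : IrrCharacter G, ((deg (χ : G → ℂ) ^ 2 : ℕ) : ℂ) := by
      rw [← sum_sq_deg]
      exact Finset.sum_congr rfl fun χ _ => by rw [char_one_eq_deg (irr_isCharacter χ.2), Nat.cast_pow]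
    rw [← Nat.cast_sum, Nat.cast_inj] at h2
    have huniv : (Finset.univ : Finset (IrrCharacter G)) = X ∪ Y := by
      ext χ
      simpa using (hS.mem_iff χ).mp (hall χ)
    rw [h2, huniv, Finset.sum_union hS.disj, ← Finset.add_sum_erase _ _ h1X, hone, one_pow, add_assoc]
    congr 1
    congr 1
    · rw [Finset.sum_congr rfl fun χ hχ => by
        rw [(hXdeg χ (Finset.mem_of_mem_erase hχ) (Finset.ne_of_mem_erase hχ)).2], Finset.sum_const,
        Finset.card_erase_of_mem h1X, hS.cardX, he2]
      simp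
    · rw [Finset.sum_congr rfl fun θ' hθ' => by
        rw [show deg (θ' : G → ℂ) = p - 2 from by
          have := hrel θ' hθ'
          rw [← hrel θ hθ, hδ] at this
          omega], Finset.sum_const, smul_eq_mul]
  have hd : p - 2 ∣ 1 + (p - 1) ^ 2 := by
    have h2 := deg_dvd_card θ.2
    rw [hdθ, hg, ← add_assoc] at h2
    exact (Nat.dvd_add_left (dvd_mul_of_dvd_right (dvd_pow_self _ two_ne_zero) _)).mp h2
  obtain ⟨m, hm⟩ : ∃ m, p = m + 2 := ⟨p - 2, by omega⟩
  rw [show p - 2 = m by omega, show p - 1 = m + 1 by omega] at hd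
  have h2 : m ∣ 2 := by
    have e' : 1 + (m + 1) ^ 2 = 2 + m * (m + 2) := by ring
    rw [e'] at hd
    exact (Nat.dvd_add_left (dvd_mul_right m _)).mp hd
  have hm2 : m ≤ 2 := Nat.le_of_dvd two_pos h2
  interval_cases m
  · omega
  · omega
  · rw [hm] at hp'
    norm_num at hp'

theorem main :
    ∀ (N : ℕ) (G : Type u) [Group G] [Fintype G], Nat.card G = N → Small p G →
      ∀ P : Sylow p G, (P : Subgroup G).Normal := by
  intro N
  induction N using Nat.strong_induction_on with
  | _ N ih =>
    intro G _ _ hN h P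
    classical
    have hp' := hp.out
    by_contra hP
    have hPab := sylow_commute h P
    have hprop : ∀ L : Subgroup G, L ≠ ⊤ → ∀ Q : Sylow p L, (Q : Subgroup L).Normal := by
      intro L hL Q
      haveI := Fintype.ofFinite L
      refine ih (Nat.card L) ?_ L rfl (small_subgroup h L) Q
      rw [← hN]
      exact lt_of_le_of_ne (Subgroup.card_le_card_group L) fun e =>
        hL (Subgroup.eq_top_of_card_eq L e)
    have hjoin : ∀ L : Subgroup G, L.Normal → L ≠ ⊥ → (P : Subgroup G) ⊔ L = ⊤ := by
      intro L hL hLne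
      haveI := hL
      by_contra hne
      haveI : Fintype (G ⧸ L) := Fintype.ofFinite _
      have hlt : Nat.card (G ⧸ L) < N := by
        rw [← hN, Subgroup.card_eq_card_quotient_mul_card_subgroup L]
        exact lt_mul_of_one_lt_right Nat.card_pos
          ((Subgroup.one_lt_card_iff_ne_bot L).mpr hLne)
      have hn := ih _ hlt (G ⧸ L) rfl (small_quotient h L)
        (P.mapSurjective (QuotientGroup.mk'_surjective L))
      rw [Sylow.coe_mapSurjective] at hn
      haveI : ((P : Subgroup G) ⊔ L).Normal := by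
        have := hn.comap (QuotientGroup.mk' L)
        rwa [Subgroup.comap_map_eq, QuotientGroup.ker_mk'] at this
      exact hP (SmallSylow.normal_of_le P _ le_sup_left (hprop _ hne))
    by_cases hsimple : ∀ L : Subgroup G, L.Normal → L = ⊥ ∨ L = ⊤
    swap
    · push Not at hsimple
      obtain ⟨L, hL, hLne, hLtop⟩ := hsimple
      haveI := hL
      obtain ⟨S⟩ : Nonempty (Sylow p L) := inferInstance
      haveI hSn : (S : Subgroup L).Normal := hprop L hLtop S
      haveI : (S : Subgroup L).Characteristic := S.characteristic_of_normal hSn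
      set S' := (S : Subgroup L).map L.subtype with hS'
      haveI hS'n : S'.Normal := ConjAct.normal_of_characteristic_of_normal
      have hS'P : S' ≤ (P : Subgroup G) := (S.isPGroup'.map _).le_sylow_of_normal P
      by_cases hbot : S' = ⊥
      · have hLp : ¬ p ∣ Nat.card L := by
          intro hd
          have h1 := S.ne_bot_of_dvd_card hd
          exact h1 ((Subgroup.map_eq_bot_iff_of_injective _ L.subtype_injective).mp hbot)
        refine hP (Subgroup.normalizer_eq_top_iff.mp (eq_top_iff.mpr ((hjoin L hL hLne) ▸ sup_le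
          Subgroup.le_normalizer fun l hl => ?_)))
        exact Subgroup.centralizer_le_normalizer _ (Subgroup.mem_centralizer_iff.mpr fun x hx =>
          (commute_normal h P L hLp hx l hl).eq)
      · have h1 := hjoin S' hS'n hbot
        rw [sup_eq_left.mpr hS'P] at h1
        exact hP (h1 ▸ inferInstance)
    haveI : Nontrivial G := by
      rw [← not_subsingleton_iff_nontrivial]
      intro hs
      exact hP ⟨fun a ha g => by rw [Subsingleton.elim (g * a * g⁻¹) a]; exact ha⟩
    haveI : IsSimpleGroup G := ⟨fun L hL => hsimple L hL⟩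
    have hna : ¬ ∀ a b : G, a * b = b * a := fun hc =>
      hP ⟨fun a ha g => by rw [hc g a, mul_inv_cancel_right]; exact ha⟩
    obtain ⟨k, hk⟩ := IsPGroup.iff_card.mp P.isPGroup'
    rcases Nat.lt_or_ge k 2 with hk2 | hk2
    · interval_cases k
      · exact hP ((Subgroup.card_eq_one.mp (by rw [hk, pow_zero]) : (P : Subgroup G) = ⊥) ▸
          inferInstance)
      · exact not_simple_prime h hna P (by rw [hk, pow_one])
    obtain ⟨x, hx1, hxi⟩ := exists_small_class h (G := G)
    set C := Subgroup.centralizer ({x} : Set G) with hC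
    have hCtop : C ≠ ⊤ := by
      intro e
      have hz : x ∈ Subgroup.center G := Subgroup.mem_center_iff.mpr fun g =>
        Subgroup.mem_centralizer_singleton_iff.mp (e ▸ Subgroup.mem_top g : g ∈ C)
      rcases hsimple (Subgroup.center G) inferInstance with hb | ht
      · exact hx1 (by rwa [hb, Subgroup.mem_bot] at hz)
      · exact hna fun a b => (Subgroup.mem_center_iff.mp (ht ▸ Subgroup.mem_top b) a)
    obtain ⟨S⟩ : Nonempty (Sylow p C) := inferInstance
    haveI hSn : (S : Subgroup C).Normal := hprop C hCtop S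
    set S' := (S : Subgroup C).map C.subtype with hS'
    have hpC : p ∣ Nat.card C := by
      by_contra hnd
      have h1 : p ^ 2 ∣ Nat.card C * C.index := by
        rw [Subgroup.card_mul_index]
        exact (pow_dvd_pow p hk2).trans (hk ▸ Subgroup.card_subgroup_dvd_card (P : Subgroup G))
      exact absurd (Nat.le_of_dvd (Nat.pos_of_ne_zero Subgroup.index_ne_zero_of_finite)
        ((Nat.Coprime.pow_left 2 (hp'.coprime_iff_not_dvd.mpr hnd)).dvd_of_dvd_mul_left h1))
        (not_le.mpr hxi)
    have hS'ne : S' ≠ ⊥ := fun e => S.ne_bot_of_dvd_card hpC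
      ((Subgroup.map_eq_bot_iff_of_injective _ C.subtype_injective).mp e)
    have hNtop : Subgroup.normalizer (S' : Set G) ≠ ⊤ := fun e => by
      rcases hsimple S' (Subgroup.normalizer_eq_top_iff.mp e) with hb | ht
      · exact hS'ne hb
      · exact hCtop (top_le_iff.mp (ht ▸ Subgroup.map_subtype_le _))
    have hCN : C ≤ Subgroup.normalizer (S' : Set G) := by
      rw [hS']
      have := (Subgroup.normalizer_eq_top (H := (S : Subgroup C)))
      intro c hc
      rw [Subgroup.mem_normalizer_iff]
      intro s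
      constructor
      · rintro ⟨t, ht, rfl⟩
        exact ⟨⟨c, hc⟩ * t * ⟨c, hc⟩⁻¹, hSn.conj_mem t ht _, rfl⟩
      · rintro ⟨t, ht, e'⟩
        refine ⟨⟨c, hc⟩⁻¹ * t * ⟨c, hc⟩, ?_, ?_⟩
        · have := hSn.conj_mem t ht (⟨c, hc⟩⁻¹)
          rwa [inv_inv] at this
        · show c⁻¹ * (C.subtype t) * c = s
          rw [e']
          group
    obtain ⟨P0, hP0⟩ := (S.isPGroup'.map C.subtype).exists_le_sylow
    have hP0ab := sylow_commute h P0
    have hP0N : (P0 : Subgroup G) ≤ Subgroup.normalizer (S' : Set G) := fun g hg =>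
      Subgroup.centralizer_le_normalizer _ (Subgroup.mem_centralizer_iff.mpr fun s hs =>
        hP0ab s (hP0 hs) g hg)
    -- a proper subgroup contains at most one Sylow subgroup
    have huniq : ∀ L : Subgroup G, L ≠ ⊤ → ∀ Q : Sylow p G, (Q : Subgroup G) ≤ L →
        L ≤ Subgroup.normalizer ((Q : Subgroup G) : Set G) ∧
          ∀ R : Sylow p G, (R : Subgroup G) ≤ L → R = Q := by
      intro L hL Q hQ
      haveI hn := hprop L hL (Q.subtype hQ)
      rw [Sylow.coe_subtype] at hn
      refine ⟨Subgroup.normal_subgroupOf_iff_le_normalizer hQ |>.mp hn, fun R hR => Sylow.ext ?_⟩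
      have hn' : ((Q.subtype hQ : Sylow p L) : Subgroup L).Normal := hprop L hL _
      haveI := hn'
      have h1 : ((Q.subtype hQ : Sylow p L) : Subgroup L) ≤ (R.subtype hR : Sylow p L) :=
        IsPGroup.le_sylow_of_normal (Q.subtype hQ).isPGroup' (R.subtype hR)
      rw [Sylow.coe_subtype, Sylow.coe_subtype] at h1
      refine (Subgroup.eq_of_le_of_card_ge (fun r hr => ?_) ?_).symm
      · exact h1 (show (⟨r, hQ hr⟩ : L) ∈ (Q : Subgroup G).subgroupOf L from hr)
      · rw [R.card_eq_multiplicity, Q.card_eq_multiplicity]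
    obtain ⟨hNN, -⟩ := huniq _ hNtop P0 hP0N
    have hnp : Nat.card (Sylow p G) < p ^ 2 := by
      rw [Sylow.card_eq_index_normalizer P0]
      exact lt_of_le_of_lt (Nat.le_of_dvd (Nat.pos_of_ne_zero Subgroup.index_ne_zero_of_finite)
        (Subgroup.index_dvd_of_le (hCN.trans hNN))) hxi
    obtain ⟨Q, hQ⟩ : ∃ Q : Sylow p G, Q ≠ P := by
      by_contra hno
      push Not at hno
      haveI : Subsingleton (Sylow p G) := ⟨fun a b => (hno a).trans (hno b).symm⟩
      exact hP (Sylow.normal_of_subsingleton P)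
    set D := (P : Subgroup G) ⊓ (Q : Subgroup G) with hD
    have hDeq : MulAction.stabilizer (P : Subgroup G) Q = D.subgroupOf (P : Subgroup G) := by
      ext u
      rw [MulAction.mem_stabilizer_iff, Subgroup.mem_subgroupOf, hD,
        ← P.isPGroup'.inf_normalizer_sylow Q, Subgroup.mem_inf]
      refine ⟨fun e => ⟨u.2, Sylow.smul_eq_iff_mem_normalizer.mp e⟩,
        fun e => Sylow.smul_eq_iff_mem_normalizer.mpr e.2⟩
    have hrel : D.relIndex (P : Subgroup G) < p ^ 2 := by
      rw [Subgroup.relIndex, ← hDeq, MulAction.index_stabilizer]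
      exact lt_of_le_of_lt (Nat.card_le_card_of_injective _ Subtype.val_injective) hnp
    have hDne : D ≠ ⊥ := by
      intro e
      rw [e, Subgroup.relIndex_bot_left, hk] at hrel
      exact absurd hrel (not_lt.mpr (Nat.pow_le_pow_right hp'.pos hk2))
    have hDtop : Subgroup.normalizer (D : Set G) ≠ ⊤ := fun e => by
      rcases hsimple D (Subgroup.normalizer_eq_top_iff.mp e) with hb | ht
      · exact hDne hb
      · exact hP ((top_le_iff.mp (ht ▸ inf_le_left : (⊤ : Subgroup G) ≤ P)) ▸ inferInstance)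
    have hle : ∀ R : Sylow p G, D ≤ (R : Subgroup G) → (R : Subgroup G) ≤ Subgroup.normalizer (D : Set G) :=
      fun R hDR g hg => Subgroup.centralizer_le_normalizer _ (Subgroup.mem_centralizer_iff.mpr
        fun d hd => sylow_commute h R d (hDR hd) g hg)
    exact hQ ((huniq _ hDtop P (hle P inf_le_left)).2 Q (hle Q inf_le_right))

end Cfsg.Agent.Char.DegBelow
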