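import Cfsg.Agent.Lib.Char.Convolution
import Cfsg.Agent.Lib.Char.Coprime
import Cfsg.Agent.Lib.Char.DegreesBelowPrime
import Cfsg.Agent.Lib.Solv.DihedralSylowClasses

/-!
# Perfect groups with an involution centralizer dihedral of order eight
-/

set_option autoImplicit false
set_option linter.unusedSectionVars false
set_option linter.style.haveILetI false

open scoped ComplexConjugate

namespace Cfsg.Agent.Char.CentD8

open Cfsg Cfsg.Agent Cfsg.Agent.Char DihedralGroup

universe u

abbrev D8 := DihedralGroup 4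

/-- Sign characters of `D8`: the first sign on the rotations, the second on the reflections. -/
def sgn (a b : ℤˣ) : D8 → ℤˣ
  | .r i => a ^ i.val
  | .sr i => b * a ^ i.val

theorem sgn_mul : ∀ (a b : ℤˣ) (g h : D8), sgn a b (g * h) = sgn a b g * sgn a b h := by decide

/-- The linear character attached to the signs. -/
noncomputable def lin (a b : ℤˣ) : D8 →* ℂˣ :=
  (Units.map (Int.castRingHom ℂ : ℤ →+* ℂ).toMonoidHom).comp (MonoidHom.mk' (sgn a b) (sgn_mul a b))

theorem lin_apply (a b : ℤˣ) (g : D8) : ((lin a b g : ℂˣ) : ℂ) = ((sgn a b g : ℤ) : ℂ) := rfl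

theorem eq_r_two_of_central : ∀ x : D8, x ≠ 1 → (∀ y : D8, x * y = y * x) → x = r 2 := by decide

theorem sum_d8 (f : D8 → ℂ) :
    ∑ g : D8, f g = f (r 0) + f (r 1) + f (r 2) + f (r 3) +
      (f (sr 0) + f (sr 1) + f (sr 2) + f (sr 3)) := by
  rw [show (Finset.univ : Finset D8) = {r 0, r 1, r 2, r 3, sr 0, sr 1, sr 2, sr 3} by decide]
  repeat rw [Finset.sum_insert (by decide)]
  rw [Finset.sum_singleton]
  ring

theorem count_r_one :
    (Finset.univ.filter fun u : D8 =>
      (u ≠ 1 ∧ u * u = 1) ∧ (u * r 1 ≠ 1 ∧ (u * r 1) * (u * r 1) = 1)).card = 4 := by decide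

theorem count_r_two :
    (Finset.univ.filter fun u : D8 =>
      (u ≠ 1 ∧ u * u = 1) ∧ (u * r 2 ≠ 1 ∧ (u * r 2) * (u * r 2) = 1)).card = 4 := by decide

/-- The arithmetic of the two structure constants. -/
theorem arith (G v2 v3 u D : ℤ) (h2 : v2 % 8 = 3) (h3 : v3 % 8 = 3) (hu : u ≠ 0) (hD : D ≠ 0)
    (e1 : 1 + v2 + v3 + u = 0) (e2 : 1 - v2 - v3 + u + 2 * D = 0)
    (t1 : (G : ℚ) * (1 + 1 / v2 + 1 / v3 + 1 / u) = 256)
    (t2 : (G : ℚ) * (1 - 1 / v2 - 1 / v3 + 1 / u + 8 / D) = 256) : G = 168 ∨ G = 360 := by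
  have hv2 : (v2 : ℚ) ≠ 0 := Int.cast_ne_zero.mpr (by omega)
  have hv3 : (v3 : ℚ) ≠ 0 := Int.cast_ne_zero.mpr (by omega)
  have hu' : (u : ℚ) ≠ 0 := Int.cast_ne_zero.mpr hu
  have hD' : (D : ℚ) ≠ 0 := Int.cast_ne_zero.mpr hD
  have hG : (G : ℚ) ≠ 0 := fun h => by rw [h, zero_mul] at t1; norm_num at t1
  have h5 : 1 / (v2 : ℚ) + 1 / v3 = 4 / D :=
    mul_left_cancel₀ hG (by linear_combination (t1 - t2) / 2)
  field_simp at h5
  have h5' : (v3 + v2) * D = 4 * (v2 * v3) := by
    have h : (((v3 + v2) * D : ℤ) : ℚ) = ((4 * (v2 * v3) : ℤ) : ℚ) := by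
      push_cast
      linear_combination h5
    exact_mod_cast h
  have hDv : D = v2 + v3 := by omega
  subst hDv
  have hsq : (v2 - v3) * (v2 - v3) = 0 := by linear_combination h5'
  obtain rfl : v2 = v3 := by
    have := mul_self_eq_zero.mp hsq
    omega
  set v := v2
  obtain rfl : u = -1 - 2 * v := by omega
  have hu'' : (-1 - 2 * v : ℚ) ≠ 0 := by exact_mod_cast hu
  push_cast at t1
  have hw : (2 * v + 1 : ℚ) ≠ 0 := fun h => hu'' (by linarith)
  have he : (1 + 1 / (v : ℚ) + 1 / v + 1 / (-1 - 2 * v)) * (v * (2 * v + 1)) = 2 * (v + 1) ^ 2 := by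
    have a1 : 1 / (v : ℚ) * (v * (2 * v + 1)) = 2 * v + 1 := by field_simp
    have a2 : 1 / (2 * v + 1 : ℚ) * (v * (2 * v + 1)) = v := by field_simp
    rw [show (-1 - 2 * v : ℚ) = -(2 * v + 1) by ring, div_neg]
    linear_combination 2 * a1 - a2
  have key : G * (v + 1) ^ 2 = 128 * (v * (2 * v + 1)) := by
    have h : ((G * (v + 1) ^ 2 : ℤ) : ℚ) = ((128 * (v * (2 * v + 1)) : ℤ) : ℚ) := by
      push_cast
      linear_combination ((v : ℚ) * (2 * v + 1) / 2) * t1 - (G : ℚ) / 2 * he
    exact_mod_cast h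
  have hcop : IsCoprime ((v + 1) ^ 2) (v * (2 * v + 1)) := by
    refine IsCoprime.pow_left (IsCoprime.mul_right ⟨1, -1, by ring⟩ ⟨2, -1, by ring⟩)
  have hdvd : (v + 1) ^ 2 ∣ 128 := hcop.dvd_of_dvd_mul_right (Dvd.intro_left G key)
  have hle : (v + 1) ^ 2 ≤ 128 := Int.le_of_dvd (by norm_num) hdvd
  have hlo : -12 ≤ v := by nlinarith
  have hhi : v ≤ 10 := by nlinarith
  interval_cases v <;> omega

/-- The combinatorics of the two columns. -/
theorem combin {ι : Type*} [Fintype ι] [DecidableEq ι] (one : ι) (A B d : ι → ℤ) (n : ℕ)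
    (hA1 : A one = 1) (hB1 : B one = 1) (hd1 : d one = 1) (hd0 : ∀ i, 0 < d i)
    (hpar : ∀ i, 2 ∣ A i + B i) (hmod : ∀ i, (d i + 5 * A i + 2 * B i) % 8 = 0)
    (sBB : ∑ i, B i * B i = 4) (sAA : ∑ i, A i * A i = 8) (sAB : ∑ i, A i * B i = 0)
    (sAd : ∑ i, A i * d i = 0) (sBd : ∑ i, B i * d i = 0)
    (T1 : (n : ℚ) * ∑ i, (A i : ℚ) * A i * B i / d i = 256)
    (T2 : (n : ℚ) * ∑ i, (A i : ℚ) * A i * A i / d i = 256) : n = 168 ∨ n = 360 := by
  classical
  set O := (Finset.univ.erase one).filter fun i => B i ≠ 0 with hO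
  set E := (Finset.univ.erase one).filter fun i => B i = 0 ∧ A i ≠ 0 with hE
  have hsplit : ∀ {R : Type} [AddCommMonoid R] (f : ι → R), (∀ i, A i = 0 → B i = 0 → f i = 0) →
      ∑ i, f i = f one + (∑ i ∈ O, f i + ∑ i ∈ E, f i) := by
    intro R _ f hf
    rw [← Finset.add_sum_erase _ _ (Finset.mem_univ one),
      ← Finset.sum_filter_add_sum_filter_not (Finset.univ.erase one) (fun i => B i ≠ 0), ← hO]
    congr 2
    refine (Finset.sum_subset (fun i hi => ?_) fun i hi hn => ?_).symm
    · simp only [hE, Finset.mem_filter, not_not] at hi ⊢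
      exact ⟨hi.1, hi.2.1⟩
    · simp only [hE, Finset.mem_filter, not_not, not_and] at hi hn
      exact hf i (hn hi.1 hi.2) hi.2
  have hEB : ∀ i ∈ E, B i = 0 := fun i hi => (Finset.mem_filter.mp hi).2.1
  rw [hsplit _ (fun i h1 h2 => by rw [h2, mul_zero]), hB1,
    Finset.sum_eq_zero (s := E) (fun i hi => by rw [hEB i hi, mul_zero])] at sBB
  have hBs : ∀ i ∈ O, B i = 1 ∨ B i = -1 := by
    intro i hi
    have h1 : B i * B i ≤ ∑ j ∈ O, B j * B j :=
      Finset.single_le_sum (f := fun j => B j * B j) (fun j _ => mul_self_nonneg (B j)) hi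
    have h2 := (Finset.mem_filter.mp hi).2
    have h4 : -1 ≤ B i := by nlinarith
    have h5 : B i ≤ 1 := by nlinarith
    omega
  have hOc : O.card = 3 := by
    rw [Finset.sum_congr rfl (g := fun _ => (1 : ℤ)) fun i hi => by
      rcases hBs i hi with h | h <;> rw [h] <;> rfl, Finset.sum_const, nsmul_eq_mul, mul_one] at sBB
    omega
  rw [hsplit _ (fun i h1 h2 => by rw [h1, mul_zero]), hA1] at sAA
  have hAge : ∀ i ∈ O, 1 ≤ A i * A i := fun i hi => by
    have := hpar i
    have h0 : A i ≠ 0 := by rcases hBs i hi with h | h <;> omega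
    nlinarith [mul_self_pos.mpr h0]
  have hEge : ∀ i ∈ E, 4 ≤ A i * A i := fun i hi => by
    obtain ⟨-, hb0, ha0⟩ := Finset.mem_filter.mp hi
    have := hpar i
    rcases Int.lt_or_gt_of_ne ha0 with h | h
    · have : A i ≤ -2 := by omega
      nlinarith
    · have : 2 ≤ A i := by omega
      nlinarith
  have hEn : 0 ≤ ∑ i ∈ E, A i * A i := Finset.sum_nonneg fun i _ => mul_self_nonneg (A i)
  have hAs : ∀ i ∈ O, A i = 1 ∨ A i = -1 := by
    intro i hi
    rw [← Finset.add_sum_erase _ _ hi] at sAA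
    have h1 := Finset.card_nsmul_le_sum (O.erase i) (fun j => A j * A j) 1
      fun j hj => hAge j (Finset.mem_of_mem_erase hj)
    rw [Finset.card_erase_of_mem hi, hOc, nsmul_eq_mul] at h1
    push_cast at h1
    have h2 : A i * A i ≤ 5 := by linarith
    have h4 : -2 ≤ A i := by nlinarith
    have h5 : A i ≤ 2 := by nlinarith
    have := hpar i
    rcases hBs i hi with h | h <;> omega
  have hEs : ∑ i ∈ E, A i * A i = 4 := by
    rw [Finset.sum_congr rfl (g := fun _ => (1 : ℤ)) fun i hi => by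
      rcases hAs i hi with h | h <;> rw [h] <;> rfl, Finset.sum_const, hOc, nsmul_eq_mul, mul_one] at sAA
    push_cast at sAA
    linarith
  obtain ⟨c5, hE5⟩ := Finset.card_eq_one.mp (show E.card = 1 by
    have h1 := Finset.card_nsmul_le_sum E (fun i => A i * A i) 4 hEge
    rw [hEs, nsmul_eq_mul] at h1
    have h2 : E.card ≠ 0 := fun h => by
      rw [Finset.card_eq_zero.mp h, Finset.sum_empty] at hEs
      norm_num at hEs
    omega)
  rw [hE5, Finset.sum_singleton] at hEs
  have hB5 : B c5 = 0 := hEB c5 (by rw [hE5]; exact Finset.mem_singleton_self c5)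
  rw [hsplit _ (fun i h1 h2 => by rw [h1, zero_mul]), hA1, hB1, hE5, Finset.sum_singleton, hB5,
    mul_zero, add_zero] at sAB
  have hpm : ∀ i ∈ O, A i * B i = 1 ∨ A i * B i = -1 := fun i hi => by
    rcases hBs i hi with h | h <;> rcases hAs i hi with h' | h' <;> rw [h, h'] <;> norm_num
  obtain ⟨c1, hc1O, hc⟩ : ∃ i ∈ O, A i * B i = 1 := by
    by_contra hno
    push Not at hno
    rw [Finset.sum_congr rfl fun i hi => (hpm i hi).resolve_left (hno i hi), Finset.sum_const,
      hOc, nsmul_eq_mul] at sAB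
    norm_num at sAB
  obtain ⟨c2, c3, h23, hO23⟩ := Finset.card_eq_two.mp
    (show (O.erase c1).card = 2 by rw [Finset.card_erase_of_mem hc1O, hOc])
  have hOsum : ∀ {R : Type} [AddCommMonoid R] (f : ι → R), ∑ i ∈ O, f i = f c1 + (f c2 + f c3) := by
    intro R _ f
    rw [← Finset.add_sum_erase _ _ hc1O, hO23, Finset.sum_pair h23]
  have m2 : c2 ∈ O := Finset.mem_of_mem_erase (show c2 ∈ O.erase c1 by rw [hO23]; simp)
  have m3 : c3 ∈ O := Finset.mem_of_mem_erase (show c3 ∈ O.erase c1 by rw [hO23]; simp)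
  rw [hOsum, hc] at sAB
  have hb1 : B c1 = A c1 := by
    rcases hAs c1 hc1O with a | a <;> rw [a] at hc ⊢ <;> omega
  have hb2 : B c2 = -A c2 := by
    rcases hpm c2 m2 with h | h
    · rcases hpm c3 m3 with h' | h' <;> omega
    · rcases hAs c2 m2 with a | a <;> rw [a] at h ⊢ <;> omega
  have hb3 : B c3 = -A c3 := by
    rcases hpm c3 m3 with h | h
    · rcases hpm c2 m2 with h' | h' <;> omega
    · rcases hAs c3 m3 with a | a <;> rw [a] at h ⊢ <;> omega
  obtain ⟨s, hs, ha5⟩ : ∃ s : ℤ, (s = 1 ∨ s = -1) ∧ A c5 = 2 * s := by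
    rcases mul_self_eq_mul_self_iff.mp (show A c5 * A c5 = 2 * 2 by linarith) with h | h
    · exact ⟨1, Or.inl rfl, by omega⟩
    · exact ⟨-1, Or.inr rfl, by omega⟩
  have hvmod : ∀ i ∈ O, B i = -A i → (B i * d i) % 8 = 3 := by
    intro i hi hneg
    have := hmod i
    rcases hBs i hi with h | h <;> rw [h] at hneg this ⊢ <;> omega
  rw [hsplit _ (fun i h1 h2 => by rw [h1, zero_mul]), hA1, hd1, hOsum, hE5, Finset.sum_singleton,
    ha5] at sAd
  rw [hsplit _ (fun i h1 h2 => by rw [h2, zero_mul]), hB1, hd1, hOsum, hE5, Finset.sum_singleton,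
    hB5] at sBd
  rw [hsplit _ (fun i h1 h2 => by rw [h1, Int.cast_zero, zero_mul, zero_mul, zero_div]), hA1, hB1,
    hd1, hOsum, hE5, Finset.sum_singleton, hB5] at T1
  rw [hsplit _ (fun i h1 h2 => by rw [h1, Int.cast_zero, zero_mul, zero_mul, zero_div]), hA1,
    hd1, hOsum, hE5, Finset.sum_singleton, ha5] at T2
  have key := arith (n : ℤ) (B c2 * d c2) (B c3 * d c3) (A c1 * d c1) (s * d c5)
    (hvmod c2 m2 hb2) (hvmod c3 m3 hb3)
    (mul_ne_zero (by rcases hAs c1 hc1O with h | h <;> omega) (hd0 c1).ne')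
    (mul_ne_zero (by omega) (hd0 c5).ne')
    (by rw [hb1] at sBd; linear_combination sBd)
    (by rw [hb2, hb3]; linear_combination sAd)
  have e : ∀ a x : ℤ, a = 1 ∨ a = -1 → 1 / ((a * x : ℤ) : ℚ) = a / x := by
    rintro a x (rfl | rfl) <;> push_cast <;> ring
  have e2 : ∀ i ∈ O, (A i : ℚ) * A i = 1 := fun i hi => by
    rcases hAs i hi with h | h <;> rw [h] <;> norm_num
  have hres := key ?_ ?_
  · omega
  · rw [e _ _ (hBs c2 m2), e _ _ (hBs c3 m3), e _ _ (hAs c1 hc1O), ← T1, e2 c1 hc1O, e2 c2 m2,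
      e2 c3 m3, hb1]
    push_cast
    ring
  · rw [e _ _ (hBs c2 m2), e _ _ (hBs c3 m3), e _ _ (hAs c1 hc1O), ← T2, e2 c1 hc1O, e2 c2 m2,
      e2 c3 m3, hb2, hb3]
    rcases hs with rfl | rfl <;> push_cast <;> ring

variable {G : Type u} [Group G] [Fintype G]

theorem isConj_of_one_class
    (h : Nat.card {C : ConjClasses G // ∃ g : G, ConjClasses.mk g = C ∧ orderOf g = 2} = 1)
    {u v : G} (hu : orderOf u = 2) (hv : orderOf v = 2) : IsConj u v := by
  obtain ⟨hs, -⟩ := Nat.card_eq_one_iff_unique.mp h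
  exact ConjClasses.mk_eq_mk_iff_isConj.mp (congrArg Subtype.val
    (@Subsingleton.elim _ hs ⟨ConjClasses.mk u, u, rfl, hu⟩ ⟨ConjClasses.mk v, v, rfl, hv⟩))

theorem orderOf_two_iff {X : Type*} [Group X] {u : X} : orderOf u = 2 ↔ u ≠ 1 ∧ u * u = 1 := by
  haveI : Fact (Nat.Prime 2) := ⟨Nat.prime_two⟩
  constructor
  · intro h
    refine ⟨fun e => ?_, ?_⟩
    · rw [e, orderOf_one] at h
      omega
    · rw [← pow_two, ← h, pow_orderOf_eq_one]
  · exact fun h => orderOf_eq_prime (by rw [pow_two]; exact h.2) h.1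

theorem main (hperf : commutator G = ⊤) (t : G) (ht : orderOf t = 2)
    (e : Subgroup.centralizer ({t} : Set G) ≃* D8) : Nat.card G = 168 ∨ Nat.card G = 360 := by
  classical
  haveI : Fact (Nat.Prime 2) := ⟨Nat.prime_two⟩
  set C := Subgroup.centralizer ({t} : Set G) with hC
  have hC8 : Nat.card C = 8 := by
    rw [Nat.card_congr e.toEquiv, DihedralGroup.nat_card]
  have htC : t ∈ C := Subgroup.mem_centralizer_singleton_iff.mpr rfl
  have ht2 := orderOf_two_iff.mp ht
  let ι : D8 →* G := C.subtype.comp e.symm.toMonoidHom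
  have hι : Function.Injective ι := C.subtype_injective.comp e.symm.injective
  have hιe : ∀ (g : G) (hg : g ∈ C), ι (e ⟨g, hg⟩) = g := fun g hg => by
    show ((e.symm (e ⟨g, hg⟩) : C) : G) = g
    rw [e.symm_apply_apply]
  have hιC : ∀ d, ι d ∈ C := fun d => (e.symm d).2
  have het : e ⟨t, htC⟩ = r 2 := by
    refine eq_r_two_of_central _ (fun h => ht2.1 ?_) fun y => hι ?_
    · rw [← map_one e] at h
      exact congrArg Subtype.val (e.injective h)
    · rw [map_mul, map_mul, hιe]
      exact (Subgroup.mem_centralizer_singleton_iff.mp (hιC y)).symm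
  have hιt : ι (r 2) = t := by rw [← het, hιe]
  -- the centralizer is a Sylow subgroup
  have hC2 : IsPGroup 2 C := IsPGroup.of_card (n := 3) (by rw [hC8]; norm_num)
  obtain ⟨P, hP⟩ := hC2.exists_le_sylow
  have hPC : (P : Subgroup G) = C := by
    refine le_antisymm (fun g hg => ?_) hP
    haveI : Nontrivial (P : Subgroup G) :=
      ⟨⟨⟨t, hP htC⟩, 1, fun h => ht2.1 (congrArg Subtype.val h)⟩⟩
    haveI := P.isPGroup'.center_nontrivial
    obtain ⟨⟨⟨z, hzP⟩, hzc⟩, hz1⟩ := exists_ne (1 : Subgroup.center (P : Subgroup G))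
    have hcomm : ∀ a ∈ (P : Subgroup G), a * z = z * a := fun a ha =>
      congrArg Subtype.val (Subgroup.mem_center_iff.mp hzc ⟨a, ha⟩)
    have hzC : z ∈ C := Subgroup.mem_centralizer_singleton_iff.mpr (hcomm t (hP htC)).symm
    have hez : e ⟨z, hzC⟩ = r 2 := by
      refine eq_r_two_of_central _ (fun h => hz1 ?_) fun y => hι ?_
      · rw [← map_one e] at h
        exact Subtype.ext (Subtype.ext (congrArg Subtype.val (e.injective h) : z = (1 : G)))
      · rw [map_mul, map_mul, hιe]
        exact (hcomm _ (hP (hιC y))).symm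
    have hzt : z = t := by rw [← hιe z hzC, hez, hιt]
    exact Subgroup.mem_centralizer_singleton_iff.mpr (hzt ▸ hcomm g hg)
  have hrange : ι.range = (P : Subgroup G) := by
    rw [hPC]
    refine le_antisymm ?_ fun g hg => ⟨e ⟨g, hg⟩, hιe g hg⟩
    rintro g ⟨d, rfl⟩
    exact hιC d
  -- one class of involutions
  have hone : Nat.card {C : ConjClasses G // ∃ g : G, ConjClasses.mk g = C ∧ orderOf g = 2} = 1 := by
    have hnop : ∀ (N : Subgroup G) [N.Normal], Group.IsSolvable (G ⧸ N) → N = ⊤ := by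
      intro N _ hsolv
      haveI := hsolv
      rcases subsingleton_or_nontrivial (G ⧸ N) with hs | hn
      · exact eq_top_iff.mpr fun g _ => (QuotientGroup.eq_one_iff g).mp (Subsingleton.elim _ _)
      · exfalso
        refine (Group.IsSolvable.commutator_lt_top_of_nontrivial (G ⧸ N)).ne ?_
        rw [commutator_def, ← Subgroup.map_top_of_surjective (QuotientGroup.mk' N)
          (QuotientGroup.mk'_surjective N), ← Subgroup.map_commutator, ← commutator_def, hperf]
    rcases Solv.DihedralClasses.main P (dvd_refl 4) ι hι hrange with h | h | h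
    · exact h.1
    · obtain ⟨-, ⟨N, hN, hidx⟩, -⟩ := h
      haveI := hN
      have h1 : IsPGroup 2 (G ⧸ N) :=
        IsPGroup.of_card (n := 1) (by rw [← Subgroup.index_eq_card, hidx, pow_one])
      haveI := h1.isNilpotent
      rw [hnop N inferInstance, Subgroup.index_top] at hidx
      omega
    · obtain ⟨-, Q, N, hN, hc⟩ := h
      haveI := hN
      obtain ⟨k, hk⟩ := IsPGroup.iff_card.mp Q.isPGroup'
      have h1 : IsPGroup 2 (G ⧸ N) :=
        IsPGroup.of_card (n := k) (by rw [← Subgroup.index_eq_card, hc.symm.index_eq_card]; exact hk)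
      haveI := h1.isNilpotent
      have h2 := hc.symm.index_eq_card
      rw [hnop N inferInstance, Subgroup.index_top] at h2
      have h3 : Nat.card Q = Nat.card C := by rw [← hPC]; exact Nat.card_congr (Q.equiv P).toEquiv
      change 1 = Nat.card Q at h2
      omega
  have hconj : ∀ u : G, orderOf u = 2 → IsConj t u := fun u hu => isConj_of_one_class hone ht hu
  -- the element of order four
  set y := ι (r 1) with hy
  have hyy : y * y = t := by rw [hy, ← map_mul, ← hιt]; rfl
  have hCy : ∀ g : G, g * y = y * g → g ∈ C := fun g hg =>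
    Subgroup.mem_centralizer_singleton_iff.mpr (by
      rw [← hyy, ← mul_assoc, hg, mul_assoc, hg, ← mul_assoc])
  have hcy : Nat.card (Subgroup.centralizer ({y} : Set G)) = 4 := by
    let q : Subgroup.centralizer ({y} : Set G) ≃ {d : D8 // d * r 1 = r 1 * d} :=
      { toFun := fun g => ⟨e ⟨g, hCy g (Subgroup.mem_centralizer_singleton_iff.mp g.2)⟩, hι (by
          rw [map_mul, map_mul, hιe]
          exact Subgroup.mem_centralizer_singleton_iff.mp g.2)⟩
        invFun := fun d => ⟨ι d, Subgroup.mem_centralizer_singleton_iff.mpr (by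
          rw [hy, ← map_mul, ← map_mul, d.2])⟩
        left_inv := fun g => Subtype.ext (hιe _ _)
        right_inv := fun d => Subtype.ext (hι (hιe _ _)) }
    rw [Nat.card_congr q, Nat.card_eq_fintype_card]
    rfl
  have hct : Nat.card (Subgroup.centralizer ({t} : Set G)) = 8 := hC8
  -- values
  have hrest : ∀ (χ : IrrCharacter G) (a b : ℤˣ), ∃ m : ℕ,
      ∑ d : D8, (χ : G → ℂ) (ι d) * conj ((lin a b d : ℂˣ) : ℂ) = 8 * (m : ℂ) := by
    intro χ a b
    obtain ⟨m, hm⟩ := classInner_natCast (isCharacter_comp ι (irr_isCharacter χ.2))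
      (isCharacter_linear (lin a b))
    refine ⟨m, ?_⟩
    rw [← hm, classInner, DihedralGroup.nat_card, ← mul_assoc]
    norm_num
  have hcf : ∀ (χ : IrrCharacter G) {u v : G}, IsConj u v → (χ : G → ℂ) u = (χ : G → ℂ) v := by
    intro χ u v h
    obtain ⟨k, rfl⟩ := isConj_iff.mp h
    exact (isClassFunction_character (irr_isCharacter χ.2) u k).symm
  have hsr : ∀ (χ : IrrCharacter G) (i : ZMod 4), (χ : G → ℂ) (ι (sr i)) = (χ : G → ℂ) t := fun χ i =>
    (hcf χ (hconj _ (by rw [orderOf_injective ι hι, orderOf_sr]))).symm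
  have hr3 : ∀ χ : IrrCharacter G, (χ : G → ℂ) (ι (r 3)) = (χ : G → ℂ) y := fun χ =>
    hcf χ (isConj_iff.mpr ⟨ι (sr 0), by rw [hy, ← map_inv, ← map_mul, ← map_mul]; rfl⟩)
  have hdata : ∀ χ : IrrCharacter G, ∃ a b : ℤ, (χ : G → ℂ) t = a ∧ (χ : G → ℂ) y = b ∧
      2 ∣ a + b ∧ ((deg (χ : G → ℂ) : ℤ) + 5 * a + 2 * b) % 8 = 0 := by
    intro χ
    obtain ⟨m1, h1⟩ := hrest χ 1 1
    obtain ⟨m2, h2⟩ := hrest χ 1 (-1)
    obtain ⟨m3, h3⟩ := hrest χ (-1) 1
    rw [sum_d8] at h1 h2 h3
    simp only [lin_apply, hsr χ, hιt, hr3 χ, ← hy, show ι (r 0) = 1 from map_one ι,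
      char_one_eq_deg (irr_isCharacter χ.2), map_intCast] at h1 h2 h3
    norm_num [sgn, show ((0 : ZMod 4).val) = 0 from rfl, show ((1 : ZMod 4).val) = 1 from rfl,
      show ((2 : ZMod 4).val) = 2 from rfl, show ((3 : ZMod 4).val) = 3 from rfl] at h1 h2 h3
    have ha : (χ : G → ℂ) t = (((m1 : ℤ) - m2 : ℤ) : ℂ) := by
      push_cast
      linear_combination (h1 - h2) / 8
    have hb : (χ : G → ℂ) y = ((2 * ((m1 : ℤ) - m3) - (m1 - m2) : ℤ) : ℂ) := by
      push_cast
      linear_combination (h1 - h3) / 4 - (h1 - h2) / 8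
    refine ⟨_, _, ha, hb, ⟨(m1 : ℤ) - m3, by ring⟩, ?_⟩
    rw [ha, hb] at h1
    have h4 : (deg (χ : G → ℂ) : ℤ) + 5 * ((m1 : ℤ) - m2) + 2 * (2 * ((m1 : ℤ) - m3) - (m1 - m2)) =
        8 * m1 := by
      have h : (((deg (χ : G → ℂ) : ℤ) + 5 * ((m1 : ℤ) - m2) + 2 * (2 * ((m1 : ℤ) - m3) - (m1 - m2)) : ℤ) : ℂ) =
          ((8 * m1 : ℤ) : ℂ) := by
        push_cast at h1 ⊢
        linear_combination h1
      exact_mod_cast h
    omega
  choose A B hA hB hpar hmod using hdata
  -- orthogonality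
  have horth : ∀ g h : G, ∑ χ : IrrCharacter G, (χ : G → ℂ) g * conj ((χ : G → ℂ) h) =
      if IsConj g h then (Nat.card (Subgroup.centralizer ({h} : Set G)) : ℂ) else 0 := by
    intro g h
    rw [second_orth g h]
    split_ifs with hgh
    · rw [← DegBelow.card_centralizer_mul h, Nat.cast_mul,
        mul_div_cancel_left₀ _ (Nat.cast_ne_zero.mpr (card_conjClass_ne_zero h))]
    · rfl
  have hty : ¬ IsConj t y := fun h => by
    obtain ⟨k, hk⟩ := isConj_iff.mp h
    have h1 : y * y = 1 := by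
      rw [← hk, show k * t * k⁻¹ * (k * t * k⁻¹) = k * (t * t) * k⁻¹ by group, ht2.2, mul_one,
        mul_inv_cancel]
    rw [hyy] at h1
    exact ht2.1 h1
  have hy1 : y ≠ 1 := fun h => ht2.1 (by rw [← hyy, h, mul_one])
  have sBB : ∑ χ, B χ * B χ = 4 := by
    have h := horth y y
    rw [if_pos (IsConj.refl _), hcy] at h
    simp only [hB, map_intCast] at h
    exact_mod_cast h
  have sAA : ∑ χ, A χ * A χ = 8 := by
    have h := horth t t
    rw [if_pos (IsConj.refl _), hct] at h
    simp only [hA, map_intCast] at h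
    exact_mod_cast h
  have sAB : ∑ χ, A χ * B χ = 0 := by
    have h := horth t y
    rw [if_neg hty] at h
    simp only [hA, hB, map_intCast] at h
    exact_mod_cast h
  have sAd : ∑ χ : IrrCharacter G, A χ * (deg (χ : G → ℂ) : ℤ) = 0 := by
    have h := horth t 1
    rw [if_neg (fun h => ht2.1 (isConj_one_left.mp h))] at h
    simp only [hA, char_one_eq_deg (irr_isCharacter (Subtype.prop _)), Complex.conj_natCast] at h
    exact_mod_cast h
  have sBd : ∑ χ : IrrCharacter G, B χ * (deg (χ : G → ℂ) : ℤ) = 0 := by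
    have h := horth y 1
    rw [if_neg (fun h => hy1 (isConj_one_left.mp h))] at h
    simp only [hB, char_one_eq_deg (irr_isCharacter (Subtype.prop _)), Complex.conj_natCast] at h
    exact_mod_cast h
  -- structure constants
  set inv2 : Finset G := Finset.univ.filter fun u : G => orderOf u = 2 with hinv2
  have hstruct : ∀ (z : G) (d0 : D8), ι d0 = z → (∀ g : G, g * z = z * g → g ∈ C) →
      (∀ g : G, g * z * g⁻¹ = z⁻¹ → g ∈ C) →
      (Finset.univ.filter fun u : D8 =>
        (u ≠ 1 ∧ u * u = 1) ∧ (u * d0 ≠ 1 ∧ (u * d0) * (u * d0) = 1)).card = 4 →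
      (Nat.card G : ℂ) * ∑ χ : IrrCharacter G,
        (χ : G → ℂ) t * (χ : G → ℂ) t * conj ((χ : G → ℂ) z) / (χ : G → ℂ) 1 = 256 := by
    intro z d0 hd0 _ hzinv hcount
    set K := Nat.card (Subgroup.centralizer ({z} : Set G)) with hK
    set cz := Nat.card {w : G // IsConj z w} with hcz
    set ct := Nat.card {w : G // IsConj t w} with hct'
    have hcz' : cz * K = Nat.card G := DegBelow.card_centralizer_mul z
    have hct'' : ct * 8 = Nat.card G := by
      rw [← hct]
      exact DegBelow.card_centralizer_mul t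
    have hM : ∀ w : G, IsConj z w →
        (inv2.filter fun u => orderOf (u * w) = 2).card = 4 := by
      intro w hw
      obtain ⟨k, rfl⟩ := isConj_iff.mp hw
      rw [← hcount]
      have hmap : ∀ d : D8, ((d ≠ 1 ∧ d * d = 1) ∧ (d * d0 ≠ 1 ∧ (d * d0) * (d * d0) = 1)) →
          orderOf (k * ι d * k⁻¹) = 2 ∧ orderOf (k * ι d * k⁻¹ * (k * z * k⁻¹)) = 2 := by
        intro d hd
        rw [show k * ι d * k⁻¹ * (k * z * k⁻¹) = MulAut.conj k (ι (d * d0)) by
          rw [MulAut.conj_apply, map_mul, hd0]; group,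
          show k * ι d * k⁻¹ = MulAut.conj k (ι d) from rfl,
          MulEquiv.orderOf_eq, MulEquiv.orderOf_eq, orderOf_injective ι hι, orderOf_injective ι hι]
        exact ⟨orderOf_two_iff.mpr hd.1, orderOf_two_iff.mpr hd.2⟩
      symm
      refine Finset.card_bij (fun d _ => k * ι d * k⁻¹) (fun d hd => ?_) (fun d _ d' _ h => ?_)
        fun u hu => ?_
      · simp only [Finset.mem_filter, Finset.mem_univ, true_and, hinv2] at hd ⊢
        exact hmap d hd
      · exact hι (mul_left_cancel (mul_right_cancel h))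
      · simp only [Finset.mem_filter, Finset.mem_univ, true_and, hinv2] at hu
        set u' := k⁻¹ * u * k with hu'
        have e1 : u' * u' = 1 := by
          rw [hu', show k⁻¹ * u * k * (k⁻¹ * u * k) = k⁻¹ * (u * u) * k by group,
            (orderOf_two_iff.mp hu.1).2, mul_one, inv_mul_cancel]
        have e2 : (u' * z) * (u' * z) = 1 := by
          rw [hu', show k⁻¹ * u * k * z * (k⁻¹ * u * k * z) =
              k⁻¹ * ((u * (k * z * k⁻¹)) * (u * (k * z * k⁻¹))) * k by group,
            (orderOf_two_iff.mp hu.2).2, mul_one, inv_mul_cancel]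
        have hu'C : u' ∈ C := hzinv u' (by
          have e3 : u'⁻¹ = u' := inv_eq_of_mul_eq_one_right e1
          rw [e3]
          exact eq_inv_of_mul_eq_one_left (by rw [← e2]; simp only [mul_assoc]))
        refine ⟨e ⟨u', hu'C⟩, ?_, ?_⟩
        · simp only [Finset.mem_filter, Finset.mem_univ, true_and]
          refine ⟨⟨fun h => ?_, hι (by rw [map_mul, hιe, map_one, e1])⟩,
            fun h => ?_, hι (by rw [map_mul, map_mul, hιe, hd0, map_one, e2])⟩
          · have : u' = 1 := by rw [← hιe u' hu'C, h, map_one]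
            refine (orderOf_two_iff.mp hu.1).1 ?_
            rw [show u = k * u' * k⁻¹ by rw [hu']; group, this, mul_one, mul_inv_cancel]
          · have : u' * z = 1 := by rw [← hιe u' hu'C, ← hd0, ← map_mul, h, map_one]
            refine (orderOf_two_iff.mp hu.2).1 ?_
            rw [show u * (k * z * k⁻¹) = k * (u' * z) * k⁻¹ by rw [hu']; group, this, mul_one,
              mul_inv_cancel]
        · rw [hιe, hu']
          group
    set Nt := (inv2.filter fun v => IsConj z (t * v)).card with hNt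
    -- double counting
    have hinvcard : inv2.card = ct := by
      rw [hct', Nat.card_eq_fintype_card, Fintype.card_subtype]
      congr 1
      ext u
      simp only [hinv2, Finset.mem_filter, Finset.mem_univ, true_and]
      exact ⟨hconj u, fun h => by
        obtain ⟨k, rfl⟩ := isConj_iff.mp h
        rw [show k * t * k⁻¹ = MulAut.conj k t from rfl,
          MulEquiv.orderOf_eq, ht]⟩
    have hNu : ∀ u ∈ inv2, (inv2.filter fun v => IsConj z (u * v)).card = Nt := by
      intro u hu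
      obtain ⟨k, rfl⟩ := isConj_iff.mp (hconj u (Finset.mem_filter.mp hu).2)
      symm
      refine Finset.card_equiv (MulAut.conj k).toEquiv fun v => ?_
      simp only [Finset.mem_filter, Finset.mem_univ, true_and, hinv2, MulEquiv.toEquiv_eq_coe,
        EquivLike.coe_coe]
      rw [MulEquiv.orderOf_eq,
        show k * t * k⁻¹ * MulAut.conj k v = k * (t * v) * k⁻¹ by rw [MulAut.conj_apply]; group]
      exact and_congr_right fun _ =>
        ⟨fun h => h.trans (isConj_iff.mpr ⟨k, rfl⟩), fun h => h.trans (isConj_iff.mpr ⟨k, rfl⟩).symm⟩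
    have hdc : ct * Nt = cz * 4 := by
      set W : Finset G := Finset.univ.filter fun w => IsConj z w with hW
      have hWc : W.card = cz := by rw [hcz, Nat.card_eq_fintype_card, Fintype.card_subtype]
      rw [← hinvcard, ← smul_eq_mul, ← Finset.sum_const, ← Finset.sum_congr rfl hNu, ← hWc,
        ← smul_eq_mul, ← Finset.sum_const, ← Finset.sum_congr rfl fun w hw =>
          hM w (Finset.mem_filter.mp hw).2]
      have h1 : ∀ u ∈ inv2, (inv2.filter fun v => IsConj z (u * v)).card =
          (W.filter fun w => orderOf (u * w) = 2).card := by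
        intro u hu
        have hu2 := (orderOf_two_iff.mp (Finset.mem_filter.mp hu).2).2
        refine Finset.card_equiv (Equiv.mulLeft u) fun v => ?_
        simp only [Finset.mem_filter, Finset.mem_univ, true_and, hinv2, hW, Equiv.coe_mulLeft]
        rw [← mul_assoc u u v, hu2, one_mul]
        exact and_comm
      rw [Finset.sum_congr rfl h1]
      simp only [Finset.card_filter]
      exact Finset.sum_comm
    have hnum : Nt * K = 32 := by
      have : ct * (Nt * K) = ct * 32 := by
        rw [← mul_assoc, hdc, show cz * 4 * K = 4 * (cz * K) by ring, hcz', ← hct'']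
        ring
      exact Nat.eq_of_mul_eq_mul_left (Nat.pos_of_ne_zero (card_conjClass_ne_zero t)) this
    -- the character sum
    have hs : ((Finset.univ.filter fun s : G => IsConj (t * (s * t * s⁻¹)) z).card) = 8 * Nt := by
      rw [Finset.card_eq_sum_card_fiberwise (f := fun s : G => s * t * s⁻¹)
        (t := inv2.filter fun v => IsConj z (t * v)) ?_]
      · rw [Finset.sum_congr rfl (g := fun _ => 8) fun v hv => ?_, Finset.sum_const, smul_eq_mul,
          mul_comm]
        obtain ⟨hv1, hv2⟩ := Finset.mem_filter.mp hv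
        obtain ⟨k, rfl⟩ := isConj_iff.mp (hconj v (Finset.mem_filter.mp hv1).2)
        rw [← hct, Nat.card_eq_fintype_card, ← Finset.card_univ]
        symm
        refine Finset.card_bij (fun c _ => k * (c : G)) (fun c _ => ?_)
          (fun c _ c' _ h => Subtype.ext (mul_left_cancel h)) fun s hs => ?_
        · simp only [Finset.mem_filter, Finset.mem_univ, true_and]
          have hc := Subgroup.mem_centralizer_singleton_iff.mp c.2
          have e3 : k * (c : G) * t * (k * (c : G))⁻¹ = k * t * k⁻¹ := by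
            rw [show k * (c : G) * t * (k * (c : G))⁻¹ = k * ((c : G) * t) * (c : G)⁻¹ * k⁻¹ by group,
              hc]
            group
          exact ⟨by rw [e3]; exact hv2.symm, e3⟩
        · simp only [Finset.mem_filter, Finset.mem_univ, true_and] at hs
          refine ⟨⟨k⁻¹ * s, Subgroup.mem_centralizer_singleton_iff.mpr ?_⟩, Finset.mem_univ _, ?_⟩
          · have := congrArg (fun w => k⁻¹ * w * s) hs.2
            simp only [mul_assoc, inv_mul_cancel, mul_one, inv_mul_cancel_left] at this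
            simpa only [mul_assoc] using this
          · exact mul_inv_cancel_left k s
      · intro s hs
        simp only [Finset.coe_filter, Set.mem_ofPred_eq, Finset.mem_univ, true_and, hinv2,
          Finset.mem_filter] at hs ⊢
        exact ⟨by rw [show s * t * s⁻¹ = MulAut.conj s t from rfl,
          MulEquiv.orderOf_eq, ht], hs.symm⟩
    have hsum : ∀ χ : IrrCharacter G,
        (Nat.card G : ℂ) * ((χ : G → ℂ) t * (χ : G → ℂ) t * conj ((χ : G → ℂ) z) / (χ : G → ℂ) 1) =
          ∑ s : G, (χ : G → ℂ) (t * (s * t * s⁻¹)) * conj ((χ : G → ℂ) z) := by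
      intro χ
      rw [← Finset.sum_mul]
      have h1 := sum_conj_mul χ.2 t t
      have h0 := irr_one_ne_zero χ.2
      field_simp
      linear_combination -(conj ((χ : G → ℂ) z)) * h1
    rw [Finset.mul_sum, Finset.sum_congr rfl fun χ _ => hsum χ, Finset.sum_comm,
      Finset.sum_congr rfl fun s _ => horth (t * (s * t * s⁻¹)) z, ← Finset.sum_filter,
      Finset.sum_const, hs, nsmul_eq_mul, ← hK]
    have : ((8 * Nt * K : ℕ) : ℂ) = 256 := by
      rw [mul_assoc, hnum]
      norm_num
    exact_mod_cast this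
  have hinvy : ∀ g : G, g * y * g⁻¹ = y⁻¹ → g ∈ C := fun g hg => by
    refine Subgroup.mem_centralizer_singleton_iff.mpr (mul_inv_eq_iff_eq_mul.mp ?_)
    rw [← hyy, show g * (y * y) * g⁻¹ = (g * y * g⁻¹) * (g * y * g⁻¹) by group, hg, ← mul_inv_rev,
      hyy]
    exact inv_eq_of_mul_eq_one_right ht2.2
  have T1 := hstruct y (r 1) rfl hCy hinvy count_r_one
  have T2 := hstruct t (r 2) hιt (fun g hg => Subgroup.mem_centralizer_singleton_iff.mpr hg)
    (fun g hg => Subgroup.mem_centralizer_singleton_iff.mpr (mul_inv_eq_iff_eq_mul.mp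
      (hg.trans (inv_eq_of_mul_eq_one_right ht2.2)))) count_r_two
  have hsimp : ∀ z : G, ∀ F : IrrCharacter G → ℤ, (∀ χ : IrrCharacter G, (χ : G → ℂ) z = F χ) →
      (Nat.card G : ℂ) * ∑ χ : IrrCharacter G,
        (χ : G → ℂ) t * (χ : G → ℂ) t * conj ((χ : G → ℂ) z) / (χ : G → ℂ) 1 = 256 →
      (Nat.card G : ℚ) * ∑ χ : IrrCharacter G,
        (A χ : ℚ) * A χ * F χ / ((deg (χ : G → ℂ) : ℤ) : ℚ) = 256 := by
    intro z F hF hT
    simp only [hA, hF, map_intCast, char_one_eq_deg (irr_isCharacter (Subtype.prop _))] at hT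
    have h : (((Nat.card G : ℚ) * ∑ χ : IrrCharacter G,
        (A χ : ℚ) * A χ * F χ / ((deg (χ : G → ℂ) : ℤ) : ℚ) : ℚ) : ℂ) = ((256 : ℚ) : ℂ) := by
      push_cast
      exact hT
    exact_mod_cast h
  refine combin ⟨fun _ => 1, isIrrCharacter_one⟩ A B (fun χ => (deg (χ : G → ℂ) : ℤ)) (Nat.card G)
    ?_ ?_ ?_ (fun χ => by have := deg_pos χ.2; omega) hpar hmod sBB sAA sAB sAd sBd
    (hsimp y B hB T1) (hsimp t A hA T2)
  · have h : (1 : ℂ) = (A ⟨fun _ => 1, isIrrCharacter_one⟩ : ℂ) := hA ⟨fun _ => 1, isIrrCharacter_one⟩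
    exact_mod_cast h.symm
  · have h : (1 : ℂ) = (B ⟨fun _ => 1, isIrrCharacter_one⟩ : ℂ) := hB ⟨fun _ => 1, isIrrCharacter_one⟩
    exact_mod_cast h.symm
  · exact_mod_cast (Nat.cast_injective (R := ℂ) (by
      rw [← char_one_eq_deg (irr_isCharacter isIrrCharacter_one), Nat.cast_one]) :
      deg (fun _ : G => (1 : ℂ)) = 1)

end Cfsg.Agent.Char.CentD8
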