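import Cfsg.Agent.Lib.Fusion.WreathedCases
import Cfsg.Agent.Lib.Fusion.WreathedQuat
import Cfsg.Agent.Lib.Fusion.QuasiDihedralCases
import Cfsg.Agent.Lib.Fusion.Cores
import Cfsg.Agent.Lib.Solv.UniqueSub

/-!
# Groups with quasi-dihedral or wreathed Sylow 2-subgroups and no subgroup of index 2
-/

set_option autoImplicit false

namespace Cfsg.Agent.Char.QDSimple

open Cfsg.Agent.Fusion

/-- What is used about a quasi-dihedral or wreathed 2-group. -/
structure Shape (S : Type*) [Group S] : Prop where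
  noncomm : ∃ a b : S, orderOf a = 2 ∧ orderOf b = 2 ∧ a * b ≠ b * a
  cyclicQuot : ∃ s : S, Subgroup.closure {x : S | orderOf x = 2} ⊔ Subgroup.zpowers s = ⊤
  pairs : ∃ u : S, (∀ r s : S, orderOf r = 2 → orderOf s = 2 → r ≠ u → s ≠ u → Commute r s → s = r ∨ s = u * r) ∧
    ∀ r c d : S, orderOf r = 2 → r ≠ u → Commute c r → Commute d r → Commute c d

theorem shape_qd {S : Type*} [Group S] [Finite S] {n : ℕ} (D : QDData S n) : Shape S := by
  have hy : D.x ^ (0 : ℤ) * D.y = D.y := by rw [zpow_zero, one_mul]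
  refine ⟨⟨D.x ^ (2 : ℤ) * D.y, D.x ^ (0 : ℤ) * D.y, D.refl_orderOf_even ⟨1, by norm_num⟩,
    D.refl_orderOf_even ⟨0, by norm_num⟩, fun hc => ?_⟩, ⟨D.x, ?_⟩, D.z, ?_, ?_⟩
  · rcases (D.commute_refl_iff 0 (D.x ^ (2 : ℤ) * D.y)).1 hc with h | h | h | h
    · exact D.refl_ne_rot 2 0 (by rw [h, zpow_zero])
    · exact D.refl_ne_rot 2 D.h h
    · rw [mul_left_inj, D.zpow_eq_iff] at h
      have h8 : (8 : ℤ) ∣ 2 ^ n := by
        rw [show (8 : ℤ) = 2 ^ 3 by norm_num]; exact pow_dvd_pow 2 D.hn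
      have := h8.trans h
      omega
    · rw [QDData.z, ← mul_assoc, ← zpow_add, add_zero, mul_left_inj, D.zpow_eq_iff, D.h_eq] at h
      have h8 : (8 : ℤ) ∣ 2 ^ n := by
        rw [show (8 : ℤ) = 2 ^ 3 by norm_num]; exact pow_dvd_pow 2 D.hn
      have := h8.trans h
      omega
  · refine (Subgroup.eq_top_iff' _).2 fun s => ?_
    have hx : ∀ i : ℤ, D.x ^ i ∈ Subgroup.closure {x : S | orderOf x = 2} ⊔ Subgroup.zpowers D.x :=
      fun i => Subgroup.mem_sup_right ⟨i, rfl⟩
    obtain ⟨i, rfl | rfl⟩ := D.exists_form s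
    · exact hx i
    · exact mul_mem (hx i) (Subgroup.mem_sup_left (Subgroup.subset_closure D.oy))
  · intro r s hr hs hru hsu hc
    obtain ⟨i, -, rfl⟩ := (D.invol_cases hr).resolve_left hru
    rcases (D.commute_refl_iff i s).1 hc.symm with h | h | h | h
    · rw [h, orderOf_one] at hs; omega
    · exact absurd h hsu
    · exact Or.inl h
    · exact Or.inr h
  · intro r c d hr hru hc hd
    obtain ⟨i, -, rfl⟩ := (D.invol_cases hr).resolve_left hru
    have hz : ∀ s, Commute D.z s := D.z_central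
    have hzr : Commute (D.z * (D.x ^ i * D.y)) (D.x ^ i * D.y) := (hz _).mul_left (Commute.refl _)
    rcases (D.commute_refl_iff i c).1 hc with rfl | rfl | rfl | rfl
    · exact Commute.one_left d
    · exact hz d
    · exact hd.symm
    · exact (hz d).mul_left hd.symm

theorem shape_wr {S : Type*} [Group S] [Finite S] {n : ℕ} (D : WRData S n) : Shape S := by
  have hN : ∀ {i : ℤ}, D.N ∣ i → D.N ∣ -i := fun h => dvd_neg.2 h
  have hnc : ∀ (i j : ℤ) (k : ℤ), ¬ D.N ∣ i - j → ∀ l, ¬ Commute (D.el i j) (D.el k l * D.t) :=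
    fun i j k h l hc => h ((D.commute_out_el k l i j).1 hc)
  have nd : ¬ D.N ∣ D.h - 0 := by rw [sub_zero]; exact D.not_N_dvd_h
  have nd' : ¬ D.N ∣ 0 - D.h := by rw [zero_sub, dvd_neg]; exact D.not_N_dvd_h
  have o1 : orderOf (D.el D.h 0) = 2 :=
    D.el_h_order dvd_rfl (dvd_zero _) fun h => D.not_N_dvd_h h.1
  -- the centralizer of an outer involution
  have hform : ∀ (i : ℤ) (c : S), Commute c (D.el i (-i) * D.t) →
      ∃ k : ℤ, c = D.el k k ∨ c = D.el k k * (D.el i (-i) * D.t) := by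
    intro i c hc
    obtain ⟨k, l, rfl | rfl⟩ := D.exists_form c
    · refine ⟨k, Or.inl ((D.el_eq_iff _ _ _ _).2 ⟨by simp, ?_⟩)⟩
      have := hN ((D.commute_out_el i (-i) k l).1 hc)
      rwa [neg_sub] at this
    · have h1 := hc.eq
      rw [D.out_mul_out, D.out_mul_out, D.el_eq_iff] at h1
      refine ⟨k - i, Or.inr ?_⟩
      rw [← mul_assoc, D.el_mul, mul_left_inj, D.el_eq_iff]
      exact ⟨by simp, by convert h1.2 using 1; ring⟩
  refine ⟨⟨D.el D.h 0, D.el 0 (-0) * D.t, o1, D.outer_invol 0, fun hc => hnc _ _ 0 nd _ hc⟩,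
    ⟨D.el 1 0, by rw [D.closure_invol]; exact D.K_sup_top⟩, D.el D.h D.h, ?_, ?_⟩
  · intro r s hr hs hru hsu hc
    rcases D.invol_cases hr with rfl | rfl | rfl | ⟨i, rfl⟩
    · rcases D.invol_cases hs with rfl | rfl | rfl | ⟨j, rfl⟩
      · exact Or.inl rfl
      · exact Or.inr (by rw [D.el_mul, D.el_eq_iff]; exact ⟨by rw [D.N_eq]; exact ⟨-1, by ring⟩, by simp⟩)
      · exact absurd rfl hsu
      · exact absurd hc (hnc _ _ j nd _)
    · rcases D.invol_cases hs with rfl | rfl | rfl | ⟨j, rfl⟩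
      · exact Or.inr (by rw [D.el_mul, D.el_eq_iff]; exact ⟨by simp, by rw [D.N_eq]; exact ⟨-1, by ring⟩⟩)
      · exact Or.inl rfl
      · exact absurd rfl hsu
      · exact absurd hc (hnc _ _ j nd' _)
    · exact absurd rfl hru
    · rcases D.invol_cases hs with rfl | rfl | rfl | ⟨j, rfl⟩
      · exact absurd hc.symm (hnc _ _ i nd _)
      · exact absurd hc.symm (hnc _ _ i nd' _)
      · exact absurd rfl hsu
      · have h1 := hc.eq
        rw [D.out_mul_out, D.out_mul_out, D.el_eq_iff, D.N_eq,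
          show i + -j - (j + -i) = 2 * (i - j) by ring, mul_dvd_mul_iff_left two_ne_zero] at h1
        have hh : D.h ∣ j - i := by have := h1.1; rwa [← dvd_neg, neg_sub]
        rcases D.h_dvd_cases hh with h2 | h2
        · left
          rw [mul_left_inj, D.el_eq_iff]
          exact ⟨h2, by convert hN h2 using 1; ring⟩
        · right
          rw [← mul_assoc, D.el_mul, mul_left_inj, D.el_eq_iff]
          obtain ⟨m, hm⟩ := h2
          exact ⟨⟨m, by linear_combination hm⟩, ⟨-m - 1, by linear_combination (-1) * hm + D.N_eq⟩⟩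
  · intro r c d hr hru hc hd
    rcases D.invol_cases hr with rfl | rfl | rfl | ⟨i, rfl⟩
    · have key : ∀ e : S, Commute e (D.el D.h 0) → e ∈ D.A := by
        intro e he
        obtain ⟨k, l, rfl | rfl⟩ := D.exists_form e
        · exact D.el_mem k l
        · exact absurd he.symm (hnc _ _ k nd l)
      exact D.A_comm (key c hc) (key d hd)
    · have key : ∀ e : S, Commute e (D.el 0 D.h) → e ∈ D.A := by
        intro e he
        obtain ⟨k, l, rfl | rfl⟩ := D.exists_form e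
        · exact D.el_mem k l
        · exact absurd he.symm (hnc _ _ k nd' l)
      exact D.A_comm (key c hc) (key d hd)
    · exact absurd rfl hru
    · have hz : ∀ (k : ℤ) (e : S), Commute (D.el k k) e := fun k e =>
        (Subgroup.mem_center_iff.1 (D.diag_central k) e).symm
      obtain ⟨k, rfl | rfl⟩ := hform i c hc
      · exact hz k d
      · exact (hz k d).mul_left hd.symm

variable {G : Type*} [Group G] [Finite G]

theorem shape_of (S : Sylow 2 G)
    (hS : Cfsg.IsQuasiDihedral (S : Subgroup G) ∨ Cfsg.IsWreathed (S : Subgroup G)) :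
    Shape ↥(S : Subgroup G) := by
  rcases hS with hS | hS
  · obtain ⟨n, ⟨D⟩⟩ := exists_qdData' hS
    exact shape_qd D
  · obtain ⟨n, ⟨D⟩⟩ := exists_wrData' hS
    exact shape_wr D

/-- There is only one class of involutions. -/
theorem one_class (S : Sylow 2 G)
    (hS : Cfsg.IsQuasiDihedral (S : Subgroup G) ∨ Cfsg.IsWreathed (S : Subgroup G))
    (hG : ∀ H : Subgroup G, H.index ≠ 2) {a b : G} (ha : orderOf a = 2) (hb : orderOf b = 2) :
    IsConj a b := by
  haveI : Fact (Nat.Prime 2) := ⟨Nat.prime_two⟩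
  obtain ⟨u, hu⟩ : ∃ u : G, ∀ x : G, orderOf x = 2 → IsConj u x := by
    have bring : ∀ x : G, orderOf x = 2 → ∃ s : ↥(S : Subgroup G), orderOf (s : G) = 2 ∧ IsConj (s : G) x := by
      intro x hx
      obtain ⟨c, hc⟩ := exists_conj_mem_sylow S (k := 1) (by rw [pow_one]; exact hx)
      refine ⟨⟨_, hc⟩, ?_, isConj_iff.2 ⟨c⁻¹, by group⟩⟩
      show orderOf (MulAut.conj c x) = 2
      rw [MulEquiv.orderOf_eq, hx]
    rcases hS with hS | hS
    · obtain ⟨n, ⟨D⟩⟩ := exists_qdData' hS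
      have hf : D.FusedTwo := by
        by_contra h
        obtain ⟨K, -, hK, -⟩ := D.exists_K_quaternion h
        exact hG K hK
      refine ⟨(D.z : G), fun x hx => ?_⟩
      obtain ⟨s, hs, hsx⟩ := bring x hx
      rcases D.involution_cases' hs with h | h
      · exact h.symm.trans hsx
      · exact (hf.trans h.symm).trans hsx
    · obtain ⟨n, ⟨D⟩⟩ := exists_wrData' hS
      haveI : NeZero (2 ^ n : ℕ) := ⟨pow_ne_zero _ two_ne_zero⟩
      have hA : D.FusedA := by
        by_contra h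
        obtain ⟨f, hf, -⟩ := D.exists_kernel h
        have hd : 2 ∣ 2 ^ n := dvd_pow_self 2 (by have := D.hn; omega)
        let π : Multiplicative (ZMod (2 ^ n)) →* Multiplicative (ZMod 2) :=
          AddMonoidHom.toMultiplicative (ZMod.castHom hd (ZMod 2)).toAddMonoidHom
        refine hG (π.comp f).ker ?_
        rw [Subgroup.index_ker, (MonoidHom.range_eq_top (f := π.comp f)).2 (fun y => by
          obtain ⟨a, ha⟩ := ZMod.castHom_surjective hd y.toAdd
          obtain ⟨b, hb⟩ := hf (Multiplicative.ofAdd a)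
          exact ⟨b, by rw [MonoidHom.comp_apply, hb]; exact congrArg Multiplicative.ofAdd ha⟩),
          Subgroup.card_top, Nat.card_eq_fintype_card, Fintype.card_multiplicative, ZMod.card]
      have hE : D.FusedE := by
        by_contra h
        obtain ⟨K, -, hK, -, -⟩ := D.exists_K_abelian hA h
        exact hG K hK
      refine ⟨D.ug, fun x hx => ?_⟩
      obtain ⟨s, hs, hsx⟩ := bring x hx
      rcases D.involution_cases' hs with h | h | h
      · exact h.symm.trans hsx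
      · exact ((show IsConj D.ug D.eg from hA).trans h.symm).trans hsx
      · exact (((show IsConj D.ug D.eg from hA).trans hE).trans h.symm).trans hsx
  exact (hu a ha).symm.trans (hu b hb)

theorem exists_invol {P : Type*} [Group P] [Finite P] (hP : IsPGroup 2 P) [Nontrivial P] :
    ∃ a : P, a ∈ Subgroup.center P ∧ orderOf a = 2 := by
  haveI : Fact (Nat.Prime 2) := ⟨Nat.prime_two⟩
  haveI := hP.center_nontrivial
  have hd : 2 ∣ Nat.card ↥(Subgroup.center P) :=
    ((hP.to_subgroup _).card_eq_or_dvd).resolve_left (by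
      have := Finite.one_lt_card (α := ↥(Subgroup.center P))
      omega)
  obtain ⟨w, hw⟩ := exists_prime_orderOf_dvd_card' 2 hd
  exact ⟨w, w.2, by rw [Subgroup.orderOf_coe, hw]⟩

/-- No two commuting noncyclic subgroups intersecting trivially. -/
theorem no_product {S : Type*} [Group S] [Finite S] (h : Shape S) (hP : IsPGroup 2 S) (A B : Subgroup S)
    (hA : ¬ IsCyclic A) (hB : ¬ IsCyclic B) (hd : A ⊓ B = ⊥) (hc : ∀ a ∈ A, ∀ b ∈ B, Commute a b) : False := by
  haveI : Fact (Nat.Prime 2) := ⟨Nat.prime_two⟩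
  obtain ⟨u, hu1, hu2⟩ := h.pairs
  have hdis : ∀ {x}, x ∈ A → x ∈ B → orderOf x ≠ 2 := fun {x} hx hx' ho => by
    have : x = 1 := Subgroup.mem_bot.1 (hd ▸ ⟨hx, hx'⟩)
    rw [this, orderOf_one] at ho
    omega
  have nt : ∀ C : Subgroup S, ¬ IsCyclic C → Nontrivial C := fun C hC => by
    by_contra hn
    haveI := not_nontrivial_iff_subsingleton.1 hn
    exact hC isCyclic_of_subsingleton
  -- two involutions in `A` are incompatible with an involution of `B`
  have two : ∀ A B : Subgroup S, ¬ IsCyclic A → ¬ IsCyclic B →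
      (∀ {x}, x ∈ A → x ∈ B → orderOf x ≠ 2) → (∀ a ∈ A, ∀ b ∈ B, Commute a b) →
      (∃ r : A, ∃ a : A, a ∈ Subgroup.center A ∧ orderOf (a : S) = 2 ∧ orderOf (r : S) = 2 ∧ r ≠ a) → False := by
    intro A B hA hB hdis hc ⟨r, a, haZ, ha, hr, hne⟩
    haveI := nt B hB
    obtain ⟨b, -, hb⟩ := exists_invol (hP.to_subgroup B)
    rw [← Subgroup.orderOf_coe] at hb
    have hne' : (r : S) ≠ a := fun e => hne (Subtype.ext e)
    have hra : Commute (a : S) r := congrArg Subtype.val (Subgroup.mem_center_iff.1 haZ r).symm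
    obtain ⟨w, hwA, hwu, hw, huA⟩ : ∃ w : S, w ∈ A ∧ w ≠ u ∧ orderOf w = 2 ∧ u ∈ A := by
      by_cases hau : (a : S) = u
      · exact ⟨r, r.2, fun e => hne' (e.trans hau.symm), hr, hau ▸ a.2⟩
      by_cases hru : (r : S) = u
      · exact ⟨a, a.2, hau, ha, hru ▸ r.2⟩
      refine ⟨a, a.2, hau, ha, ?_⟩
      rcases hu1 _ _ ha hr hau hru hra with e | e
      · exact absurd e hne'
      · rw [eq_mul_inv_of_mul_eq e.symm]
        exact A.mul_mem r.2 (A.inv_mem a.2)
    have hbu : (b : S) ≠ u := fun e => hdis (e ▸ huA) b.2 hb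
    rcases hu1 _ _ hw hb hwu hbu (hc w hwA b b.2) with e | e
    · exact hdis (e ▸ hwA) b.2 hb
    · exact hdis (e ▸ A.mul_mem huA hwA) b.2 hb
  have uni : ∀ C : Subgroup S, ¬ (∃ r : C, ∃ a : C, a ∈ Subgroup.center C ∧ orderOf (a : S) = 2 ∧
      orderOf (r : S) = 2 ∧ r ≠ a) → ¬ IsCyclic C → ∀ a : C, orderOf (a : S) = 2 → (a : S) ≠ u →
      (∀ c : C, Commute (c : S) (a : S)) → False := by
    intro C hno hC a ha hau hca
    have haZ : a ∈ Subgroup.center C := Subgroup.mem_center_iff.2 fun c => Subtype.ext (hca c).eq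
    have huniq : ∀ x : C, x ^ 2 = 1 → x ≠ 1 → x = a := fun x hx hx1 => by
      by_contra hxa
      exact hno ⟨x, a, haZ, ha, by rw [Subgroup.orderOf_coe]; exact orderOf_eq_prime hx hx1, hxa⟩
    have hU : Solv.UniqueOrderP 2 C := fun x y hx hy hy1 => by
      by_cases hx1 : x = 1
      · rw [hx1]; exact one_mem _
      · rw [huniq x hx hx1, huniq y hy hy1]; exact Subgroup.mem_zpowers _
    rcases Solv.cyclic_or_quaternion (hP.to_subgroup C) hU with h1 | ⟨-, k, ⟨e⟩⟩
    · exact hC h1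
    have hab : ∀ c d : C, c * d = d * c := fun c d =>
      Subtype.ext (hu2 (a : S) c d ha hau (hca c) (hca d)).eq
    rcases Nat.eq_zero_or_pos k with rfl | hk
    · haveI : IsCyclic (QuaternionGroup (2 ^ 0)) := by
        rw [pow_zero]; exact QuaternionGroup.quaternionGroup_one_isCyclic
      exact hC (isCyclic_of_surjective e.symm e.symm.surjective)
    haveI : NeZero (2 ^ k) := ⟨pow_ne_zero _ two_ne_zero⟩
    have h2 := congrArg e (hab (e.symm (QuaternionGroup.a 1)) (e.symm (QuaternionGroup.xa 0)))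
    rw [map_mul, map_mul, MulEquiv.apply_symm_apply, MulEquiv.apply_symm_apply,
      QuaternionGroup.a_mul_xa, QuaternionGroup.xa_mul_a] at h2
    injection h2 with h3
    have h4 : ((2 : ℕ) : ZMod (2 * 2 ^ k)) = 0 := by
      push_cast
      linear_combination -h3
    rw [ZMod.natCast_eq_zero_iff] at h4
    have := Nat.le_of_dvd two_pos h4
    have : 2 ≤ 2 ^ k := le_trans (by norm_num) (Nat.pow_le_pow_right two_pos hk)
    omega
  by_cases h1 : ∃ r : A, ∃ a : A, a ∈ Subgroup.center A ∧ orderOf (a : S) = 2 ∧ orderOf (r : S) = 2 ∧ r ≠ a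
  · exact two A B hA hB hdis hc h1
  by_cases h2 : ∃ r : B, ∃ a : B, a ∈ Subgroup.center B ∧ orderOf (a : S) = 2 ∧ orderOf (r : S) = 2 ∧ r ≠ a
  · exact two B A hB hA (fun hx hx' => hdis hx' hx) (fun a ha b hb => (hc b hb a ha).symm) h2
  haveI := nt A hA
  haveI := nt B hB
  obtain ⟨a, haZ, ha⟩ := exists_invol (hP.to_subgroup A)
  obtain ⟨b, hbZ, hb⟩ := exists_invol (hP.to_subgroup B)
  rw [← Subgroup.orderOf_coe] at ha hb
  by_cases hau : (a : S) = u
  · refine uni B h2 hB b hb (fun e => hdis (hau ▸ a.2) (e ▸ b.2) (hau ▸ ha)) fun c => ?_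
    exact congrArg Subtype.val (Subgroup.mem_center_iff.1 hbZ c)
  · exact uni A h1 hA a ha hau fun c => congrArg Subtype.val (Subgroup.mem_center_iff.1 haZ c)

theorem exists_index_two_of_cyclic (P : Sylow 2 G) (hP : IsCyclic (P : Subgroup G))
    (h2 : 2 ∣ Nat.card G) : ∃ K : Subgroup G, K.Normal ∧ (Nat.card K).Coprime 2 ∧ K.index ≠ 1 ∧
      ∃ H : Subgroup G, H.index = 2 := by
  haveI : Fact (Nat.Prime 2) := ⟨Nat.prime_two⟩
  have hmin : (Nat.card G).minFac = 2 := (Nat.minFac_eq_two_iff _).2 h2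
  have hle := IsCyclic.normalizer_le_centralizer hmin hP
  have hc := MonoidHom.ker_transferSylow_isComplement' P hle
  obtain ⟨K, hK⟩ : ∃ K, K = (MonoidHom.transferSylow P hle).ker := ⟨_, rfl⟩
  haveI hKn : K.Normal := hK ▸ MonoidHom.normal_ker _
  rw [← hK] at hc
  have hidx : K.index = Nat.card (P : Subgroup G) := hc.symm.index_eq_card
  obtain ⟨k, hk⟩ := IsPGroup.iff_card.1 P.isPGroup'
  have hk0 : k ≠ 0 := fun e => by
    have h3 := (Subgroup.card_mul_index (P : Subgroup G)).symm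
    rw [hk, e, pow_zero, one_mul] at h3
    exact P.not_dvd_index (h3 ▸ h2)
  refine ⟨K, hKn, ?_, ?_, ?_⟩
  · rw [Nat.coprime_comm, Nat.prime_two.coprime_iff_not_dvd, ← hc.index_eq_card]
    exact P.not_dvd_index
  · rw [hidx, hk]; exact (Nat.one_lt_pow hk0 one_lt_two).ne'
  obtain ⟨j, rfl⟩ : ∃ j, k = j + 1 := ⟨k - 1, by omega⟩
  have hQ : Nat.card (G ⧸ K) = 2 ^ (j + 1) := by rw [← Subgroup.index_eq_card, hidx, hk]
  obtain ⟨H, hH⟩ := Sylow.exists_subgroup_card_pow_prime 2 (n := j) (G := G ⧸ K)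
    (by rw [hQ]; exact pow_dvd_pow 2 j.le_succ)
  refine ⟨H.comap (QuotientGroup.mk' K), ?_⟩
  rw [Subgroup.index_comap_of_surjective _ (QuotientGroup.mk'_surjective K)]
  have := H.card_mul_index
  rw [hH, hQ, pow_succ] at this
  exact Nat.eq_of_mul_eq_mul_left (by positivity) this

theorem exists_simple (T : Sylow 2 G) (hT : Shape ↥(T : Subgroup G))
    (hone : ∀ a b : G, orderOf a = 2 → orderOf b = 2 → IsConj a b)
    (hG : ∀ H : Subgroup G, H.index ≠ 2) (hO : Cfsg.oddCore G = ⊥) :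
    ∃ L : Subgroup G, L.Normal ∧ Odd L.index ∧ IsSimpleGroup L ∧ ¬ IsMulCommutative L := by
  haveI : Fact (Nat.Prime 2) := ⟨Nat.prime_two⟩
  obtain ⟨a₀, b₀, ha₀, hb₀, hab₀⟩ := hT.noncomm
  rw [← Subgroup.orderOf_coe] at ha₀ hb₀
  have hall : ∀ N : Subgroup G, N.Normal → ∀ t ∈ N, orderOf t = 2 → ∀ x : G, orderOf x = 2 → x ∈ N := by
    intro N hN t ht hto x hx
    obtain ⟨c, hc⟩ := isConj_iff.1 (hone t x hto hx)
    exact by rw [← hc]; exact hN.conj_mem t ht c
  have hO2 : ∀ N : Subgroup G, N.Normal → IsPGroup 2 N → N = ⊥ := by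
    intro N hN hp
    by_contra hne
    haveI : Nontrivial N := (Subgroup.nontrivial_iff_ne_bot N).2 hne
    obtain ⟨t, htZ, hto⟩ := exists_invol hp
    haveI : ((Subgroup.center N).map N.subtype).Normal := ConjAct.normal_of_characteristic_of_normal
    have key : ∀ x : G, orderOf x = 2 → x ∈ (Subgroup.center N).map N.subtype := fun x hx =>
      hall _ inferInstance (t : G) (Subgroup.mem_map_of_mem N.subtype htZ) (by rw [Subgroup.orderOf_coe]; exact hto) x hx
    obtain ⟨p, hp', e1⟩ := key _ ha₀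
    obtain ⟨q, -, e2⟩ := key _ hb₀
    refine hab₀ (Subtype.ext ?_)
    rw [Subgroup.coe_mul, Subgroup.coe_mul, ← e1, ← e2]
    exact congrArg Subtype.val (Subgroup.mem_center_iff.1 hp' q).symm
  have hO' : ∀ N : Subgroup G, N.Normal → ¬ 2 ∣ Nat.card N → N = ⊥ := fun N hN h =>
    eq_bot_iff.2 (hO ▸ le_pPrimeCore (Nat.coprime_comm.1 (Nat.prime_two.coprime_iff_not_dvd.2 h)))
  obtain ⟨N, ⟨hNn, hNne⟩, hNmin⟩ := Set.exists_min_image {N : Subgroup G | N.Normal ∧ N ≠ ⊥}
    (fun N => Nat.card N) (Set.toFinite _) ⟨⊤, inferInstance, fun e => hab₀ (Subtype.ext (by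
      have h1 : ∀ g : G, g = 1 := fun g => Subgroup.mem_bot.1 (e ▸ Subgroup.mem_top g)
      exact (h1 _).trans (h1 _).symm))⟩
  haveI := hNn
  have h2N : 2 ∣ Nat.card N := by
    by_contra h
    exact hNne (hO' N hNn h)
  obtain ⟨t, ht⟩ := exists_prime_orderOf_dvd_card' 2 h2N
  have hinv : ∀ x : G, orderOf x = 2 → x ∈ N :=
    hall N hNn t t.2 (by rw [Subgroup.orderOf_coe, ht])
  -- odd index
  have hodd : Odd N.index := by
    by_contra hev
    rw [Nat.not_odd_iff_even, even_iff_two_dvd, Subgroup.index_eq_card] at hev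
    have hsurj := QuotientGroup.mk'_surjective N
    let P : Sylow 2 (G ⧸ N) := T.mapSurjective hsurj
    have hP : IsCyclic (P : Subgroup (G ⧸ N)) := by
      obtain ⟨s, hs⟩ := hT.cyclicQuot
      let f : ↥(T : Subgroup G) →* ↥(P : Subgroup (G ⧸ N)) :=
        ((QuotientGroup.mk' N).comp (T : Subgroup G).subtype).codRestrict _ (fun x => ⟨x, x.2, rfl⟩)
      have hf : Function.Surjective f := by
        rintro ⟨_, x, hx, rfl⟩
        exact ⟨⟨x, hx⟩, rfl⟩
      refine ⟨⟨f s, fun y => ?_⟩⟩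
      obtain ⟨x, rfl⟩ := hf y
      have hle : Subgroup.closure {x : ↥(T : Subgroup G) | orderOf x = 2} ⊔ Subgroup.zpowers s ≤
          (Subgroup.zpowers (f s)).comap f := by
        refine sup_le ((Subgroup.closure_le _).2 fun x hx => ?_) (Subgroup.zpowers_le.2 (Subgroup.mem_zpowers (f s)))
        have : f x = 1 := Subtype.ext ((QuotientGroup.eq_one_iff _).2 (hinv (x : G) (by rw [Subgroup.orderOf_coe]; exact hx)))
        show f x ∈ Subgroup.zpowers (f s)
        rw [this]; exact one_mem _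
      exact hle (hs ▸ Subgroup.mem_top x)
    obtain ⟨-, -, -, -, H, hH⟩ := exists_index_two_of_cyclic P hP hev
    exact hG (H.comap (QuotientGroup.mk' N)) (by rw [Subgroup.index_comap_of_surjective _ hsurj, hH])
  have hnc : ¬ IsMulCommutative N := fun hc => by
    have h := congrArg Subtype.val (hc.is_comm.comm (⟨_, hinv _ ha₀⟩ : N) ⟨_, hinv _ hb₀⟩)
    exact hab₀ (Subtype.ext h)
  refine ⟨N, hNn, hodd, ?_, hnc⟩
  -- simplicity
  haveI : Nontrivial N := (Subgroup.nontrivial_iff_ne_bot N).2 hNne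
  refine ⟨fun M hM => ?_⟩
  by_contra hcon
  push Not at hcon
  obtain ⟨M₀, ⟨hM₀, hM₀b, hM₀t⟩, hmin⟩ := Set.exists_min_image
    {M : Subgroup N | M.Normal ∧ M ≠ ⊥ ∧ M ≠ ⊤} (fun M => Nat.card M) (Set.toFinite _) ⟨M, hM, hcon⟩
  haveI := hM₀
  let c : G → MulAut N := fun g => MulAut.conjNormal g
  obtain ⟨g, hg⟩ : ∃ g : G, M₀.map (c g).toMonoidHom ≠ M₀ := by
    by_contra hall'
    push Not at hall'
    have hne : M₀.map N.subtype ≠ ⊥ := fun e =>
      hM₀b ((Subgroup.map_eq_bot_iff_of_injective _ N.subtype_injective).1 e)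
    haveI hn' : (M₀.map N.subtype).Normal := by
      refine ⟨fun x hx g => ?_⟩
      obtain ⟨m, hm, rfl⟩ := hx
      refine ⟨c g m, ?_, by simp [c]⟩
      rw [← hall' g]
      exact ⟨m, hm, rfl⟩
    have h1 := hNmin _ ⟨hn', hne⟩
    rw [Subgroup.card_map_of_injective N.subtype_injective] at h1
    exact hM₀t (Subgroup.eq_top_of_card_eq _ (le_antisymm (Subgroup.card_le_card_group _) h1))
  obtain ⟨M₁, hM₁⟩ : ∃ M₁, M₁ = M₀.map (c g).toMonoidHom := ⟨_, rfl⟩
  rw [← hM₁] at hg
  haveI hM₁n : M₁.Normal := hM₁ ▸ hM₀.map _ (c g).surjective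
  have hdis : M₀ ⊓ M₁ = ⊥ := by
    by_contra hne
    have h1 := hmin (M₀ ⊓ M₁) ⟨inferInstance, hne, fun e => hM₀t (top_unique (e ▸ inf_le_left))⟩
    have h2 : M₀ ⊓ M₁ = M₀ := Subgroup.eq_of_le_of_card_ge inf_le_left h1
    refine hg (Subgroup.eq_of_le_of_card_ge (inf_eq_left.1 h2) (le_of_eq ?_)).symm
    rw [hM₁]
    exact Subgroup.card_map_of_injective (f := (c g).toMonoidHom) (c g).injective
  have hcomm : ∀ a ∈ M₀, ∀ b ∈ M₁, Commute a b := fun a ha b hb =>
    Subgroup.commute_of_normal_of_disjoint M₀ M₁ hM₀ hM₁n (disjoint_iff.2 hdis) a b ha hb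
  -- each factor has noncyclic Sylow subgroups
  have hncyc : ∀ (M : Subgroup N), M.Normal → M ≠ ⊥ → ∀ P : Sylow 2 M, ¬ IsCyclic (P : Subgroup M) := by
    intro M hMn hMne P hP
    haveI := hMn
    have hoddN : ∀ L : Subgroup N, L.Normal → ¬ 2 ∣ Nat.card L → L = ⊥ := by
      intro L hL hodd
      have h1 : L ≤ Cfsg.pPrimeCore 2 N :=
        le_pPrimeCore (hn := hL) (Nat.coprime_comm.1 (Nat.prime_two.coprime_iff_not_dvd.2 hodd))
      haveI : ((Cfsg.pPrimeCore 2 N).map N.subtype).Normal := ConjAct.normal_of_characteristic_of_normal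
      have h2 := hO' _ (inferInstance : ((Cfsg.pPrimeCore 2 N).map N.subtype).Normal) (by
        rw [Subgroup.card_map_of_injective N.subtype_injective]
        exact Nat.prime_two.coprime_iff_not_dvd.1 (Nat.coprime_comm.1 (card_pPrimeCore_coprime 2 N)))
      rw [Subgroup.map_eq_bot_iff_of_injective _ N.subtype_injective] at h2
      exact eq_bot_iff.2 (h2 ▸ h1)
    have h2M : 2 ∣ Nat.card M := by
      by_contra h
      exact hMne (hoddN M hMn h)
    obtain ⟨K, hKn, hKodd, hK1, -⟩ := exists_index_two_of_cyclic P hP h2M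
    have hmin2 : (Nat.card M).minFac = 2 := (Nat.minFac_eq_two_iff _).2 h2M
    have hc' := MonoidHom.ker_transferSylow_isComplement' P (IsCyclic.normalizer_le_centralizer hmin2 hP)
    have hKbot : K = ⊥ := by
      have h1 : K ≤ Cfsg.pPrimeCore 2 M := le_pPrimeCore (hn := hKn) hKodd
      haveI : ((Cfsg.pPrimeCore 2 M).map M.subtype).Normal := ConjAct.normal_of_characteristic_of_normal
      have h2 := hoddN _ (inferInstance : ((Cfsg.pPrimeCore 2 M).map M.subtype).Normal) (by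
        rw [Subgroup.card_map_of_injective M.subtype_injective]
        exact Nat.prime_two.coprime_iff_not_dvd.1 (Nat.coprime_comm.1 (card_pPrimeCore_coprime 2 M)))
      rw [Subgroup.map_eq_bot_iff_of_injective _ M.subtype_injective] at h2
      exact eq_bot_iff.2 (h2 ▸ h1)
    haveI hkn : ((MonoidHom.transferSylow P (IsCyclic.normalizer_le_centralizer hmin2 hP)).ker).Normal :=
      MonoidHom.normal_ker _
    have hkbot : (MonoidHom.transferSylow P (IsCyclic.normalizer_le_centralizer hmin2 hP)).ker = ⊥ := by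
      have h1 := le_pPrimeCore (p := 2) (hn := hkn)
        (Nat.coprime_comm.1 (Nat.prime_two.coprime_iff_not_dvd.2 (hc'.index_eq_card ▸ P.not_dvd_index)))
      haveI : ((Cfsg.pPrimeCore 2 M).map M.subtype).Normal := ConjAct.normal_of_characteristic_of_normal
      have h2 := hoddN _ (inferInstance : ((Cfsg.pPrimeCore 2 M).map M.subtype).Normal) (by
        rw [Subgroup.card_map_of_injective M.subtype_injective]
        exact Nat.prime_two.coprime_iff_not_dvd.1 (Nat.coprime_comm.1 (card_pPrimeCore_coprime 2 M)))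
      rw [Subgroup.map_eq_bot_iff_of_injective _ M.subtype_injective] at h2
      exact eq_bot_iff.2 (h2 ▸ h1)
    have hMp : IsPGroup 2 M := by
      obtain ⟨k, hk⟩ := IsPGroup.iff_card.1 P.isPGroup'
      refine IsPGroup.of_card (n := k) ?_
      rw [← hk, ← hc'.symm.index_eq_card, hkbot, Subgroup.index_bot]
    have h3 : M ≤ Cfsg.pCore 2 N := le_pCore hMp
    haveI : ((Cfsg.pCore 2 N).map N.subtype).Normal := ConjAct.normal_of_characteristic_of_normal
    have h4 := hO2 _ inferInstance ((isPGroup_pCore 2 N).map N.subtype)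
    rw [Subgroup.map_eq_bot_iff_of_injective _ N.subtype_injective] at h4
    exact hMne (eq_bot_iff.2 (h4 ▸ h3))
  have hM₁b : M₁ ≠ ⊥ := fun e => hM₀b ((Subgroup.map_eq_bot_iff_of_injective _ (c g).injective).1 (hM₁ ▸ e))
  obtain ⟨P₀⟩ : Nonempty (Sylow 2 M₀) := inferInstance
  obtain ⟨P₁⟩ : Nonempty (Sylow 2 M₁) := inferInstance
  let Q₀ : Subgroup G := ((P₀ : Subgroup M₀).map M₀.subtype).map N.subtype
  let Q₁ : Subgroup G := ((P₁ : Subgroup M₁).map M₁.subtype).map N.subtype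
  have hQc : ∀ a ∈ Q₀, ∀ b ∈ Q₁, Commute a b := by
    rintro _ ⟨_, ⟨a, -, rfl⟩, rfl⟩ _ ⟨_, ⟨b, -, rfl⟩, rfl⟩
    exact (hcomm _ a.2 _ b.2).map N.subtype
  have hQp : IsPGroup 2 ↥(Q₀ ⊔ Q₁) := by
    refine IsPGroup.to_sup_of_normal_right' ((P₀.isPGroup'.map _).map _) ((P₁.isPGroup'.map _).map _) ?_
    intro a ha
    refine Subgroup.mem_normalizer_iff.2 fun b => ⟨fun hb => ?_, fun hb => ?_⟩
    · rw [(hQc a ha b hb).eq, mul_inv_cancel_right]; exact hb
    · have := (hQc a⁻¹ (inv_mem ha) _ hb).eq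
      have h5 : b = a * b * a⁻¹ := by
        calc b = a⁻¹ * (a * b * a⁻¹) * a := by group
          _ = a * b * a⁻¹ := by rw [this, inv_mul_cancel_right]
      rw [h5]; exact hb
  obtain ⟨R, hR⟩ := hQp.exists_le_sylow
  obtain ⟨r, hr⟩ := MulAction.exists_smul_eq G R T
  obtain ⟨φ, hφ⟩ : ∃ φ : G →* G, φ = (MulAut.conj r).toMonoidHom := ⟨_, rfl⟩
  have hφi : Function.Injective φ := hφ ▸ (MulAut.conj r).injective
  have hmem : ∀ {x}, x ∈ Q₀ ⊔ Q₁ → φ x ∈ (T : Subgroup G) := fun {x} hx => by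
    rw [← hr, hφ]
    exact ⟨x, hR hx, rfl⟩
  let A : Subgroup ↥(T : Subgroup G) := (Q₀.map φ).subgroupOf (T : Subgroup G)
  let B : Subgroup ↥(T : Subgroup G) := (Q₁.map φ).subgroupOf (T : Subgroup G)
  have hA : Q₀.map φ ≤ (T : Subgroup G) := by
    rintro _ ⟨x, hx, rfl⟩; exact hmem (Subgroup.mem_sup_left hx)
  have hB : Q₁.map φ ≤ (T : Subgroup G) := by
    rintro _ ⟨x, hx, rfl⟩; exact hmem (Subgroup.mem_sup_right hx)
  have eA : (P₀ : Subgroup M₀) ≃* A :=
    ((Subgroup.equivMapOfInjective _ _ M₀.subtype_injective).trans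
      (Subgroup.equivMapOfInjective _ _ N.subtype_injective)).trans
      ((Subgroup.equivMapOfInjective _ φ hφi).trans (Subgroup.subgroupOfEquivOfLe hA).symm)
  have eB : (P₁ : Subgroup M₁) ≃* B :=
    ((Subgroup.equivMapOfInjective _ _ M₁.subtype_injective).trans
      (Subgroup.equivMapOfInjective _ _ N.subtype_injective)).trans
      ((Subgroup.equivMapOfInjective _ φ hφi).trans (Subgroup.subgroupOfEquivOfLe hB).symm)
  refine no_product hT T.isPGroup' A B (fun h => hncyc M₀ hM₀ hM₀b P₀ ?_) (fun h => hncyc M₁ hM₁n hM₁b P₁ ?_) ?_ ?_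
  · exact isCyclic_of_surjective eA.symm eA.symm.surjective
  · exact isCyclic_of_surjective eB.symm eB.symm.surjective
  · refine eq_bot_iff.2 fun x hx => Subgroup.mem_bot.2 (Subtype.ext ?_)
    obtain ⟨⟨_, ⟨_, ⟨a, -, rfl⟩, rfl⟩, ea⟩, ⟨_, ⟨_, ⟨b, -, rfl⟩, rfl⟩, eb⟩⟩ := hx
    have hab : (a : N) = (b : N) := Subtype.ext (hφi (ea.trans eb.symm))
    have : (a : N) = 1 := Subgroup.mem_bot.1 (hdis ▸ ⟨a.2, hab ▸ b.2⟩)
    exact ea.symm.trans (by simp [this])
  · rintro a ⟨x, hx, ex⟩ b ⟨y, hy, ey⟩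
    refine Subtype.ext ?_
    show (a : G) * b = b * a
    rw [show (a : G) = φ x from ex.symm, show (b : G) = φ y from ey.symm]
    exact ((hQc x hx y hy).map φ).eq

end Cfsg.Agent.Char.QDSimple
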