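import Cfsg.Agent.Lib.Char.CyclotomicInt

/-!
# The contribution matrix of a subsection

The matrix of contributions of a subsection `(x, e)` is `p ^ d(e)` times an idempotent hermitian matrix of trace
`l(e)`. For a major subsection the row of `χ` is divisible exactly by `p ^ h(χ)`. For `p = 2` the diagonal entries
have integral averages over the conjugates, with known parity.
-/

set_option autoImplicit false
set_option linter.unusedSectionVars false

open Cfsg Polynomial
open scoped ComplexConjugate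

namespace Cfsg.Agent.Char.MajorSub

universe u

variable {G : Type u} [Group G] [Fintype G] {M : Ideal AlgInt} {p k : ℕ} {x : G}
  [Fintype (Subgroup.centralizer ({x} : Set G))]
  {B : Set (IrrCharacter G)} {e : Set (IrrCharacter (Subgroup.centralizer ({x} : Set G)))}


theorem exists_expo (hk : orderOf x = p ^ k) {ω : ℂ} (hω : IsPrimitiveRoot ω (p ^ k)) :
    ∃ j : IrrCharacter (Subgroup.centralizer ({x} : Set G)) → ℕ, (∀ η, j η < p ^ k) ∧
      ∀ (η : IrrCharacter (Subgroup.centralizer ({x} : Set G))) (c : (Subgroup.centralizer ({x} : Set G))), (η : (Subgroup.centralizer ({x} : Set G)) → ℂ)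
        (⟨x, Subgroup.mem_centralizer_singleton_iff.mpr rfl⟩ * c) = ω ^ j η * (η : (Subgroup.centralizer ({x} : Set G)) → ℂ) c := by
  haveI : NeZero (p ^ k) := ⟨hk ▸ (orderOf_pos x).ne'⟩
  set xc : (Subgroup.centralizer ({x} : Set G)) := ⟨x, Subgroup.mem_centralizer_singleton_iff.mpr rfl⟩
  have hcent : ∀ c : (Subgroup.centralizer ({x} : Set G)), xc * c = c * xc := fun c =>
    Subtype.ext (Subgroup.mem_centralizer_singleton_iff.mp c.2).symm
  choose ζ hζN hζ using fun η => exists_central_root hcent η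
  have h : ∀ η, ∃ i < p ^ k, ω ^ i = ζ η := fun η => hω.eq_pow_of_pow_eq_one (by
    rw [← hk, ← Subgroup.orderOf_mk x (Subgroup.mem_centralizer_singleton_iff.mpr rfl)]
    exact hζN η)
  choose j hj hjζ using h
  exact ⟨j, hj, fun η c => by rw [hjζ]; exact hζ η c⟩

open scoped Classical in
/-- The contributions as integral polynomials in a root of unity. -/
noncomputable def pol (p N : ℕ) (e : Set (IrrCharacter (Subgroup.centralizer ({x} : Set G)))) (j : IrrCharacter (Subgroup.centralizer ({x} : Set G)) → ℕ)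
    (χ ψ : IrrCharacter G) : ℤ[X] :=
  ∑ η : IrrCharacter (Subgroup.centralizer ({x} : Set G)) with η ∈ e, ∑ θ : IrrCharacter (Subgroup.centralizer ({x} : Set G)) with θ ∈ e,
    C ((mRes x χ η : ℤ) * (mRes x ψ θ : ℤ) * wI p e η θ) * X ^ (j η + (N - j θ))

theorem aeval_pol {j : IrrCharacter (Subgroup.centralizer ({x} : Set G)) → ℕ} {N : ℕ} (hj : ∀ η, j η < N) {μ : ℂ} (hμ : μ ^ N = 1)
    (χ ψ : IrrCharacter G) :
    aeval μ (pol p N e j χ ψ) = ctr p e (fun η => μ ^ j η) χ ψ := by
  classical
  have hμ0 : μ ≠ 0 := fun h => by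
    rcases Nat.eq_zero_or_pos N with hN | hN
    · exact absurd (hj ⟨_, isIrrCharacter_one⟩) (by omega)
    · rw [h, zero_pow hN.ne'] at hμ; exact zero_ne_one hμ
  simp only [pol, map_sum, map_mul, aeval_C, map_pow, aeval_X, ctr]
  refine Finset.sum_congr rfl fun η _ => Finset.sum_congr rfl fun θ _ => ?_
  rw [pow_add, pow_sub₀ _ hμ0 (hj θ).le, hμ, one_mul]
  simp

theorem conj_ctr (hM : IsPModular p M) {z : IrrCharacter (Subgroup.centralizer ({x} : Set G)) → ℂ} (hz : ∀ η, conj (z η) = (z η)⁻¹)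
    (χ ψ : IrrCharacter G) : conj (ctr p e z χ ψ) = ctr p e z ψ χ := by
  classical
  simp only [ctr, map_sum, map_mul, map_natCast, map_intCast, map_inv₀, hz, inv_inv]
  rw [Finset.sum_comm]
  refine Finset.sum_congr rfl fun η _ => Finset.sum_congr rfl fun θ _ => ?_
  rw [wI_comm_cast hM e θ η]
  ring

theorem ctr_one_symm (hM : IsPModular p M) (χ ψ : IrrCharacter G) :
    ctr p e (fun _ => 1) χ ψ = ctr p e (fun _ => 1) ψ χ := by
  classical
  simp only [ctr]
  rw [Finset.sum_comm]
  refine Finset.sum_congr rfl fun η _ => Finset.sum_congr rfl fun θ _ => ?_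
  rw [wI_comm_cast hM e θ η]
  ring

theorem ctr_congr_one (hM : IsPModular p M) {z : IrrCharacter (Subgroup.centralizer ({x} : Set G)) → ℂ}
    (hz : ∀ η, z η ^ p ^ k = 1) (χ ψ : IrrCharacter G) :
    MemLocalIdeal M (ctr p e z χ ψ - ctr p e (fun _ => 1) χ ψ) := by
  classical
  have hP := pmod_prime hM
  simp only [ctr, ← Finset.sum_sub_distrib]
  refine memLI_sum hP _ _ fun η _ => memLI_sum hP _ _ fun θ _ => ?_
  rw [inv_one, mul_one, ← mul_sub]
  refine memLI_mul_left hP (memLR_mul hP (memLR_mul hP (memLR_natCast hP _)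
    (memLR_natCast hP _)) (memLR_intCast hP _)) ?_
  exact root_congr_one hM (k := k) (by rw [mul_pow, inv_pow, hz, hz, inv_one, mul_one])

open scoped Classical in
theorem einner_eq_avg (η θ : IrrCharacter (Subgroup.centralizer ({x} : Set G))) :
    einner p (η : (Subgroup.centralizer ({x} : Set G)) → ℂ) (θ : (Subgroup.centralizer ({x} : Set G)) → ℂ) = (Nat.card (Subgroup.centralizer ({x} : Set G)) : ℂ)⁻¹ *
      ∑ s : (Subgroup.centralizer ({x} : Set G)) with ¬ p ∣ orderOf s, (η : (Subgroup.centralizer ({x} : Set G)) → ℂ) s * conj ((θ : (Subgroup.centralizer ({x} : Set G)) → ℂ) s) := by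
  rw [einner, classInner, Finset.sum_filter]
  congr 1
  refine Finset.sum_congr rfl fun s _ => ?_
  simp only [Pi.mul_apply, regInd]
  split_ifs <;> simp_all

section Value

variable {z : IrrCharacter (Subgroup.centralizer ({x} : Set G)) → ℂ}
  (hz : ∀ (η : IrrCharacter (Subgroup.centralizer ({x} : Set G))) (c : (Subgroup.centralizer ({x} : Set G))), (η : (Subgroup.centralizer ({x} : Set G)) → ℂ)
    (⟨x, Subgroup.mem_centralizer_singleton_iff.mpr rfl⟩ * c) = z η * (η : (Subgroup.centralizer ({x} : Set G)) → ℂ) c)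

open scoped Classical in
/-- The part of `χ` on the section of `x` seen by `e`. -/
noncomputable def locFun (e : Set (IrrCharacter (Subgroup.centralizer ({x} : Set G)))) (z : IrrCharacter (Subgroup.centralizer ({x} : Set G)) → ℂ) (χ : IrrCharacter G) :
    (Subgroup.centralizer ({x} : Set G)) → ℂ :=
  fun s => ∑ η : IrrCharacter (Subgroup.centralizer ({x} : Set G)) with η ∈ e, (mRes x χ η : ℂ) * z η * (η : (Subgroup.centralizer ({x} : Set G)) → ℂ) s

include hz in
theorem secFun_eq (χ : IrrCharacter G) :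
    secFun x (χ : G → ℂ) = ∑ θ : IrrCharacter (Subgroup.centralizer ({x} : Set G)), ((mRes x χ θ : ℂ) * z θ) • (θ : (Subgroup.centralizer ({x} : Set G)) → ℂ) := by
  funext c
  have h := congrFun (mRes_spec (x := x) χ) (⟨x, Subgroup.mem_centralizer_singleton_iff.mpr rfl⟩ * c)
  simp only [Function.comp_apply, Subgroup.coe_subtype, Subgroup.coe_mul, Finset.sum_apply,
    Pi.smul_apply, nsmul_eq_mul, Pi.mul_apply, Pi.natCast_apply, hz] at h
  rw [secFun, h, Finset.sum_apply]
  refine Finset.sum_congr rfl fun θ _ => ?_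
  rw [Pi.smul_apply, smul_eq_mul, mul_assoc]

include hz in
theorem blockPart_secFun_eq (χ : IrrCharacter G) (s : (Subgroup.centralizer ({x} : Set G))) :
    blockPart e (secFun x (χ : G → ℂ)) s = locFun e z χ s := by
  classical
  rw [blockPart_eq]
  refine Finset.sum_congr rfl fun η _ => ?_
  congr 1
  rw [secFun_eq hz, classInner_sum_left, Finset.sum_eq_single η]
  · rw [classInner_smul_left, irr_orth η.2 η.2, if_pos rfl, mul_one]
  · intro θ _ hne
    rw [classInner_smul_left, irr_orth θ.2 η.2, if_neg (fun h => hne (Subtype.ext h)), mul_zero]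
  · exact fun h => absurd (Finset.mem_univ _) h

open scoped Classical in
theorem sum_locFun_mul_conj (hzc : ∀ η, conj (z η) = (z η)⁻¹) (hM : IsPModular p M) (he : IsPBlock M e)
    (χ ψ : IrrCharacter G) :
    (p : ℂ) ^ blockDefect p e * (Nat.card (Subgroup.centralizer ({x} : Set G)) : ℂ)⁻¹ *
      ∑ s : (Subgroup.centralizer ({x} : Set G)) with ¬ p ∣ orderOf s, locFun e z χ s * conj (locFun e z ψ s) = ctr p e z χ ψ := by
  simp only [locFun, map_sum, map_mul, map_natCast, hzc, Finset.sum_mul, Finset.mul_sum]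
  rw [ctr]
  conv_lhs => rw [Finset.sum_comm]
  conv_rhs => rw [Finset.sum_comm]
  refine Finset.sum_congr rfl fun θ _ => ?_
  rw [Finset.sum_comm]
  refine Finset.sum_congr rfl fun η hη => ?_
  rw [wI_cast_eq hM he (Finset.mem_filter.mp hη).2 θ, einner_eq_avg]
  simp only [Finset.mul_sum, Finset.sum_mul]
  exact Finset.sum_congr rfl fun s _ => by ring

variable (hM : IsPModular p M) (hx : ∃ k : ℕ, orderOf x = p ^ k) (hind : IsInducedBlock M (Subgroup.centralizer ({x} : Set G)) e B)
  (hzc : ∀ η, conj (z η) = (z η)⁻¹)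

include hz hM hx hind hzc in
open scoped Classical in
/-- The contributions are a multiple of a projection. -/
theorem sum_ctr_mul (χ φ : IrrCharacter G) :
    ∑ ψ : IrrCharacter G with ψ ∈ B, ctr p e z χ ψ * ctr p e z ψ φ =
      (p : ℂ) ^ blockDefect p e * ctr p e z χ φ := by
  have hP := pmod_prime hM
  have he := hind.1
  set R := Finset.univ.filter fun s : (Subgroup.centralizer ({x} : Set G)) => ¬ p ∣ orderOf s with hR
  set a : ℂ := (p : ℂ) ^ blockDefect p e * (Nat.card (Subgroup.centralizer ({x} : Set G)) : ℂ)⁻¹ with ha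
  have hloc : ∀ s ∈ R, ∀ t ∈ R,
      ∑ ψ : IrrCharacter G with ψ ∈ B, conj (locFun e z ψ s) * locFun e z ψ t =
        ∑ η : IrrCharacter (Subgroup.centralizer ({x} : Set G)) with η ∈ e, conj ((η : (Subgroup.centralizer ({x} : Set G)) → ℂ) s) * (η : (Subgroup.centralizer ({x} : Set G)) → ℂ) t := fun s hs t ht => by
    simp only [← blockPart_secFun_eq hz]
    exact sum_local_part_mul hM hx hind (Finset.mem_filter.mp ht).2 (Finset.mem_filter.mp hs).2
  have h1 : ∑ ψ : IrrCharacter G with ψ ∈ B, ctr p e z χ ψ * ctr p e z ψ φ =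
      a ^ 2 * ∑ η : IrrCharacter (Subgroup.centralizer ({x} : Set G)) with η ∈ e,
        (∑ s ∈ R, locFun e z χ s * conj ((η : (Subgroup.centralizer ({x} : Set G)) → ℂ) s)) *
          ∑ t ∈ R, (η : (Subgroup.centralizer ({x} : Set G)) → ℂ) t * conj (locFun e z φ t) := by
    simp only [← sum_locFun_mul_conj hzc hM he, ← ha, ← hR, mul_mul_mul_comm a _ a, ← pow_two]
    simp only [Finset.sum_mul_sum]
    simp only [Finset.mul_sum]
    rw [Finset.sum_comm]
    conv_rhs => rw [Finset.sum_comm]
    refine Finset.sum_congr rfl fun s hs => ?_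
    rw [Finset.sum_comm]
    conv_rhs => rw [Finset.sum_comm]
    refine Finset.sum_congr rfl fun t ht => ?_
    have h := congrArg (fun c => a ^ 2 * locFun e z χ s * conj (locFun e z φ t) * c) (hloc s hs t ht)
    simp only [Finset.mul_sum] at h
    exact (Finset.sum_congr rfl fun ψ _ => by ring).trans
      (h.trans (Finset.sum_congr rfl fun η _ => by ring))
  have hN : (Nat.card (Subgroup.centralizer ({x} : Set G)) : ℂ) ≠ 0 := Nat.cast_ne_zero.mpr Nat.card_pos.ne'
  have hs : ∀ (η' η : IrrCharacter (Subgroup.centralizer ({x} : Set G))), ∑ s ∈ R, (η' : (Subgroup.centralizer ({x} : Set G)) → ℂ) s * conj ((η : (Subgroup.centralizer ({x} : Set G)) → ℂ) s) =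
      (Nat.card (Subgroup.centralizer ({x} : Set G)) : ℂ) * einner p (η' : (Subgroup.centralizer ({x} : Set G)) → ℂ) (η : (Subgroup.centralizer ({x} : Set G)) → ℂ) := fun η' η => by
    rw [einner_eq_avg, mul_inv_cancel_left₀ hN]
  have h2 : ∀ η : IrrCharacter (Subgroup.centralizer ({x} : Set G)), (∑ s ∈ R, locFun e z χ s * conj ((η : (Subgroup.centralizer ({x} : Set G)) → ℂ) s)) =
      ∑ η' : IrrCharacter (Subgroup.centralizer ({x} : Set G)) with η' ∈ e,
        (mRes x χ η' : ℂ) * z η' * ((Nat.card (Subgroup.centralizer ({x} : Set G)) : ℂ) * einner p (η' : (Subgroup.centralizer ({x} : Set G)) → ℂ) (η : (Subgroup.centralizer ({x} : Set G)) → ℂ)) := by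
    intro η
    simp only [locFun, Finset.sum_mul]
    rw [Finset.sum_comm]
    refine Finset.sum_congr rfl fun η' _ => ?_
    rw [← hs, Finset.mul_sum]
    exact Finset.sum_congr rfl fun s _ => by ring
  have h3 : ∀ η : IrrCharacter (Subgroup.centralizer ({x} : Set G)), (∑ t ∈ R, (η : (Subgroup.centralizer ({x} : Set G)) → ℂ) t * conj (locFun e z φ t)) =
      ∑ θ : IrrCharacter (Subgroup.centralizer ({x} : Set G)) with θ ∈ e,
        (mRes x φ θ : ℂ) * (z θ)⁻¹ * ((Nat.card (Subgroup.centralizer ({x} : Set G)) : ℂ) * einner p (η : (Subgroup.centralizer ({x} : Set G)) → ℂ) (θ : (Subgroup.centralizer ({x} : Set G)) → ℂ)) := by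
    intro η
    simp only [locFun, map_sum, map_mul, map_natCast, hzc, Finset.mul_sum]
    rw [Finset.sum_comm]
    refine Finset.sum_congr rfl fun θ _ => ?_
    simp only [← hs, Finset.mul_sum]
    exact Finset.sum_congr rfl fun s _ => by ring
  rw [h1]
  simp only [h2, h3, Finset.sum_mul_sum]
  simp only [ctr, Finset.mul_sum]
  rw [Finset.sum_comm]
  refine Finset.sum_congr rfl fun η' hη' => ?_
  rw [Finset.sum_comm]
  refine Finset.sum_congr rfl fun θ _ => ?_
  have hη'e := (Finset.mem_filter.mp hη').2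
  have h4 := sum_einner_mul (p := p) η' θ
  rw [← Finset.sum_subset (Finset.subset_univ (Finset.univ.filter fun η : IrrCharacter (Subgroup.centralizer ({x} : Set G)) => η ∈ e))
    (fun η _ hη => by
      rw [einner_eq_zero_of_not_sameBlock hM η' η (fun h => hη (Finset.mem_filter.mpr
        ⟨Finset.mem_univ _, (mem_block_iff hP he hη'e η).mpr h⟩)), zero_mul])] at h4
  rw [wI_cast_eq hM he hη'e θ, ← h4]
  simp only [Finset.mul_sum, Finset.sum_mul]
  refine Finset.sum_congr rfl fun η _ => ?_
  rw [ha]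
  field_simp

include hz hM hx hind hzc in
open scoped Classical in
theorem sum_ctr_self :
    ∑ χ : IrrCharacter G with χ ∈ B, ctr p e z χ χ =
      (p : ℂ) ^ blockDefect p e * (blockRank p e : ℂ) := by
  have he := hind.1
  simp only [← sum_locFun_mul_conj hzc hM he, ← Finset.mul_sum]
  rw [Finset.sum_comm]
  have hloc : ∀ s ∈ (Finset.univ.filter fun s : (Subgroup.centralizer ({x} : Set G)) => ¬ p ∣ orderOf s),
      ∑ ψ : IrrCharacter G with ψ ∈ B, locFun e z ψ s * conj (locFun e z ψ s) =
        ∑ η : IrrCharacter (Subgroup.centralizer ({x} : Set G)) with η ∈ e, (η : (Subgroup.centralizer ({x} : Set G)) → ℂ) s * conj ((η : (Subgroup.centralizer ({x} : Set G)) → ℂ) s) := fun s hs => by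
    simp only [← blockPart_secFun_eq hz, mul_comm _ (conj _)]
    exact sum_local_part_mul hM hx hind (Finset.mem_filter.mp hs).2 (Finset.mem_filter.mp hs).2
  rw [Finset.sum_congr rfl hloc, mul_assoc]
  congr 1
  refine mul_left_cancel₀ (Nat.cast_ne_zero.mpr (Nat.card_pos (α := (Subgroup.centralizer ({x} : Set G)))).ne' : (Nat.card (Subgroup.centralizer ({x} : Set G)) : ℂ) ≠ 0) ?_
  rw [mul_inv_cancel_left₀ (Nat.cast_ne_zero.mpr Nat.card_pos.ne'), blockRank_eq_sum hM he]
  exact Finset.sum_congr rfl fun _ _ => Finset.sum_congr rfl fun _ _ => mul_comm _ _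

end Value

section Major

variable {z : IrrCharacter (Subgroup.centralizer ({x} : Set G)) → ℂ}
  (hz : ∀ (η : IrrCharacter (Subgroup.centralizer ({x} : Set G))) (c : (Subgroup.centralizer ({x} : Set G))), (η : (Subgroup.centralizer ({x} : Set G)) → ℂ)
    (⟨x, Subgroup.mem_centralizer_singleton_iff.mpr rfl⟩ * c) = z η * (η : (Subgroup.centralizer ({x} : Set G)) → ℂ) c)
  (hzk : ∀ η, z η ^ p ^ k = 1)
  (hM : IsPModular p M) (hx : orderOf x = p ^ k) (hind : IsInducedBlock M (Subgroup.centralizer ({x} : Set G)) e B)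
  (hd : blockDefect p e = blockDefect p B)

include hz hzk hM hx hind hd in
open scoped Classical in
/-- A contribution of a major subsection as a value of `lam`. -/
theorem major_lam (ψ : IrrCharacter G) :
    ∃ F : G → ℂ, IsClassFunction G F ∧ (∀ g, MemLocalRing M (F g)) ∧ ∀ φ ∈ B, ∃ w, MemLocalRing M w ∧
      ctr p e z φ ψ = (p : ℂ) ^ blockHeight p B (φ : G → ℂ) * w ∧
      (MemLocalIdeal M w ↔ MemLocalIdeal M (lam (φ : G → ℂ) F)) := by
  have hP := pmod_prime hM
  have hzc : ∀ η, conj (z η) = (z η)⁻¹ := fun η =>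
    (Complex.inv_eq_conj (Complex.norm_eq_one_of_pow_eq_one (hzk η) (pow_ne_zero k hM.1.ne_zero))).symm
  have hzint : ∀ η, IsIntegral ℤ (z η) := fun η =>
    root_of_unity_isIntegral (pow_ne_zero k hM.1.ne_zero) (hzk η)
  set v : (Subgroup.centralizer ({x} : Set G)) → ℂ := fun c => conj (locFun e z ψ c) with hv
  have hvc : IsClassFunction (Subgroup.centralizer ({x} : Set G)) v := fun a b => by
    simp only [hv, locFun]
    congr 1
    exact Finset.sum_congr rfl fun η _ => by rw [isClassFunction_character (irr_isCharacter η.2) a b]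
  have hvR : ∀ c, MemLocalRing M (v c) := fun c => by
    simp only [hv, locFun, map_sum, map_mul, map_natCast, hzc]
    refine memLR_sum hP _ _ fun η _ => memLR_mul hP (memLR_mul hP (memLR_natCast hP _) ?_)
      (conj_char_memLR hP (irr_isCharacter η.2) c)
    refine memLocalRing_of_isIntegral hP.ne_top ?_
    exact root_of_unity_isIntegral (pow_ne_zero k hM.1.ne_zero) (by rw [inv_pow, hzk, inv_one])
  set F := sectionExt p x v with hF
  have hFc : IsClassFunction G F := isClassFunction_sectionExt v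
  have hFR : ∀ g, MemLocalRing M (F g) := by
    intro g
    obtain ⟨y, hy⟩ := exists_isPPart hM.1 g
    by_cases hc : IsConj x y
    · obtain ⟨c, hc'⟩ := isConj_iff.mp hc
      obtain ⟨w, hw, hcm, hord, hreg⟩ := hy
      have hw' : c⁻¹ * w * c ∈ (Subgroup.centralizer ({x} : Set G)) := Subgroup.mem_centralizer_singleton_iff.mpr (by
        calc c⁻¹ * w * c * x = c⁻¹ * (w * y) * c := by rw [← hc']; group
          _ = c⁻¹ * (y * w) * c := by rw [hcm.symm.eq]
          _ = x * (c⁻¹ * w * c) := by rw [← hc']; group)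
      have e1 : F g = F (x * (⟨_, hw'⟩ : (Subgroup.centralizer ({x} : Set G)))) := by
        rw [← hFc g c⁻¹]
        congr 1
        show c⁻¹ * g * c⁻¹⁻¹ = x * (c⁻¹ * w * c)
        rw [← hw, ← hc']; group
      rw [e1, hF, sectionExt_apply hM ⟨k, hx⟩ hvc _ (by
        rw [← Subgroup.orderOf_coe]
        show ¬ p ∣ orderOf (c⁻¹ * w * c)
        rw [show c⁻¹ * w * c = MulAut.conj c⁻¹ w by simp, MulEquiv.orderOf_eq]
        exact hreg)]
      exact hvR _
    · simp only [F, sectionExt_eq_zero hM ⟨k, hx⟩ v hy hc]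
      exact memLR_zero hP
  -- the value of `lam`
  have hsum : ∀ φ : IrrCharacter G, ∑ g, F g * (φ : G → ℂ) g =
      (Nat.card G : ℂ) * ((p : ℂ) ^ blockDefect p e)⁻¹ * ctr p e z φ ψ := by
    intro φ
    have hφc := isClassFunction_character (irr_isCharacter φ.2)
    have hN : (Nat.card (Subgroup.centralizer ({x} : Set G)) : ℂ) ≠ 0 := Nat.cast_ne_zero.mpr Nat.card_pos.ne'
    calc ∑ g, F g * (φ : G → ℂ) g
        = (Nat.card (Subgroup.centralizer ({x} : Set G)) : ℂ)⁻¹ * ∑ c : G, ∑ g : G, (if h : x⁻¹ * (c⁻¹ * g * c) ∈ (Subgroup.centralizer ({x} : Set G))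
            then regPartL p v ⟨_, h⟩ else 0) * (φ : G → ℂ) g := by
          simp only [F, sectionExt, mul_assoc, Finset.sum_mul, ← Finset.mul_sum]
          rw [Finset.sum_comm]
      _ = (Nat.card (Subgroup.centralizer ({x} : Set G)) : ℂ)⁻¹ * ∑ _c : G, ∑ d : (Subgroup.centralizer ({x} : Set G)), regPartL p v d * secFun x (φ : G → ℂ) d := by
          congr 1
          refine Finset.sum_congr rfl fun c _ => ?_
          rw [← Finset.sum_subtype (Finset.univ.filter fun h : G => h ∈ (Subgroup.centralizer ({x} : Set G))) (by simp)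
            (fun h => (if hh : h ∈ (Subgroup.centralizer ({x} : Set G)) then regPartL p v ⟨h, hh⟩ else 0) * (φ : G → ℂ) (x * h)) |>.trans
              (Finset.sum_congr rfl fun d _ => by rw [dif_pos d.2]; rfl),
            Finset.sum_filter_of_ne fun h _ hne => by_contra fun hh => hne (by rw [dif_neg hh, zero_mul])]
          refine Fintype.sum_equiv (((MulAut.conj c⁻¹).toEquiv).trans (Equiv.mulLeft x⁻¹)) _ _ fun g => ?_
          simp only [Equiv.trans_apply, MulEquiv.toEquiv_eq_coe, EquivLike.coe_coe, Equiv.coe_mulLeft,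
            MulAut.conj_apply, inv_inv, mul_inv_cancel_left]
          congr 1
          exact ((congrArg (φ : G → ℂ) (by group : c⁻¹ * g * c = c⁻¹ * g * c⁻¹⁻¹)).trans
            (hφc g c⁻¹)).symm
      _ = (Nat.card (Subgroup.centralizer ({x} : Set G)) : ℂ)⁻¹ * (Nat.card G : ℂ) * ∑ d : (Subgroup.centralizer ({x} : Set G)) with ¬ p ∣ orderOf d,
            locFun e z φ d * conj (locFun e z ψ d) := by
          rw [Finset.sum_const, Finset.card_univ, nsmul_eq_mul, ← Nat.card_eq_fintype_card, mul_assoc]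
          congr 2
          rw [Finset.sum_filter]
          have e1 : ∀ d : (Subgroup.centralizer ({x} : Set G)), regPartL p v d * secFun x (φ : G → ℂ) d =
              ∑ θ : IrrCharacter (Subgroup.centralizer ({x} : Set G)), ∑ η : IrrCharacter (Subgroup.centralizer ({x} : Set G)) with η ∈ e,
                (mRes x φ θ : ℂ) * z θ * ((mRes x ψ η : ℂ) * (z η)⁻¹) *
                  (if ¬ p ∣ orderOf d then (θ : (Subgroup.centralizer ({x} : Set G)) → ℂ) d * conj ((η : (Subgroup.centralizer ({x} : Set G)) → ℂ) d) else 0) := by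
            intro d
            rw [secFun_eq hz φ, Finset.sum_apply]
            by_cases hd : p ∣ orderOf d
            · simp [regPartL_of_sing hd, hd]
            · simp only [regPartL_of_reg hd, hv, locFun, map_sum, map_mul, map_natCast, hzc, if_pos hd,
                Finset.sum_mul, Finset.mul_sum, Pi.smul_apply, smul_eq_mul]
              exact Finset.sum_congr rfl fun θ _ => Finset.sum_congr rfl fun η _ => by ring
          rw [Finset.sum_congr rfl fun d _ => e1 d, Finset.sum_comm]
          rw [← Finset.sum_subset (Finset.subset_univ (Finset.univ.filter fun θ : IrrCharacter (Subgroup.centralizer ({x} : Set G)) => θ ∈ e))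
            (fun θ _ hθ => by
              rw [Finset.sum_comm]
              refine Finset.sum_eq_zero fun η hη => ?_
              rw [← Finset.mul_sum, ← Finset.sum_filter]
              refine mul_eq_zero_of_right _ ?_
              have h := einner_eq_zero_of_not_sameBlock hM θ η (fun hs => hθ (Finset.mem_filter.mpr
                ⟨Finset.mem_univ _, (mem_block_iff hP hind.1 (Finset.mem_filter.mp hη).2 θ).mpr
                  (sameBlock_symm hP hs)⟩))
              rw [einner_eq_avg] at h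
              exact (mul_eq_zero.mp h).resolve_left (inv_ne_zero hN))]
          rw [Finset.sum_comm]
          refine Finset.sum_congr rfl fun d _ => ?_
          split_ifs with hd
          · simp [hd]
          · simp only [locFun, map_sum, map_mul, map_natCast, hzc, Finset.sum_mul, Finset.mul_sum]
            rw [Finset.sum_comm]
            exact Finset.sum_congr rfl fun θ _ => Finset.sum_congr rfl fun η _ => by
              ring
      _ = _ := by
          rw [← sum_locFun_mul_conj hzc hM hind.1]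
          have : ((p : ℂ) ^ blockDefect p e) ≠ 0 := pow_ne_zero _ (Nat.cast_ne_zero.mpr hM.1.ne_zero)
          field_simp
  set m := Nat.card G / p ^ (Nat.card G).factorization p with hm
  have hpm : ¬ p ∣ m := Nat.not_dvd_ordCompl hM.1 Nat.card_pos.ne'
  have hlam : ∀ φ : IrrCharacter G, φ ∈ B → ∃ c : ℕ, ¬ p ∣ c ∧ ctr p e z φ ψ =
      (p : ℂ) ^ blockHeight p B (φ : G → ℂ) * (lam (φ : G → ℂ) F * (c : ℂ) * (m : ℂ)⁻¹) := by
    intro φ hφ
    obtain ⟨c, hc, hdeg⟩ := deg_eq_pow_mul hM.1 φ.2
    refine ⟨c, hc, ?_⟩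
    have hm0 : (m : ℂ) ≠ 0 := Nat.cast_ne_zero.mpr fun h => hpm (h ▸ dvd_zero p)
    have hc0 : (c : ℂ) ≠ 0 := Nat.cast_ne_zero.mpr fun h => hc (h ▸ dvd_zero p)
    have hp0 : (p : ℂ) ≠ 0 := Nat.cast_ne_zero.mpr hM.1.ne_zero
    have hG : (Nat.card G : ℂ) = (p : ℂ) ^ (dmin p B) * (p : ℂ) ^ blockDefect p B * (m : ℂ) := by
      rw [← pow_add, dmin_add_defect (block_nonempty hP hind.2.1), ← Nat.cast_pow, ← Nat.cast_mul, hm,
        Nat.ordProj_mul_ordCompl_eq_self]
    rw [lam, hsum, char_one_eq_deg (irr_isCharacter φ.2), hdeg, dexp_eq_height_add hφ, hG, hd]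
    push_cast
    rw [pow_add]
    field_simp
  refine ⟨F, hFc, hFR, fun φ hφ => ?_⟩
  obtain ⟨c, hc, h⟩ := hlam φ hφ
  have hL := memLR_lam hP φ.2 hFc hFR
  refine ⟨_, memLR_mul hP (memLR_mul hP hL (memLR_natCast hP _)) (memLR_inv_natCast hM hpm), h, ?_⟩
  refine ⟨fun hI => ?_, fun hI => memLI_mul_right hP (memLI_mul_right hP hI (memLR_natCast hP _))
    (memLR_inv_natCast hM hpm)⟩
  have h1 := memLI_mul_right hP hI (memLR_natCast hP m)
  rw [mul_assoc, inv_mul_cancel₀ (Nat.cast_ne_zero.mpr fun h => hpm (by rw [h]; exact dvd_zero p)), mul_one] at h1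
  exact (memLI_mul_mem hP hL (memLR_natCast hP _) h1).resolve_right
    fun hcI => hc ((memLI_natCast_iff hM _).mp hcI)

include hz hzk hM hx hind hd in
open scoped Classical in
/-- For a major subsection the row of `χ` is divisible by exactly `p ^ h(χ)`. -/
theorem major_unit {χ ψ : IrrCharacter G} (hχ : χ ∈ B) (hψ : ψ ∈ B) :
    ∃ w : ℂ, MemLocalRing M w ∧ ctr p e z χ ψ = (p : ℂ) ^ blockHeight p B (χ : G → ℂ) * w ∧
      (MemLocalIdeal M w ↔ blockHeight p B (ψ : G → ℂ) ≠ 0) := by
  have hP := pmod_prime hM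
  obtain ⟨χ0, hχ0, h0⟩ := exists_height_zero (p := p) (block_nonempty hP hind.2.1)
  obtain ⟨F, hFc, hFR, hunit⟩ := major_lam hz hzk hM hx hind hd ψ
  obtain ⟨w0, -, hw0, hw0iff⟩ := hunit χ0 hχ0
  rw [h0, pow_zero, one_mul] at hw0
  obtain ⟨w, hwR, hw, hwiff⟩ := hunit χ hχ
  refine ⟨w, hwR, hw, hwiff.trans ?_⟩
  have hcg := lam_congr hP χ.2 χ0.2 (block_sameBlock hP hind.2.1 hχ hχ0) hFc hFR
  have h1 : MemLocalIdeal M (lam (χ : G → ℂ) F) ↔ MemLocalIdeal M (ctr p e z χ0 ψ) := by
    rw [hw0, hw0iff]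
    exact ⟨fun h => memLI_congr hP (memLI_symm hP hcg) h, fun h => memLI_congr hP hcg h⟩
  rw [h1]
  refine ⟨fun h hψ0 => ctr_one_unit hM hind hχ0 hψ h0 hψ0
    (memLI_congr hP (memLI_symm hP (ctr_congr_one hM hzk χ0 ψ)) h), fun hne => ?_⟩
  refine memLI_congr hP (ctr_congr_one hM hzk χ0 ψ) ?_
  rw [ctr_one_symm hM]
  refine memLI_congr hP (memLI_symm hP (ctr_congr_one hM hzk ψ χ0)) ?_
  obtain ⟨F', -, -, hunit'⟩ := major_lam hz hzk hM hx hind hd χ0
  obtain ⟨w', hw'R, hw', -⟩ := hunit' ψ hψ
  rw [hw']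
  obtain ⟨a, ha⟩ : ∃ a, blockHeight p B (ψ : G → ℂ) = a + 1 := ⟨_, (Nat.succ_pred hne).symm⟩
  rw [ha, pow_succ', mul_assoc]
  exact memLI_mul_right hP (memLI_p hM) (memLR_mul hP (memLR_pow hP (memLR_natCast hP _) a) hw'R)

end Major

end Cfsg.Agent.Char.MajorSub
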