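import Cfsg.Agent.Lib.Char.CentralClass
import Cfsg.Agent.Lib.Char.MajorSubsection

/-!
# Height zero characters against a subsection whose defect group is cyclic by central

If `(x, e)` is a subsection of `B` with `d(e) = a + 1` where `o(x) = p ^ a`, every height zero character of `B`
has average contribution at least `l(e)`, so `k₀(B) ≤ p ^ d(e)`.
-/

set_option autoImplicit false
set_option linter.unusedSectionVars false

open Cfsg Polynomial
open scoped ComplexConjugate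

namespace Cfsg.Agent.Char.CentralClass

universe u

/-- Parseval over the powers of a primitive root. -/
theorem sum_range_normSq {α : Type*} [Fintype α] {K : ℕ} (hK : 0 < K) {ρ : ℂ} (hρ : IsPrimitiveRoot ρ K)
    (ex : α → ℕ) (hex : ∀ a, ex a < K) (hinj : Function.Injective ex) (c : α → ℤ) :
    ∑ u ∈ Finset.range K, Complex.normSq (∑ a, (c a : ℂ) * (ρ ^ u) ^ ex a) =
      (K : ℝ) * ∑ a, (c a : ℝ) ^ 2 := by
  classical
  apply Complex.ofReal_injective
  push_cast
  simp only [← Complex.mul_conj, map_sum, map_mul, map_intCast, map_pow, Finset.sum_mul_sum]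
  rw [Finset.sum_comm, Finset.mul_sum]
  refine Finset.sum_congr rfl fun a _ => ?_
  rw [Finset.sum_comm, Finset.sum_eq_single a]
  · have h1 : ∀ u, ρ ^ u * conj ρ ^ u = 1 := fun u => by
      rw [← mul_pow, Complex.mul_conj, Complex.normSq_eq_norm_sq,
        Complex.norm_eq_one_of_pow_eq_one hρ.pow_eq_one hK.ne']
      simp
    rw [Finset.sum_congr rfl (g := fun _ => (c a : ℂ) ^ 2) fun u _ => by
      rw [mul_mul_mul_comm, ← mul_pow, h1, one_pow, mul_one, sq]]
    simp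
  · intro b _ hba
    have hρ0 : ρ ≠ 0 := hρ.ne_zero hK.ne'
    have hcj : conj ρ = ρ⁻¹ :=
      (Complex.inv_eq_conj (Complex.norm_eq_one_of_pow_eq_one hρ.pow_eq_one hK.ne')).symm
    set r := ρ ^ ex a * (ρ ^ ex b)⁻¹ with hr
    have hr1 : r ≠ 1 := fun h => hba (hinj (hρ.pow_inj (hex a) (hex b)
      ((mul_inv_eq_one₀ (pow_ne_zero _ hρ0)).mp h))).symm
    have hrK : r ^ K = 1 := by
      rw [hr, mul_pow, inv_pow, ← pow_mul, ← pow_mul, mul_comm (ex a), mul_comm (ex b), pow_mul, pow_mul,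
        hρ.pow_eq_one, one_pow, one_pow, inv_one, one_mul]
    rw [Finset.sum_congr rfl (g := fun u => (c a : ℂ) * (c b : ℂ) * r ^ u) fun u _ => by
      rw [mul_mul_mul_comm, hcj, hr, mul_pow, inv_pow, inv_pow, inv_pow, ← pow_mul, ← pow_mul, ← pow_mul, ← pow_mul,
        mul_comm (ex a), mul_comm (ex b)], ← Finset.mul_sum, geom_sum_eq hr1, hrK, sub_self, zero_div, mul_zero]
  · intro h
    exact absurd (Finset.mem_univ a) h

/-- Two values apart force `n - 1` differences. -/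
theorem pair_count {n : ℕ} (F : Fin n → Fin n → ℝ) (hF : ∀ i k, 0 ≤ F i k) {L : ℝ} {i₀ i₁ : Fin n}
    (h01 : i₀ ≠ i₁) (hb : L ≤ F i₀ i₁) (hb' : L ≤ F i₁ i₀)
    (h : ∀ i, i ≠ i₀ → i ≠ i₁ → L ≤ F i i₀ + F i i₁ ∧ L ≤ F i₀ i + F i₁ i) :
    2 * ((n : ℝ) - 1) * L ≤ ∑ i, ∑ k, F i k := by
  classical
  set R := (Finset.univ.erase i₀).erase i₁ with hR
  have hi1 : i₁ ∈ Finset.univ.erase i₀ := Finset.mem_erase.mpr ⟨h01.symm, Finset.mem_univ _⟩
  have hsplit : ∀ g : Fin n → ℝ, ∑ i, g i = g i₀ + (g i₁ + ∑ i ∈ R, g i) := fun g => by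
    rw [← Finset.add_sum_erase _ _ (Finset.mem_univ i₀), ← Finset.add_sum_erase _ _ hi1]
  have hcard : (R.card : ℝ) = (n : ℝ) - 2 := by
    have h1 : R.card + 2 = n := by
      rw [hR, Finset.card_erase_of_mem hi1, Finset.card_erase_of_mem (Finset.mem_univ _), Finset.card_univ,
        Fintype.card_fin]
      have : 2 ≤ n := by
        have := Finset.card_le_univ ({i₀, i₁} : Finset (Fin n))
        rwa [Finset.card_pair h01, Fintype.card_fin] at this
      omega
    have h2 : (R.card : ℝ) + 2 = n := by exact_mod_cast h1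
    linarith
  have hmem : ∀ i ∈ R, i ≠ i₀ ∧ i ≠ i₁ := fun i hi =>
    ⟨Finset.ne_of_mem_erase (Finset.mem_of_mem_erase hi), Finset.ne_of_mem_erase hi⟩
  have h1 : (R.card : ℝ) * L ≤ ∑ i ∈ R, ∑ k, F i k := by
    rw [← nsmul_eq_mul, ← Finset.sum_const]
    refine Finset.sum_le_sum fun i hi => ?_
    rw [hsplit (F i)]
    have := Finset.sum_nonneg (s := R) fun k _ => hF i k
    linarith [(h i (hmem i hi).1 (hmem i hi).2).1]
  have h2 : (R.card : ℝ) * L ≤ ∑ k ∈ R, F i₀ k + ∑ k ∈ R, F i₁ k := by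
    rw [← Finset.sum_add_distrib, ← nsmul_eq_mul, ← Finset.sum_const]
    exact Finset.sum_le_sum fun i hi => (h i (hmem i hi).1 (hmem i hi).2).2
  rw [hsplit (fun i => ∑ k, F i k), hsplit (F i₀), hsplit (F i₁)]
  have := hF i₀ i₀
  have := hF i₁ i₁
  rw [hcard] at h1 h2
  linarith

variable {G : Type u} [Group G] [Fintype G] {M : Ideal AlgInt} {p a : ℕ} {x : G}
  [Fintype (Subgroup.centralizer ({x} : Set G))]
  {B : Set (IrrCharacter G)} {e : Set (IrrCharacter (Subgroup.centralizer ({x} : Set G)))}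

open scoped Classical in
/-- The bound on height zero characters. -/
theorem card_heightZero_le_pow (hM : IsPModular p M) (hk : orderOf x = p ^ a) (ha : 1 ≤ a)
    (hind : IsInducedBlock M (Subgroup.centralizer ({x} : Set G)) e B) (hd : blockDefect p e = a + 1) :
    (Finset.univ.filter fun χ : IrrCharacter G => χ ∈ B ∧ blockHeight p B (χ : G → ℂ) = 0).card ≤
      p ^ (a + 1) := by
  have hP := pmod_prime hM
  have hp := hM.1
  set N := p ^ a with hN
  have hN0 : 0 < N := pow_pos hp.pos a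
  set Mc := p ^ (a - 1) with hMc
  have hMc0 : 0 < Mc := pow_pos hp.pos _
  have hNM : N = p * Mc := by rw [hN, hMc, ← pow_succ']; congr 1; omega
  obtain ⟨ω, hω⟩ : ∃ ω : ℂ, IsPrimitiveRoot ω N := ⟨_, Complex.isPrimitiveRoot_exp _ hN0.ne'⟩
  obtain ⟨j, hj, hz⟩ := MajorSub.exists_expo hk hω
  set xc : Subgroup.centralizer ({x} : Set G) := ⟨x, Subgroup.mem_centralizer_singleton_iff.mpr rfl⟩ with hxc
  have hxo : orderOf xc = p ^ a := by rw [hxc, Subgroup.orderOf_mk, hk]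
  have hcent : ∀ c : Subgroup.centralizer ({x} : Set G), xc * c = c * xc := fun c =>
    Subtype.ext (Subgroup.mem_centralizer_singleton_iff.mp c.2).symm
  have he := hind.1
  set S := cls e j 0 with hS
  set y := fun (χ : IrrCharacter G) (θ : IrrCharacter (Subgroup.centralizer ({x} : Set G))) (s : ℕ) =>
    ∑ η ∈ cls e j s, wI p e θ η * (mRes x χ η : ℤ) with hy
  set f := fun (χ : IrrCharacter G) (θ : IrrCharacter (Subgroup.centralizer ({x} : Set G))) (μ : ℂ) =>
    ∑ η ∈ bset e, ((wI p e θ η * (mRes x χ η : ℤ) : ℤ) : ℂ) * μ ^ j η with hf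
  -- the contribution as a sum of squares
  have hI : ∀ (χ : IrrCharacter G) (μ : ℂ), μ ^ N = 1 → (p : ℂ) * ctr p e (fun η => μ ^ j η) χ χ =
      ((∑ θ ∈ S, Complex.normSq (f χ θ μ) : ℝ) : ℂ) := by
    intro χ μ hμ
    have hcj : conj μ = μ⁻¹ :=
      (Complex.inv_eq_conj (Complex.norm_eq_one_of_pow_eq_one hμ hN0.ne')).symm
    push_cast
    simp only [← Complex.mul_conj, hf, map_sum, map_mul, Int.cast_mul, map_intCast, map_pow, hcj,
      inv_pow, Int.cast_natCast, map_natCast, Finset.sum_mul_sum]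
    rw [Finset.sum_comm, ctr, Finset.mul_sum, bset]
    refine Finset.sum_congr rfl fun η hη => ?_
    rw [Finset.sum_comm, Finset.mul_sum]
    refine Finset.sum_congr rfl fun θ hθ => ?_
    have h1 := sum_cls hM he hcent hxo hω hj hz hd (Finset.mem_filter.mp hη).2 (Finset.mem_filter.mp hθ).2
      (s := 0) hN0
    have h2 := congrArg (fun t : ℤ => (t : ℂ) * ((mRes x χ η : ℂ) * (mRes x χ θ : ℂ) *
      (μ ^ j η * (μ ^ j θ)⁻¹))) h1
    simp only [Int.cast_sum, Int.cast_mul, Int.cast_natCast, Finset.sum_mul] at h2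
    refine Eq.trans ?_ (h2.symm.trans (Finset.sum_congr rfl fun φ _ => ?_))
    · ring
    · rw [wI_symm hM η φ]; ring
  have hfy : ∀ χ θ (μ : ℂ), f χ θ μ =
      ∑ q : Fin p × Fin Mc, (y χ θ (q.2 + Mc * q.1) : ℂ) * μ ^ ((q.2 : ℕ) + Mc * q.1) := by
    intro χ θ μ
    have hlt : ∀ q : Fin p × Fin Mc, (q.2 : ℕ) + Mc * q.1 < N := fun q => by
      rw [hNM]; have := q.2.2; have := q.1.2; nlinarith
    set g : IrrCharacter (Subgroup.centralizer ({x} : Set G)) → Fin p × Fin Mc := fun η =>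
      (⟨j η / Mc, Nat.div_lt_of_lt_mul (by rw [mul_comm, ← hNM]; exact hj η)⟩,
        ⟨j η % Mc, Nat.mod_lt _ hMc0⟩) with hg
    simp only [hf]
    rw [← Finset.sum_fiberwise_of_maps_to (t := Finset.univ) (g := g) fun _ _ => Finset.mem_univ _]
    refine Finset.sum_congr rfl fun q _ => ?_
    have hset : (bset e).filter (fun η => g η = q) = cls e j (q.2 + Mc * q.1) := by
      ext η
      simp only [Finset.mem_filter, mem_bset, mem_cls, hg, Prod.ext_iff, Fin.ext_iff]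
      refine and_congr_right fun _ => ⟨fun h => ?_, fun h => ?_⟩
      · rw [← h.1, ← h.2, Nat.mod_add_div]
      · rw [h]
        exact ⟨by rw [Nat.add_mul_div_left _ _ hMc0, Nat.div_eq_of_lt q.2.2, zero_add],
          by rw [Nat.add_mul_mod_self_left, Nat.mod_eq_of_lt q.2.2]⟩
    rw [hset, hy, Int.cast_sum, Finset.sum_mul]
    exact Finset.sum_congr rfl fun η hη => by rw [(mem_cls.mp hη).2]
  set U := (Finset.range N).filter (fun u => ¬ p ∣ u) with hU
  have hsplitU : ∀ g : ℕ → ℝ, ∑ u ∈ U, g u =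
      ∑ u ∈ Finset.range N, g u - ∑ u ∈ Finset.range Mc, g (p * u) := by
    intro g
    have h1 : (Finset.range N).filter (fun u => p ∣ u) = (Finset.range Mc).image (p * ·) := by
      ext u
      simp only [Finset.mem_filter, Finset.mem_range, Finset.mem_image]
      constructor
      · rintro ⟨hu, t, rfl⟩
        exact ⟨t, Nat.lt_of_mul_lt_mul_left (hNM ▸ hu), rfl⟩
      · rintro ⟨t, ht, rfl⟩
        exact ⟨hNM ▸ Nat.mul_lt_mul_of_pos_left ht hp.pos, dvd_mul_right p t⟩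
    rw [eq_sub_iff_add_eq, hU, ← Finset.sum_filter_not_add_sum_filter (Finset.range N) (fun u => p ∣ u) g, h1,
      Finset.sum_image fun u _ v _ h => Nat.eq_of_mul_eq_mul_left hp.pos h]
  have hcardU : (U.card : ℝ) = (Mc : ℝ) * ((p : ℝ) - 1) := by
    have := hsplitU fun _ => 1
    simp only [Finset.sum_const, Finset.card_range, nsmul_eq_mul, mul_one] at this
    rw [this, hNM]; push_cast; ring
  have hρ : IsPrimitiveRoot (ω ^ p) Mc := hω.pow hN0 hNM
  -- the average over the conjugates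
  have havg : ∀ χ, ∑ u ∈ U, ∑ θ ∈ S, Complex.normSq (f χ θ (ω ^ u)) =
      (Mc : ℝ) / 2 * ∑ σ : Fin Mc, ∑ i : Fin p, ∑ i' : Fin p,
        ∑ θ ∈ S, ((y χ θ (σ + Mc * i) : ℝ) - (y χ θ (σ + Mc * i') : ℝ)) ^ 2 := by
    intro χ
    have hθ : ∀ θ ∈ S, ∑ u ∈ U, Complex.normSq (f χ θ (ω ^ u)) =
        (Mc : ℝ) / 2 * ∑ σ : Fin Mc, ∑ i : Fin p, ∑ i' : Fin p,
          ((y χ θ (σ + Mc * i) : ℝ) - (y χ θ (σ + Mc * i') : ℝ)) ^ 2 := by
      intro θ _
      have hinj : Function.Injective fun q : Fin p × Fin Mc => (q.2 : ℕ) + Mc * q.1 := by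
        intro q q' h
        have h1 := congrArg (· % Mc) h
        have h2 := congrArg (· / Mc) h
        simp only [Nat.add_mul_mod_self_left, Nat.mod_eq_of_lt q.2.2, Nat.mod_eq_of_lt q'.2.2] at h1
        simp only [Nat.add_mul_div_left _ _ hMc0, Nat.div_eq_of_lt q.2.2, Nat.div_eq_of_lt q'.2.2, zero_add] at h2
        exact Prod.ext (Fin.ext h2) (Fin.ext h1)
      have hA := sum_range_normSq hN0 hω (fun q : Fin p × Fin Mc => (q.2 : ℕ) + Mc * q.1)
        (fun q => by rw [hNM]; have := q.2.2; have := q.1.2; nlinarith) hinj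
        (fun q => y χ θ (q.2 + Mc * q.1))
      have hB := sum_range_normSq hMc0 hρ (fun σ : Fin Mc => (σ : ℕ)) (fun σ => σ.2) Fin.val_injective
        (fun σ => ∑ i : Fin p, y χ θ (σ + Mc * i))
      have e1 : ∀ u : ℕ, f χ θ (ω ^ (p * u)) =
          ∑ σ : Fin Mc, ((∑ i : Fin p, y χ θ (σ + Mc * i) : ℤ) : ℂ) * ((ω ^ p) ^ u) ^ (σ : ℕ) := by
        intro u
        rw [hfy, Fintype.sum_prod_type, Finset.sum_comm]
        refine Finset.sum_congr rfl fun σ _ => ?_
        rw [Int.cast_sum, Finset.sum_mul]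
        refine Finset.sum_congr rfl fun i _ => ?_
        congr 1
        rw [pow_add, ← pow_mul ω p u, pow_mul (ω ^ (p * u)) Mc, ← pow_mul ω (p * u) Mc,
          show p * u * Mc = p * Mc * u by ring, pow_mul ω (p * Mc) u, ← hNM, hω.pow_eq_one, one_pow, one_pow,
          mul_one]
      rw [hsplitU]
      simp only [e1]
      rw [Finset.sum_congr rfl fun u _ => by rw [hfy], hA, hB, Fintype.sum_prod_type, Finset.sum_comm, hNM,
        Finset.mul_sum, Finset.mul_sum, Finset.mul_sum, ← Finset.sum_sub_distrib]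
      refine Finset.sum_congr rfl fun σ _ => ?_
      push_cast
      simp only [sub_sq, Finset.sum_add_distrib, Finset.sum_sub_distrib, Finset.sum_const, Finset.card_univ,
        Fintype.card_fin, nsmul_eq_mul, mul_assoc, ← Finset.mul_sum, ← Finset.sum_mul]
      ring
    rw [Finset.sum_comm, Finset.sum_congr rfl hθ, ← Finset.mul_sum, Finset.sum_comm]
    congr 1
    refine Finset.sum_congr rfl fun σ _ => ?_
    rw [Finset.sum_comm]
    exact Finset.sum_congr rfl fun i _ => Finset.sum_comm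
  have hlow : ∀ χ ∈ B, blockHeight p B (χ : G → ℂ) = 0 →
      (Mc : ℝ) * ((p : ℝ) - 1) * ((p : ℝ) * (blockRank p e : ℝ)) ≤
        ∑ u ∈ U, ∑ θ ∈ S, Complex.normSq (f χ θ (ω ^ u)) := by
    intro χ hχ h0
    set F := fun (σ : Fin Mc) (i i' : Fin p) =>
      ∑ θ ∈ S, ((y χ θ (σ + Mc * i) : ℝ) - (y χ θ (σ + Mc * i') : ℝ)) ^ 2 with hF
    have hFnn : ∀ σ i i', 0 ≤ F σ i i' := fun σ i i' => Finset.sum_nonneg fun _ _ => sq_nonneg _
    have hFsymm : ∀ σ i i', F σ i i' = F σ i' i := fun σ i i' =>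
      Finset.sum_congr rfl fun _ _ => by ring
    have hFlow : ∀ σ i i', (∃ θ ∈ S, y χ θ ((σ : Fin Mc) + Mc * (i : Fin p)) ≠ y χ θ (σ + Mc * (i' : Fin p))) →
        (p : ℝ) * (blockRank p e : ℝ) ≤ F σ i i' := by
      intro σ i i' hex
      set m := fun η => (if j η = (σ : ℕ) + Mc * i then (mRes x χ η : ℤ) else 0) -
        (if j η = (σ : ℕ) + Mc * i' then (mRes x χ η : ℤ) else 0) with hm
      have hyd : ∀ θ ∈ S, y χ θ (σ + Mc * i) - y χ θ (σ + Mc * i') =
          ∑ η ∈ bset e, wI p e θ η * m η := by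
        intro θ _
        simp only [hy, hm, mul_sub, Finset.sum_sub_distrib, mul_ite, mul_zero, ← Finset.sum_filter]
        congr 1 <;> refine Finset.sum_congr (Finset.ext fun η => ?_) fun _ _ => rfl <;>
          simp [mem_cls, mem_bset]
      have h := le_normSq_image hM he hcent hxo hω hj hz hd (s := 0) hN0
        (fun θ => y χ θ (σ + Mc * i) - y χ θ (σ + Mc * i')) m hyd
        (by obtain ⟨θ, hθ, hne⟩ := hex; exact ⟨θ, hθ, sub_ne_zero.mpr hne⟩)
      have h' : ((((p : ℤ) * (blockRank p e : ℤ) : ℤ)) : ℝ) ≤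
          ((∑ θ ∈ S, (y χ θ (σ + Mc * i) - y χ θ (σ + Mc * i')) ^ 2 : ℤ) : ℝ) := Int.cast_le.mpr h
      push_cast at h'
      exact h'
    obtain ⟨σ, i₀, i₁, hex⟩ : ∃ σ : Fin Mc, ∃ i₀ i₁ : Fin p, ∃ θ ∈ S,
        y χ θ (σ + Mc * i₀) ≠ y χ θ (σ + Mc * i₁) := by
      by_contra hno
      push Not at hno
      refine ctr_one_unit hM hind hχ hχ h0 h0 ?_
      refine memLI_congr hP (memLI_symm hP (MajorSub.ctr_congr_one (k := a) hM (z := fun η => ω ^ j η)
        (fun η => by rw [← hN, ← pow_mul, mul_comm, pow_mul, hω.pow_eq_one, one_pow]) χ χ)) ?_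
      have hzero : (p : ℂ) * ctr p e (fun η => ω ^ j η) χ χ = 0 := by
        rw [hI χ ω hω.pow_eq_one, Complex.ofReal_eq_zero]
        refine Finset.sum_eq_zero fun θ hθ => ?_
        rw [Complex.normSq_eq_zero, hfy, Fintype.sum_prod_type, Finset.sum_comm]
        refine Finset.sum_eq_zero fun σ _ => ?_
        rw [Finset.sum_congr rfl fun i _ => by rw [hno σ i ⟨0, hp.pos⟩ θ hθ, pow_add, ← mul_assoc, pow_mul]]
        dsimp only
        rw [← Finset.mul_sum, Fin.sum_univ_eq_sum_range (fun i => (ω ^ Mc) ^ i),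
          (hω.pow hN0 (by rw [hNM]; ring : N = Mc * p)).geom_sum_eq_zero hp.one_lt, mul_zero]
      rw [(mul_eq_zero.mp hzero).resolve_left (Nat.cast_ne_zero.mpr hp.ne_zero)]
      exact memLI_zero hP
    have h01 : i₀ ≠ i₁ := fun h => by obtain ⟨θ, -, hne⟩ := hex; exact hne (by rw [h])
    have hor : ∀ i, (∃ θ ∈ S, y χ θ (σ + Mc * i) ≠ y χ θ (σ + Mc * i₀)) ∨
        ∃ θ ∈ S, y χ θ (σ + Mc * i) ≠ y χ θ (σ + Mc * i₁) := by
      intro i
      obtain ⟨θ, hθ, hne⟩ := hex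
      by_cases h : y χ θ (σ + Mc * i) = y χ θ (σ + Mc * i₀)
      · exact Or.inr ⟨θ, hθ, fun h' => hne (h ▸ h')⟩
      · exact Or.inl ⟨θ, hθ, h⟩
    have hb := hFlow σ i₀ i₁ hex
    have hpc := pair_count (F σ) (hFnn σ) h01 hb (hFsymm σ i₀ i₁ ▸ hb) (fun i _ _ => by
      rw [hFsymm σ i₀ i, hFsymm σ i₁ i]
      have := hFnn σ i i₀
      have := hFnn σ i i₁
      rcases hor i with h | h <;> have := hFlow _ _ _ h <;> constructor <;> linarith)
    rw [havg]
    have hle : ∑ i, ∑ i', F σ i i' ≤ ∑ σ : Fin Mc, ∑ i, ∑ i', F σ i i' :=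
      Finset.single_le_sum (f := fun σ => ∑ i, ∑ i', F σ i i')
        (fun σ _ => Finset.sum_nonneg fun i _ => Finset.sum_nonneg fun i' _ => hFnn σ i i') (Finset.mem_univ σ)
    have hM' : (0 : ℝ) ≤ (Mc : ℝ) / 2 := by positivity
    calc (Mc : ℝ) * ((p : ℝ) - 1) * ((p : ℝ) * (blockRank p e : ℝ))
        = (Mc : ℝ) / 2 * (2 * ((p : ℝ) - 1) * ((p : ℝ) * (blockRank p e : ℝ))) := by ring
      _ ≤ _ := mul_le_mul_of_nonneg_left (hpc.trans hle) hM'
  -- the trace on each conjugate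
  set P := fun χ : IrrCharacter G => MajorSub.pol p N e j χ χ with hPdef
  have htr : ∀ u ∈ U, ∑ χ : IrrCharacter G with χ ∈ B, ∑ θ ∈ S, Complex.normSq (f χ θ (ω ^ u)) =
      (p : ℝ) * ((p : ℝ) ^ (a + 1) * (blockRank p e : ℝ)) := by
    intro u hu
    have hμ : (ω ^ u) ^ N = 1 := by rw [← pow_mul, mul_comm, pow_mul, hω.pow_eq_one, one_pow]
    have hzc : ∀ η, conj (ω ^ j η) = (ω ^ j η)⁻¹ := fun η =>
      (Complex.inv_eq_conj (Complex.norm_eq_one_of_pow_eq_one
        (show (ω ^ j η) ^ N = 1 by rw [← pow_mul, mul_comm, pow_mul, hω.pow_eq_one, one_pow]) hN0.ne')).symm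
    have h0 : aeval ω (∑ χ : IrrCharacter G with χ ∈ B, P χ -
        C ((p : ℤ) ^ blockDefect p e * (blockRank p e : ℤ))) = 0 := by
      simp only [map_sub, map_sum, aeval_C, hPdef, MajorSub.aeval_pol (N := N) hj hω.pow_eq_one]
      rw [MajorSub.sum_ctr_self hz hM ⟨a, hk⟩ hind hzc, sub_eq_zero]
      simp
    have h1 := CycInt.root_pow hω hp h0 (u := u)
      (Nat.Coprime.pow_right a ((hp.coprime_iff_not_dvd).mpr (Finset.mem_filter.mp hu).2).symm)
    simp only [map_sub, map_sum, aeval_C, hPdef, MajorSub.aeval_pol (N := N) hj hμ, sub_eq_zero] at h1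
    apply Complex.ofReal_injective
    rw [Complex.ofReal_sum, Finset.sum_congr rfl fun χ _ => (hI χ (ω ^ u) hμ).symm, ← Finset.mul_sum, h1, hd]
    simp
  have hl : 0 < blockRank p e := by
    rcases Nat.eq_zero_or_pos (blockRank p e) with h | h
    · exfalso
      have hs := pow_mul_blockRank hM he
      rw [h, Nat.cast_zero, mul_zero] at hs
      obtain ⟨η, hη⟩ := block_nonempty hP he
      have := Finset.single_le_sum (f := fun θ => wI p e θ θ)
        (fun θ hθ => (wI_self_pos hM he (mem_bset.mp hθ)).le) (mem_bset.mpr hη)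
      have := wI_self_pos hM he hη
      omega
    · exact h
  set T := Finset.univ.filter fun χ : IrrCharacter G => χ ∈ B ∧ blockHeight p B (χ : G → ℂ) = 0 with hT
  have hmain : (T.card : ℝ) * ((Mc : ℝ) * ((p : ℝ) - 1) * ((p : ℝ) * (blockRank p e : ℝ))) ≤
      (U.card : ℝ) * ((p : ℝ) * ((p : ℝ) ^ (a + 1) * (blockRank p e : ℝ))) := by
    calc (T.card : ℝ) * ((Mc : ℝ) * ((p : ℝ) - 1) * ((p : ℝ) * (blockRank p e : ℝ)))
        = ∑ _χ ∈ T, (Mc : ℝ) * ((p : ℝ) - 1) * ((p : ℝ) * (blockRank p e : ℝ)) := by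
          rw [Finset.sum_const, nsmul_eq_mul]
      _ ≤ ∑ χ ∈ T, ∑ u ∈ U, ∑ θ ∈ S, Complex.normSq (f χ θ (ω ^ u)) :=
          Finset.sum_le_sum fun χ hχ => hlow χ (Finset.mem_filter.mp hχ).2.1 (Finset.mem_filter.mp hχ).2.2
      _ ≤ ∑ χ : IrrCharacter G with χ ∈ B, ∑ u ∈ U, ∑ θ ∈ S, Complex.normSq (f χ θ (ω ^ u)) :=
          Finset.sum_le_sum_of_subset_of_nonneg
            (fun χ hχ => Finset.mem_filter.mpr ⟨Finset.mem_univ _, (Finset.mem_filter.mp hχ).2.1⟩)
            fun χ _ _ => Finset.sum_nonneg fun u _ => Finset.sum_nonneg fun θ _ => Complex.normSq_nonneg _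
      _ = _ := by rw [Finset.sum_comm, Finset.sum_congr rfl htr, Finset.sum_const, nsmul_eq_mul]
  rw [hcardU] at hmain
  have hpos : (0 : ℝ) < (Mc : ℝ) * ((p : ℝ) - 1) * ((p : ℝ) * (blockRank p e : ℝ)) := by
    have : (1 : ℝ) < p := by exact_mod_cast hp.one_lt
    have : (0 : ℝ) < blockRank p e := by exact_mod_cast hl
    have : (0 : ℝ) < Mc := by exact_mod_cast hMc0
    have : (0 : ℝ) < (p : ℝ) - 1 := by linarith
    positivity
  have h2 : (T.card : ℝ) ≤ (p : ℝ) ^ (a + 1) :=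
    le_of_mul_le_mul_right (hmain.trans_eq (by ring)) hpos
  exact_mod_cast h2

end Cfsg.Agent.Char.CentralClass
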