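import Cfsg.Agent.Lib.Char.InducedHeightZero
import Cfsg.Agent.Lib.Char.SectionNorm
import Cfsg.Agent.Lib.Char.Galois

/-!
# Contributions of the characters of a block to a subsection
-/

set_option autoImplicit false
set_option linter.unusedSectionVars false
set_option linter.style.haveILetI false

namespace Cfsg.Agent.Char

open Cfsg
open scoped ComplexConjugate

universe u

variable {G : Type u} [Group G] [Fintype G] {M : Ideal AlgInt} {p : ℕ}

/-- A central element acts by a root of unity. -/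
theorem exists_central_root {z : G} (hz : ∀ c : G, z * c = c * z) (χ : IrrCharacter G) :
    ∃ ζ : ℂ, ζ ^ orderOf z = 1 ∧ ∀ c : G, (χ : G → ℂ) (z * c) = ζ * (χ : G → ℂ) c := by
  classical
  obtain ⟨_, n, ρ, hρ, rfl⟩ := χ
  have := hρ
  have hne : (1 : Module.End ℂ (Fin n → ℂ)) ≠ 0 := by
    intro h0
    have h2 := congrArg (LinearMap.trace ℂ (Fin n → ℂ)) h0
    rw [LinearMap.trace_one, map_zero] at h2
    exact irr_one_ne_zero (isIrrCharacter_character ρ hρ) (by rw [Representation.char_one, h2])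
  have hset : (Finset.univ.filter fun x : G => IsConj z x) = {z} := by
    ext x
    simp only [Finset.mem_filter, Finset.mem_univ, true_and, Finset.mem_singleton]
    refine ⟨fun h => ?_, fun h => h ▸ IsConj.refl z⟩
    obtain ⟨k, hk⟩ := isConj_iff.mp h
    rw [← hk, ← hz k, mul_inv_cancel_right]
  have h := classSum_eq_omega ρ z
  rw [hset, Finset.sum_singleton] at h
  set ω := omega ρ.character z
  refine ⟨ω, ?_, fun c => ?_⟩
  · have h1 : (ω • (1 : Module.End ℂ (Fin n → ℂ))) ^ orderOf z = 1 := by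
      have h2 : ρ z = ω • (1 : Module.End ℂ (Fin n → ℂ)) := h
      rw [← h2, ← map_pow, pow_orderOf_eq_one, map_one]
    rw [smul_pow, one_pow] at h1
    exact smul_left_injective ℂ hne (h1.trans (one_smul ℂ _).symm)
  · show LinearMap.trace ℂ _ (ρ (z * c)) = ω * LinearMap.trace ℂ _ (ρ c)
    have e : (ω • LinearMap.id : Module.End ℂ (Fin n → ℂ)) * ρ c = ω • ρ c := by
      ext v; simp
    rw [map_mul, h, e, map_smul, smul_eq_mul]

theorem root_congr_one (hM : IsPModular p M) {ζ : ℂ} {k : ℕ} (h : ζ ^ p ^ k = 1) :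
    MemLocalIdeal M (ζ - 1) := by
  have hi : IsIntegral ℤ ζ := root_of_unity_isIntegral (pow_ne_zero k hM.1.ne_zero) h
  have hm : (⟨ζ, hi⟩ : AlgInt) - 1 ∈ M := algInt_eq_mod hM (n := k) (by
    rw [one_pow]; exact Subtype.ext (by simpa using h))
  refine ⟨_, 1, hm, fun h1 => (pmod_prime hM).ne_top ((Ideal.eq_top_iff_one M).mpr h1), ?_⟩
  simp

variable {b : Set (IrrCharacter G)}

theorem wI_cast_eq (hM : IsPModular p M) (hb : IsPBlock M b) {η : IrrCharacter G} (hη : η ∈ b)
    (θ : IrrCharacter G) :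
    (wI p b η θ : ℂ) = (p : ℂ) ^ blockDefect p b * einner p (η : G → ℂ) (θ : G → ℂ) := by
  have h := zI_spec (p := p) hM.1 η θ
  rw [zI_eq_mul_wI hM hb hη θ, ← dmin_add_defect (p := p) (block_nonempty (pmod_prime hM) hb),
    pow_add, mul_assoc] at h
  push_cast at h
  exact mul_left_cancel₀ (pow_ne_zero _ (Nat.cast_ne_zero.mpr hM.1.ne_zero)) h

/-- The reduced degree. -/
noncomputable def redDeg (p : ℕ) (b : Set (IrrCharacter G)) (η : IrrCharacter G) : ℕ :=
  deg (η : G → ℂ) / p ^ dmin p b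

theorem redDeg_spec (hM : IsPModular p M) {η : IrrCharacter G} (hη : η ∈ b) :
    deg (η : G → ℂ) = p ^ dmin p b * redDeg p b η ∧
      (blockHeight p b (η : G → ℂ) = 0 → ¬ p ∣ redDeg p b η) := by
  have hd : p ^ dmin p b ∣ deg (η : G → ℂ) :=
    (pow_dvd_pow p (dmin_le hη)).trans (Nat.ordProj_dvd _ _)
  refine ⟨(Nat.mul_div_cancel' hd).symm, fun h hp => ?_⟩
  refine Nat.pow_succ_factorization_not_dvd (deg_pos η.2).ne' hM.1 ?_
  rw [show (deg (η : G → ℂ)).factorization p = dmin p b from (blockHeight_eq_zero_iff hη).mp h,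
    pow_succ, ← Nat.mul_div_cancel' hd]
  exact mul_dvd_mul_left _ hp

theorem wI_eq_redDeg_mul (hM : IsPModular p M) (hb : IsPBlock M b) {η : IrrCharacter G}
    (hη : η ∈ b) (θ : IrrCharacter G) :
    (wI p b η θ : ℂ) * ((Nat.card G / p ^ (Nat.card G).factorization p : ℕ) : ℂ) =
      (redDeg p b η : ℂ) * lam (η : G → ℂ) (regConj p (θ : G → ℂ)) := by
  have hp0 : (p : ℂ) ≠ 0 := Nat.cast_ne_zero.mpr hM.1.ne_zero
  have he0 : (redDeg p b η : ℂ) ≠ 0 := Nat.cast_ne_zero.mpr fun h => (deg_pos η.2).ne'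
    (by rw [(redDeg_spec hM hη).1, h, mul_zero])
  have hm := Nat.ordProj_mul_ordCompl_eq_self (Nat.card G) p
  generalize Nat.card G / p ^ (Nat.card G).factorization p = m at hm ⊢
  rw [wI_cast_eq hM hb hη, lam_regConj, char_one_eq_deg (irr_isCharacter η.2),
    (redDeg_spec hM hη).1]
  rw [← dmin_add_defect (p := p) (block_nonempty (pmod_prime hM) hb)] at hm
  conv_rhs => rw [← hm]
  push_cast
  rw [pow_add]
  field_simp

open scoped Classical in
/-- The sum of the squares of the scaled inner products over a block is the rank. -/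
theorem sum_einner_sq (hM : IsPModular p M) (hb : IsPBlock M b) :
    ∑ η : IrrCharacter G with η ∈ b, ∑ θ : IrrCharacter G with θ ∈ b,
      einner p (η : G → ℂ) (θ : G → ℂ) * einner p (θ : G → ℂ) (η : G → ℂ) =
      (blockRank p b : ℂ) := by
  have h := blockRank_eq_sum hM hb
  have hP := pmod_prime hM
  rw [mul_comm, ← eq_mul_inv_iff_mul_eq₀ (Nat.cast_ne_zero.mpr Nat.card_pos.ne')] at h
  rw [h, Finset.sum_comm (s := Finset.univ.filter fun g : G => ¬ p ∣ orderOf g), Finset.sum_mul]
  refine Finset.sum_congr rfl fun η hη => ?_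
  have hηb := (Finset.mem_filter.mp hη).2
  have h1 := sum_einner_mul (p := p) η η
  rw [← Finset.sum_subset (Finset.subset_univ (Finset.univ.filter fun θ : IrrCharacter G => θ ∈ b))
    (fun θ _ hθ => by
      rw [einner_eq_zero_of_not_sameBlock hM η θ (fun hs => hθ (Finset.mem_filter.mpr
        ⟨Finset.mem_univ _, (mem_block_iff hP hb hηb θ).mpr hs⟩)), zero_mul])] at h1
  rw [h1, einner, classInner, mul_comm (∑ _ ∈ _, _), Finset.sum_filter]
  congr 1
  refine Finset.sum_congr rfl fun g _ => ?_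
  simp only [Pi.mul_apply, regInd]
  split_ifs <;> simp_all [mul_comm]

theorem sum_swap4 {α β γ δ : Type*} (s : Finset α) (t : Finset β) {u : Finset γ} {v : Finset δ}
    (F : α → β → γ → δ → ℂ) :
    ∑ a ∈ s, ∑ b ∈ t, ∑ c ∈ u, ∑ d ∈ v, F a b c d =
      ∑ c ∈ u, ∑ d ∈ v, ∑ a ∈ s, ∑ b ∈ t, F a b c d :=
  calc _ = ∑ a ∈ s, ∑ c ∈ u, ∑ b ∈ t, ∑ d ∈ v, F a b c d :=
        Finset.sum_congr rfl fun _ _ => Finset.sum_comm
    _ = ∑ c ∈ u, ∑ a ∈ s, ∑ d ∈ v, ∑ b ∈ t, F a b c d := by
        rw [Finset.sum_comm]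
        exact Finset.sum_congr rfl fun _ _ => Finset.sum_congr rfl fun _ _ => Finset.sum_comm
    _ = _ := Finset.sum_congr rfl fun _ _ => Finset.sum_comm

section Sec

variable {x : G} [Fintype (Subgroup.centralizer ({x} : Set G))]

open scoped Classical in
theorem sum_section_functional₂ (hM : IsPModular p M) (hx : ∃ k : ℕ, orderOf x = p ^ k)
    {B : Set (IrrCharacter G)} (hB : IsPBlock M B)
    (w v : Subgroup.centralizer ({x} : Set G) → ℂ) (hw : ∀ c, p ∣ orderOf c → w c = 0)
    (hv : ∀ c, p ∣ orderOf c → v c = 0) :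
    ∑ χ : IrrCharacter G with χ ∈ B,
        conj (∑ c, w c * (χ : G → ℂ) (x * (c : G))) * (∑ c, v c * (χ : G → ℂ) (x * (c : G))) =
      ∑ b ∈ ((Finset.univ : Finset (IrrCharacter (Subgroup.centralizer ({x} : Set G)))).image
        (fun ξ : IrrCharacter (Subgroup.centralizer ({x} : Set G)) =>
          blockOf M (ξ : Subgroup.centralizer ({x} : Set G) → ℂ))).filter
        (fun b => IsInducedBlock M (Subgroup.centralizer ({x} : Set G)) b B),
      ∑ ξ : IrrCharacter (Subgroup.centralizer ({x} : Set G)) with ξ ∈ b,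
        conj (∑ c, w c * (ξ : _ → ℂ) c) * (∑ c, v c * (ξ : _ → ℂ) c) := by
  simp only [map_sum, map_mul, Finset.sum_mul, Finset.mul_sum]
  rw [Finset.sum_comm]
  conv_rhs => enter [2, b]; rw [Finset.sum_comm]
  rw [Finset.sum_comm (s := Finset.filter _ (Finset.image _ _))]
  refine Finset.sum_congr rfl fun c _ => ?_
  rw [Finset.sum_comm]
  conv_rhs => enter [2, b]; rw [Finset.sum_comm]
  rw [Finset.sum_comm (s := Finset.filter _ (Finset.image _ _))]
  refine Finset.sum_congr rfl fun d _ => ?_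
  by_cases hc : p ∣ orderOf c
  · simp [hw c hc, hv c hc]
  by_cases hd : p ∣ orderOf d
  · simp [hw d hd, hv d hd]
  have e := sum_block_section_orth hM hx hB d c hd hc
  have e' := congrArg (fun z => conj (w d) * v c * z) e
  simp only [Finset.mul_sum] at e'
  refine Eq.trans ?_ (e'.trans ?_)
  · exact Finset.sum_congr rfl fun χ _ => by ring
  · exact Finset.sum_congr rfl fun b _ => Finset.sum_congr rfl fun ξ _ => by ring

open scoped Classical in
/-- The local parts of a block have the column products of the local block. -/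
theorem sum_local_part_mul (hM : IsPModular p M) (hx : ∃ k : ℕ, orderOf x = p ^ k)
    {B : Set (IrrCharacter G)} {e : Set (IrrCharacter (Subgroup.centralizer ({x} : Set G)))}
    (hind : IsInducedBlock M (Subgroup.centralizer ({x} : Set G)) e B)
    {s t : Subgroup.centralizer ({x} : Set G)} (hs : ¬ p ∣ orderOf s) (ht : ¬ p ∣ orderOf t) :
    ∑ χ : IrrCharacter G with χ ∈ B,
        conj (blockPart e (secFun x (χ : G → ℂ)) t) * blockPart e (secFun x (χ : G → ℂ)) s =
      ∑ ξ : IrrCharacter (Subgroup.centralizer ({x} : Set G)) with ξ ∈ e,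
        conj ((ξ : _ → ℂ) t) * (ξ : _ → ℂ) s := by
  have hP := pmod_prime hM
  let w : Subgroup.centralizer ({x} : Set G) → Subgroup.centralizer ({x} : Set G) → ℂ :=
    fun r => regPartL p (fun c => blockCoeff e (c * r⁻¹))
  have h1 : ∀ (χ : IrrCharacter G) (r : Subgroup.centralizer ({x} : Set G)), ¬ p ∣ orderOf r →
      blockPart e (secFun x (χ : G → ℂ)) r = ∑ c, w r c * (χ : G → ℂ) (x * (c : G)) :=
    fun χ r hr => blockPart_reg_eq_sum hM hind.1
      (isClassFunction_secFun (isClassFunction_character (irr_isCharacter χ.2))) hr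
  rw [Finset.sum_congr rfl fun χ _ => by rw [h1 χ t ht, h1 χ s hs]]
  refine (sum_section_functional₂ hM hx hind.2.1 (w t) (w s) (fun c hc => regPartL_of_sing hc _)
    (fun c hc => regPartL_of_sing hc _)).trans ?_
  have h2 : ∀ (b' : Set (IrrCharacter (Subgroup.centralizer ({x} : Set G))))
      (r : Subgroup.centralizer ({x} : Set G)), ¬ p ∣ orderOf r → IsPBlock M b' → ∀ ξ ∈ b',
      ∑ c, w r c * (ξ : _ → ℂ) c = if b' = e then (ξ : _ → ℂ) r else 0 := by
    intro b' r hr hb' ξ hξ
    rw [← blockPart_reg_eq_sum hM hind.1 (isClassFunction_character (irr_isCharacter ξ.2)) hr,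
      blockPart_regular_congr hM hind.1 (f' := regPartL p (ξ : _ → ℂ))
        (fun c hc => (regPartL_of_reg hc _).symm) hr,
      blockPart_blockSpan hM hb' hind.1
        (show regPartL p (ξ : _ → ℂ) ∈ blockSpan p _ from Submodule.subset_span ⟨ξ, hξ, rfl⟩)]
    by_cases hbe : b' = e
    · rw [if_pos hbe.symm, if_pos hbe, regPartL_of_reg hr]
    · rw [if_neg (Ne.symm hbe), if_neg hbe]
      rfl
  rw [Finset.sum_eq_single e]
  · refine Finset.sum_congr rfl fun ξ hξ => ?_
    rw [h2 e t ht hind.1 ξ (Finset.mem_filter.mp hξ).2, h2 e s hs hind.1 ξ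
      (Finset.mem_filter.mp hξ).2, if_pos rfl, if_pos rfl]
  · intro b' hb' hne
    refine Finset.sum_eq_zero fun ξ hξ => ?_
    rw [h2 b' s hs (Finset.mem_filter.mp hb').2.1 ξ (Finset.mem_filter.mp hξ).2, if_neg hne,
      mul_zero]
  · intro hn
    refine absurd ?_ hn
    obtain ⟨ξ, hξ⟩ := hind.1
    exact Finset.mem_filter.mpr ⟨Finset.mem_image.mpr ⟨ξ, Finset.mem_univ _, hξ.symm⟩, hind⟩

end Sec

section Main

variable {x : G} [Fintype (Subgroup.centralizer ({x} : Set G))]
  {B : Set (IrrCharacter G)} {e : Set (IrrCharacter (Subgroup.centralizer ({x} : Set G)))}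

/-- Multiplicities of the restriction. -/
noncomputable def mRes (x : G) [Fintype (Subgroup.centralizer ({x} : Set G))]
    (χ : IrrCharacter G) : IrrCharacter (Subgroup.centralizer ({x} : Set G)) → ℕ :=
  (exists_decomposition (isCharacter_comp (Subgroup.centralizer ({x} : Set G)).subtype
    (irr_isCharacter χ.2))).choose

theorem mRes_spec (χ : IrrCharacter G) :
    ((χ : G → ℂ) ∘ (Subgroup.centralizer ({x} : Set G)).subtype) =
      ∑ η : IrrCharacter (Subgroup.centralizer ({x} : Set G)),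
        mRes x χ η • (η : Subgroup.centralizer ({x} : Set G) → ℂ) :=
  (exists_decomposition (isCharacter_comp (Subgroup.centralizer ({x} : Set G)).subtype
    (irr_isCharacter χ.2))).choose_spec

open scoped Classical in
/-- The contribution of `χ` and `ψ`, in terms of scalars `z`. -/
noncomputable def ctr (p : ℕ) (e : Set (IrrCharacter (Subgroup.centralizer ({x} : Set G))))
    (z : IrrCharacter (Subgroup.centralizer ({x} : Set G)) → ℂ) (χ ψ : IrrCharacter G) : ℂ :=
  ∑ η : IrrCharacter (Subgroup.centralizer ({x} : Set G)) with η ∈ e,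
    ∑ θ : IrrCharacter (Subgroup.centralizer ({x} : Set G)) with θ ∈ e,
      (mRes x χ η : ℂ) * (mRes x ψ θ : ℂ) * (wI p e η θ : ℂ) * (z η * (z θ)⁻¹)

open scoped Classical in
/-- At the trivial scalars a contribution of two height zero characters is a unit. -/
theorem ctr_one_unit (hM : IsPModular p M)
    (hind : IsInducedBlock M (Subgroup.centralizer ({x} : Set G)) e B)
    {χ ψ : IrrCharacter G} (hχ : χ ∈ B) (hψ : ψ ∈ B)
    (h0χ : blockHeight p B (χ : G → ℂ) = 0) (h0ψ : blockHeight p B (ψ : G → ℂ) = 0) :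
    ¬ MemLocalIdeal M (ctr p e (fun _ => 1) χ ψ) := by
  have hP := pmod_prime hM
  obtain ⟨η₀, hη₀, hη₀h⟩ := exists_height_zero (p := p) (block_nonempty hP hind.1)
  set m : ℕ := Nat.card (Subgroup.centralizer ({x} : Set G)) /
    p ^ (Nat.card (Subgroup.centralizer ({x} : Set G))).factorization p with hm
  have hpm : ¬ p ∣ m := Nat.not_dvd_ordCompl hM.1 Nat.card_pos.ne'
  have hm0 : (m : ℂ) ≠ 0 := Nat.cast_ne_zero.mpr fun h => hpm (h ▸ dvd_zero p)
  set T : IrrCharacter (Subgroup.centralizer ({x} : Set G)) →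
      IrrCharacter (Subgroup.centralizer ({x} : Set G)) → ℂ :=
    fun η θ => lam (η : Subgroup.centralizer ({x} : Set G) → ℂ) (regConj p (θ : Subgroup.centralizer ({x} : Set G) → ℂ)) with hT
  have hTR : ∀ η θ, MemLocalRing M (T η θ) := fun η θ =>
    memLR_lam hP η.2 (regConj_class (irr_isCharacter θ.2))
      (regConj_memLR hP (irr_isCharacter θ.2))
  let V : IrrCharacter G → IrrCharacter (Subgroup.centralizer ({x} : Set G)) → ℂ := fun φ η =>
    ∑ θ : IrrCharacter (Subgroup.centralizer ({x} : Set G)) with θ ∈ e, (mRes x φ θ : ℂ) * T η θ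
  have hVR : ∀ φ η, MemLocalRing M (V φ η) := fun φ η =>
    memLR_sum hP _ _ fun θ _ => memLR_mul hP (memLR_natCast hP _) (hTR η θ)
  have hV : ∀ φ ∈ B, blockHeight p B (φ : G → ℂ) = 0 → ∀ η ∈ e, ¬ MemLocalIdeal M (V φ η) := by
    intro φ hφ hφ0 η hη
    have hu := lam_restrict_unit hM hind hφ hφ0 hη
    have hres : regConj p (fun c : Subgroup.centralizer ({x} : Set G) => (φ : G → ℂ) (c : G)) =
        ∑ θ : IrrCharacter (Subgroup.centralizer ({x} : Set G)),
          (mRes x φ θ : ℂ) • regConj p (θ : Subgroup.centralizer ({x} : Set G) → ℂ) := by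
      funext c
      have h := congrFun (mRes_spec (x := x) φ) c
      simp only [Function.comp_apply, Subgroup.coe_subtype] at h
      simp only [regConj, h, Finset.sum_apply, Pi.smul_apply, nsmul_eq_mul, smul_eq_mul, map_sum,
        map_mul, map_natCast, Pi.mul_apply, Pi.natCast_apply, Finset.mul_sum]
      exact Finset.sum_congr rfl fun θ _ => by ring
    rw [hres, lam_sum] at hu
    simp only [lam_smul] at hu
    rw [← Finset.sum_subset (Finset.subset_univ (Finset.univ.filter
      fun θ : IrrCharacter (Subgroup.centralizer ({x} : Set G)) => θ ∈ e)) (fun θ _ hθ => by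
        rw [lam_regConj, einner_eq_zero_of_not_sameBlock hM η θ (fun hs => hθ (Finset.mem_filter.mpr
          ⟨Finset.mem_univ _, (mem_block_iff hP hind.1 hη θ).mpr hs⟩)), mul_zero, zero_div,
          mul_zero])] at hu
    exact hu
  set S : ℂ := ∑ η : IrrCharacter (Subgroup.centralizer ({x} : Set G)) with η ∈ e,
    (mRes x χ η : ℂ) * (redDeg p e η : ℂ) with hS
  have hSR : MemLocalRing M S :=
    memLR_sum hP _ _ fun η _ => memLR_mul hP (memLR_natCast hP _) (memLR_natCast hP _)
  have hTc : ∀ θ, ∀ η ∈ e, MemLocalIdeal M (T η θ - T η₀ θ) := fun θ η hη =>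
    lam_congr hP η.2 η₀.2 (block_sameBlock hP hind.1 hη hη₀) (regConj_class (irr_isCharacter θ.2))
      (regConj_memLR hP (irr_isCharacter θ.2))
  have hSu : ¬ MemLocalIdeal M S := by
    intro hSI
    refine hV χ hχ h0χ η₀ hη₀ ?_
    have he0 : (redDeg p e η₀ : ℂ) ≠ 0 := Nat.cast_ne_zero.mpr fun h =>
      (redDeg_spec hM hη₀).2 hη₀h (h ▸ dvd_zero p)
    have key : (redDeg p e η₀ : ℂ) * V χ η₀ =
        ∑ η : IrrCharacter (Subgroup.centralizer ({x} : Set G)) with η ∈ e,
          (mRes x χ η : ℂ) * (redDeg p e η : ℂ) * T η η₀ := by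
      rw [Finset.mul_sum]
      refine Finset.sum_congr rfl fun η hη => ?_
      have h1 := wI_eq_redDeg_mul hM hind.1 hη₀ η
      have h2 := wI_eq_redDeg_mul hM hind.1 (Finset.mem_filter.mp hη).2 η₀
      rw [wI_symm hM η η₀] at h2
      rw [mul_left_comm, ← h1, mul_assoc, ← h2]
    have hI : MemLocalIdeal M ((redDeg p e η₀ : ℂ) * V χ η₀) := by
      rw [key]
      refine memLI_congr hP (y := S * T η₀ η₀) ?_ (memLI_mul_right hP hSI (hTR _ _))
      rw [hS, Finset.sum_mul, ← Finset.sum_sub_distrib]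
      refine memLI_sum hP _ _ fun η hη => ?_
      rw [← mul_sub]
      exact memLI_mul_left hP (memLR_mul hP (memLR_natCast hP _) (memLR_natCast hP _))
        (hTc η₀ η (Finset.mem_filter.mp hη).2)
    exact (memLI_mul_mem hP (memLR_natCast hP _) (hVR χ η₀) hI).resolve_left
      fun h => (redDeg_spec hM hη₀).2 hη₀h ((memLI_natCast_iff hM _).mp h)
  intro hI
  have hI' : MemLocalIdeal M (ctr p e (fun _ => 1) χ ψ * (m : ℂ)) :=
    memLI_mul_right hP hI (memLR_natCast hP _)
  have key : ctr p e (fun _ => 1) χ ψ * (m : ℂ) =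
      ∑ η : IrrCharacter (Subgroup.centralizer ({x} : Set G)) with η ∈ e,
        (mRes x χ η : ℂ) * (redDeg p e η : ℂ) * V ψ η := by
    rw [ctr, Finset.sum_mul]
    refine Finset.sum_congr rfl fun η hη => ?_
    rw [Finset.sum_mul, Finset.mul_sum]
    refine Finset.sum_congr rfl fun θ _ => ?_
    have h1 := wI_eq_redDeg_mul hM hind.1 (Finset.mem_filter.mp hη).2 θ
    rw [← hm] at h1
    calc (mRes x χ η : ℂ) * (mRes x ψ θ : ℂ) * (wI p e η θ : ℂ) * (1 * 1⁻¹) * (m : ℂ)
        = (mRes x χ η : ℂ) * (mRes x ψ θ : ℂ) * ((wI p e η θ : ℂ) * (m : ℂ)) := by ring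
      _ = _ := by rw [h1]; ring
  rw [key] at hI'
  refine memLR_unit_mul_not hP hSR (hVR ψ η₀) hSu (hV ψ hψ h0ψ η₀ hη₀)
    (memLI_congr hP (memLI_symm hP ?_) hI')
  rw [hS, Finset.sum_mul, ← Finset.sum_sub_distrib]
  refine memLI_sum hP _ _ fun η hη => ?_
  rw [← mul_sub]
  refine memLI_mul_left hP (memLR_mul hP (memLR_natCast hP _) (memLR_natCast hP _)) ?_
  rw [← Finset.sum_sub_distrib]
  refine memLI_sum hP _ _ fun θ _ => ?_
  rw [← mul_sub]
  exact memLI_mul_left hP (memLR_natCast hP _) (hTc θ η (Finset.mem_filter.mp hη).2)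

open scoped Classical in
/-- The contributions form a projection: the sum of their squares. -/
theorem sum_ctr_sq (hM : IsPModular p M) (hx : ∃ k : ℕ, orderOf x = p ^ k)
    (hind : IsInducedBlock M (Subgroup.centralizer ({x} : Set G)) e B)
    {z : IrrCharacter (Subgroup.centralizer ({x} : Set G)) → ℂ}
    (hzc : ∀ η, conj (z η) = (z η)⁻¹)
    (hz : ∀ (η : IrrCharacter (Subgroup.centralizer ({x} : Set G)))
      (c : Subgroup.centralizer ({x} : Set G)),
      (η : Subgroup.centralizer ({x} : Set G) → ℂ)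
        (⟨x, Subgroup.mem_centralizer_singleton_iff.mpr rfl⟩ * c) = z η * (η : Subgroup.centralizer ({x} : Set G) → ℂ) c) :
    ∑ χ : IrrCharacter G with χ ∈ B, ∑ ψ : IrrCharacter G with ψ ∈ B,
        ctr p e z χ ψ * ctr p e z ψ χ =
      ((p : ℂ) ^ blockDefect p e) ^ 2 * (blockRank p e : ℂ) := by
  have hP := pmod_prime hM
  set R := Finset.univ.filter fun s : Subgroup.centralizer ({x} : Set G) => ¬ p ∣ orderOf s with hR
  set f : IrrCharacter G → Subgroup.centralizer ({x} : Set G) → ℂ :=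
    fun χ s => blockPart e (secFun x (χ : G → ℂ)) s with hf
  have hfv : ∀ χ s, f χ s = ∑ η : IrrCharacter (Subgroup.centralizer ({x} : Set G)) with η ∈ e,
      (mRes x χ η : ℂ) * z η * (η : Subgroup.centralizer ({x} : Set G) → ℂ) s := by
    intro χ s
    show blockPart e (secFun x (χ : G → ℂ)) s = _
    rw [blockPart_eq]
    refine Finset.sum_congr rfl fun η _ => ?_
    congr 1
    have e1 : secFun x (χ : G → ℂ) = ∑ θ : IrrCharacter (Subgroup.centralizer ({x} : Set G)),
        ((mRes x χ θ : ℂ) * z θ) • (θ : Subgroup.centralizer ({x} : Set G) → ℂ) := by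
      funext c
      have h := congrFun (mRes_spec (x := x) χ)
        (⟨x, Subgroup.mem_centralizer_singleton_iff.mpr rfl⟩ * c)
      simp only [Function.comp_apply, Subgroup.coe_subtype, Subgroup.coe_mul, Finset.sum_apply,
        Pi.smul_apply, nsmul_eq_mul, Pi.mul_apply, Pi.natCast_apply, hz] at h
      rw [secFun, h, Finset.sum_apply]
      refine Finset.sum_congr rfl fun θ _ => ?_
      rw [Pi.smul_apply, smul_eq_mul, mul_assoc]
    rw [e1, classInner_sum_left, Finset.sum_eq_single η]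
    · rw [classInner_smul_left, irr_orth η.2 η.2, if_pos rfl, mul_one]
    · intro θ _ hne
      rw [classInner_smul_left, irr_orth θ.2 η.2, if_neg (fun h => hne (Subtype.ext h)), mul_zero]
    · exact fun h => absurd (Finset.mem_univ _) h
  set N : ℂ := (Nat.card (Subgroup.centralizer ({x} : Set G)) : ℂ) with hN
  have hein : ∀ η θ : IrrCharacter (Subgroup.centralizer ({x} : Set G)),
      einner p (η : Subgroup.centralizer ({x} : Set G) → ℂ) (θ : Subgroup.centralizer ({x} : Set G) → ℂ) = N⁻¹ * ∑ s ∈ R, (η : Subgroup.centralizer ({x} : Set G) → ℂ) s * conj ((θ : Subgroup.centralizer ({x} : Set G) → ℂ) s) := by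
    intro η θ
    rw [einner, classInner, hR, Finset.sum_filter]
    congr 1
    refine Finset.sum_congr rfl fun s _ => ?_
    simp only [Pi.mul_apply, regInd]
    split_ifs <;> simp_all
  have hctr : ∀ χ ψ, ctr p e z χ ψ =
      (p : ℂ) ^ blockDefect p e * N⁻¹ * ∑ s ∈ R, f χ s * conj (f ψ s) := by
    intro χ ψ
    simp only [hfv, map_sum, map_mul, map_natCast, hzc, Finset.sum_mul, Finset.mul_sum]
    rw [Finset.sum_comm (s := R), ctr]
    conv_rhs => enter [2, θ]; rw [Finset.sum_comm (s := R)]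
    conv_rhs => rw [Finset.sum_comm]
    refine Finset.sum_congr rfl fun η hη => ?_
    refine Finset.sum_congr rfl fun θ _ => ?_
    rw [wI_cast_eq hM hind.1 (Finset.mem_filter.mp hη).2 θ, hein]
    simp only [Finset.mul_sum, Finset.sum_mul]
    exact Finset.sum_congr rfl fun s _ => by ring
  set K : Subgroup.centralizer ({x} : Set G) → Subgroup.centralizer ({x} : Set G) → ℂ :=
    fun s t => ∑ η : IrrCharacter (Subgroup.centralizer ({x} : Set G)) with η ∈ e,
      conj ((η : Subgroup.centralizer ({x} : Set G) → ℂ) t) * (η : Subgroup.centralizer ({x} : Set G) → ℂ) s with hK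
  have hloc : ∀ s ∈ R, ∀ t ∈ R,
      ∑ χ : IrrCharacter G with χ ∈ B, conj (f χ t) * f χ s = K s t := fun s hs t ht =>
    sum_local_part_mul hM hx hind (Finset.mem_filter.mp hs).2 (Finset.mem_filter.mp ht).2
  have h1 : ∑ χ : IrrCharacter G with χ ∈ B, ∑ ψ : IrrCharacter G with ψ ∈ B,
      ctr p e z χ ψ * ctr p e z ψ χ =
      ((p : ℂ) ^ blockDefect p e * N⁻¹) ^ 2 * ∑ s ∈ R, ∑ t ∈ R, K s t * K t s := by
    simp only [hctr]
    have e2 : ∀ s ∈ R, ∀ t ∈ R, K s t * K t s =
        ∑ χ : IrrCharacter G with χ ∈ B, ∑ ψ : IrrCharacter G with ψ ∈ B,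
          (f χ s * conj (f ψ s)) * (f ψ t * conj (f χ t)) := by
      intro s hs t ht
      rw [← hloc s hs t ht, ← hloc t ht s hs, Finset.sum_mul_sum]
      exact Finset.sum_congr rfl fun χ _ => Finset.sum_congr rfl fun ψ _ => by ring
    rw [Finset.sum_congr rfl fun s hs => Finset.sum_congr rfl fun t ht => e2 s hs t ht,
      sum_swap4 R R]
    simp only [Finset.mul_sum, Finset.sum_mul]
    refine Finset.sum_congr rfl fun χ _ => Finset.sum_congr rfl fun ψ _ => ?_
    rw [Finset.sum_comm]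
    exact Finset.sum_congr rfl fun s _ => Finset.sum_congr rfl fun t _ => by ring
  rw [h1, mul_pow, mul_assoc, ← sum_einner_sq hM hind.1]
  congr 1
  simp only [hein, hK, Finset.sum_mul_sum]
  rw [sum_swap4 R R]
  simp only [Finset.mul_sum, Finset.sum_mul]
  refine Finset.sum_congr rfl fun η _ => Finset.sum_congr rfl fun θ _ => ?_
  rw [Finset.sum_comm]
  exact Finset.sum_congr rfl fun s _ => Finset.sum_congr rfl fun t _ => by ring

end Main

end Cfsg.Agent.Char
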