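import Mathlib.GroupTheory.FiniteAbelian.Duality
import Mathlib.RingTheory.RootsOfUnity.AlgebraicallyClosed
import Mathlib.Analysis.Complex.Polynomial.Basic
import Cfsg.Agent.Lib.Char.BlockCount
import Cfsg.Agent.Lib.Char.PermLemma
import Cfsg.Agent.Lib.Char.Height
import Cfsg.Agent.Lib.Char.Contribution
import Cfsg.Agent.Lib.Char.Defect

/-!
Groups in which every block has defect zero or full defect and the regular classes of full defect
are central: the blocks of full defect correspond to the linear characters of the centre.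
-/

set_option autoImplicit false

namespace Cfsg.Agent.Char.CentralBlocks

open Cfsg Finset Cfsg.Agent.Char
open scoped ComplexConjugate

universe u
variable {G : Type u} [Group G] [Fintype G] {p : ℕ} {M : Ideal AlgInt}

theorem memLR_of_congr_one (hM : IsPModular p M) {ζ : ℂ} (h : MemLocalIdeal M (ζ - 1)) :
    MemLocalRing M ζ := by
  simpa using memLR_add (pmod_prime hM) (memLI_memLR h)
    (memLR_one (pmod_prime hM))

/-- A root of unity of order prime to `p` is congruent to one only if it is one. -/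
theorem eq_one_of_congr (hM : IsPModular p M) {ζ : ℂ} {k : ℕ} (hk : ¬ p ∣ k) (hζ : ζ ^ k = 1)
    (h : MemLocalIdeal M (ζ - 1)) : ζ = 1 := by
  have hP := pmod_prime hM
  by_contra hne
  have h1 : ∀ i : ℕ, MemLocalIdeal M (ζ ^ i - 1) := by
    intro i
    induction i with
    | zero => simpa using memLI_zero hP
    | succ i ih =>
      rw [show ζ ^ (i + 1) - 1 = ζ * (ζ ^ i - 1) + (ζ - 1) by ring]
      exact memLI_add hP (memLI_mul_left hP (memLR_of_congr_one hM h) ih) h
  have h2 : ∑ i ∈ Finset.range k, (ζ ^ i - 1) = -(k : ℂ) := by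
    rw [Finset.sum_sub_distrib, geom_sum_eq hne, hζ, sub_self, zero_div]
    simp
  have h3 := memLI_sum hP (Finset.range k) (fun i => ζ ^ i - 1) fun i _ => h1 i
  rw [h2] at h3
  have h4 := memLI_neg hP h3
  rw [neg_neg] at h4
  exact hk ((memLI_natCast_iff hM k).1 h4)

/-- The character of the centre below an irreducible character. -/
noncomputable def muHom (χ : IrrCharacter G) : ↥(Subgroup.center G) →* ℂ where
  toFun z := (χ : G → ℂ) z / (χ : G → ℂ) 1
  map_one' := div_self (irr_one_ne_zero χ.2)
  map_mul' z w := by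
    rw [Subgroup.coe_mul, char_central_mul χ.2 z.2, mul_div_assoc]

/-- The linear character of the centre below an irreducible character. -/
noncomputable def mu (χ : IrrCharacter G) : ↥(Subgroup.center G) →* ℂˣ := (muHom χ).toHomUnits

theorem mu_val (χ : IrrCharacter G) (z : ↥(Subgroup.center G)) :
    (mu χ z : ℂ) = (χ : G → ℂ) z / (χ : G → ℂ) 1 := rfl

theorem centralChar_center (χ : G → ℂ) {z : G} (hz : z ∈ Subgroup.center G) :
    centralChar χ z = χ z / χ 1 := by
  rw [centralChar, show Subgroup.centralizer ({z} : Set G) = ⊤ from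
    top_le_iff.1 fun x _ => Subgroup.mem_centralizer_singleton_iff.2
      (Subgroup.mem_center_iff.1 hz x), Subgroup.index_top, Nat.cast_one, one_mul]

/-- Every linear character of the centre lies below an irreducible character. -/
theorem exists_mu (l : ↥(Subgroup.center G) →* ℂˣ) : ∃ χ : IrrCharacter G, mu χ = l := by
  classical
  by_contra h
  push Not at h
  have hz : ∀ χ : IrrCharacter G,
      ∑ z : ↥(Subgroup.center G), ((mu χ z : ℂˣ) : ℂ) * ((l z)⁻¹ : ℂˣ) = 0 := by
    intro χ
    have hne : (Units.coeHom ℂ).comp (mu χ * l⁻¹) ≠ 1 := by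
      intro he
      refine h χ (MonoidHom.ext fun z => Units.ext ?_)
      have h1 := DFunLike.congr_fun he z
      simp only [MonoidHom.comp_apply, MonoidHom.mul_apply, MonoidHom.inv_apply, Units.coeHom_apply,
        Units.val_mul, MonoidHom.one_apply] at h1
      rw [← mul_one ((l z : ℂˣ) : ℂ), ← h1, mul_comm, mul_assoc, ← Units.val_mul, inv_mul_cancel,
        Units.val_one, mul_one]
    have h2 := sum_hom_units_eq_zero _ hne
    simpa using h2
  have h0 : ∑ χ : IrrCharacter G, ((χ : G → ℂ) 1 * conj ((χ : G → ℂ) 1)) *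
      ∑ z : ↥(Subgroup.center G), ((mu χ z : ℂˣ) : ℂ) * ((l z)⁻¹ : ℂˣ) = 0 :=
    Finset.sum_eq_zero fun χ _ => by rw [hz χ, mul_zero]
  simp only [Finset.mul_sum] at h0
  rw [Finset.sum_comm, Finset.sum_eq_single (1 : ↥(Subgroup.center G))] at h0
  · simp only [map_one, inv_one, Units.val_one, mul_one] at h0
    rw [second_orth (1 : G) 1, if_pos (IsConj.refl 1)] at h0
    have h1 : Nat.card {x : G // IsConj 1 x} = 1 := by
      rw [Nat.card_eq_one_iff_unique]
      refine ⟨⟨fun a b => Subtype.ext ?_⟩, ⟨⟨1, IsConj.refl 1⟩⟩⟩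
      rw [isConj_one_right.1 a.2, isConj_one_right.1 b.2]
    rw [h1, Nat.cast_one, div_one] at h0
    exact Nat.card_pos.ne' (Nat.cast_eq_zero.1 h0)
  · intro z _ hne
    have h2 : ∀ χ : IrrCharacter G, (χ : G → ℂ) 1 * conj ((χ : G → ℂ) 1) *
        (((mu χ z : ℂˣ) : ℂ) * ((l z)⁻¹ : ℂˣ)) =
        ((l z)⁻¹ : ℂˣ) * ((χ : G → ℂ) (z : G) * conj ((χ : G → ℂ) 1)) := by
      intro χ
      rw [mu_val]
      have := irr_one_ne_zero χ.2
      field_simp
    rw [Finset.sum_congr rfl fun χ _ => h2 χ, ← Finset.mul_sum, second_orth, if_neg, mul_zero]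
    intro hc
    exact hne (Subtype.ext (isConj_one_left.1 hc))
  · exact fun h => absurd (Finset.mem_univ _) h

theorem mu_congr_iff (hM : IsPModular p M) (hZ : ¬ p ∣ Nat.card (Subgroup.center G))
    {χ ψ : IrrCharacter G} (h : SameBlock M (χ : G → ℂ) (ψ : G → ℂ)) : mu χ = mu ψ := by
  have hP := pmod_prime hM
  refine MonoidHom.ext fun z => ?_
  set ζ : ℂˣ := mu χ z * (mu ψ z)⁻¹ with hζdef
  have hpow : ζ ^ Nat.card (Subgroup.center G) = 1 := by
    rw [hζdef, mul_pow, inv_pow, ← map_pow, ← map_pow, pow_card_eq_one', map_one, map_one, inv_one,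
      mul_one]
  have hpowψ : ((mu ψ z : ℂˣ) : ℂ) ^ Nat.card (Subgroup.center G) = 1 := by
    rw [← Units.val_pow_eq_pow_val, ← map_pow, pow_card_eq_one', map_one, Units.val_one]
  have hinv : MemLocalRing M ((((mu ψ z)⁻¹ : ℂˣ)) : ℂ) := by
    have h1 : ((mu ψ z)⁻¹ : ℂˣ) = (mu ψ z) ^ (Nat.card (Subgroup.center G) - 1) := by
      refine inv_eq_of_mul_eq_one_left ?_
      rw [← pow_succ, Nat.sub_add_cancel Nat.card_pos, ← map_pow, pow_card_eq_one', map_one]
    rw [h1, Units.val_pow_eq_pow_val]
    refine memLR_pow hP ?_ _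
    have h2 : MemLocalRing M (centralChar (ψ : G → ℂ) (z : G)) := by
      rw [← omega_eq_centralChar]
      exact memLR_omega hP ψ.2 _
    rwa [centralChar_center _ z.2] at h2
  have h1 := h (z : G)
  rw [centralChar_center _ z.2, centralChar_center _ z.2, ← mu_val, ← mu_val] at h1
  have h2 := memLI_mul_right hP h1 hinv
  rw [sub_mul, ← Units.val_mul, ← Units.val_mul, mul_inv_cancel, Units.val_one] at h2
  have h3 : ((ζ : ℂˣ) : ℂ) = 1 := eq_one_of_congr hM hZ
    (by rw [← Units.val_pow_eq_pow_val, hpow, Units.val_one]) h2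
  exact mul_inv_eq_one.1 (Units.ext h3)

/-- The data: one block of defect zero, the others of full defect, central regular classes of full
defect. -/
structure Data (p : ℕ) (M : Ideal AlgInt) (st : IrrCharacter G) : Prop where
  st_dexp : dexp p (st : G → ℂ) = (Nat.card G).factorization p
  uniq : ∀ χ : IrrCharacter G, dexp p (χ : G → ℂ) = (Nat.card G).factorization p → χ = st
  st_center : ∀ z : ↥(Subgroup.center G), mu st z = 1
  pos : 0 < (Nat.card G).factorization p
  dich : ∀ B : Set (IrrCharacter G), IsPBlock M B →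
    blockDefect p B = 0 ∨ blockDefect p B = (Nat.card G).factorization p
  central : ∀ C : ConjClasses G, IsDefClass p ((Nat.card G).factorization p) C →
    C.out ∈ Subgroup.center G
  not_dvd : ¬ p ∣ Nat.card (Subgroup.center G)

variable {st : IrrCharacter G}

theorem Data.st_block (d : Data p M st) (hM : IsPModular p M) :
    blockOf M (st : G → ℂ) = {st} :=
  (singleton_iff_dexp hM st).2 d.st_dexp

theorem Data.full_of_ne (d : Data p M st) (hM : IsPModular p M) {χ : IrrCharacter G} (h : χ ≠ st) :
    blockDefect p (blockOf M (χ : G → ℂ)) = (Nat.card G).factorization p := by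
  have hP := pmod_prime hM
  refine (d.dich _ (isPBlock_blockOf M χ)).resolve_left fun h0 => h ?_
  obtain ⟨θ, hθ, hθd⟩ := exists_dexp_eq_dmin (p := p) (block_nonempty hP (isPBlock_blockOf M χ))
  have h3 := dmin_add_defect (p := p) (block_nonempty hP (isPBlock_blockOf M χ))
  have he := d.uniq θ (by omega)
  subst he
  have hb := block_eq_blockOf hP (isPBlock_blockOf M χ) hθ
  rw [d.st_block hM] at hb
  have := self_mem_blockOf hP χ
  rw [hb] at this
  exact this

/-- Two characters of full defect are in one block iff they agree on the centre. -/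
theorem Data.sameBlock_iff (d : Data p M st) (hM : IsPModular p M) {χ ψ : IrrCharacter G}
    (hχ : χ ≠ st) (hψ : ψ ≠ st) :
    SameBlock M (χ : G → ℂ) (ψ : G → ℂ) ↔ mu χ = mu ψ := by
  refine ⟨mu_congr_iff hM d.not_dvd, fun h => ?_⟩
  refine sameBlock_of_defClass hM (d.full_of_ne hM hχ) (d.full_of_ne hM hψ) fun C hC => ?_
  have hz := d.central C hC
  have h1 := congrArg (fun u : ℂˣ => (u : ℂ)) (DFunLike.congr_fun h ⟨C.out, hz⟩)
  simp only [mu_val] at h1
  rw [omega_eq_centralChar, omega_eq_centralChar, centralChar_center _ hz, centralChar_center _ hz,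
    h1, sub_self]
  exact memLI_zero (pmod_prime hM)

theorem Data.exists_rep (d : Data p M st) (l : ↥(Subgroup.center G) →* ℂˣ) :
    ∃ χ : IrrCharacter G, χ ≠ st ∧ mu χ = l := by
  classical
  by_cases hl : l = 1
  · refine ⟨⟨_, isIrrCharacter_one⟩, fun he => ?_, ?_⟩
    · have h1 : dexp p (st : G → ℂ) = 0 := by rw [← he]; simp [dexp, deg]
      have h2 := d.pos
      have h3 := d.st_dexp
      omega
    · subst hl
      refine MonoidHom.ext fun z => Units.ext ?_
      rw [mu_val]
      simp
  · obtain ⟨χ, hχ⟩ := exists_mu l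
    refine ⟨χ, fun he => hl ?_, hχ⟩
    rw [← hχ, he]
    exact MonoidHom.ext d.st_center

theorem Data.blocks_iff (d : Data p M st) (hM : IsPModular p M) (B : Set (IrrCharacter G)) :
    IsPBlock M B ↔ B = {st} ∨
      ∃ l : ↥(Subgroup.center G) →* ℂˣ, B = {χ | χ ≠ st ∧ mu χ = l} := by
  have hP := pmod_prime hM
  have key : ∀ χ : IrrCharacter G, χ ≠ st →
      blockOf M (χ : G → ℂ) = {ψ | ψ ≠ st ∧ mu ψ = mu χ} := by
    intro χ hχ
    ext ψ
    constructor
    · intro hψ
      have hne : ψ ≠ st := by
        rintro rfl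
        have hb := block_eq_blockOf hP (isPBlock_blockOf M χ) hψ
        rw [d.st_block hM] at hb
        have h1 := self_mem_blockOf hP χ
        rw [hb] at h1
        exact hχ h1
      exact ⟨hne, ((d.sameBlock_iff hM hχ hne).1 hψ).symm⟩
    · rintro ⟨hne, he⟩
      exact (d.sameBlock_iff hM hχ hne).2 he.symm
  constructor
  · rintro ⟨θ, rfl⟩
    by_cases h : θ = st
    · left; rw [h]; exact d.st_block hM
    · right; exact ⟨mu θ, key θ h⟩
  · rintro (rfl | ⟨l, rfl⟩)
    · exact d.st_block hM ▸ isPBlock_blockOf M st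
    · obtain ⟨χ, hχ, rfl⟩ := d.exists_rep l
      exact key χ hχ ▸ isPBlock_blockOf M χ

theorem Data.card_blocks (d : Data p M st) (hM : IsPModular p M) :
    Nat.card {B : Set (IrrCharacter G) // IsPBlock M B} = Nat.card (Subgroup.center G) + 1 := by
  classical
  let f : Option (↥(Subgroup.center G) →* ℂˣ) → {B : Set (IrrCharacter G) // IsPBlock M B} :=
    fun o => o.elim ⟨{st}, (d.blocks_iff hM _).2 (Or.inl rfl)⟩
      fun l => ⟨{χ | χ ≠ st ∧ mu χ = l}, (d.blocks_iff hM _).2 (Or.inr ⟨l, rfl⟩)⟩
  have hf : Function.Bijective f := by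
    refine ⟨?_, ?_⟩
    · intro a b h
      have h' := congrArg Subtype.val h
      rcases a with _ | l <;> rcases b with _ | l'
      · rfl
      · exfalso
        have : st ∈ ({st} : Set (IrrCharacter G)) := rfl
        simp only [f, Option.elim] at h'
        rw [h'] at this
        exact this.1 rfl
      · exfalso
        have : st ∈ ({st} : Set (IrrCharacter G)) := rfl
        simp only [f, Option.elim] at h'
        rw [← h'] at this
        exact this.1 rfl
      · obtain ⟨χ, hχ, hl⟩ := d.exists_rep l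
        simp only [f, Option.elim] at h'
        have : χ ∈ {χ : IrrCharacter G | χ ≠ st ∧ mu χ = l} := ⟨hχ, hl⟩
        rw [h'] at this
        exact congrArg some (hl.symm.trans this.2)
    · rintro ⟨B, hB⟩
      rcases (d.blocks_iff hM B).1 hB with h | ⟨l, h⟩
      · exact ⟨none, Subtype.ext h.symm⟩
      · exact ⟨some l, Subtype.ext h.symm⟩
  rw [← Nat.card_eq_of_bijective f hf, Finite.card_option]
  congr 1
  letI : CommGroup ↥(Subgroup.center G) :=
    { (inferInstance : Group ↥(Subgroup.center G)) with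
      mul_comm := fun a b => Subtype.ext (Subgroup.mem_center_iff.1 b.2 (a : G)) }
  haveI : NeZero ((Monoid.exponent ↥(Subgroup.center G) : ℂ)) :=
    ⟨Nat.cast_ne_zero.2 Monoid.exponent_ne_zero_of_finite⟩
  exact CommGroup.card_monoidHom_of_hasEnoughRootsOfUnity ↥(Subgroup.center G) ℂ

theorem Data.isDefectGroup_sylow [Fact p.Prime] (d : Data p M st) (hM : IsPModular p M)
    {χ : IrrCharacter G} (hχ : χ ≠ st) (P : Sylow p G) :
    IsDefectGroup p M (blockOf M (χ : G → ℂ)) (P : Subgroup G) := by
  have hB := isPBlock_blockOf M χ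
  obtain ⟨D, hD⟩ := exists_isDefectGroup hM hB
  have hcard := card_defectGroup hM hB hD
  rw [d.full_of_ne hM hχ] at hcard
  let S : Sylow p G := Sylow.ofCard D hcard
  obtain ⟨g, hg⟩ := MulAction.exists_smul_eq G S P
  have h1 : (P : Subgroup G) = D.map (MulAut.conj g).toMonoidHom := by
    rw [← hg, Sylow.coe_subgroup_smul]
    rfl
  rw [h1]
  exact isDefectGroup_conj hM hD g

end Cfsg.Agent.Char.CentralBlocks
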