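import Mathlib

/-!
# Scaled integral projections of rank one modulo a prime

If `W` is an integral symmetric matrix with `W * W = p • W`, of rank one modulo `p` and trace `p * l`, then the
quadratic form of `W` takes values at least `l` off its kernel: the orthogonal lattice has determinant at most
`p`, and a Gram determinant counts the nonzero minors.
-/

set_option autoImplicit false

open Matrix

namespace Cfsg.Agent.Char.Lattice

theorem one_add_sum_le_prod {ι : Type*} (s : Finset ι) {f : ι → ℝ} (hf : ∀ i ∈ s, 0 ≤ f i) :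
    1 + ∑ i ∈ s, f i ≤ ∏ i ∈ s, (1 + f i) := by
  classical
  induction s using Finset.induction_on with
  | empty => simp
  | insert a t ha ih =>
    rw [Finset.sum_insert ha, Finset.prod_insert ha]
    have h0 := hf a (Finset.mem_insert_self a t)
    have h1 := ih fun i hi => hf i (Finset.mem_insert_of_mem hi)
    have h2 : 0 ≤ ∑ i ∈ t, f i := Finset.sum_nonneg fun i hi => hf i (Finset.mem_insert_of_mem hi)
    nlinarith

theorem one_add_trace_le_det {κ ι : Type*} [Fintype κ] [DecidableEq κ] [Fintype ι] (Y : Matrix ι κ ℝ) :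
    1 + ∑ i, ∑ j, Y i j ^ 2 ≤ (1 + Yᵀ * Y).det := by
  have hps : (Yᵀ * Y).PosSemidef := by
    simpa [conjTranspose_eq_transpose_of_trivial] using posSemidef_conjTranspose_mul_self Y
  have hH := hps.isHermitian
  have hdet : (1 + Yᵀ * Y).det = ∏ i, (1 + hH.eigenvalues i) := by
    have h := hH.spectral_theorem
    set D := diagonal (RCLike.ofReal ∘ hH.eigenvalues : κ → ℝ) with hD
    set U := (hH.eigenvectorUnitary : Matrix κ κ ℝ) with hU
    have hU1 : U * star U = 1 := Unitary.mul_star_self_of_mem hH.eigenvectorUnitary.2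
    have h' : 1 + Yᵀ * Y = U * (1 + D) * star U := by
      rw [mul_add, mul_one, add_mul, hU1, h, Unitary.conjStarAlgAut_apply]
    rw [h', det_mul, det_mul, mul_right_comm, ← det_mul, hU1, det_one, one_mul, hD, ← diagonal_one,
      diagonal_add, det_diagonal]
    rfl
  have htr : (Yᵀ * Y).trace = ∑ i, ∑ j, Y i j ^ 2 := by
    rw [Finset.sum_comm]
    simp [Matrix.trace, Matrix.mul_apply, sq]
  rw [hdet, ← htr, hH.trace_eq_sum_eigenvalues]
  exact one_add_sum_le_prod _ fun i _ => hps.eigenvalues_nonneg i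

/-- A Gram determinant is at least the number of rows beyond a basis, plus one. -/
theorem card_le_det_gram {ι κ : Type*} [Fintype ι] [DecidableEq ι] [Fintype κ] [DecidableEq κ]
    (B : Matrix ι κ ℤ) (hrow : ∀ i, ∃ j, B i j ≠ 0) (hdet : (Bᵀ * B).det ≠ 0) :
    (Fintype.card ι : ℤ) - Fintype.card κ + 1 ≤ (Bᵀ * B).det := by
  classical
  set BQ : Matrix ι κ ℚ := B.map (Int.cast : ℤ → ℚ) with hBQ
  have hG : BQᵀ * BQ = (Bᵀ * B).map (Int.cast : ℤ → ℚ) := by
    ext i j; simp [hBQ, Matrix.mul_apply]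
  have hunit : IsUnit (BQᵀ * BQ) := by
    rw [isUnit_iff_isUnit_det, hG,
      show ((Bᵀ * B).map (Int.cast : ℤ → ℚ)).det = (((Bᵀ * B).det : ℤ) : ℚ) from
        ((Int.castRingHom ℚ).map_det (Bᵀ * B)).symm]
    exact isUnit_iff_ne_zero.mpr (Int.cast_ne_zero.mpr hdet)
  have hspan : Submodule.span ℚ (Set.range BQ.row) = ⊤ := by
    refine Submodule.eq_top_of_finrank_eq (le_antisymm (Submodule.finrank_le _) ?_)
    rw [← rank_eq_finrank_span_row, Module.finrank_fintype_fun_eq_card]
    calc Fintype.card κ = (BQᵀ * BQ).rank := (rank_of_isUnit _ hunit).symm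
      _ ≤ BQ.rank := rank_mul_le_right _ _
  obtain ⟨s, hs, hsspan, hli⟩ := exists_linearIndependent ℚ (Set.range BQ.row)
  rw [hspan] at hsspan
  haveI : Fintype s := (Set.Finite.subset (Set.finite_range _) hs).fintype
  have hcard : Fintype.card s = Fintype.card κ := by
    have h := finrank_span_eq_card hli
    rw [Subtype.range_coe, hsspan, finrank_top, Module.finrank_fintype_fun_eq_card] at h
    exact h.symm
  obtain ⟨σ⟩ : Nonempty (κ ≃ s) := ⟨(Fintype.equivOfCardEq hcard).symm⟩
  choose e he using fun j : κ => hs (σ j).2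
  have he_inj : Function.Injective e := fun a b hab => σ.injective (Subtype.ext (by rw [← he a, ← he b, hab]))
  set S : Finset ι := Finset.univ.image e with hS
  set d := (B.submatrix e id).det with hd
  have hd0 : d ≠ 0 := by
    intro h0
    have hli' : LinearIndependent ℚ ((BQ.submatrix e id).row) := by
      have := hli.comp σ σ.injective
      rw [show (BQ.submatrix e id).row = (Subtype.val : s → κ → ℚ) ∘ σ from funext fun j => he j]
      exact this
    have hu := (isUnit_iff_isUnit_det _).mp (linearIndependent_rows_iff_isUnit.mp hli')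
    rw [show BQ.submatrix e id = (B.submatrix e id).map (Int.cast : ℤ → ℚ) from rfl,
      show ((B.submatrix e id).map (Int.cast : ℤ → ℚ)).det = ((d : ℤ) : ℚ) from
        ((Int.castRingHom ℚ).map_det (B.submatrix e id)).symm, h0, Int.cast_zero] at hu
    exact not_isUnit_zero hu
  set Q := B.submatrix (Subtype.val : {i // i ∉ S} → ι) id with hQ
  have hsplit : Bᵀ * B = (B.submatrix e id)ᵀ * B.submatrix e id + Qᵀ * Q := by
    ext a b
    simp only [Matrix.mul_apply, Matrix.add_apply, Matrix.transpose_apply, Matrix.submatrix_apply, id_eq, hQ]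
    rw [← Finset.sum_add_sum_compl S, hS, Finset.sum_image fun a _ b _ hab => he_inj hab]
    congr 1
    exact Finset.sum_subtype _ (by simp [hS]) _
  -- pass to the reals
  set MR : Matrix κ κ ℝ := (B.submatrix e id).map (Int.cast : ℤ → ℝ) with hMR
  set QR : Matrix {i // i ∉ S} κ ℝ := Q.map (Int.cast : ℤ → ℝ) with hQR
  have hMdet : MR.det = (d : ℝ) := ((Int.castRingHom ℝ).map_det (B.submatrix e id)).symm
  set Y := QR * MR⁻¹ with hY
  have hYM : Y * MR = QR := by
    rw [hY, Matrix.mul_assoc, nonsing_inv_mul _ (isUnit_iff_ne_zero.mpr (hMdet ▸ Int.cast_ne_zero.mpr hd0)),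
      Matrix.mul_one]
  have hdetR : (((Bᵀ * B).det : ℤ) : ℝ) = (d : ℝ) ^ 2 * (1 + Yᵀ * Y).det := by
    rw [hsplit, show ((((B.submatrix e id)ᵀ * B.submatrix e id + Qᵀ * Q).det : ℤ) : ℝ) =
      (((B.submatrix e id)ᵀ * B.submatrix e id + Qᵀ * Q).map (Int.cast : ℤ → ℝ)).det from
        (Int.castRingHom ℝ).map_det _,
      show ((B.submatrix e id)ᵀ * B.submatrix e id + Qᵀ * Q).map (Int.cast : ℤ → ℝ) = MRᵀ * MR + QRᵀ * QR by
        ext a b; simp [hMR, hQR, Matrix.mul_apply],
      show MRᵀ * MR + QRᵀ * QR = MRᵀ * (1 + Yᵀ * Y) * MR by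
        rw [Matrix.mul_add, Matrix.add_mul, Matrix.mul_one, ← Matrix.mul_assoc MRᵀ, ← transpose_mul, hYM,
          Matrix.mul_assoc, hYM],
      det_mul, det_mul, det_transpose, hMdet]
    ring
  have h1 := one_add_trace_le_det Y
  -- every further row contributes
  have hadj : ∀ i : {i // i ∉ S}, (1 : ℝ) ≤ ∑ j, ((d : ℝ) * Y i j) ^ 2 := by
    intro i
    set w : Matrix {i // i ∉ S} κ ℤ := Q * (B.submatrix e id).adjugate with hw
    have hdY : (d : ℝ) • Y = w.map (Int.cast : ℤ → ℝ) := by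
      rw [hY, Matrix.inv_def, Matrix.mul_smul, smul_smul, hMdet, Ring.inverse_eq_inv',
        mul_inv_cancel₀ (Int.cast_ne_zero.mpr hd0), one_smul,
        show MR.adjugate = (B.submatrix e id).adjugate.map (Int.cast : ℤ → ℝ) from
          ((Int.castRingHom ℝ).map_adjugate (B.submatrix e id)).symm]
      ext a b; simp [hQR, hw, Matrix.mul_apply]
    obtain ⟨j, hj⟩ : ∃ j, w i j ≠ 0 := by
      by_contra hno
      push Not at hno
      obtain ⟨j, hj⟩ := hrow i.1
      have h2 : ∑ l, w i l * B.submatrix e id l j = d * B i.1 j := by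
        have h3 : w * B.submatrix e id = d • Q := by
          rw [hw, Matrix.mul_assoc, adjugate_mul, ← hd, Matrix.mul_smul, Matrix.mul_one]
        have h4 := congrFun (congrFun h3 i) j
        simpa [Matrix.mul_apply, hQ] using h4
      rw [Finset.sum_eq_zero fun l _ => by rw [hno l, zero_mul]] at h2
      exact hj ((mul_eq_zero.mp h2.symm).resolve_left hd0)
    have h5 : ∀ l, (d : ℝ) * Y i l = (w i l : ℝ) := fun l => by
      simpa using congrFun (congrFun hdY i) l
    simp only [h5]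
    refine le_trans ?_ (Finset.single_le_sum (fun l _ => sq_nonneg ((w i l : ℝ))) (Finset.mem_univ j))
    have : (1 : ℤ) ≤ w i j ^ 2 := Int.one_le_abs (pow_ne_zero 2 hj) |>.trans (le_of_eq (abs_sq _))
    exact_mod_cast this
  have h2 : (Fintype.card {i // i ∉ S} : ℝ) ≤ (d : ℝ) ^ 2 * ∑ i, ∑ j, Y i j ^ 2 := by
    simp only [Finset.mul_sum, ← mul_pow]
    rw [← Finset.card_univ, Finset.cast_card]
    exact Finset.sum_le_sum fun i _ => hadj i
  have h3 : (1 : ℝ) ≤ (d : ℝ) ^ 2 := by
    have : (1 : ℤ) ≤ d ^ 2 := Int.one_le_abs (pow_ne_zero 2 hd0) |>.trans (le_of_eq (abs_sq _))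
    exact_mod_cast this
  have hc : Fintype.card {i // i ∉ S} + Fintype.card κ = Fintype.card ι := by
    rw [Fintype.card_subtype_compl, Fintype.card_coe, hS, Finset.card_image_of_injective _ he_inj,
      Finset.card_univ]
    have : Fintype.card κ ≤ Fintype.card ι := Fintype.card_le_of_injective e he_inj
    omega
  have h4 : ((Fintype.card ι : ℤ) : ℝ) - (Fintype.card κ : ℤ) + 1 ≤ (((Bᵀ * B).det : ℤ) : ℝ) := by
    rw [hdetR]
    have hc' : (Fintype.card {i // i ∉ S} : ℝ) + Fintype.card κ = Fintype.card ι := by exact_mod_cast hc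
    push_cast
    nlinarith
  exact_mod_cast h4

/-- A matrix of rank one modulo `p` has determinant divisible by `p ^ (r - 1)`. -/
theorem pow_dvd_det {r : ℕ} (p : ℤ) (hp : p ≠ 0) (a b : Fin r → ℤ) (N : Matrix (Fin r) (Fin r) ℤ) :
    ∃ c : ℤ, p * (vecMulVec a b + p • N).det = p ^ r * c := by
  set A : Matrix (Fin r) Unit ℤ := replicateCol Unit a
  set C : Matrix Unit (Fin r) ℤ := replicateRow Unit b
  have h1 : (vecMulVec a b + p • N).det = (fromBlocks (p • N) (-A) C (1 : Matrix Unit Unit ℤ)).det := by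
    rw [det_fromBlocks_one₂₂]
    congr 1
    ext i j
    simp [A, C, Matrix.mul_apply, vecMulVec_apply, add_comm]
  refine ⟨(fromBlocks N (-A) C (p • (1 : Matrix Unit Unit ℤ))).det, ?_⟩
  rw [h1]
  have h2 : fromBlocks (p • N) (-A) C (1 : Matrix Unit Unit ℤ) *
      fromBlocks (1 : Matrix (Fin r) (Fin r) ℤ) 0 0 (p • (1 : Matrix Unit Unit ℤ)) =
      fromBlocks (p • (1 : Matrix (Fin r) (Fin r) ℤ)) 0 0 (1 : Matrix Unit Unit ℤ) *
        fromBlocks N (-A) C (p • (1 : Matrix Unit Unit ℤ)) := by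
    rw [fromBlocks_multiply, fromBlocks_multiply]
    simp only [Matrix.mul_one, Matrix.mul_zero, Matrix.zero_mul, Matrix.one_mul, add_zero, zero_add, Matrix.mul_smul,
      Matrix.smul_mul, smul_zero]
  have h3 := congrArg Matrix.det h2
  rw [det_mul, det_mul, det_fromBlocks_zero₁₂, det_fromBlocks_zero₁₂, det_one, det_one, one_mul, mul_one,
    det_smul, det_smul, det_one, det_one, Fintype.card_fin, Fintype.card_unit, pow_one, mul_one, mul_one] at h3
  rw [mul_comm, h3]

/-- The integral orthogonal lattice of an integral scaled projection. -/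
theorem exists_kernel_basis {ι : Type*} [Fintype ι] [DecidableEq ι] (W : Matrix ι ι ℤ) :
    ∃ (r : ℕ) (B : Matrix ι (Fin r) ℤ) (T : Matrix (Fin r) ι ℤ),
      W * B = 0 ∧ T * B = 1 ∧ ∀ v : ι → ℤ, W *ᵥ v = 0 → B *ᵥ (T *ᵥ v) = v := by
  classical
  set f := W.mulVecLin with hf
  set L := LinearMap.ker f with hL
  obtain ⟨s, hs⟩ := Module.projective_lifting_property f.rangeRestrict (LinearMap.id (R := ℤ))
    (LinearMap.surjective_rangeRestrict f)
  set π : (ι → ℤ) →ₗ[ℤ] L := LinearMap.codRestrict L (LinearMap.id - s.comp f.rangeRestrict) fun v => by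
    rw [hL, LinearMap.mem_ker, LinearMap.sub_apply, map_sub, LinearMap.id_apply, LinearMap.comp_apply,
      sub_eq_zero]
    exact (congrArg Subtype.val (LinearMap.congr_fun hs (f.rangeRestrict v))).symm with hπ
  set b := Module.finBasis ℤ L with hb
  set r := Module.finrank ℤ L
  refine ⟨r, Matrix.of fun i j => (b j : ι → ℤ) i,
    LinearMap.toMatrix' (b.equivFun.toLinearMap ∘ₗ π), ?_, ?_, ?_⟩
  · ext i j
    have h0 : (W *ᵥ (b j : ι → ℤ)) i = 0 := congrFun (LinearMap.mem_ker.mp (b j).2) i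
    rw [Matrix.mul_apply]
    exact h0
  · ext i j
    have h1 : π (b j : ι → ℤ) = b j := by
      refine Subtype.ext ?_
      have h0 : f.rangeRestrict (b j : ι → ℤ) = 0 := Subtype.ext (LinearMap.mem_ker.mp (b j).2)
      simp [hπ, h0]
    have h2 : (LinearMap.toMatrix' (b.equivFun.toLinearMap ∘ₗ π) *ᵥ (b j : ι → ℤ)) i =
        (1 : Matrix (Fin r) (Fin r) ℤ) i j := by
      rw [LinearMap.toMatrix'_mulVec]
      simp [h1, Matrix.one_apply, Finsupp.single_apply, eq_comm]
    simpa [Matrix.mul_apply, Matrix.mulVec, dotProduct] using h2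
  · intro v hv
    have h1 : π v = ⟨v, hv⟩ := by
      refine Subtype.ext ?_
      have h0 : f.rangeRestrict v = 0 := Subtype.ext hv
      simp [hπ, h0]
    rw [LinearMap.toMatrix'_mulVec, LinearMap.comp_apply, h1]
    funext i
    have h3 := congrArg (fun w : L => (w : ι → ℤ) i) (b.sum_equivFun ⟨v, hv⟩)
    simp only [Submodule.coe_sum, Submodule.coe_smul, Finset.sum_apply, Pi.smul_apply, smul_eq_mul] at h3
    rw [← h3]
    simp [Matrix.mulVec, dotProduct, mul_comm]

/-- The form of `W` is at least `l` off its kernel. -/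
theorem le_quadratic {ι : Type*} [Fintype ι] [DecidableEq ι] {p : ℕ} (hp : p.Prime) (W : Matrix ι ι ℤ)
    (hsymm : Wᵀ = W) (hsq : W * W = (p : ℤ) • W) {l : ℕ} (htr : W.trace = (p : ℤ) * l)
    (hmod : ∃ a b : ι → ℤ, ∀ i j, (p : ℤ) ∣ W i j - a i * b j)
    (hoff : ∀ i, ∃ j, j ≠ i ∧ W i j ≠ 0) (v : ι → ℤ) (hv : W *ᵥ v ≠ 0) :
    (l : ℤ) ≤ v ⬝ᵥ W *ᵥ v := by
  classical
  have hp0 : (p : ℤ) ≠ 0 := Int.natCast_ne_zero.mpr hp.ne_zero
  obtain ⟨r, B, T, hWB, hTB, hBT⟩ := exists_kernel_basis W
  set V : Matrix ι ι ℤ := (p : ℤ) • 1 - W with hV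
  have hWV : W * V = 0 := by rw [hV, Matrix.mul_sub, Matrix.mul_smul, Matrix.mul_one, hsq, sub_self]
  have hVt : Vᵀ = V := by rw [hV, transpose_sub, transpose_smul, transpose_one, hsymm]
  have hVB : V * B = (p : ℤ) • B := by rw [hV, Matrix.sub_mul, Matrix.smul_mul, Matrix.one_mul, hWB, sub_zero]
  have hBW : Bᵀ * W = 0 := by rw [← hsymm, ← transpose_mul, hWB, transpose_zero]
  have hBV : B * (T * V) = V := by
    ext i j
    have h := congrFun (hBT (fun k => V k j) (funext fun k => by
      simpa [Matrix.mulVec, dotProduct, Matrix.mul_apply] using congrFun (congrFun hWV k) j)) i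
    simpa [Matrix.mulVec, dotProduct, Matrix.mul_apply] using h
  set K := T * V with hK
  have hKB : K * B = (p : ℤ) • (1 : Matrix (Fin r) (Fin r) ℤ) := by
    rw [hK, Matrix.mul_assoc, hVB, Matrix.mul_smul, hTB]
  set G := Bᵀ * B with hG
  have hGK : G * K = (p : ℤ) • Bᵀ := by
    rw [hG, Matrix.mul_assoc, hBV, ← hVt, ← transpose_mul, hVB, transpose_smul]
  have hGK' : G * (K * Tᵀ) = (p : ℤ) • (1 : Matrix (Fin r) (Fin r) ℤ) := by
    rw [← Matrix.mul_assoc, hGK, Matrix.smul_mul, ← transpose_mul, hTB, transpose_one]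
  have hdGK : G.det * (K * Tᵀ).det = (p : ℤ) ^ r := by
    have := congrArg Matrix.det hGK'
    rwa [det_mul, det_smul, det_one, mul_one, Fintype.card_fin] at this
  -- the orthogonal lattice has small determinant
  obtain ⟨a, b, hab⟩ := hmod
  choose N hN using hab
  have hKT : K * Tᵀ = vecMulVec (-(T *ᵥ a)) (T *ᵥ b) + (p : ℤ) • (T * Tᵀ - T * Matrix.of N * Tᵀ) := by
    have hW : W = vecMulVec a b + (p : ℤ) • Matrix.of N := by
      ext i j
      have := hN i j
      simp [vecMulVec_apply]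
      linarith
    conv_lhs => rw [hK, hV, hW]
    rw [Matrix.mul_sub, Matrix.sub_mul, Matrix.mul_smul, Matrix.mul_one, Matrix.smul_mul, Matrix.mul_add,
      Matrix.add_mul, Matrix.mul_smul, Matrix.smul_mul, mul_vecMulVec, vecMulVec_mul, vecMul_transpose,
      neg_vecMulVec, smul_sub]
    abel
  obtain ⟨c, hc⟩ := pow_dvd_det (p : ℤ) hp0 (-(T *ᵥ a)) (T *ᵥ b) (T * Tᵀ - T * Matrix.of N * Tᵀ)
  rw [← hKT] at hc
  have hG0 : G.det ≠ 0 := fun h0 => pow_ne_zero r hp0 (by rw [← hdGK, h0, zero_mul])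
  have hGdvd : G.det ∣ (p : ℤ) := by
    refine ⟨c, mul_right_cancel₀ (pow_ne_zero r hp0) ?_⟩
    calc (p : ℤ) * (p : ℤ) ^ r = (p : ℤ) * (G.det * (K * Tᵀ).det) := by rw [hdGK]
      _ = G.det * ((p : ℤ) * (K * Tᵀ).det) := by ring
      _ = _ := by rw [hc]; ring
  have hGp : G.det ≤ (p : ℤ) := Int.le_of_dvd (by exact_mod_cast hp.pos) hGdvd
  -- the bordered Gram determinant
  set u := W *ᵥ v with hu
  set q := v ⬝ᵥ u with hq
  have huu : u ⬝ᵥ u = (p : ℤ) * q := by
    rw [hq, hu, dotProduct_mulVec, ← mulVec_transpose, hsymm, mulVec_mulVec, hsq, smul_mulVec,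
      smul_dotProduct, dotProduct_comm]
    rfl
  have hqpos : 0 < q := by
    have h1 : 0 < u ⬝ᵥ u := lt_of_le_of_ne (Finset.sum_nonneg fun i _ => mul_self_nonneg _)
      fun h => hv (dotProduct_self_eq_zero.mp h.symm)
    rw [huu] at h1
    exact pos_of_mul_pos_right h1 (Int.natCast_nonneg p)
  set C : Matrix ι (Fin r ⊕ Unit) ℤ := fromCols B (replicateCol Unit v) with hC
  set U : Matrix (Fin r ⊕ Unit) (Fin r ⊕ Unit) ℤ :=
    fromBlocks 1 (replicateCol Unit (-(K *ᵥ v))) 0 ((p : ℤ) • 1) with hU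
  have hCU : C * U = fromCols B (replicateCol Unit u) := by
    rw [hC, hU, fromCols_mul_fromBlocks, Matrix.mul_one, Matrix.mul_zero, add_zero, Matrix.mul_smul,
      Matrix.mul_one]
    congr 1
    rw [← replicateCol_mulVec, ← replicateCol_smul, ← replicateCol_add, mulVec_neg, mulVec_mulVec, hBV, hV,
      sub_mulVec, smul_mulVec, one_mulVec, hu]
    congr 1
    abel
  have hdet2 : (Cᵀ * C).det * (p : ℤ) ^ 2 = G.det * ((p : ℤ) * q) := by
    have h1 := congrArg (fun X : Matrix ι (Fin r ⊕ Unit) ℤ => (Xᵀ * X).det) hCU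
    simp only [transpose_mul, transpose_fromCols, fromRows_mul_fromCols] at h1
    rw [show Uᵀ * Cᵀ * (C * U) = Uᵀ * (Cᵀ * C) * U by simp [Matrix.mul_assoc], det_mul, det_mul,
      det_transpose, hU, det_fromBlocks_zero₂₁, det_one, one_mul, det_smul, det_one, mul_one,
      Fintype.card_unit, pow_one] at h1
    have h2 : Bᵀ * replicateCol Unit u = 0 := by
      rw [← replicateCol_mulVec, hu, mulVec_mulVec, hBW, zero_mulVec, replicateCol_zero]
    rw [h2, det_fromBlocks_zero₁₂, ← hG] at h1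
    rw [show ((replicateCol Unit u)ᵀ * replicateCol Unit u).det = u ⬝ᵥ u by
      simp [det_unique, Matrix.mul_apply, dotProduct], huu] at h1
    rw [← h1]
    ring
  have hC0 : (Cᵀ * C).det ≠ 0 := by
    intro h0
    rw [h0, zero_mul] at hdet2
    exact mul_ne_zero hG0 (mul_ne_zero hp0 hqpos.ne') hdet2.symm
  have hrows : ∀ i, ∃ j, C i j ≠ 0 := by
    intro i
    obtain ⟨k, hki, hWk⟩ := hoff i
    by_contra hno
    push Not at hno
    refine hWk ?_
    have h1 : V i k = 0 := by
      rw [← hBV]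
      simp only [Matrix.mul_apply]
      exact Finset.sum_eq_zero fun l _ => by
        have := hno (Sum.inl l)
        simp [hC] at this
        simp [this]
    rw [hV, Matrix.sub_apply, Matrix.smul_apply, Matrix.one_apply_ne (Ne.symm hki), smul_zero, zero_sub,
      neg_eq_zero] at h1
    exact h1
  have hgram := card_le_det_gram C hrows hC0
  rw [Fintype.card_sum, Fintype.card_fin, Fintype.card_unit] at hgram
  push_cast at hgram
  -- the rank of the lattice
  have hrank : (Fintype.card ι : ℤ) - l = r := by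
    have h1 : (B * K).trace = (K * B).trace := trace_mul_comm B K
    rw [hBV, hKB, hV, trace_sub, trace_smul, trace_smul, trace_one, trace_one, htr, Fintype.card_fin,
      smul_eq_mul, smul_eq_mul] at h1
    exact mul_left_cancel₀ hp0 (by rw [mul_sub]; exact h1)
  have hpp : (0 : ℤ) < p := by exact_mod_cast hp.pos
  have hCq : (Cᵀ * C).det * (p : ℤ) = G.det * q := mul_right_cancel₀ hp0 (by linear_combination hdet2)
  nlinarith

end Cfsg.Agent.Char.Lattice
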