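import Cfsg.Agent.Lib.Char.Contribution
import Cfsg.Agent.Lib.Char.BlockRankCard
import Cfsg.Agent.Lib.Char.RankOneLattice

/-!
# A central `p`-element inside a block

The scalars by which a central element `z` acts cut a block into classes, and the matrix `wI` restricted to a
class is `p ^ d / o(z)` times a projection. When that scale is `p` it has rank one modulo `p`.
-/

set_option autoImplicit false
set_option linter.unusedSectionVars false

open Cfsg
open scoped ComplexConjugate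

namespace Cfsg.Agent.Char.CentralClass

universe u

variable {H : Type u} [Group H] [Fintype H] {M : Ideal AlgInt} {p a : ℕ} {e : Set (IrrCharacter H)}
  {z : H} {ω : ℂ} {j : IrrCharacter H → ℕ}

open scoped Classical in
/-- The members of `e` on which `z` acts by `ω ^ s`. -/
noncomputable def cls (e : Set (IrrCharacter H)) (j : IrrCharacter H → ℕ) (s : ℕ) : Finset (IrrCharacter H) :=
  Finset.univ.filter fun η => η ∈ e ∧ j η = s

theorem mem_cls {s : ℕ} {η : IrrCharacter H} : η ∈ cls e j s ↔ η ∈ e ∧ j η = s := by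
  classical simp [cls]

section

variable (hM : IsPModular p M) (he : IsPBlock M e) (hzc : ∀ c, z * c = c * z) (hza : orderOf z = p ^ a)
  (hω : IsPrimitiveRoot ω (p ^ a)) (hj : ∀ η, j η < p ^ a)
  (hz : ∀ (η : IrrCharacter H) (c : H), (η : H → ℂ) (z * c) = ω ^ j η * (η : H → ℂ) c)

include hM he hzc hza hω hj hz

theorem apply_pow_mul (η : IrrCharacter H) (i : ℕ) (c : H) :
    (η : H → ℂ) (z ^ i * c) = ω ^ (i * j η) * (η : H → ℂ) c := by
  induction i with
  | zero => simp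
  | succ i ih => rw [pow_succ', mul_assoc, hz, ih, Nat.succ_mul, pow_add]; ring

open scoped Classical in
theorem sum_einner_pow_eq_zero {i : ℕ} (hi0 : i ≠ 0) (hi : i < p ^ a) (η φ : IrrCharacter H) :
    ∑ θ : IrrCharacter H, einner p (η : H → ℂ) (θ : H → ℂ) * ω ^ (i * j θ) *
      einner p (θ : H → ℂ) (φ : H → ℂ) = 0 := by
  simp only [einner, classInner, Finset.mul_sum, Finset.sum_mul, Pi.mul_apply]
  rw [Finset.sum_comm]
  refine Finset.sum_eq_zero fun h _ => ?_
  rw [Finset.sum_comm]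
  refine Finset.sum_eq_zero fun g _ => ?_
  by_cases hh : p ∣ orderOf h
  · simp [regInd, hh]
  by_cases hg : p ∣ orderOf g
  · simp [regInd, hg]
  have hsing : p ∣ orderOf (z ^ i * h) := by
    have hco : (orderOf (z ^ i)).Coprime (orderOf h) := by
      obtain ⟨m, -, hm⟩ := (Nat.dvd_prime_pow hM.1).mp (hza ▸ orderOf_pow_dvd i)
      rw [hm]
      exact Nat.Coprime.pow_left _ ((hM.1.coprime_iff_not_dvd).mpr hh)
    rw [Commute.orderOf_mul_eq_mul_orderOf_of_coprime (Commute.pow_left (hzc h) i) hco]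
    refine Dvd.dvd.mul_right ?_ _
    obtain ⟨m, -, hm⟩ := (Nat.dvd_prime_pow hM.1).mp (hza ▸ orderOf_pow_dvd i)
    rw [hm]
    refine dvd_pow_self p fun h0 => ?_
    rw [h0, pow_zero, orderOf_eq_one_iff] at hm
    have := orderOf_dvd_of_pow_eq_one hm
    rw [hza] at this
    exact absurd (Nat.le_of_dvd (Nat.pos_of_ne_zero hi0) this) (by omega)
  have hnc : ¬ IsConj (z ^ i * h) g := fun hc => hg (by
    obtain ⟨t, ht⟩ := isConj_iff.mp hc
    rw [← ht, ← MulAut.conj_apply, MulEquiv.orderOf_eq]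
    exact hsing)
  have h0 := second_orth (z ^ i * h) g
  rw [if_neg hnc] at h0
  simp only [apply_pow_mul hM he hzc hza hω hj hz] at h0
  have h1 := congrArg (fun t => ((Nat.card H : ℂ)⁻¹) ^ 2 * regInd p g * regInd p h * (η : H → ℂ) g *
    conj ((φ : H → ℂ) h) * t) h0
  simp only [Finset.mul_sum, mul_zero] at h1
  refine Eq.trans (Finset.sum_congr rfl fun θ _ => ?_) h1
  ring

open scoped Classical in
/-- Classes under `z` cut the projection. -/
theorem mul_sum_cls {η φ : IrrCharacter H} (hη : η ∈ e) (hφ : φ ∈ e) {s : ℕ} (hs : s < p ^ a) :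
    ((p ^ a : ℕ) : ℤ) * ∑ θ ∈ cls e j s, wI p e η θ * wI p e θ φ =
      (p : ℤ) ^ blockDefect p e * wI p e η φ := by
  have hP := pmod_prime hM
  set N := p ^ a with hN
  set q : ℂ := (p : ℂ) ^ blockDefect p e with hq
  apply Int.cast_injective (α := ℂ)
  push_cast
  have hterm : ∀ θ ∈ cls e j s, (wI p e η θ : ℂ) * (wI p e θ φ : ℂ) =
      q * q * (einner p (η : H → ℂ) (θ : H → ℂ) * einner p (θ : H → ℂ) (φ : H → ℂ)) := fun θ hθ => by
    rw [wI_cast_eq hM he hη, wI_cast_eq hM he (mem_cls.mp hθ).1]; ring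
  rw [Finset.sum_congr rfl hterm, ← Finset.mul_sum, wI_cast_eq hM he hη, ← mul_assoc, ← mul_assoc]
  have hω0 : ω ≠ 0 := hω.ne_zero (pow_ne_zero a hM.1.ne_zero)
  have key : (N : ℂ) * ∑ θ ∈ cls e j s, einner p (η : H → ℂ) (θ : H → ℂ) * einner p (θ : H → ℂ) (φ : H → ℂ) =
      einner p (η : H → ℂ) (φ : H → ℂ) := by
    have h1 : ∀ θ : IrrCharacter H, ∑ i ∈ Finset.range N, ω ^ (i * j θ) * (ω ^ (i * s))⁻¹ =
        if j θ = s then (N : ℂ) else 0 := by
      intro θ
      have e1 : ∀ i, ω ^ (i * j θ) * (ω ^ (i * s))⁻¹ = (ω ^ j θ * (ω ^ s)⁻¹) ^ i := fun i => by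
        rw [mul_pow, inv_pow, ← pow_mul, ← pow_mul, mul_comm i, mul_comm i]
      simp only [e1]
      split_ifs with h
      · rw [h, mul_inv_cancel₀ (pow_ne_zero _ hω0)]
        simp
      · have hne : ω ^ j θ * (ω ^ s)⁻¹ ≠ 1 := fun h' =>
          h (hω.pow_inj (hj θ) hs (mul_inv_eq_one₀ (pow_ne_zero _ hω0) |>.mp h'))
        have hone : (ω ^ j θ * (ω ^ s)⁻¹) ^ N = 1 := by
          rw [mul_pow, inv_pow, ← pow_mul, ← pow_mul, mul_comm (j θ), mul_comm s, pow_mul, pow_mul,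
            hω.pow_eq_one, one_pow, one_pow, inv_one, one_mul]
        rw [geom_sum_eq hne, hone, sub_self, zero_div]
    have h2 : (N : ℂ) * ∑ θ ∈ cls e j s, einner p (η : H → ℂ) (θ : H → ℂ) * einner p (θ : H → ℂ) (φ : H → ℂ) =
        ∑ i ∈ Finset.range N, (ω ^ (i * s))⁻¹ * ∑ θ : IrrCharacter H,
          einner p (η : H → ℂ) (θ : H → ℂ) * ω ^ (i * j θ) * einner p (θ : H → ℂ) (φ : H → ℂ) := by
      simp only [Finset.mul_sum]
      rw [Finset.sum_comm, cls, Finset.sum_filter]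
      refine Finset.sum_congr rfl fun θ _ => ?_
      rw [Finset.sum_congr rfl (g := fun i => (einner p (η : H → ℂ) (θ : H → ℂ) *
        einner p (θ : H → ℂ) (φ : H → ℂ)) * (ω ^ (i * j θ) * (ω ^ (i * s))⁻¹)) fun i _ => by ring,
        ← Finset.mul_sum, h1]
      by_cases hθ : θ ∈ e
      · by_cases hs' : j θ = s <;> simp [hθ, hs']; ring
      · rw [if_neg fun h => hθ h.1, einner_eq_zero_of_not_sameBlock hM η θ
          (fun h => hθ ((mem_block_iff hP he hη θ).mpr h))]
        simp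
    rw [h2, Finset.sum_eq_single 0]
    · simp only [zero_mul, pow_zero, inv_one, one_mul, mul_one]
      exact sum_einner_mul η φ
    · intro i hi hi0
      rw [sum_einner_pow_eq_zero hM he hzc hza hω hj hz hi0 (Finset.mem_range.mp hi), mul_zero]
    · intro h
      exact absurd (Finset.mem_range.mpr (Nat.pos_of_ne_zero (pow_ne_zero a hM.1.ne_zero))) h
  calc ((N : ℂ) * q * q) * ∑ θ ∈ cls e j s, einner p (η : H → ℂ) (θ : H → ℂ) * einner p (θ : H → ℂ) (φ : H → ℂ)
      = q * q * ((N : ℂ) * ∑ θ ∈ cls e j s,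
          einner p (η : H → ℂ) (θ : H → ℂ) * einner p (θ : H → ℂ) (φ : H → ℂ)) := by
        rw [hN]; push_cast; ring
    _ = _ := by rw [key, hq]; ring

theorem dvd_minor {η η' θ θ' : IrrCharacter H} (hη : η ∈ e) (hη' : η' ∈ e) :
    (p : ℤ) ∣ wI p e η θ * wI p e η' θ' - wI p e η θ' * wI p e η' θ := by
  have hP := pmod_prime hM
  set m : ℕ := Nat.card H / p ^ (Nat.card H).factorization p with hm
  have hpm : ¬ p ∣ m := Nat.not_dvd_ordCompl hM.1 Nat.card_pos.ne'
  set T := fun η θ : IrrCharacter H => lam (η : H → ℂ) (regConj p (θ : H → ℂ)) with hT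
  have hTR : ∀ η θ, MemLocalRing M (T η θ) := fun η θ =>
    memLR_lam hP η.2 (regConj_class (irr_isCharacter θ.2)) (regConj_memLR hP (irr_isCharacter θ.2))
  have hTc : ∀ θ, MemLocalIdeal M (T η θ - T η' θ) := fun θ =>
    lam_congr hP η.2 η'.2 (block_sameBlock hP he hη hη') (regConj_class (irr_isCharacter θ.2))
      (regConj_memLR hP (irr_isCharacter θ.2))
  refine (memLI_intCast_iff hM _).mp ?_
  have e1 : ((wI p e η θ * wI p e η' θ' - wI p e η θ' * wI p e η' θ : ℤ) : ℂ) * (m : ℂ) * (m : ℂ) =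
      (redDeg p e η : ℂ) * (redDeg p e η' : ℂ) *
        ((T η θ - T η' θ) * T η' θ' - (T η θ' - T η' θ') * T η' θ) := by
    push_cast
    calc _ = ((wI p e η θ : ℂ) * (m : ℂ)) * ((wI p e η' θ' : ℂ) * (m : ℂ)) -
          ((wI p e η θ' : ℂ) * (m : ℂ)) * ((wI p e η' θ : ℂ) * (m : ℂ)) := by ring
      _ = _ := by
        rw [hm, wI_eq_redDeg_mul hM he hη, wI_eq_redDeg_mul hM he hη', wI_eq_redDeg_mul hM he hη,
          wI_eq_redDeg_mul hM he hη']
        ring
  have h := memLI_mul_left hP (memLR_mul hP (memLR_natCast hP (redDeg p e η)) (memLR_natCast hP (redDeg p e η')))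
    (memLI_sub hP (memLI_mul_right hP (hTc θ) (hTR η' θ')) (memLI_mul_right hP (hTc θ') (hTR η' θ)))
  rw [← e1] at h
  exact (memLI_mul_mem hP (memLR_intCast hP _) (memLR_natCast hP m)
    ((memLI_mul_mem hP (memLR_mul hP (memLR_intCast hP _) (memLR_natCast hP m)) (memLR_natCast hP m) h).resolve_right
      fun h' => hpm ((memLI_natCast_iff hM _).mp h'))).resolve_right fun h' => hpm ((memLI_natCast_iff hM _).mp h')

variable (hd : blockDefect p e = a + 1)
include hd

theorem sum_cls {η φ : IrrCharacter H} (hη : η ∈ e) (hφ : φ ∈ e) {s : ℕ} (hs : s < p ^ a) :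
    ∑ θ ∈ cls e j s, wI p e η θ * wI p e θ φ = (p : ℤ) * wI p e η φ := by
  have h := mul_sum_cls hM he hzc hza hω hj hz hη hφ hs
  rw [hd, Nat.cast_pow, pow_succ, mul_assoc] at h
  exact mul_left_cancel₀ (pow_ne_zero a (Int.natCast_ne_zero.mpr hM.1.ne_zero)) h

theorem exists_height_zero_cls {s : ℕ} (hs : s < p ^ a) :
    ∃ θ ∈ cls e j s, blockHeight p e (θ : H → ℂ) = 0 := by
  have hP := pmod_prime hM
  obtain ⟨φ, hφ, h0⟩ := exists_height_zero (p := p) (block_nonempty hP he)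
  by_contra hno
  push Not at hno
  have h := sum_cls hM he hzc hza hω hj hz hd hφ hφ hs
  have h2 : (p : ℤ) * p ∣ (p : ℤ) * wI p e φ φ := by
    rw [← h]
    refine Finset.dvd_sum fun θ hθ => ?_
    have h1 : (p : ℤ) ∣ wI p e θ φ :=
      (dvd_pow_self _ (hno θ hθ)).trans (wI_pow_dvd hM he (mem_cls.mp hθ).1 φ)
    exact mul_dvd_mul (by rw [wI_symm hM]; exact h1) h1
  have h3 := (mul_dvd_mul_iff_left (Int.natCast_ne_zero.mpr hM.1.ne_zero)).mp h2
  exact (wI_succ_dvd_iff hM he hφ hφ).mp (by rw [h0, zero_add, pow_one]; exact h3) h0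

/-- The form of a class is at least the rank on its image. -/
theorem le_normSq_image {s : ℕ} (hs : s < p ^ a) (y : IrrCharacter H → ℤ) (m : IrrCharacter H → ℤ)
    (hy : ∀ θ ∈ cls e j s, y θ = ∑ η ∈ bset e, wI p e θ η * m η) (hne : ∃ θ ∈ cls e j s, y θ ≠ 0) :
    (p : ℤ) * blockRank p e ≤ ∑ θ ∈ cls e j s, y θ ^ 2 := by
  classical
  set W : Matrix ↥(cls e j s) ↥(cls e j s) ℤ := Matrix.of fun i k => wI p e i.1 k.1 with hW
  have hsymm : W.transpose = W := by
    ext i k; exact wI_symm hM _ _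
  have hsq : W * W = (p : ℤ) • W := by
    ext i k
    simp only [hW, Matrix.mul_apply, Matrix.of_apply, Matrix.smul_apply, smul_eq_mul]
    rw [Finset.sum_coe_sort (cls e j s) fun θ => wI p e i.1 θ * wI p e θ k.1]
    exact sum_cls hM he hzc hza hω hj hz hd (mem_cls.mp i.2).1 (mem_cls.mp k.2).1 hs
  have hpp : (p : ℤ) ≠ 0 := Int.natCast_ne_zero.mpr hM.1.ne_zero
  have htr : W.trace = (p : ℤ) * (blockRank p e : ℤ) := by
    simp only [Matrix.trace, Matrix.diag, hW, Matrix.of_apply]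
    rw [Finset.sum_coe_sort (cls e j s) fun θ => wI p e θ θ]
    have h1 : ∑ η ∈ bset e, ∑ θ ∈ cls e j s, wI p e η θ * wI p e θ η =
        ∑ θ ∈ cls e j s, (p : ℤ) ^ blockDefect p e * wI p e θ θ := by
      rw [Finset.sum_comm]
      refine Finset.sum_congr rfl fun θ hθ => ?_
      rw [← sum_wI_sq hM he (mem_cls.mp hθ).1]
      exact Finset.sum_congr rfl fun η _ => by rw [wI_symm hM η θ, sq]
    rw [Finset.sum_congr rfl fun η hη => sum_cls hM he hzc hza hω hj hz hd (mem_bset.mp hη) (mem_bset.mp hη) hs,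
      ← Finset.mul_sum, ← Finset.mul_sum, ← pow_mul_blockRank hM he] at h1
    refine mul_left_cancel₀ (pow_ne_zero (blockDefect p e) hpp) ?_
    rw [← h1]
    ring
  obtain ⟨θ0, hθ0, h00⟩ := exists_height_zero_cls hM he hzc hza hω hj hz hd hs
  have hθ0e := (mem_cls.mp hθ0).1
  have hunit : ¬ (p : ℤ) ∣ wI p e θ0 θ0 := fun hdvd =>
    (wI_succ_dvd_iff hM he hθ0e hθ0e).mp (by rw [h00, zero_add, pow_one]; exact hdvd) h00
  obtain ⟨c, t, hc⟩ : ∃ c t : ℤ, wI p e θ0 θ0 * c = 1 + (p : ℤ) * t := by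
    obtain ⟨u, v, huv⟩ := (Nat.prime_iff_prime_int.mp hM.1).coprime_iff_not_dvd.mpr hunit
    exact ⟨v, -u, by linarith⟩
  have hcong : ∀ θ η, θ ∈ e → η ∈ e →
      (p : ℤ) ∣ wI p e θ η - wI p e θ θ0 * c * wI p e θ0 η := by
    intro θ η hθ hη
    obtain ⟨d, hd'⟩ := dvd_minor hM he hzc hza hω hj hz (θ := η) (θ' := θ0) hθ hθ0e
    exact ⟨d * c - wI p e θ η * t, by linear_combination c * hd' - wI p e θ η * hc⟩
  have hoff : ∀ i, ∃ k, k ≠ i ∧ W i k ≠ 0 := by
    intro i
    by_cases hi : blockHeight p e (i.1 : H → ℂ) = 0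
    · by_contra hno
      push Not at hno
      have h1 := congrFun (congrFun hsq i) i
      rw [Matrix.mul_apply, Finset.sum_eq_single i (fun k _ hk => by rw [hno k hk, zero_mul])
        (fun h => absurd (Finset.mem_univ _) h), Matrix.smul_apply, smul_eq_mul] at h1
      have hne : W i i ≠ 0 := (wI_self_pos hM he (mem_cls.mp i.2).1).ne'
      have h2 : W i i = (p : ℤ) := mul_right_cancel₀ hne h1
      refine (wI_succ_dvd_iff hM he (mem_cls.mp i.2).1 (mem_cls.mp i.2).1).mp ?_ hi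
      rw [hi, zero_add, pow_one, show wI p e i.1 i.1 = (p : ℤ) from h2]
    · exact ⟨⟨θ0, hθ0⟩, fun h => hi (by rw [← h]; exact h00),
        wI_ne_zero hM he (mem_cls.mp i.2).1 hθ0e h00⟩
  set yv : ↥(cls e j s) → ℤ := fun i => y i.1 with hyv
  have hWy : W.mulVec yv = (p : ℤ) • yv := by
    funext i
    simp only [Matrix.mulVec, dotProduct, hW, Matrix.of_apply, hyv, Pi.smul_apply, smul_eq_mul]
    rw [Finset.sum_coe_sort (cls e j s) fun θ => wI p e i.1 θ * y θ, hy _ i.2,
      Finset.sum_congr rfl fun θ hθ => by rw [hy θ hθ, Finset.mul_sum], Finset.sum_comm, Finset.mul_sum]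
    refine Finset.sum_congr rfl fun η hη => ?_
    rw [← mul_assoc, ← sum_cls hM he hzc hza hω hj hz hd (mem_cls.mp i.2).1 (mem_bset.mp hη) hs, Finset.sum_mul]
    exact Finset.sum_congr rfl fun θ _ => by ring
  set T := c * ∑ η ∈ bset e, wI p e θ0 η * m η with hT
  have hdiv : ∀ i : ↥(cls e j s), (p : ℤ) ∣ y i.1 - wI p e i.1 θ0 * T := by
    intro i
    rw [hy _ i.2, hT, Finset.mul_sum, Finset.mul_sum, ← Finset.sum_sub_distrib]
    refine Finset.dvd_sum fun η hη => ?_
    rw [show wI p e i.1 η * m η - wI p e i.1 θ0 * (c * (wI p e θ0 η * m η)) =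
      (wI p e i.1 η - wI p e i.1 θ0 * c * wI p e θ0 η) * m η by ring]
    exact Dvd.dvd.mul_right (hcong _ _ (mem_cls.mp i.2).1 (mem_bset.mp hη)) _
  choose y' hy' using hdiv
  set col : ↥(cls e j s) → ℤ := W.mulVec (Pi.single ⟨θ0, hθ0⟩ T) with hcol
  have hcol' : ∀ i, col i = wI p e i.1 θ0 * T := fun i => by
    rw [hcol, Matrix.mulVec_single]
    simp [hW]
  have hyeq : yv = col + (p : ℤ) • y' := by
    funext i
    simp only [hyv, Pi.add_apply, Pi.smul_apply, smul_eq_mul, hcol', ← hy']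
    ring
  have hWcol : W.mulVec col = (p : ℤ) • col := by
    rw [hcol, Matrix.mulVec_mulVec, hsq, Matrix.smul_mulVec]
  have hWy' : W.mulVec y' = (p : ℤ) • y' := by
    have h1 := hWy
    rw [hyeq, Matrix.mulVec_add, hWcol, Matrix.mulVec_smul, smul_add, add_right_inj] at h1
    funext i
    exact mul_left_cancel₀ hpp (congrFun h1 i)
  set v := Pi.single (⟨θ0, hθ0⟩ : ↥(cls e j s)) T + y' with hv
  have hWv : W.mulVec v = yv := by rw [hv, Matrix.mulVec_add, hWy', hyeq]
  have hle := Lattice.le_quadratic hM.1 W hsymm hsq htr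
    ⟨fun i => wI p e i.1 θ0 * c, fun k => wI p e θ0 k.1,
      fun i k => hcong _ _ (mem_cls.mp i.2).1 (mem_cls.mp k.2).1⟩ hoff v (by
        rw [hWv]
        obtain ⟨θ, hθ, hne⟩ := hne
        exact fun h => hne (congrFun h ⟨θ, hθ⟩))
  have hyy : ∑ θ ∈ cls e j s, y θ ^ 2 = (p : ℤ) * dotProduct v (W.mulVec v) := by
    rw [← Finset.sum_coe_sort (cls e j s) fun θ => y θ ^ 2]
    calc ∑ i : ↥(cls e j s), y i.1 ^ 2 = dotProduct (W.mulVec v) (W.mulVec v) := by
          rw [hWv]; simp [dotProduct, hyv, sq]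
      _ = _ := by
          rw [Matrix.dotProduct_mulVec, ← Matrix.mulVec_transpose, hsymm, Matrix.mulVec_mulVec, hsq,
            Matrix.smul_mulVec, smul_dotProduct, dotProduct_comm, smul_eq_mul]
  rw [hyy]
  exact mul_le_mul_of_nonneg_left hle (Int.natCast_nonneg p)

end

end Cfsg.Agent.Char.CentralClass
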