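import Cfsg.Agent.Lib.Char.BlockLink
import Cfsg.Agent.Lib.Char.NormalP
import Cfsg.Agent.Lib.Char.Defect
import Cfsg.Agent.Lib.Char.Height
import Cfsg.Agent.Lib.Char.DegreeDvd
import Cfsg.Agent.Lib.Char.Clifford
import Cfsg.Agent.S0165

/-!
# Blocks whose defect group `P` satisfies `G = P C(P)`
-/

set_option autoImplicit false
set_option linter.unusedSectionVars false
set_option linter.style.haveILetI false

namespace Cfsg.Agent.Char

open Cfsg
open scoped ComplexConjugate

universe u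

variable {G : Type u} [Group G] [Fintype G] {M : Ideal AlgInt} {p : ℕ} {P : Subgroup G}

/-- The `p`-part of an element. -/
noncomputable def pptElem (p : ℕ) (g : G) : G := g * (preg p g)⁻¹

theorem pptElem_mul_preg (g : G) : pptElem p g * preg p g = g := inv_mul_cancel_right g _

theorem ppt_of_mul (hp : p.Prime) {x y : G} (hc : Commute x y) (hk : ∃ k, orderOf x = p ^ k)
    (hy : ¬ p ∣ orderOf y) : pptElem p (x * y) = x := by
  rw [pptElem, preg_of_mul hp hc hk hy, mul_inv_cancel_right]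

theorem pptElem_conj (hp : p.Prime) (g t : G) : pptElem p (t * g * t⁻¹) = t * pptElem p g * t⁻¹ := by
  rw [pptElem, pptElem, preg_conj hp]
  group

theorem normal_of_sup (hG : P ⊔ Subgroup.centralizer (P : Set G) = ⊤) : P.Normal :=
  Subgroup.normalizer_eq_top_iff.mp (top_le_iff.mp (hG ▸ sup_le Subgroup.le_normalizer
    (Subgroup.centralizer_le_normalizer _)))

theorem exists_mul_centralizer (hG : P ⊔ Subgroup.centralizer (P : Set G) = ⊤) (g : G) :
    ∃ u ∈ P, ∃ c ∈ Subgroup.centralizer (P : Set G), Commute u c ∧ u * c = g := by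
  haveI := normal_of_sup hG
  have hg : g ∈ P ⊔ Subgroup.centralizer (P : Set G) := hG ▸ Subgroup.mem_top g
  obtain ⟨u, hu, c, hc, rfl⟩ := Subgroup.mem_sup_of_normal_left.mp hg
  exact ⟨u, hu, c, hc, Subgroup.mem_centralizer_iff.mp hc u hu, rfl⟩

theorem ppow_of_mem [Fact p.Prime] (hP : IsPGroup p P) {u : G} (hu : u ∈ P) :
    ∃ k, orderOf u = p ^ k := by
  obtain ⟨k, hk⟩ := IsPGroup.iff_orderOf.mp hP ⟨u, hu⟩
  exact ⟨k, by rw [← hk, Subgroup.orderOf_mk]⟩

theorem regular_mem_centralizer_defect [Fact p.Prime] (hp : p.Prime) (hP : IsPGroup p P)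
    (hG : P ⊔ Subgroup.centralizer (P : Set G) = ⊤) {r : G} (hr : ¬ p ∣ orderOf r) :
    r ∈ Subgroup.centralizer (P : Set G) := by
  obtain ⟨u, hu, c, hc, huc, rfl⟩ := exists_mul_centralizer hG r
  obtain ⟨k, hk⟩ := ppow_of_mem hP hu
  have h1 : (u * c) ^ p ^ k ∈ Subgroup.centralizer (P : Set G) := by
    rw [huc.mul_pow, ← hk, pow_orderOf_eq_one, one_mul]
    exact pow_mem hc _
  obtain ⟨m, hm⟩ := exists_pow_eq_self_of_coprime
    (Nat.Coprime.pow_left k (hp.coprime_iff_not_dvd.mpr hr))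
  rw [← hm]
  exact pow_mem h1 m

theorem mul_regular_data [Fact p.Prime] (hp : p.Prime) (hP : IsPGroup p P)
    (hG : P ⊔ Subgroup.centralizer (P : Set G) = ⊤) {u r : G} (hu : u ∈ P) (hr : ¬ p ∣ orderOf r) :
    pptElem p (u * r) = u ∧ preg p (u * r) = r := by
  have hc : Commute u r := Subgroup.mem_centralizer_iff.mp (regular_mem_centralizer_defect hp hP hG hr) u hu
  exact ⟨ppt_of_mul hp hc (ppow_of_mem hP hu) hr, preg_of_mul hp hc (ppow_of_mem hP hu) hr⟩

open scoped Classical in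
/-- Summation over the elements with `p`-part in `P`. -/
theorem sum_ppart_mem [Fact p.Prime] (hp : p.Prime) (hP : IsPGroup p P) [Fintype P]
    (hG : P ⊔ Subgroup.centralizer (P : Set G) = ⊤) (f : G → ℂ)
    (hf : ∀ g, pptElem p g ∉ P → f g = 0) :
    ∑ g : G, f g = ∑ u : P, ∑ r : G with ¬ p ∣ orderOf r, f (u * r) := by
  rw [← Finset.sum_product']
  rw [← Finset.sum_filter_of_ne (p := fun g => pptElem p g ∈ P)
    (fun g _ hne => by by_contra h; exact hne (hf g h))]
  refine (Finset.sum_bij' (fun x _ => (x.1 : G) * x.2)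
    (fun g hg => (⟨pptElem p g, (Finset.mem_filter.mp hg).2⟩, preg p g)) ?_ ?_ ?_ ?_ ?_).symm
  · intro x hx
    have hr := (Finset.mem_filter.mp (Finset.mem_product.mp hx).2).2
    refine Finset.mem_filter.mpr ⟨Finset.mem_univ _, ?_⟩
    rw [(mul_regular_data hp hP hG x.1.2 hr).1]
    exact x.1.2
  · intro g hg
    exact Finset.mem_product.mpr
      ⟨Finset.mem_univ _, Finset.mem_filter.mpr ⟨Finset.mem_univ _, (preg_spec hp g).2.1⟩⟩
  · intro x hx
    have hr := (Finset.mem_filter.mp (Finset.mem_product.mp hx).2).2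
    refine Prod.ext (Subtype.ext ?_) ?_
    · exact (mul_regular_data hp hP hG x.1.2 hr).1
    · exact (mul_regular_data hp hP hG x.1.2 hr).2
  · intro g hg
    exact pptElem_mul_preg g
  · intro x hx
    rfl

/-- A character of `G` restricted to `P × C(P)`. -/
theorem exists_over [Fintype P] (hG : P ⊔ Subgroup.centralizer (P : Set G) = ⊤)
    (χ : IrrCharacter G) : ∃ ξ : IrrCharacter P, ∀ c ∈ Subgroup.centralizer (P : Set G),
      ∃ a : ℂ, IsIntegral ℤ a ∧
        ∀ u : P, (χ : G → ℂ) ((u : G) * c) = (ξ : P → ℂ) u * a := by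
  classical
  haveI := normal_of_sup hG
  have hχc := isClassFunction_character (irr_isCharacter χ.2)
  have hres : IsCharacter P (fun n : P => (χ : G → ℂ) n) :=
    isCharacter_comp P.subtype (irr_isCharacter χ.2)
  obtain ⟨ξ, hξ⟩ : ∃ ξ : IrrCharacter P,
      classInner (fun n : P => (χ : G → ℂ) n) (ξ : P → ℂ) ≠ 0 := by
    by_contra h
    push Not at h
    have h1 := congrFun (classFun_expansion (isClassFunction_character hres)) 1
    simp only [h, zero_smul, Finset.sum_const_zero, Pi.zero_apply, Subgroup.coe_one] at h1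
    exact irr_one_ne_zero χ.2 h1
  have huniq : ∀ ψ : IrrCharacter P, ψ ≠ ξ →
      classInner (fun n : P => (χ : G → ℂ) n) (ψ : P → ℂ) = 0 := by
    intro ψ hne
    by_contra h
    obtain ⟨g, hg⟩ := mem_cliffOrbit.mp (mem_cliffOrbit_of_constituent hξ h)
    refine hne (hg.symm.trans (Subtype.ext (funext fun n => ?_)))
    rw [irrComp_apply]
    obtain ⟨u, hu, c, hc, -, rfl⟩ := exists_mul_centralizer hG g
    have e : MulAut.conjNormal (u * c) n = (⟨u, hu⟩ : P) * n * (⟨u, hu⟩ : P)⁻¹ := by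
      refine Subtype.ext ?_
      rw [MulAut.conjNormal_apply]
      simp only [Subgroup.coe_mul, Subgroup.coe_inv]
      have := Subgroup.mem_centralizer_iff.mp hc (n : G) n.2
      calc u * c * (n : G) * (u * c)⁻¹ = u * (c * (n : G)) * c⁻¹ * u⁻¹ := by group
        _ = u * ((n : G) * c) * c⁻¹ * u⁻¹ := by rw [this]
        _ = _ := by group
    rw [e, isClassFunction_character (irr_isCharacter ξ.2)]
  refine ⟨ξ, fun c hc => ?_⟩
  have hcom : ∀ u : P, ∀ z : Subgroup.zpowers c, Commute (u : G) (z : G) := fun u z => by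
    obtain ⟨k, hk⟩ := Subgroup.mem_zpowers_iff.mp z.2
    rw [← hk]
    exact (show Commute (u : G) c from Subgroup.mem_centralizer_iff.mp hc u u.2).zpow_right k
  haveI := Fintype.ofFinite (Subgroup.zpowers c)
  let π : P × Subgroup.zpowers c →* G :=
    { toFun := fun x => (x.1 : G) * (x.2 : G)
      map_one' := by simp
      map_mul' := fun x y => by
        simp only [Prod.fst_mul, Prod.snd_mul, Subgroup.coe_mul]
        exact (hcom y.1 x.2).mul_mul_mul_comm _ _ }
  have hπ := isCharacter_comp π (irr_isCharacter χ.2)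
  have hnat : ∀ (ψ : IrrCharacter P) (μ : IrrCharacter (Subgroup.zpowers c)), ∃ n : ℕ,
      classInner (fun z : Subgroup.zpowers c =>
        classInner (fun u : P => (χ : G → ℂ) ((u : G) * z)) (ψ : P → ℂ))
        (μ : Subgroup.zpowers c → ℂ) = n := by
    intro ψ μ
    obtain ⟨n, hn⟩ := classInner_natCast hπ (isCharacter_mul
      (isCharacter_comp (MonoidHom.fst P (Subgroup.zpowers c)) (irr_isCharacter ψ.2))
      (isCharacter_comp (MonoidHom.snd P (Subgroup.zpowers c)) (irr_isCharacter μ.2)))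
    refine ⟨n, Eq.trans ?_ hn⟩
    simp only [classInner, Nat.card_prod, Nat.cast_mul, mul_inv, Fintype.sum_prod_type,
      Finset.mul_sum, Finset.sum_mul, Pi.mul_apply, Function.comp_apply, map_mul,
      MonoidHom.coe_fst, MonoidHom.coe_snd]
    rw [Finset.sum_comm]
    refine Finset.sum_congr rfl fun u _ => Finset.sum_congr rfl fun z _ => ?_
    show _ = _ * _ * ((χ : G → ℂ) ((u : G) * (z : G)) * _)
    ring
  choose n hn using hnat
  have hcl : ∀ z : Subgroup.zpowers c,
      IsClassFunction P (fun u : P => (χ : G → ℂ) ((u : G) * z)) := by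
    intro z a k
    simp only [Subgroup.coe_mul, Subgroup.coe_inv]
    have e : (k : G) * a * (k : G)⁻¹ * z = (k : G) * ((a : G) * z) * (k : G)⁻¹ := by
      rw [mul_assoc _ (k : G)⁻¹, ((hcom k z).inv_left).eq]
      group
    rw [e, hχc]
  have hexp : ∀ (ψ : IrrCharacter P) (z : Subgroup.zpowers c),
      classInner (fun u : P => (χ : G → ℂ) ((u : G) * z)) (ψ : P → ℂ) =
        ∑ μ : IrrCharacter (Subgroup.zpowers c), (n ψ μ : ℂ) * (μ : Subgroup.zpowers c → ℂ) z := by
    intro ψ z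
    have hab : IsClassFunction (Subgroup.zpowers c) (fun z : Subgroup.zpowers c =>
        classInner (fun u : P => (χ : G → ℂ) ((u : G) * z)) (ψ : P → ℂ)) := by
      intro a k
      rw [mul_comm' k a, mul_inv_cancel_right]
    have h := congrFun (classFun_expansion hab) z
    simp only [hn, Finset.sum_apply, Pi.smul_apply, smul_eq_mul] at h
    exact h
  have hzero : ∀ ψ : IrrCharacter P, ψ ≠ ξ → ∀ μ, n ψ μ = 0 := by
    intro ψ hne
    have h := hexp ψ 1
    simp only [Subgroup.coe_one, mul_one, huniq ψ hne] at h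
    have h' : ∑ μ : IrrCharacter (Subgroup.zpowers c),
        n ψ μ * deg (μ : Subgroup.zpowers c → ℂ) = 0 := by
      rw [← Nat.cast_inj (R := ℂ), Nat.cast_zero, h, Nat.cast_sum]
      refine Finset.sum_congr rfl fun μ _ => ?_
      rw [Nat.cast_mul, char_one_eq_deg (irr_isCharacter μ.2)]
    intro μ
    have := (Finset.sum_eq_zero_iff.mp h') μ (Finset.mem_univ μ)
    exact (Nat.mul_eq_zero.mp this).resolve_right (deg_pos μ.2).ne'
  set zc : Subgroup.zpowers c := ⟨c, Subgroup.mem_zpowers c⟩ with hzc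
  refine ⟨classInner (fun u : P => (χ : G → ℂ) ((u : G) * c)) (ξ : P → ℂ), ?_, fun u => ?_⟩
  · have e := hexp ξ zc
    simp only [hzc] at e
    rw [e]
    exact IsIntegral.sum _ fun μ _ => IsIntegral.mul (by exact isIntegral_natCast _)
      (char_isIntegral (irr_isCharacter μ.2) _)
  · have h := congrFun (classFun_expansion (hcl zc)) u
    simp only [Finset.sum_apply, Pi.smul_apply, smul_eq_mul, hzc] at h
    rw [h, Finset.sum_eq_single ξ ?_ (fun h => absurd (Finset.mem_univ _) h), mul_comm]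
    intro ψ _ hne
    have e := hexp ψ zc
    simp only [hzc] at e
    rw [e, Finset.sum_eq_zero (fun μ _ => by rw [hzero ψ hne μ, Nat.cast_zero, zero_mul]),
      zero_mul]

/-- A character of `G / P` of defect zero. -/
structure CDData (p : ℕ) (P : Subgroup G) (θ : IrrCharacter G) : Prop where
  prime : p.Prime
  pgroup : IsPGroup p P
  sup : P ⊔ Subgroup.centralizer (P : Set G) = ⊤
  triv : ∀ u ∈ P, (θ : G → ℂ) u = (θ : G → ℂ) 1
  deg : (deg (θ : G → ℂ)).factorization p = P.index.factorization p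

variable {θ : IrrCharacter G} [Fact p.Prime]

theorem CDData.mul_eq (h : CDData p P θ) {u : G} (hu : u ∈ P) (r : G) :
    (θ : G → ℂ) (u * r) = (θ : G → ℂ) r :=
  char_mul_of_ker (irr_isCharacter θ.2) (h.triv u hu) r

theorem CDData.vanish (h : CDData p P θ) {g : G} (hg : pptElem p g ∉ P) : (θ : G → ℂ) g = 0 := by
  classical
  haveI := normal_of_sup h.sup
  obtain ⟨φ, hφ⟩ := exists_quotient_char P θ h.triv
  obtain ⟨-, k, ρ, hρ, hρc⟩ : True ∧ IsIrrCharacter (G ⧸ P) (φ : G ⧸ P → ℂ) := ⟨trivial, φ.2⟩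
  haveI := hρ
  obtain ⟨⟨y, hxy, hcm, ⟨j, hj⟩, hy⟩, -, -⟩ := preg_spec h.prime g
  rw [← hφ g, ← hρc]
  have hk : Cfsg.Agent.Char.deg (θ : G → ℂ) = Module.finrank ℂ (Fin k → ℂ) := by
    have h1 := char_one_eq_deg (irr_isCharacter θ.2)
    rw [← hφ 1, ← hρc, QuotientGroup.mk_one, Representation.char_one] at h1
    exact_mod_cast h1.symm
  have hcard : Nat.card (G ⧸ P) = P.index := (Subgroup.index_eq_card P).symm
  refine Cfsg.Agent.S0165.result ρ p (P.index.factorization p) h.prime ?_ ?_ ?_ _ ?_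
  · rw [hcard]; exact Nat.ordProj_dvd _ _
  · rw [hcard]
    exact Nat.pow_succ_factorization_not_dvd Subgroup.index_ne_zero_of_finite h.prime
  · rw [← hk, ← h.deg]; exact Nat.ordProj_dvd _ _
  · set x := pptElem p g with hx
    have hco : Commute (QuotientGroup.mk' P x) (QuotientGroup.mk' P y) := hcm.map _
    have hcop : (orderOf (QuotientGroup.mk' P x)).Coprime (orderOf (QuotientGroup.mk' P y)) := by
      refine Nat.Coprime.coprime_dvd_left (orderOf_map_dvd _ x) ?_
      refine Nat.Coprime.coprime_dvd_right (orderOf_map_dvd _ y) ?_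
      rw [show x = g * (preg p g)⁻¹ from rfl, hj]
      exact Nat.Coprime.pow_left _ (h.prime.coprime_iff_not_dvd.mpr hy)
    have hg' : (g : G ⧸ P) = QuotientGroup.mk' P x * QuotientGroup.mk' P y := by
      rw [← map_mul]; exact (congrArg (QuotientGroup.mk' P) hxy).symm
    rw [hg', hco.orderOf_mul_eq_mul_orderOf_of_coprime hcop]
    refine dvd_mul_of_dvd_left ?_ _
    have hd : orderOf (QuotientGroup.mk' P x) ∣ p ^ j := hj ▸ orderOf_map_dvd _ x
    obtain ⟨i, -, hi⟩ := (Nat.dvd_prime_pow h.prime).mp hd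
    rw [hi]
    refine dvd_pow_self p fun h0 => hg ?_
    rw [h0, pow_zero, orderOf_eq_one_iff] at hi
    exact (QuotientGroup.eq_one_iff _).mp hi

/-- The norm of `θ` counted on the regular elements. -/
theorem CDData.sum_norm (h : CDData p P θ) :
    (Nat.card P : ℂ) * ∑ r : G with ¬ p ∣ orderOf r, (θ : G → ℂ) r * conj ((θ : G → ℂ) r) =
      Nat.card G := by
  classical
  haveI := Fintype.ofFinite P
  have h1 := irr_orth θ.2 θ.2
  rw [if_pos rfl, classInner, inv_mul_eq_one₀ (Nat.cast_ne_zero.mpr Nat.card_pos.ne')] at h1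
  rw [h1, sum_ppart_mem h.prime h.pgroup h.sup _ (fun g hg => by rw [h.vanish hg, zero_mul])]
  rw [Finset.sum_congr rfl fun (u : P) _ => Finset.sum_congr rfl fun r _ => by rw [h.mul_eq u.2 r],
    Finset.sum_const, Finset.card_univ, nsmul_eq_mul, Nat.card_eq_fintype_card]

open scoped Classical in
/-- The character `θ_ξ`. -/
noncomputable def thetaXi (p : ℕ) (θ : IrrCharacter G) (ξ : P → ℂ) : G → ℂ :=
  fun g => if hu : pptElem p g ∈ P then ξ ⟨pptElem p g, hu⟩ * (θ : G → ℂ) g else 0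

theorem CDData.thetaXi_mul (h : CDData p P θ) (ξ : P → ℂ) (u : P) {r : G}
    (hr : ¬ p ∣ orderOf r) :
    thetaXi p θ ξ ((u : G) * r) = ξ u * (θ : G → ℂ) r := by
  have hu := (mul_regular_data h.prime h.pgroup h.sup u.2 hr).1
  rw [thetaXi, dif_pos (by rw [hu]; exact u.2), h.mul_eq u.2 r]
  congr 2
  exact Subtype.ext hu

theorem CDData.thetaXi_zero (h : CDData p P θ) (ξ : P → ℂ) {g : G} (hg : pptElem p g ∉ P) :
    thetaXi p θ ξ g = 0 := by rw [thetaXi, dif_neg hg]

theorem CDData.isClassFunction_thetaXi (h : CDData p P θ) {ξ : P → ℂ}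
    (hξ : IsClassFunction P ξ) : IsClassFunction G (thetaXi p θ ξ) := by
  intro g t
  haveI := normal_of_sup h.sup
  have hθ := isClassFunction_character (irr_isCharacter θ.2) g t
  by_cases hg : pptElem p g ∈ P
  · have hg' : pptElem p (t * g * t⁻¹) ∈ P := by
      rw [pptElem_conj h.prime]
      exact (normal_of_sup h.sup).conj_mem _ hg t
    rw [thetaXi, thetaXi, dif_pos hg', dif_pos hg, hθ]
    congr 1
    obtain ⟨u, hu, c, hc, -, rfl⟩ := exists_mul_centralizer h.sup t
    rw [← hξ ⟨pptElem p g, hg⟩ ⟨u, hu⟩]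
    congr 1
    refine Subtype.ext ?_
    show pptElem p (u * c * g * (u * c)⁻¹) = u * pptElem p g * u⁻¹
    rw [pptElem_conj h.prime]
    have := Subgroup.mem_centralizer_iff.mp hc _ hg
    calc u * c * pptElem p g * (u * c)⁻¹ = u * (c * pptElem p g) * c⁻¹ * u⁻¹ := by group
      _ = u * (pptElem p g * c) * c⁻¹ * u⁻¹ := by rw [this]
      _ = _ := by group
  · have hg' : pptElem p (t * g * t⁻¹) ∉ P := fun hh => hg (by
      rw [pptElem_conj h.prime] at hh
      have h2 := (normal_of_sup h.sup).conj_mem _ hh t⁻¹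
      simpa [mul_assoc] using h2)
    rw [h.thetaXi_zero ξ hg, h.thetaXi_zero ξ hg']

theorem CDData.thetaXi_norm (h : CDData p P θ) (ξ : IrrCharacter P) :
    classInner (thetaXi p θ (ξ : P → ℂ)) (thetaXi p θ (ξ : P → ℂ)) = 1 := by
  classical
  haveI := Fintype.ofFinite P
  rw [classInner, sum_ppart_mem h.prime h.pgroup h.sup _
    (fun g hg => by rw [h.thetaXi_zero _ hg, zero_mul])]
  rw [Finset.sum_congr rfl fun u _ => Finset.sum_congr rfl fun r hr => by
    rw [h.thetaXi_mul _ u (Finset.mem_filter.mp hr).2, map_mul, mul_mul_mul_comm]]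
  simp only [← Finset.mul_sum, ← Finset.sum_mul]
  have h1 := irr_orth ξ.2 ξ.2
  rw [if_pos rfl, classInner, inv_mul_eq_one₀ (Nat.cast_ne_zero.mpr Nat.card_pos.ne')] at h1
  rw [← h1, h.sum_norm, inv_mul_cancel₀ (Nat.cast_ne_zero.mpr Nat.card_pos.ne')]

theorem CDData.unit_ratio (h : CDData p P θ) (hM : IsPModular p M) :
    MemLocalRing M ((Nat.card P : ℂ) * (θ : G → ℂ) 1 / (Nat.card G : ℂ)) := by
  have hP := pmod_prime hM
  have hne : P.index ≠ 0 := Subgroup.index_ne_zero_of_finite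
  set a := P.index.factorization p with ha
  obtain ⟨m, hm⟩ : p ^ a ∣ Cfsg.Agent.Char.deg (θ : G → ℂ) := by
    rw [ha, ← h.deg]; exact Nat.ordProj_dvd _ _
  obtain ⟨m', hm'⟩ : p ^ a ∣ P.index := Nat.ordProj_dvd _ _
  have hpm : ¬ p ∣ m' := fun hd => Nat.pow_succ_factorization_not_dvd hne h.prime (by
    rw [← ha, pow_succ, hm']
    exact mul_dvd_mul_left _ hd)
  have e : (Nat.card P : ℂ) * (θ : G → ℂ) 1 / (Nat.card G : ℂ) = (m : ℂ) * (m' : ℂ)⁻¹ := by
    have hm0 : (m' : ℂ) ≠ 0 := by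
      rw [Nat.cast_ne_zero]; rintro rfl; exact hpm (dvd_zero p)
    have hp0 : (p : ℂ) ≠ 0 := Nat.cast_ne_zero.mpr h.prime.ne_zero
    have hP0 : (Nat.card P : ℂ) ≠ 0 := Nat.cast_ne_zero.mpr Nat.card_pos.ne'
    rw [char_one_eq_deg (irr_isCharacter θ.2), hm, ← Subgroup.card_mul_index P, hm']
    push_cast
    field_simp
  rw [e]
  exact memLR_mul hP (memLR_natCast hP m) (memLR_inv_natCast hM hpm)

/-- The coefficients of `θ_ξ` are integers, and at most those over `ξ` are nonzero. -/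
theorem CDData.coeff (h : CDData p P θ) (hM : IsPModular p M) (ξ : IrrCharacter P)
    (χ : IrrCharacter G) :
    ∃ z : ℤ, classInner (thetaXi p θ (ξ : P → ℂ)) (χ : G → ℂ) = z ∧
      (einner p (θ : G → ℂ) (χ : G → ℂ) = 0 → z = 0) ∧
      (einner p (θ : G → ℂ) (χ : G → ℂ) ≠ 0 → ∀ η : IrrCharacter P,
        classInner (thetaXi p θ (η : P → ℂ)) (χ : G → ℂ) = 0 ∨ z = 0 ∨ η = ξ) ∧
      (einner p (θ : G → ℂ) (χ : G → ℂ) ≠ 0 → ∃ η : IrrCharacter P,
        classInner (thetaXi p θ (η : P → ℂ)) (χ : G → ℂ) ≠ 0) := by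
  classical
  have hP' := pmod_prime hM
  haveI := Fintype.ofFinite P
  obtain ⟨ξ', hξ'⟩ := exists_over h.sup χ
  have hreg : ∀ r : G, ¬ p ∣ orderOf r → ∃ a : ℂ, IsIntegral ℤ a ∧
      ∀ u : P, (χ : G → ℂ) ((u : G) * r) = (ξ' : P → ℂ) u * a :=
    fun r hr => hξ' r (regular_mem_centralizer_defect h.prime h.pgroup h.sup hr)
  choose a haI ha using hreg
  set d : ℂ := (ξ' : P → ℂ) 1 with hd
  have hd0 : d ≠ 0 := irr_one_ne_zero ξ'.2
  have hval : ∀ r (hr : ¬ p ∣ orderOf r), (χ : G → ℂ) r = d * a r hr := fun r hr => by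
    have := ha r hr 1
    rw [Subgroup.coe_one, one_mul] at this
    exact this
  have hkey : ∀ η : IrrCharacter P, classInner (thetaXi p θ (η : P → ℂ)) (χ : G → ℂ) =
      if η = ξ' then (Nat.card P : ℂ) * einner p (θ : G → ℂ) (χ : G → ℂ) / conj d else 0 := by
    intro η
    have h1 := irr_orth η.2 ξ'.2
    rw [classInner, sum_ppart_mem h.prime h.pgroup h.sup _
      (fun g hg => by rw [h.thetaXi_zero _ hg, zero_mul]),
      Finset.sum_congr rfl fun u _ => Finset.sum_congr rfl
        (g := fun r => ((η : P → ℂ) u * conj ((ξ' : P → ℂ) u)) *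
          ((θ : G → ℂ) r * conj ((χ : G → ℂ) r) / conj d)) fun r hr => by
        have hr' := (Finset.mem_filter.mp hr).2
        rw [h.thetaXi_mul _ u hr', ha r hr' u, hval r hr', map_mul, map_mul]
        have : conj d ≠ 0 := (map_ne_zero _).mpr hd0
        field_simp]
    simp only [← Finset.mul_sum, ← Finset.sum_mul]
    have he : (Nat.card G : ℂ)⁻¹ * ∑ r : G with ¬ p ∣ orderOf r,
        (θ : G → ℂ) r * conj ((χ : G → ℂ) r) = einner p (θ : G → ℂ) (χ : G → ℂ) := by
      rw [einner, classInner, Finset.sum_filter]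
      congr 1
      refine Finset.sum_congr rfl fun r _ => ?_
      simp only [Pi.mul_apply, regInd]
      split_ifs <;> simp_all
    rw [classInner] at h1
    rw [← Finset.sum_div]
    by_cases hη : η = ξ'
    · rw [if_pos hη]
      rw [if_pos (Subtype.coe_inj.mpr hη), inv_mul_eq_one₀ (Nat.cast_ne_zero.mpr Nat.card_pos.ne')]
        at h1
      rw [← h1, ← he]
      ring
    · rw [if_neg hη]
      rw [if_neg (fun e => hη (Subtype.coe_inj.mp e)), mul_eq_zero] at h1
      rw [(h1.resolve_left (inv_ne_zero (Nat.cast_ne_zero.mpr Nat.card_pos.ne'))), zero_mul,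
        mul_zero]
  have hz : ∃ z : ℤ, classInner (thetaXi p θ (ξ : P → ℂ)) (χ : G → ℂ) = z := by
    rw [hkey ξ]
    split_ifs
    swap
    · exact ⟨0, by simp⟩
    set c := (Nat.card P : ℂ) * einner p (θ : G → ℂ) (χ : G → ℂ) / conj d with hc
    have hdn : d = (Cfsg.Agent.Char.deg (ξ' : P → ℂ) : ℂ) := char_one_eq_deg (irr_isCharacter ξ'.2)
    have hdc : conj d = d := by rw [hdn, map_natCast]
    obtain ⟨zz, hzz⟩ := exists_int_pow_mul_einner (p := p) h.prime (irr_isCharacter θ.2)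
      (irr_isCharacter χ.2)
    obtain ⟨n, hn⟩ := IsPGroup.iff_card.mp h.pgroup
    obtain ⟨j, -, hj⟩ := (Nat.dvd_prime_pow h.prime).mp (hn ▸ deg_dvd_card ξ'.2)
    set N := (Nat.card G).factorization p
    have hcz : c * ((p ^ (j + N) : ℕ) : ℂ) = (((Nat.card P : ℤ) * zz : ℤ) : ℂ) := by
      rw [hc, hdc, hdn, hj]
      push_cast
      rw [← hzz, pow_add]
      have : (p : ℂ) ≠ 0 := Nat.cast_ne_zero.mpr h.prime.ne_zero
      field_simp
    set q : ℚ := ((Nat.card P : ℤ) * zz : ℤ) / ((p ^ (j + N) : ℕ) : ℚ) with hq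
    have hpn : ((p ^ (j + N) : ℕ) : ℂ) ≠ 0 :=
      Nat.cast_ne_zero.mpr (pow_ne_zero _ h.prime.ne_zero)
    have hcq : c = (q : ℂ) := by
      rw [hq]
      push_cast
      rw [eq_div_iff (by exact_mod_cast hpn)]
      push_cast at hcz
      exact hcz
    have hLR : MemLocalRing M c := by
      set f : G → ℂ := fun g => conj ((χ : G → ℂ) g) / conj d * regInd p g with hf
      have hfc : IsClassFunction G f := fun g t => by
        simp only [hf, isClassFunction_character (irr_isCharacter χ.2) g t,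
          isClassFunction_regInd p g t]
      have hfv : ∀ g, MemLocalRing M (f g) := fun g => by
        simp only [hf, regInd]
        split_ifs with hg
        · rw [mul_zero]; exact memLR_zero hP'
        · rw [mul_one, hval g hg, map_mul, mul_div_cancel_left₀ _ ((map_ne_zero _).mpr hd0)]
          exact memLocalRing_of_isIntegral hP'.ne_top
            ((haI g hg).map (starRingEnd ℂ).toIntAlgHom)
      have e : c = ((Nat.card P : ℂ) * (θ : G → ℂ) 1 / (Nat.card G : ℂ)) *
          lam (θ : G → ℂ) f := by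
        have : ∑ x : G, f x * (θ : G → ℂ) x =
            (Nat.card G : ℂ) * einner p (θ : G → ℂ) (χ : G → ℂ) / conj d := by
          rw [einner, classInner, mul_inv_cancel_left₀ (Nat.cast_ne_zero.mpr Nat.card_pos.ne'),
            Finset.sum_div]
          refine Finset.sum_congr rfl fun x _ => ?_
          simp only [hf, Pi.mul_apply]
          ring
        rw [hc, lam, this]
        have h1 : (θ : G → ℂ) 1 ≠ 0 := irr_one_ne_zero θ.2
        have h2 : (Nat.card G : ℂ) ≠ 0 := Nat.cast_ne_zero.mpr Nat.card_pos.ne'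
        field_simp
      rw [e]
      exact memLR_mul hP' (h.unit_ratio hM) (memLR_lam hP' θ.2 hfc hfv)
    rw [hcq] at hLR ⊢
    have hden := rat_den_not_dvd hM hLR
    have hdvd : q.den ∣ p ^ (j + N) := by
      have h2 : (q.den : ℤ) ∣ ((p ^ (j + N) : ℕ) : ℤ) := by
        rw [hq, ← Int.cast_natCast (R := ℚ), ← Rat.divInt_eq_div]
        exact Rat.den_dvd _ _
      exact_mod_cast h2
    obtain ⟨i, -, hi⟩ := (Nat.dvd_prime_pow h.prime).mp hdvd
    have hi0 : i = 0 := by
      by_contra hne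
      exact hden (hi ▸ dvd_pow_self p hne)
    rw [hi0, pow_zero] at hi
    refine ⟨q.num, ?_⟩
    conv_lhs => rw [← Rat.num_div_den q, hi]
    simp
  obtain ⟨z, hz⟩ := hz
  refine ⟨z, hz, fun h0 => ?_, fun hne η => ?_, fun hne => ⟨ξ', ?_⟩⟩
  · rw [hkey ξ, h0] at hz
    have : (z : ℂ) = 0 := by rw [← hz]; simp
    exact_mod_cast this
  · rw [hkey ξ] at hz
    by_cases hη : η = ξ'
    · by_cases hξ : ξ = ξ'
      · exact Or.inr (Or.inr (hη.trans hξ.symm))
      · refine Or.inr (Or.inl ?_)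
        rw [if_neg hξ] at hz
        exact_mod_cast hz.symm
    · exact Or.inl (by rw [hkey η, if_neg hη])
  · rw [hkey ξ', if_pos rfl]
    exact div_ne_zero (mul_ne_zero (Nat.cast_ne_zero.mpr Nat.card_pos.ne') hne)
      ((map_ne_zero _).mpr hd0)

/-- `θ_ξ` is up to sign an irreducible character. -/
theorem CDData.exists_irr (h : CDData p P θ) (hM : IsPModular p M) (ξ : IrrCharacter P) :
    ∃ (χ : IrrCharacter G) (z : ℤ), z ≠ 0 ∧
      thetaXi p θ (ξ : P → ℂ) = (z : ℂ) • (χ : G → ℂ) := by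
  classical
  choose z hz _hz0 _h1 _h2 using fun χ => h.coeff hM ξ χ
  have hexp := classFun_expansion
    (h.isClassFunction_thetaXi (isClassFunction_character (irr_isCharacter ξ.2)))
  simp only [hz] at hexp
  have hsum : ∑ χ : IrrCharacter G, z χ * z χ = 1 := by
    have h1 := h.thetaXi_norm ξ
    nth_rewrite 2 [hexp] at h1
    rw [classInner_sum_right] at h1
    simp only [classInner_smul_right, map_intCast, hz] at h1
    exact_mod_cast h1
  obtain ⟨χ, -, hχ⟩ := Finset.exists_ne_zero_of_sum_ne_zero (by rw [hsum]; exact one_ne_zero)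
  have hχ0 : z χ ≠ 0 := left_ne_zero_of_mul hχ
  refine ⟨χ, z χ, hχ0, ?_⟩
  rw [hexp, Finset.sum_eq_single χ ?_ (fun h => absurd (Finset.mem_univ _) h)]
  intro ψ _ hne
  have h1 : z χ * z χ + z ψ * z ψ ≤ 1 := by
    rw [← hsum, ← Finset.sum_pair (Ne.symm hne) (f := fun χ => z χ * z χ)]
    exact Finset.sum_le_sum_of_subset_of_nonneg (Finset.subset_univ _)
      (fun i _ _ => mul_self_nonneg _)
  have h2 : 1 ≤ z χ * z χ := by
    have := mul_self_pos.mpr hχ0
    omega
  have h3 : z ψ * z ψ = 0 := le_antisymm (by linarith) (mul_self_nonneg _)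
  rw [mul_self_eq_zero.mp h3, Int.cast_zero, zero_smul]

/-- The structure of the block of `θ`. -/
theorem CDData.block (h : CDData p P θ) (hM : IsPModular p M) {B : Set (IrrCharacter G)}
    (hB : IsPBlock M B) (hθB : θ ∈ B) :
    (∀ θ' ∈ B, (∀ u ∈ P, (θ' : G → ℂ) u = (θ' : G → ℂ) 1) → θ' = θ) ∧
      Nat.card B = Nat.card (ConjClasses P) := by
  classical
  have hP' := pmod_prime hM
  haveI := Fintype.ofFinite P
  choose F z hz0 hF using fun ξ => h.exists_irr hM ξ
  have hFval : ∀ ξ (u : P), (z ξ : ℂ) * (F ξ : G → ℂ) (u : G) = (ξ : P → ℂ) u * (θ : G → ℂ) 1 := by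
    intro ξ u
    have e := congrFun (hF ξ) ((u : G) * 1)
    rw [h.thetaXi_mul _ u (by rw [orderOf_one]; exact h.prime.not_dvd_one), mul_one] at e
    simpa using e.symm
  have hinj : Function.Injective F := by
    intro ξ η he
    have h1 : ((z η : ℂ) / z ξ) • (ξ : P → ℂ) = (η : P → ℂ) := by
      funext u
      have a1 := hFval ξ u
      have a2 := hFval η u
      rw [← he] at a2
      have hθ1 : (θ : G → ℂ) 1 ≠ 0 := irr_one_ne_zero θ.2
      have hz1 : (z ξ : ℂ) ≠ 0 := Int.cast_ne_zero.mpr (hz0 ξ)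
      rw [Pi.smul_apply, smul_eq_mul]
      apply mul_right_cancel₀ hθ1
      rw [← a2, mul_assoc, ← a1]
      field_simp
    by_contra hne
    have h2 := congrArg (fun f => classInner f (η : P → ℂ)) h1
    simp only [classInner_smul_left, irr_orth ξ.2 η.2, irr_orth η.2 η.2, if_pos,
      if_neg (fun e => hne (Subtype.coe_inj.mp e)), mul_zero] at h2
    exact zero_ne_one h2
  have hFe : ∀ ξ, einner p (θ : G → ℂ) (F ξ : G → ℂ) ≠ 0 := by
    intro ξ h0
    obtain ⟨w, hw, hw0, -, -⟩ := h.coeff hM ξ (F ξ)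
    rw [hF ξ, classInner_smul_left, irr_orth (F ξ).2 (F ξ).2, if_pos rfl, mul_one] at hw
    exact hz0 ξ (by rw [Int.cast_inj.mp hw, hw0 h0])
  have hsurj : ∀ χ : IrrCharacter G, einner p (θ : G → ℂ) (χ : G → ℂ) ≠ 0 → ∃ ξ, F ξ = χ := by
    intro χ hχ
    obtain ⟨w, -, -, -, hex⟩ := h.coeff hM ⟨fun _ => 1, isIrrCharacter_one⟩ χ
    obtain ⟨η, hη⟩ := hex hχ
    refine ⟨η, ?_⟩
    rw [hF η, classInner_smul_left, irr_orth (F η).2 χ.2] at hη
    by_contra hne
    exact hη (by rw [if_neg (fun e => hne (Subtype.coe_inj.mp e)), mul_zero])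
  have hclosed : ∀ χ ∈ Set.range F, ∀ ψ ∉ Set.range F,
      einner p (χ : G → ℂ) (ψ : G → ℂ) = 0 := by
    rintro _ ⟨ξ, rfl⟩ ψ hψ
    have h0 : einner p (θ : G → ℂ) (ψ : G → ℂ) = 0 := by
      by_contra hne
      exact hψ (hsurj ψ hne)
    have e : ((F ξ : G → ℂ) * regInd p : G → ℂ) =
        ((ξ : P → ℂ) 1 / (z ξ : ℂ)) • ((θ : G → ℂ) * regInd p) := by
      funext g
      simp only [Pi.mul_apply, Pi.smul_apply, smul_eq_mul]
      by_cases hg : p ∣ orderOf g
      · rw [regInd_of_sing hg]; ring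
      · have e1 := congrFun (hF ξ) (((1 : P) : G) * g)
        rw [h.thetaXi_mul _ 1 hg] at e1
        simp only [Subgroup.coe_one, one_mul, Pi.smul_apply, smul_eq_mul] at e1
        rw [regInd_of_reg hg, mul_one, mul_one, div_mul_eq_mul_div, e1,
          mul_div_cancel_left₀ _ (Int.cast_ne_zero.mpr (hz0 ξ))]
    rw [einner, e, classInner_smul_left, ← einner, h0, mul_zero]
  have hθF : θ ∈ Set.range F := hsurj θ (einner_ne_zero_self h.prime θ.2)
  have hmem : ∀ χ : IrrCharacter G, χ ∈ B ↔ χ ∈ Set.range F := by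
    intro χ
    constructor
    · intro hχ
      exact mem_of_linked_closed hM hclosed hθF (block_sameBlock hP' hB hθB hχ)
    · rintro ⟨ξ, rfl⟩
      rw [block_eq_blockOf hP' hB hθB]
      show SameBlock M (θ : G → ℂ) (F ξ : G → ℂ)
      by_contra hns
      exact hFe ξ (einner_eq_zero_of_not_sameBlock hM θ (F ξ) hns)
  refine ⟨fun θ' hθ' htriv => ?_, ?_⟩
  · obtain ⟨ξ, rfl⟩ := (hmem θ').mp hθ'
    obtain ⟨η, hη⟩ := hθF
    suffices ξ = η by rw [this, hη]
    have key : ∀ ζ, (∀ u ∈ P, (F ζ : G → ℂ) u = (F ζ : G → ℂ) 1) →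
        ∀ u : P, (ζ : P → ℂ) u = (ζ : P → ℂ) 1 := by
      intro ζ hζ u
      have a1 := hFval ζ u
      have a2 := hFval ζ 1
      rw [hζ u u.2] at a1
      rw [Subgroup.coe_one] at a2
      exact mul_right_cancel₀ (irr_one_ne_zero θ.2) (a1.symm.trans a2)
    have hone : ∀ ζ : IrrCharacter P, (∀ u : P, (ζ : P → ℂ) u = (ζ : P → ℂ) 1) →
        (ζ : P → ℂ) = fun _ => 1 := by
      intro ζ hζ
      by_contra hne
      have h1 := irr_orth ζ.2 (isIrrCharacter_one (G := P))
      rw [if_neg hne, classInner] at h1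
      simp only [hζ, map_one, mul_one, Finset.sum_const, Finset.card_univ, nsmul_eq_mul,
        mul_eq_zero, inv_eq_zero, Nat.cast_eq_zero] at h1
      rcases h1 with h1 | h1 | h1
      · exact Nat.card_pos.ne' h1
      · exact Fintype.card_ne_zero h1
      · exact irr_one_ne_zero ζ.2 h1
    exact Subtype.ext ((hone ξ (key ξ htriv)).trans
      (hone η (key η (fun u hu => by rw [hη]; exact h.triv u hu))).symm)
  · rw [← card_irr (G := P), ← Nat.card_range_of_injective hinj]
    exact Nat.card_congr (Equiv.setCongr (Set.ext fun χ => hmem χ))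

end Cfsg.Agent.Char
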