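import Cfsg.Agent.Lib.Char.FirstMainInduced

/-!
# Blocks of `P C(P)` with defect group `P`
-/

set_option autoImplicit false

namespace Cfsg.Agent.Char

open Cfsg Module
open scoped ComplexConjugate

universe u

variable {G : Type u} [Group G] [Fintype G] {M : Ideal AlgInt} {p : ℕ}

/-- Conjugation by an element normalizing `H`. -/
def conjH (H : Subgroup G) (n : G) (hn : n ∈ Subgroup.normalizer (H : Set G)) : H ≃* H where
  toFun h := ⟨n * h * n⁻¹, (Subgroup.mem_normalizer_iff.mp hn h).mp h.2⟩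
  invFun h := ⟨n⁻¹ * h * n, by
    simpa using (Subgroup.mem_normalizer_iff.mp (inv_mem hn) h).mp h.2⟩
  left_inv h := Subtype.ext (by simp [mul_assoc])
  right_inv h := Subtype.ext (by simp [mul_assoc])
  map_mul' a b := Subtype.ext (by simp [mul_assoc])

variable {H : Subgroup G} [Fintype H] {P0 : Subgroup H}
  {e0 : Set (IrrCharacter (Subgroup.centralizer (P0 : Set H)))}

theorem pairOf_transport (hM : IsPModular p M)
    (hC : Subgroup.centralizer ((P0.map H.subtype : Subgroup G) : Set G) ≤ H)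
    {b : Set (IrrCharacter H)} (hb : IsBrauerPairOf p M b P0 e0) {x : G}
    (hx : x⁻¹ ∈ Subgroup.normalizer (H : Set G))
    {f0 : Set (IrrCharacter (Subgroup.centralizer (P0 : Set H)))} (hf0 : IsPBlock M f0)
    (h : conjIdx x (liftIdx H (⟨P0, e0⟩ : BrauerPairIdx H)) = liftIdx H ⟨P0, f0⟩) :
    IsBrauerPairOf p M (irrTransport (conjH H x⁻¹ hx) '' b) P0 f0 := by
  refine ⟨⟨hb.1.1, hf0⟩, isPBlock_transport _ hb.2.1, ?_⟩
  refine (brOne_lift_iff P0 hC
    (F' := subgroupBlockCoeff H (irrTransport (conjH H x⁻¹ hx) '' b))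
    (fun c _ => by rw [subgroupBlockCoeff_eq, extendByZero_mem _ _ c.2]) f0).mp ?_
  have hval : ∀ y : G, subgroupBlockCoeff H (irrTransport (conjH H x⁻¹ hx) '' b) (x * y * x⁻¹) =
      subgroupBlockCoeff H b y := by
    intro y
    rw [subgroupBlockCoeff_eq, subgroupBlockCoeff_eq]
    have hiff : x * y * x⁻¹ ∈ H ↔ y ∈ H := by
      have := Subgroup.mem_normalizer_iff.mp hx (x * y * x⁻¹)
      rwa [show x⁻¹ * (x * y * x⁻¹) * x⁻¹⁻¹ = y by group] at this
    by_cases hy : y ∈ H
    · rw [extendByZero_mem _ _ hy, extendByZero_mem _ _ (hiff.mpr hy), blockCoeff_transport]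
      refine congrArg _ (Subtype.ext ?_)
      show x⁻¹ * (x * y * x⁻¹) * x⁻¹⁻¹ = y
      group
    · rw [extendByZero_not_mem _ _ hy, extendByZero_not_mem _ _ (fun h => hy (hiff.mp h))]
  have h1 := brOne_conj x hval ((brOne_lift_iff P0 hC (F' := subgroupBlockCoeff H b)
    (fun c _ => by rw [subgroupBlockCoeff_eq, extendByZero_mem _ _ c.2]) e0).mpr hb.2.2)
  exact Eq.mpr (congrArg (fun a : BrauerPairIdx G =>
    BrOne M a.1 (subgroupBlockCoeff H (irrTransport (conjH H x⁻¹ hx) '' b)) a.2) h.symm) h1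

/-- Maximality passes to subgroups containing the centralizer. -/
theorem maximal_sub (hM : IsPModular p M)
    (hC : Subgroup.centralizer ((P0.map H.subtype : Subgroup G) : Set G) ≤ H)
    {c : Set (IrrCharacter H)} {B : Set (IrrCharacter G)} (hc : IsBrauerPairOf p M c P0 e0)
    (hB : IsMaximalBrauerPair p M B (P0.map H.subtype) (liftBlock P0 e0)) :
    IsMaximalBrauerPair p M c P0 e0 :=
  (maximal_iff_local hM hc).mpr fun a ha =>
    Subgroup.map_injective (Subgroup.subtype_injective H)
      ((maximal_iff_local hM hB.1).mp hB _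
        (normalSubpair_lift hM (a := (⟨P0, e0⟩ : BrauerPairIdx H)) (b := a) hC ha))

theorem le_normalizer_of_local {P : Subgroup G} :
    P ⊔ Subgroup.centralizer (P : Set G) ≤ Subgroup.normalizer (P : Set G) :=
  sup_le Subgroup.le_normalizer (centralizer_le_norm P)

theorem mem_normalizer_local {P : Subgroup G} {n : G} (hn : n ∈ Subgroup.normalizer (P : Set G)) :
    n ∈ Subgroup.normalizer ((P ⊔ Subgroup.centralizer (P : Set G) : Subgroup G) : Set G) := by
  refine Subgroup.mem_normalizer_iff_map_conj_eq.mpr ?_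
  show (P ⊔ Subgroup.centralizer (P : Set G)).map (MulAut.conj n).toMonoidHom = _
  have e1 : P.map (MulAut.conj n).toMonoidHom = P := Subgroup.mem_normalizer_iff_map_conj_eq.mp hn
  rw [Subgroup.map_sup, e1, map_conj_centralizer hn]

theorem extended_first_main_unique (hM : IsPModular p M) (hH : H = P0.map H.subtype ⊔
      Subgroup.centralizer ((P0.map H.subtype : Subgroup G) : Set G))
    {B : Set (IrrCharacter G)} (hP : IsDefectGroup p M B (P0.map H.subtype))
    {b b' : Set (IrrCharacter H)} (hb : IsInducedBlock M H b B) (hb' : IsInducedBlock M H b' B) :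
    ∃ (n : G) (hn : n ∈ Subgroup.normalizer ((P0.map H.subtype : Subgroup G) : Set G))
      (hnH : n ∈ Subgroup.normalizer (H : Set G)),
        irrTransport (conjH H n hnH) '' b = b' := by
  have hMp := pmod_prime hM
  have hC : Subgroup.centralizer ((P0.map H.subtype : Subgroup G) : Set G) ≤ H :=
    le_sup_right.trans hH.ge
  haveI : P0.Normal := by
    have h1 := (Subgroup.normal_subgroupOf_iff_le_normalizer
      (Subgroup.map_subtype_le P0)).mpr (hH.le.trans le_normalizer_of_local)
    rwa [show (P0.map H.subtype).subgroupOf H = P0 from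
      Subgroup.comap_map_eq_self_of_injective (Subgroup.subtype_injective H) _] at h1
  obtain ⟨y, hy, hDy⟩ := (isDefectGroup_iff B _).mp hP
  have hp0 : IsPGroup p P0 :=
    hDy.isPGroup.of_equiv (P0.equivMapOfInjective _ (Subgroup.subtype_injective H)).symm
  have hpair : ∀ c : Set (IrrCharacter H), IsInducedBlock M H c B →
      ∃ e, IsBrauerPairOf p M c P0 e ∧ IsBrauerPairOf p M B (P0.map H.subtype) (liftBlock P0 e) := by
    intro c hc
    obtain ⟨D, hD⟩ := exists_isDefectGroup hM hc.1
    obtain ⟨e, he⟩ := exists_pair_of_le_defect hM hc.1 hD (pCore_le_defectGroup hM hc.1 hD P0 hp0)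
    exact ⟨e, he, pairOf_of_induced hM hc hC he⟩
  obtain ⟨e, he, heB⟩ := hpair b hb
  obtain ⟨e', he', he'B⟩ := hpair b' hb'
  haveI := Fintype.ofFinite (Subgroup.centralizer ((P0.map H.subtype : Subgroup G) : Set G))
  haveI := Fintype.ofFinite (Subgroup.normalizer ((P0.map H.subtype : Subgroup G) : Set G))
  obtain ⟨m, hm, hme⟩ := maximal_pairs_conj hM (maximal_of_defect hM hP heB) he'B
  have hmH : m⁻¹ ∈ Subgroup.normalizer (H : Set G) := by
    rw [hH]; exact mem_normalizer_local (inv_mem hm)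
  exact ⟨m⁻¹, inv_mem hm, hmH,
    pairOf_unique hM (pairOf_transport hM hC he hmH he'.1.2 hme.symm) he'⟩

theorem extended_defect_iff (hM : IsPModular p M) (hH : H = P0.map H.subtype ⊔
      Subgroup.centralizer ((P0.map H.subtype : Subgroup G) : Set G))
    {b : Set (IrrCharacter H)} (hbP : IsDefectGroup p M b P0) {B : Set (IrrCharacter G)}
    (hind : IsInducedBlock M H b B) {T : Subgroup G}
    (hT : ∀ g : G, g ∈ T ↔ (g ∈ Subgroup.normalizer ((P0.map H.subtype : Subgroup G) : Set G) ∧
      ∀ θ ∈ b, ∀ θ' : IrrCharacter H, (∀ h h' : H, (h' : G) = g * h * g⁻¹ →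
        (θ' : H → ℂ) h' = (θ : H → ℂ) h) → θ' ∈ b)) :
    IsDefectGroup p M B (P0.map H.subtype) ↔ ¬ p ∣ H.relIndex T := by
  classical
  have hMp := pmod_prime hM
  haveI := Fact.mk hM.1
  have hC : Subgroup.centralizer ((P0.map H.subtype : Subgroup G) : Set G) ≤ H :=
    le_sup_right.trans hH.ge
  obtain ⟨e0, he0⟩ := exists_pair_of_le_defect hM hind.1 hbP le_rfl
  have heB := pairOf_of_induced hM hind hC he0
  have he := heB.1.2
  have hctx := stabCtx_pairStab hM heB.1.1 he
  have hHS : H ≤ pairStab hMp he := hH.le.trans (sup_le hctx.le hctx.cent)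
  have hctxH : StabCtx p M (P0.map H.subtype) (liftBlock P0 e0) H :=
    ⟨heB.1.1, he, Subgroup.map_subtype_le _, hC, fun u hu => hctx.stab u (hHS hu)⟩
  have hTS : T = pairStab hMp he := by
    ext g
    rw [hT, mem_pairStab]
    refine and_congr_right fun hg => ?_
    have hgH : g⁻¹ ∈ Subgroup.normalizer (H : Set G) := by
      rw [hH]; exact mem_normalizer_local (inv_mem hg)
    have hcond : (∀ θ ∈ b, ∀ θ' : IrrCharacter H, (∀ h h' : H, (h' : G) = g * h * g⁻¹ →
        (θ' : H → ℂ) h' = (θ : H → ℂ) h) → θ' ∈ b) ↔ irrTransport (conjH H g⁻¹ hgH) '' b = b := by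
      constructor
      · intro h
        obtain ⟨θ, hθ⟩ := block_nonempty hMp hind.1
        refine block_disjoint hMp (isPBlock_transport _ hind.1) hind.1 ⟨θ, hθ, rfl⟩
          (h θ hθ _ fun k k' hk => ?_)
        rw [irrTransport_apply]
        refine congrArg _ (Subtype.ext ?_)
        show g⁻¹ * (k' : G) * g⁻¹⁻¹ = k
        rw [hk]; group
      · intro h θ hθ θ' hθ'
        rw [← h]
        refine ⟨θ, hθ, Subtype.ext (funext fun k' => ?_)⟩
        rw [irrTransport_apply]
        refine (hθ' _ k' ?_).symm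
        show (k' : G) = g * (g⁻¹ * (k' : G) * g⁻¹⁻¹) * g⁻¹
        group
    rw [hcond]
    constructor
    · intro hb
      have hgP : (P0.map H.subtype).map (MulAut.conj g).toMonoidHom = P0.map H.subtype :=
        Subgroup.mem_normalizer_iff_map_conj_eq.mp hg
      obtain ⟨R, r, hr⟩ : ∃ (R : Subgroup G) (r : Set (IrrCharacter (Subgroup.centralizer (R : Set G)))),
          (⟨R, r⟩ : BrauerPairIdx G) = conjIdx g (liftIdx H ⟨P0, e0⟩) := ⟨_, _, rfl⟩
      obtain rfl : R = P0.map H.subtype := (Sigma.mk.inj_iff.mp hr).1.trans hgP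
      have hrb : IsPBlock M r := Eq.mpr (congrArg (fun a : BrauerPairIdx G => IsPBlock M a.2) hr)
        (isPBlock_conjBlock g he)
      obtain ⟨f0, hf0, rfl⟩ := exists_preimage P0 hC hrb
      have hpair := pairOf_transport hM hC he0 hgH hf0 hr.symm
      rw [hb] at hpair
      haveI := Fintype.ofFinite (Subgroup.centralizer (P0 : Set H))
      haveI := Fintype.ofFinite (Subgroup.normalizer (P0 : Set H))
      obtain ⟨h, hh, hhe⟩ := maximal_pairs_conj hM (maximal_of_defect hM hbP he0) hpair
      have hP0 : (conjIdx h (⟨P0, e0⟩ : BrauerPairIdx H)).1 = P0 := (Sigma.mk.inj_iff.mp hhe).1.symm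
      have h2 := liftIdx_conj hMp h (a := ⟨P0, e0⟩) hC (by rw [hP0]; exact hC) he0.1.2
      rw [← hhe] at h2
      have hfix : conjIdx g (liftIdx H (⟨P0, e0⟩ : BrauerPairIdx H)) =
          liftIdx H (⟨P0, e0⟩ : BrauerPairIdx H) := by
        rw [← hr]
        exact h2.trans (hctxH.fix hMp h.2)
      exact ((conjIdx_eq_self_iff hMp he g).mp hfix).2
    · intro hst
      exact pairOf_unique hM (pairOf_transport hM hC he0 hgH he0.1.2
        ((conjIdx_eq_self_iff hMp he g).mpr ⟨hg, hst⟩)) he0
  subst hTS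
  obtain ⟨d, hd⟩ := hctx.exists_maxOver hM
  set C := Subgroup.centralizer ((P0.map H.subtype : Subgroup G) : Set G) with hCdef
  have hPC : (P0.map H.subtype) ≤ Subgroup.normalizer (C : Set G) := fun u hu =>
    (hctx.stab u (hctx.le hu)).2.1
  have hrelH : C.relIndex H = C.relIndex (P0.map H.subtype) := by
    conv_lhs => rw [hH, sup_comm]
    exact relIndex_sup_of_normalizes hPC
  have hrel := Subgroup.relIndex_mul_relIndex C H (pairStab hMp he) hC hHS
  have hmd := hctx.maxOver_relIndex hM hd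
  obtain ⟨k, hk⟩ := IsPGroup.iff_card.mp heB.1.1
  obtain ⟨a, -, ha⟩ := (Nat.dvd_prime_pow hM.1).mp
    ((hk ▸ (card_eq_inf_mul_relIndex C (P0.map H.subtype)).symm ▸ dvd_mul_left _ _ :
      C.relIndex (P0.map H.subtype) ∣ p ^ k))
  have hne1 : H.relIndex (pairStab hMp he) ≠ 0 := Subgroup.index_ne_zero_of_finite
  have hν : (C.relIndex (pairStab hMp he)).factorization p =
      a + (H.relIndex (pairStab hMp he)).factorization p := by
    rw [← hrel, hrelH, ha, Nat.factorization_mul (pow_ne_zero _ hM.1.ne_zero) hne1,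
      Finsupp.add_apply, Nat.factorization_pow_self hM.1]
  have hdiv : ¬ p ∣ H.relIndex (pairStab hMp he) ↔
      (H.relIndex (pairStab hMp he)).factorization p = 0 := by
    rw [Nat.factorization_eq_zero_iff]
    simp [hM.1, hne1]
  -- the part in the centralizer is always the defect group
  have hinf : Nat.card (d.1 ⊓ C : Subgroup G) = Nat.card (P0.map H.subtype ⊓ C : Subgroup G) := by
    have hbmax := maximal_of_defect hM hbP he0
    obtain ⟨dH, hdH⟩ := hctxH.exists_maxOver hM
    have hdP : dH.1 = P0.map H.subtype := by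
      obtain ⟨R, g⟩ := dH
      obtain ⟨R0, rfl⟩ : ∃ R0 : Subgroup H, R0.map H.subtype = R :=
        ⟨R.subgroupOf H, Subgroup.map_subgroupOf_eq_of_le hdH.1.2⟩
      obtain ⟨b1, hb1, hb1c⟩ := hctxH.exists_block hM
      have hb1b : b1 = b := pairOf_unique hM
        ((hctxH.pairOf_iff_over hM hb1 hb1c (a := ⟨P0, e0⟩) le_rfl he0.1.1 he0.1.2).mpr
          ⟨isNormalSubpair_self hM heB.1.1 he, Subgroup.map_subtype_le _⟩) he0
      subst hb1b
      obtain ⟨a0, ha0, hpa⟩ := hctxH.exists_pre hM hb1 hb1c hdH.1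
      have hmax := hctxH.max_pre hM hb1 hb1c hdH ha0 hpa
      obtain ⟨t, ht⟩ := defect_groups_conj hM hb1 hbP (maximal_pair_defect hM hmax)
      have hcard : Nat.card (R0.map H.subtype) = Nat.card (P0.map H.subtype) := by
        rw [← (Sigma.mk.inj_iff.mp ha0).1, ht]
        simp only [Subgroup.card_map_of_injective (Subgroup.subtype_injective H)]
        exact Subgroup.card_map_of_injective (MulEquiv.injective _)
      exact (Subgroup.eq_of_le_of_card_ge hdH.1.1.2.2.1 hcard.le).symm
    have h1 := hctxH.card_inf_le_max hM hd.1.1 hdH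
    rw [hdP] at h1
    exact le_antisymm h1 (Subgroup.card_le_of_le (inf_le_inf_right _ hd.1.1.2.2.1))
  have hdP : d.1 = P0.map H.subtype ↔ (H.relIndex (pairStab hMp he)).factorization p = 0 := by
    constructor
    · intro hdP
      rw [hdP, ha, hν] at hmd
      have := Nat.pow_right_injective hM.1.two_le hmd
      omega
    · intro h0
      refine (Subgroup.eq_of_le_of_card_ge hd.1.1.2.2.1 (le_of_eq ?_)).symm
      rw [card_eq_inf_mul_relIndex C d.1, card_eq_inf_mul_relIndex C (P0.map H.subtype), hmd, hν, h0,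
        ha, add_zero, inf_comm C, inf_comm C, hinf]
  rw [hdiv, ← hdP]
  constructor
  · intro hPB
    exact (maximal_iff_local hM heB).mp (maximal_of_defect hM hPB heB) d hd.1.1
  · intro hdP'
    refine maximal_pair_defect hM ((maximal_iff_local hM heB).mpr fun x hx => ?_)
    refine (Subgroup.eq_of_le_of_card_ge hx.2.2.1 ?_).symm
    rw [← hdP']
    exact hd.2 x ⟨hx, fun u hu => (mem_pairStab hMp he).mpr ⟨hx.2.2.2.1 hu, hx.2.2.2.2.1 u hu⟩⟩

end Cfsg.Agent.Char
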