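import Cfsg.Agent.Lib.Char.MajorPairs
import Cfsg.Agent.Lib.Char.BlockFusion
import Cfsg.Agent.Lib.Char.FirstMainExtended

/-!
# Subsections of the central elements of a defect group

For a maximal pair `(D, e)` each `z` in `Z(D)` gives a major subsection, and two of them are conjugate only
inside the stabilizer of the pair.
-/

set_option autoImplicit false
set_option linter.unusedSectionVars false

open Cfsg

namespace Cfsg.Agent.Char.CentralPairs

universe u

variable {G : Type u} [Group G] [Fintype G] {M : Ideal AlgInt} {p : ℕ} {B : Set (IrrCharacter G)}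

/-- A pair on `Q` of the block `B` induces `B`. -/
theorem induced_of_pair (hM : IsPModular p M) {Q : Subgroup G}
    (hQ : Q ≤ Subgroup.centralizer (Q : Set G))
    {f : Set (IrrCharacter (Subgroup.centralizer (Q : Set G)))} (h : IsBrauerPairOf p M B Q f) :
    IsInducedBlock M (Subgroup.centralizer (Q : Set G)) f B := by
  have hP := pmod_prime hM
  haveI := Fintype.ofFinite (Subgroup.centralizer (Q : Set G))
  obtain ⟨B', hB'⟩ := inducedBlockDefined_of_local hM h.1.1 hQ le_rfl (centralizer_le_norm Q) h.1.2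
  have hp : IsBrauerPairOf p M B' Q f := by
    refine ⟨h.1, hB'.2.1, fun ξ hξ => ?_⟩
    obtain ⟨χ, hχ⟩ := block_nonempty hP hB'.2.1
    have h2 := induced_congr_fun hP (hB'.2.2 ξ hξ χ hχ) (isIntClassFun_blockCoeff hM hB'.2.1)
    rw [lam_blockCoeff, if_pos hχ] at h2
    rw [brauerOmega_eq]
    exact h2
  rwa [pairOf_unique hM h hp]

/-- The block seen on an equal subgroup. -/
theorem exists_same {K K' : Subgroup G} (h : K = K') (f : Set (IrrCharacter K)) (hf : IsPBlock M f) :
    ∃ f' : Set (IrrCharacter K'), IsPBlock M f' ∧ blockDefect p f' = blockDefect p f ∧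
      subgroupBlockCoeff K' f' = subgroupBlockCoeff K f ∧
      (IsInducedBlock M K f B → IsInducedBlock M K' f' B) := by
  subst h
  exact ⟨f, hf, rfl, rfl, id⟩

open scoped Classical in
theorem blockDefect_transport {H K : Type u} [Group H] [Group K] [Fintype H] [Fintype K] (ε : H ≃* K) (b : Set (IrrCharacter K)) :
    blockDefect p (irrTransport ε '' b) = blockDefect p b := by
  unfold blockDefect
  rw [Set.image_image, Nat.card_congr ε.toEquiv]
  congr 3
  funext χ
  simp only [charDegree, irrTransport_apply, map_one]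

theorem eq_of_same_top (hM : IsPModular p M) {D : Subgroup G}
    {e : Set (IrrCharacter (Subgroup.centralizer (D : Set G)))} (a : BrauerPairIdx G)
    (ha : a.1 = D) (h : Relation.ReflTransGen (NormalSubpairRel p M) a (⟨D, e⟩ : BrauerPairIdx G)) :
    a = ⟨D, e⟩ := by
  rcases first_step_rel hM h with h' | ⟨c, hlt, -, hcb⟩
  · exact h'
  · exact absurd ((subpair_rel_le hcb).trans_eq ha.symm) hlt.not_ge

variable {D : Subgroup G} {e : Set (IrrCharacter (Subgroup.centralizer (D : Set G)))}

theorem le_centralizer_zpowers {z : G} (hzD : ∀ d ∈ D, d * z = z * d) :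
    D ≤ Subgroup.centralizer (Subgroup.zpowers z : Set G) := fun d hd => by
  rw [centralizer_zpowers_eq]
  exact Subgroup.mem_centralizer_singleton_iff.mpr (hzD d hd)

/-- The pair below `(D, e)` at a central element. -/
theorem exists_below (hM : IsPModular p M) (hmax : IsMaximalBrauerPair p M B D e) {z : G} (hz : z ∈ D)
    (hzD : ∀ d ∈ D, d * z = z * d) :
    ∃ f : Set (IrrCharacter (Subgroup.centralizer (Subgroup.zpowers z : Set G))),
      IsNormalSubpair p M (Subgroup.zpowers z) f D e ∧ IsBrauerPairOf p M B (Subgroup.zpowers z) f ∧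
        IsInducedBlock M (Subgroup.centralizer (Subgroup.zpowers z : Set G)) f B ∧
        blockDefect p f = blockDefect p B := by
  classical
  have hP := pmod_prime hM
  have hp := hM.1
  have hDp : IsPGroup p D := hmax.1.1.1
  have hle : Subgroup.zpowers z ≤ D := Subgroup.zpowers_le.mpr hz
  have hDC := le_centralizer_zpowers hzD
  obtain ⟨f, hf, -⟩ := existsUnique_normalSubpair hM hDp hle
    (hDC.trans (centralizer_le_norm _)) hmax.1.1.2
  have hpair := (brauerPairOf_iff hM hmax.1.2.1 hf).mpr hmax.1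
  have hind := induced_of_pair hM (hle.trans hDC) hpair
  refine ⟨f, hf, hpair, hind, le_antisymm ?_ ?_⟩
  · obtain ⟨D0, hD0⟩ := exists_isDefectGroup hM hf.1.2
    haveI := Fintype.ofFinite (Subgroup.centralizer (Subgroup.zpowers z : Set G))
    obtain ⟨E, hE, hle'⟩ := induced_defect_le hM hind hD0
    have h1 := Subgroup.card_le_of_le hle'
    rw [Subgroup.card_map_of_injective (Subgroup.subtype_injective _), card_defectGroup hM hf.1.2 hD0,
      card_defectGroup hM hmax.1.2.1 hE] at h1
    exact (Nat.pow_le_pow_iff_right hp.one_lt).mp h1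
  · haveI := Fintype.ofFinite (Subgroup.centralizer (Subgroup.zpowers z : Set G))
    obtain ⟨D0, hD0⟩ := exists_isDefectGroup hM hf.1.2
    obtain ⟨t, ht⟩ := inf_le_defect hM (a := (⟨D, e⟩ : BrauerPairIdx G)) hf hD0
    have h1 := Subgroup.card_le_of_le ht
    rw [card_subgroupOf_inf, inf_eq_left.mpr hDC, Subgroup.card_map_of_injective (MulEquiv.injective _),
      card_defectGroup hM hf.1.2 hD0, card_defectGroup hM hmax.1.2.1 (maximal_pair_defect hM hmax)] at h1
    exact (Nat.pow_le_pow_iff_right hp.one_lt).mp h1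

/-- Two conjugate pairs of central elements are conjugate by the stabilizer of `(D, e)`. -/
theorem fuse (hM : IsPModular p M) (hmax : IsMaximalBrauerPair p M B D e) {z z' : G}
    {f : Set (IrrCharacter (Subgroup.centralizer (Subgroup.zpowers z : Set G)))}
    {f' : Set (IrrCharacter (Subgroup.centralizer (Subgroup.zpowers z' : Set G)))}
    (hf : IsNormalSubpair p M (Subgroup.zpowers z) f D e)
    (hf' : IsNormalSubpair p M (Subgroup.zpowers z') f' D e)
    (hD0z : ∀ d ∈ D, d * z = z * d) (hD' : ∀ d ∈ D, d * z' = z' * d) {g : G} (hg : g * z * g⁻¹ = z')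
    (hconj : conjIdx g (⟨Subgroup.zpowers z, f⟩ : BrauerPairIdx G) = ⟨Subgroup.zpowers z', f'⟩) :
    ∃ t ∈ pairStab (pmod_prime hM) hmax.1.1.2, t * z * t⁻¹ = z' := by
  have hP := pmod_prime hM
  have hctx : StabCtx p M (Subgroup.zpowers z') f' (Subgroup.centralizer (Subgroup.zpowers z' : Set G)) :=
    ⟨hf'.1.1, hf'.1.2, hf'.2.2.1.trans (le_centralizer_zpowers hD'), le_rfl,
      fun u hu => ⟨centralizer_le_norm _ hu, stabilizesBlock_of_centralizer hM hf'.1.1 hf'.1.2 hu⟩⟩
  have hgn : IsNormalSubpair p M (Subgroup.zpowers z') f'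
      (conjIdx g (⟨D, e⟩ : BrauerPairIdx G)).1 (conjIdx g (⟨D, e⟩ : BrauerPairIdx G)).2 := by
    have h := normalSubpair_conj hM g hf
    exact Eq.mp (congrArg (fun a : BrauerPairIdx G => IsNormalSubpair p M a.1 a.2
      (conjIdx g (⟨D, e⟩ : BrauerPairIdx G)).1 (conjIdx g (⟨D, e⟩ : BrauerPairIdx G)).2) hconj) h
  have hgle : (conjIdx g (⟨D, e⟩ : BrauerPairIdx G)).1 ≤ (Subgroup.centralizer (Subgroup.zpowers z' : Set G)) := by
    intro d hd
    rw [centralizer_zpowers_eq]
    obtain ⟨d0, hd0, rfl⟩ := hd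
    refine Subgroup.mem_centralizer_singleton_iff.mpr ?_
    show g * d0 * g⁻¹ * z' = z' * (g * d0 * g⁻¹)
    have hcz : d0 * z = z * d0 := hD0z d0 hd0
    calc g * d0 * g⁻¹ * z' = g * (d0 * z) * g⁻¹ := by rw [← hg]; group
      _ = g * (z * d0) * g⁻¹ := by rw [hcz]
      _ = z' * (g * d0 * g⁻¹) := by rw [← hg]; group
  have hmaxO : IsMaxOver p M (Subgroup.centralizer (Subgroup.zpowers z' : Set G)) (Subgroup.zpowers z') f' (⟨D, e⟩ : BrauerPairIdx G) := by
    refine ⟨⟨hf', le_centralizer_zpowers hD'⟩, fun a ha => ?_⟩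
    have h1 := (brauerPairOf_iff hM hmax.1.2.1 hf').mpr hmax.1
    have h2 := (brauerPairOf_iff hM hmax.1.2.1 ha.1).mp h1
    obtain ⟨t, ht⟩ := card_pairOf_le hM (maximal_pair_defect hM hmax) h2
    have h3 := Subgroup.card_le_of_le ht
    rwa [Subgroup.card_map_of_injective (MulEquiv.injective _)] at h3
  obtain ⟨h, hh, hle⟩ := hctx.conj_into_max hM (a := conjIdx g ⟨D, e⟩) ⟨hgn, hgle⟩ hmaxO
  have heb : IsPBlock M (⟨D, e⟩ : BrauerPairIdx G).2 := hmax.1.1.2
  rw [conjIdx_mul hP h g _ heb] at hle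
  have hfix : conjIdx (h * g) (⟨D, e⟩ : BrauerPairIdx G) = ⟨D, e⟩ := by
    refine eq_of_same_top hM _ ?_ hle
    refine Subgroup.eq_of_le_of_card_ge (subpair_rel_le hle) (le_of_eq ?_)
    exact (card_conjIdx (h * g) (⟨D, e⟩ : BrauerPairIdx G)).symm
  refine ⟨h * g, hfix, ?_⟩
  rw [centralizer_zpowers_eq, Subgroup.mem_centralizer_singleton_iff] at hh
  calc h * g * z * (h * g)⁻¹ = h * (g * z * g⁻¹) * h⁻¹ := by group
    _ = z' := by rw [hg, hh, mul_inv_cancel_right]

open scoped Classical in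
/-- The number of central elements times `p ^ h` against the index of `S` in the stabilizer. -/
theorem card_central_mul_le (hM : IsPModular p M) (hmax : IsMaximalBrauerPair p M B D e)
    {H T : Subgroup G} (hST : pairStab (pmod_prime hM) hmax.1.1.2 ≤ T)
    (hH : ∀ h ∈ H, ∀ z ∈ D, (∀ d ∈ D, d * z = z * d) → h * z = z * h)
    {χ : IrrCharacter G} (hχ : χ ∈ B) :
    Nat.card (Subgroup.center D) * p ^ blockHeight p B (χ : G → ℂ) ≤
      H.relIndex T * p ^ blockDefect p B := by
  have hP := pmod_prime hM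
  letI : ∀ x : G, Fintype (Subgroup.centralizer ({x} : Set G)) := fun x => Fintype.ofFinite _
  set S := Finset.univ.filter (fun z : G => z ∈ D ∧ ∀ d ∈ D, d * z = z * d) with hS
  have hScard : Nat.card (Subgroup.center D) = S.card := by
    rw [← Fintype.card_subtype, ← Nat.card_eq_fintype_card]
    refine Nat.card_congr ⟨fun z => ⟨((z : D) : G), (z : D).2, fun d hd => ?_⟩,
      fun z => ⟨⟨(z : G), z.2.1⟩, Subgroup.mem_center_iff.mpr fun d => Subtype.ext (z.2.2 d d.2)⟩,
      fun z => rfl, fun z => rfl⟩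
    exact congrArg Subtype.val (Subgroup.mem_center_iff.mp z.2 ⟨d, hd⟩)
  have hmem : ∀ z ∈ S, z ∈ D ∧ ∀ d ∈ D, d * z = z * d := fun z hz => (Finset.mem_filter.mp hz).2
  set r : G → G := fun z => Quotient.out (ConjClasses.mk z) with hr
  have hrc : ∀ z, IsConj z (r z) := fun z =>
    ConjClasses.mk_eq_mk_iff_isConj.mp (Quotient.out_eq (ConjClasses.mk z)).symm
  set X := S.image r with hX
  set F : ∀ x : G, Finset (Set (IrrCharacter (Subgroup.centralizer ({x} : Set G)))) := fun x =>
    Finset.univ.filter fun f => IsInducedBlock M (Subgroup.centralizer ({x} : Set G)) f B ∧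
      blockDefect p f = blockDefect p B with hF
  have hXp : ∀ x ∈ X, ∃ k : ℕ, orderOf x = p ^ k := by
    intro x hx
    obtain ⟨z, hz, rfl⟩ := Finset.mem_image.mp hx
    obtain ⟨c, hc⟩ := isConj_iff.mp (hrc z)
    haveI := Fact.mk hM.1
    obtain ⟨k, hk⟩ := IsPGroup.iff_orderOf.mp hmax.1.1.1 ⟨z, (hmem z hz).1⟩
    refine ⟨k, ?_⟩
    rw [← hc, ← MulAut.conj_apply, MulEquiv.orderOf_eq, ← hk, Subgroup.orderOf_mk]
  have hXinj : ∀ x ∈ X, ∀ y ∈ X, IsConj x y → x = y := by
    intro x hx y hy hxy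
    obtain ⟨z, -, rfl⟩ := Finset.mem_image.mp hx
    obtain ⟨z', -, rfl⟩ := Finset.mem_image.mp hy
    exact congrArg Quotient.out
      (ConjClasses.mk_eq_mk_iff_isConj.mpr ((hrc z).trans (hxy.trans (hrc z').symm)))
  have key := MajorPairs.card_pairs_mul_le hM X hXp hXinj F (fun x _ f hf => (Finset.mem_filter.mp hf).2) hχ
  -- the pair of each central element
  choose! fb hfn _ hfi hfd using fun z (hz : z ∈ S) => exists_below hM hmax (hmem z hz).1 (hmem z hz).2
  have hpick : ∀ z ∈ S, ∃ g : G, g * z * g⁻¹ = r z ∧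
      ∃ φ ∈ F (r z), subgroupBlockCoeff (Subgroup.centralizer ({r z} : Set G)) φ =
        subgroupBlockCoeff (Subgroup.centralizer
          ((conjIdx g (⟨Subgroup.zpowers z, fb z⟩ : BrauerPairIdx G)).1 : Set G))
          (conjIdx g (⟨Subgroup.zpowers z, fb z⟩ : BrauerPairIdx G)).2 := by
    intro z hz
    obtain ⟨g, hg⟩ := isConj_iff.mp (hrc z)
    refine ⟨g, hg, ?_⟩
    have he : Subgroup.centralizer
        ((conjIdx g (⟨Subgroup.zpowers z, fb z⟩ : BrauerPairIdx G)).1 : Set G) =
        Subgroup.centralizer ({r z} : Set G) := by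
      simp only [conjIdx, MonoidHom.map_zpowers, MulEquiv.coe_toMonoidHom, MulAut.conj_apply, hg,
        centralizer_zpowers_eq]
    obtain ⟨φ, hφ, hφd, hφc, hφi⟩ := exists_same (B := B) (p := p) he _
      (isPBlock_conjBlock g (hfi z hz).1)
    refine ⟨φ, Finset.mem_filter.mpr ⟨Finset.mem_univ _, ?_, ?_⟩, hφc⟩
    · refine hφi (induced_of_pair hM ?_ (brauerPairOf_conj g ?_))
      · show (Subgroup.zpowers z).map (MulAut.conj g).toMonoidHom ≤
          Subgroup.centralizer (((Subgroup.zpowers z).map (MulAut.conj g).toMonoidHom : Subgroup G) : Set G)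
        simp only [MonoidHom.map_zpowers, MulEquiv.coe_toMonoidHom, MulAut.conj_apply, hg, centralizer_zpowers_eq]
        exact Subgroup.zpowers_le.mpr (Subgroup.mem_centralizer_singleton_iff.mpr rfl)
      · exact (brauerPairOf_iff hM hmax.1.2.1 (hfn z hz)).mpr hmax.1
    · rw [hφd]
      haveI := Fintype.ofFinite (Subgroup.centralizer (Subgroup.zpowers z : Set G))
      haveI := Fintype.ofFinite (Subgroup.centralizer
        (((Subgroup.zpowers z).map (MulAut.conj g).toMonoidHom : Subgroup G) : Set G))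
      show blockDefect p (conjBlock (Subgroup.zpowers z) g (fb z)) = _
      rw [conjBlock_eq, blockDefect_transport]
      exact hfd z hz
  choose! gz hgz φz hφmem hφc using hpick
  set Φ : G → Σ x : G, Set (IrrCharacter (Subgroup.centralizer ({x} : Set G))) := fun z => ⟨r z, φz z⟩ with hΦ
  have himg : (S.image Φ).card ≤ ∑ x ∈ X, (F x).card := by
    rw [← Finset.card_sigma]
    refine Finset.card_le_card fun a ha => ?_
    obtain ⟨z, hz, rfl⟩ := Finset.mem_image.mp ha
    exact Finset.mem_sigma.mpr ⟨Finset.mem_image_of_mem _ hz, hφmem z hz⟩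
  have hfib : ∀ a ∈ S.image Φ, (S.filter fun z => Φ z = a).card ≤ H.relIndex T := by
    intro a ha
    obtain ⟨z, hz, rfl⟩ := Finset.mem_image.mp ha
    have hact : ∀ h ∈ H.subgroupOf T, (h : G) * z * (h : G)⁻¹ = z := fun h hh => by
      rw [hH h hh z (hmem z hz).1 (hmem z hz).2, mul_inv_cancel_right]
    let orb : T ⧸ H.subgroupOf T → G := fun q => Quotient.liftOn' q (fun t : T => (t : G) * z * (t : G)⁻¹)
      fun a b hab => by
        obtain ⟨h, hh, rfl⟩ : ∃ h ∈ H.subgroupOf T, b = a * h :=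
          ⟨a⁻¹ * b, QuotientGroup.leftRel_apply.mp hab, by group⟩
        show (a : G) * z * (a : G)⁻¹ = ((a * h : T) : G) * z * ((a * h : T) : G)⁻¹
        rw [Subgroup.coe_mul]
        conv_lhs => rw [← hact h hh]
        group
    haveI : Fintype (T ⧸ H.subgroupOf T) := Fintype.ofFinite _
    refine le_trans (Finset.card_le_card (t := Finset.univ.image orb) fun z' hz' => ?_)
      (Finset.card_image_le.trans (le_of_eq ?_))
    · obtain ⟨hz'S, heq⟩ := Finset.mem_filter.mp hz'
      obtain ⟨hreq, hheq⟩ := Sigma.mk.inj_iff.mp heq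
      have hz'n := hfn z' hz'S
      obtain ⟨g, hg, hconj⟩ : ∃ g : G, g * z * g⁻¹ = z' ∧
          conjIdx g (⟨Subgroup.zpowers z, fb z⟩ : BrauerPairIdx G) = ⟨Subgroup.zpowers z', fb z'⟩ := by
        have hcong : ∀ (x x' : G) (φ : Set (IrrCharacter (Subgroup.centralizer ({x} : Set G))))
            (φ' : Set (IrrCharacter (Subgroup.centralizer ({x'} : Set G)))), x = x' → HEq φ φ' →
            subgroupBlockCoeff (Subgroup.centralizer ({x} : Set G)) φ =
              subgroupBlockCoeff (Subgroup.centralizer ({x'} : Set G)) φ' := by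
          rintro x x' φ φ' rfl h
          rw [eq_of_heq h]
        have hco := hcong _ _ _ _ hreq hheq
        rw [hφc z' hz'S, hφc z hz] at hco
        have hzz : gz z * z * (gz z)⁻¹ = gz z' * z' * (gz z')⁻¹ := by rw [hgz z hz, hgz z' hz'S, hreq]
        have hb : IsPBlock M (⟨Subgroup.zpowers z, fb z⟩ : BrauerPairIdx G).2 := (hfi z hz).1
        have hb' : IsPBlock M (⟨Subgroup.zpowers z', fb z'⟩ : BrauerPairIdx G).2 := (hfi z' hz'S).1
        refine ⟨(gz z')⁻¹ * gz z, ?_, ?_⟩
        · calc (gz z')⁻¹ * gz z * z * ((gz z')⁻¹ * gz z)⁻¹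
              = (gz z')⁻¹ * (gz z * z * (gz z)⁻¹) * gz z' := by group
            _ = z' := by rw [hzz]; group
        · have e1 : conjIdx (gz z) (⟨Subgroup.zpowers z, fb z⟩ : BrauerPairIdx G) =
              conjIdx (gz z') (⟨Subgroup.zpowers z', fb z'⟩ : BrauerPairIdx G) := by
            refine idx_ext hP ?_ (isPBlock_conjBlock _ hb) (isPBlock_conjBlock _ hb') fun y => ?_
            · simp only [MonoidHom.map_zpowers, MulEquiv.coe_toMonoidHom, MulAut.conj_apply, hzz]
            · exact (congrFun hco y).symm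
          rw [← conjIdx_mul hP _ _ _ hb, e1, conjIdx_mul hP _ _ _ hb', inv_mul_cancel, conjIdx_one hP _ hb']
      obtain ⟨t, ht, htz⟩ := fuse hM hmax (hfn z hz) hz'n (hmem z hz).2 (hmem z' hz'S).2 hg hconj
      exact Finset.mem_image.mpr ⟨QuotientGroup.mk ⟨t, hST ht⟩, Finset.mem_univ _, htz⟩
    · rw [Finset.card_univ, ← Nat.card_eq_fintype_card]; rfl
  have hcount : S.card ≤ H.relIndex T * (S.image Φ).card := by
    rw [Finset.card_eq_sum_card_image Φ S, mul_comm, ← smul_eq_mul, ← Finset.sum_const]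
    exact Finset.sum_le_sum hfib
  rw [hScard]
  calc S.card * p ^ blockHeight p B (χ : G → ℂ)
      ≤ H.relIndex T * (∑ x ∈ X, (F x).card) * p ^ blockHeight p B (χ : G → ℂ) :=
        Nat.mul_le_mul_right _ (hcount.trans (Nat.mul_le_mul_left _ himg))
    _ ≤ _ := by rw [mul_assoc]; exact Nat.mul_le_mul_left _ key

end Cfsg.Agent.Char.CentralPairs
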