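import Cfsg.Agent.Lib.Char.ThirdMain
import Cfsg.Agent.Lib.Char.Convolution
import Cfsg.Agent.Lib.Char.RelGlaubermanCentral

/-!
The principal block of a central product over a p-group.
-/

open scoped ComplexConjugate Pointwise
open Cfsg

namespace Cfsg.Agent.Char

universe u

variable {G : Type u} [Group G]

theorem regular_power_of [Finite G] (p : ℕ) [Fact p.Prime] {x : G} (hx : ¬ p ∣ orderOf x) :
    ∃ k : ℕ, x ^ k = x ∧ ∀ y : G, ¬ p ∣ orderOf (y ^ k) := by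
  have hp : p.Prime := Fact.out
  set a := (Nat.card G).factorization p with ha
  set t := Nat.totient (orderOf x) with ht
  have ht0 : 0 < t := Nat.totient_pos.2 (orderOf_pos x)
  refine ⟨p ^ (a * t), ?_, fun y hy => ?_⟩
  · have hco : p.Coprime (orderOf x) := hp.coprime_iff_not_dvd.2 hx
    have h1 : (p ^ t) ^ a ≡ 1 ^ a [MOD orderOf x] :=
      (Nat.ModEq.pow_totient hco).pow a
    rw [one_pow, ← pow_mul, mul_comm] at h1
    conv_rhs => rw [← pow_one x]
    exact pow_eq_pow_iff_modEq.2 h1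
  · have hdvd : orderOf (y ^ p ^ (a * t)) ∣ Nat.card G / p ^ a := by
      refine orderOf_dvd_of_pow_eq_one ?_
      rw [← pow_mul]
      refine orderOf_dvd_iff_pow_eq_one.1 ((orderOf_dvd_natCard y).trans ?_)
      calc Nat.card G = p ^ a * (Nat.card G / p ^ a) := (Nat.ordProj_mul_ordCompl_eq_self _ _).symm
        _ ∣ p ^ (a * t) * (Nat.card G / p ^ a) :=
            Nat.mul_dvd_mul_right (pow_dvd_pow p (Nat.le_mul_of_pos_right a ht0)) _
    exact Nat.not_dvd_ordCompl hp Nat.card_pos.ne' (hy.trans hdvd)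

theorem centralProduct_decomp {U₁ U₂ : Subgroup G} (hcomm : ∀ u ∈ U₁, ∀ v ∈ U₂, u * v = v * u)
    (hgen : U₁ ⊔ U₂ = ⊤) (x : G) : ∃ u ∈ U₁, ∃ v ∈ U₂, u * v = x := by
  have hx : x ∈ U₁ ⊔ U₂ := by rw [hgen]; trivial
  have hle : U₂ ≤ Subgroup.normalizer (U₁ : Set G) := fun v hv => by
    rw [Subgroup.mem_normalizer_iff]
    intro u
    constructor
    · intro hu
      rwa [← hcomm u hu v hv, mul_inv_cancel_right]
    · intro hu
      have h := hcomm _ hu v hv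
      have hv' : v * u * v⁻¹ = u := by
        have h2 : v * u = v * (v * u * v⁻¹) := by rw [← h]; group
        exact (mul_left_cancel h2).symm
      rwa [hv'] at hu
  rw [← SetLike.mem_coe, Subgroup.coe_mul_of_right_le_normalizer_left U₁ U₂ hle] at hx
  exact hx

theorem regular_of_mul [Finite G] (p : ℕ) [Fact p.Prime] {u v : G} (h : Commute u v)
    (hu : ¬ p ∣ orderOf u) (hv : ¬ p ∣ orderOf v) : ¬ p ∣ orderOf (u * v) := fun hd =>
  ((Fact.out : p.Prime).dvd_mul.1 (hd.trans h.orderOf_mul_dvd_mul_orderOf)).elim hu hv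

variable [Fintype G] {p : ℕ} [Fact p.Prime]

theorem centralProduct_regular_sum {U₁ U₂ : Subgroup G} [Fintype U₁] [Fintype U₂]
    (hcomm : ∀ u ∈ U₁, ∀ v ∈ U₂, u * v = v * u) (hgen : U₁ ⊔ U₂ = ⊤)
    (hZ : IsPGroup p ↥(U₁ ⊓ U₂)) (f : G → ℂ) :
    ∑ x : G, (regInd p : G → ℂ) x * f x =
      ∑ u : U₁, ∑ v : U₂, (regInd p : U₁ → ℂ) u * (regInd p : U₂ → ℂ) v * f (u * v) := by
  classical
  rw [← Fintype.sum_prod_type']
  symm
  have hlhs : ∀ q : U₁ × U₂,
      (regInd p : U₁ → ℂ) q.1 * (regInd p : U₂ → ℂ) q.2 * f (q.1 * q.2) =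
        if ¬ p ∣ orderOf (q.1 : G) ∧ ¬ p ∣ orderOf (q.2 : G) then f (q.1 * q.2) else 0 := by
    intro q
    simp only [regInd, Subgroup.orderOf_coe]
    split_ifs <;> simp_all
  have hrhs : ∀ x : G, (regInd p : G → ℂ) x * f x = if ¬ p ∣ orderOf x then f x else 0 := by
    intro x
    simp only [regInd]
    split_ifs <;> simp
  rw [Finset.sum_congr rfl fun q _ => hlhs q, Finset.sum_congr rfl fun x _ => hrhs x,
    ← Finset.sum_filter, ← Finset.sum_filter]
  refine Finset.sum_bij (fun q _ => (q.1 : G) * q.2) ?_ ?_ ?_ ?_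
  · intro q hq
    simp only [Finset.mem_filter, Finset.mem_univ, true_and] at hq ⊢
    exact regular_of_mul p (hcomm _ q.1.2 _ q.2.2) hq.1 hq.2
  · intro q hq r hr he
    simp only [Finset.mem_filter, Finset.mem_univ, true_and] at hq hr
    have hz : (r.1 : G)⁻¹ * q.1 = (r.2 : G) * (q.2 : G)⁻¹ := by
      have := congrArg (fun t => (r.1 : G)⁻¹ * t * (q.2 : G)⁻¹) he
      simpa [mul_assoc] using this
    have hmem : (r.1 : G)⁻¹ * q.1 ∈ U₁ ⊓ U₂ :=
      Subgroup.mem_inf.2 ⟨mul_mem (inv_mem r.1.2) q.1.2, by rw [hz]; exact mul_mem r.2.2 (inv_mem q.2.2)⟩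
    have hc : Commute (r.1 : G)⁻¹ (q.1 : G) := by
      have h1 : Commute (r.1 : G) ((r.1 : G)⁻¹ * q.1) := hcomm _ r.1.2 _ hmem.2
      have h2 : Commute (r.1 : G) ((r.1 : G) * ((r.1 : G)⁻¹ * q.1)) :=
        (Commute.refl _).mul_right h1
      rw [mul_inv_cancel_left] at h2
      exact h2.inv_left
    have hreg : ¬ p ∣ orderOf ((r.1 : G)⁻¹ * q.1) :=
      regular_of_mul p hc (by rw [orderOf_inv]; exact hr.1) hq.1
    obtain ⟨k, hk⟩ := hZ ⟨_, hmem⟩
    have h0 : orderOf ((r.1 : G)⁻¹ * q.1) ∣ p ^ k :=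
      orderOf_dvd_of_pow_eq_one (by simpa [Subtype.ext_iff] using hk)
    obtain ⟨j, -, hj⟩ := (Nat.dvd_prime_pow Fact.out).1 h0
    have hj0 : j = 0 := by
      by_contra hne
      exact hreg (hj ▸ dvd_pow_self p hne)
    rw [hj0, pow_zero, orderOf_eq_one_iff] at hj
    have e1 : q.1 = r.1 := Subtype.ext (inv_mul_eq_one.1 hj).symm
    refine Prod.ext e1 (Subtype.ext ?_)
    have h4 := he
    simp only [e1] at h4
    exact mul_left_cancel h4
  · intro x hx
    simp only [Finset.mem_filter, Finset.mem_univ, true_and] at hx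
    obtain ⟨u, hu, v, hv, rfl⟩ := centralProduct_decomp hcomm hgen x
    obtain ⟨k, hk, hreg⟩ := regular_power_of p hx
    refine ⟨(⟨u ^ k, pow_mem hu k⟩, ⟨v ^ k, pow_mem hv k⟩), ?_, ?_⟩
    · simp only [Finset.mem_filter, Finset.mem_univ, true_and]
      exact ⟨hreg u, hreg v⟩
    · show u ^ k * v ^ k = u * v
      rw [← (show Commute u v from hcomm u hu v hv).mul_pow, hk]
  · intro q _; rfl

theorem centralProduct_char_mul {U₁ U₂ : Subgroup G}
    (hcomm : ∀ u ∈ U₁, ∀ v ∈ U₂, u * v = v * u) (hgen : U₁ ⊔ U₂ = ⊤) {χ : G → ℂ}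
    (hχ : IsIrrCharacter G χ) {u v : G} (hu : u ∈ U₁) (hv : v ∈ U₂) :
    χ 1 * χ (u * v) = χ u * χ v := by
  have hN : (Nat.card G : ℂ) ≠ 0 := Nat.cast_ne_zero.2 Nat.card_pos.ne'
  have hconst : ∀ t : G, χ (u * (t * v * t⁻¹)) = χ (u * v) := by
    intro t
    obtain ⟨a, ha, b, hb, rfl⟩ := centralProduct_decomp hcomm hgen t
    have hbv : b * v * b⁻¹ ∈ U₂ := mul_mem (mul_mem hb hv) (inv_mem hb)
    have e1 : a * b * v * (a * b)⁻¹ = b * v * b⁻¹ := by
      calc a * b * v * (a * b)⁻¹ = a * (b * v * b⁻¹) * a⁻¹ := by group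
        _ = b * v * b⁻¹ := by rw [hcomm a ha _ hbv, mul_inv_cancel_right]
    have e2 : u * (b * v * b⁻¹) = b * (u * v) * b⁻¹ := by
      calc u * (b * v * b⁻¹) = (u * b) * v * b⁻¹ := by group
        _ = b * (u * v) * b⁻¹ := by rw [hcomm u hu b hb]; group
    rw [e1, e2]
    exact isClassFunction_character (irr_isCharacter hχ) (u * v) b
  have h := sum_conj_mul hχ u v
  rw [Finset.sum_congr rfl fun t _ => hconst t, Finset.sum_const, Finset.card_univ,
    nsmul_eq_mul, ← Nat.card_eq_fintype_card] at h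
  refine mul_left_cancel₀ hN ?_
  linear_combination h

theorem centralProduct_restrict {U₁ U₂ : Subgroup G} [Fintype U₁]
    (hcomm : ∀ u ∈ U₁, ∀ v ∈ U₂, u * v = v * u) (hgen : U₁ ⊔ U₂ = ⊤) (χ : IrrCharacter G)
    (ψ : IrrCharacter U₁) (h : classInner (fun u : U₁ => (χ : G → ℂ) u) (ψ : U₁ → ℂ) ≠ 0) :
    ∑ u : U₁, (regInd p : U₁ → ℂ) u * (χ : G → ℂ) u =
      (χ : G → ℂ) 1 * lam (ψ : U₁ → ℂ) (regInd p) := by
  haveI : U₁.Normal := ⟨fun u hu t => by
    obtain ⟨a, ha, b, hb, rfl⟩ := centralProduct_decomp hcomm hgen t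
    have e : a * b * u * (a * b)⁻¹ = a * u * a⁻¹ := by
      calc a * b * u * (a * b)⁻¹ = a * (b * u) * b⁻¹ * a⁻¹ := by group
        _ = a * u * a⁻¹ := by rw [← hcomm u hu b hb]; group
    rw [e]
    exact mul_mem (mul_mem ha hu) (inv_mem ha)⟩
  obtain ⟨c, hc⟩ := restrict_eq_of_invariant U₁ χ ψ h (fun g n => by
    obtain ⟨a, ha, b, hb, rfl⟩ := centralProduct_decomp hcomm hgen g
    have e : MulAut.conjNormal (a * b) n = (⟨a, ha⟩ : U₁) * n * (⟨a, ha⟩ : U₁)⁻¹ := by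
      apply Subtype.ext
      rw [MulAut.conjNormal_apply]
      push_cast
      calc a * b * (n : G) * (a * b)⁻¹ = a * (b * n) * b⁻¹ * a⁻¹ := by group
        _ = a * n * a⁻¹ := by rw [← hcomm n n.2 b hb]; group
    rw [e]
    exact isClassFunction_character (irr_isCharacter ψ.2) n _)
  have hc1 : (χ : G → ℂ) 1 = c * (ψ : U₁ → ℂ) 1 := by simpa using hc 1
  have hψ := irr_one_ne_zero ψ.2
  rw [lam, hc1, mul_assoc, mul_div_cancel₀ _ hψ, Finset.mul_sum]
  refine Finset.sum_congr rfl fun u _ => ?_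
  rw [hc u]
  ring

theorem centralProduct_principal {M : Ideal AlgInt} (hM : IsPModular p M) {U₁ U₂ : Subgroup G}
    [Fintype U₁] [Fintype U₂] (hcomm : ∀ u ∈ U₁, ∀ v ∈ U₂, u * v = v * u) (hgen : U₁ ⊔ U₂ = ⊤)
    (hZ : IsPGroup p ↥(U₁ ⊓ U₂)) (χ : IrrCharacter G) (ψ₁ : IrrCharacter U₁)
    (ψ₂ : IrrCharacter U₂)
    (h₁ : classInner (fun u : U₁ => (χ : G → ℂ) u) (ψ₁ : U₁ → ℂ) ≠ 0)
    (h₂ : classInner (fun u : U₂ => (χ : G → ℂ) u) (ψ₂ : U₂ → ℂ) ≠ 0) :
    χ ∈ principalBlock M G ↔ (ψ₁ ∈ principalBlock M U₁ ∧ ψ₂ ∈ principalBlock M U₂) := by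
  classical
  have hP := pmod_prime hM
  have e1 := centralProduct_restrict (p := p) hcomm hgen χ ψ₁ h₁
  have e2 := centralProduct_restrict (p := p) (fun u hu v hv => (hcomm v hv u hu).symm)
    (by rw [sup_comm]; exact hgen) χ ψ₂ h₂
  have hone := irr_one_ne_zero χ.2
  have key : lam (χ : G → ℂ) (regInd p) =
      lam (ψ₁ : U₁ → ℂ) (regInd p) * lam (ψ₂ : U₂ → ℂ) (regInd p) := by
    have : (χ : G → ℂ) 1 * ∑ x : G, (regInd p : G → ℂ) x * (χ : G → ℂ) x =
        ((χ : G → ℂ) 1 * lam (ψ₁ : U₁ → ℂ) (regInd p)) *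
          ((χ : G → ℂ) 1 * lam (ψ₂ : U₂ → ℂ) (regInd p)) := by
      rw [← e1, ← e2, centralProduct_regular_sum hcomm hgen hZ, Finset.sum_mul_sum, Finset.mul_sum]
      refine Finset.sum_congr rfl fun u _ => ?_
      rw [Finset.mul_sum]
      refine Finset.sum_congr rfl fun v _ => ?_
      have := centralProduct_char_mul hcomm hgen χ.2 u.2 v.2
      linear_combination (regInd p : U₁ → ℂ) u * (regInd p : U₂ → ℂ) v * this
    rw [lam, div_eq_iff hone]
    refine mul_left_cancel₀ hone ?_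
    linear_combination this
  have i1 := memLR_lam hP ψ₁.2 (isClassFunction_regInd p) (intClassFun_regInd (p := p) hP).2
  have i2 := memLR_lam hP ψ₂.2 (isClassFunction_regInd p) (intClassFun_regInd (p := p) hP).2
  rw [← lam_regInd_unit_iff hM χ, ← lam_regInd_unit_iff hM ψ₁, ← lam_regInd_unit_iff hM ψ₂, key]
  constructor
  · intro h
    exact ⟨fun h0 => h (memLI_mul_right hP h0 i2), fun h0 => h (memLI_mul_left hP i1 h0)⟩
  · rintro ⟨ha, hb⟩ h
    exact (memLI_mul_mem hP i1 i2 h).elim ha hb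

end Cfsg.Agent.Char
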