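import Cfsg.Agent.Lib.Char.SupportNormalP

/-!
# Coprime elements centralizing a subgroup and its centralizer in a `p`-group; chain normalizers
-/

set_option autoImplicit false

namespace Cfsg.Agent.Char

open Cfsg

universe u

variable {G : Type u} [Group G] [Finite G] {p : ℕ}

/-- A `p'`-element normalizing a `p`-group `P` which centralizes a subgroup `Q` and `C_P(Q)`
centralizes `P`. -/
theorem mem_centralizer_of_centralizes_centralizer (hp : p.Prime) {P Q : Subgroup G}
    (hP : IsPGroup p P) (hQP : Q ≤ P) {a : G} (ha : a ∈ Subgroup.normalizer (P : Set G))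
    (hreg : ¬ p ∣ orderOf a) (hQ : ∀ x ∈ Q, x * a = a * x)
    (hC : ∀ x ∈ P, x ∈ Subgroup.centralizer (Q : Set G) → x * a = a * x) :
    a ∈ Subgroup.centralizer (P : Set G) := by
  haveI := Fact.mk hp
  haveI : Group.IsNilpotent P := hP.isNilpotent
  set C : Subgroup P := (Subgroup.centralizer ({a} : Set G)).subgroupOf P with hCdef
  have hmem : ∀ x : P, x ∈ C ↔ a * (x : G) = (x : G) * a := fun x => by
    rw [hCdef, Subgroup.mem_subgroupOf, Subgroup.mem_centralizer_singleton_iff]
    exact eq_comm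
  suffices hCtop : C = ⊤ by
    intro x hx
    exact ((hmem ⟨x, hx⟩).mp (hCtop ▸ Subgroup.mem_top _)).symm
  apply normalizerCondition_iff_only_full_group_self_normalizing.mp
    Group.normalizerCondition_of_isNilpotent C
  refine le_antisymm (fun g hg => (hmem g).mpr ?_) Subgroup.le_normalizer
  set g' : G := a * (g : G) * a⁻¹ with hg'
  have hg'P : g' ∈ P := (Subgroup.mem_normalizer_iff.mp ha (g : G)).mp g.2
  set c : G := g' * (g : G)⁻¹ with hc
  have hcP : c ∈ P := mul_mem hg'P (inv_mem g.2)
  have hcC : c ∈ Subgroup.centralizer (Q : Set G) := by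
    intro x hx
    have hxC : (⟨x, hQP hx⟩ : P) ∈ C := (hmem _).mpr (hQ x hx).symm
    have h1 : g⁻¹ * ⟨x, hQP hx⟩ * g ∈ C := by
      have h2 := (Subgroup.mem_normalizer_iff.mp (inv_mem hg) _).mp hxC
      simpa using h2
    rw [hmem] at h1
    simp only [Subgroup.coe_mul, Subgroup.coe_inv] at h1
    have h3 : g'⁻¹ * x * g' = (g : G)⁻¹ * x * g := by
      calc g'⁻¹ * x * g' = a * (g : G)⁻¹ * (a⁻¹ * x * a) * g * a⁻¹ := by rw [hg']; group
        _ = a * ((g : G)⁻¹ * x * g) * a⁻¹ := by
          rw [mul_assoc a⁻¹, hQ x hx, inv_mul_cancel_left]; group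
        _ = (g : G)⁻¹ * x * g := by rw [h1, mul_inv_cancel_right]
    show x * c = c * x
    calc x * c = g' * (g'⁻¹ * x * g') * (g : G)⁻¹ := by rw [hc]; group
      _ = g' * ((g : G)⁻¹ * x * g) * (g : G)⁻¹ := by rw [h3]
      _ = c * x := by rw [hc]; group
  have hca : c * a = a * c := hC c hcP hcC
  have hstep : ∀ k : ℕ, a ^ k * (g : G) = c ^ k * g * a ^ k := by
    intro k
    induction k with
    | zero => simp
    | succ k ih =>
      have h4 : a * (g : G) = c * g * a := by rw [hc, hg']; group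
      rw [pow_succ' a k, mul_assoc, ih, ← mul_assoc, ← mul_assoc,
        (Commute.pow_right (show Commute a c from hca.symm) k).eq, mul_assoc (c ^ k) a, h4,
        pow_succ]
      group
  have hck : c ^ orderOf a = 1 := by
    have h5 := hstep (orderOf a)
    rw [pow_orderOf_eq_one, one_mul, mul_one] at h5
    exact mul_eq_right.mp h5.symm
  obtain ⟨k, hk⟩ := hP ⟨c, hcP⟩
  have hk' : c ^ p ^ k = 1 := by simpa using congrArg (fun y : P => (y : G)) hk
  have hc1 : c = 1 := by
    have h6 := pow_gcd_eq_one.mpr ⟨hck, hk'⟩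
    rwa [Nat.Coprime.gcd_eq_one (Nat.Coprime.pow_right k
      (hp.coprime_iff_not_dvd.mpr hreg).symm), pow_one] at h6
  have h7 : g' = g := by rw [← mul_inv_eq_one, ← hc, hc1]
  calc a * (g : G) = g' * a := by rw [hg']; group
    _ = (g : G) * a := by rw [h7]

omit [Finite G] in
/-- The first term of a chain lies in the intersection of the normalizers, and so does the
centralizer in each term of the previous one. -/
theorem mem_chain_normalizer {m : ℕ} {Q : Fin (m + 1) → Subgroup G} (hQ : Monotone Q) {N : Subgroup G}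
    (hN : ∀ g : G, g ∈ N ↔ ∀ i, g ∈ Subgroup.normalizer (Q i : Set G)) {i : Fin (m + 1)} {x : G}
    (hx : x ∈ Q i) (hc : ∀ j, j < i → x ∈ Subgroup.centralizer (Q j : Set G)) : x ∈ N := by
  rw [hN]
  intro j
  rcases lt_or_ge j i with h | h
  · exact Subgroup.centralizer_le_normalizer _ (hc j h)
  · exact Subgroup.le_normalizer (hQ h hx)

/-- A `p'`-element of a chain normalizer centralizing `Q_m ∩ N` centralizes `Q_m`. -/
theorem centralizes_top_of_chain (hp : p.Prime) {m : ℕ} {Q : Fin (m + 1) → Subgroup G} (hQ : Monotone Q)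
    (hQp : ∀ i, IsPGroup p (Q i)) {N : Subgroup G}
    (hN : ∀ g : G, g ∈ N ↔ ∀ i, g ∈ Subgroup.normalizer (Q i : Set G)) {a : G} (ha : a ∈ N)
    (hreg : ¬ p ∣ orderOf a) (hR : ∀ x ∈ Q (Fin.last m) ⊓ N, x * a = a * x) :
    a ∈ Subgroup.centralizer (Q (Fin.last m) : Set G) := by
  suffices h : ∀ i : Fin (m + 1), a ∈ Subgroup.centralizer (Q i : Set G) from h _
  intro i
  induction i using Fin.induction with
  | zero =>
    intro x hx
    exact hR x ⟨hQ (Fin.zero_le _) hx,
      mem_chain_normalizer hQ hN hx fun j hj => absurd hj (not_lt.mpr (Fin.zero_le j))⟩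
  | succ i ih =>
    refine mem_centralizer_of_centralizes_centralizer hp (hQp _)
      (hQ (Fin.castSucc_lt_succ (i := i)).le) ((hN a).mp ha _) hreg (fun x hx => ih x hx)
      fun x hx hxc => hR x ⟨hQ (Fin.le_last _) hx, mem_chain_normalizer hQ hN hx fun j hj => ?_⟩
    exact Subgroup.centralizer_le (hQ (Fin.le_castSucc_iff.mpr hj)) hxc

end Cfsg.Agent.Char
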