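import Mathlib.GroupTheory.Transfer
import Cfsg.Agent.Lib.Solv.Parts
import Cfsg.Agent.Lib.Solv.ThreeSolv

/-!
Primes dividing conjugacy class sizes. For a prime either at least half of the group has class size divisible
by it, or the Sylow subgroup is abelian with a normal complement; in the second case the prime acts coprimely
on the derived subgroup.
-/

set_option autoImplicit false

namespace Cfsg.Agent.ClassPrimes

open Subgroup

/-- If `N(P) ≠ C(P)` for a Sylow `p`-subgroup, `p` divides the class sizes of at least half of the elements. -/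
theorem half_le {G : Type*} [Group G] [Finite G] (p : ℕ) [Fact p.Prime]
    (P : Sylow p G)
    (hnc : ¬ Subgroup.normalizer ((P : Subgroup G) : Set G) ≤ Subgroup.centralizer ((P : Subgroup G) : Set G))
    (s : Finset G)
    (hs : ∀ x : G, p ∣ (Subgroup.centralizer ({x} : Set G)).index → x ∈ s) :
    Nat.card G ≤ 2 * s.card := by
  classical
  have : Fintype G := Fintype.ofFinite G
  set N : Subgroup G := Subgroup.normalizer ((P : Subgroup G) : Set G) with hN
  set C : Subgroup G := Subgroup.centralizer ((P : Subgroup G) : Set G) with hC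
  have hCN : C ≤ N := Subgroup.centralizer_le_normalizer _
  have hne : ¬ N ≤ C := hnc
  have htwo : 2 * Nat.card C ≤ Nat.card N := by
    have h1 : Nat.card C * C.relIndex N = Nat.card N := by
      rw [Subgroup.relIndex, ← Subgroup.card_mul_index (C.subgroupOf N),
        Nat.card_congr (Subgroup.subgroupOfEquivOfLe hCN).toEquiv]
    have h2 : C.relIndex N ≠ 0 := Subgroup.index_ne_zero_of_finite
    have h3 : C.relIndex N ≠ 1 := fun h => hne (Subgroup.relIndex_eq_one.1 h)
    rw [← h1, mul_comm 2]
    exact Nat.mul_le_mul le_rfl (by omega)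
  -- elements outside `s` centralise a conjugate of `P`
  let f : (G ⧸ N) × C → G := fun qc => qc.1.out * (qc.2 : G) * qc.1.out⁻¹
  have hcover : ∀ x : G, x ∉ s → ∃ qc, f qc = x := by
    intro x hx
    have hnd : ¬ p ∣ (Subgroup.centralizer ({x} : Set G)).index := fun h => hx (hs x h)
    obtain ⟨Q⟩ : Nonempty (Sylow p (Subgroup.centralizer ({x} : Set G))) := inferInstance
    set D : Subgroup G := Subgroup.centralizer ({x} : Set G) with hD
    -- a Sylow subgroup of the centraliser is one of the whole group
    set Q' : Subgroup G := (Q : Subgroup D).map D.subtype with hQ'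
    have hQp : IsPGroup p Q' := Q.isPGroup'.map _
    have hQi : ¬ p ∣ Q'.index := by
      rw [hQ', Subgroup.index_map_subtype]
      exact (Fact.out : p.Prime).not_dvd_mul Q.not_dvd_index hnd
    let R : Sylow p G := hQp.toSylow hQi
    obtain ⟨g, hg⟩ := MulAction.exists_smul_eq G P R
    set q : G ⧸ N := QuotientGroup.mk g with hq
    have hout : (q.out)⁻¹ * g ∈ N := by
      rw [← QuotientGroup.eq, QuotientGroup.out_eq']
    have hmem : q.out⁻¹ * x * q.out ∈ C := by
      rw [hC, Subgroup.mem_centralizer_iff]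
      intro y hy
      obtain ⟨z, hz, hzy⟩ : ∃ z ∈ (R : Subgroup G), q.out⁻¹ * z * q.out = y := by
        have hy' : q.out * y * q.out⁻¹ ∈ (R : Subgroup G) := by
          rw [← hg, Sylow.coe_subgroup_smul, Subgroup.mem_pointwise_smul_iff_inv_smul_mem]
          simp only [MulAut.inv_def, MulAut.smul_def, map_inv, MulAut.conj_symm_apply]
          have h7 := (Subgroup.mem_normalizer_iff.1 ((inv_mem hout) : (q.out⁻¹ * g)⁻¹ ∈ N) y).1 hy
          simpa [mul_assoc] using h7
        exact ⟨_, hy', by group⟩
      have hxz : x * z = z * x := by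
        have hzD : z ∈ D := by
          have hz' : z ∈ Q' := hz
          rw [hQ'] at hz'
          obtain ⟨w, -, hw⟩ := hz'
          rw [← hw]; exact w.2
        exact Subgroup.mem_centralizer_iff.1 hzD x rfl
      rw [← hzy]
      calc q.out⁻¹ * z * q.out * (q.out⁻¹ * x * q.out) = q.out⁻¹ * (z * x) * q.out := by group
        _ = q.out⁻¹ * (x * z) * q.out := by rw [hxz]
        _ = q.out⁻¹ * x * q.out * (q.out⁻¹ * z * q.out) := by group
    exact ⟨(q, ⟨_, hmem⟩), by simp only [f]; group⟩
  have hsub : Finset.univ \ s ⊆ (Finset.univ : Finset ((G ⧸ N) × C)).image f := by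
    intro x hx
    simp only [Finset.mem_sdiff, Finset.mem_univ, true_and] at hx
    obtain ⟨qc, h⟩ := hcover x hx
    exact Finset.mem_image.2 ⟨qc, Finset.mem_univ _, h⟩
  have h8 : Nat.card G - s.card ≤ N.index * Nat.card C := by
    have h := (Finset.card_le_card hsub).trans Finset.card_image_le
    rw [Finset.card_univ_diff, Finset.card_univ, ← Nat.card_eq_fintype_card,
      ← Nat.card_eq_fintype_card, Nat.card_prod] at h
    exact h
  have h9 : 2 * (N.index * Nat.card C) ≤ Nat.card G := by
    calc 2 * (N.index * Nat.card C) = N.index * (2 * Nat.card C) := by ring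
      _ ≤ N.index * Nat.card N := Nat.mul_le_mul le_rfl htwo
      _ = Nat.card G := N.index_mul_card
  omega

variable {G : Type*} [Group G]

/-- The Sylow `p`-subgroups satisfy `N(P) ≤ C(P)`. -/
def Ab (p : ℕ) (G : Type*) [Group G] : Prop :=
  ∀ P : Sylow p G, normalizer ((P : Subgroup G) : Set G) ≤ centralizer ((P : Subgroup G) : Set G)

theorem adj_of_not_ab [Finite G] {p q : ℕ} (hp : p.Prime) (hq : q.Prime) (hpq : p ≠ q)
    (hA : ¬ Ab p G) (hB : ¬ Ab q G) :
    ∃ x : G, p * q ∣ (centralizer ({x} : Set G)).index := by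
  classical
  have : Fintype G := Fintype.ofFinite G
  set s : ℕ → Finset G := fun r => Finset.univ.filter
    (fun x : G => r ∣ (centralizer ({x} : Set G)).index) with hs
  have key : ∀ r : ℕ, r.Prime → ¬ Ab r G → Nat.card G ≤ 2 * (s r).card ∧ (1 : G) ∉ s r := by
    intro r hr h
    have : Fact r.Prime := ⟨hr⟩
    obtain ⟨P, hP⟩ := not_forall.1 h
    refine ⟨half_le r P hP (s r) (fun x hx => by simpa [hs] using hx), ?_⟩
    have htop : centralizer ({(1 : G)} : Set G) = ⊤ := by
      ext y; simp [mem_centralizer_iff]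
    simp only [hs, Finset.mem_filter, Finset.mem_univ, true_and, htop, index_top, Nat.dvd_one]
    exact hr.one_lt.ne'
  obtain ⟨hp2, hp1⟩ := key p hp hA
  obtain ⟨hq2, hq1⟩ := key q hq hB
  by_contra hne
  push Not at hne
  have hdis : Disjoint (s p) (s q) := by
    rw [Finset.disjoint_left]
    intro x hx hx'
    simp only [hs, Finset.mem_filter, Finset.mem_univ, true_and] at hx hx'
    exact hne x (Nat.Coprime.mul_dvd_of_dvd_of_dvd ((Nat.coprime_primes hp hq).2 hpq) hx hx')
  have h1 : (s p ∪ s q).card < Nat.card G := by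
    rw [Nat.card_eq_fintype_card, Finset.card_lt_iff_ne_univ]
    intro h
    have := h ▸ Finset.mem_univ (1 : G)
    rw [Finset.mem_union] at this
    tauto
  rw [Finset.card_union_of_disjoint hdis] at h1
  omega

/-- The index of `C ⊓ K` in `K` divides the index of `C`, for normal `K`. -/
theorem relIndex_dvd_index [Finite G] (C K : Subgroup G) [K.Normal] :
    C.relIndex K ∣ C.index := by
  obtain ⟨m, hm⟩ := K.relIndex_dvd_index_of_normal C
  have h1 := relIndex_mul_index (inf_le_right : C ⊓ K ≤ K)
  have h2 := relIndex_mul_index (inf_le_left : C ⊓ K ≤ C)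
  rw [inf_relIndex_right] at h1
  rw [inf_relIndex_left] at h2
  refine Dvd.intro_left m ?_
  have hne : K.relIndex C ≠ 0 := index_ne_zero_of_finite
  refine Nat.eq_of_mul_eq_mul_left (Nat.pos_of_ne_zero hne) ?_
  rw [h2, ← h1, hm]; ring

theorem not_dvd_card_commutator [Finite G] {p : ℕ} [Fact p.Prime] (h : Ab p G) :
    ¬ p ∣ Nat.card (commutator G) := by
  let P : Sylow p G := default
  intro hdvd
  apply MonoidHom.not_dvd_card_ker_transferSylow P (h P)
  refine hdvd.trans (card_dvd_of_le ?_)
  rw [_root_.commutator_def, commutator_le]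
  intro a _ b _
  rw [MonoidHom.mem_ker, map_commutatorElement, commutatorElement_eq_one_iff_mul_comm]
  apply Subtype.ext
  exact (mem_centralizer_iff.1 (h P (le_normalizer
    ((MonoidHom.transferSylow P (h P) a).2))) _ (MonoidHom.transferSylow P (h P) b).2).symm

theorem sup_centralizer_eq_top [Finite G] {p : ℕ} [Fact p.Prime] (h : Ab p G) (P : Sylow p G) :
    centralizer ((P : Subgroup G) : Set G) ⊔ commutator G = ⊤ := by
  set L : Subgroup G := commutator G ⊔ (P : Subgroup G) with hL
  have : L.Normal := by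
    constructor
    intro n hn g
    have h1 : g * n * g⁻¹ * n⁻¹ ∈ commutator G :=
      commutator_mem_commutator (mem_top g) (mem_top n)
    have h2 := mul_mem ((le_sup_left : commutator G ≤ L) h1) hn
    simpa [mul_assoc] using h2
  have h2 := Sylow.normalizer_sup_eq_top' (N := L) P le_sup_right
  refine top_le_iff.1 (h2.symm.le.trans (sup_le ((h P).trans le_sup_left) ?_))
  exact sup_le le_sup_right ((le_normalizer.trans (h P)).trans le_sup_left)

/-- An element whose class size is prime to `p` has a `G'`-conjugate centralising `P`. -/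
theorem exists_conj_mem [Finite G] {p : ℕ} [Fact p.Prime] (h : Ab p G) (P : Sylow p G) {x : G}
    (hx : ¬ p ∣ (centralizer ({x} : Set G)).index) :
    ∃ k ∈ commutator G, k * x * k⁻¹ ∈ centralizer ((P : Subgroup G) : Set G) := by
  set D : Subgroup G := centralizer ({x} : Set G) with hD
  obtain ⟨Q⟩ : Nonempty (Sylow p D) := inferInstance
  set Q' : Subgroup G := (Q : Subgroup D).map D.subtype with hQ'
  have hQp : IsPGroup p Q' := Q.isPGroup'.map _
  have hQi : ¬ p ∣ Q'.index := by
    rw [hQ', index_map_subtype]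
    exact (Fact.out : p.Prime).not_dvd_mul Q.not_dvd_index hx
  let R : Sylow p G := hQp.toSylow hQi
  obtain ⟨g, hg⟩ := MulAction.exists_smul_eq G P R
  have hsup : g ∈ commutator G ⊔ centralizer ((P : Subgroup G) : Set G) := by
    rw [sup_comm, sup_centralizer_eq_top h P]; trivial
  obtain ⟨k, hk, c, hc, rfl⟩ := mem_sup_of_normal_left.1 hsup
  refine ⟨k⁻¹, inv_mem hk, mem_centralizer_iff.2 fun y hy => ?_⟩
  have hyR : k * y * k⁻¹ ∈ (R : Subgroup G) := by
    have hcy : c * y = y * c := (mem_centralizer_iff.1 hc y hy).symm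
    have : k * c * y * (k * c)⁻¹ ∈ (R : Subgroup G) := by
      rw [← hg, Sylow.coe_subgroup_smul]
      exact ⟨y, hy, by simp [MulAut.conj_apply, mul_assoc]⟩
    rw [show k * c * y * (k * c)⁻¹ = k * (c * y) * c⁻¹ * k⁻¹ by group, hcy] at this
    simpa [mul_assoc] using this
  have hxz : x * (k * y * k⁻¹) = (k * y * k⁻¹) * x := by
    have hz : k * y * k⁻¹ ∈ Q' := hyR
    rw [hQ'] at hz
    obtain ⟨w, -, hw⟩ := hz
    rw [← hw]
    exact mem_centralizer_iff.1 w.2 x rfl
  rw [inv_inv]
  calc y * (k⁻¹ * x * k) = k⁻¹ * ((k * y * k⁻¹) * x) * k := by group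
    _ = k⁻¹ * (x * (k * y * k⁻¹)) * k := by rw [hxz]
    _ = k⁻¹ * x * k * y := by group

theorem index_centralizer_conj [Finite G] (k x : G) :
    (centralizer ({k * x * k⁻¹} : Set G)).index = (centralizer ({x} : Set G)).index := by
  have h : centralizer ({k * x * k⁻¹} : Set G) =
      (centralizer ({x} : Set G)).map (MulAut.conj k).toMonoidHom := by
    ext y
    rw [mem_map_equiv, mem_centralizer_singleton_iff, mem_centralizer_singleton_iff,
      MulAut.conj_symm_apply]
    constructor <;> intro e
    · calc k⁻¹ * y * k * x = k⁻¹ * (y * (k * x * k⁻¹)) * k := by group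
        _ = k⁻¹ * (k * x * k⁻¹ * y) * k := by rw [e]
        _ = x * (k⁻¹ * y * k) := by group
    · calc y * (k * x * k⁻¹) = k * (k⁻¹ * y * k * x) * k⁻¹ := by group
        _ = k * (x * (k⁻¹ * y * k)) * k⁻¹ := by rw [e]
        _ = k * x * k⁻¹ * y := by group
  rw [h]
  exact index_map_equiv (centralizer ({x} : Set G)) (MulAut.conj k : G ≃* G)

/-- A prime dividing some class size moves some element of the derived subgroup. -/
theorem exists_good [Finite G] {p : ℕ} [Fact p.Prime] (h : Ab p G)
    (hp : ∃ x : G, p ∣ (centralizer ({x} : Set G)).index) :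
    ∃ g ∈ commutator G, p ∣ (centralizer ({g} : Set G)).index := by
  let P : Sylow p G := default
  by_contra hne
  push Not at hne
  set K := commutator G
  have hD : ((centralizer ((P : Subgroup G) : Set G)).subgroupOf K) = ⊤ := by
    refine Agent.Solv.eq_top_of_forall_conj_mem _ fun g => ?_
    obtain ⟨k, hk, hkx⟩ := exists_conj_mem h P (hne g.1 g.2)
    exact ⟨⟨k, hk⟩, mem_subgroupOf.2 hkx⟩
  have hKC : K ≤ centralizer ((P : Subgroup G) : Set G) := subgroupOf_eq_top.1 hD
  have htop : centralizer ((P : Subgroup G) : Set G) = ⊤ := by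
    have h1 := sup_centralizer_eq_top h P
    rwa [sup_of_le_left hKC] at h1
  obtain ⟨x, hx⟩ := hp
  have hPC : (P : Subgroup G) ≤ centralizer ({x} : Set G) := fun y hy =>
    mem_centralizer_singleton_iff.2
      (mem_centralizer_iff.1 ((htop ▸ mem_top x : x ∈ centralizer ((P : Subgroup G) : Set G))) y hy)
  exact P.not_dvd_index (hx.trans (index_dvd_of_le hPC))

end Cfsg.Agent.ClassPrimes
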