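import Cfsg.Agent.Lib.Fusion.Cores
import Mathlib

/-!
# Class sums avoiding the centralizer of the `p`-core
-/

set_option autoImplicit false
set_option linter.unusedSectionVars false
set_option linter.style.haveILetI false

namespace Cfsg.Agent.Char

universe u

variable {G : Type u} [Group G] [Finite G] {p : ℕ} [Fact p.Prime]

/-- Over the prime field. -/
theorem classSum_nilpotent_zmod [Fintype G] [DecidableEq G] (Q : Subgroup G) [Q.Normal]
    (hQ : IsPGroup p Q) (S : Finset G) (hS : ∀ x ∈ S, ∀ g : G, g * x * g⁻¹ ∈ S)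
    (hC : ∀ x ∈ S, x ∉ Subgroup.centralizer (Q : Set G)) :
    IsNilpotent (∑ x ∈ S, MonoidAlgebra.single x (1 : ZMod p)) := by
  classical
  have hp : p.Prime := Fact.out
  set A := MonoidAlgebra (ZMod p) G with hA
  set K : A := ∑ x ∈ S, MonoidAlgebra.single x (1 : ZMod p) with hK
  have hcen : ∀ g : G, MonoidAlgebra.single g (1 : ZMod p) * K =
      K * MonoidAlgebra.single g (1 : ZMod p) := by
    intro g
    rw [hK, Finset.mul_sum, Finset.sum_mul]
    refine Finset.sum_nbij' (fun x => g * x * g⁻¹) (fun x => g⁻¹ * x * g⁻¹⁻¹)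
      (fun x hx => hS x hx g) (fun x hx => hS x hx g⁻¹) (fun x _ => by group) (fun x _ => by group)
      fun x _ => by
        rw [MonoidAlgebra.single_mul_single, MonoidAlgebra.single_mul_single, inv_mul_cancel_right]
  haveI : Finite A := MonoidAlgebra.coeffEquiv.finite_iff.mpr inferInstance
  -- the image chain stabilizes
  have hanti : ∀ n : ℕ, Set.range (fun y => K ^ (n + 1) * y) ⊆ Set.range (fun y => K ^ n * y) := by
    rintro n _ ⟨y, rfl⟩
    exact ⟨K * y, by show K ^ n * (K * y) = K ^ (n + 1) * y; rw [← mul_assoc, ← pow_succ]⟩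
  obtain ⟨n, hn⟩ : ∃ n : ℕ, Set.range (fun y => K ^ (n + 1) * y) =
      Set.range (fun y => K ^ n * y) := by
    by_contra hno
    push Not at hno
    have hdec : ∀ n, (Set.range (fun y => K ^ n * y)).ncard + n ≤
        (Set.range (fun y => K ^ 0 * y)).ncard := by
      intro n
      induction n with
      | zero => rfl
      | succ n ih =>
        have hlt := Set.ncard_lt_ncard ((hanti n).ssubset_of_ne (hno n)) (Set.toFinite _)
        omega
    have := hdec ((Set.range (fun y => K ^ 0 * y)).ncard + 1)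
    omega
  refine ⟨n, ?_⟩
  by_contra hne
  set R := Set.range (fun y => K ^ n * y) with hR
  have hKR : ∀ v ∈ R, K * v ∈ R := by
    rintro _ ⟨y, rfl⟩
    exact ⟨K * y, by show K ^ n * (K * y) = K * (K ^ n * y); rw [← mul_assoc, ← mul_assoc,
      ← pow_succ, ← pow_succ']⟩
  have hinj : Set.InjOn (fun v => K * v) R := by
    refine Set.InjOn.mono subset_rfl ((Set.toFinite R).injOn_iff_bijOn_of_mapsTo hKR |>.mpr ?_)
    refine ((Set.toFinite R).surjOn_iff_bijOn_of_mapsTo hKR).mp ?_
    intro v hv
    rw [← hn] at hv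
    obtain ⟨y, rfl⟩ := hv
    exact ⟨K ^ n * y, ⟨y, rfl⟩, by
      show K * (K ^ n * y) = K ^ (n + 1) * y
      rw [← mul_assoc, ← pow_succ']⟩
  let W : AddSubgroup A := (AddMonoidHom.mulLeft (K ^ n)).range
  have hWR : ∀ v : A, v ∈ W ↔ v ∈ R := fun v => Iff.rfl
  letI : MulAction Q W :=
    { smul := fun q w => ⟨MonoidAlgebra.single (q : G) (1 : ZMod p) * w.1, by
        obtain ⟨y, hy⟩ := w.2
        refine ⟨MonoidAlgebra.single (q : G) (1 : ZMod p) * y, ?_⟩
        rw [← hy, AddMonoidHom.coe_mulLeft]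
        show K ^ n * (_ * y) = _ * (K ^ n * y)
        rw [← mul_assoc, ← mul_assoc,
          ((show Commute K (MonoidAlgebra.single (q : G) (1 : ZMod p)) from (hcen _).symm).pow_left n).eq]⟩
      one_smul := fun w => Subtype.ext (show _ * w.1 = w.1 by
        rw [OneMemClass.coe_one, ← MonoidAlgebra.one_def, one_mul])
      mul_smul := fun q r w => Subtype.ext (show _ * w.1 = _ * (_ * w.1) by
        rw [← mul_assoc, MonoidAlgebra.single_mul_single, mul_one, Subgroup.coe_mul]) }
  have hsmul : ∀ (q : Q) (w : W), (q • w).1 = MonoidAlgebra.single (q : G) (1 : ZMod p) * w.1 :=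
    fun _ _ => rfl
  have hchar : ∀ z : A, (p : ℕ) • z = 0 := fun z => by
    rw [← Nat.cast_smul_eq_nsmul (ZMod p), ZMod.natCast_self, zero_smul]
  have hW1 : K ^ n ∈ W := ⟨1, mul_one _⟩
  have hdvd : p ∣ Nat.card W := by
    have h1 : addOrderOf (⟨K ^ n, hW1⟩ : W) = p :=
      addOrderOf_eq_prime (Subtype.ext (hchar _)) fun h => hne (congrArg Subtype.val h)
    have h2 := addOrderOf_dvd_natCard (⟨K ^ n, hW1⟩ : W)
    rwa [h1] at h2
  have h0 : (0 : W) ∈ MulAction.fixedPoints Q W := fun q => Subtype.ext (by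
    rw [hsmul, ZeroMemClass.coe_zero, mul_zero])
  obtain ⟨v, hv, hv0⟩ := hQ.exists_fixed_point_of_prime_dvd_card_of_fixed_point W hdvd h0
  have hfix : ∀ q ∈ Q, MonoidAlgebra.single q (1 : ZMod p) * v.1 = v.1 := fun q hq => by
    have := congrArg Subtype.val (hv ⟨q, hq⟩)
    rwa [hsmul] at this
  have hKv : K * v.1 = 0 := by
    rw [hK, Finset.sum_mul]
    letI act : MulAction Q G := MulAction.compHom G (MulAut.conj.comp Q.subtype)
    have hact : ∀ (q : Q) (x : G), q • x = (q : G) * x * (q : G)⁻¹ := fun q x => rfl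
    rw [Finset.sum_partition (R := MulAction.orbitRel Q G)]
    refine Finset.sum_eq_zero fun c hc => ?_
    obtain ⟨x, hx, rfl⟩ := Finset.mem_image.mp hc
    have hset : (S.filter fun y => Quotient.mk (MulAction.orbitRel Q G) y =
        Quotient.mk (MulAction.orbitRel Q G) x) = Finset.univ.filter fun y => y ∈ MulAction.orbit Q x := by
      ext y
      simp only [Finset.mem_filter, Finset.mem_univ, true_and, Quotient.eq, MulAction.orbitRel_apply]
      refine ⟨fun h => h.2, fun h => ⟨?_, h⟩⟩
      obtain ⟨q, rfl⟩ := h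
      show q • x ∈ S
      rw [hact]
      exact hS x hx _
    rw [hset, Finset.sum_congr rfl (g := fun _ => MonoidAlgebra.single x (1 : ZMod p) * v.1) ?_,
      Finset.sum_const]
    · obtain ⟨k, hk⟩ := hQ.card_orbit x
      have hk0 : k ≠ 0 := by
        rintro rfl
        rw [pow_zero, Nat.card_coe_set_eq, Set.ncard_eq_one] at hk
        obtain ⟨z, hz⟩ := hk
        refine hC x hx (Subgroup.mem_centralizer_iff.mpr fun q hq => ?_)
        have h1 : (⟨q, hq⟩ : Q) • x = z := by
          have := MulAction.mem_orbit x (⟨q, hq⟩ : Q)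
          rwa [hz] at this
        have h2 : x = z := by
          have := MulAction.mem_orbit_self (M := Q) x
          rwa [hz] at this
        rw [← h2, hact] at h1
        exact mul_inv_eq_iff_eq_mul.mp h1
      have hcard : (Finset.univ.filter fun y => y ∈ MulAction.orbit Q x).card = p ^ k := by
        rw [← hk, Nat.card_eq_fintype_card, Fintype.card_subtype]
      obtain ⟨j, rfl⟩ := Nat.exists_eq_succ_of_ne_zero hk0
      rw [hcard, pow_succ, mul_nsmul, hchar]
    · intro y hy
      obtain ⟨q, rfl⟩ := (Finset.mem_filter.mp hy).2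
      show MonoidAlgebra.single (q • x) (1 : ZMod p) * v.1 = _
      have hm : x⁻¹ * (q : G) * x ∈ Q := by
        simpa using Subgroup.Normal.conj_mem (inferInstance : Q.Normal) _ q.2 x⁻¹
      have h1 : MonoidAlgebra.single (q : G)⁻¹ (1 : ZMod p) * v.1 = v.1 :=
        hfix _ (Q.inv_mem q.2)
      rw [hact, ← mul_one (1 : ZMod p), ← MonoidAlgebra.single_mul_single, mul_assoc, h1,
        show (q : G) * x = x * (x⁻¹ * (q : G) * x) by group, ← mul_one (1 : ZMod p),
        ← MonoidAlgebra.single_mul_single, mul_assoc, mul_one, hfix _ hm]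
      simp
  refine hv0 (Subtype.ext ?_)
  exact hinj ((hWR 0).mp W.zero_mem) ((hWR v.1).mp v.2) (show K * (0 : A) = K * v.1 by rw [hKv, mul_zero])

/-- Over an arbitrary field of characteristic `p`. -/
theorem classSum_nilpotent (F : Type*) [Field F] [CharP F p] (g : G)
    (hg : ∀ x : G, IsConj g x → x ∉ Subgroup.centralizer (pCore p G : Set G)) :
    IsNilpotent (∑ᶠ x ∈ ConjClasses.carrier (ConjClasses.mk g), MonoidAlgebra.single x (1 : F) :
      MonoidAlgebra F G) := by
  classical
  have := Fintype.ofFinite G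
  have hN : (pCore p G).Normal := Subgroup.sSup_normal _ fun _ h => h.1
  rw [finsum_mem_eq_toFinset_sum]
  set S := (ConjClasses.carrier (ConjClasses.mk g)).toFinset with hS
  have hmem : ∀ x, x ∈ S ↔ IsConj g x := fun x => by
    rw [hS, Set.mem_toFinset, ConjClasses.mem_carrier_iff_mk_eq, ConjClasses.mk_eq_mk_iff_isConj]
    exact isConj_comm
  have h := classSum_nilpotent_zmod (p := p) (pCore p G) (Fusion.isPGroup_pCore p G) S
    (fun x hx k => (hmem _).mpr (((hmem x).mp hx).trans (isConj_iff.mpr ⟨k, rfl⟩)))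
    fun x hx => hg x ((hmem x).mp hx)
  have h2 := h.map (MonoidAlgebra.mapRingHom G (ZMod.castHom (dvd_refl p) F))
  rw [map_sum] at h2
  simpa using h2

end Cfsg.Agent.Char
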