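import Cfsg.Agent.Lib.Char.CoherenceKernel

/-!
Coherence of the characters that are nontrivial on a central subgroup of a nilpotent kernel.
-/

set_option linter.unusedSectionVars false
set_option linter.style.haveILetI false

open scoped ComplexConjugate commutatorElement
open Cfsg

namespace Cfsg.Agent.Char

universe u v

variable {N : Type u} [Group N] [Fintype N] {G : Type v} [Group G] [Fintype G]

/-- A set of irreducible characters whose degrees are `e` times powers of `p` dividing the total weight. -/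
theorem coherent_ppower_degrees {p : ℕ} [Fact p.Prime] (hp2 : Nat.Coprime 2 p) (Y : Finset (N → ℂ))
    (hirr : ∀ χ ∈ Y, IsIrrCharacter N χ) (hconj : ∀ χ ∈ Y, conjFun χ ∈ Y ∧ conjFun χ ≠ χ) (hne : Y.Nonempty)
    {e : ℕ} (he0 : 0 < e) (b : (N → ℂ) → ℕ) (hb : ∀ χ ∈ Y, deg χ = e * p ^ b χ)
    (hdvd : ∀ χ ∈ Y, p ^ (2 * b χ) ∣ ∑ ξ ∈ Y, p ^ (2 * b ξ))
    (τ : (N → ℂ) → (G → ℂ)) (hτ : IsLinearIsometryOn (zspanOn (↑Y : Set (N → ℂ)) {1}ᶜ) τ)
    (hτ1 : ∀ α ∈ zspanOn (↑Y : Set (N → ℂ)) {1}ᶜ, τ α 1 = 0) :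
    IsCoherent (↑Y : Set (N → ℂ)) {1}ᶜ τ := by
  classical
  have hpos : 0 < p := (Fact.out : p.Prime).pos
  set F : ℕ → Finset (N → ℂ) := fun B => Y.filter fun χ => b χ ≤ B with hF
  have hFsub : ∀ B, F B ⊆ Y := fun B => Finset.filter_subset _ _
  have hbconj : ∀ χ ∈ Y, b (conjFun χ) = b χ := by
    intro χ hχ
    have h := (hb _ (hconj χ hχ).1).symm.trans (deg_conjFun.trans (hb χ hχ))
    exact Nat.pow_right_injective (Fact.out : p.Prime).two_le (Nat.eq_of_mul_eq_mul_left he0 h)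
  have hFconj : ∀ B, ∀ χ ∈ F B, conjFun χ ∈ F B := fun B χ hχ => by
    obtain ⟨h1, h2⟩ := Finset.mem_filter.1 hχ
    exact Finset.mem_filter.2 ⟨(hconj χ h1).1, by rw [hbconj χ h1]; exact h2⟩
  have hcoh : ∀ B, (F B).Nonempty → IsCoherent (↑(F B) : Set (N → ℂ)) {1}ᶜ τ := by
    intro B
    -- the lower degrees
    have base : ∀ B, (F B).Nonempty → (∀ χ ∈ F B, b χ = B) →
        IsCoherent (↑(F B) : Set (N → ℂ)) {1}ᶜ τ := by
      intro B hne hall
      obtain ⟨χ, hχ⟩ := hne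
      refine coherent_const_exceptional _ (fun ξ hξ => hirr ξ (hFsub B hξ)) ?_ (fun a ha c hc => ?_) τ
        (isometry_mono (Finset.coe_subset.2 (hFsub B)) hτ) (fun α hα => hτ1 α (zspanOn_mono (Finset.coe_subset.2 (hFsub B)) hα))
      · exact Finset.one_lt_card.2 ⟨χ, hχ, conjFun χ, hFconj B χ hχ,
          (hconj χ (hFsub B hχ)).2.symm⟩
      · rw [char_one_eq_deg (irr_isCharacter (hirr a (hFsub B ha))),
          char_one_eq_deg (irr_isCharacter (hirr c (hFsub B hc))), hb a (hFsub B ha), hb c (hFsub B hc),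
          hall a ha, hall c hc]
    induction B with
    | zero => exact fun hne => base 0 hne fun χ hχ => Nat.le_zero.1 (Finset.mem_filter.1 hχ).2
    | succ B ih =>
      intro hne
      rcases (F B).eq_empty_or_nonempty with hB | hB
      · refine base _ hne fun χ hχ => le_antisymm (Finset.mem_filter.1 hχ).2 ?_
        by_contra hlt
        exact Finset.notMem_empty χ (hB ▸ Finset.mem_filter.2 ⟨hFsub _ hχ, by omega⟩)
      obtain ⟨ψ, hψ, hmin⟩ := Finset.exists_min_image (F B) b hB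
      have hFF : F B ⊆ F (B + 1) := fun χ hχ => by
        obtain ⟨h1, h2⟩ := Finset.mem_filter.1 hχ
        exact Finset.mem_filter.2 ⟨h1, by omega⟩
      refine coherent_add_many (F B) (F (B + 1))
        (fun χ hχ => hirr χ ((Finset.mem_union.1 hχ).elim (fun h => hFsub B h) (fun h => hFsub _ h)))
        hFF τ (isometry_mono (Finset.coe_subset.2 (hFsub _)) hτ)
        (fun α hα => hτ1 α (zspanOn_mono (Finset.coe_subset.2 (hFsub _)) hα)) (ih hB) hψ fun χ hχ hχB => ?_
      obtain ⟨hχs, hχb⟩ := Finset.mem_filter.1 hχ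
      have hbB : b χ = B + 1 := by
        by_contra h
        exact hχB (Finset.mem_filter.2 ⟨hχs, by omega⟩)
      obtain ⟨hψs, hψb⟩ := Finset.mem_filter.1 hψ
      rw [hb ψ hψs, hb χ hχs, hbB]
      refine ⟨Nat.mul_dvd_mul_left e (pow_dvd_pow p (by omega)), ?_⟩
      -- the sum over the lower degrees
      set L := ∑ ξ ∈ F B, p ^ (2 * b ξ) with hL
      have hLsum : ∑ ξ ∈ F B, deg ξ ^ 2 = e ^ 2 * L := by
        rw [hL, Finset.mul_sum]
        refine Finset.sum_congr rfl fun ξ hξ => ?_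
        rw [hb ξ (hFsub B hξ), mul_pow, ← pow_mul, mul_comm (b ξ) 2]
      have hq : p ^ (2 * (B + 1)) ∣ L := by
        have hdS : p ^ (2 * (B + 1)) ∣ ∑ ξ ∈ Y, p ^ (2 * b ξ) := hbB ▸ hdvd χ hχs
        rw [← Finset.sum_sdiff (hFsub B), ← hL] at hdS
        refine (Nat.dvd_add_right (Finset.dvd_sum fun ξ hξ => ?_)).1 hdS
        obtain ⟨h1, h2⟩ := Finset.mem_sdiff.1 hξ
        refine pow_dvd_pow p ?_
        by_contra h
        exact h2 (Finset.mem_filter.2 ⟨h1, by omega⟩)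
      have hL2 : 2 ∣ L := even_sum_of_involution (F B) conjFun (hFconj B)
        (fun ξ hξ => (hconj ξ (hFsub B hξ)).2)
        (fun ξ _ => conjFun_conjFun ξ) _ (fun ξ hξ => by rw [hbconj ξ (hFsub B hξ)])
      have hLpos : 0 < L := Finset.sum_pos (fun ξ _ => pow_pos hpos _) hB
      have h2q : 2 * p ^ (2 * (B + 1)) ≤ L :=
        Nat.le_of_dvd hLpos ((hp2.pow_right _).mul_dvd_of_dvd_of_dvd hL2 hq)
      have hlt : p ^ b ψ < p ^ (B + 1) :=
        Nat.pow_lt_pow_right (Fact.out : p.Prime).one_lt (by omega)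
      have hkey : 2 * (p ^ b ψ * p ^ (B + 1)) < L := by
        refine lt_of_lt_of_le ?_ h2q
        rw [two_mul (B + 1), pow_add _ (B + 1) (B + 1)]
        have := Nat.mul_lt_mul_of_pos_right hlt (pow_pos hpos (B + 1))
        nlinarith [this]
      rw [hLsum]
      calc 2 * (e * p ^ b ψ) * (e * p ^ (B + 1)) = e ^ 2 * (2 * (p ^ b ψ * p ^ (B + 1))) := by ring
        _ < e ^ 2 * L := Nat.mul_lt_mul_of_pos_left hkey (pow_pos he0 2)
  have hall : F (Y.sup b) = Y :=
    Finset.filter_eq_self.2 fun χ hχ => Finset.le_sup hχ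
  exact hall ▸ hcoh _ (by rw [hall]; exact hne)

variable {τ : (N → ℂ) → (G → ℂ)} {R : (N → ℂ) → Finset (G → ℂ)}

theorem coherent_nontrivial_on_central (K : Subgroup N) [K.Normal] (hsolv : Group.IsSolvable K)
    (hS : IsCoherenceSystem (inducedIrrAbove K ⊥) τ R) (hodd : Odd (Nat.card N)) (hnil : Group.IsNilpotent K)
    (hH₁K : ⁅K, K⁆ < K)
    (hfrob : ∀ k ∈ K, k ∉ ⁅K, K⁆ → ∀ x : N, x * k * x⁻¹ * k⁻¹ ∈ ⁅K, K⁆ → x ∈ K)
    (Z : Subgroup N) [Z.Normal] (hZ1 : Z ≠ ⊥) (hZK : Z ≤ K) (hZc : ∀ z ∈ Z, ∀ k ∈ K, z * k = k * z)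
    (hirr : ∀ χ ∈ inducedIrrAbove K ⊥ \ inducedIrrAbove K Z, IsIrrCharacter N χ) :
    inducedIrrAbove K ⊥ \ inducedIrrAbove K Z = {χ | IsIrrCharacter N χ ∧ ∃ z ∈ Z, χ z ≠ χ 1} ∧
      IsCoherent (inducedIrrAbove K ⊥ \ inducedIrrAbove K Z) {1}ᶜ τ := by
  classical
  haveI := Fintype.ofFinite K
  -- a character induced from a nonconstant one is not induced from a constant one
  have hnot : ∀ θ : IrrCharacter K, (∃ z : K, (z : N) ∈ Z ∧ (θ : K → ℂ) z ≠ (θ : K → ℂ) 1) →
      indFun K (θ : K → ℂ) ∉ inducedIrrAbove K Z := by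
    rintro θ ⟨z, hz, hne⟩ ⟨θ', hθ', -, hker, he⟩
    have hIirr : classInner (fun k : K => indFun K (θ : K → ℂ) k) (θ : K → ℂ) ≠ 0 := fun h => by
      rw [← frobenius_right K _ (isClassFunction_indFun K _)] at h
      have h0 := congrFun (classInner_self_eq_zero h) 1
      rw [indFun_one] at h0
      exact mul_ne_zero (Nat.cast_ne_zero.2 Subgroup.index_ne_zero_of_finite) (irr_one_ne_zero θ.2) h0
    refine hne (const_constituent (F := fun k : K => indFun K θ' k)
      (isCharacter_comp K.subtype (isCharacter_indFun K (irr_isCharacter hθ'))) θ (he ▸ hIirr) (m := z) ?_)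
    rw [indFun_restrict_normal, indFun_restrict_normal]
    congr 1
    refine Finset.sum_congr rfl fun g _ => ?_
    rw [map_one]
    refine hker _ ?_
    rw [MulAut.conjNormal_apply]
    exact Subgroup.Normal.conj_mem inferInstance _ hz g
  have hset : inducedIrrAbove K ⊥ \ inducedIrrAbove K Z =
      {χ | IsIrrCharacter N χ ∧ ∃ z ∈ Z, χ z ≠ χ 1} := by
    ext χ
    constructor
    · intro hχ
      have hχi := hirr χ hχ
      obtain ⟨⟨θ, hθ, hne, -, he⟩, hnZ⟩ := hχ
      refine ⟨hχi, ?_⟩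
      by_contra hcon
      push Not at hcon
      refine hnZ ⟨θ, hθ, hne, fun a ha => ?_, he⟩
      refine const_constituent (F := fun k : K => χ k) (isCharacter_comp K.subtype (irr_isCharacter hχi))
        ⟨θ, hθ⟩ ?_ (m := a) ?_
      · rw [← frobenius_right K _ (isClassFunction_character (irr_isCharacter hχi))]
        show classInner χ (indFun K θ) ≠ 0
        rw [← he, irr_self hχi]
        exact one_ne_zero
      · show χ (a : N) = χ ((1 : K) : N)
        exact hcon _ ha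
    · rintro ⟨hχi, z, hz, hne⟩
      have hres : IsCharacter K (fun k : K => χ k) := isCharacter_comp K.subtype (irr_isCharacter hχi)
      obtain ⟨θ, hθ, hθz⟩ : ∃ θ : IrrCharacter K, classInner (fun k : K => χ k) (θ : K → ℂ) ≠ 0 ∧
          (θ : K → ℂ) ⟨z, hZK hz⟩ ≠ (θ : K → ℂ) 1 := by
        by_contra hcon
        push Not at hcon
        apply hne
        have h := classFun_expansion (isClassFunction_character hres)
        have h1 := congrFun h ⟨z, hZK hz⟩
        have h2 := congrFun h 1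
        simp only [Finset.sum_apply, Pi.smul_apply, smul_eq_mul] at h1 h2
        change χ z = _ at h1
        rw [h1, ← OneMemClass.coe_one K, h2]
        refine Finset.sum_congr rfl fun φ _ => ?_
        by_cases h0 : classInner (fun k : K => χ k) (φ : K → ℂ) = 0
        · rw [h0, zero_mul, zero_mul]
        · rw [hcon φ h0]
      have hmem : indFun K (θ : K → ℂ) ∈ inducedIrrAbove K ⊥ \ inducedIrrAbove K Z :=
        ⟨⟨θ, θ.2, fun e => hθz (by rw [e]), fun a ha => by rw [show a = 1 from Subtype.ext (Subgroup.mem_bot.1 ha)],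
          rfl⟩, hnot θ ⟨⟨z, hZK hz⟩, hz, hθz⟩⟩
      have he : χ = indFun K (θ : K → ℂ) := by
        by_contra hne'
        apply hθ
        rw [← frobenius_right K _ (isClassFunction_character (irr_isCharacter hχi)),
          irr_orth hχi (hirr _ hmem), if_neg hne']
      exact he ▸ hmem
  refine ⟨hset, ?_⟩
  set Y := iiaFin K ⊥ \ iiaFin K Z with hY
  have hYc : (↑Y : Set (N → ℂ)) = inducedIrrAbove K ⊥ \ inducedIrrAbove K Z := by
    rw [hY, Finset.coe_sdiff, iiaFin_coe, iiaFin_coe]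
  have hYmem : ∀ χ ∈ Y, χ ∈ inducedIrrAbove K ⊥ \ inducedIrrAbove K Z := fun χ hχ => hYc ▸ hχ
  have hYirr : ∀ χ ∈ Y, IsIrrCharacter N χ := fun χ hχ => hirr χ (hYmem χ hχ)
  have hYconj : ∀ χ ∈ Y, conjFun χ ∈ Y ∧ conjFun χ ≠ χ := fun χ hχ => by
    obtain ⟨h1, h2⟩ := hYmem χ hχ
    refine ⟨?_, hS.conj_ne χ h1⟩
    rw [hY, Finset.mem_sdiff, mem_iiaFin, mem_iiaFin]
    exact ⟨conjFun_iia K h1, fun h => h2 (by have := conjFun_iia K h; rwa [conjFun_conjFun] at this)⟩
  -- the weight of `Y`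
  choose! d hd using fun φ (hφ : φ ∈ inducedIrrAbove K ⊥) => charOne_eq_natCast (hS.isCharacter φ hφ)
  choose! n hn0 hn using fun φ (hφ : φ ∈ inducedIrrAbove K ⊥) => cohSys_norm hS hφ
  have hw0 := iia_weight K hS (subset_refl _) d n hd hn (A := ⊥)
  have hwZ := iia_weight K hS (iia_subset_bot K Z) d n hd hn
  have hsub : iiaFin K Z ⊆ iiaFin K ⊥ := fun φ hφ => (mem_iiaFin K).2 (iia_subset_bot K Z ((mem_iiaFin K).1 hφ))
  have hrel : Z.relIndex K * Nat.card Z = Nat.card K := by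
    have h := Subgroup.relIndex_mul_relIndex ⊥ Z K bot_le hZK
    rwa [Subgroup.relIndex_bot_left, Subgroup.relIndex_bot_left, mul_comm] at h
  have hweight : ∑ χ ∈ Y, (deg χ : ℝ) ^ 2 = (K.index : ℝ) * ((Z.relIndex K : ℝ) * ((Nat.card Z : ℝ) - 1)) := by
    have h := Finset.sum_sdiff (f := fun φ => (d φ : ℝ) ^ 2 / (n φ : ℝ)) hsub
    rw [hw0, hwZ, Subgroup.relIndex_bot_left, ← hrel] at h
    rw [Finset.sum_congr (s₁ := Y) rfl (g := fun φ => (d φ : ℝ) ^ 2 / (n φ : ℝ)) fun χ hχ => ?_]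
    · rw [hY]
      push_cast at h
      linear_combination h
    · have h1 := (hYmem χ hχ).1
      have e1 : deg χ = d χ := by
        have := (char_one_eq_deg (irr_isCharacter (hYirr χ hχ))).symm.trans (hd χ h1)
        exact_mod_cast this
      have e2 : n χ = 1 := by
        have := (hn χ h1).symm.trans (irr_self (hYirr χ hχ))
        exact_mod_cast this
      rw [e1, e2, Nat.cast_one, div_one]
  have hZcard : 1 < Nat.card Z := (Subgroup.one_lt_card_iff_ne_bot Z).2 hZ1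
  have hidx : 0 < K.index := Nat.pos_of_ne_zero Subgroup.index_ne_zero_of_finite
  have hYne : Y.Nonempty := by
    by_contra hemp
    rw [Finset.not_nonempty_iff_eq_empty] at hemp
    rw [hemp, Finset.sum_empty] at hweight
    have h1 : (0 : ℝ) < (K.index : ℝ) * ((Z.relIndex K : ℝ) * ((Nat.card Z : ℝ) - 1)) := by
      have e1 : (1 : ℝ) < (Nat.card Z : ℝ) := by exact_mod_cast hZcard
      have e2 : (0 : ℝ) < (Z.relIndex K : ℝ) := by exact_mod_cast Nat.pos_of_ne_zero Subgroup.index_ne_zero_of_finite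
      have e3 : (0 : ℝ) < (K.index : ℝ) := by exact_mod_cast hidx
      exact mul_pos e3 (mul_pos e2 (by linarith))
    linarith
  by_cases hpp : ∃ p m : ℕ, p.Prime ∧ Nat.card K = p ^ m
  swap
  · -- not of prime power order: everything is coherent
    haveI : ((⊥ : Subgroup N).subgroupOf K).Normal := Subgroup.Normal.comap inferInstance _
    haveI := hnil
    haveI : (⁅K, K⁆).Normal := Subgroup.commutator_normal K K
    have hall := coherence_of_kernel K ⁅K, K⁆ hsolv hS hodd ⊥ bot_le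
      (Group.nilpotent_of_surjective _ (QuotientGroup.mk'_surjective _)) (sup_bot_eq _).symm hH₁K hfrob
      (Or.inr (Or.inr (Or.inl (by rwa [Subgroup.relIndex_bot_left]))))
    obtain ⟨χ, hχ⟩ := hYne
    obtain ⟨hc1, hc2⟩ := hYconj χ hχ
    rw [← hYc]
    exact coherent_subset hall (fun x hx => (hYmem x hx).1) hχ hc1 hc2
      (cohSys_conj_one hS (hYmem χ hχ).1)
  obtain ⟨p, m, hp, hm⟩ := hpp
  haveI := Fact.mk hp
  have hpdvd : p ∣ Nat.card K := by
    rcases Nat.eq_zero_or_pos m with h0 | h0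
    · rw [h0, pow_zero] at hm
      exact absurd (hrel.trans hm) (by
        have : 1 ≤ Z.relIndex K := Nat.pos_of_ne_zero Subgroup.index_ne_zero_of_finite
        nlinarith)
    · exact hm ▸ dvd_pow_self p h0.ne'
  have hp2 : Nat.Coprime 2 p := by
    refine (Nat.coprime_primes Nat.prime_two hp).2 ?_
    rintro rfl
    exact hodd.not_two_dvd_nat (hpdvd.trans K.card_subgroup_dvd_card)
  have hcop : Nat.Coprime p K.index := by
    haveI : (⁅K, K⁆).Normal := Subgroup.commutator_normal K K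
    obtain ⟨a, ha⟩ := relIndex_modEq_one K ⁅K, K⁆ hH₁K.le hfrob ⁅K, K⁆ le_rfl hH₁K.le
    refine hp.coprime_iff_not_dvd.2 fun hd' => ?_
    have h1 : ⁅K, K⁆.relIndex K ∣ p ^ m := hm ▸ (⁅K, K⁆.subgroupOf K).index_dvd_card
    obtain ⟨j, -, hj⟩ := (Nat.dvd_prime_pow hp).1 h1
    rcases Nat.eq_zero_or_pos j with h0 | h0
    · rw [h0, pow_zero] at hj
      exact hH₁K.not_ge (Subgroup.relIndex_eq_one.1 hj)
    · have h2 : p ∣ K.index * a + 1 := ha ▸ hj ▸ dvd_pow_self p h0.ne'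
      exact hp.one_lt.ne' (Nat.dvd_one.1 ((Nat.dvd_add_right (hd'.mul_right a)).1 h2))
  have hdeg : ∀ χ ∈ Y, ∃ b : ℕ, deg χ = K.index * p ^ b ∧ p ^ (2 * b) ∣ Z.relIndex K := by
    intro χ hχ
    obtain ⟨θ, -, -, -, h1⟩ := iia_deg K (hYmem χ hχ).1
    rw [char_one_eq_deg (irr_isCharacter (hYirr χ hχ))] at h1
    obtain ⟨b, -, hb⟩ := (Nat.dvd_prime_pow hp).1 (hm ▸ deg_dvd_card θ.2 : deg (θ : K → ℂ) ∣ p ^ m)
    refine ⟨b, by rw [← hb]; exact_mod_cast h1, ?_⟩
    have hbd := deg_sq_le_of_central_section (⊥ : Subgroup K) (Z.subgroupOf K) ⊤ le_top bot_le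
      (fun x hx y _ => by
        rw [Subgroup.mem_bot]
        have : x * y = y * x := Subtype.ext (hZc _ (Subgroup.mem_subgroupOf.1 hx) _ y.2)
        rw [this]; group) θ (fun b hb => by rw [Subgroup.mem_bot.1 hb])
    rw [Subgroup.index_top, one_pow, one_mul, Subgroup.relIndex_top_right, hb, ← pow_mul, mul_comm b 2] at hbd
    obtain ⟨a, -, ha⟩ := (Nat.dvd_prime_pow hp).1 (hm ▸ (Z.subgroupOf K).index_dvd_card : Z.relIndex K ∣ p ^ m)
    change p ^ (2 * b) ≤ Z.relIndex K at hbd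
    rw [ha] at hbd ⊢
    exact pow_dvd_pow p ((Nat.pow_le_pow_iff_right hp.one_lt).1 hbd)
  choose! b hb hbd using hdeg
  rw [← hYc]
  refine coherent_ppower_degrees hp2 Y hYirr hYconj hYne hidx b hb (fun χ hχ => ?_) τ
    (isometry_mono (fun x hx => (hYmem x hx).1) hS.isometry)
    (fun α hα => hS.map_one α (zspanOn_mono (fun x hx => (hYmem x hx).1) hα))
  set S := ∑ ξ ∈ Y, p ^ (2 * b ξ) with hSdef
  have hnat : K.index * S = Z.relIndex K * (Nat.card Z - 1) := by
    have h1 : ∑ χ ∈ Y, (deg χ : ℝ) ^ 2 = (K.index : ℝ) * ((K.index : ℝ) * (S : ℝ)) := by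
      rw [hSdef, Nat.cast_sum, Finset.mul_sum, Finset.mul_sum]
      refine Finset.sum_congr rfl fun ξ hξ => ?_
      rw [hb ξ hξ]
      push_cast
      ring
    rw [hweight] at h1
    have h2 := mul_left_cancel₀ (Nat.cast_ne_zero.2 hidx.ne') h1
    rw [← Nat.cast_one, ← Nat.cast_sub hZcard.le] at h2
    exact_mod_cast h2.symm
  refine Nat.Coprime.dvd_of_dvd_mul_left (hcop.pow_left _) ?_
  rw [hnat]
  exact (hbd χ hχ).mul_right _

end Cfsg.Agent.Char
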