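import Cfsg.Agent.Lib.Char.FrobCoherenceBasic

/-!
Feit's coherence theorem for Frobenius groups.
-/

set_option linter.unusedSectionVars false

open scoped ComplexConjugate commutatorElement
open Cfsg

namespace Cfsg.Agent.Char

universe u v

section General

variable {L : Type u} [Group L] [Fintype L] {G : Type v} [Group G] [Fintype G]

theorem isometry_mono {S T : Set (L → ℂ)} (h : S ⊆ T) {τ : (L → ℂ) → (G → ℂ)}
    (hτ : IsLinearIsometryOn (zspanOn T {1}ᶜ) τ) : IsLinearIsometryOn (zspanOn S {1}ᶜ) τ :=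
  ⟨fun a ha b hb => hτ.1 a (zspanOn_mono h ha) b (zspanOn_mono h hb),
    fun a ha => hτ.2.1 a (zspanOn_mono h ha),
    fun a ha b hb => hτ.2.2.1 a (zspanOn_mono h ha) b (zspanOn_mono h hb),
    fun a ha => hτ.2.2.2 a (zspanOn_mono h ha)⟩

/-- Irreducible characters of one degree form a coherent set. -/
theorem coherent_const_exceptional (F : Finset (L → ℂ)) (hirr : ∀ χ ∈ F, IsIrrCharacter L χ)
    (h2 : 2 ≤ F.card) (hdeg : ∀ χ ∈ F, ∀ ξ ∈ F, χ 1 = ξ 1) (τ : (L → ℂ) → (G → ℂ))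
    (hτ : IsLinearIsometryOn (zspanOn (↑F : Set (L → ℂ)) {1}ᶜ) τ)
    (hτ1 : ∀ α ∈ zspanOn (↑F : Set (L → ℂ)) {1}ᶜ, τ α 1 = 0) :
    IsCoherent (↑F : Set (L → ℂ)) {1}ᶜ τ := by
  classical
  obtain ⟨χ₀, hχ₀, χ₁, hχ₁, hne⟩ := Finset.one_lt_card.1 h2
  have hd : ∀ χ ∈ F, χ - χ₀ ∈ zspanOn (↑F : Set (L → ℂ)) {1}ᶜ := fun χ hχ =>
    cohSys_diff_mem (Finset.mem_coe.2 hχ) (Finset.mem_coe.2 hχ₀) (hdeg χ hχ χ₀ hχ₀)
  have horth : ∀ a ∈ F, ∀ b ∈ F, classInner a b = if a = b then 1 else 0 := fun a ha b hb =>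
    irr_orth (hirr a ha) (hirr b hb)
  obtain ⟨e⟩ := (Fintype.truncEquivFin F).nonempty
  set t : Fin (Fintype.card F) → (G → ℂ) := fun i => τ ((e.symm i : L → ℂ) - χ₀) with ht
  have h0 : t (e ⟨χ₀, hχ₀⟩) = 0 := by
    simp only [ht, Equiv.symm_apply_apply, sub_self]
    have h := iso_smul hτ (zspanOn_zero (↑F : Set (L → ℂ)) {1}ᶜ) 0
    simpa using h
  obtain ⟨ε, hε, μ, hμ, hμi, hμe⟩ := exists_exceptional (Fintype.card F) (e ⟨χ₀, hχ₀⟩) t h0
    (fun i => hτ.2.2.2 _ (hd _ (e.symm i).2)) (fun i => hτ1 _ (hd _ (e.symm i).2))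
    (fun i j hi hj => by
      have hi' : (e.symm i : L → ℂ) ≠ χ₀ := fun h => hi (by
        rw [← e.apply_symm_apply i]; exact congrArg e (Subtype.ext h))
      have hj' : (e.symm j : L → ℂ) ≠ χ₀ := fun h => hj (by
        rw [← e.apply_symm_apply j]; exact congrArg e (Subtype.ext h))
      show classInner (τ _) (τ _) = _
      rw [hτ.2.2.1 _ (hd _ (e.symm i).2) _ (hd _ (e.symm j).2)]
      simp only [classInner_sub_left, classInner_sub_right, horth _ (e.symm i).2 _ (e.symm j).2,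
        horth _ (e.symm i).2 _ hχ₀, horth _ hχ₀ _ (e.symm j).2, horth _ hχ₀ _ hχ₀, if_true,
        if_neg hi', if_neg hj'.symm]
      by_cases h : i = j
      · rw [if_pos h, if_pos (by rw [h])]; norm_num
      · rw [if_neg h, if_neg (fun h' => h (e.symm.injective (Subtype.ext h')))]; norm_num)
  set f : (L → ℂ) → (G → ℂ) := fun χ => if h : χ ∈ F then ε • μ (e ⟨χ, h⟩) else 0 with hf
  have hfF : ∀ χ (h : χ ∈ F), f χ = ε • μ (e ⟨χ, h⟩) := fun χ h => dif_pos h
  have hεε : ε * conj ε = 1 := by rcases hε with rfl | rfl <;> simp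
  refine isCoherent_of_images F τ (fun a ha b hb h => by rw [horth a ha b hb, if_neg h])
    (fun a ha => by rw [horth a ha a ha, if_pos rfl]; exact one_ne_zero) f ?_ ?_
    ⟨χ₁ - χ₀, hd χ₁ hχ₁, sub_ne_zero.2 hne.symm⟩ ?_
  · intro χ hχ
    rw [hfF χ hχ]
    have hg : IsGeneralizedCharacter G (μ (e ⟨χ, hχ⟩)) :=
      ⟨μ (e ⟨χ, hχ⟩), 0, irr_isCharacter (hμ _), isCharacter_zero, (sub_zero _).symm⟩
    rcases hε with rfl | rfl
    · rwa [one_smul]
    · simpa using isGenChar_int_smul hg (-1)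
  · intro a ha b hb
    rw [hfF a ha, hfF b hb, classInner_smul_left, classInner_smul_right, ← mul_assoc, hεε, one_mul,
      irr_orth (hμ _) (hμ _), horth a ha b hb]
    by_cases h : a = b
    · subst h; rw [if_pos rfl, if_pos rfl]
    · rw [if_neg h, if_neg fun h' => h (congrArg Subtype.val (e.injective (hμi h')))]
  · intro c hc
    have hd0 : χ₀ 1 ≠ 0 := irr_one_ne_zero (hirr χ₀ hχ₀)
    have hc0 : ∑ φ ∈ F, (c φ : ℂ) = 0 := by
      rw [Finset.sum_congr rfl fun φ hφ => by rw [hdeg φ hφ χ₀ hχ₀], ← Finset.sum_mul] at hc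
      exact (mul_eq_zero.1 hc).resolve_right hd0
    have e1 : ∑ φ ∈ F, (c φ : ℂ) • φ = ∑ φ ∈ F, (c φ : ℂ) • (φ - χ₀) := by
      simp only [smul_sub]
      rw [Finset.sum_sub_distrib, ← Finset.sum_smul, hc0, zero_smul, sub_zero]
    rw [e1, (iso_sum hτ F (fun φ => φ - χ₀) c hd).2,
      Finset.sum_congr rfl (g := fun φ => (c φ : ℂ) • (f φ - f χ₀)) (s₁ := F)
        (f := fun φ => (c φ : ℂ) • τ (φ - χ₀)) fun φ hφ => by
        have h := hμe (e ⟨φ, hφ⟩)
        simp only [ht, Equiv.symm_apply_apply] at h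
        rw [h, hfF φ hφ, hfF χ₀ hχ₀, smul_sub ε]]
    simp only [smul_sub]
    rw [Finset.sum_sub_distrib, ← Finset.sum_smul, hc0, zero_smul, sub_zero]

/-- Adding many characters to a coherent set. -/
theorem coherent_add_many (S₀ T : Finset (L → ℂ)) (hirr : ∀ χ ∈ S₀ ∪ T, IsIrrCharacter L χ)
    (hsub : S₀ ⊆ T) (τ : (L → ℂ) → (G → ℂ))
    (hτ : IsLinearIsometryOn (zspanOn (↑T : Set (L → ℂ)) {1}ᶜ) τ)
    (hτ1 : ∀ α ∈ zspanOn (↑T : Set (L → ℂ)) {1}ᶜ, τ α 1 = 0)
    (hcoh : IsCoherent (↑S₀ : Set (L → ℂ)) {1}ᶜ τ) {ψ : L → ℂ} (hψ : ψ ∈ S₀)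
    (hnew : ∀ χ ∈ T, χ ∉ S₀ → deg ψ ∣ deg χ ∧ 2 * deg ψ * deg χ < ∑ ξ ∈ S₀, deg ξ ^ 2) :
    IsCoherent (↑T : Set (L → ℂ)) {1}ᶜ τ := by
  classical
  suffices h : ∀ U : Finset (L → ℂ), U ⊆ T \ S₀ →
      IsCoherent (↑(S₀ ∪ U) : Set (L → ℂ)) {1}ᶜ τ by
    have h' := h _ subset_rfl
    rwa [Finset.union_sdiff_of_subset hsub] at h'
  intro U
  induction U using Finset.induction_on with
  | empty => intro _; rwa [Finset.union_empty]
  | insert χ U hχU ih =>
    intro hU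
    have hχ := Finset.mem_sdiff.1 (hU (Finset.mem_insert_self χ U))
    have hU' : U ⊆ T \ S₀ := fun x hx => hU (Finset.mem_insert_of_mem hx)
    have hall : ∀ ξ ∈ S₀ ∪ U, ξ ∈ T := fun ξ hξ =>
      (Finset.mem_union.1 hξ).elim (fun h => hsub h) (fun h => (Finset.mem_sdiff.1 (hU' h)).1)
    have hsub' : insert χ (↑(S₀ ∪ U) : Set (L → ℂ)) ⊆ (↑T : Set (L → ℂ)) := by
      intro x hx
      rcases hx with rfl | hx
      exacts [hχ.1, hall x hx]
    have hT : ∀ ξ ∈ T, IsIrrCharacter L ξ := fun ξ hξ => hirr ξ (Finset.mem_union_right _ hξ)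
    rw [Finset.union_insert, Finset.coe_insert]
    refine feit_criterion (S₀ ∪ U) χ (fun ξ hξ => hT ξ (hall ξ hξ)) (hT χ hχ.1) ?_ deg
      (char_one_eq_deg (irr_isCharacter (hT χ hχ.1)))
      (fun ξ hξ => char_one_eq_deg (irr_isCharacter (hT ξ (hall ξ hξ)))) τ (isometry_mono hsub' hτ)
      (fun α hα => hτ1 α (zspanOn_mono hsub' hα)) (ih hU') (Finset.mem_union_left _ hψ)
      (hnew χ hχ.1 hχ.2).1 ?_
    · intro h
      rcases Finset.mem_union.1 h with h | h
      exacts [hχ.2 h, hχU h]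
    · exact (hnew χ hχ.1 hχ.2).2.trans_le
        (Finset.sum_le_sum_of_subset Finset.subset_union_left)

end General

section Frob

variable {N : Type u} [Group N] [Fintype N]

/-- The elements of `H` central modulo `M`. -/
def centerMod (H M : Subgroup N) [M.Normal] : Subgroup N where
  carrier := {z | z ∈ H ∧ ∀ h ∈ H, z * h * z⁻¹ * h⁻¹ ∈ M}
  one_mem' := ⟨one_mem H, fun h _ => by simp⟩
  mul_mem' := fun {a b} ha hb => ⟨mul_mem ha.1 hb.1, fun h hh => by
    have e : a * b * h * (a * b)⁻¹ * h⁻¹ = (a * (b * h * b⁻¹ * h⁻¹) * a⁻¹) * (a * h * a⁻¹ * h⁻¹) := by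
      group
    rw [e]
    exact mul_mem (Subgroup.Normal.conj_mem ‹M.Normal› _ (hb.2 h hh) a) (ha.2 h hh)⟩
  inv_mem' := fun {a} ha => ⟨inv_mem ha.1, fun h hh => by
    have e : a⁻¹ * h * a⁻¹⁻¹ * h⁻¹ = a⁻¹ * (a * h * a⁻¹ * h⁻¹)⁻¹ * a⁻¹⁻¹ := by group
    rw [e]
    exact Subgroup.Normal.conj_mem ‹M.Normal› _ (inv_mem (ha.2 h hh)) a⁻¹⟩

theorem centerMod_normal (H M : Subgroup N) [H.Normal] [M.Normal] : (centerMod H M).Normal :=
  ⟨fun z hz g => ⟨Subgroup.Normal.conj_mem ‹H.Normal› z hz.1 g, fun h hh => by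
    have e : g * z * g⁻¹ * h * (g * z * g⁻¹)⁻¹ * h⁻¹ =
        g * (z * (g⁻¹ * h * g⁻¹⁻¹) * z⁻¹ * (g⁻¹ * h * g⁻¹⁻¹)⁻¹) * g⁻¹ := by group
    rw [e]
    exact Subgroup.Normal.conj_mem ‹M.Normal› _
      (hz.2 _ (Subgroup.Normal.conj_mem ‹H.Normal› h hh g⁻¹)) g⟩⟩

/-- The elements of `E` whose `n`-th power lies in `M`, for `E` commutative modulo `M`. -/
def powMod (E M : Subgroup N) [M.Normal] (n : ℕ)
    (hcomm : ∀ a ∈ E, ∀ b ∈ E, a * b * a⁻¹ * b⁻¹ ∈ M) : Subgroup N where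
  carrier := {z | z ∈ E ∧ z ^ n ∈ M}
  one_mem' := ⟨one_mem E, by rw [one_pow]; exact one_mem M⟩
  mul_mem' := fun {a b} ha hb => ⟨mul_mem ha.1 hb.1, by
    rw [← QuotientGroup.eq_one_iff, QuotientGroup.mk_pow, QuotientGroup.mk_mul]
    have hc : Commute (a : N ⧸ M) (b : N ⧸ M) := by
      have h := (QuotientGroup.eq_one_iff _).2 (hcomm a ha.1 b hb.1)
      rw [QuotientGroup.mk_mul, QuotientGroup.mk_mul, QuotientGroup.mk_mul, QuotientGroup.mk_inv,
        QuotientGroup.mk_inv, mul_inv_eq_one, mul_inv_eq_iff_eq_mul] at h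
      exact h
    rw [hc.mul_pow, ← QuotientGroup.mk_pow, ← QuotientGroup.mk_pow,
      (QuotientGroup.eq_one_iff _).2 ha.2, (QuotientGroup.eq_one_iff _).2 hb.2, one_mul]⟩
  inv_mem' := fun {a} ha => ⟨inv_mem ha.1, by rw [inv_pow]; exact inv_mem ha.2⟩

theorem powMod_normal (E M : Subgroup N) [E.Normal] [M.Normal] (n : ℕ)
    (hcomm : ∀ a ∈ E, ∀ b ∈ E, a * b * a⁻¹ * b⁻¹ ∈ M) : (powMod E M n hcomm).Normal :=
  ⟨fun z hz g => ⟨Subgroup.Normal.conj_mem ‹E.Normal› z hz.1 g, by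
    rw [conj_pow]; exact Subgroup.Normal.conj_mem ‹M.Normal› _ hz.2 g⟩⟩

theorem prime_dvd_card_center {Q : Type u} [Group Q] [Finite Q] [Group.IsNilpotent Q] (q : ℕ)
    [Fact q.Prime] (h : q ∣ Nat.card Q) : ∃ w ∈ Subgroup.center Q, orderOf w = q := by
  obtain ⟨x, hx⟩ := exists_prime_orderOf_dvd_card' (G := Q) q h
  let P : Sylow q Q := default
  haveI : (P : Subgroup Q).Normal := inferInstance
  have hne : (P : Subgroup Q) ≠ ⊥ := P.ne_bot_of_dvd_card h
  have hint := S0065.result (P : Subgroup Q) hne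
  obtain ⟨z, hz, hz1⟩ := ((P : Subgroup Q) ⊓ Subgroup.center Q).bot_or_exists_ne_one.resolve_left hint
  obtain ⟨k, hk⟩ := IsPGroup.iff_orderOf.1 P.2 ⟨z, hz.1⟩
  rw [Subgroup.orderOf_mk] at hk
  have hk0 : k ≠ 0 := fun e => hz1 (orderOf_eq_one_iff.1 (by rw [hk, e, pow_zero]))
  obtain ⟨j, rfl⟩ := Nat.exists_eq_succ_of_ne_zero hk0
  refine ⟨z ^ q ^ j, Subgroup.pow_mem _ hz.2 _, ?_⟩
  rw [orderOf_pow' z (pow_ne_zero j (Fact.out : q.Prime).ne_zero), hk,
    Nat.gcd_eq_right (pow_dvd_pow q (Nat.le_succ j)), pow_succ,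
    Nat.mul_div_cancel_left _ (pow_pos (Fact.out : q.Prime).pos j)]

theorem prime_dvd_commutator_index {Q : Type u} [Group Q] [Finite Q] [Group.IsNilpotent Q] (q : ℕ)
    [Fact q.Prime] (h : q ∣ Nat.card Q) : q ∣ (commutator Q).index := by
  let P : Sylow q Q := default
  haveI : (P : Subgroup Q).Normal := inferInstance
  obtain ⟨K, hK⟩ := Subgroup.exists_right_complement'_of_coprime (N := (P : Subgroup Q)) P.card_coprime_index
  have hKidx : K.index = Nat.card (P : Subgroup Q) := hK.index_eq_card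
  obtain ⟨n, hn⟩ := P.2.exists_card_eq
  have hKtop : K ≠ ⊤ := by
    intro e
    rw [e, Subgroup.index_top] at hKidx
    exact P.ne_bot_of_dvd_card h (Subgroup.card_eq_one.1 hKidx.symm)
  obtain ⟨W, hW, hKW⟩ := (eq_top_or_exists_le_coatom K).resolve_left hKtop
  haveI : W.Normal := Subgroup.NormalizerCondition.normal_of_coatom _
    Group.normalizerCondition_of_isNilpotent hW
  have hWd : W.index ∣ q ^ n := hn ▸ hKidx ▸ Subgroup.index_dvd_of_le hKW
  obtain ⟨j, -, hj⟩ := (Nat.dvd_prime_pow Fact.out).1 hWd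
  have hj0 : j ≠ 0 := fun e => hW.1 (Subgroup.index_eq_one.1 (by rw [hj, e, pow_zero]))
  have hqW : q ∣ Nat.card (Q ⧸ W) := by
    rw [← Subgroup.index_eq_card, hj]; exact dvd_pow_self q hj0
  obtain ⟨y, hy⟩ := exists_prime_orderOf_dvd_card' (G := Q ⧸ W) q hqW
  have hcyc : Subgroup.zpowers y = ⊤ := by
    have hy1 : y ≠ 1 := fun e => (Fact.out : q.Prime).ne_one (by rw [← hy, e, orderOf_one])
    have hle : W ≤ (Subgroup.zpowers y).comap (QuotientGroup.mk' W) := fun w hw => by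
      rw [Subgroup.mem_comap, QuotientGroup.mk'_apply, (QuotientGroup.eq_one_iff w).2 hw]
      exact one_mem _
    rcases hle.eq_or_lt with h | h
    · exfalso
      obtain ⟨w, rfl⟩ := QuotientGroup.mk_surjective y
      have : w ∈ W := by
        rw [h]
        exact Subgroup.mem_zpowers _
      exact hy1 ((QuotientGroup.eq_one_iff w).2 this)
    · have := hW.2 _ h
      rw [← Subgroup.comap_top (QuotientGroup.mk' W)] at this
      exact Subgroup.comap_injective (QuotientGroup.mk'_surjective W) this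
  have hcomm : commutator Q ≤ W := by
    refine (Subgroup.Normal.quotient_commutative_iff_commutator_le).1 ⟨⟨fun a b => ?_⟩⟩
    obtain ⟨i, rfl⟩ := Subgroup.mem_zpowers_iff.1 (hcyc ▸ Subgroup.mem_top a)
    obtain ⟨l, rfl⟩ := Subgroup.mem_zpowers_iff.1 (hcyc ▸ Subgroup.mem_top b)
    rw [← zpow_add, ← zpow_add, add_comm]
  exact (hj ▸ dvd_pow_self q hj0 : q ∣ W.index).trans (Subgroup.index_dvd_of_le hcomm)

variable {G : Type v} [Group G] [Fintype G] (H : Subgroup N) [H.Normal] [Fintype H]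

theorem feit_coherence_core (hH1 : H ≠ ⊥) (hH2 : H ≠ ⊤)
    (hC : ∀ h ∈ H, h ≠ 1 → Subgroup.centralizer ({h} : Set N) ≤ H)
    (he : Nat.card H ≠ H.index + 1) (τ : (N → ℂ) → (G → ℂ))
    (hτ : IsLinearIsometryOn (zspanOn (chSet H ⊥) {1}ᶜ) τ)
    (hτ1 : ∀ α ∈ zspanOn (chSet H ⊥) {1}ᶜ, τ α 1 = 0) :
    IsCoherent (chSet H ⊥) {1}ᶜ τ ∨ ∃ p : ℕ, p.Prime ∧ (∃ m : ℕ, Nat.card H = p ^ m) ∧
      ¬ IsMulCommutative H ∧ (⁅H, H⁆.subgroupOf H).index ≤ 4 * H.index ^ 2 + 1 := by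
  classical
  haveI hnil := frobKernel_nilpotent H hH2 hC
  set D₁ : Subgroup N := ⁅H, H⁆ with hD₁
  have hD₁H : D₁ ≤ H := Subgroup.commutator_le_right H H
  haveI hD₁n : D₁.Normal := Subgroup.commutator_normal H H
  have he0 : 0 < H.index := Nat.pos_of_ne_zero Subgroup.index_ne_zero_of_finite
  have hD₁ne : D₁ ≠ H := by
    intro e
    obtain ⟨q, hq, hqd⟩ := Nat.exists_prime_and_dvd (n := Nat.card H) (fun h => hH1 (Subgroup.card_eq_one.1 h))
    haveI := Fact.mk hq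
    have h := prime_dvd_commutator_index (Q := H) q hqd
    have htop : commutator H = ⊤ := by
      apply Subgroup.map_injective (Subgroup.subtype_injective H)
      rw [Subgroup.map_subtype_commutator, ← MonoidHom.range_eq_map, Subgroup.range_subtype]
      exact e
    rw [htop, Subgroup.index_top] at h
    exact hq.ne_one (Nat.dvd_one.1 h)
  by_cases hex : ∃ p : ℕ, p.Prime ∧ (∃ m : ℕ, Nat.card H = p ^ m) ∧
      ¬ IsMulCommutative H ∧ D₁.relIndex H ≤ 4 * H.index ^ 2 + 1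
  · exact Or.inr hex
  left
  push Not at hex
  have hmono : ∀ M : Subgroup N, chSet H M ⊆ chSet H ⊥ := fun M χ hχ =>
    ⟨hχ.1, hχ.2.1, fun d hd => by rw [Subgroup.mem_bot.1 hd]⟩
  have hiso : ∀ M : Subgroup N, IsLinearIsometryOn (zspanOn (↑(chFin H M) : Set (N → ℂ)) {1}ᶜ) τ :=
    fun M => by rw [chFin_coe]; exact isometry_mono (hmono M) hτ
  have hone : ∀ M : Subgroup N, ∀ α ∈ zspanOn (↑(chFin H M) : Set (N → ℂ)) {1}ᶜ, τ α 1 = 0 :=
    fun M α hα => by rw [chFin_coe] at hα; exact hτ1 α (zspanOn_mono (hmono M) hα)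
  have hirr : ∀ (M : Subgroup N), ∀ χ ∈ chFin H M, IsIrrCharacter N χ := fun M χ hχ =>
    (mem_chFin.1 hχ).1
  obtain ⟨k₁, hk₁, hsum₁⟩ := chFin_sum_sq H hC D₁ hD₁H
  have hdeg₁ : ∀ χ ∈ chFin H D₁, deg χ = H.index := by
    intro χ hχ
    obtain ⟨t, ht0, hdeg, ht⟩ := chSet_deg_sq_le H hC (M := D₁) (E := H)
      (fun z hz h hh => Subgroup.commutator_mem_commutator hz hh) (mem_chFin.1 hχ)
    rw [Subgroup.relIndex_self] at ht
    rw [hdeg, show t = 1 by nlinarith, mul_one]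
  have hcard₁ : (chFin H D₁).card = k₁ := by
    rw [Finset.sum_congr rfl fun χ hχ => by rw [hdeg₁ χ hχ], Finset.sum_const, smul_eq_mul,
      mul_comm] at hsum₁
    exact Nat.eq_of_mul_eq_mul_left (pow_pos he0 2) hsum₁
  -- either the quotient is large or two primes occur
  have halt : 4 * H.index ^ 2 + 2 ≤ D₁.relIndex H ∨ D₁ = ⊥ ∨
      ∃ r q : ℕ, r.Prime ∧ q.Prime ∧ r ≠ q ∧ r ∣ Nat.card H ∧ q ∣ Nat.card H := by
    by_cases hb : D₁ = ⊥
    · exact Or.inr (Or.inl hb)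
    obtain ⟨r, hr, hrd⟩ := Nat.exists_prime_and_dvd (n := Nat.card H) (fun h => hH1 (Subgroup.card_eq_one.1 h))
    by_cases hpow : ∃ m : ℕ, Nat.card H = r ^ m
    · refine Or.inl ?_
      have hnc : ¬ IsMulCommutative H := fun hc => hb (by
        rw [hD₁, Subgroup.commutator_eq_bot_iff_le_centralizer]
        intro a ha
        rw [Subgroup.mem_centralizer_iff]
        intro b hb'
        exact congrArg Subtype.val (hc.is_comm.comm (⟨b, hb'⟩ : H) ⟨a, ha⟩))
      have := hex r hr hpow hnc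
      omega
    · refine Or.inr (Or.inr ?_)
      by_contra hcon
      push Not at hcon
      refine hpow ⟨_, Nat.eq_prime_pow_of_unique_prime_dvd Nat.card_pos.ne' fun {d} hd hdd => ?_⟩
      by_contra hne
      exact hcon r d hr hd (Ne.symm hne) hrd hdd
  -- the first step
  have hprime : ∀ (M : Subgroup N), M ≤ H → M ≤ D₁ → ∀ q : ℕ, q.Prime → q ∣ Nat.card H →
      q ∣ M.relIndex H := by
    intro M hMH hMD q hq hqd
    haveI := Fact.mk hq
    have h := prime_dvd_commutator_index (Q := H) q hqd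
    have h2 : (commutator H).index = D₁.relIndex H := by
      rw [Subgroup.relIndex, Subgroup.subgroupOf, hD₁]
      congr 1
      rw [← Subgroup.map_subtype_commutator, Subgroup.comap_map_eq_self_of_injective
        (Subgroup.subtype_injective H)]
    rw [h2] at h
    exact h.trans (Subgroup.relIndex_dvd_of_le_left H hMD)
  have hbig₁ : 2 ≤ k₁ := by
    by_contra hlt
    have hk : k₁ = 1 := by
      rcases Nat.lt_or_ge k₁ 1 with h | h
      · exfalso
        rw [show k₁ = 0 by omega, mul_zero, zero_add] at hk₁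
        exact hD₁ne (le_antisymm hD₁H (Subgroup.relIndex_eq_one.1 hk₁))
      · omega
    rw [hk, mul_one] at hk₁
    rcases halt with h | h | ⟨r, q, hr, hq, hrq, hrd, hqd⟩
    · nlinarith
    · rw [h, Subgroup.relIndex_bot_left] at hk₁
      exact he hk₁
    · -- an intermediate normal subgroup
      haveI := Fact.mk hr
      haveI := Fact.mk hq
      set n := (D₁.relIndex H) / r ^ (D₁.relIndex H).factorization r with hn
      have hc : ∀ a ∈ H, ∀ b ∈ H, a * b * a⁻¹ * b⁻¹ ∈ D₁ := fun a ha b hb =>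
        Subgroup.commutator_mem_commutator ha hb
      set X := powMod H D₁ n hc with hX
      haveI : X.Normal := powMod_normal H D₁ n hc
      have hDX : D₁ ≤ X := fun z hz => ⟨hD₁H hz, pow_mem hz n⟩
      have hXH : X ≤ H := fun z hz => hz.1
      set Q := H ⧸ D₁.subgroupOf H
      have hx0 : Nat.card Q = D₁.relIndex H := (Subgroup.index_eq_card _).symm
      have hx1 : D₁.relIndex H ≠ 0 := by rw [hk₁]; omega
      have el : ∀ s : ℕ, s.Prime → s ∣ D₁.relIndex H →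
          ∃ z : N, z ∈ H ∧ z ∉ D₁ ∧ ∀ i : ℕ, z ^ i ∈ D₁ ↔ s ∣ i := by
        intro s hs hsd
        haveI := Fact.mk hs
        obtain ⟨y, hy⟩ := exists_prime_orderOf_dvd_card' (G := Q) s (hx0.symm ▸ hsd)
        obtain ⟨z, rfl⟩ := QuotientGroup.mk_surjective y
        have key : ∀ i : ℕ, (z : N) ^ i ∈ D₁ ↔ s ∣ i := fun i => by
          rw [← hy, orderOf_dvd_iff_pow_eq_one, ← QuotientGroup.mk_pow, QuotientGroup.eq_one_iff,
            Subgroup.mem_subgroupOf, SubmonoidClass.coe_pow]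
        refine ⟨z, z.2, fun hz => hs.ne_one (Nat.dvd_one.1 ((key 1).1 (by rwa [pow_one]))), key⟩
      have hqn : q ∣ n := (Nat.Coprime.dvd_of_dvd_mul_left
        ((Nat.coprime_primes hq hr).2 (Ne.symm hrq) |>.pow_right _)
        (by rw [hn, Nat.ordProj_mul_ordCompl_eq_self]; exact hprime D₁ hD₁H le_rfl q hq hqd))
      have hrn : ¬ r ∣ n := Nat.not_dvd_ordCompl hr hx1
      obtain ⟨zq, hzqH, hzqD, hzq⟩ := el q hq (hprime D₁ hD₁H le_rfl q hq hqd)
      obtain ⟨zr, hzrH, hzrD, hzr⟩ := el r hr (hprime D₁ hD₁H le_rfl r hr hrd)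
      have h1 := relIndex_ge H hC D₁ X hDX hXH (fun e => hzqD (e ▸ ⟨hzqH, (hzq n).2 hqn⟩))
      have h2 := relIndex_ge H hC X H hXH le_rfl (fun e => hrn ((hzr n).1 ((e.symm ▸ hzrH : zr ∈ X).2)))
      have h3 := Subgroup.relIndex_mul_relIndex D₁ X H hDX hXH
      rw [hk₁] at h3
      nlinarith
  have hbase : IsCoherent (↑(chFin H D₁) : Set (N → ℂ)) {1}ᶜ τ := by
    refine coherent_const_exceptional _ (hirr D₁) (hcard₁ ▸ hbig₁) (fun a ha b hb => ?_) τ (hiso D₁)
      (hone D₁)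
    rw [char_one_eq_deg (irr_isCharacter (hirr D₁ a ha)), hdeg₁ a ha,
      char_one_eq_deg (irr_isCharacter (hirr D₁ b hb)), hdeg₁ b hb]
  obtain ⟨ψ, hψ⟩ : (chFin H D₁).Nonempty := Finset.card_pos.1 (by omega)
  suffices main : ∀ (n : ℕ) (M : Subgroup N) [M.Normal], M ≤ D₁ → M.relIndex D₁ ≤ n →
      IsCoherent (↑(chFin H M) : Set (N → ℂ)) {1}ᶜ τ by
    have h := main _ ⊥ bot_le le_rfl
    rwa [chFin_coe] at h
  intro n
  induction n with
  | zero =>
    intro M _ hM hn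
    have : M.relIndex D₁ ≠ 0 := Subgroup.index_ne_zero_of_finite
    omega
  | succ n ih =>
    intro M _ hM hn
    rcases eq_or_ne M D₁ with rfl | hne
    · exact hbase
    have hMH := hM.trans hD₁H
    set Z := centerMod H M with hZ
    haveI : Z.Normal := centerMod_normal H M
    have hZH : Z ≤ H := fun z hz => hz.1
    have hMZ : M ≤ Z := fun z hz => ⟨hMH hz, fun h _ => by
      rw [mul_assoc z, mul_assoc z]
      exact mul_mem hz (Subgroup.Normal.conj_mem ‹M.Normal› _ (inv_mem hz) h)⟩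
    set Q := H ⧸ M.subgroupOf H with hQ
    haveI : Group.IsNilpotent Q := inferInstance
    have hcQ : ∀ w : H, (w : Q) ∈ Subgroup.center Q → (w : N) ∈ Z := fun w hw => ⟨w.2, fun h hh => by
      have h1 := Subgroup.mem_center_iff.1 hw ((⟨h, hh⟩ : H) : Q)
      have h2 : ((w * ⟨h, hh⟩ * w⁻¹ * (⟨h, hh⟩ : H)⁻¹ : H) : Q) = 1 := by
        rw [QuotientGroup.mk_mul, QuotientGroup.mk_mul, QuotientGroup.mk_mul, QuotientGroup.mk_inv,
          QuotientGroup.mk_inv, ← h1]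
        group
      simpa [Subgroup.mem_subgroupOf] using (QuotientGroup.eq_one_iff _).1 h2⟩
    -- an intermediate subgroup
    obtain ⟨D, hDn, hMD, hne', hDD₁, hDZ, hcase⟩ : ∃ D : Subgroup N, D.Normal ∧ M ≤ D ∧ M ≠ D ∧
        D ≤ D₁ ∧ D ≤ Z ∧ (4 * H.index ^ 2 + 2 ≤ D₁.relIndex H ∨ D ≠ Z) := by
      set D₀ := Z ⊓ D₁ with hD₀
      haveI : D₀.Normal := inferInstance
      have hMD₀ : M ≤ D₀ := le_inf hMZ hM
      have hne₀ : M ≠ D₀ := by
        intro e
        set Nb := (D₁.subgroupOf H).map (QuotientGroup.mk' (M.subgroupOf H)) with hNb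
        haveI : Nb.Normal := Subgroup.Normal.map inferInstance _ (QuotientGroup.mk'_surjective _)
        have hNbne : Nb ≠ ⊥ := by
          intro hb
          apply hne
          refine le_antisymm hM fun z hz => ?_
          have h1 : QuotientGroup.mk' (M.subgroupOf H) ⟨z, hD₁H hz⟩ ∈ Nb :=
            Subgroup.mem_map_of_mem _ (Subgroup.mem_subgroupOf.2 hz)
          rw [hb, Subgroup.mem_bot] at h1
          exact Subgroup.mem_subgroupOf.1 ((QuotientGroup.eq_one_iff _).1 h1)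
        obtain ⟨y, hy, hy1⟩ := (Nb ⊓ Subgroup.center Q).bot_or_exists_ne_one.resolve_left
          (S0065.result Nb hNbne)
        obtain ⟨w, hw, rfl⟩ := Subgroup.mem_map.1 hy.1
        exact hy1 ((QuotientGroup.eq_one_iff w).2 (Subgroup.mem_subgroupOf.2
          (e ▸ ⟨hcQ w hy.2, Subgroup.mem_subgroupOf.1 hw⟩ : (w : N) ∈ M)))
      by_cases hDZ : D₀ = Z
      swap
      · exact ⟨D₀, inferInstance, hMD₀, hne₀, inf_le_right, inf_le_left, Or.inr hDZ⟩
      rcases halt with h | h | ⟨r, q, hr, hq, hrq, hrd, hqd⟩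
      · exact ⟨D₀, inferInstance, hMD₀, hne₀, inf_le_right, inf_le_left, Or.inl h⟩
      · exact absurd (le_antisymm hM (h ▸ bot_le)) hne
      have hZD₁ : Z ≤ D₁ := hDZ ▸ inf_le_right
      have hZc : ∀ a ∈ Z, ∀ b ∈ Z, a * b * a⁻¹ * b⁻¹ ∈ M := fun a ha b hb => ha.2 b (hZH hb)
      have el : ∀ s : ℕ, s.Prime → s ∣ Nat.card H →
          ∃ z : N, z ∈ Z ∧ z ∉ M ∧ ∀ i : ℕ, z ^ i ∈ M ↔ s ∣ i := by
        intro s hs hsd
        haveI := Fact.mk hs
        obtain ⟨y, hy, hyo⟩ := prime_dvd_card_center (Q := Q) s (by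
          rw [← Subgroup.index_eq_card]; exact hprime M hMH hM s hs hsd)
        obtain ⟨z, rfl⟩ := QuotientGroup.mk_surjective y
        have key : ∀ i : ℕ, (z : N) ^ i ∈ M ↔ s ∣ i := fun i => by
          rw [← hyo, orderOf_dvd_iff_pow_eq_one, ← QuotientGroup.mk_pow, QuotientGroup.eq_one_iff,
            Subgroup.mem_subgroupOf, SubmonoidClass.coe_pow]
        exact ⟨z, hcQ z hy, fun hz => hs.ne_one (Nat.dvd_one.1 ((key 1).1 (by rwa [pow_one]))), key⟩
      obtain ⟨zr, hzrZ, hzrM, hzr⟩ := el r hr hrd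
      obtain ⟨zq, hzqZ, hzqM, hzq⟩ := el q hq hqd
      refine ⟨powMod Z M r hZc, powMod_normal Z M r hZc, fun z hz => ⟨hMZ hz, pow_mem hz r⟩,
        fun e => hzrM (e ▸ ⟨hzrZ, (hzr r).2 dvd_rfl⟩), fun z hz => hZD₁ hz.1, fun z hz => hz.1,
        Or.inr fun e => hrq ?_⟩
      have hmem : zq ∈ powMod Z M r hZc := e.symm ▸ hzqZ
      exact ((Nat.prime_dvd_prime_iff_eq hq hr).1 ((hzq r).1 hmem.2)).symm
    have hDlt : D.relIndex D₁ ≤ n := by
      have h := Subgroup.relIndex_mul_relIndex M D D₁ hMD hDD₁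
      have h1 : M.relIndex D ≠ 1 := fun e => hne' (le_antisymm hMD (Subgroup.relIndex_eq_one.1 e))
      have h2 : M.relIndex D ≠ 0 := Subgroup.index_ne_zero_of_finite
      have h3 : 2 * D.relIndex D₁ ≤ M.relIndex D₁ := h ▸ Nat.mul_le_mul_right _ (by omega)
      have h4 : D.relIndex D₁ ≠ 0 := Subgroup.index_ne_zero_of_finite
      omega
    have hD := ih D hDD₁ hDlt
    obtain ⟨k, hk, hsum⟩ := chFin_sum_sq H hC D (hDD₁.trans hD₁H)
    have hsubD : chFin H D ⊆ chFin H M := fun χ hχ => by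
      obtain ⟨a, b, c⟩ := mem_chFin.1 hχ
      exact mem_chFin.2 ⟨a, b, fun d hd => c d (hMD hd)⟩
    have hψD : ψ ∈ chFin H D := by
      obtain ⟨a, b, c⟩ := mem_chFin.1 hψ
      exact mem_chFin.2 ⟨a, b, fun d hd => c d (hDD₁ hd)⟩
    refine coherent_add_many (chFin H D) (chFin H M)
      (fun χ hχ => (Finset.mem_union.1 hχ).elim (hirr D χ) (hirr M χ)) hsubD τ (hiso M) (hone M) hD
      hψD fun χ hχ hχD => ?_
    obtain ⟨t, ht0, hdeg, ht⟩ := chSet_deg_sq_le H hC (M := M) (E := Z) (fun z hz => hz.2)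
      (mem_chFin.1 hχ)
    rw [hdeg₁ ψ hψ, hdeg, hsum]
    refine ⟨dvd_mul_right _ _, ?_⟩
    have ht2 : 2 ≤ t := by
      by_contra hlt
      have ht1 : t = 1 := by omega
      apply hχD
      obtain ⟨hi, hh, -⟩ := mem_chFin.1 hχ
      obtain ⟨θ, -, hθ⟩ := exists_induced_of_nonconst H hC ⟨χ, hi⟩ hh
      change χ = _ at hθ
      have hlin : deg (θ : H → ℂ) = 1 := by
        have h1 : χ 1 = (H.index : ℂ) * (θ : H → ℂ) 1 := by rw [hθ, indFun_one]
        rw [char_one_eq_deg (irr_isCharacter hi), hdeg, ht1, mul_one,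
          char_one_eq_deg (irr_isCharacter θ.2)] at h1
        have h2 : H.index = H.index * deg (θ : H → ℂ) := by exact_mod_cast h1
        exact (Nat.eq_of_mul_eq_mul_left he0 (by rw [mul_one]; exact h2)).symm
      have hsub : D₁ ≤ (TwoDeg.kerC θ).map H.subtype := Subgroup.commutator_le.2 fun a ha b hb =>
        ⟨_, TwoDeg.kerC_top_of_linear θ hlin ⟨a, ha⟩ ⟨b, hb⟩, by simp [commutatorElement_def]⟩
      have hθ1 : ∀ d : H, (d : N) ∈ D₁ → (θ : H → ℂ) d = (θ : H → ℂ) 1 := fun d hd => by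
        obtain ⟨w, hw, hwd⟩ := Subgroup.mem_map.1 (hsub hd)
        rw [show d = w from Subtype.ext hwd.symm]
        have := hw 1
        rwa [mul_one] at this
      refine mem_chFin.2 ⟨hi, hh, fun d hd => ?_⟩
      have hd' : d ∈ D₁ := hDD₁ hd
      have e1 := indFun_restrict_normal (N := H) (θ : H → ℂ) ⟨d, hD₁H hd'⟩
      have e2 := indFun_restrict_normal (N := H) (θ : H → ℂ) 1
      simp only [OneMemClass.coe_one] at e1 e2
      rw [hθ, e1, e2]
      congr 1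
      refine Finset.sum_congr rfl fun g _ => ?_
      rw [map_one]
      exact hθ1 _ (by rw [MulAut.conjNormal_apply]; exact hD₁n.conj_mem d hd' g)
    have key : 2 * t < k := by
      set e := H.index with hedef
      have hx : t ^ 2 ≤ D.relIndex H := ht.trans (Nat.le_of_dvd (Nat.pos_of_ne_zero
        Subgroup.index_ne_zero_of_finite) (Subgroup.relIndex_dvd_of_le_left H hDZ))
      by_contra hle
      push Not at hle
      rcases hcase with h | h
      · have h1 : D₁.relIndex H ≤ D.relIndex H := Nat.le_of_dvd (Nat.pos_of_ne_zero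
          Subgroup.index_ne_zero_of_finite) (Subgroup.relIndex_dvd_of_le_left H hDD₁)
        rw [hk] at h1 hx
        have h2 : t ≤ 2 * e := by
          by_contra h3
          push Not at h3
          have h4 : (2 * e + 1) * t ≤ t * t := Nat.mul_le_mul_right t h3
          have h5 : e * k ≤ e * (2 * t) := Nat.mul_le_mul_left e hle
          nlinarith
        nlinarith [Nat.mul_le_mul_left e hle, Nat.mul_le_mul_left e h2]
      · have h1 := relIndex_ge H hC D Z hDZ hZH h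
        have h2 := Subgroup.relIndex_mul_relIndex D Z H hDZ hZH
        rw [hk] at h2
        have h3 : (e + 1) * t ^ 2 ≤ e * k + 1 := h2 ▸ Nat.mul_le_mul h1 ht
        have h5 : e * k ≤ e * (2 * t) := Nat.mul_le_mul_left e hle
        have he1 : 1 ≤ e := he0
        nlinarith
    nlinarith [Nat.mul_lt_mul_of_pos_left key (pow_pos he0 2)]

end Frob

end Cfsg.Agent.Char
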