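import Cfsg.Agent.Lib.Char.CoherenceNilpotent
import Cfsg.Agent.Lib.Char.FrobCoherence

/-!
Coherence of the characters induced from a nilpotent Frobenius kernel modulo a normal subgroup.
-/

set_option linter.unusedSectionVars false
set_option linter.style.haveILetI false

open scoped ComplexConjugate commutatorElement
open Cfsg

namespace Cfsg.Agent.Char

universe u v

variable {L : Type u} [Group L] [Fintype L] {G : Type v} [Group G] [Fintype G]
  {τ : (L → ℂ) → (G → ℂ)} {R : (L → ℂ) → Finset (G → ℂ)}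

theorem cohSys_subset {S S' : Set (L → ℂ)} (hS : IsCoherenceSystem S τ R) (hsub : S' ⊆ S)
    (hne : S'.Nonempty) (hc : ∀ χ ∈ S', conjFun χ ∈ S') : IsCoherenceSystem S' τ R where
  nonempty := hne
  isCharacter χ hχ := hS.isCharacter χ (hsub hχ)
  conj_mem := hc
  conj_ne χ hχ := hS.conj_ne χ (hsub hχ)
  isometry := isometry_mono hsub hS.isometry
  map_one α hα := hS.map_one α (zspanOn_mono hsub hα)
  orthogonal χ hχ φ hφ := hS.orthogonal χ (hsub hχ) φ (hsub hφ)
  orthonormal χ hχ := hS.orthonormal χ (hsub hχ)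
  virtual χ hχ := hS.virtual χ (hsub hχ)
  sum_eq χ hχ := hS.sum_eq χ (hsub hχ)
  disjoint χ hχ φ hφ := hS.disjoint χ (hsub hχ) φ (hsub hφ)

variable (K : Subgroup L) [K.Normal]

theorem iia_linear_of_commutator {A : Subgroup L} (hA : ⁅K, K⁆ ≤ A) {φ : L → ℂ}
    (hφ : φ ∈ inducedIrrAbove K A) : φ 1 = (K.index : ℂ) := by
  classical
  haveI := Fintype.ofFinite K
  obtain ⟨θ, -, hker, -, h1⟩ := iia_deg K hφ
  have hcc : ∀ z : K, z ∈ commutator K → (z : L) ∈ A := fun z hz => hA (by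
    have : (z : L) ∈ (commutator K).map K.subtype := ⟨z, hz, rfl⟩
    rwa [Subgroup.map_subtype_commutator] at this)
  have hcz : (⊤ : Subgroup K) ≤ TwoDeg.cz θ := fun z _ => (TwoDeg.mem_cz_iff_comm θ z).2 fun x =>
    TwoDeg.mem_kerC_of_eq θ (hker _ (hcc _ (by
      rw [← commutatorElement_def, commutator_def]
      exact Subgroup.commutator_mem_commutator (Subgroup.mem_top z) (Subgroup.mem_top x))))
  have h2 := TwoDeg.card_cz_mul_sq_le θ
  rw [top_le_iff.1 hcz, Subgroup.card_top] at h2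
  have h3 : deg (θ : K → ℂ) ^ 2 ≤ 1 := Nat.le_of_mul_le_mul_left (by rwa [mul_one]) (Nat.card_pos (α := K))
  have h4 : 0 < deg (θ : K → ℂ) := deg_pos θ.2
  rw [h1, show deg (θ : K → ℂ) = 1 by nlinarith, mul_one]

variable (H₁ : Subgroup L) [H₁.Normal]

/-- The index of a normal subgroup between `H₁` and `K` is one modulo `|L : K|`. -/
theorem relIndex_modEq_one (hH₁K : H₁ ≤ K)
    (hfrob : ∀ k ∈ K, k ∉ H₁ → ∀ x : L, x * k * x⁻¹ * k⁻¹ ∈ H₁ → x ∈ K)
    (A : Subgroup L) [A.Normal] (hHA : H₁ ≤ A) (hAK : A ≤ K) :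
    ∃ a : ℕ, A.relIndex K = K.index * a + 1 := by
  classical
  set q := QuotientGroup.mk' H₁ with hq
  have hqs : Function.Surjective q := QuotientGroup.mk'_surjective H₁
  haveI := Fintype.ofFinite (L ⧸ H₁)
  haveI : (K.map q).Normal := Subgroup.Normal.map inferInstance q hqs
  haveI : (A.map q).Normal := Subgroup.Normal.map inferInstance q hqs
  haveI := Fintype.ofFinite (K.map q)
  have hC : ∀ h ∈ K.map q, h ≠ 1 → Subgroup.centralizer ({h} : Set (L ⧸ H₁)) ≤ K.map q := by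
    rintro - ⟨k, hk, rfl⟩ hk1 y hy
    obtain ⟨x, rfl⟩ := hqs y
    have hy' := Subgroup.mem_centralizer_singleton_iff.1 hy
    refine ⟨x, hfrob k hk (fun h => hk1 ((QuotientGroup.eq_one_iff k).2 h)) x ?_, rfl⟩
    rw [← QuotientGroup.eq_one_iff]
    show q (x * k * x⁻¹ * k⁻¹) = 1
    rw [map_mul, map_mul, map_mul, map_inv, map_inv, hy']
    group
  obtain ⟨a, ha, -⟩ := chFin_sum_sq (K.map q) hC (A.map q) (Subgroup.map_mono hAK)
  refine ⟨a, ?_⟩
  have hker : q.ker = H₁ := QuotientGroup.ker_mk' H₁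
  rw [Subgroup.relIndex_map_map, hker, sup_eq_left.2 hHA, sup_eq_left.2 hH₁K,
    Subgroup.index_map_eq _ hqs (hker.trans_le hH₁K)] at ha
  exact ha

theorem relIndex_big_of_odd {e a x : ℕ} (hx : x = e * a + 1) (hx1 : x ≠ 1) (he : Odd e) (hxo : Odd x) :
    2 * e + 1 ≤ x := by
  rcases a with _ | _ | a
  · simp at hx; omega
  · rw [hx, zero_add, mul_one] at hxo
    exact absurd hxo (Nat.not_odd_iff_even.2 he.add_one)
  · rw [hx]; nlinarith

/-- The coherence theorem for a nilpotent kernel. -/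
theorem coherence_of_kernel (hsolv : Group.IsSolvable K) (hS : IsCoherenceSystem (inducedIrrAbove K ⊥) τ R)
    (hodd : Odd (Nat.card L)) (M : Subgroup L) [M.Normal] (hMK : M ≤ K) [(M.subgroupOf K).Normal]
    (hnil : Group.IsNilpotent (↥K ⧸ M.subgroupOf K)) (hH₁ : H₁ = ⁅K, K⁆ ⊔ M) (hH₁K : H₁ < K)
    (hfrob : ∀ k ∈ K, k ∉ H₁ → ∀ x : L, x * k * x⁻¹ * k⁻¹ ∈ H₁ → x ∈ K)
    (hgood : (∃ N : Subgroup L, N.Normal ∧ H₁ < N ∧ N < K) ∨ 4 * K.index ^ 2 + 1 < H₁.relIndex K ∨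
      (¬ ∃ p m : ℕ, p.Prime ∧ M.relIndex K = p ^ m) ∨ ⁅K, K⁆ ≤ M ∨
      (∃ p m : ℕ, p.Prime ∧ M.relIndex K = p ^ m ∧ K.index ∣ p - 1)) :
    IsCoherent (inducedIrrAbove K M) {1}ᶜ τ := by
  classical
  have hKKH : ⁅K, K⁆ ≤ H₁ := hH₁ ▸ le_sup_left
  have hMH : M ≤ H₁ := hH₁ ▸ le_sup_right
  -- constant degree
  have hbase : IsCoherent (inducedIrrAbove K H₁) {1}ᶜ τ := by
    obtain ⟨φ, hφ, -⟩ := iia_exists_linear K hsolv hH₁K
    exact coherent_constant_degree (cohSys_subset hS (iia_subset_bot K H₁) ⟨φ, hφ⟩ fun χ hχ => conjFun_iia K hχ)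
      fun χ hχ ψ hψ => by rw [iia_linear_of_commutator K hKKH hχ, iia_linear_of_commutator K hKKH hψ]
  have hbigCase : 4 * K.index ^ 2 + 1 < H₁.relIndex K → IsCoherent (inducedIrrAbove K M) {1}ᶜ τ := fun h =>
    coherence_descends_nilpotent K hsolv hS M H₁ K hMH hH₁K.le le_rfl hnil hbase h
  have hdvdL : ∀ A B : Subgroup L, A ≤ B → Odd (A.relIndex B) := fun A B hAB => by
    obtain ⟨c, hc⟩ : A.relIndex B ∣ Nat.card L :=
      ((Subgroup.relIndex_dvd_index_of_le hAB).trans A.index_dvd_card)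
    exact (Nat.odd_mul.1 (hc ▸ hodd)).1
  have he : Odd K.index := by
    obtain ⟨c, hc⟩ := K.index_dvd_card
    exact (Nat.odd_mul.1 (hc ▸ hodd)).1
  have hNcase : (∃ N : Subgroup L, N.Normal ∧ H₁ < N ∧ N < K) → IsCoherent (inducedIrrAbove K M) {1}ᶜ τ := by
    rintro ⟨N, hNn, hHN, hNK⟩
    refine hbigCase ?_
    obtain ⟨a, ha⟩ := relIndex_modEq_one K H₁ hH₁K.le hfrob N hHN.le hNK.le
    obtain ⟨b, hb⟩ := relIndex_modEq_one K H₁ hH₁K.le hfrob H₁ le_rfl hH₁K.le
    have hprod := Subgroup.relIndex_mul_relIndex H₁ N K hHN.le hNK.le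
    have ha1 : N.relIndex K ≠ 1 := fun h => hNK.not_ge (Subgroup.relIndex_eq_one.1 h)
    have hb1 : H₁.relIndex N ≠ 1 := fun h => hHN.not_ge (Subgroup.relIndex_eq_one.1 h)
    have hx := relIndex_big_of_odd ha ha1 he (hdvdL _ _ hNK.le)
    set r := H₁.relIndex N
    have hr : ∃ c, r = K.index * c + 1 := by
      rw [ha, hb] at hprod
      have hr0 : 1 ≤ r := Nat.pos_of_ne_zero Subgroup.index_ne_zero_of_finite
      obtain ⟨s, hs⟩ := Nat.exists_eq_add_of_le hr0
      have hd : K.index ∣ s := by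
        refine (Nat.dvd_add_right (dvd_mul_right K.index ((1 + s) * a))).1 ?_
        refine ⟨b, ?_⟩
        rw [hs] at hprod
        nlinarith
      obtain ⟨c, hc⟩ := hd
      exact ⟨c, by omega⟩
    obtain ⟨c, hc⟩ := hr
    have hy := relIndex_big_of_odd hc hb1 he (hdvdL _ _ hHN.le)
    rw [← hprod]
    have hm := Nat.mul_le_mul hy hx
    have he1 : 1 ≤ K.index := he.pos
    nlinarith
  -- the trivial case
  have htriv : M = H₁ → IsCoherent (inducedIrrAbove K M) {1}ᶜ τ := fun h => h ▸ hbase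
  have hcardQ : ∀ {q : ℕ}, q.Prime → q ∣ M.relIndex K → q ∣ H₁.relIndex K := by
    intro q hq hqd
    haveI := Fact.mk hq
    haveI : Group.IsNilpotent (↥K ⧸ M.subgroupOf K) := hnil
    have h := prime_dvd_commutator_index (Q := ↥K ⧸ M.subgroupOf K) q (by rwa [← Subgroup.index_eq_card])
    have hqs := QuotientGroup.mk'_surjective (M.subgroupOf K)
    rw [show commutator (↥K ⧸ M.subgroupOf K) = (commutator K).map (QuotientGroup.mk' (M.subgroupOf K)) by
      rw [commutator_def, commutator_def, Subgroup.map_commutator, Subgroup.map_top_of_surjective _ hqs],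
      Subgroup.index_map, MonoidHom.range_eq_top.2 hqs, Subgroup.index_top, mul_one, QuotientGroup.ker_mk'] at h
    rwa [show commutator K ⊔ M.subgroupOf K = H₁.subgroupOf K from ?_] at h
    apply Subgroup.map_injective (Subgroup.subtype_injective K)
    rw [Subgroup.map_sup, Subgroup.map_subtype_commutator, Subgroup.subgroupOf_map_subtype,
      Subgroup.subgroupOf_map_subtype, inf_eq_left.2 hMK, inf_eq_left.2 hH₁K.le, hH₁]
  have hnp : (¬ ∃ p m : ℕ, p.Prime ∧ M.relIndex K = p ^ m) → ∃ N : Subgroup L, N.Normal ∧ H₁ < N ∧ N < K := by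
    intro hnot
    have hx1 : H₁.relIndex K ≠ 1 := fun h => hH₁K.not_ge (Subgroup.relIndex_eq_one.1 h)
    obtain ⟨q, hq, hqd⟩ := Nat.exists_prime_and_dvd hx1
    obtain ⟨r, hr, hrd, hrq⟩ : ∃ r : ℕ, r.Prime ∧ r ∣ H₁.relIndex K ∧ r ≠ q := by
      by_contra hcon
      push Not at hcon
      exact hnot ⟨q, _, hq, Nat.eq_prime_pow_of_unique_prime_dvd Subgroup.index_ne_zero_of_finite
        (fun {d} hd hdd => hcon d hd (hcardQ hd hdd))⟩
    set x := H₁.relIndex K with hx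
    have hx0 : x ≠ 0 := Subgroup.index_ne_zero_of_finite
    have hcomm : ∀ a ∈ K, ∀ b ∈ K, a * b * a⁻¹ * b⁻¹ ∈ H₁ := fun a ha b hb =>
      hKKH (Subgroup.commutator_mem_commutator ha hb)
    set n := q ^ x.factorization q with hn
    refine ⟨powMod K H₁ n hcomm, powMod_normal K H₁ n hcomm, ?_, ?_⟩
    · have hle : H₁ ≤ powMod K H₁ n hcomm := fun z hz => ⟨hH₁K.le hz, Subgroup.pow_mem _ hz _⟩
      refine lt_of_le_of_ne hle fun heq => ?_
      haveI := Fact.mk hq
      haveI : (H₁.subgroupOf K).Normal := Subgroup.Normal.comap inferInstance _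
      obtain ⟨y, hy⟩ := exists_prime_orderOf_dvd_card' (G := ↥K ⧸ H₁.subgroupOf K) q
        (by rwa [← Subgroup.index_eq_card])
      obtain ⟨y, rfl⟩ := QuotientGroup.mk_surjective y
      have hmem : (y : L) ∈ powMod K H₁ n hcomm := ⟨y.2, by
        have h1 : (y : ↥K ⧸ H₁.subgroupOf K) ^ n = 1 := orderOf_dvd_iff_pow_eq_one.1
          (hy ▸ dvd_pow_self q (hq.factorization_pos_of_dvd hx0 hqd).ne')
        rw [← QuotientGroup.mk_pow, QuotientGroup.eq_one_iff, Subgroup.mem_subgroupOf] at h1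
        exact_mod_cast h1⟩
      rw [← heq] at hmem
      rw [(QuotientGroup.eq_one_iff y).2 (Subgroup.mem_subgroupOf.2 hmem), orderOf_one] at hy
      exact hq.ne_one hy.symm
    · refine lt_of_le_of_ne (fun z hz => hz.1) fun heq => ?_
      haveI := Fact.mk hr
      haveI : (H₁.subgroupOf K).Normal := Subgroup.Normal.comap inferInstance _
      obtain ⟨y, hy⟩ := exists_prime_orderOf_dvd_card' (G := ↥K ⧸ H₁.subgroupOf K) r
        (by rwa [← Subgroup.index_eq_card])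
      obtain ⟨y, rfl⟩ := QuotientGroup.mk_surjective y
      have hmem : (y : L) ∈ powMod K H₁ n hcomm := by rw [heq]; exact y.2
      have h1 : (y : ↥K ⧸ H₁.subgroupOf K) ^ n = 1 := by
        rw [← QuotientGroup.mk_pow, QuotientGroup.eq_one_iff, Subgroup.mem_subgroupOf]
        exact_mod_cast hmem.2
      have h2 := orderOf_dvd_of_pow_eq_one h1
      rw [hy] at h2
      exact hrq ((Nat.prime_dvd_prime_iff_eq hr hq).1 (hr.dvd_of_dvd_pow h2))
  rcases hgood with hN | hbig | hnot | hab | ⟨p, m, hp, hm, hdvd⟩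
  · exact hNcase hN
  · exact hbigCase hbig
  · exact hNcase (hnp hnot)
  · exact htriv (by rw [hH₁, sup_eq_right.2 hab])
  -- a small prime chief factor
  by_cases hbig : 4 * K.index ^ 2 + 1 < H₁.relIndex K
  · exact hbigCase hbig
  refine htriv ?_
  have hxd : H₁.relIndex K ∣ p ^ m := hm ▸ Dvd.intro_left _ (Subgroup.relIndex_mul_relIndex M H₁ K hMH hH₁K.le)
  obtain ⟨j, -, hj⟩ := (Nat.dvd_prime_pow hp).1 hxd
  have hj0 : j ≠ 0 := fun h => by
    rw [h, pow_zero] at hj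
    exact hH₁K.not_ge (Subgroup.relIndex_eq_one.1 hj)
  have hpodd : Odd p := by
    have h : p ∣ H₁.relIndex K := hj ▸ dvd_pow_self p hj0
    exact (hdvdL H₁ K hH₁K.le).of_dvd_nat h
  have hj1 : j = 1 := by
    by_contra hne
    have hj2 : p ^ 2 ≤ H₁.relIndex K := hj ▸ Nat.pow_le_pow_right hp.pos (by omega)
    obtain ⟨c, hc⟩ := hdvd
    have hp1 : 1 ≤ p := hp.pos
    have h2 : 2 * K.index ≤ p - 1 := by
      rcases c with _ | _ | c
      · have := hp.two_le; omega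
      · rw [zero_add, mul_one] at hc
        obtain ⟨t, ht⟩ := hpodd
        obtain ⟨s, hs⟩ := he
        omega
      · rw [hc]; nlinarith
    have h3 : 2 * K.index + 1 ≤ p := by omega
    have h4 := Nat.pow_le_pow_left h3 2
    have he1 : 1 ≤ K.index := he.pos
    nlinarith
  rw [hj1, pow_one] at hj
  by_contra hMne
  obtain ⟨N, hNn, hMN, hNH, hcent⟩ := exists_central_step M H₁ K (lt_of_le_of_ne hMH hMne) hH₁K.le hnil
  refine hNH.not_ge ?_
  rw [hH₁]
  refine sup_le ?_ hMN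
  obtain ⟨k, hk, hkH⟩ := SetLike.exists_of_lt hH₁K
  haveI : (H₁.subgroupOf K).Normal := Subgroup.Normal.comap inferInstance _
  haveI := Fact.mk hp
  have hgen : ∀ x ∈ K, ∃ i : ℤ, (k ^ i)⁻¹ * x ∈ H₁ := by
    intro x hx
    have hcard : Nat.card (↥K ⧸ H₁.subgroupOf K) = p := by rw [← Subgroup.index_eq_card]; exact hj
    have hk1 : ((⟨k, hk⟩ : K) : ↥K ⧸ H₁.subgroupOf K) ≠ 1 := fun h =>
      hkH (Subgroup.mem_subgroupOf.1 ((QuotientGroup.eq_one_iff _).1 h))
    obtain ⟨i, hi⟩ := mem_zpowers_of_prime_card hcard hk1 (g' := ((⟨x, hx⟩ : K) : ↥K ⧸ H₁.subgroupOf K))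
    refine ⟨i, ?_⟩
    have hi' : (((⟨k, hk⟩ : K) ^ i : K) : ↥K ⧸ H₁.subgroupOf K) = ((⟨x, hx⟩ : K) : ↥K ⧸ H₁.subgroupOf K) := hi
    have h := Subgroup.mem_subgroupOf.1 (QuotientGroup.eq.1 hi')
    simpa using h
  haveI := hNn
  have hc1 : ∀ h ∈ H₁, ∀ y ∈ K, Commute (h : L ⧸ N) (y : L ⧸ N) := by
    intro h hh y hy
    have e := (QuotientGroup.eq_one_iff (N := N) _).2 (hcent h hh y hy)
    rw [QuotientGroup.mk_mul, QuotientGroup.mk_mul, QuotientGroup.mk_mul, QuotientGroup.mk_inv,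
      QuotientGroup.mk_inv, mul_inv_eq_one, mul_inv_eq_iff_eq_mul] at e
    exact e
  rw [Subgroup.commutator_le]
  intro x hx y hy
  rw [← QuotientGroup.eq_one_iff, commutatorElement_def]
  obtain ⟨i, hi⟩ := hgen x hx
  obtain ⟨j', hj'⟩ := hgen y hy
  have hxy : Commute (x : L ⧸ N) (y : L ⧸ N) := by
    rw [show x = k ^ i * ((k ^ i)⁻¹ * x) by group, show y = k ^ j' * ((k ^ j')⁻¹ * y) by group,
      QuotientGroup.mk_mul N (k ^ i), QuotientGroup.mk_mul N (k ^ j')]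
    have hkk : Commute ((k ^ i : L) : L ⧸ N) ((k ^ j' : L) : L ⧸ N) := by
      rw [QuotientGroup.mk_zpow, QuotientGroup.mk_zpow]
      exact Commute.zpow_zpow_self _ i j'
    refine (hkk.mul_right ?_).mul_left ((hc1 _ hi _ (Subgroup.zpow_mem _ hk _)).mul_right ?_)
    · exact (hc1 _ hj' _ (Subgroup.zpow_mem _ hk _)).symm
    · exact hc1 _ hi _ (hH₁K.le hj')
  rw [QuotientGroup.mk_mul, QuotientGroup.mk_mul, QuotientGroup.mk_mul, QuotientGroup.mk_inv, QuotientGroup.mk_inv,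
    hxy.eq]
  group

end Cfsg.Agent.Char
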