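import Cfsg.Agent.Lib.Char.CoherenceDescent

/-!
Coherence descends through nilpotent sections.
-/

set_option linter.unusedSectionVars false
set_option linter.style.haveILetI false

open scoped ComplexConjugate commutatorElement
open Cfsg

namespace Cfsg.Agent.Char

universe u v

variable {L : Type u} [Group L] [Fintype L] {G : Type v} [Group G] [Fintype G]

/-- Below a proper normal subgroup of a nilpotent section there is a central step. -/
theorem exists_central_step (M B H : Subgroup L) [M.Normal] [B.Normal] [H.Normal] (hMB : M < B) (hBH : B ≤ H)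
    [(M.subgroupOf H).Normal] (hnil : Group.IsNilpotent (↥H ⧸ M.subgroupOf H)) :
    ∃ N : Subgroup L, N.Normal ∧ M ≤ N ∧ N < B ∧ ∀ x ∈ B, ∀ y ∈ H, x * y * x⁻¹ * y⁻¹ ∈ N := by
  classical
  haveI := Fintype.ofFinite (Subgroup L)
  obtain ⟨N, hN, hmax⟩ := Finset.exists_max_image
    (Finset.univ.filter fun N : Subgroup L => N.Normal ∧ M ≤ N ∧ N < B) (fun N => Nat.card N)
    ⟨M, Finset.mem_filter.2 ⟨Finset.mem_univ _, inferInstance, le_rfl, hMB⟩⟩
  obtain ⟨-, hNn, hMN, hNB⟩ := Finset.mem_filter.1 hN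
  refine ⟨N, hNn, hMN, hNB, ?_⟩
  haveI := hNn
  haveI : (⁅B, H⁆).Normal := Subgroup.commutator_normal B H
  set J := ⁅B, H⁆ ⊔ N with hJ
  haveI : J.Normal := Subgroup.sup_normal _ _
  have hJB : J ≤ B := sup_le (Subgroup.commutator_le_left B H) hNB.le
  suffices hlt : J < B by
    have hle : Nat.card J ≤ Nat.card N := hmax J
      (Finset.mem_filter.2 ⟨Finset.mem_univ _, inferInstance, hMN.trans le_sup_right, hlt⟩)
    have : J = N := (Subgroup.eq_of_le_of_card_ge le_sup_right hle).symm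
    intro x hx y hy
    rw [← this, ← commutatorElement_def]
    exact Subgroup.mem_sup_left (Subgroup.commutator_mem_commutator hx hy)
  refine lt_of_le_of_ne hJB fun heq => ?_
  haveI : (N.subgroupOf H).Normal := Subgroup.Normal.comap inferInstance _
  set q := QuotientGroup.mk' (N.subgroupOf H) with hq
  haveI : Group.IsNilpotent (↥H ⧸ M.subgroupOf H) := hnil
  haveI hR : Group.IsNilpotent (↥H ⧸ N.subgroupOf H) := Group.nilpotent_of_surjective
    (QuotientGroup.map (M.subgroupOf H) (N.subgroupOf H) (MonoidHom.id _) (fun x hx =>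
      Subgroup.mem_subgroupOf.2 (hMN (Subgroup.mem_subgroupOf.1 hx))))
    (fun y => by
      obtain ⟨x, rfl⟩ := QuotientGroup.mk'_surjective _ y
      exact ⟨QuotientGroup.mk' _ x, rfl⟩)
  set c := (B.subgroupOf H).map q with hc
  have hkerq : (N.subgroupOf H).map q = ⊥ := by
    rw [Subgroup.map_eq_bot_iff, hq, QuotientGroup.ker_mk']
  have hstep : c ≤ ⁅c, (⊤ : Subgroup (↥H ⧸ N.subgroupOf H))⁆ := by
    have hdec : B.subgroupOf H = ⁅B.subgroupOf H, (⊤ : Subgroup H)⁆ ⊔ N.subgroupOf H := by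
      apply Subgroup.map_injective (Subgroup.subtype_injective H)
      rw [Subgroup.map_sup, Subgroup.map_commutator, Subgroup.subgroupOf_map_subtype,
        Subgroup.subgroupOf_map_subtype, inf_eq_left.2 hBH, inf_eq_left.2 (hNB.le.trans hBH),
        ← MonoidHom.range_eq_map, Subgroup.range_subtype]
      exact heq.symm
    conv_lhs => rw [hc, hdec, Subgroup.map_sup, Subgroup.map_commutator, hkerq, sup_bot_eq]
    rw [Subgroup.map_top_of_surjective q (QuotientGroup.mk'_surjective _)]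
  have hall : ∀ k, c ≤ (⊤ : Subgroup (↥H ⧸ N.subgroupOf H)).lowerCentralSeries k := by
    intro k
    induction k with
    | zero => exact le_top
    | succ k ih => exact hstep.trans (Subgroup.commutator_mono ih le_rfl)
  obtain ⟨k, hk⟩ := Subgroup.nilpotent_iff_lowerCentralSeries.1 hR
  have hb := le_bot_iff.1 ((hall k).trans hk.le)
  rw [hc, Subgroup.map_eq_bot_iff, hq, QuotientGroup.ker_mk'] at hb
  refine hNB.not_ge fun x hx => ?_
  exact Subgroup.mem_subgroupOf.1 (hb (Subgroup.mem_subgroupOf.2 (show ((⟨x, hBH hx⟩ : H) : L) ∈ B from hx)))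

variable {τ : (L → ℂ) → (G → ℂ)} {R : (L → ℂ) → Finset (G → ℂ)}

/-- Coherence descends through a nilpotent section with a large quotient. -/
theorem coherence_descends_nilpotent (K : Subgroup L) [K.Normal] (hsolv : Group.IsSolvable K)
    (hS : IsCoherenceSystem (inducedIrrAbove K ⊥) τ R) (M H₁ H : Subgroup L) [M.Normal] [H₁.Normal] [H.Normal]
    (hMH₁ : M ≤ H₁) (hH₁H : H₁ ≤ H) (hHK : H ≤ K) [(M.subgroupOf H).Normal]
    (hnil : Group.IsNilpotent (↥H ⧸ M.subgroupOf H)) (hcoh : IsCoherent (inducedIrrAbove K H₁) {1}ᶜ τ)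
    (hbig : 4 * K.index ^ 2 + 1 < H₁.relIndex H) : IsCoherent (inducedIrrAbove K M) {1}ᶜ τ := by
  classical
  haveI := Fintype.ofFinite (Subgroup L)
  obtain ⟨B, hB, hmin⟩ := Finset.exists_min_image
    (Finset.univ.filter fun N : Subgroup L => N.Normal ∧ M ≤ N ∧ N ≤ H₁ ∧ IsCoherent (inducedIrrAbove K N) {1}ᶜ τ)
    (fun N => Nat.card N) ⟨H₁, Finset.mem_filter.2 ⟨Finset.mem_univ _, inferInstance, hMH₁, le_rfl, hcoh⟩⟩
  obtain ⟨-, hBn, hMB, hBH₁, hBc⟩ := Finset.mem_filter.1 hB
  rcases hMB.eq_or_lt with h | hlt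
  · rw [h]; exact hBc
  exfalso
  haveI := hBn
  obtain ⟨N, hNn, hMN, hNB, hcent⟩ := exists_central_step M B H hlt (hBH₁.trans hH₁H) hnil
  haveI := hNn
  have hne : H₁ ≠ H := fun h => by rw [h, Subgroup.relIndex_self] at hbig; omega
  have hBK : B < K := lt_of_le_of_lt hBH₁ (lt_of_lt_of_le (lt_of_le_of_ne hH₁H hne) hHK)
  have hh : H₁.relIndex H ≤ B.relIndex H := by
    rw [← Subgroup.relIndex_mul_relIndex B H₁ H hBH₁ hH₁H]
    exact Nat.le_mul_of_pos_left _ (Nat.pos_of_ne_zero Subgroup.index_ne_zero_of_finite)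
  set h := B.relIndex H with hhdef
  set k := H.relIndex K with hkdef
  have hk : 1 ≤ k := Nat.pos_of_ne_zero Subgroup.index_ne_zero_of_finite
  have hBKk : B.relIndex K = h * k := (Subgroup.relIndex_mul_relIndex B H K (hBH₁.trans hH₁H) hHK).symm
  have hcoh' := coherence_descends K hsolv hS B N H B hBK (lt_trans hNB hBK) hNB.le (hBH₁.trans hH₁H) hHK
    hcent hBc (by
      rw [← Subgroup.relIndex_mul_index hHK, ← hhdef, ← hkdef, hBKk]
      set e := K.index
      have h2 : 4 * e ^ 2 + 2 ≤ h := by omega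
      have h3 : 1 ≤ h * k := Nat.one_le_iff_ne_zero.2 (Nat.mul_ne_zero (by omega) (by omega))
      obtain ⟨r, hr⟩ := Nat.exists_eq_add_of_le h3
      rw [hr, Nat.add_sub_cancel_left]
      nlinarith [Nat.mul_le_mul_right (h * k * k) h2, Nat.mul_le_mul_left (h * k) hk])
  exact hNB.ne (Subgroup.eq_of_le_of_card_ge hNB.le
    (hmin N (Finset.mem_filter.2 ⟨Finset.mem_univ _, hNn, hMN, hNB.le.trans hBH₁, hcoh'⟩)))

end Cfsg.Agent.Char
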