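import Mathlib

/-!
Counting commuting pairs over a coprime abelian normal subgroup.
-/

set_option autoImplicit false
set_option linter.unusedSectionVars false

namespace Cfsg.Agent.Char

variable {V : Type*} [CommGroup V] [Finite V] {Q : Type*} [Group Q] [Finite Q] (φ : Q →* MulAut V)

theorem card_pair_fibre (hcop : (Nat.card V).Coprime (Nat.card Q)) {g h : Q} (hgh : g * h = h * g) :
    Nat.card {ab : V × V // ab.1 * φ g ab.2 = ab.2 * φ h ab.1} =
      Nat.card V * Nat.card {v : V // φ g v = v ∧ φ h v = v} := by
  classical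
  let D : V × V →* V :=
    { toFun := fun ab => ab.1 / φ h ab.1 * (φ g ab.2 / ab.2)
      map_one' := by simp
      map_mul' := fun x y => by
        simp only [Prod.fst_mul, Prod.snd_mul, map_mul, mul_div_mul_comm]
        exact mul_mul_mul_comm _ _ _ _ }
  have hT : Nat.card {ab : V × V // ab.1 * φ g ab.2 = ab.2 * φ h ab.1} = Nat.card D.ker := by
    refine Nat.card_congr (Equiv.subtypeEquivRight fun ab => ?_)
    show _ ↔ ab.1 / φ h ab.1 * (φ g ab.2 / ab.2) = 1
    rw [div_mul_div_comm, div_eq_one, mul_comm (φ h ab.1)]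
  -- the averaging map
  let A : Subgroup Q := Subgroup.closure {g, h}
  haveI := Fintype.ofFinite A
  have hcomm : ∀ a ∈ A, a * g = g * a ∧ a * h = h * a := by
    intro a ha
    induction ha using Subgroup.closure_induction with
    | mem x hx =>
      rcases hx with rfl | rfl
      · exact ⟨rfl, hgh⟩
      · exact ⟨hgh.symm, rfl⟩
    | one => simp
    | mul x y _ _ hx hy =>
      exact ⟨((show Commute x g from hx.1).mul_left (show Commute y g from hy.1)).eq,
        ((show Commute x h from hx.2).mul_left (show Commute y h from hy.2)).eq⟩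
    | inv x _ hx =>
      exact ⟨(show Commute x g from hx.1).inv_left.eq, (show Commute x h from hx.2).inv_left.eq⟩
  let N : V →* V :=
    { toFun := fun v => ∏ a : A, φ (a : Q) v
      map_one' := by simp
      map_mul' := fun x y => by simp [Finset.prod_mul_distrib] }
  have hNfix : ∀ (v : V), ∀ a ∈ A, φ a (N v) = N v := fun v a ha => by
    show φ a (∏ b : A, φ (b : Q) v) = ∏ b : A, φ (b : Q) v
    rw [map_prod]
    refine Fintype.prod_equiv (Equiv.mulLeft (⟨a, ha⟩ : A)) _ _ fun b => ?_
    rw [← MulAut.mul_apply, ← map_mul]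
    rfl
  have hg : g ∈ A := Subgroup.subset_closure (Or.inl rfl)
  have hh : h ∈ A := Subgroup.subset_closure (Or.inr rfl)
  have hNinv : ∀ (v : V), ∀ a ∈ A, N (φ a v) = N v := fun v a ha => by
    show ∏ b : A, φ (b : Q) (φ a v) = ∏ b : A, φ (b : Q) v
    refine Fintype.prod_equiv (Equiv.mulRight (⟨a, ha⟩ : A)) _ _ fun b => ?_
    rw [← MulAut.mul_apply, ← map_mul]
    rfl
  have hcA : (Nat.card A).Coprime (Nat.card V) :=
    (hcop.symm).coprime_dvd_left (Subgroup.card_subgroup_dvd_card A)
  -- the image of `D` is the kernel of the average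
  have hle : D.range ≤ N.ker := by
    rintro _ ⟨ab, rfl⟩
    show N (ab.1 / φ h ab.1 * (φ g ab.2 / ab.2)) = 1
    rw [map_mul, map_div, map_div, hNinv _ h hh, hNinv _ g hg, div_self', div_self', one_mul]
  have hmoves : ∀ a ∈ A, ∀ v : V, φ a v / v ∈ D.range := by
    intro a ha
    induction ha using Subgroup.closure_induction with
    | mem x hx =>
      intro v
      rcases hx with rfl | rfl
      · exact ⟨(1, v), by simp [D]⟩
      · exact ⟨(v⁻¹, 1), by simp [D, div_eq_mul_inv, mul_comm]⟩
    | one => intro v; simp
    | mul x y _ _ hx hy =>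
      intro v
      have := mul_mem (hx (φ y v)) (hy v)
      rwa [div_mul_div_cancel, ← MulAut.mul_apply, ← map_mul] at this
    | inv x _ hx =>
      intro v
      have := inv_mem (hx (φ x⁻¹ v))
      rwa [← MulAut.mul_apply, ← map_mul, mul_inv_cancel, map_one, MulAut.one_apply, inv_div] at this
  have hge : N.ker ≤ D.range := by
    intro v hv
    have hpow : v ^ Nat.card A ∈ D.range := by
      have e : v ^ Nat.card A = ∏ a : A, (φ (a : Q) v / v)⁻¹ := by
        simp only [inv_div]
        rw [Finset.prod_div_distrib, Finset.prod_const, Finset.card_univ, ← Nat.card_eq_fintype_card,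
          show ∏ a : A, φ (a : Q) v = 1 from hv, div_one]
      rw [e]
      exact Subgroup.prod_mem _ fun a _ => inv_mem (hmoves _ a.2 v)
    have hb := Subgroup.zpowers_le.2 hpow
    have : v ∈ Subgroup.zpowers (v ^ Nat.card A) := by
      obtain ⟨k, hk⟩ := exists_pow_eq_self_of_coprime (hcA.coprime_dvd_right (orderOf_dvd_natCard v))
      exact ⟨(k : ℤ), by simp only [zpow_natCast]; exact hk⟩
    exact hb this
  let e : N.range ≃ {v : V // φ g v = v ∧ φ h v = v} :=
    { toFun := fun w => ⟨w.1, by
        obtain ⟨v, hv⟩ := w.2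
        rw [← hv]
        exact ⟨hNfix v g hg, hNfix v h hh⟩⟩
      invFun := fun w => ⟨w.1, by
        have hfix : ∀ a ∈ A, φ a w.1 = w.1 := by
          intro a ha
          induction ha using Subgroup.closure_induction with
          | mem x hx =>
            rcases hx with rfl | rfl
            · exact w.2.1
            · exact w.2.2
          | one => simp
          | mul x y _ _ hx hy => rw [map_mul, MulAut.mul_apply, hy, hx]
          | inv x _ hx =>
            have e : φ x⁻¹ (φ x w.1) = w.1 := by
              rw [← MulAut.mul_apply, ← map_mul, inv_mul_cancel, map_one, MulAut.one_apply]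
            rwa [hx] at e
        obtain ⟨k, hk⟩ := exists_pow_eq_self_of_coprime (hcA.coprime_dvd_right (orderOf_dvd_natCard w.1))
        refine ⟨w.1 ^ k, ?_⟩
        show ∏ a : A, φ (a : Q) (w.1 ^ k) = w.1
        rw [Finset.prod_congr rfl (fun a _ => by rw [map_pow, hfix _ a.2]), Finset.prod_const,
          Finset.card_univ, ← Nat.card_eq_fintype_card, ← pow_mul, mul_comm, pow_mul, hk]⟩
      left_inv := fun w => rfl
      right_inv := fun w => rfl }
  rw [hT, ← Nat.card_congr e]
  have h1 := Subgroup.card_mul_index D.ker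
  rw [Subgroup.index_ker, le_antisymm hle hge, Nat.card_prod] at h1
  have h2 := Subgroup.card_mul_index N.ker
  rw [Subgroup.index_ker] at h2
  refine Nat.eq_of_mul_eq_mul_right (Nat.card_pos (α := N.ker)) ?_
  rw [h1, mul_assoc, mul_comm (Nat.card N.range), h2]

end Cfsg.Agent.Char
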