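import Cfsg.Agent.S2299
import Cfsg.Agent.S2300
import Cfsg.Agent.S0242
import Cfsg.Agent.Lib.Lead.SL2Deg
import Cfsg.Agent.Lib.Lead.GLBasic
import Cfsg.Agent.Lib.Char.Inflate
import Cfsg.Agent.Lib.Char.Glauberman
import Cfsg.Agent.Lib.Char.BlockBasic
import Cfsg.Prelude.Def_DegreeGraph
import Mathlib

/-!
# The character degrees of `PSL(2,q)` and the degree graph
-/

set_option autoImplicit false
set_option linter.unusedSectionVars false
set_option linter.style.haveILetI false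

namespace Cfsg.Agent.Char.PSL2Deg

open Cfsg Cfsg.Agent Cfsg.Agent.Char

universe u

theorem no_qMinus {m a b c : ℕ} (hm : 4 ≤ m) (hb : b ≤ 2) (hc : c ≤ 2)
    (h : 1 + (2 * m - 1) ^ 2 + a * (4 * m ^ 2) + b * m ^ 2 + c * (m - 1) ^ 2 =
      2 * m * (2 * m - 1) * (m - 1)) : False := by
  obtain ⟨j, rfl⟩ : ∃ j, m = j + 1 := ⟨m - 1, by omega⟩
  simp only [show 2 * (j + 1) - 1 = 2 * j + 1 by omega, Nat.add_sub_cancel] at h
  have hd : ((j + 1 : ℕ) : ℤ) ∣ ((2 + c : ℕ) : ℤ) := by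
    refine ⟨2 * (2 * j + 1) * j - (4 * j) - 4 * a * (j + 1) - b * (j + 1) - c * (j - 1), ?_⟩
    have h' : (1 : ℤ) + (2 * j + 1) ^ 2 + a * (4 * (j + 1) ^ 2) + b * (j + 1) ^ 2 + c * j ^ 2 =
        2 * (j + 1) * (2 * j + 1) * j := by exact_mod_cast h
    push_cast
    linear_combination h'
  have hle := Nat.le_of_dvd (by omega) (Int.natCast_dvd_natCast.mp hd)
  obtain rfl : j = 3 := by omega
  obtain rfl : c = 2 := by omega
  omega

theorem no_qPlus {m d b c : ℕ} (hm : 3 ≤ m) (hb : b ≤ 2) (hc : c ≤ 2)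
    (h : 1 + (2 * m + 1) ^ 2 + d * (4 * m ^ 2) + b * (m + 1) ^ 2 + c * m ^ 2 =
      2 * m * (2 * m + 1) * (m + 1)) : False := by
  have hd : (m : ℤ) ∣ ((2 + b : ℕ) : ℤ) := by
    refine ⟨2 * (2 * m + 1) * (m + 1) - 4 * m - 4 - 4 * d * m - b * (m + 2) - c * m, ?_⟩
    have h' : (1 : ℤ) + (2 * m + 1) ^ 2 + d * (4 * m ^ 2) + b * (m + 1) ^ 2 + c * m ^ 2 =
        2 * m * (2 * m + 1) * (m + 1) := by exact_mod_cast h
    push_cast
    linear_combination h'
  have hle := Nat.le_of_dvd (by omega) (Int.natCast_dvd_natCast.mp hd)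
  have hdn := Int.natCast_dvd_natCast.mp hd
  rcases (show m = 3 ∨ m = 4 by omega) with rfl | rfl
  · obtain rfl : b = 1 := by omega
    omega
  · obtain rfl : b = 2 := by omega
    omega

variable {F : Type u} [Field F] [Fintype F]

local notation "SL" => Matrix.SpecialLinearGroup (Fin 2) F
local notation "PSL" => Matrix.ProjectiveSpecialLinearGroup (Fin 2) F

theorem card_irr_deg_le (d : ℕ) :
    Nat.card {χ : IrrCharacter PSL // charDegree (χ : PSL → ℂ) = d} ≤
      Nat.card {χ : IrrCharacter SL // (χ : SL → ℂ) 1 = (d : ℂ)} := by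
  classical
  haveI : Finite SL := inferInstance
  haveI := Fintype.ofFinite SL
  refine Nat.card_le_card_of_injective
    (fun χ => ⟨(inflateEquiv (Subgroup.center SL) χ.1).1, ?_⟩) ?_
  · rw [inflateEquiv_apply, QuotientGroup.mk_one, char_one_eq_deg (irr_isCharacter χ.1.2),
      ← charDegree_eq_deg, χ.2]
  · intro a b h
    exact Subtype.ext ((inflateEquiv (Subgroup.center SL)).injective
      (Subtype.ext (congrArg (fun x => x.1) h)))

/-- Inflation keeps the degree. -/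
theorem exists_sl_of_psl (χ : IrrCharacter PSL) :
    ∃ ψ : IrrCharacter SL, charDegree (ψ : SL → ℂ) = charDegree (χ : PSL → ℂ) := by
  classical
  haveI := Fintype.ofFinite SL
  refine ⟨(inflateEquiv (Subgroup.center SL) χ).1, ?_⟩
  simp only [charDegree, inflateEquiv_apply, QuotientGroup.mk_one]

/-- The degrees of `SL(2,q)`. -/
theorem sl_degree (χ : IrrCharacter SL) :
    charDegree (χ : SL → ℂ) = 1 ∨ charDegree (χ : SL → ℂ) = Fintype.card F ∨
      charDegree (χ : SL → ℂ) = Fintype.card F + 1 ∨ charDegree (χ : SL → ℂ) = Fintype.card F - 1 ∨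
      (Odd (Fintype.card F) ∧ (charDegree (χ : SL → ℂ) = (Fintype.card F + 1) / 2 ∨
        charDegree (χ : SL → ℂ) = (Fintype.card F - 1) / 2)) := by
  classical
  haveI := Fintype.ofFinite SL
  haveI : Fintype (MulChar F ℂ) := Fintype.ofFinite _
  obtain ⟨n, hn, hk⟩ := Lead.SL2.kind χ.2
  have hd : charDegree (χ : SL → ℂ) = n := by
    rw [charDegree, hn]; simp
  rw [hd]
  cases hk with
  | one _ hm => omega
  | st _ hm => omega
  | prin γ _ _ hm => omega
  | cusp _ _ _ _ _ hm => omega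
  | halfPs _ ho _ hm => exact Or.inr (Or.inr (Or.inr (Or.inr ⟨ho, by omega⟩)))
  | halfCusp _ _ _ _ _ ho _ hm => exact Or.inr (Or.inr (Or.inr (Or.inr ⟨ho, by omega⟩)))

/-- The degrees of `PSL(2,q)`. -/
theorem psl_degree (χ : IrrCharacter PSL) :
    charDegree (χ : PSL → ℂ) = 1 ∨ charDegree (χ : PSL → ℂ) = Fintype.card F ∨
      charDegree (χ : PSL → ℂ) = Fintype.card F + 1 ∨ charDegree (χ : PSL → ℂ) = Fintype.card F - 1 ∨
      (Odd (Fintype.card F) ∧ (charDegree (χ : PSL → ℂ) = (Fintype.card F + 1) / 2 ∨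
        charDegree (χ : PSL → ℂ) = (Fintype.card F - 1) / 2)) := by
  obtain ⟨ψ, hψ⟩ := exists_sl_of_psl χ
  rw [← hψ]
  exact sl_degree ψ

/-- The Steinberg character lives on `PSL(2,q)`. -/
theorem exists_steinberg : ∃ χ : IrrCharacter PSL, charDegree (χ : PSL → ℂ) = Fintype.card F := by
  classical
  haveI := Fintype.ofFinite SL
  haveI : Fintype (MulChar F ℂ) := Fintype.ofFinite _
  have htriv : ∀ z ∈ Subgroup.center SL, (Lead.SL2.St0 : SL → ℂ) z = (Lead.SL2.St0 : SL → ℂ) 1 := by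
    intro z hz
    obtain ⟨r, hr, hz'⟩ := Matrix.SpecialLinearGroup.mem_center_iff.mp hz
    have hr0 : r ≠ 0 := fun e => by
      rw [e, Fintype.card_fin, zero_pow (by norm_num)] at hr
      exact zero_ne_one hr
    have hg : Lead.SL2.toGL2 z = Lead.GL2.up (Units.mk0 r hr0) (Units.mk0 r hr0) 0 := by
      refine Lead.GL2.ext2 ?_ ?_ ?_ ?_
      all_goals
        show (z : Matrix (Fin 2) (Fin 2) F) _ _ = _
        rw [← hz']
        simp [Lead.GL2.mat_up]
    have hr2 : Units.mk0 r hr0 * Units.mk0 r hr0 = 1 := Units.ext (by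
      simpa [sq] using hr)
    rw [Lead.SL2.St0_one_val]
    simp only [Lead.SL2.St0, Lead.SL2.res, hg, Lead.GL2.st, Pi.sub_apply, Lead.GL2.ps_borel,
      Lead.GL2.linDet_up, MulChar.one_apply_coe]
    simp
  obtain ⟨χ, hχ⟩ := (inflateEquiv (Subgroup.center SL)).surjective
    ⟨⟨Lead.SL2.St0, Lead.SL2.St0_irr⟩, htriv⟩
  refine ⟨χ, ?_⟩
  have e := congrFun (congrArg Subtype.val (congrArg Subtype.val hχ)) 1
  rw [inflateEquiv_apply, QuotientGroup.mk_one] at e
  rw [charDegree, e]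
  simp only [Lead.SL2.St0_one_val]
  simp

theorem sum_sq_psl : ∑ χ : IrrCharacter PSL, charDegree (χ : PSL → ℂ) ^ 2 = Nat.card PSL := by
  classical
  haveI := Fintype.ofFinite PSL
  apply Nat.cast_injective (R := ℂ)
  rw [← sum_sq_deg, Nat.cast_sum]
  exact Finset.sum_congr rfl fun χ _ => by
    rw [Nat.cast_pow, charDegree_eq_deg, char_one_eq_deg (irr_isCharacter χ.2)]

theorem card_psl_odd {m : ℕ} (hodd : Odd (Fintype.card F)) (hm : Fintype.card F = 2 * m + 1) :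
    Nat.card PSL = 2 * m * (2 * m + 1) * (m + 1) := by
  classical
  haveI : Nonempty (Fin 2) := ⟨0⟩
  have h1 := Lead.GLBasic.card_PSL (F := F) 2
  have h2 := Cfsg.Agent.S0242.result (F := F) (q := Fintype.card F) rfl 2 (by norm_num)
  rw [Fin.prod_univ_two] at h2
  have hg : Nat.gcd 2 (Fintype.card F - 1) = 2 := by
    rw [hm]; simp
  rw [hg] at h1
  rw [← h1] at h2
  simp only [Fin.val_zero, Fin.val_one, pow_zero, pow_one, hm] at h2
  have e1 : (2 * m + 1) ^ 2 - 1 = 4 * m * (m + 1) := by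
    rw [Nat.sub_eq_iff_eq_add (Nat.one_le_pow _ _ (by omega))]; ring
  have e2 : (2 * m + 1) ^ 2 - (2 * m + 1) = 2 * m * (2 * m + 1) := by
    rw [Nat.sub_eq_iff_eq_add (Nat.le_self_pow (by norm_num) _)]; ring
  rw [e1, e2, Nat.add_sub_cancel] at h2
  have hm0 : 0 < m := by
    have := Fintype.one_lt_card (α := F); omega
  refine Nat.eq_of_mul_eq_mul_left (show 0 < 4 * m by omega) ?_
  linarith

/-- Both `q + 1` and `q - 1` are degrees of `PSL(2,q)`. -/
theorem exists_both (hq : 4 ≤ Fintype.card F) (hne : Fintype.card F ≠ 5) :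
    (∃ χ : IrrCharacter PSL, charDegree (χ : PSL → ℂ) = Fintype.card F + 1) ∧
      ∃ χ : IrrCharacter PSL, charDegree (χ : PSL → ℂ) = Fintype.card F - 1 := by
  classical
  haveI := Fintype.ofFinite SL
  haveI : Fintype (MulChar F ℂ) := Fintype.ofFinite _
  rcases Nat.even_or_odd (Fintype.card F) with heven | hodd
  · have h2 : ringChar F = 2 := FiniteField.even_card_iff_char_two.2 (Nat.even_iff.mp heven)
    haveI : CharP F 2 := ringChar.eq_iff.mp h2
    haveI : Nontrivial F := inferInstance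
    have hc := (Cfsg.Agent.S2300.result (F := F)).2 hq
    have hcen : ∀ z ∈ Subgroup.center SL, z = 1 := by
      intro z hz
      obtain ⟨r, hr, hz'⟩ := Matrix.SpecialLinearGroup.mem_center_iff.mp hz
      rw [Fintype.card_fin] at hr
      have h0 : (r - 1) ^ 2 = 0 := by
        rw [sub_sq, hr, one_pow, mul_one]
        have : (2 : F) = 0 := CharTwo.two_eq_zero
        linear_combination (1 - r) * this
      have hr1 : r = 1 := sub_eq_zero.mp (pow_eq_zero_iff two_ne_zero |>.mp h0)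
      exact Subtype.ext (by rw [← hz', hr1, map_one]; rfl)
    have key : ∀ ψ : IrrCharacter SL, ∃ χ : IrrCharacter PSL,
        charDegree (χ : PSL → ℂ) = charDegree (ψ : SL → ℂ) := by
      intro ψ
      obtain ⟨χ, hχ⟩ := (inflateEquiv (Subgroup.center SL)).surjective
        ⟨ψ, fun z hz => by rw [hcen z hz]⟩
      refine ⟨χ, ?_⟩
      have e : (inflateEquiv (Subgroup.center SL) χ).1 = ψ := congrArg Subtype.val hχ
      rw [← e]
      simp only [charDegree, inflateEquiv_apply, QuotientGroup.mk_one]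
    constructor
    · obtain ⟨⟨ψ, hψ⟩⟩ := (Nat.card_ne_zero.mp (by rw [hc.2.2.1]; omega :
        Nat.card {χ : IrrCharacter SL // (χ : SL → ℂ) 1 = (Fintype.card F : ℂ) + 1} ≠ 0)).1
      obtain ⟨χ, hχ⟩ := key ψ
      refine ⟨χ, hχ.trans ?_⟩
      rw [charDegree, hψ, ← Nat.cast_one, ← Nat.cast_add, Complex.natCast_re, Nat.floor_natCast]
    · obtain ⟨⟨ψ, hψ⟩⟩ := (Nat.card_ne_zero.mp (by rw [hc.2.2.2]; omega :
        Nat.card {χ : IrrCharacter SL // (χ : SL → ℂ) 1 = (Fintype.card F : ℂ) - 1} ≠ 0)).1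
      obtain ⟨χ, hχ⟩ := key ψ
      refine ⟨χ, hχ.trans ?_⟩
      rw [charDegree, hψ, ← Nat.cast_one, ← Nat.cast_sub (by omega), Complex.natCast_re, Nat.floor_natCast]
  · obtain ⟨m, hm⟩ := hodd
    have hodd : Odd (Fintype.card F) := ⟨m, hm⟩
    have hc := (Cfsg.Agent.S2299.result (F := F) hodd).2 (by omega)
    haveI := Fintype.ofFinite PSL
    set S : ℕ → ℕ := fun d => Nat.card {χ : IrrCharacter PSL // charDegree (χ : PSL → ℂ) = d}
      with hS
    have hS1 : S 1 = 1 := by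
      have h1 : S 1 ≤ 1 := (card_irr_deg_le (F := F) 1).trans (le_of_eq (by
        rw [Nat.cast_one]; exact hc.1))
      have h2 : S 1 ≠ 0 := Nat.card_ne_zero.mpr ⟨⟨⟨⟨_, isIrrCharacter_one⟩, by
        simp [charDegree]⟩⟩, inferInstance⟩
      omega
    have hSq : S (2 * m + 1) = 1 := by
      have h1 : S (2 * m + 1) ≤ 1 := (card_irr_deg_le (F := F) (2 * m + 1)).trans (le_of_eq (by
        rw [← hm]; exact hc.2.1))
      obtain ⟨χ, hχ⟩ := exists_steinberg (F := F)
      have h2 : S (2 * m + 1) ≠ 0 :=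
        Nat.card_ne_zero.mpr ⟨⟨⟨χ, hχ.trans hm⟩⟩, inferInstance⟩
      omega
    have hSp : S (m + 1) ≤ 2 := (card_irr_deg_le (F := F) (m + 1)).trans (le_of_eq (by
      rw [show m + 1 = (Fintype.card F + 1) / 2 by omega]; exact hc.2.2.2.2.1))
    have hSm : S m ≤ 2 := (card_irr_deg_le (F := F) m).trans (le_of_eq (by
      rw [show m = (Fintype.card F - 1) / 2 by omega]; exact hc.2.2.2.2.2))
    have hsum : Nat.card PSL = S 1 * 1 ^ 2 + S (2 * m + 1) * (2 * m + 1) ^ 2 +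
        S (2 * m + 2) * (2 * m + 2) ^ 2 + S (2 * m) * (2 * m) ^ 2 + S (m + 1) * (m + 1) ^ 2 +
        S m * m ^ 2 := by
      rw [← sum_sq_psl]
      have hmaps : ∀ χ ∈ (Finset.univ : Finset (IrrCharacter PSL)), charDegree (χ : PSL → ℂ) ∈
          ({1, 2 * m + 1, 2 * m + 2, 2 * m, m + 1, m} : Finset ℕ) := by
        intro χ _
        rcases psl_degree χ with h | h | h | h | ⟨-, h | h⟩ <;>
          simp only [Finset.mem_insert, Finset.mem_singleton] <;> omega
      rw [← Finset.sum_fiberwise_of_maps_to hmaps]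
      have hfib : ∀ d : ℕ, ∑ χ ∈ Finset.univ.filter
          (fun χ : IrrCharacter PSL => charDegree (χ : PSL → ℂ) = d),
          charDegree (χ : PSL → ℂ) ^ 2 = S d * d ^ 2 := by
        intro d
        rw [Finset.sum_congr rfl (g := fun _ => d ^ 2) fun χ hχ => by
          rw [(Finset.mem_filter.mp hχ).2], Finset.sum_const, smul_eq_mul]
        simp only [hS, Nat.card_eq_fintype_card, Fintype.card_subtype]
      simp only [hfib]
      rw [Finset.sum_insert (by simp; omega), Finset.sum_insert (by simp; omega),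
        Finset.sum_insert (by simp; omega), Finset.sum_insert (by simp; omega),
        Finset.sum_insert (by simp), Finset.sum_singleton]
      ring
    rw [card_psl_odd hodd hm, hS1, hSq] at hsum
    have hne1 : S (2 * m + 2) ≠ 0 := by
      intro h0
      rw [h0] at hsum
      refine no_qPlus (m := m) (d := S (2 * m)) (b := S (m + 1)) (c := S m) (by omega) hSp hSm ?_
      rw [hsum]; ring
    have hne2 : S (2 * m) ≠ 0 := by
      intro h0
      rw [h0] at hsum
      refine no_qMinus (m := m + 1) (a := S (2 * m + 2)) (b := S (m + 1)) (c := S m) (by omega) hSp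
        hSm ?_
      simp only [show 2 * (m + 1) - 1 = 2 * m + 1 by omega, Nat.add_sub_cancel]
      linarith
    obtain ⟨⟨χ, hχ⟩⟩ := (Nat.card_ne_zero.mp hne1).1
    obtain ⟨⟨χ', hχ'⟩⟩ := (Nat.card_ne_zero.mp hne2).1
    exact ⟨⟨χ, by omega⟩, ⟨χ', by omega⟩⟩

theorem mem_charDegrees_iso {S H : Type*} [Group S] [Finite S] [Group H] [Finite H] (e : S ≃* H)
    {d : ℕ} : d ∈ charDegrees S ↔ d ∈ charDegrees H := by
  haveI := Fintype.ofFinite S
  haveI := Fintype.ofFinite H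
  constructor
  · rintro ⟨χ, rfl⟩
    exact ⟨⟨_, isIrrCharacter_comp_equiv e.symm χ.2⟩, by simp [charDegree]⟩
  · rintro ⟨χ, rfl⟩
    exact ⟨⟨_, isIrrCharacter_comp_equiv e χ.2⟩, by simp [charDegree]⟩

/-- The degrees of a group isomorphic to `SL(2,q)` or `PSL(2,q)`. -/
theorem degrees (hq : 4 ≤ Fintype.card F) (hne : Fintype.card F ≠ 5) {S : Type*} [Group S]
    [Finite S] (hS : Nonempty (S ≃* PSL) ∨ Nonempty (S ≃* SL)) :
    (∀ d ∈ charDegrees S, d = 1 ∨ d = Fintype.card F ∨ d = Fintype.card F + 1 ∨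
      d = Fintype.card F - 1 ∨
      (Odd (Fintype.card F) ∧ (d = (Fintype.card F + 1) / 2 ∨ d = (Fintype.card F - 1) / 2))) ∧
      Fintype.card F ∈ charDegrees S ∧ Fintype.card F + 1 ∈ charDegrees S ∧
      Fintype.card F - 1 ∈ charDegrees S := by
  classical
  obtain ⟨⟨a, ha⟩, ⟨b, hb⟩⟩ := exists_both hq hne
  obtain ⟨c, hc⟩ := exists_steinberg (F := F)
  rcases hS with ⟨⟨e⟩⟩ | ⟨⟨e⟩⟩
  · simp only [mem_charDegrees_iso e]
    exact ⟨fun d ⟨χ, hχ⟩ => hχ ▸ psl_degree χ, ⟨c, hc⟩, ⟨a, ha⟩, ⟨b, hb⟩⟩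
  · simp only [mem_charDegrees_iso e]
    refine ⟨fun d ⟨χ, hχ⟩ => hχ ▸ sl_degree χ, ?_, ?_, ?_⟩
    · obtain ⟨ψ, hψ⟩ := exists_sl_of_psl c; exact ⟨ψ, hψ.trans hc⟩
    · obtain ⟨ψ, hψ⟩ := exists_sl_of_psl a; exact ⟨ψ, hψ.trans ha⟩
    · obtain ⟨ψ, hψ⟩ := exists_sl_of_psl b; exact ⟨ψ, hψ.trans hb⟩

/-- The degree graph from the degree set. -/
theorem graph {p q : ℕ} [Fact p.Prime] (hq : ∃ k, q = p ^ k) (hq4 : 4 ≤ q) {S : Type*} [Group S]
    (hD : ∀ d ∈ charDegrees S, d = 1 ∨ d = q ∨ d = q + 1 ∨ d = q - 1 ∨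
      (Odd q ∧ (d = (q + 1) / 2 ∨ d = (q - 1) / 2)))
    (hq0 : q ∈ charDegrees S) (hqp : q + 1 ∈ charDegrees S) (hqm : q - 1 ∈ charDegrees S) :
    degreePrimes S = {r : ℕ | r.Prime ∧ r ∣ q * (q ^ 2 - 1)} ∧
      ∀ r s : ℕ, (degreeGraph S).Adj r s ↔
        (r ≠ s ∧ r.Prime ∧ s.Prime ∧ ((r ∣ q + 1 ∧ s ∣ q + 1) ∨ (r ∣ q - 1 ∧ s ∣ q - 1))) := by
  have hsq : q ^ 2 - 1 = (q + 1) * (q - 1) := by
    rw [← one_pow 2, Nat.sq_sub_sq, one_pow]
  have hdiv : ∀ d ∈ charDegrees S, d = 1 ∨ d = q ∨ d ∣ q + 1 ∨ d ∣ q - 1 := by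
    intro d hd
    rcases hD d hd with h | h | h | h | ⟨⟨j, hj⟩, h | h⟩
    · exact Or.inl h
    · exact Or.inr (Or.inl h)
    · exact Or.inr (Or.inr (Or.inl (h ▸ dvd_rfl)))
    · exact Or.inr (Or.inr (Or.inr (h ▸ dvd_rfl)))
    · exact Or.inr (Or.inr (Or.inl ⟨2, by omega⟩))
    · exact Or.inr (Or.inr (Or.inr ⟨2, by omega⟩))
  constructor
  · ext r
    constructor
    · rintro ⟨hr, d, hd, hrd⟩
      refine ⟨hr, ?_⟩
      rw [hsq]
      rcases hdiv d hd with h | h | h | h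
      · rw [h, Nat.dvd_one] at hrd; exact absurd hrd hr.ne_one
      · exact dvd_mul_of_dvd_left (h ▸ hrd) _
      · exact dvd_mul_of_dvd_right (dvd_mul_of_dvd_left (hrd.trans h) _) _
      · exact dvd_mul_of_dvd_right (dvd_mul_of_dvd_right (hrd.trans h) _) _
    · rintro ⟨hr, hrd⟩
      rw [hsq] at hrd
      rcases hr.dvd_mul.mp hrd with h | h
      · exact ⟨hr, q, hq0, h⟩
      rcases hr.dvd_mul.mp h with h | h
      · exact ⟨hr, _, hqp, h⟩
      · exact ⟨hr, _, hqm, h⟩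
  · intro r s
    constructor
    · rintro ⟨hne, hr, hs, d, hd, hrs⟩
      refine ⟨hne, hr, hs, ?_⟩
      have hrd := dvd_of_mul_right_dvd hrs
      have hsd := dvd_of_mul_left_dvd hrs
      rcases hdiv d hd with h | h | h | h
      · rw [h, Nat.dvd_one] at hrd; exact absurd hrd hr.ne_one
      · obtain ⟨k, hk⟩ := hq
        rw [h, hk] at hrd hsd
        exact absurd (((Nat.prime_dvd_prime_iff_eq hr Fact.out).mp (hr.dvd_of_dvd_pow hrd)).trans
          ((Nat.prime_dvd_prime_iff_eq hs Fact.out).mp (hs.dvd_of_dvd_pow hsd)).symm) hne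
      · exact Or.inl ⟨hrd.trans h, hsd.trans h⟩
      · exact Or.inr ⟨hrd.trans h, hsd.trans h⟩
    · rintro ⟨hne, hr, hs, h | h⟩
      · exact ⟨hne, hr, hs, _, hqp, (Nat.coprime_primes hr hs).mpr hne |>.mul_dvd_of_dvd_of_dvd h.1 h.2⟩
      · exact ⟨hne, hr, hs, _, hqm, (Nat.coprime_primes hr hs).mpr hne |>.mul_dvd_of_dvd_of_dvd h.1 h.2⟩

/-- The Steinberg character is the only one of degree divisible by the characteristic. -/
theorem unique_p_singular (p : ℕ) [Fact p.Prime] [CharP F p] (hq : 4 ≤ Fintype.card F) :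
    Nat.card {χ : IrrCharacter PSL // p ∣ charDegree (χ : PSL → ℂ)} = 1 ∧
      ∀ χ : IrrCharacter PSL, p ∣ charDegree (χ : PSL → ℂ) →
        charDegree (χ : PSL → ℂ) = Fintype.card F := by
  classical
  have hp : p.Prime := Fact.out
  obtain ⟨k, -, hk⟩ := FiniteField.card F p
  have hpq : p ∣ Fintype.card F := hk ▸ dvd_pow_self p k.2.ne'
  have hval : ∀ χ : IrrCharacter PSL, p ∣ charDegree (χ : PSL → ℂ) →
      charDegree (χ : PSL → ℂ) = Fintype.card F := by
    intro χ hχ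
    have hne : ∀ d, p ∣ d → (d ∣ Fintype.card F + 1 ∨ d ∣ Fintype.card F - 1) → False := by
      rintro d hd (h | h)
      · exact hp.not_dvd_one ((Nat.dvd_add_right hpq).mp (hd.trans h))
      · have := Nat.dvd_sub hpq (hd.trans h)
        rw [show Fintype.card F - (Fintype.card F - 1) = 1 by omega] at this
        exact hp.not_dvd_one this
    rcases psl_degree χ with h | h | h | h | ⟨⟨j, hj⟩, h | h⟩
    · rw [h] at hχ; exact absurd hχ hp.not_dvd_one
    · exact h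
    · exact (hne _ hχ (Or.inl (h ▸ dvd_rfl))).elim
    · exact (hne _ hχ (Or.inr (h ▸ dvd_rfl))).elim
    · exact (hne _ hχ (Or.inl ⟨2, by omega⟩)).elim
    · exact (hne _ hχ (Or.inr ⟨2, by omega⟩)).elim
  refine ⟨?_, hval⟩
  obtain ⟨χ, hχ⟩ := exists_steinberg (F := F)
  have hone : Nat.card {χ : IrrCharacter PSL // charDegree (χ : PSL → ℂ) = Fintype.card F} ≤ 1 := by
    refine (card_irr_deg_le (F := F) (Fintype.card F)).trans ?_
    haveI : Fintype (MulChar F ℂ) := Fintype.ofFinite _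
    exact (Lead.SL2.card_single Lead.SL2.St0_irr fun ψ => Lead.SL2.deg_q hq ψ.2).le
  rw [Nat.card_congr (Equiv.subtypeEquivRight (q := fun χ : IrrCharacter PSL =>
    charDegree (χ : PSL → ℂ) = Fintype.card F) fun χ => ⟨hval χ, fun h => h ▸ hpq⟩)]
  have h0 : Nat.card {χ : IrrCharacter PSL // charDegree (χ : PSL → ℂ) = Fintype.card F} ≠ 0 :=
    Nat.card_ne_zero.mpr ⟨⟨⟨χ, hχ⟩⟩, inferInstance⟩
  omega

end Cfsg.Agent.Char.PSL2Deg
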