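import Cfsg.Agent.Lib.Char.Regular

/-!
# The integers `p ^ a * einner` of a block (Brauer's contributions)

For irreducible characters `χ, ψ` write `z χ ψ = |G|_p * einner p χ ψ`.  The `p`-exponent of
`z χ ψ` is at least that of `χ 1`; equality depends only on the block of `χ` and on `ψ`, and occurs
exactly when `ψ` has height zero in the block.
-/

set_option autoImplicit false

namespace Cfsg.Agent.Char

open Cfsg Module
open scoped ComplexConjugate

universe u

variable {G : Type u} [Group G] [Fintype G] {M : Ideal AlgInt} {p : ℕ}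

theorem int_dvd_of_local (hM : IsPModular p M) : ∀ {k : ℕ} {n : ℤ} {x : ℂ}, MemLocalRing M x →
    x * (p : ℂ) ^ k = n → (p : ℤ) ^ k ∣ n := by
  intro k
  induction k with
  | zero => intro n x _ _; simp
  | succ k ih =>
    intro n x hx h
    have h1 : MemLocalIdeal M (n : ℂ) := by
      rw [← h, pow_succ, ← mul_assoc]
      exact memLI_mul_left (pmod_prime hM)
        (memLR_mul (pmod_prime hM) hx (memLR_pow (pmod_prime hM) (memLR_natCast (pmod_prime hM) p) k))
        (memLI_p hM)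
    obtain ⟨n', rfl⟩ := (memLI_intCast_iff hM n).mp h1
    rw [pow_succ']
    refine mul_dvd_mul_left _ (ih hx ?_)
    have hp0 : (p : ℂ) ≠ 0 := Nat.cast_ne_zero.mpr hM.1.ne_zero
    push_cast at h
    refine mul_left_cancel₀ hp0 ?_
    rw [← h]; ring

theorem int_dvd_succ_iff (hM : IsPModular p M) {k : ℕ} {n : ℤ} {x : ℂ} (hx : MemLocalRing M x)
    (h : x * (p : ℂ) ^ k = n) : MemLocalIdeal M x ↔ (p : ℤ) ^ (k + 1) ∣ n := by
  obtain ⟨n', rfl⟩ := int_dvd_of_local hM hx h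
  have hp0 : (p : ℂ) ^ k ≠ 0 := pow_ne_zero _ (Nat.cast_ne_zero.mpr hM.1.ne_zero)
  have hxn : x = (n' : ℂ) := by
    push_cast at h
    exact mul_right_cancel₀ hp0 (by rw [h]; ring)
  rw [hxn, memLI_intCast_iff hM, pow_succ,
    mul_dvd_mul_iff_left (pow_ne_zero _ (Int.natCast_ne_zero.mpr hM.1.ne_zero))]

/-- The `p`-exponent of the degree. -/
noncomputable def dexp (p : ℕ) (χ : G → ℂ) : ℕ := (deg χ).factorization p

omit [Fintype G] in
theorem deg_eq_pow_mul (hp : p.Prime) {χ : G → ℂ} [Finite G] (h : IsIrrCharacter G χ) :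
    ∃ c : ℕ, ¬ p ∣ c ∧ deg χ = p ^ dexp p χ * c :=
  ⟨deg χ / p ^ dexp p χ, Nat.not_dvd_ordCompl hp (deg_pos h).ne',
    (Nat.ordProj_mul_ordCompl_eq_self _ _).symm⟩

theorem card_eq_pow_mul (hp : p.Prime) :
    ∃ m : ℕ, ¬ p ∣ m ∧ Nat.card G = p ^ (Nat.card G).factorization p * m :=
  ⟨_, Nat.not_dvd_ordCompl hp (Nat.card_pos (α := G)).ne',
    (Nat.ordProj_mul_ordCompl_eq_self _ _).symm⟩

open scoped Classical in
/-- The integer `|G|_p * einner p χ ψ`. -/
noncomputable def zI (p : ℕ) (χ ψ : IrrCharacter G) : ℤ :=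
  if h : ∃ z : ℤ, (p : ℂ) ^ (Nat.card G).factorization p *
      einner p (χ : G → ℂ) (ψ : G → ℂ) = z then h.choose else 0

theorem zI_spec (hp : p.Prime) (χ ψ : IrrCharacter G) :
    (zI p χ ψ : ℂ) = (p : ℂ) ^ (Nat.card G).factorization p *
      einner p (χ : G → ℂ) (ψ : G → ℂ) := by
  have h := exists_int_pow_mul_einner hp (irr_isCharacter χ.2) (irr_isCharacter ψ.2)
  rw [zI, dif_pos h]
  exact h.choose_spec.symm

theorem zI_symm (hp : p.Prime) (χ ψ : IrrCharacter G) : zI p χ ψ = zI p ψ χ := by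
  have h1 := zI_spec hp χ ψ
  rw [einner_comm hp (irr_isCharacter χ.2) (irr_isCharacter ψ.2), ← zI_spec hp ψ χ] at h1
  exact_mod_cast h1

theorem zI_eq_zero_iff (hp : p.Prime) (χ ψ : IrrCharacter G) :
    zI p χ ψ = 0 ↔ einner p (χ : G → ℂ) (ψ : G → ℂ) = 0 := by
  rw [← Int.cast_eq_zero (α := ℂ), zI_spec hp, mul_eq_zero,
    or_iff_right (pow_ne_zero _ (Nat.cast_ne_zero.mpr hp.ne_zero))]

theorem zI_eq_zero_of_not_sameBlock (hM : IsPModular p M) {χ ψ : IrrCharacter G}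
    (h : ¬ SameBlock M (χ : G → ℂ) (ψ : G → ℂ)) : zI p χ ψ = 0 :=
  (zI_eq_zero_iff hM.1 χ ψ).mpr (einner_eq_zero_of_not_sameBlock hM χ ψ h)

theorem sum_zI_mul (hp : p.Prime) (χ ψ : IrrCharacter G) :
    ∑ θ : IrrCharacter G, zI p χ θ * zI p θ ψ =
      (p : ℤ) ^ (Nat.card G).factorization p * zI p χ ψ := by
  apply Int.cast_injective (α := ℂ)
  push_cast
  simp only [zI_spec hp, ← sum_einner_mul χ ψ, Finset.mul_sum]
  exact Finset.sum_congr rfl fun θ _ => by ring

theorem zI_self_pos (hp : p.Prime) (χ : IrrCharacter G) : 0 < zI p χ χ := by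
  have h1 := sum_zI_mul hp χ χ
  have h2 : ∀ θ, 0 ≤ zI p χ θ * zI p θ χ := fun θ => by
    rw [zI_symm hp θ χ]; exact mul_self_nonneg _
  have hne : zI p χ χ ≠ 0 := fun h => einner_ne_zero_self hp χ.2 ((zI_eq_zero_iff hp χ χ).mp h)
  have h3 : 0 ≤ zI p χ χ := by
    refine nonneg_of_mul_nonneg_right (h1 ▸ Finset.sum_nonneg fun θ _ => h2 θ) ?_
    exact pow_pos (Int.natCast_pos.mpr hp.pos) _
  omega

/-- The test function whose `lam` gives `zI`. -/
noncomputable def regConj (p : ℕ) (ψ : G → ℂ) : G → ℂ := fun x => regInd p x * conj (ψ x)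

theorem regConj_class {ψ : G → ℂ} (h : IsCharacter G ψ) : IsClassFunction G (regConj p ψ) :=
  fun a k => by
    simp only [regConj, isClassFunction_regInd p a k, isClassFunction_character h a k]

theorem regConj_memLR (hM : M.IsPrime) {ψ : G → ℂ} (h : IsCharacter G ψ) (x : G) :
    MemLocalRing M (regConj p ψ x) := by
  refine memLR_mul hM ?_ (conj_char_memLR hM h x)
  simp only [regInd]
  split_ifs
  exacts [memLR_zero hM, memLR_one hM]

theorem lam_regConj (χ ψ : G → ℂ) :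
    lam χ (regConj p ψ) = (Nat.card G : ℂ) * einner p χ ψ / χ 1 := by
  rw [lam, einner, classInner, ← mul_assoc, mul_inv_cancel₀ (Nat.cast_ne_zero.mpr Nat.card_pos.ne'),
    one_mul]
  congr 1
  refine Finset.sum_congr rfl fun x _ => ?_
  simp only [regConj, Pi.mul_apply]
  ring

/-- Main valuation lemma. -/
theorem zI_dvd_and_iff (hM : IsPModular p M) (χ ψ : IrrCharacter G) :
    (p : ℤ) ^ dexp p (χ : G → ℂ) ∣ zI p χ ψ ∧
      (MemLocalIdeal M (lam (χ : G → ℂ) (regConj p (ψ : G → ℂ))) ↔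
        (p : ℤ) ^ (dexp p (χ : G → ℂ) + 1) ∣ zI p χ ψ) := by
  have hp := hM.1
  have hP := pmod_prime hM
  obtain ⟨c, hc, hdeg⟩ := deg_eq_pow_mul hp χ.2
  obtain ⟨m, hm, hcard⟩ := card_eq_pow_mul (G := G) hp
  set U := lam (χ : G → ℂ) (regConj p (ψ : G → ℂ)) with hU
  have hUr : MemLocalRing M U := memLR_lam hP χ.2 (regConj_class (irr_isCharacter ψ.2))
    (regConj_memLR hP (irr_isCharacter ψ.2))
  set δ := dexp p (χ : G → ℂ) with hδ
  have hc0 : (c : ℂ) ≠ 0 := Nat.cast_ne_zero.mpr fun h => hc (h ▸ dvd_zero p)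
  have hχ1 : (χ : G → ℂ) 1 = (p : ℂ) ^ δ * c := by
    rw [char_one_eq_deg (irr_isCharacter χ.2), hdeg]; push_cast; rfl
  have heq : (U * c) * (p : ℂ) ^ δ = (((m : ℤ) * zI p χ ψ : ℤ) : ℂ) := by
    push_cast
    rw [zI_spec hp, hU, lam_regConj, hχ1]
    generalize (Nat.card G).factorization p = a at hcard ⊢
    rw [hcard]
    push_cast
    have : (p : ℂ) ^ δ ≠ 0 := pow_ne_zero _ (Nat.cast_ne_zero.mpr hp.ne_zero)
    field_simp
  have hUc : MemLocalRing M (U * c) := memLR_mul hP hUr (memLR_natCast hP c)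
  have hcop : ∀ k : ℕ, IsCoprime ((p : ℤ) ^ k) (m : ℤ) := fun k =>
    IsCoprime.pow_left (Nat.isCoprime_iff_coprime.mpr (hp.coprime_iff_not_dvd.mpr hm))
  refine ⟨(hcop δ).dvd_of_dvd_mul_left (int_dvd_of_local hM hUc heq), ?_⟩
  have h1 := int_dvd_succ_iff hM hUc heq
  have h2 : MemLocalIdeal M (U * c) ↔ MemLocalIdeal M U := by
    refine ⟨fun h => ?_, fun h => memLI_mul_right hP h (memLR_natCast hP c)⟩
    rw [show U = U * c * (c : ℂ)⁻¹ by rw [mul_assoc, mul_inv_cancel₀ hc0, mul_one]]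
    exact memLI_mul_right hP h (memLR_inv_natCast hM hc)
  rw [← h2, h1]
  exact ⟨(hcop _).dvd_of_dvd_mul_left, fun h => dvd_mul_of_dvd_right h _⟩

theorem zI_dvd_left (hM : IsPModular p M) (χ ψ : IrrCharacter G) :
    (p : ℤ) ^ dexp p (χ : G → ℂ) ∣ zI p χ ψ := (zI_dvd_and_iff hM χ ψ).1

theorem zI_dvd_right (hM : IsPModular p M) (χ ψ : IrrCharacter G) :
    (p : ℤ) ^ dexp p (ψ : G → ℂ) ∣ zI p χ ψ := by
  rw [zI_symm hM.1]; exact zI_dvd_left hM ψ χ

/-- `ψ` is a unit column at `χ`: the exponent of `zI p χ ψ` equals that of `χ 1`. -/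
def UnitAt (p : ℕ) (χ ψ : IrrCharacter G) : Prop :=
  ¬ (p : ℤ) ^ (dexp p (χ : G → ℂ) + 1) ∣ zI p χ ψ

theorem UnitAt.ne_zero {χ ψ : IrrCharacter G} (h : UnitAt p χ ψ) : zI p χ ψ ≠ 0 :=
  fun h0 => h (h0 ▸ dvd_zero _)

theorem UnitAt.sameBlock (hM : IsPModular p M) {χ ψ : IrrCharacter G} (h : UnitAt p χ ψ) :
    SameBlock M (χ : G → ℂ) (ψ : G → ℂ) := by
  by_contra hn
  exact h.ne_zero (zI_eq_zero_of_not_sameBlock hM hn)

theorem unitAt_congr (hM : IsPModular p M) {χ χ' : IrrCharacter G}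
    (hs : SameBlock M (χ : G → ℂ) (χ' : G → ℂ)) (ψ : IrrCharacter G) :
    UnitAt p χ ψ ↔ UnitAt p χ' ψ := by
  have hP := pmod_prime hM
  rw [UnitAt, UnitAt, ← (zI_dvd_and_iff hM χ ψ).2, ← (zI_dvd_and_iff hM χ' ψ).2, not_iff_not]
  have h := lam_congr hP χ.2 χ'.2 hs (regConj_class (irr_isCharacter ψ.2))
    (regConj_memLR (p := p) hP (irr_isCharacter ψ.2))
  exact ⟨fun h' => memLI_congr hP (memLI_symm hP h) h', fun h' => memLI_congr hP h h'⟩

theorem exists_unitAt (hM : IsPModular p M) (χ : IrrCharacter G) : ∃ ψ, UnitAt p χ ψ := by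
  classical
  by_contra hne
  push Not at hne
  have hP := pmod_prime hM
  set B := blockOf M (χ : G → ℂ)
  have hB : IsPBlock M B := isPBlock_blockOf M χ
  set bc := blockCoeff B with hbc
  have hbcc : IsClassFunction G bc := isClassFunction_blockCoeff B
  set A : G → ℂ := fun x => bc x⁻¹ with hA
  have hAc : IsClassFunction G A := fun a k => by
    simp only [hA]
    rw [show (k * a * k⁻¹)⁻¹ = k * a⁻¹ * k⁻¹ by group]
    exact hbcc _ _
  have hI := intComb_preg hM hAc fun x => memLR_blockCoeff hM hB _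
  have hexp := classFun_expansion hI.1
  set c : IrrCharacter G → ℂ :=
    fun θ => classInner (fun x => A (preg p x)) (θ : G → ℂ) with hc
  have hbc0 : ∀ x, p ∣ orderOf x → bc x = 0 := fun x hx => by
    rw [hbc, blockCoeff, weak_orthogonality hM hB (by simp [hM.1.ne_one]) hx, mul_zero]
  have hsum : bc = ∑ θ : IrrCharacter G, c θ • regConj p (θ : G → ℂ) := by
    funext x
    rw [Finset.sum_apply]
    by_cases hx : p ∣ orderOf x
    · simp [regConj, regInd_of_sing hx, hbc0 x hx]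
    · have h1 := congrFun hexp x⁻¹
      rw [preg_of_isPRegular hM.1 (by rwa [orderOf_inv]), Finset.sum_apply] at h1
      simp only [hA, inv_inv] at h1
      rw [h1]
      refine Finset.sum_congr rfl fun θ _ => ?_
      simp [hc, hA, regConj, regInd_of_reg hx, char_inv (irr_isCharacter θ.2)]
  have h1 : lam (χ : G → ℂ) bc = 1 := by
    rw [hbc, lam_blockCoeff, if_pos (self_mem_blockOf hP χ)]
  rw [hsum, lam_sum] at h1
  refine memLI_one_iff hP (h1 ▸ memLI_sum hP _ _ fun θ _ => ?_)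
  rw [lam_smul]
  refine memLI_mul_left hP (hI.2 θ) ((zI_dvd_and_iff hM χ θ).2.mpr ?_)
  exact not_not.mp (hne θ)

end Cfsg.Agent.Char
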