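import Mathlib

/-!
# The average fixed-point subgroup of a coprime nilpotent action on a finite abelian group
-/

set_option autoImplicit false
set_option linter.unusedSectionVars false

namespace Cfsg.Agent.Char.FixAverage

open scoped Classical

universe u v

variable {V : Type v} [CommGroup V] [Finite V] {A : Type u} [Group A]

/-- The elements of `W` fixed by `a`. -/
def fixIn (f : A →* MulAut V) (W : Subgroup V) (a : A) : Subgroup V :=
  W ⊓ MonoidHom.eqLocus (f a).toMonoidHom (MonoidHom.id V)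

theorem mem_fixIn {f : A →* MulAut V} {W : Subgroup V} {a : A} {v : V} :
    v ∈ fixIn f W a ↔ v ∈ W ∧ f a v = v := Iff.rfl

theorem apply_mul (f : A →* MulAut V) (a b : A) (v : V) : f (a * b) v = f a (f b v) := by
  rw [map_mul]; rfl

theorem card_le_mul (X : Subgroup V) (Y : Subgroup V) (t : V →* V)
    (hker : ∀ v ∈ X, t v = 1 → v ∈ Y) (Z : Subgroup V) (himg : ∀ v ∈ X, t v ∈ Z) :
    Nat.card X ≤ Nat.card Y * Nat.card Z := by
  have h := (t.comp X.subtype).ker.card_mul_index
  rw [Subgroup.index_ker] at h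
  rw [← h]
  refine Nat.mul_le_mul ?_ (Subgroup.card_le_of_le ?_)
  · exact Nat.card_le_card_of_injective
      (fun v : (t.comp X.subtype).ker => (⟨((v : X) : V), hker _ (v : X).2 v.2⟩ : Y))
      fun a b hab => Subtype.ext (Subtype.ext (congrArg (fun y : Y => (y : V)) hab))
  · rintro _ ⟨v, rfl⟩
    exact himg _ v.2

theorem prod_sq_le [Fintype A] [hA : Group.IsNilpotent A] (f : A →* MulAut V)
    (hco : (Nat.card A).Coprime (Nat.card V)) (W : Subgroup V) :
    (∀ a, ∀ v ∈ W, f a v ∈ W) → (∀ v ∈ W, (∀ a, f a v = v) → v = 1) →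
      (∏ a : A, Nat.card (fixIn f W a)) ^ 2 ≤ Nat.card W ^ Fintype.card A := by
  induction W using (wellFounded_lt (α := Subgroup V)).induction with
  | _ W ih =>
  intro hW hfix
  -- the action on `W`
  let g : A →* MulAut W :=
    { toFun := fun a =>
        { toFun := fun v => ⟨f a v, hW a v v.2⟩
          invFun := fun v => ⟨f a⁻¹ v, hW a⁻¹ v v.2⟩
          left_inv := fun v => Subtype.ext (by
            show f a⁻¹ (f a v) = v
            rw [← apply_mul, inv_mul_cancel, map_one]; rfl)
          right_inv := fun v => Subtype.ext (by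
            show f a (f a⁻¹ v) = v
            rw [← apply_mul, mul_inv_cancel, map_one]; rfl)
          map_mul' := fun v w => Subtype.ext (map_mul (f a) _ _) }
      map_one' := MulEquiv.ext fun v => Subtype.ext (by show f 1 v = v; rw [map_one]; rfl)
      map_mul' := fun a b => MulEquiv.ext fun v => Subtype.ext (apply_mul f a b v) }
  haveI : Group.IsNilpotent g.range := Group.nilpotent_of_surjective g.rangeRestrict g.rangeRestrict_surjective
  by_cases htriv : ∀ a, ∀ v ∈ W, f a v = v
  · have hW1 : W = ⊥ := (Subgroup.eq_bot_iff_forall _).2 fun v hv => hfix v hv fun a => htriv a v hv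
    have h1 : ∀ a, Nat.card (fixIn f W a) = 1 := fun a => by
      rw [Subgroup.card_eq_one, eq_bot_iff, ← hW1]
      exact fun v hv => hv.1
    rw [Finset.prod_congr rfl fun a _ => h1 a, Finset.prod_const_one, hW1]
    simp
  haveI : Nontrivial g.range := by
    rw [Subgroup.nontrivial_iff_ne_bot, Ne, MonoidHom.range_eq_bot_iff]
    exact fun h => htriv fun a v hv =>
      congrArg (fun φ : MulAut W => ((φ ⟨v, hv⟩ : W) : V)) (DFunLike.congr_fun h a)
  haveI : Nontrivial (Subgroup.center g.range) :=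
    (Subgroup.nontrivial_iff_ne_bot _).2 (Group.IsNilpotent.center_ne_bot _)
  obtain ⟨⟨⟨_, z, rfl⟩, hzc⟩, hz1⟩ := exists_ne (1 : Subgroup.center g.range)
  have hcomm : ∀ a, ∀ v ∈ W, f a (f z v) = f z (f a v) := fun a v hv => by
    have h := congrArg (fun φ : g.range => (((φ : MulAut W) ⟨v, hv⟩ : W) : V))
      (Subgroup.mem_center_iff.1 hzc ⟨g a, a, rfl⟩)
    exact h
  have hmove : ∃ v ∈ W, f z v ≠ v := by
    by_contra h
    push Not at h
    exact hz1 (Subtype.ext (Subtype.ext (MulEquiv.ext fun v => Subtype.ext (h v v.2))))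
  by_cases hfz : fixIn f W z = ⊥
  · -- `z` fixes nothing
    have key : ∀ a, Nat.card (fixIn f W a) * Nat.card (fixIn f W (a * z)) ≤ Nat.card W := by
      intro a
      have hdis : fixIn f W a ⊓ fixIn f W (a * z) = ⊥ := by
        rw [eq_bot_iff, ← hfz]
        rintro v ⟨⟨hv, h1⟩, -, h2⟩
        refine ⟨hv, (f a).injective ?_⟩
        show f a (f z v) = f a v
        rw [← apply_mul]
        exact h2.trans h1.symm
      rw [← Nat.card_prod]
      refine Nat.card_le_card_of_injective (fun p : fixIn f W a × fixIn f W (a * z) =>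
        (⟨(p.1 : V) * p.2, W.mul_mem p.1.2.1 p.2.2.1⟩ : W)) ?_
      rintro ⟨x, y⟩ ⟨x', y'⟩ h
      have h' : (x : V) * y = x' * y' := congrArg Subtype.val h
      have hm : (x' : V)⁻¹ * x ∈ fixIn f W a ⊓ fixIn f W (a * z) := by
        refine ⟨(fixIn f W a).mul_mem ((fixIn f W a).inv_mem x'.2) x.2, ?_⟩
        have e : (x' : V)⁻¹ * x = y' * (y : V)⁻¹ := by
          rw [eq_mul_inv_iff_mul_eq, mul_assoc, h', inv_mul_cancel_left]
        rw [e]
        exact (fixIn f W (a * z)).mul_mem y'.2 ((fixIn f W (a * z)).inv_mem y.2)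
      rw [hdis, Subgroup.mem_bot, inv_mul_eq_one] at hm
      refine Prod.ext (Subtype.ext hm.symm) (Subtype.ext ?_)
      rw [← hm] at h'
      exact mul_left_cancel h'
    calc (∏ a : A, Nat.card (fixIn f W a)) ^ 2
        = ∏ a : A, Nat.card (fixIn f W a) * Nat.card (fixIn f W (a * z)) := by
          rw [pow_two, Finset.prod_mul_distrib]
          exact congrArg _ (Fintype.prod_equiv (Equiv.mulRight z)
            (fun a => Nat.card (fixIn f W (a * z))) (fun a => Nat.card (fixIn f W a)) fun a => rfl).symm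
      _ ≤ ∏ _a : A, Nat.card W := Finset.prod_le_prod' fun a _ => key a
      _ = _ := by rw [Finset.prod_const, Finset.card_univ]
  -- `W` is the product of the fixed points of `z` and the kernel of the norm
  set m := orderOf z with hm
  let t : V →* V := ∏ i ∈ Finset.range m, (f (z ^ i)).toMonoidHom
  have ht : ∀ v, t v = ∏ i ∈ Finset.range m, f (z ^ i) v := fun v => by
    simp [t, MonoidHom.finsetProd_apply]
  have hcommi : ∀ a, ∀ i : ℕ, ∀ v ∈ W, f a (f (z ^ i) v) = f (z ^ i) (f a v) := by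
    intro a i
    induction i with
    | zero => intro v _; rw [pow_zero, map_one]; rfl
    | succ i IH =>
      intro v hv
      rw [pow_succ, apply_mul, apply_mul, IH _ (hW z v hv), hcomm a v hv]
  have htW : ∀ v ∈ W, t v ∈ W := fun v hv => ht v ▸ Subgroup.prod_mem W fun i _ => hW _ v hv
  have hta : ∀ a, ∀ v ∈ W, t (f a v) = f a (t v) := fun a v hv => by
    rw [ht, ht, map_prod]
    exact Finset.prod_congr rfl fun i _ => (hcommi a i v hv).symm
  have htz : ∀ v ∈ W, f z (t v) = t v := fun v _ => by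
    rw [ht, map_prod]
    have hper : f (z ^ m) v = f (z ^ 0) v := by rw [hm, pow_orderOf_eq_one, pow_zero]
    have hs : ∏ i ∈ Finset.range m, f z (f (z ^ i) v) = ∏ i ∈ Finset.range m, f (z ^ (i + 1)) v :=
      Finset.prod_congr rfl fun i _ => by rw [← apply_mul, ← pow_succ']
    rw [hs]
    refine mul_right_cancel (b := f (z ^ 0) v) ?_
    rw [← Finset.prod_range_succ' (fun i => f (z ^ i) v), Finset.prod_range_succ, hper]
  have htfix : ∀ v, f z v = v → t v = v ^ m := fun v hv => by
    have h : ∀ i : ℕ, f (z ^ i) v = v := fun i => by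
      induction i with
      | zero => rw [pow_zero, map_one]; rfl
      | succ i IH => rw [pow_succ, apply_mul, hv, IH]
    rw [ht, Finset.prod_congr rfl fun i _ => h i, Finset.prod_const, Finset.card_range]
  have hcom : (Nat.card V).Coprime m := (hco.symm).coprime_dvd_right (orderOf_dvd_natCard z)
  have htinj : ∀ v, f z v = v → t v = 1 → v = 1 := fun v hv h1 => by
    rw [htfix v hv] at h1
    exact (powCoprime hcom).injective (show v ^ m = 1 ^ m by rw [h1, one_pow])
  let W₁ := fixIn f W z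
  let W₂ := W ⊓ t.ker
  have hW₁ : W₁ < W := lt_of_le_of_ne inf_le_left fun h => by
    obtain ⟨v, hv, hne⟩ := hmove
    exact hne (h.symm ▸ hv : v ∈ W₁).2
  have hW₂ : W₂ < W := lt_of_le_of_ne inf_le_left fun h => by
    refine hfz ((Subgroup.eq_bot_iff_forall _).2 fun v hv => htinj v hv.2 ?_)
    exact (h.symm ▸ hv.1 : v ∈ W₂).2
  have hmul : Nat.card W₁ * Nat.card W₂ ≤ Nat.card W := by
    rw [← Nat.card_prod]
    refine Nat.card_le_card_of_injective (fun p : W₁ × W₂ =>
      (⟨(p.1 : V) * p.2, W.mul_mem p.1.2.1 p.2.2.1⟩ : W)) ?_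
    rintro ⟨x, y⟩ ⟨x', y'⟩ h
    have h' : (x : V) * y = x' * y' := congrArg Subtype.val h
    have e : (x' : V)⁻¹ * x = y' * (y : V)⁻¹ := by
      rw [eq_mul_inv_iff_mul_eq, mul_assoc, h', inv_mul_cancel_left]
    have hx : f z ((x' : V)⁻¹ * x) = (x' : V)⁻¹ * x := (mul_mem (inv_mem x'.2) x.2 : _ ∈ W₁).2
    have hy : t ((x' : V)⁻¹ * x) = 1 := e ▸ (mul_mem y'.2 (inv_mem y.2) : _ ∈ W₂).2
    have hxx := inv_mul_eq_one.1 (htinj _ hx hy)
    refine Prod.ext (Subtype.ext hxx.symm) (Subtype.ext ?_)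
    rw [← hxx] at h'
    exact mul_left_cancel h'
  have hsub : ∀ a, Nat.card (fixIn f W a) ≤ Nat.card (fixIn f W₂ a) * Nat.card (fixIn f W₁ a) := fun a =>
    card_le_mul (fixIn f W a) (fixIn f W₂ a) t (fun v hv h1 => ⟨⟨hv.1, h1⟩, hv.2⟩) (fixIn f W₁ a)
      fun v hv => ⟨⟨htW v hv.1, htz v hv.1⟩, by
        show f a (t v) = t v
        rw [← hta a v hv.1, show f a v = v from hv.2]⟩
  have h1 := ih W₁ hW₁ (fun a v hv => ⟨hW a v hv.1, by
      show f z (f a v) = f a v
      rw [← hcomm a v hv.1, show f z v = v from hv.2]⟩) fun v hv h => hfix v hv.1 h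
  have h2 := ih W₂ hW₂ (fun a v hv => ⟨hW a v hv.1, by
      show t (f a v) = 1
      rw [hta a v hv.1, show t v = 1 from hv.2, map_one]⟩) fun v hv h => hfix v hv.1 h
  calc (∏ a : A, Nat.card (fixIn f W a)) ^ 2
      ≤ (∏ a : A, Nat.card (fixIn f W₂ a) * Nat.card (fixIn f W₁ a)) ^ 2 :=
        Nat.pow_le_pow_left (Finset.prod_le_prod' fun a _ => hsub a) 2
    _ = (∏ a : A, Nat.card (fixIn f W₂ a)) ^ 2 * (∏ a : A, Nat.card (fixIn f W₁ a)) ^ 2 := by
        rw [Finset.prod_mul_distrib, mul_pow]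
    _ ≤ Nat.card W₂ ^ Fintype.card A * Nat.card W₁ ^ Fintype.card A := Nat.mul_le_mul h2 h1
    _ ≤ _ := by
        rw [← mul_pow, mul_comm (Nat.card W₂)]
        exact Nat.pow_le_pow_left hmul _

/-- Some element fixes at most a square root of the points. -/
theorem exists_small_fix [Fintype A] [Group.IsNilpotent A] (f : A →* MulAut V)
    (hco : (Nat.card A).Coprime (Nat.card V)) (hfix : ∀ v : V, (∀ a, f a v = v) → v = 1) :
    ∃ a : A, Nat.card (fixIn f ⊤ a) ^ 2 ≤ Nat.card V := by
  by_contra hno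
  push Not at hno
  have h := prod_sq_le f hco ⊤ (fun _ _ _ => Subgroup.mem_top _) fun v _ => hfix v
  rw [← Finset.prod_pow, Subgroup.card_top, ← Finset.card_univ, ← Finset.prod_const] at h
  exact absurd h (not_le.2 (Finset.prod_lt_prod_of_nonempty (fun _ _ => Nat.card_pos)
    (fun a _ => hno a) Finset.univ_nonempty))

end Cfsg.Agent.Char.FixAverage
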