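import Cfsg.Agent.Lib.Char.GlaubermanLemma

/-!
# Moving coprime layers into the subgroup they generate
-/

set_option autoImplicit false
set_option linter.unusedSectionVars false
set_option linter.style.haveILetI false

namespace Cfsg.Agent.Char

open Cfsg Module

universe u

variable {Γ : Type u} [Group Γ] [Fintype Γ] (G S N : Subgroup Γ)

/-- The data of a layer `N ≤ G` read inside `G ⊔ S`. -/
theorem layer_setup (hnorm : ∀ s ∈ S, ∀ g ∈ G, s * g * s⁻¹ ∈ G) (hNG : N ≤ G)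
    [hNn : (N.subgroupOf G).Normal] (hNS : ∀ s ∈ S, ∀ n ∈ N, s * n * s⁻¹ ∈ N)
    (hsolv : Group.IsSolvable S ∨ Group.IsSolvable (G ⧸ N.subgroupOf G)) :
    ∃ (hGn : (G.subgroupOf (G ⊔ S)).Normal) (hN' : (N.subgroupOf (G ⊔ S)).Normal),
      N.subgroupOf (G ⊔ S) ≤ G.subgroupOf (G ⊔ S) ∧
      G.subgroupOf (G ⊔ S) ⊔ S.subgroupOf (G ⊔ S) = ⊤ ∧
      (N.subgroupOf (G ⊔ S)).relIndex (G.subgroupOf (G ⊔ S)) = N.relIndex G ∧
      Nat.card (S.subgroupOf (G ⊔ S)) = Nat.card S ∧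
      (Group.IsSolvable (S.subgroupOf (G ⊔ S)) ∨ Group.IsSolvable
        (G.subgroupOf (G ⊔ S) ⧸ (N.subgroupOf (G ⊔ S)).subgroupOf (G.subgroupOf (G ⊔ S)))) := by
  have hGS : G ⊔ S ≤ Subgroup.normalizer (G : Set Γ) := by
    refine sup_le Subgroup.le_normalizer fun s hs => Subgroup.mem_normalizer_iff.2 fun g =>
      ⟨hnorm s hs g, fun h => ?_⟩
    have := hnorm s⁻¹ (inv_mem hs) _ h
    simpa [mul_assoc] using this
  have hNS' : G ⊔ S ≤ Subgroup.normalizer (N : Set Γ) := by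
    refine sup_le ?_ fun s hs => Subgroup.mem_normalizer_iff.2 fun g =>
      ⟨hNS s hs g, fun h => ?_⟩
    · exact (Subgroup.normal_subgroupOf_iff_le_normalizer hNG).1 hNn
    · have := hNS s⁻¹ (inv_mem hs) _ h
      simpa [mul_assoc] using this
  haveI hGn := Subgroup.normal_subgroupOf_of_le_normalizer (N := G) hGS
  haveI hN' := Subgroup.normal_subgroupOf_of_le_normalizer (N := N) hNS'
  refine ⟨hGn, hN', fun x hx => hNG hx, ?_, ?_, Nat.card_congr
    (Subgroup.subgroupOfEquivOfLe le_sup_right).toEquiv, ?_⟩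
  · rw [← Subgroup.subgroupOf_sup le_sup_left le_sup_right, Subgroup.subgroupOf_self]
  · exact Subgroup.relIndex_subgroupOf le_sup_left
  · rcases hsolv with h | h
    · haveI := h
      exact Or.inl (Group.isSolvable_of_surjective
        (f := (Subgroup.subgroupOfEquivOfLe (le_sup_right : S ≤ G ⊔ S)).symm.toMonoidHom)
        (MulEquiv.surjective _))
    · haveI := h
      let e := (Subgroup.subgroupOfEquivOfLe (le_sup_left : G ≤ G ⊔ S)).symm
      refine Or.inr (Group.isSolvable_of_surjective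
        (f := QuotientGroup.map (N.subgroupOf G) _ e.toMonoidHom (fun x hx => hx)) fun q => ?_)
      obtain ⟨y, rfl⟩ := QuotientGroup.mk_surjective q
      exact ⟨QuotientGroup.mk (e.symm y), congrArg QuotientGroup.mk (e.apply_symm_apply y)⟩

theorem isIrrCharacter_subgroupOf {A B : Subgroup Γ} (h : A ≤ B) [Fintype A]
    [Fintype (A.subgroupOf B)] (χ : IrrCharacter A) :
    IsIrrCharacter (A.subgroupOf B) (fun x => (χ : A → ℂ) (Subgroup.subgroupOfEquivOfLe h x)) :=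
  isIrrCharacter_comp_equiv _ χ.2

theorem exists_below_layer [Fintype G] [Fintype N] (hnorm : ∀ s ∈ S, ∀ g ∈ G, s * g * s⁻¹ ∈ G)
    (hNG : N ≤ G) [hNn : (N.subgroupOf G).Normal] (hNS : ∀ s ∈ S, ∀ n ∈ N, s * n * s⁻¹ ∈ N)
    (hcop : (N.relIndex G).Coprime (Nat.card S))
    (hsolv : Group.IsSolvable S ∨ Group.IsSolvable (G ⧸ N.subgroupOf G)) (χ : IrrCharacter G)
    (hinv : ∀ s ∈ S, ∀ g g' : G, (g' : Γ) = s * g * s⁻¹ → (χ : G → ℂ) g' = (χ : G → ℂ) g) :
    ∃ θ : IrrCharacter N, classInner (fun n : N => (χ : G → ℂ) ⟨n, hNG n.2⟩) (θ : N → ℂ) ≠ 0 ∧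
      ∀ s ∈ S, ∀ g g' : N, (g' : Γ) = s * g * s⁻¹ → (θ : N → ℂ) g' = (θ : N → ℂ) g := by
  classical
  obtain ⟨hGn, hN', hle, htop, hrel, hcard, hs⟩ := layer_setup G S N hnorm hNG hNS hsolv
  haveI := Fintype.ofFinite (G ⊔ S : Subgroup Γ)
  haveI := Fintype.ofFinite (G.subgroupOf (G ⊔ S))
  haveI := Fintype.ofFinite (N.subgroupOf (G ⊔ S))
  have hGle : G ≤ G ⊔ S := le_sup_left
  obtain ⟨θ, hθ, hθinv⟩ := exists_fixed_below (G.subgroupOf (G ⊔ S)) (N.subgroupOf (G ⊔ S)) hle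
    (S.subgroupOf (G ⊔ S)) htop (by rw [hrel, hcard]; exact hcop) hs
    ⟨_, isIrrCharacter_subgroupOf hGle χ⟩ (fun s hs g => hinv _ hs _ _ (by simp))
  let eN := Subgroup.subgroupOfEquivOfLe (hNG.trans hGle)
  refine ⟨⟨_, isIrrCharacter_comp_equiv eN.symm θ.2⟩, ?_, fun s hs g g' he => ?_⟩
  · refine fun h0 => hθ (Eq.trans ?_ h0)
    simp only [classInner]
    rw [Nat.card_congr eN.toEquiv]
    congr 1
    refine Fintype.sum_equiv eN.toEquiv _ _ fun x => ?_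
    show _ = (χ : G → ℂ) _ * starRingEnd ℂ ((θ : _ → ℂ) (eN.symm (eN x)))
    rw [eN.symm_apply_apply]
    rfl
  · have := hθinv ⟨s, le_sup_right (a := G) hs⟩ (Subgroup.mem_subgroupOf.2 hs) (eN.symm g)
    rw [show MulAut.conjNormal (⟨s, le_sup_right (a := G) hs⟩ : (G ⊔ S : Subgroup Γ)) (eN.symm g) =
      eN.symm g' from Subtype.ext (Subtype.ext (by simp [eN, he]))] at this
    exact this

theorem exists_above_layer [Fintype G] [Fintype N] (hnorm : ∀ s ∈ S, ∀ g ∈ G, s * g * s⁻¹ ∈ G)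
    (hNG : N ≤ G) [hNn : (N.subgroupOf G).Normal] (hNS : ∀ s ∈ S, ∀ n ∈ N, s * n * s⁻¹ ∈ N)
    (hcop : (N.relIndex G).Coprime (Nat.card S))
    (hsolv : Group.IsSolvable (G ⧸ N.subgroupOf G)) (θ : IrrCharacter N)
    (hinv : ∀ s ∈ S, ∀ g g' : N, (g' : Γ) = s * g * s⁻¹ → (θ : N → ℂ) g' = (θ : N → ℂ) g) :
    ∃ χ : IrrCharacter G, classInner (fun n : N => (χ : G → ℂ) ⟨n, hNG n.2⟩) (θ : N → ℂ) ≠ 0 ∧
      ∀ s ∈ S, ∀ g g' : G, (g' : Γ) = s * g * s⁻¹ → (χ : G → ℂ) g' = (χ : G → ℂ) g := by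
  classical
  obtain ⟨hGn, hN', hle, htop, hrel, hcard, -⟩ := layer_setup G S N hnorm hNG hNS (Or.inr hsolv)
  haveI := Fintype.ofFinite (G ⊔ S : Subgroup Γ)
  haveI := Fintype.ofFinite (G.subgroupOf (G ⊔ S))
  haveI := Fintype.ofFinite (N.subgroupOf (G ⊔ S))
  have hGle : G ≤ G ⊔ S := le_sup_left
  set G' := G.subgroupOf (G ⊔ S)
  set N' := N.subgroupOf (G ⊔ S)
  set S' := S.subgroupOf (G ⊔ S)
  let eN := Subgroup.subgroupOfEquivOfLe (hNG.trans hGle)
  let eG := Subgroup.subgroupOfEquivOfLe hGle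
  have hs' : Group.IsSolvable (G' ⧸ N'.subgroupOf G') := by
    haveI := hsolv
    refine Group.isSolvable_of_surjective
      (f := QuotientGroup.map (N.subgroupOf G) _ eG.symm.toMonoidHom (fun x hx => hx)) fun q => ?_
    obtain ⟨y, rfl⟩ := QuotientGroup.mk_surjective q
    exact ⟨QuotientGroup.mk (eG y), congrArg QuotientGroup.mk (eG.symm_apply_apply y)⟩
  have hcop' : (N'.relIndex G').Coprime (Nat.card S') := by rw [hrel, hcard]; exact hcop
  have hinf : (N' ⊔ S') ⊓ G' ≤ N' := by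
    rintro x ⟨hx, hxG⟩
    obtain ⟨n, hn, s, hs, rfl⟩ := Subgroup.mem_sup_of_normal_left.1 hx
    have hsG : s ∈ G' := by
      have := mul_mem (inv_mem (hle hn)) hxG
      rwa [inv_mul_cancel_left] at this
    refine mul_mem hn ?_
    have h1 : orderOf s ∣ Nat.card S' := Subgroup.orderOf_dvd_natCard S' hs
    have h2 : (⟨s, hsG⟩ : G') ^ N'.relIndex G' ∈ N'.subgroupOf G' :=
      Subgroup.pow_index_mem _ _
    have h3 : s ^ N'.relIndex G' ∈ N' := h2
    obtain ⟨j, hj⟩ := exists_pow_eq_self_of_coprime (x := s) (n := N'.relIndex G')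
      (hcop'.coprime_dvd_right h1)
    rw [← hj]
    exact pow_mem h3 j
  obtain ⟨χ, hχ, hχinv⟩ := exists_fixed_over_solvable _ G' N' hle rfl hs' (N' ⊔ S') le_sup_left hinf
    (by
      refine hcop'.symm.coprime_dvd_left ?_
      rw [Subgroup.relIndex_sup_left]
      exact Subgroup.relIndex_dvd_card N' S')
    ⟨_, isIrrCharacter_subgroupOf (hNG.trans hGle) θ⟩ (fun x hx n => by
      obtain ⟨m, hm, s, hs, rfl⟩ := Subgroup.mem_sup_of_normal_left.1 hx
      show (θ : N → ℂ) (eN (MulAut.conjNormal (m * s) n)) = (θ : N → ℂ) (eN n)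
      rw [show eN (MulAut.conjNormal (m * s) n) = (⟨(m : Γ), hm⟩ : N) *
        eN (MulAut.conjNormal s n) * (⟨(m : Γ), hm⟩ : N)⁻¹ from Subtype.ext (by simp [eN]),
        isClassFunction_character (irr_isCharacter θ.2)]
      exact hinv _ hs _ _ (by simp [eN]))
  refine ⟨⟨_, isIrrCharacter_comp_equiv eG.symm χ.2⟩, ?_, fun s hs g g' he => ?_⟩
  · refine fun h0 => hχ (Eq.trans ?_ h0)
    simp only [classInner]
    rw [Nat.card_congr eN.toEquiv]
    congr 1
    refine Fintype.sum_equiv eN.toEquiv _ _ fun x => ?_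
    rfl
  · have := hχinv ⟨s, le_sup_right (a := G) hs⟩
      (le_sup_right (a := N') (Subgroup.mem_subgroupOf.2 hs)) (eG.symm g)
    rw [show MulAut.conjNormal (⟨s, le_sup_right (a := G) hs⟩ : (G ⊔ S : Subgroup Γ)) (eG.symm g) =
      eG.symm g' from Subtype.ext (Subtype.ext (by simp [eG, he]))] at this
    exact this

end Cfsg.Agent.Char
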