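import Cfsg.Agent.Lib.Char.CoverUnit
import Cfsg.Agent.Lib.Char.StableCover

/-!
# Defect groups of covering blocks
-/

set_option autoImplicit false
set_option linter.style.haveILetI false

namespace Cfsg.Agent.Char

open Cfsg Module
open scoped ComplexConjugate Classical

universe u

variable {G : Type u} [Group G] [Fintype G] {M : Ideal AlgInt} {p : ℕ}
variable {N : Subgroup G} [hN : N.Normal] [Fintype N]

/-- `B` covers `b`. -/
def Covers (B : Set (IrrCharacter G)) (b : Set (IrrCharacter N)) : Prop :=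
  ∃ χ ∈ B, ∃ θ ∈ b, classInner (fun n : N => (χ : G → ℂ) n) (θ : N → ℂ) ≠ 0

/-- A defect group of a covered block lies in one of the covering block. -/
theorem defect_le_covering (hM : IsPModular p M) {B : Set (IrrCharacter G)} (hB : IsPBlock M B)
    {b : Set (IrrCharacter N)} (hb : IsPBlock M b) (hcov : Covers B b) {P : Subgroup G}
    (hP : IsDefectGroup p M B P) {Q : Subgroup N} (hQ : IsDefectGroup p M b Q) :
    ∃ t : G, Q.map N.subtype ≤ P.map (MulAut.conj t).toMonoidHom := by
  have hMp := pmod_prime hM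
  obtain ⟨χ, hχ, θ₀, hθ₀, hcon⟩ := hcov
  obtain ⟨z, hz, hzi, hu⟩ := exists_trunc_unit hM hB hb hχ hθ₀ hcon
  obtain ⟨g, hg, hgQ⟩ := (isDefectGroup_iff b Q).mp hQ
  obtain ⟨g', hg', hgP⟩ := (isDefectGroup_iff B P).mp hP
  set R := Q.map N.subtype with hR
  have hRp : IsPGroup p R := hgQ.isPGroup.map _
  have heBI := isIntClassFun_blockCoeff hM hB
  obtain ⟨x, hx, hbx⟩ : ∃ x ∈ Subgroup.centralizer (R : Set G),
      ¬ MemLocalIdeal M (blockCoeff B x) := by
    by_contra hno
    push Not at hno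
    refine hu θ₀ hθ₀ ?_
    set f : N → ℂ := fun n => conv (blockCoeff B) z n with hf
    have hfI : IsIntClassFun M f :=
      intClassFun_trunc ((ninv_of_classFun heBI.1).conv hzi) (memLR_conv hMp heBI.2 hz)
    have hzero : ∀ n : N, n ∈ Subgroup.centralizer (Q : Set N) → MemLocalIdeal M (f n) := by
      intro n hn
      refine memLI_congr hMp (sum_centralizer_congr hM hRp
        (fun y => blockCoeff B y * z (y⁻¹ * (n : G)))
        (fun y => memLR_mul hMp (heBI.2 _) (hz _)) ?_)
        (memLI_sum hMp _ _ fun y hy => memLI_mul_right hMp (hno y (Finset.mem_filter.mp hy).2) (hz _))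
      rintro u hu y
      obtain ⟨q, hq, rfl⟩ := hu
      have hc : (q : G) * (n : G) = (n : G) * q :=
        congrArg Subtype.val (Subgroup.mem_centralizer_iff.mp hn q hq)
      simp only [Subgroup.coe_subtype]
      rw [isClassFunction_blockCoeff B y (q : G)]
      congr 1
      rw [← hzi q q.2 (y⁻¹ * (n : G))]
      congr 1
      calc ((q : G) * y * (q : G)⁻¹)⁻¹ * (n : G)
          = (q : G) * y⁻¹ * ((q : G)⁻¹ * ((n : G) * q)) * (q : G)⁻¹ := by group
        _ = (q : G) * y⁻¹ * ((q : G)⁻¹ * ((q : G) * n)) * (q : G)⁻¹ := by rw [hc]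
        _ = (q : G) * (y⁻¹ * n) * (q : G)⁻¹ := by group
    have := Fintype.ofFinite (ConjClasses N)
    rw [lam_eq_sum_omega (isClassFunction_character (irr_isCharacter θ₀.2)) hfI.1]
    refine memLI_sum hMp _ _ fun C _ => ?_
    by_cases hω : MemLocalIdeal M (omega (θ₀ : N → ℂ) C.out)
    · exact memLI_mul_left hMp (hfI.2 _) hω
    · obtain ⟨h', hconj, hc⟩ := exists_conj_mem_centralizer hM hb hgQ.isPGroup
        hgQ.self_mem_centralizer hg.2.1 hθ₀ hω
      refine memLI_mul_right hMp ?_ (memLR_omega hMp θ₀.2 _)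
      obtain ⟨u, hu⟩ := isConj_iff.mp hconj
      rw [← hfI.1 C.out u, hu]
      exact hzero h' hc
  exact le_defect_of_detect hM hB hg' hgP hRp hx hbx

/-- The orbit of blocks is covered. -/
theorem covers_transport {B : Set (IrrCharacter G)} {b : Set (IrrCharacter N)} (h : Covers B b)
    (g : G) : Covers B (irrTransport (MulAut.conjNormal g : N ≃* N) '' b) := by
  obtain ⟨χ, hχ, θ, hθ, hc⟩ := h
  exact ⟨χ, hχ, _, ⟨θ, hθ, rfl⟩, constituent_irrComp hc g⟩

/-- Covered blocks are conjugate. -/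
theorem exists_transport_of_covers (hM : IsPModular p M) {B : Set (IrrCharacter G)}
    (hB : IsPBlock M B) {b c : Set (IrrCharacter N)} (hb : IsPBlock M b) (hc : IsPBlock M c)
    (h₁ : Covers B b) (h₂ : Covers B c) :
    ∃ g : G, c = irrTransport (MulAut.conjNormal g : N ≃* N) '' b := by
  have hP := pmod_prime hM
  obtain ⟨χ, hχ, θ, hθ, hcon⟩ := h₁
  obtain ⟨ψ, hψ, η, hη, hcon'⟩ := h₂
  obtain ⟨g, hg⟩ := mem_orbU_of_sameBlock hM (block_sameBlock hP hB hχ hψ) hcon hcon'
  refine ⟨g⁻¹, block_disjoint hP hc (isPBlock_transport _ hb) hη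
    ⟨irrComp (MulAut.conjNormal g) η, (mem_block_iff hP hb hθ _).mpr hg, ?_⟩⟩
  show irrComp (MulAut.conjNormal g⁻¹) (irrComp (MulAut.conjNormal g) η) = η
  rw [irrComp_conj_mul, mul_inv_cancel, irrComp_conj_one]

/-- A block stable under a defect group and covered, with the intersection as defect group. -/
theorem exists_stable_covered (hM : IsPModular p M) {B : Set (IrrCharacter G)} (hB : IsPBlock M B)
    {P : Subgroup G} (hP : IsDefectGroup p M B P) :
    ∃ c : Set (IrrCharacter N), IsPBlock M c ∧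
      (∀ x ∈ P, irrTransport (MulAut.conjNormal x : N ≃* N) '' c = c) ∧ Covers B c ∧
      IsDefectGroup p M c ((P ⊓ N).subgroupOf N) := by
  have hMp := pmod_prime hM
  haveI := Fact.mk hM.1
  obtain ⟨g', hg', hgP⟩ := (isDefectGroup_iff B P).mp hP
  obtain ⟨χ, hχ⟩ := block_nonempty hMp hB
  obtain ⟨θ₀, hθ₀⟩ := exists_constituent (N := N) χ
  set b := blockOf M (θ₀ : N → ℂ) with hb
  have hbB := isPBlock_blockOf M θ₀
  have hθb := self_mem_blockOf hMp θ₀
  set O := (Finset.univ : Finset G).image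
    (fun g => irrTransport (MulAut.conjNormal g : N ≃* N) '' b) with hO
  have hU := blockCoeff_orbU_eq_sum hMp hbB hθb
  have hinv := ginv_blockCoeff_orbU (M := M) θ₀
  set U := extendByZero N (blockCoeff (orbU M θ₀)) with hUdef
  have hUI : IsIntClassFun M U := intClassFun_extend hMp hinv (intClassFun_orbU hM θ₀).2
  have heBI := isIntClassFun_blockCoeff hM hB
  -- the orbit sum acts as one on the block
  have hprod : conv (blockCoeff B) U = blockCoeff B := by
    conv_rhs => rw [classFun_eq_sum_idem heBI.1]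
    rw [classFun_eq_sum_idem (isClassFunction_conv heBI.1 hUI.1)]
    refine Finset.sum_congr rfl fun ψ _ => ?_
    rw [lam_conv ψ.2 heBI.1 hUI.1, lam_blockCoeff]
    by_cases hψ : ψ ∈ B
    · obtain ⟨η, hη⟩ := exists_constituent (N := N) ψ
      rw [if_pos hψ, one_mul, hUdef, lam_extend_of_constituent hη hinv, lam_blockCoeff,
        if_pos (mem_orbU_of_sameBlock hM (block_sameBlock hMp hB hχ hψ) hθ₀ hη)]
    · rw [if_neg hψ, zero_mul]
  set C := Subgroup.centralizer (P : Set G) with hC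
  obtain ⟨x, hxC, hxN, hux⟩ : ∃ x ∈ C, x ∈ N ∧ ¬ MemLocalIdeal M (U x) := by
    by_contra hno
    push Not at hno
    have hg'C : g' ∈ C := hgP.self_mem_centralizer
    have := Fintype.ofFinite C
    have h1 := brRes_conv hM hgP.isPGroup (H := C) le_rfl heBI hUI ⟨g', hg'C⟩
    rw [hprod, brRes, if_pos hg'C] at h1
    refine hg'.2.1 (memLI_congr hMp h1 (memLI_sum hMp _ _ fun y _ => ?_))
    refine memLI_mul_left hMp ((intClassFun_brRes hMp
      (Subgroup.centralizer_le_normalizer _) heBI).2 y) ?_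
    simp only [brRes]
    split_ifs with h2
    · by_cases h3 : ((y⁻¹ * ⟨g', hg'C⟩ : C) : G) ∈ N
      · exact hno _ h2 h3
      · rw [hUdef, extendByZero_not_mem N _ h3]; exact memLI_zero hMp
    · exact memLI_zero hMp
  have hOblk : ∀ c ∈ O, IsPBlock M c := fun c hc => by
    obtain ⟨g, -, rfl⟩ := Finset.mem_image.mp hc
    exact isPBlock_transport _ hbB
  have hcomp : ∀ (a a' : G) (s : Set (IrrCharacter N)),
      irrTransport (MulAut.conjNormal a : N ≃* N) ''
        (irrTransport (MulAut.conjNormal a' : N ≃* N) '' s) =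
        irrTransport (MulAut.conjNormal (a' * a) : N ≃* N) '' s := by
    intro a a' s
    rw [Set.image_image]
    refine Set.image_congr fun η _ => ?_
    exact irrComp_conj_mul a' a η
  let act : MulAction P O :=
    { smul := fun u c => ⟨irrTransport (MulAut.conjNormal (u : G)⁻¹ : N ≃* N) '' (c : Set _), by
        obtain ⟨g, -, hg⟩ := Finset.mem_image.mp c.2
        rw [← hg, hcomp]
        exact Finset.mem_image.mpr ⟨_, Finset.mem_univ _, rfl⟩⟩
      one_smul := fun c => Subtype.ext (by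
        show irrTransport (MulAut.conjNormal ((1 : P) : G)⁻¹ : N ≃* N) '' (c : Set _) = c
        rw [OneMemClass.coe_one, inv_one]
        refine (Set.image_congr fun η _ => ?_).trans (Set.image_id _)
        exact irrComp_conj_one η)
      mul_smul := fun u v c => Subtype.ext (by
        show irrTransport (MulAut.conjNormal ((u * v : P) : G)⁻¹ : N ≃* N) '' (c : Set _) =
          irrTransport (MulAut.conjNormal (u : G)⁻¹ : N ≃* N) ''
            (irrTransport (MulAut.conjNormal (v : G)⁻¹ : N ≃* N) '' (c : Set _))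
        rw [hcomp, Subgroup.coe_mul, mul_inv_rev]) }
  obtain ⟨c, hfix, hcu⟩ : ∃ c : O, c ∈ MulAction.fixedPoints P O ∧
      ¬ MemLocalIdeal M (blockCoeff (c : Set (IrrCharacter N)) ⟨x, hxN⟩) := by
    by_contra hno
    push Not at hno
    have h1 := sum_fixedPoints_congr (X := O) (S := P) hM hgP.isPGroup
      (fun c => blockCoeff (c : Set (IrrCharacter N)) ⟨x, hxN⟩)
      (fun c => memLR_blockCoeff hM (hOblk _ c.2) _) (fun u c => by
        show blockCoeff (irrTransport (MulAut.conjNormal (u : G)⁻¹ : N ≃* N) '' (c : Set _)) _ = _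
        rw [blockCoeff_transport]
        refine congrArg _ (Subtype.ext ?_)
        rw [MulAut.conjNormal_apply, inv_inv]
        have hux : (u : G) * x = x * u := Subgroup.mem_centralizer_iff.mp hxC u u.2
        rw [mul_assoc, ← hux, inv_mul_cancel_left])
    refine hux ?_
    rw [hUdef, extendByZero_mem N _ hxN, hU, Finset.sum_apply, ← Finset.sum_coe_sort]
    exact memLI_congr hMp h1 (memLI_sum hMp _ _ fun c hc => hno c (Finset.mem_filter.mp hc).2)
  have hcB := hOblk _ c.2
  have hcov : Covers B (c : Set (IrrCharacter N)) := by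
    obtain ⟨g, -, hg⟩ := Finset.mem_image.mp c.2
    rw [← hg]
    exact covers_transport ⟨χ, hχ, θ₀, hθb, hθ₀⟩ g
  refine ⟨c, hcB, fun u hu => ?_, hcov, ?_⟩
  · have h1 := congrArg Subtype.val (hfix (⟨u, hu⟩⁻¹ : P))
    have h2 : irrTransport (MulAut.conjNormal ((u⁻¹ : G))⁻¹ : N ≃* N) '' (c : Set _) = (c : Set _) := h1
    rwa [inv_inv] at h2
  obtain ⟨Qc, hQc⟩ := exists_isDefectGroup hM hcB
  obtain ⟨gc, hgc, hgcQ⟩ := (isDefectGroup_iff (c : Set (IrrCharacter N)) Qc).mp hQc
  set R := (P ⊓ N).subgroupOf N with hR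
  have hRp : IsPGroup p R := (hgP.isPGroup.to_le inf_le_left).of_equiv
    (Subgroup.subgroupOfEquivOfLe (inf_le_right : P ⊓ N ≤ N)).symm
  obtain ⟨t, ht⟩ := le_defect_of_detect hM hcB hgc hgcQ hRp (x := ⟨x, hxN⟩)
    (Subgroup.mem_centralizer_iff.mpr fun w hw =>
      Subtype.ext (Subgroup.mem_centralizer_iff.mp hxC _ (Subgroup.mem_subgroupOf.mp hw).1)) hcu
  obtain ⟨s, hs⟩ := defect_le_covering hM hB hcB hcov hP hQc
  have hcard : Nat.card Qc ≤ Nat.card R := by
    have h1 : Qc.map N.subtype ≤ (P ⊓ N).map (MulAut.conj s).toMonoidHom := by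
      intro y hy
      obtain ⟨w, hw, hwy⟩ := hs hy
      refine ⟨w, ⟨hw, ?_⟩, hwy⟩
      have hyN : y ∈ N := Subgroup.map_subtype_le _ hy
      have hyw : s * w * s⁻¹ = y := hwy
      have := hN.conj_mem y hyN s⁻¹
      rwa [← hyw, inv_inv, show s⁻¹ * (s * w * s⁻¹) * s = w by group] at this
    have h2 := Subgroup.card_le_of_le h1
    rw [Subgroup.card_map_of_injective N.subtype_injective,
      Subgroup.card_map_of_injective (MulEquiv.injective _)] at h2
    rwa [hR, Nat.card_congr (Subgroup.subgroupOfEquivOfLe (inf_le_right : P ⊓ N ≤ N)).toEquiv]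
  rw [Subgroup.eq_of_le_of_card_ge ht (by
    rwa [Subgroup.card_map_of_injective (MulEquiv.injective _)])]
  exact isDefectGroup_conj hM hQc t

/-- Transport of defect groups. -/
theorem isDefectGroup_transport {H K : Type u} [Group H] [Fintype H] [Group K] [Fintype K]
    (e : H ≃* K) {b : Set (IrrCharacter K)} {D : Subgroup K} (hp : p.Prime)
    (hD : IsDefectGroup p M b D) :
    IsDefectGroup p M (irrTransport e '' b) (D.map e.symm.toMonoidHom) := by
  haveI := Fact.mk hp
  obtain ⟨g, hg, hgD⟩ := (isDefectGroup_iff b D).mp hD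
  refine (isDefectGroup_iff _ _).mpr ⟨e.symm g, ⟨?_, ?_, ?_⟩, ?_⟩
  · rw [blockCoeff_transport, MulEquiv.apply_symm_apply]; exact hg.1
  · rw [blockCoeff_transport, MulEquiv.apply_symm_apply]; exact hg.2.1
  · rintro _ ⟨χ, hχ, rfl⟩
    rw [← omega_eq_centralChar, omega_transport, MulEquiv.apply_symm_apply, omega_eq_centralChar]
    exact hg.2.2 χ hχ
  · set C := Subgroup.centralizer ({e.symm g} : Set H) with hC
    have hmem : ∀ x, x ∈ C ↔ e x ∈ Subgroup.centralizer ({g} : Set K) := fun x => by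
      rw [hC, Subgroup.mem_centralizer_singleton_iff, Subgroup.mem_centralizer_singleton_iff,
        ← e.injective.eq_iff, map_mul, map_mul, MulEquiv.apply_symm_apply]
    have hle : D.map e.symm.toMonoidHom ≤ C := by
      rintro _ ⟨d, hd, rfl⟩
      rw [hmem]
      show e (e.symm d) ∈ _
      rw [MulEquiv.apply_symm_apply]
      exact hgD.le hd
    have hcardC : Nat.card C = Nat.card (Subgroup.centralizer ({g} : Set K)) := Nat.card_congr
      { toFun := fun x => ⟨e x, (hmem _).mp x.2⟩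
        invFun := fun y => ⟨e.symm y, (hmem _).mpr (by rw [MulEquiv.apply_symm_apply]; exact y.2)⟩
        left_inv := fun x => Subtype.ext (e.symm_apply_apply _)
        right_inv := fun y => Subtype.ext (e.apply_symm_apply _) }
    have hcard : Nat.card ((D.map e.symm.toMonoidHom).subgroupOf C) =
        p ^ (Nat.card C).factorization p := by
      rw [Nat.card_congr (Subgroup.subgroupOfEquivOfLe hle).toEquiv,
        Subgroup.card_map_of_injective (MulEquiv.injective _), hgD.card hp, hcardC]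
    refine ⟨Sylow.ofCard _ hcard, ?_⟩
    rw [Sylow.coe_ofCard, Subgroup.map_subgroupOf_eq_of_le hle]

/-- Some defect group of the covering block meets `N` in a given defect group. -/
theorem exists_defect_inf_eq (hM : IsPModular p M) {B : Set (IrrCharacter G)} (hB : IsPBlock M B)
    {b : Set (IrrCharacter N)} (hb : IsPBlock M b) (hcov : Covers B b) {Q : Subgroup N}
    (hQ : IsDefectGroup p M b Q) :
    ∃ P : Subgroup G, IsDefectGroup p M B P ∧ P ⊓ N = Q.map N.subtype := by
  obtain ⟨P, hP⟩ := exists_isDefectGroup hM hB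
  obtain ⟨c, hc, -, hcovc, hDc⟩ := exists_stable_covered (N := N) hM hB hP
  obtain ⟨g, hg⟩ := exists_transport_of_covers hM hB hc hb hcovc hcov
  have h1 := isDefectGroup_transport (MulAut.conjNormal g : N ≃* N) hM.1 hDc
  rw [← hg] at h1
  obtain ⟨n, hn⟩ := defect_groups_conj hM hb h1 hQ
  refine ⟨P.map (MulAut.conj ((n : G) * g⁻¹)).toMonoidHom, isDefectGroup_conj hM hP _, ?_⟩
  have hval : ∀ w : N, ((MulAut.conj n ((MulAut.conjNormal g : N ≃* N).symm w) : N) : G) =
      (n : G) * g⁻¹ * (w : G) * ((n : G) * g⁻¹)⁻¹ := fun w => by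
    rw [MulAut.conj_apply, Subgroup.coe_mul, Subgroup.coe_mul, InvMemClass.coe_inv,
      MulAut.conjNormal_symm_apply]
    group
  ext y
  constructor
  · rintro ⟨⟨w, hw, rfl⟩, hyN⟩
    have hyN' : (n : G) * g⁻¹ * w * ((n : G) * g⁻¹)⁻¹ ∈ N := hyN
    have hwN : w ∈ N := by
      have := hN.conj_mem _ hyN' ((n : G) * g⁻¹)⁻¹
      rwa [inv_inv, show ∀ a : G, a⁻¹ * (a * w * a⁻¹) * a = w from fun a => by group] at this
    refine ⟨MulAut.conj n ((MulAut.conjNormal g : N ≃* N).symm ⟨w, hwN⟩), ?_, hval ⟨w, hwN⟩⟩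
    rw [hn]
    exact ⟨_, ⟨⟨w, hwN⟩, Subgroup.mem_subgroupOf.mpr ⟨hw, hwN⟩, rfl⟩, rfl⟩
  · rintro ⟨v, hv, rfl⟩
    rw [hn] at hv
    obtain ⟨_, ⟨w, hw, rfl⟩, rfl⟩ := hv
    refine ⟨⟨(w : G), (Subgroup.mem_subgroupOf.mp hw).1, (hval w).symm⟩, ?_⟩
    exact (MulAut.conj n ((MulAut.conjNormal g : N ≃* N).symm w) : N).2

/-- The blocks of largest defect over a stable block. -/
theorem exists_max_cover (hM : IsPModular p M) {b : Set (IrrCharacter N)} (hb : IsPBlock M b)
    (hst : ∀ x : G, StabilizesBlock N b x) :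
    ∃ P₀ : Subgroup G, ¬ p ∣ (P₀ ⊔ N).index ∧ IsDefectGroup p M b ((P₀ ⊓ N).subgroupOf N) ∧
      (∃ g : N, IsDefectClass M b g ∧ IsSylCent p (g : G) P₀) ∧
      (∃ B₀ : Set (IrrCharacter G), IsPBlock M B₀ ∧ Covers B₀ b ∧ IsDefectGroup p M B₀ P₀) ∧
      ∀ (B : Set (IrrCharacter G)) (P : Subgroup G), IsPBlock M B → Covers B b →
        IsDefectGroup p M B P → ∃ t : G, P ≤ P₀.map (MulAut.conj t).toMonoidHom := by
  haveI := Fact.mk hM.1
  have hP := pmod_prime hM
  have hp := hM.1
  obtain ⟨θ, hθ⟩ := block_nonempty hP hb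
  obtain ⟨χ₀, hχ₀⟩ := exists_constituent_over N θ
  have hinv := ginv_blockCoeff_of_stable hb hst hP
  have hebI := isIntClassFun_blockCoeff hM hb
  set F := extendByZero N (blockCoeff b) with hF
  have hFI := intClassFun_extend hP hinv hebI.2
  have hlam : ∀ ψ : IrrCharacter G, ∀ η : IrrCharacter N,
      classInner (fun n : N => (ψ : G → ℂ) n) (η : N → ℂ) ≠ 0 →
      lam (ψ : G → ℂ) F = if η ∈ b then 1 else 0 := fun ψ η h => by
    rw [hF, lam_extend_of_constituent h hinv, lam_blockCoeff]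
  obtain ⟨g, hgF, hgω⟩ : ∃ g : G, ¬ MemLocalIdeal M (F g) ∧
      ¬ MemLocalIdeal M (omega (χ₀ : G → ℂ) g) := by
    by_contra hno
    push Not at hno
    refine memLI_one_iff hP ?_
    have := Fintype.ofFinite (ConjClasses G)
    rw [show (1 : ℂ) = lam (χ₀ : G → ℂ) F by rw [hlam χ₀ θ hχ₀, if_pos hθ],
      lam_eq_sum_omega (isClassFunction_character (irr_isCharacter χ₀.2)) hFI.1]
    refine memLI_sum hP _ _ fun C _ => ?_
    by_cases h : MemLocalIdeal M (F C.out)
    · exact memLI_mul_right hP h (memLR_omega hP χ₀.2 _)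
    · exact memLI_mul_left hP (hFI.2 _) (hno _ h)
  have hgN : g ∈ N := by
    by_contra hn
    exact hgF (by rw [hF, extendByZero_not_mem N _ hn]; exact memLI_zero hP)
  set C := Subgroup.centralizer ({g} : Set G) with hC
  have hidx : ¬ p ∣ (N ⊔ C).index ∧ ¬ MemLocalIdeal M (omega (θ : N → ℂ) ⟨g, hgN⟩) := by
    have hcong := omega_stable_congr hM hb hst hgN hθ hχ₀
    constructor
    · intro hd
      exact hgω (memLI_congr hP hcong
        (memLI_mul_right hP ((memLI_natCast_iff hM _).mpr hd) (memLR_omega hP θ.2 _)))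
    · intro hd
      exact hgω (memLI_congr hP hcong (memLI_mul_left hP (memLR_natCast hP _) hd))
  have hdef : IsDefectClass M b ⟨g, hgN⟩ := by
    refine ⟨memLR_blockCoeff hM hb _, ?_, (omega_unit_iff hM hb hθ _).mpr hidx.2⟩
    rwa [hF, extendByZero_mem N _ hgN] at hgF
  obtain ⟨P₀, hP₀⟩ := exists_isSylCent p g
  have hP₀C : P₀ ≤ C := hP₀.le
  -- the intersection is a Sylow subgroup of the centralizer in `N`
  set CN := Subgroup.centralizer ({(⟨g, hgN⟩ : N)} : Set N) with hCN
  have hCcard : Nat.card C = Nat.card P₀ * P₀.relIndex C := by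
    rw [← Subgroup.relIndex_bot_left P₀, Subgroup.relIndex_mul_relIndex _ _ _ bot_le hP₀C,
      Subgroup.relIndex_bot_left]
  have hrel : ¬ p ∣ P₀.relIndex C := by
    intro hd
    refine Nat.pow_succ_factorization_not_dvd (Nat.card_pos (α := C)).ne' hp ?_
    rw [pow_succ]
    conv_rhs => rw [hCcard, hP₀.card hp]
    exact Nat.mul_dvd_mul_left _ hd
  have hPN : P₀ ⊔ N ≤ N ⊔ C := sup_le (hP₀C.trans le_sup_right) le_sup_left
  have hinf : N ⊓ P₀ ≤ N ⊓ C := inf_le_inf_left N hP₀C
  obtain ⟨s, hs⟩ : Nat.card (N ⊓ P₀ : Subgroup G) ∣ Nat.card (N ⊓ C : Subgroup G) :=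
    Subgroup.card_dvd_of_le hinf
  have hcount : (P₀ ⊔ N).relIndex (N ⊔ C) * s = P₀.relIndex C := by
    have h1 : N.relIndex C = N.relIndex P₀ * (P₀ ⊔ N).relIndex (N ⊔ C) := by
      have h2 := Subgroup.relIndex_mul_relIndex N (P₀ ⊔ N) (N ⊔ C) le_sup_right hPN
      rw [sup_comm N C, Subgroup.relIndex_sup_right, Subgroup.relIndex_sup_right,
        sup_comm C N] at h2
      exact h2.symm
    have e1 := card_eq_inf_mul_relIndex N C
    have e2 := card_eq_inf_mul_relIndex N P₀
    rw [hCcard, e2, hs, h1] at e1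
    refine Nat.eq_of_mul_eq_mul_left (Nat.card_pos (α := (N ⊓ P₀ : Subgroup G))) ?_
    refine Nat.eq_of_mul_eq_mul_left (Nat.pos_of_ne_zero
      (Subgroup.FiniteIndex.index_ne_zero (H := N.subgroupOf P₀))) ?_
    show N.relIndex P₀ * _ = N.relIndex P₀ * _
    linear_combination -e1
  refine ⟨P₀, ?_, ?_, ⟨⟨g, hgN⟩, hdef, hP₀⟩, ?_, ?_⟩
  · intro hd
    rw [← Subgroup.relIndex_mul_index hPN] at hd
    rcases hp.dvd_mul.mp hd with h | h
    · exact hrel (h.trans (Dvd.intro s hcount))
    · exact hidx.1 h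
  · refine (isDefectGroup_iff b _).mpr ⟨⟨g, hgN⟩, hdef, ?_⟩
    have hmemCN : ∀ v : N, v ∈ CN ↔ (v : G) ∈ C := fun v =>
      ⟨fun h => Subgroup.mem_centralizer_singleton_iff.mpr
        (congrArg Subtype.val (Subgroup.mem_centralizer_singleton_iff.mp h)),
      fun h => Subgroup.mem_centralizer_singleton_iff.mpr
        (Subtype.ext (Subgroup.mem_centralizer_singleton_iff.mp h))⟩
    have hle : (P₀ ⊓ N).subgroupOf N ≤ CN := fun v hv =>
      (hmemCN v).mpr (hP₀C (Subgroup.mem_subgroupOf.mp hv).1)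
    have hcardCN : Nat.card CN = Nat.card (N ⊓ C : Subgroup G) := by
      have h1 : CN = (N ⊓ C).subgroupOf N := by
        ext v
        rw [hmemCN, Subgroup.mem_subgroupOf, Subgroup.mem_inf]
        exact ⟨fun h => ⟨v.2, h⟩, And.right⟩
      rw [h1, Nat.card_congr (Subgroup.subgroupOfEquivOfLe (inf_le_left : N ⊓ C ≤ N)).toEquiv]
    have hsd : ¬ p ∣ s := fun h => hrel (h.trans (Dvd.intro_left _ hcount))
    have hs0 : s ≠ 0 := fun h0 => hsd (h0 ▸ dvd_zero p)
    have hcard : Nat.card (((P₀ ⊓ N).subgroupOf N).subgroupOf CN) =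
        p ^ (Nat.card CN).factorization p := by
      obtain ⟨j, hj⟩ := IsPGroup.iff_card.mp
        (hP₀.isPGroup.to_le (inf_le_right : N ⊓ P₀ ≤ P₀))
      rw [Nat.card_congr (Subgroup.subgroupOfEquivOfLe hle).toEquiv,
        Nat.card_congr (Subgroup.subgroupOfEquivOfLe (inf_le_right : P₀ ⊓ N ≤ N)).toEquiv,
        hcardCN, inf_comm P₀ N, hs, hj, Nat.factorization_mul (pow_ne_zero _ hp.ne_zero) hs0,
        Finsupp.add_apply, Nat.factorization_pow_self hp,
        Nat.factorization_eq_zero_of_not_dvd hsd, add_zero]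
    refine ⟨Sylow.ofCard _ hcard, ?_⟩
    rw [Sylow.coe_ofCard, Subgroup.map_subgroupOf_eq_of_le hle]
  · obtain ⟨B₀, hB₀, hcov₀, hu₀⟩ : ∃ B₀ : Set (IrrCharacter G), IsPBlock M B₀ ∧ Covers B₀ b ∧
        ¬ MemLocalIdeal M (blockCoeff B₀ g) := by
      by_contra hno
      push Not at hno
      refine hgF ?_
      have hsplit : F g = ∑ B ∈ (Finset.univ : Finset (IrrCharacter G)).image
          (fun χ : IrrCharacter G => blockOf M (χ : G → ℂ)),
            if Covers B b then blockCoeff B g else 0 := by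
        have hFc : IsClassFunction G F := hFI.1
        rw [congrFun (classFun_eq_sum_idem hFc) g, Finset.sum_apply]
        simp only [blockCoeff_eq, Finset.sum_apply]
        rw [← Finset.sum_fiberwise_of_maps_to (s := Finset.univ)
          (g := fun χ : IrrCharacter G => blockOf M (χ : G → ℂ))
          (t := (Finset.univ : Finset (IrrCharacter G)).image
            (fun χ : IrrCharacter G => blockOf M (χ : G → ℂ)))
          (fun χ _ => Finset.mem_image_of_mem _ (Finset.mem_univ χ))]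
        refine Finset.sum_congr rfl fun B hB => ?_
        obtain ⟨χ, -, rfl⟩ := Finset.mem_image.mp hB
        have hblk := isPBlock_blockOf M χ
        have hval : ∀ ψ : IrrCharacter G, ψ ∈ blockOf M (χ : G → ℂ) →
            lam (ψ : G → ℂ) F = if Covers (blockOf M (χ : G → ℂ)) b then 1 else 0 := by
          intro ψ hψ
          obtain ⟨η, hη⟩ := exists_constituent (N := N) ψ
          rw [hlam ψ η hη]
          refine if_congr ⟨fun h => ⟨ψ, hψ, η, h, hη⟩, ?_⟩ rfl rfl
          rintro ⟨ψ', hψ', η', hη', hc'⟩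
          obtain ⟨a, ha⟩ := mem_orbU_of_sameBlock hM (block_sameBlock hP hblk hψ' hψ) hc' hη
          have h3 := transport_mem_of_stable hst ((mem_block_iff hP hb hη' _).mpr ha) a⁻¹
          rwa [show irrTransport (MulAut.conjNormal a⁻¹ : N ≃* N)
            (irrComp (MulAut.conjNormal a) η) = irrComp (MulAut.conjNormal a⁻¹)
              (irrComp (MulAut.conjNormal a) η) from rfl,
            irrComp_conj_mul, mul_inv_cancel, irrComp_conj_one] at h3
        have hfilt : (Finset.univ.filter fun ψ : IrrCharacter G =>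
            blockOf M (ψ : G → ℂ) = blockOf M (χ : G → ℂ)) =
            Finset.univ.filter (fun ψ : IrrCharacter G => ψ ∈ blockOf M (χ : G → ℂ)) := by
          ext ψ
          simp only [Finset.mem_filter, Finset.mem_univ, true_and]
          exact ⟨fun h => h ▸ self_mem_blockOf hP ψ, fun h => (blockOf_eq_of_sameBlock hP h).symm⟩
        rw [hfilt]
        rw [Finset.sum_congr rfl fun ψ hψ => by
          rw [Pi.smul_apply, smul_eq_mul, hval ψ (Finset.mem_filter.mp hψ).2]]
        split_ifs <;> simp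
      rw [hsplit]
      refine memLI_sum hP _ _ fun B hB => ?_
      obtain ⟨χ, -, rfl⟩ := Finset.mem_image.mp hB
      split_ifs with h
      · exact hno _ (isPBlock_blockOf M χ) h
      · exact memLI_zero hP
    refine ⟨B₀, hB₀, hcov₀, (isDefectGroup_iff B₀ _).mpr ⟨g, ⟨memLR_blockCoeff hM hB₀ _, hu₀, ?_⟩, hP₀⟩⟩
    obtain ⟨χ, hχ, η, hη, hc⟩ := hcov₀
    refine (omega_unit_iff hM hB₀ hχ g).mpr fun h => ?_
    have hcong := omega_stable_congr hM hb hst hgN hη hc
    refine memLR_unit_mul_not hP (memLR_natCast hP _) (memLR_omega hP η.2 _)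
      (fun h' => hidx.1 ((memLI_natCast_iff hM _).mp h'))
      ((omega_unit_iff hM hb hη _).mp ((omega_unit_iff hM hb hθ _).mpr hidx.2))
      (memLI_congr hP (memLI_symm hP hcong) h)
  · rintro B P hB ⟨χ, hχ, η, hη, hc⟩ hPB
    obtain ⟨gB, hgB, hgBP⟩ := (isDefectGroup_iff B P).mp hPB
    refine defect_le_of_omega hM hB hgB hgBP hχ (h := g) (fun h => ?_) hP₀
    have hcong := omega_stable_congr hM hb hst hgN hη hc
    exact memLR_unit_mul_not hP (memLR_natCast hP _) (memLR_omega hP η.2 _)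
      (fun h' => hidx.1 ((memLI_natCast_iff hM _).mp h'))
      ((omega_unit_iff hM hb hη _).mp ((omega_unit_iff hM hb hθ _).mpr hidx.2))
      (memLI_congr hP (memLI_symm hP hcong) h)

end Cfsg.Agent.Char

namespace Cfsg.Agent.Char

open Cfsg Module
open scoped Classical

universe v

variable {G : Type v} [Group G] [Fintype G] {M : Ideal AlgInt} {p : ℕ}
variable {N : Subgroup G} [hN : N.Normal] [Fintype N]

omit [Fintype G] in
theorem isConjCharOf_transport (g : G) (θ : IrrCharacter N) :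
    IsConjCharOf N g (θ : N → ℂ) (irrTransport (MulAut.conjNormal g⁻¹ : N ≃* N) θ : N → ℂ) := by
  intro k k' hk
  rw [irrTransport_apply]
  refine congrArg _ (Subtype.ext ?_)
  rw [MulAut.conjNormal_apply, hk]
  group

omit [Fintype G] in
theorem eq_transport_of_isConjCharOf {g : G} {θ θ' : IrrCharacter N}
    (h : IsConjCharOf N g (θ : N → ℂ) (θ' : N → ℂ)) :
    θ' = irrTransport (MulAut.conjNormal g⁻¹ : N ≃* N) θ :=
  Subtype.ext (funext fun k => by
    rw [irrTransport_apply]
    refine h _ k ?_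
    rw [MulAut.conjNormal_apply]
    group)

theorem stabilizesBlock_iff (hM : M.IsPrime) {c : Set (IrrCharacter N)} (hc : IsPBlock M c) (x : G) :
    StabilizesBlock N c x ↔ irrTransport (MulAut.conjNormal x⁻¹ : N ≃* N) '' c = c := by
  constructor
  · intro h
    obtain ⟨θ, hθ⟩ := block_nonempty hM hc
    obtain ⟨θ', hθ', hconj⟩ := h.2 θ hθ
    exact block_disjoint hM (isPBlock_transport _ hc) hc ⟨θ, hθ, rfl⟩
      (eq_transport_of_isConjCharOf hconj ▸ hθ')
  · intro h
    refine ⟨?_, fun θ hθ => ⟨_, h ▸ ⟨θ, hθ, rfl⟩, isConjCharOf_transport x θ⟩⟩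
    rw [Subgroup.normalizer_eq_top N]
    trivial

end Cfsg.Agent.Char
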