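import Cfsg.Agent.Lib.Char.GradedNil
import Cfsg.Agent.Lib.Char.CoverBlocks
import Cfsg.Agent.Lib.Char.DefectLocal
import Cfsg.Agent.Lib.Char.Osima

/-!
# A covering block does not vanish under truncation to the normal subgroup
-/

set_option autoImplicit false

namespace Cfsg.Agent.Char

open Cfsg Module
open scoped ComplexConjugate Classical

universe u

variable {G : Type u} [Group G] [Fintype G] {M : Ideal AlgInt} {p : ℕ}

/-- Functions invariant under conjugation by a subgroup. -/
def NormalInv (N : Subgroup G) (f : G → ℂ) : Prop := ∀ n ∈ N, ∀ x, f (n * x * n⁻¹) = f x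

variable {N : Subgroup G}

theorem ninv_of_classFun {f : G → ℂ} (hf : IsClassFunction G f) : NormalInv N f := fun n _ x => hf x n

theorem NormalInv.conv {f g : G → ℂ} (hf : NormalInv N f) (hg : NormalInv N g) : NormalInv N (conv f g) := by
  intro n hn x
  simp only [Cfsg.Agent.Char.conv]
  refine Fintype.sum_equiv (MulAut.conj n⁻¹).toEquiv _ _ fun y => ?_
  show _ = f (n⁻¹ * y * n⁻¹⁻¹) * g ((n⁻¹ * y * n⁻¹⁻¹)⁻¹ * x)
  rw [hf n⁻¹ (N.inv_mem hn), inv_inv, show (n⁻¹ * y * n)⁻¹ * x =
    n⁻¹ * (y⁻¹ * (n * x * n⁻¹)) * n by group]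
  congr 1
  have h := hg n⁻¹ (N.inv_mem hn) (y⁻¹ * (n * x * n⁻¹))
  rw [inv_inv] at h
  exact h.symm

theorem ninv_extend {f : N → ℂ} (hf : IsClassFunction N f) : NormalInv N (extendByZero N f) := by
  intro n hn x
  by_cases hx : x ∈ N
  · rw [extendByZero_mem N f hx, extendByZero_mem N f (N.mul_mem (N.mul_mem hn hx) (N.inv_mem hn)),
      ← hf ⟨x, hx⟩ ⟨n, hn⟩]
    rfl
  · rw [extendByZero_not_mem N f hx, extendByZero_not_mem]
    intro h
    refine hx ?_
    have := N.mul_mem (N.mul_mem (N.inv_mem hn) h) hn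
    rwa [show n⁻¹ * (n * x * n⁻¹) * n = x by group] at this

theorem intClassFun_trunc {f : G → ℂ} (hf : NormalInv N f) (hr : ∀ x, MemLocalRing M (f x)) :
    IsIntClassFun M (fun n : N => f n) :=
  ⟨fun a k => hf k k.2 a, fun n => hr n⟩

theorem conv_extend_left_apply [Fintype N] (a : N → ℂ) (w : G → ℂ) (n : N) :
    conv (extendByZero N a) w n = conv a (fun m : N => w m) n := by
  simp only [conv]
  rw [sum_extendByZero_mul N a (fun y => w (y⁻¹ * (n : G)))]
  rfl

/-- A self-adjoint idempotent function vanishing at the identity is zero. -/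
theorem eq_zero_of_idem_selfAdjoint {W : G → ℂ} (hid : conv W W = W)
    (hsa : ∀ x, W x⁻¹ = conj (W x)) (h1 : W 1 = 0) : W = 0 := by
  have h := congrFun hid 1
  rw [h1, conv] at h
  simp only [mul_one] at h
  rw [Finset.sum_congr rfl fun y _ => show W y * W y⁻¹ = (Complex.normSq (W y) : ℂ) by
    rw [hsa, Complex.mul_conj], ← Complex.ofReal_sum, Complex.ofReal_eq_zero] at h
  funext x
  exact Complex.normSq_eq_zero.mp
    ((Finset.sum_eq_zero_iff_of_nonneg fun y _ => Complex.normSq_nonneg _).mp h x (Finset.mem_univ _))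

theorem conj_idem {χ : G → ℂ} (hχ : IsCharacter G χ) (x : G) : idem χ x⁻¹ = conj (idem χ x) := by
  simp only [idem, map_mul, map_inv₀, Complex.conj_natCast, Complex.conj_conj]
  rw [char_inv hχ x, Complex.conj_conj, ← char_inv hχ 1, inv_one]

theorem conj_blockCoeff (B : Set (IrrCharacter G)) (x : G) :
    blockCoeff B x⁻¹ = conj (blockCoeff B x) := by
  rw [blockCoeff_eq, Finset.sum_apply, Finset.sum_apply, map_sum]
  exact Finset.sum_congr rfl fun χ _ => conj_idem (irr_isCharacter χ.2) x

theorem conv_selfAdjoint {f g : G → ℂ} (hf : ∀ x, f x⁻¹ = conj (f x)) (hg : ∀ x, g x⁻¹ = conj (g x))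
    (hfg : conv f g = conv g f) (x : G) : conv f g x⁻¹ = conj (conv f g x) := by
  conv_rhs => rw [hfg]
  simp only [conv, map_sum, map_mul]
  refine Fintype.sum_equiv ((Equiv.mulLeft x).trans (Equiv.refl G)) _ _ fun y => ?_
  simp only [Equiv.trans_apply, Equiv.coe_mulLeft, Equiv.refl_apply]
  rw [← hg, ← hf, show (x * y)⁻¹ = y⁻¹ * x⁻¹ by group, show ((y⁻¹ * x⁻¹) * x)⁻¹ = y by group]
  ring

variable [hN : N.Normal] [Fintype N]

/-- The idempotent of `B` times that of a character of `N` under no character of `B` is zero. -/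
theorem conv_idem_eq_zero (B : Set (IrrCharacter G)) (θ : IrrCharacter N)
    (h : ∀ χ ∈ B, classInner (fun n : N => (χ : G → ℂ) n) (θ : N → ℂ) = 0) :
    conv (extendByZero N (idem (θ : N → ℂ))) (blockCoeff B) = 0 := by
  set a := extendByZero N (idem (θ : N → ℂ)) with ha
  set e := blockCoeff B
  have hc : conv a e = conv e a := conv_comm a (isClassFunction_blockCoeff B)
  have haa : conv a a = a := by
    rw [ha, extendByZero_conv, conv_idem, if_pos rfl]
  have hasa : ∀ x, a x⁻¹ = conj (a x) := by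
    intro x
    by_cases hx : x ∈ N
    · rw [ha, extendByZero_mem N _ hx, extendByZero_mem N _ (N.inv_mem hx),
        ← conj_idem (irr_isCharacter θ.2)]
      rfl
    · rw [ha, extendByZero_not_mem N _ hx,
        extendByZero_not_mem N _ (fun h => hx (by simpa using N.inv_mem h)), map_zero]
  refine eq_zero_of_idem_selfAdjoint ?_ (conv_selfAdjoint hasa (conj_blockCoeff B) hc) ?_
  · calc conv (conv a e) (conv a e) = conv a (conv e (conv a e)) := conv_assoc _ _ _
      _ = conv a (conv (conv e a) e) := by rw [conv_assoc e a e]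
      _ = conv a (conv (conv a e) e) := by rw [hc]
      _ = conv a (conv a (conv e e)) := by rw [conv_assoc a e e]
      _ = conv a e := by rw [conv_blockCoeff, ← conv_assoc, haa]
  · simp only [conv, mul_one]
    rw [ha, sum_extendByZero_mul N (idem (θ : N → ℂ)) (fun y => e y⁻¹)]
    have e1 : ∀ n : N, e ((n : G))⁻¹ =
        ∑ χ : IrrCharacter G with χ ∈ B, (Nat.card G : ℂ)⁻¹ * ((χ : G → ℂ) 1 * (χ : G → ℂ) n) := by
      intro n
      rw [show e = _ from blockCoeff_eq B, Finset.sum_apply]
      refine Finset.sum_congr rfl fun χ _ => ?_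
      rw [idem, char_inv (irr_isCharacter χ.2), Complex.conj_conj]
    simp only [e1, Finset.mul_sum]
    rw [Finset.sum_comm]
    refine Finset.sum_eq_zero fun χ hχ => ?_
    have h0 := h χ (Finset.mem_filter.mp hχ).2
    simp only [classInner, mul_eq_zero, inv_eq_zero, Nat.cast_eq_zero, Nat.card_pos.ne',
      false_or] at h0
    simp only [idem]
    rw [Finset.sum_congr rfl fun n _ => show (Nat.card N : ℂ)⁻¹ *
        ((θ : N → ℂ) 1 * conj ((θ : N → ℂ) n)) *
          ((Nat.card G : ℂ)⁻¹ * ((χ : G → ℂ) 1 * (χ : G → ℂ) n)) =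
        ((Nat.card N : ℂ)⁻¹ * (θ : N → ℂ) 1 * (Nat.card G : ℂ)⁻¹ * (χ : G → ℂ) 1) *
          ((χ : G → ℂ) n * conj ((θ : N → ℂ) n)) by ring, ← Finset.mul_sum, h0, mul_zero]

/-- The union of the orbit of a block as a sum. -/
theorem blockCoeff_orbU_eq_sum (hM : M.IsPrime) {b : Set (IrrCharacter N)} (hb : IsPBlock M b)
    {θ : IrrCharacter N} (hθ : θ ∈ b) :
    blockCoeff (orbU M θ) = ∑ c ∈ (Finset.univ : Finset G).image
      (fun g => irrTransport (MulAut.conjNormal g : N ≃* N) '' b), blockCoeff c := by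
  set O := (Finset.univ : Finset G).image
    (fun g => irrTransport (MulAut.conjNormal g : N ≃* N) '' b) with hO
  have hblk : ∀ c ∈ O, IsPBlock M c := fun c hc => by
    obtain ⟨g, -, rfl⟩ := Finset.mem_image.mp hc
    exact isPBlock_transport _ hb
  have hmem : ∀ η, η ∈ orbU M θ ↔ ∃ c ∈ O, η ∈ c := by
    intro η
    constructor
    · rintro ⟨g, hg⟩
      refine ⟨_, Finset.mem_image.mpr ⟨g⁻¹, Finset.mem_univ _, rfl⟩,
        irrComp (MulAut.conjNormal g) η, (mem_block_iff hM hb hθ _).mpr hg, ?_⟩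
      show irrComp (MulAut.conjNormal g⁻¹) (irrComp (MulAut.conjNormal g) η) = η
      rw [irrComp_conj_mul, mul_inv_cancel, irrComp_conj_one]
    · rintro ⟨c, hc, hη⟩
      obtain ⟨g, -, rfl⟩ := Finset.mem_image.mp hc
      obtain ⟨ζ, hζ, rfl⟩ := hη
      refine ⟨g⁻¹, ?_⟩
      rw [show irrComp (MulAut.conjNormal g⁻¹) (irrTransport (MulAut.conjNormal g : N ≃* N) ζ) =
          irrComp (MulAut.conjNormal g⁻¹) (irrComp (MulAut.conjNormal g) ζ) from rfl,
        irrComp_conj_mul, mul_inv_cancel, irrComp_conj_one]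
      exact (mem_block_iff hM hb hθ _).mp hζ
  simp only [blockCoeff_eq, Finset.sum_filter]
  rw [Finset.sum_comm]
  refine Finset.sum_congr rfl fun η _ => ?_
  by_cases h : η ∈ orbU M θ
  · obtain ⟨c, hc, hη⟩ := (hmem η).mp h
    rw [if_pos h, Finset.sum_eq_single c (fun c' hc' hne => if_neg fun h' =>
      hne (block_disjoint hM (hblk c' hc') (hblk c hc) h' hη)) (fun h' => absurd hc h'), if_pos hη]
  · rw [if_neg h]
    exact (Finset.sum_eq_zero fun c hc => if_neg fun h' => h ((hmem η).mpr ⟨c, hc, h'⟩)).symm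

theorem conv_transport (B : Set (IrrCharacter G)) (f : N → ℂ) (g x : G) :
    conv (blockCoeff B) (extendByZero N fun n => f (MulAut.conjNormal g n)) x =
      conv (blockCoeff B) (extendByZero N f) (g * x * g⁻¹) := by
  simp only [conv]
  refine Fintype.sum_equiv (MulAut.conj g).toEquiv _ _ fun y => ?_
  show _ = blockCoeff B (g * y * g⁻¹) * extendByZero N f ((g * y * g⁻¹)⁻¹ * (g * x * g⁻¹))
  rw [isClassFunction_blockCoeff B y g, show (g * y * g⁻¹)⁻¹ * (g * x * g⁻¹) = g * (y⁻¹ * x) * g⁻¹ by
    group]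
  congr 1
  by_cases hx : y⁻¹ * x ∈ N
  · rw [extendByZero_mem N _ hx, extendByZero_mem N f (hN.conj_mem _ hx g)]
    exact congrArg f (Subtype.ext (MulAut.conjNormal_apply _ _))
  · rw [extendByZero_not_mem N _ hx, extendByZero_not_mem]
    exact fun h => hx (by simpa [mul_assoc] using hN.conj_mem _ h g⁻¹)

/-- A block covering `b` has a truncated multiple on which `b` is a unit. -/
theorem exists_trunc_unit (hM : IsPModular p M) {B : Set (IrrCharacter G)} (hB : IsPBlock M B)
    {b : Set (IrrCharacter N)} (hb : IsPBlock M b) {χ : IrrCharacter G} (hχ : χ ∈ B)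
    {θ₀ : IrrCharacter N} (hθ₀ : θ₀ ∈ b)
    (hcon : classInner (fun n : N => (χ : G → ℂ) n) (θ₀ : N → ℂ) ≠ 0) :
    ∃ z : G → ℂ, (∀ x, MemLocalRing M (z x)) ∧ NormalInv N z ∧
      ∀ θ ∈ b, ¬ MemLocalIdeal M (lam (θ : N → ℂ) (fun n : N => conv (blockCoeff B) z n)) := by
  have hP := pmod_prime hM
  set eB := blockCoeff B with heB
  have heBI := isIntClassFun_blockCoeff hM hB
  have hebI := isIntClassFun_blockCoeff hM hb
  set eb := extendByZero N (blockCoeff b) with heb
  have hebr : ∀ x, MemLocalRing M (eb x) := memLR_extendByZero hP hebI.2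
  by_contra hne
  push Not at hne
  have hyp : ∀ z : G → ℂ, (∀ x, MemLocalRing M (z x)) → NormalInv N z →
      ∀ θ ∈ b, MemLocalIdeal M (lam (θ : N → ℂ) (fun n : N => conv eB z n)) := by
    intro z hz hzi θ hθ
    obtain ⟨θ', hθ', h'⟩ := hne z hz hzi
    have hI := intClassFun_trunc (M := M) ((ninv_of_classFun heBI.1).conv hzi)
      (memLR_conv hP heBI.2 hz)
    exact memLI_congr hP (lam_congr hP θ.2 θ'.2 (block_sameBlock hP hb hθ hθ') hI.1 hI.2) h'
  set e := conv eB eb with he
  have her : ∀ x, MemLocalRing M (e x) := memLR_conv hP heBI.2 hebr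
  have hei : NormalInv N e := (ninv_of_classFun heBI.1).conv (ninv_extend hebI.1)
  have hcomm : conv eb eB = e := conv_comm eb heBI.1
  have hee : conv e e = e := by
    calc conv e e = conv eB (conv eb (conv eB eb)) := conv_assoc _ _ _
      _ = conv eB (conv (conv eb eB) eb) := by rw [conv_assoc eb eB eb]
      _ = conv eB (conv (conv eB eb) eb) := by rw [hcomm]
      _ = conv eB (conv eB (conv eb eb)) := by rw [conv_assoc eB eb eb]
      _ = e := by rw [← conv_assoc, conv_blockCoeff, heb, extendByZero_conv, conv_blockCoeff]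
  -- components
  let ε : G ⧸ N → G → ℂ := fun t x => if (x : G ⧸ N) = t then e x else 0
  have hεr : ∀ t x, MemLocalRing M (ε t x) := fun t x => by
    simp only [ε]; split_ifs
    exacts [her x, memLR_zero hP]
  have hmk : ∀ n ∈ N, ∀ x : G, ((n * x * n⁻¹ : G) : G ⧸ N) = (x : G ⧸ N) := fun n hn x => by
    rw [QuotientGroup.mk_mul, QuotientGroup.mk_mul, QuotientGroup.mk_inv,
      (QuotientGroup.eq_one_iff n).mpr hn]
    simp
  have hεi : ∀ t, NormalInv N (ε t) := fun t n hn x => by simp only [ε, hmk n hn x, hei n hn x]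
  -- products of components
  have hword : ∀ l : List (G ⧸ N), (∀ x, MemLocalRing M ((l.map ε).foldr conv delta x)) ∧
      NormalInv N ((l.map ε).foldr conv delta) ∧
      (∀ x : G, (l.map ε).foldr conv delta x ≠ 0 → (x : G ⧸ N) = l.prod) ∧
      rdAlg hP ((l.map ε).foldr conv delta) = (l.map fun t => rdAlg hP (ε t)).prod := by
    intro l
    induction l with
    | nil =>
      refine ⟨(intClassFun_delta hP).2, ninv_of_classFun isClassFunction_delta, fun x hx => ?_,
        by simp [rdAlg_delta]⟩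
      simp only [List.map_nil, List.foldr_nil, delta_apply] at hx
      have : x = 1 := by
        by_contra h
        exact hx (if_neg h)
      simp [this]
    | cons t l ih =>
      obtain ⟨h1, h2, h3, h4⟩ := ih
      refine ⟨memLR_conv hP (hεr t) h1, (hεi t).conv h2, fun x hx => ?_, ?_⟩
      · simp only [List.map_cons, List.foldr_cons, conv] at hx
        obtain ⟨y, -, hy⟩ := Finset.exists_ne_zero_of_sum_ne_zero hx
        obtain ⟨hy1, hy2⟩ := mul_ne_zero_iff.mp hy
        have e1 : (y : G ⧸ N) = t := by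
          by_contra h
          exact hy1 (if_neg h)
        have e2 := h3 _ hy2
        rw [List.prod_cons, ← e1, ← e2, ← QuotientGroup.mk_mul, mul_inv_cancel_left]
      · simp only [List.map_cons, List.foldr_cons, List.prod_cons]
        rw [rdAlg_conv hP (hεr t) h1, h4]
  set S : Set (MonoidAlgebra (Res hP) G) :=
    {r | ∃ f : N → ℂ, IsIntClassFun M f ∧
      (∀ θ : IrrCharacter N, MemLocalIdeal M (lam (θ : N → ℂ) f)) ∧
      r = rdAlg hP (extendByZero N f)} with hS
  have hseg : ∀ l : List (G ⧸ N), l ≠ [] → l.prod = 1 →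
      (l.map fun t => rdAlg hP (ε t)).prod ∈ S := by
    intro l hl hl1
    obtain ⟨t, l', rfl⟩ := List.exists_cons_of_ne_nil hl
    obtain ⟨h1, h2, h3, h4⟩ := hword (t :: l')
    obtain ⟨k1, k2, k3, -⟩ := hword l'
    set P := (l'.map ε).foldr conv delta with hPd
    set F := ((t :: l').map ε).foldr conv delta with hF
    have hFN : ∀ n : N, F (n : G) = conv eB (conv eb P) n := by
      intro n
      rw [← conv_assoc]
      show conv (ε t) P (n : G) = conv e P (n : G)
      refine Finset.sum_congr rfl fun y _ => ?_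
      by_cases hy : P (y⁻¹ * (n : G)) = 0
      · rw [hy, mul_zero, mul_zero]
      · have e2 := k3 _ hy
        rw [List.prod_cons] at hl1
        rw [QuotientGroup.mk_mul, (QuotientGroup.eq_one_iff (n : G)).mpr n.2, mul_one,
          QuotientGroup.mk_inv, eq_inv_of_mul_eq_one_right hl1, inv_inj] at e2
        simp only [ε, if_pos e2]
    have hFI : IsIntClassFun M (fun n : N => F n) := intClassFun_trunc h2 h1
    have hext : extendByZero N (fun n : N => F n) = F := by
      funext x
      by_cases hx : x ∈ N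
      · rw [extendByZero_mem N _ hx]
      · rw [extendByZero_not_mem N _ hx]
        by_contra h
        exact hx ((QuotientGroup.eq_one_iff x).mp ((h3 x (Ne.symm h)).trans hl1))
    refine ⟨fun n : N => F n, hFI, fun θ => ?_, by rw [hext, h4]⟩
    by_cases hθ : θ ∈ b
    · rw [funext hFN]
      exact hyp _ (memLR_conv hP hebr k1) ((ninv_extend hebI.1).conv k2) θ hθ
    · have hw : NormalInv N (conv eB P) := (ninv_of_classFun heBI.1).conv k2
      have e3 : (fun n : N => F n) = conv (blockCoeff b) (fun n : N => conv eB P n) := by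
        funext n
        rw [hFN, ← conv_extend_left_apply, ← heb, ← conv_assoc, ← conv_assoc, hcomm]
      rw [e3, lam_conv θ.2 hebI.1 (intClassFun_trunc hw (memLR_conv hP heBI.2 k1)).1,
        lam_blockCoeff, if_neg hθ, zero_mul]
      exact memLI_zero hP
  have hScomm : ∀ r ∈ S, ∀ r' ∈ S, r * r' = r' * r := by
    rintro _ ⟨f, hf, -, rfl⟩ _ ⟨g, hg, -, rfl⟩
    rw [← rdAlg_conv hP (memLR_extendByZero hP hf.2) (memLR_extendByZero hP hg.2),
      ← rdAlg_conv hP (memLR_extendByZero hP hg.2) (memLR_extendByZero hP hf.2),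
      extendByZero_conv, extendByZero_conv, conv_comm f hg.1]
  have hSnil : ∀ r ∈ S, IsNilpotent r := by
    rintro _ ⟨f, hf, hl, rfl⟩
    obtain ⟨n, hn⟩ := exists_cpow_memLI hM hf hl
    refine ⟨n, ?_⟩
    rw [← rdAlg_extend_cpow hP N hf,
      rdAlg_eq_zero_iff hP (memLR_extendByZero hP (intClassFun_cpow hP hf n).2)]
    intro x
    by_cases hx : x ∈ N
    · rw [extendByZero_mem N _ hx]; exact hn _
    · rw [extendByZero_not_mem N _ hx]; exact memLI_zero hP
  obtain ⟨k, hk⟩ := exists_prod_eq_zero (k := Res hP) S hScomm hSnil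
  have hsum : e = ∑ t : G ⧸ N, ε t := by
    funext x
    simp [ε, Finset.sum_apply]
  have hre : rdAlg hP e = ∑ t : G ⧸ N, rdAlg hP (ε t) := by
    rw [hsum, rdAlg_sum hP _ _ fun t _ => hεr t]
  have hzero : rdAlg hP e = 0 := by
    have h1 := sum_pow_eq_zero (fun t : G ⧸ N => rdAlg hP (ε t)) (Fintype.card (G ⧸ N) * k + 1)
      fun l hl => prod_eq_zero_of_segments _ S k hk hseg l (by omega)
    rw [← hre] at h1
    have h2 : ∀ j : ℕ, rdAlg hP e ^ (j + 1) = rdAlg hP e := by
      intro j
      induction j with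
      | zero => rw [pow_one]
      | succ j ih => rw [pow_succ, ih, ← rdAlg_conv hP her her, hee]
    rwa [h2] at h1
  have hez : ∀ x, MemLocalIdeal M (e x) := (rdAlg_eq_zero_iff hP her).mp hzero
  -- the orbit sum
  set U := blockCoeff (orbU M θ₀) with hU
  have hUI := intClassFun_orbU hM θ₀
  have hUext := intClassFun_extend hP (ginv_blockCoeff_orbU (M := M) θ₀) hUI.2
  set F := conv eB (extendByZero N U) with hF
  have hFc : IsClassFunction G F := isClassFunction_conv heBI.1 hUext.1
  have hlam : lam (χ : G → ℂ) F = 1 := by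
    rw [hF, lam_conv χ.2 heBI.1 hUext.1, lam_blockCoeff, if_pos hχ, one_mul,
      lam_extend_of_constituent hcon (ginv_blockCoeff_orbU θ₀), lam_blockCoeff,
      if_pos (orbU_self hP θ₀)]
  refine memLI_one_iff hP ?_
  rw [← hlam]
  refine memLI_lam hP χ.2 hFc fun x => ?_
  rw [hF, hU, blockCoeff_orbU_eq_sum hP hb hθ₀]
  simp only [conv]
  have hext2 : ∀ y, extendByZero N (∑ c ∈ (Finset.univ : Finset G).image
      (fun g => irrTransport (MulAut.conjNormal g : N ≃* N) '' b), blockCoeff c) y =
      ∑ c ∈ (Finset.univ : Finset G).image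
      (fun g => irrTransport (MulAut.conjNormal g : N ≃* N) '' b), extendByZero N (blockCoeff c) y := by
    intro y
    by_cases hy : y ∈ N
    · simp [extendByZero_mem N _ hy]
    · simp [extendByZero_not_mem N _ hy]
  simp only [hext2, Finset.mul_sum]
  rw [Finset.sum_comm]
  refine memLI_sum hP _ _ fun c hc => ?_
  obtain ⟨g, -, rfl⟩ := Finset.mem_image.mp hc
  have e4 := conv_transport B (blockCoeff b) g x
  simp only [conv] at e4
  rw [show blockCoeff (irrTransport (MulAut.conjNormal g : N ≃* N) '' b) =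
    fun n => blockCoeff b (MulAut.conjNormal g n) from funext (blockCoeff_transport _ b), e4]
  exact hez (g * x * g⁻¹)

/-- Every character of a covered block lies under the covering block. -/
theorem exists_over_of_covered (hM : IsPModular p M) {B : Set (IrrCharacter G)} (hB : IsPBlock M B)
    {b : Set (IrrCharacter N)} (hb : IsPBlock M b) {χ : IrrCharacter G} (hχ : χ ∈ B)
    {θ₀ : IrrCharacter N} (hθ₀ : θ₀ ∈ b)
    (hcon : classInner (fun n : N => (χ : G → ℂ) n) (θ₀ : N → ℂ) ≠ 0) {θ : IrrCharacter N}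
    (hθ : θ ∈ b) :
    ∃ χ' ∈ B, classInner (fun n : N => (χ' : G → ℂ) n) (θ : N → ℂ) ≠ 0 := by
  obtain ⟨z, hz, hzi, hu⟩ := exists_trunc_unit hM hB hb hχ hθ₀ hcon
  by_contra hno
  push Not at hno
  refine hu θ hθ ?_
  have hw := ((ninv_of_classFun (N := N) (isClassFunction_blockCoeff B)).conv hzi)
  have hwI := intClassFun_trunc (M := M) hw
    (memLR_conv (pmod_prime hM) (isIntClassFun_blockCoeff hM hB).2 hz)
  have h0 : conv (idem (θ : N → ℂ)) (fun n : N => conv (blockCoeff B) z n) = 0 := by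
    funext n
    rw [← conv_extend_left_apply, ← conv_assoc, conv_idem_eq_zero B θ hno]
    simp [conv]
  have h1 := congrArg (lam (θ : N → ℂ)) h0
  rw [lam_conv θ.2 (isClassFunction_idem (irr_isCharacter θ.2)) hwI.1, lam_idem, if_pos rfl,
    one_mul, lam_zero] at h1
  rw [h1]
  exact memLI_zero (pmod_prime hM)

end Cfsg.Agent.Char
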