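import Cfsg.Agent.Lib.Char.BlockInter
import Cfsg.Agent.Lib.Char.Inflate
import Cfsg.Agent.Lib.Char.PrincipalBlock
import Cfsg.Agent.Lib.Fusion.Cores

/-!
# The principal block and the `p'`-core
-/

set_option autoImplicit false
set_option linter.unusedSectionVars false
set_option linter.style.haveILetI false

namespace Cfsg.Agent.Char

open Cfsg
open scoped ComplexConjugate

universe u

variable {G : Type u} [Group G] [Fintype G] {M : Ideal AlgInt} {p : ℕ}

theorem regular_mk_iff (hp : p.Prime) (N : Subgroup G) [N.Normal] (hN : ¬ p ∣ Nat.card N) (g : G) :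
    p ∣ orderOf (QuotientGroup.mk g : G ⧸ N) ↔ p ∣ orderOf g := by
  refine ⟨fun h => h.trans (orderOf_map_dvd (QuotientGroup.mk' N) g), fun h => ?_⟩
  have hmem : g ^ orderOf (QuotientGroup.mk g : G ⧸ N) ∈ N := by
    rw [← QuotientGroup.eq_one_iff, QuotientGroup.mk_pow, pow_orderOf_eq_one]
  have h2 : orderOf g ∣ orderOf (QuotientGroup.mk g : G ⧸ N) * Nat.card N := by
    rw [orderOf_dvd_iff_pow_eq_one, pow_mul]
    exact congrArg Subtype.val (pow_card_eq_one' (x := (⟨_, hmem⟩ : N)))
  exact (hp.dvd_mul.mp (h.trans h2)).resolve_right hN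

/-- Inflation from the quotient by a normal `p'`-subgroup preserves the principal block. -/
theorem inflate_mem_principal_iff (hM : IsPModular p M) (N : Subgroup G) [N.Normal]
    [Fintype (G ⧸ N)] (hN : ¬ p ∣ Nat.card N) (ψ : IrrCharacter (G ⧸ N)) :
    (inflateEquiv N ψ).1 ∈ principalBlock M G ↔ ψ ∈ principalBlock M (G ⧸ N) := by
  have hP := pmod_prime hM
  rw [← lam_regInd_unit_iff hM, ← lam_regInd_unit_iff hM]
  have e : lam ((inflateEquiv N ψ).1 : G → ℂ) (regInd p) =
      (Nat.card N : ℂ) * lam (ψ : G ⧸ N → ℂ) (regInd p) := by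
    simp only [lam, inflateEquiv_apply, QuotientGroup.mk_one]
    rw [← mul_div_assoc, ← sum_comp_mk N fun q => (regInd p : G ⧸ N → ℂ) q * (ψ : G ⧸ N → ℂ) q]
    congr 1
    refine Finset.sum_congr rfl fun g _ => ?_
    simp only [regInd, regular_mk_iff hM.1 N hN g]
  rw [e]
  refine not_congr ⟨fun h => ?_, fun h => memLI_mul_left hP (memLR_natCast hP _) h⟩
  rw [show lam (ψ : G ⧸ N → ℂ) (regInd p) =
    (Nat.card N : ℂ)⁻¹ * ((Nat.card N : ℂ) * lam (ψ : G ⧸ N → ℂ) (regInd p)) by
      rw [← mul_assoc, inv_mul_cancel₀ (Nat.cast_ne_zero.mpr Nat.card_pos.ne'), one_mul]]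
  exact memLI_mul_left hP (memLR_inv_natCast hM hN) h

open scoped Classical in
theorem sum_principal_inflate {α : Type*} [AddCommMonoid α] (hM : IsPModular p M) (N : Subgroup G)
    [N.Normal] [Fintype (G ⧸ N)] (hN : ¬ p ∣ Nat.card N) (f : (G → ℂ) → α) :
    ∑ χ : IrrCharacter G with χ ∈ principalBlock M G, f (χ : G → ℂ) =
      ∑ ψ : IrrCharacter (G ⧸ N) with ψ ∈ principalBlock M (G ⧸ N),
        f (fun g => (ψ : G ⧸ N → ℂ) (QuotientGroup.mk g)) := by
  symm
  refine Finset.sum_nbij (fun ψ => (inflateEquiv N ψ).1) (fun ψ hψ => ?_) (fun a _ b _ h => ?_)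
    (fun χ hχ => ?_) fun ψ _ => rfl
  · simp only [Finset.mem_filter, Finset.mem_univ, true_and] at hψ ⊢
    exact (inflate_mem_principal_iff hM N hN ψ).mpr hψ
  · exact (inflateEquiv N).injective (Subtype.ext h)
  · simp only [Finset.coe_filter, Finset.mem_univ, true_and, Set.mem_setOf_eq] at hχ
    obtain ⟨ψ, hψ⟩ := (inflateEquiv N).surjective ⟨χ, principal_trivial_on hM N hN hχ⟩
    refine ⟨ψ, ?_, congrArg Subtype.val hψ⟩
    simp only [Finset.coe_filter, Finset.mem_univ, true_and, Set.mem_setOf_eq]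
    rw [← inflate_mem_principal_iff hM N hN, hψ]
    exact hχ

open scoped Classical in
/-- The squared moduli at an element, over the principal block, sum to a positive integer. -/
theorem principal_normSq_nat (hM : IsPModular p M) (x : G) :
    ∃ n : ℕ, 0 < n ∧
      ∑ χ : IrrCharacter G with χ ∈ principalBlock M G, Complex.normSq ((χ : G → ℂ) x) = (n : ℝ) := by
  have hn : Nat.card G ≠ 0 := Nat.card_pos.ne'
  set S := Finset.univ.filter fun χ : IrrCharacter G => χ ∈ principalBlock M G with hS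
  set z : ℂ := ∑ χ ∈ S, (χ : G → ℂ) x * (χ : G → ℂ) x⁻¹ with hz
  have hzF : z = ((∑ χ ∈ S, Complex.normSq ((χ : G → ℂ) x) : ℝ) : ℂ) := by
    rw [hz, Complex.ofReal_sum]
    exact Finset.sum_congr rfl fun χ _ => by
      rw [char_inv (irr_isCharacter χ.2), Complex.mul_conj]
  choose hm hφ using fun (χ : IrrCharacter G) (g : G) => galEquiv_char (irr_isCharacter χ.2) g
  have hzm : z ∈ cyc (Nat.card G) := sum_mem fun χ _ => mul_mem (hm χ x) (hm χ x⁻¹)
  obtain ⟨q, hq⟩ := exists_rat_of_fixed hn hzm fun φ => by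
    obtain ⟨k, hk, hμ⟩ := exists_power_of_embedding hn φ
    have e : (⟨z, hzm⟩ : cyc (Nat.card G)) =
        ∑ χ ∈ S, (⟨_, hm χ x⟩ : cyc (Nat.card G)) * ⟨_, hm χ x⁻¹⟩ := by
      ext; simp [hz]
    rw [e, map_sum, Finset.sum_congr rfl fun χ _ => by
      rw [map_mul, hφ χ x φ k hk hμ, hφ χ x⁻¹ φ k hk hμ]]
    let π : IrrCharacter G → IrrCharacter G := fun χ =>
      ⟨fun g => (χ : G → ℂ) (g ^ k), isIrrCharacter_pow χ.2 hk⟩
    have hinj : Function.Injective π := fun a b h => Subtype.ext (funext fun g => by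
      obtain ⟨y, rfl⟩ := (powCoprime_bijective hk).surjective g
      exact congrFun (congrArg Subtype.val h) y)
    have hmaps : ∀ χ ∈ S, π χ ∈ S := fun χ hχ => by
      simp only [hS, Finset.mem_filter, Finset.mem_univ, true_and] at hχ ⊢
      exact principalBlock_pow hM hk (fun g => rfl) hχ
    exact Finset.sum_nbij π hmaps hinj.injOn
      (fun b hb => by
        obtain ⟨a, ha, hab⟩ := Finset.surj_on_of_inj_on_of_card_le (fun a _ => π a) hmaps
          (fun a b _ _ h => hinj h) le_rfl b hb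
        exact ⟨a, ha, hab.symm⟩)
      fun χ _ => rfl
  have hzI : IsIntegral ℤ z := IsIntegral.sum _ fun χ _ =>
    (char_isIntegral (irr_isCharacter χ.2) x).mul (char_isIntegral (irr_isCharacter χ.2) x⁻¹)
  rw [hq] at hzI
  obtain ⟨w, rfl⟩ := isIntegral_rat_cast_imp hzI
  have hw : (w : ℝ) = ∑ χ ∈ S, Complex.normSq ((χ : G → ℂ) x) := by
    apply Complex.ofReal_injective
    rw [← hzF, hq]
    simp
  have hpos : (1 : ℝ) ≤ (w : ℝ) := by
    rw [hw]
    refine le_trans (le_of_eq ?_) (Finset.single_le_sum (fun χ _ => Complex.normSq_nonneg _)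
      (Finset.mem_filter.mpr ⟨Finset.mem_univ _, one_mem_principal hM⟩))
    simp
  have hw1 : (1 : ℤ) ≤ w := by exact_mod_cast hpos
  refine ⟨w.toNat, by omega, ?_⟩
  rw [← hw]
  exact_mod_cast (Int.toNat_of_nonneg (by omega : 0 ≤ w)).symm

/-- Second orthogonality on the diagonal. -/
theorem sum_normSq_all (x : G) : ∑ χ : IrrCharacter G, Complex.normSq ((χ : G → ℂ) x) =
    (Nat.card (Subgroup.centralizer ({x} : Set G)) : ℝ) := by
  classical
  have h := second_orth x x
  rw [if_pos (IsConj.refl x), card_conjClass_eq_index,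
    ← (Subgroup.centralizer ({x} : Set G)).index_mul_card, Nat.cast_mul,
    mul_div_cancel_left₀ _ (Nat.cast_ne_zero.mpr Subgroup.index_ne_zero_of_finite)] at h
  apply Complex.ofReal_injective
  rw [Complex.ofReal_sum, Complex.ofReal_natCast, ← h]
  exact Finset.sum_congr rfl fun χ _ => (Complex.mul_conj _).symm

open scoped Classical in
/-- A group whose principal block carries the whole regular character has one block. -/
theorem sum_sq_principal_eq_card_iff (hM : IsPModular p M) :
    ∑ χ : IrrCharacter G with χ ∈ principalBlock M G, charDegree (χ : G → ℂ) ^ 2 = Nat.card G ↔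
      ∀ B : Set (IrrCharacter G), IsPBlock M B → B = principalBlock M G := by
  have hP := pmod_prime hM
  have hall : ∑ χ : IrrCharacter G, charDegree (χ : G → ℂ) ^ 2 = Nat.card G := by
    apply Nat.cast_injective (R := ℂ)
    rw [← sum_sq_deg, Nat.cast_sum]
    exact Finset.sum_congr rfl fun χ _ => by
      rw [Nat.cast_pow, charDegree_eq_deg, char_one_eq_deg (irr_isCharacter χ.2)]
  rw [← hall]
  constructor
  · intro h B hB
    obtain ⟨χ, hχ⟩ := block_nonempty hP hB
    have hmem : χ ∈ principalBlock M G := by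
      by_contra hn
      refine absurd h (ne_of_lt (Finset.sum_lt_sum_of_subset (Finset.filter_subset _ _)
        (Finset.mem_univ χ) (by simpa using hn) (pow_pos (deg_pos χ.2) 2) fun _ _ _ => Nat.zero_le _))
    exact (block_eq_blockOf hP hB hχ).trans
      (block_eq_blockOf hP (isPBlock_principalBlock M) hmem).symm
  · intro h
    refine Finset.sum_congr (Finset.filter_true_of_mem fun χ _ => ?_) fun _ _ => rfl
    rw [← h _ (isPBlock_blockOf M χ)]
    exact self_mem_blockOf hP χ

end Cfsg.Agent.Char
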