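import Cfsg.Agent.Lib.Char.DegreePrimeNormalize
import Cfsg.Agent.Lib.Char.OneBlock
import Cfsg.Agent.Lib.Char.PrincipalInflate
import Cfsg.Agent.Lib.Solv.Coprime

/-!
# Principal blocks for two primes and commuting Sylow subgroups
-/

set_option autoImplicit false
set_option linter.unusedSectionVars false
set_option linter.style.haveILetI false

namespace Cfsg.Agent.Char.DegNorm

open Cfsg Cfsg.Agent Cfsg.Agent.Char
open scoped commutatorElement

universe u

variable {G : Type u} [Group G] [Fintype G] {p q : ℕ} [Fact p.Prime] [Fact q.Prime]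

theorem inf_eq_bot_of_primes (hne : p ≠ q) {A B : Subgroup G} (hA : IsPGroup p A)
    (hB : IsPGroup q B) : A ⊓ B = ⊥ := by
  refine disjoint_iff.mp (Subgroup.disjoint_of_coprime_natCard ?_)
  obtain ⟨a, ha⟩ := IsPGroup.iff_card.mp hA
  obtain ⟨b, hb⟩ := IsPGroup.iff_card.mp hB
  rw [ha, hb]
  exact Nat.Coprime.pow _ _ ((Nat.coprime_primes Fact.out Fact.out).mpr hne)

/-- The conclusion for one prime: the Sylow `q`-subgroups lie in the `p'`-core. -/
theorem sylow_le_pPrimeCore (hne : p ≠ q) (hps : IsPSolvable p G) (hqs : IsPSolvable q G)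
    {M : Ideal AlgInt} (hM : IsPModular p M)
    (hyp : ∀ χ : IrrCharacter G, χ ∈ principalBlock M G → ¬ p ∣ charDegree (χ : G → ℂ) →
      ¬ q ∣ charDegree (χ : G → ℂ)) (Q : Sylow q G) :
    (Q : Subgroup G) ≤ pPrimeCore p G := by
  classical
  have hp : p.Prime := Fact.out
  have hq : q.Prime := Fact.out
  haveI := Solv.pPrimeCore_normal (G := G) p
  set R := pPrimeCore p G with hR
  have hRp : ¬ p ∣ Nat.card R :=
    (hp.coprime_iff_not_dvd).mp (Fusion.card_pPrimeCore_coprime p G).symm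
  haveI := Fintype.ofFinite (G ⧸ R)
  set π := QuotientGroup.mk' R with hπ
  have hπs : Function.Surjective π := QuotientGroup.mk'_surjective R
  have h0 : pPrimeCore p (G ⧸ R) = ⊥ := Fusion.pPrimeCore_quotient_eq_bot
  have hX : IsPSolvable p (G ⧸ R) := Solv.isPSolvable_map hp hps π hπs
  have hc := centralizer_pCore_le_of_pSolvable hX h0
  obtain ⟨Pb⟩ : Nonempty (Sylow p (G ⧸ R)) := inferInstance
  obtain ⟨Qb, hPQ, -⟩ := good hne _ (G ⧸ R) rfl hX (Solv.isPSolvable_map hq hqs π hπs)
    (fun χ => by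
      have hmem : (inflateEquiv R χ).1 ∈ principalBlock M G := by
        rw [inflate_mem_principal_iff hM R hRp]
        exact sameBlock_of_constrained hM hc ⟨_, isIrrCharacter_one⟩ χ
      have e : charDegree ((inflateEquiv R χ).1 : G → ℂ) = charDegree (χ : G ⧸ R → ℂ) := by
        simp only [charDegree]
        rw [inflateEquiv_apply, QuotientGroup.mk_one]
      rw [← e]
      exact hyp _ hmem) Pb
  haveI := Solv.pCore_normal (G := G ⧸ R) p
  have hOp : IsPGroup p (pCore p (G ⧸ R)) := Solv.pCore_isPGroup p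
  have hdisj := inf_eq_bot_of_primes hne hOp Qb.isPGroup'
  have hbot : (Qb : Subgroup (G ⧸ R)) = ⊥ := by
    refine eq_bot_iff.mpr (hdisj ▸ le_inf (fun y hy => hc ?_) le_rfl)
    refine Subgroup.mem_centralizer_iff.mpr fun x hx => ?_
    rw [← commutatorElement_eq_one_iff_mul_comm, ← Subgroup.mem_bot, ← hdisj, commutatorElement_def]
    refine Subgroup.mem_inf.mpr ⟨?_, ?_⟩
    · rw [mul_assoc, mul_assoc, ← mul_assoc y]
      exact mul_mem hx ((inferInstance : (pCore p (G ⧸ R)).Normal).conj_mem _ (inv_mem hx) y)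
    · exact mul_mem ((Subgroup.mem_normalizer_iff.mp (hPQ (hOp.le_sylow_of_normal Pb hx)) y).mp hy)
        (inv_mem hy)
  have hcard : ¬ q ∣ Nat.card (G ⧸ R) := by
    have h1 := Qb.card_eq_multiplicity
    rw [hbot, Subgroup.card_bot] at h1
    intro hd
    have := hq.factorization_pos_of_dvd Nat.card_pos.ne' hd
    exact absurd h1.symm (Nat.one_lt_pow this.ne' hq.one_lt).ne'
  intro x hx
  have h1 : π x ∈ (Q : Subgroup G).map π := Subgroup.mem_map_of_mem π hx
  obtain ⟨b, hb⟩ := IsPGroup.iff_card.mp (Q.isPGroup'.map π)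
  have hb0 : b = 0 := by
    by_contra hb0
    exact hcard ((dvd_pow_self q hb0).trans (hb ▸ Subgroup.card_subgroup_dvd_card _))
  rw [hb0, pow_zero] at hb
  rw [Subgroup.card_eq_one.mp hb, Subgroup.mem_bot] at h1
  exact (QuotientGroup.eq_one_iff x).mp h1

/-- If the Sylow subgroups commute, the characters in the principal `p`-block have degree prime
to `q`. -/
theorem principal_degree_of_commute (hne : p ≠ q) (hps : IsPSolvable p G)
    {M : Ideal AlgInt} (hM : IsPModular p M) (P : Sylow p G) (Q : Sylow q G)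
    (hPQ : ∀ x ∈ (P : Subgroup G), ∀ y ∈ (Q : Subgroup G), x * y = y * x)
    (χ : IrrCharacter G) (hχ : χ ∈ principalBlock M G) : ¬ q ∣ charDegree (χ : G → ℂ) := by
  classical
  have hp : p.Prime := Fact.out
  have hq : q.Prime := Fact.out
  haveI := Solv.pPrimeCore_normal (G := G) p
  set R := pPrimeCore p G with hR
  have hRp : ¬ p ∣ Nat.card R :=
    (hp.coprime_iff_not_dvd).mp (Fusion.card_pPrimeCore_coprime p G).symm
  haveI := Fintype.ofFinite (G ⧸ R)
  set π := QuotientGroup.mk' R with hπ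
  have hπs : Function.Surjective π := QuotientGroup.mk'_surjective R
  have hc := centralizer_pCore_le_of_pSolvable (Solv.isPSolvable_map hp hps π hπs)
    (Fusion.pPrimeCore_quotient_eq_bot (p := p) (G := G))
  haveI := Solv.pCore_normal (G := G ⧸ R) p
  have hOp : IsPGroup p (pCore p (G ⧸ R)) := Solv.pCore_isPGroup p
  have hdisj := inf_eq_bot_of_primes hne hOp (Q.isPGroup'.map π)
  have hQR : (Q : Subgroup G) ≤ R := by
    intro y hy
    have h1 : π y ∈ pCore p (G ⧸ R) ⊓ (Q : Subgroup G).map π := by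
      refine ⟨hc (Subgroup.mem_centralizer_iff.mpr fun x hx => ?_), Subgroup.mem_map_of_mem π hy⟩
      obtain ⟨u, hu, e⟩ : x ∈ (P : Subgroup G).map π :=
        hOp.le_sylow_of_normal (P.mapSurjective hπs) hx
      rw [← e, ← map_mul, ← map_mul, hPQ u hu y hy]
    rw [hdisj, Subgroup.mem_bot] at h1
    exact (QuotientGroup.eq_one_iff y).mp h1
  obtain ⟨χ', hχ'⟩ := exists_deflate R χ.2 (principal_trivial_on hM R hRp hχ)
  have e : charDegree (χ : G → ℂ) = charDegree (χ' : G ⧸ R → ℂ) := by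
    simp only [charDegree]
    rw [← hχ', QuotientGroup.mk_one]
  rw [e, charDegree_eq_deg]
  intro h
  have h2 : q ∣ R.index := Subgroup.index_eq_card R ▸ h.trans (deg_dvd_card χ'.2)
  exact Q.not_dvd_index (h2.trans (Subgroup.index_dvd_of_le hQR))

theorem exists_commuting_sylows (hne : p ≠ q) (hps : IsPSolvable p G) (hqs : IsPSolvable q G)
    {Mp Mq : Ideal AlgInt} (hMp : IsPModular p Mp) (hMq : IsPModular q Mq)
    (hypp : ∀ χ : IrrCharacter G, χ ∈ principalBlock Mp G → ¬ p ∣ charDegree (χ : G → ℂ) →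
      ¬ q ∣ charDegree (χ : G → ℂ))
    (hypq : ∀ χ : IrrCharacter G, χ ∈ principalBlock Mq G → ¬ q ∣ charDegree (χ : G → ℂ) →
      ¬ p ∣ charDegree (χ : G → ℂ)) :
    ∃ (P : Sylow p G) (Q : Sylow q G),
      ∀ x ∈ (P : Subgroup G), ∀ y ∈ (Q : Subgroup G), x * y = y * x := by
  classical
  have hp : p.Prime := Fact.out
  have hq : q.Prime := Fact.out
  haveI := Solv.pPrimeCore_normal (G := G) p
  haveI := Solv.pPrimeCore_normal (G := G) q
  obtain ⟨P⟩ : Nonempty (Sylow p G) := inferInstance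
  obtain ⟨Q0⟩ : Nonempty (Sylow q G) := inferInstance
  have hPK := sylow_le_pPrimeCore (Ne.symm hne) hqs hps hMq hypq P
  have hQR := sylow_le_pPrimeCore hne hps hqs hMp hypp Q0
  obtain ⟨n, hn⟩ := IsPGroup.iff_card.mp P.isPGroup'
  have hco : (Nat.card (P : Subgroup G)).Coprime (Nat.card (pPrimeCore p G)) := by
    rw [hn]
    exact Nat.Coprime.pow_left _ (Fusion.card_pPrimeCore_coprime p G).symm
  haveI : Group.IsNilpotent (P : Subgroup G) := P.isPGroup'.isNilpotent
  obtain ⟨Q, hQ, hPQ⟩ := Solv.exists_invariant_sylow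
    (show (P : Subgroup G) ≤ Subgroup.normalizer (pPrimeCore p G : Set G) by
      rw [Subgroup.normalizer_eq_top]; exact le_top) hco (Or.inl inferInstance) q
  have hcard : Nat.card Q = q ^ (Nat.card G).factorization q := by
    rw [hQ.2]
    congr 1
    rw [← Subgroup.card_mul_index (pPrimeCore p G), Nat.factorization_mul Nat.card_pos.ne'
      Subgroup.index_ne_zero_of_finite, Finsupp.add_apply, Nat.factorization_eq_zero_of_not_dvd
        fun h => Q0.not_dvd_index (h.trans (Subgroup.index_dvd_of_le hQR)), add_zero]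
  refine ⟨P, Sylow.ofCard Q hcard, fun x hx y hy => ?_⟩
  have hy' : y ∈ Q := by simpa using hy
  have hdisj : pPrimeCore q G ⊓ Q = ⊥ := by
    refine disjoint_iff.mp (Subgroup.disjoint_of_coprime_natCard ?_)
    rw [hcard]
    exact Nat.Coprime.pow_right _ (Fusion.card_pPrimeCore_coprime q G)
  rw [← commutatorElement_eq_one_iff_mul_comm, ← Subgroup.mem_bot, ← hdisj, commutatorElement_def]
  refine Subgroup.mem_inf.mpr ⟨?_, ?_⟩
  · rw [mul_assoc, mul_assoc, ← mul_assoc y]
    exact mul_mem (hPK hx)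
      ((inferInstance : (pPrimeCore q G).Normal).conj_mem _ (inv_mem (hPK hx)) y)
  · exact mul_mem ((Subgroup.mem_normalizer_iff.mp (hPQ hx) y).mp hy') (inv_mem hy')

end Cfsg.Agent.Char.DegNorm
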