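import Cfsg.Agent.Lib.Char.CyclicCorner
import Cfsg.Agent.Lib.Char.BlockMatrix

/-!
# A block algebra with a truncated polynomial corner

If the symmetric forms of a block killing a central nilpotent element `z` are proportional, the block has a
corner `k[z] g`.
-/

set_option autoImplicit false
set_option linter.unusedSectionVars false

namespace Cfsg.Agent.Char.CyclicCorner

open Polynomial Matrix Module

universe v w

variable {k : Type v} [Field k] {R : Type w} [Ring R] [Algebra k R]

/-- Symmetric forms of the block killing `z`. -/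
structure IsForm (b z : R) (L : R →ₗ[k] k) : Prop where
  symm : ∀ x y, L (x * y) = L (y * x)
  block : ∀ x, L (b * x) = L x
  kills : ∀ x, L (z * x) = 0

set_option maxHeartbeats 1000000 in
theorem exists_corner [IsAlgClosed k] [FiniteDimensional k R] {b z : R} {q : ℕ} (hq : 2 ≤ q)
    (hbc : ∀ r, b * r = r * b) (hbb : b * b = b) (hzc : ∀ r, z * r = r * z) (hbz : b * z = z)
    (hzq : z ^ q * b = 0) (htop : z ^ (q - 1) * b ≠ 0)
    (hforms : ∀ L L' : R →ₗ[k] k, IsForm b z L → IsForm b z L' → ∀ x y, L x * L' y = L y * L' x) :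
    ∃ g, Corner k b g z q ∧ ∃ (n : ℕ) (π : R →ₐ[k] Matrix (Fin n) (Fin n) k),
      0 < n ∧ π b = 1 ∧ Function.Surjective π := by
  classical
  obtain ⟨m, d, P, hd, hP, I, K, hIK, hPI⟩ := Cfsg.Agent.Char.exists_pi_matrix (k := k) (R := R)
  have hnil : ∀ x, P x = 0 → IsNilpotent x := fun x hx => ⟨K, by
    have := Ideal.pow_mem_pow (hPI x hx) K
    rwa [hIK, Ideal.mem_bot] at this⟩
  have hzq' : z ^ q = 0 := by
    obtain ⟨j, rfl⟩ : ∃ j, q = j + 1 := ⟨q - 1, by omega⟩
    rw [pow_succ, mul_assoc, ← hbc z, hbz, ← pow_succ] at hzq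
    exact hzq
  have hcomp : ∀ j, P b j = 0 ∨ P b j = 1 := fun j => by
    refine Cfsg.Agent.Char.central_idem_matrix (hd j) ?_ fun A => ?_
    · exact congrFun ((show IsIdempotentElem b from hbb).map P) j
    · obtain ⟨r, hr⟩ := hP (Pi.single j A)
      have := congrFun (congrArg P (hbc r)) j
      rw [map_mul, map_mul, Pi.mul_apply, Pi.mul_apply, hr, Pi.single_eq_same] at this
      exact this
  have hzP : P z = 0 := by
    funext j
    obtain ⟨c, hc⟩ := Matrix.mem_range_scalar_of_commute_single (M := P z j) fun i i' _ => by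
      obtain ⟨r, hr⟩ := hP (Pi.single j (single i i' (1 : k)))
      have := congrFun (congrArg P (hzc r)) j
      rw [map_mul, map_mul, Pi.mul_apply, Pi.mul_apply, hr, Pi.single_eq_same] at this
      exact this.symm
    have h1 : P z j ^ q = 0 := by
      rw [← Pi.pow_apply, ← map_pow, hzq', map_zero]; rfl
    rw [← hc, ← map_pow] at h1
    haveI : Nonempty (Fin (d j)) := ⟨⟨0, hd j⟩⟩
    have h2 : c = 0 := pow_eq_zero_iff (by omega) |>.mp (Matrix.scalar_inj.mp (h1.trans (map_zero _).symm))
    rw [← hc, h2, map_zero]; rfl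
  have hb0 : b ≠ 0 := fun h => htop (by rw [h, mul_zero])
  obtain ⟨j₀, hj₀⟩ : ∃ j, P b j = 1 := by
    by_contra hno
    push Not at hno
    exact hb0 (Cfsg.Agent.Char.idem_nilpotent_eq_zero hbb
      (hnil b (funext fun j => (hcomp j).resolve_right (hno j))))
  let tr : Fin m → (R →ₗ[k] k) := fun j => (Matrix.traceLinearMap (Fin (d j)) k k) ∘ₗ (LinearMap.proj j) ∘ₗ P.toLinearMap
  have htr : ∀ j x, tr j x = (P x j).trace := fun j x => rfl
  have htrF : ∀ j, P b j = 1 → IsForm b z (tr j) := fun j hj =>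
    ⟨fun x y => by rw [htr, htr, map_mul, map_mul, Pi.mul_apply, Pi.mul_apply, Matrix.trace_mul_comm],
      fun x => by rw [htr, htr, map_mul, Pi.mul_apply, hj, one_mul],
      fun x => by rw [htr, map_mul, hzP, zero_mul, Pi.zero_apply, Matrix.trace_zero]⟩
  set o : Fin (d j₀) := ⟨0, hd j₀⟩
  have hother : ∀ j, j ≠ j₀ → P b j = 0 := fun j hj => (hcomp j).resolve_right fun h1 => by
    obtain ⟨x, hx⟩ := hP (Pi.single j₀ (single o o (1 : k)))
    obtain ⟨y, hy⟩ := hP (Pi.single j (single ⟨0, hd j⟩ ⟨0, hd j⟩ (1 : k)))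
    have h2 := hforms (tr j₀) (tr j) (htrF j₀ hj₀) (htrF j h1) x y
    simp only [htr, hx, hy, Pi.single_eq_same, Pi.single_eq_of_ne hj, Pi.single_eq_of_ne hj.symm,
      Matrix.trace_zero, Matrix.trace_single_eq_same, mul_one, zero_mul] at h2
    exact one_ne_zero h2
  set π := (Pi.evalAlgHom k _ j₀).comp P with hπ
  have hPb : P b = Pi.single j₀ 1 := funext fun j => by
    by_cases hj : j = j₀
    · subst hj; rw [hj₀, Pi.single_eq_same]
    · rw [hother j hj, Pi.single_eq_of_ne hj]
  -- the idempotent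
  let E : ∀ j, Matrix (Fin (d j)) (Fin (d j)) k := Pi.single j₀ (single o o 1)
  have hE : IsIdempotentElem E := by
    show E * E = E
    simp only [E]
    rw [← Pi.single_mul, single_mul_single_same, one_mul]
  obtain ⟨f, hf, hfE⟩ := exists_isIdempotentElem_eq_of_ker_isNilpotent P.toRingHom
    (fun x hx => hnil x hx) E (hP E) hE
  obtain ⟨g, hg⟩ : ∃ g, g = b * f := ⟨_, rfl⟩
  have hgg : g * g = g := by
    rw [hg, mul_assoc, ← mul_assoc f b, ← hbc, mul_assoc b f f, hf.eq, ← mul_assoc, hbb]
  have hbg : b * g = g := by rw [hg, ← mul_assoc, hbb]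
  have hPg : P g = E := by
    rw [hg, map_mul, show P f = E from hfE, hPb]
    simp only [E]
    rw [← Pi.single_mul, one_mul]
  -- two-sided generation
  let S : Submodule k R := Submodule.span k (Set.range fun rs : R × R => rs.1 * g * rs.2)
  have hSmul : ∀ x ∈ S, ∀ y, x * y ∈ S ∧ y * x ∈ S := by
    intro x hx y
    induction hx using Submodule.span_induction with
    | mem w hw =>
      obtain ⟨⟨a, c⟩, rfl⟩ := hw
      exact ⟨Submodule.subset_span ⟨(a, c * y), by simp [mul_assoc]⟩,
        Submodule.subset_span ⟨(y * a, c), by simp [mul_assoc]⟩⟩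
    | zero => simp
    | add u w _ _ hu hw => exact ⟨by rw [add_mul]; exact S.add_mem hu.1 hw.1, by rw [mul_add]; exact S.add_mem hu.2 hw.2⟩
    | smul c u _ hu => exact ⟨by rw [smul_mul_assoc]; exact S.smul_mem c hu.1, by rw [mul_smul_comm]; exact S.smul_mem c hu.2⟩
  choose xi hxi using fun i : Fin (d j₀) => hP (Pi.single j₀ (single i o (1 : k)))
  choose yi hyi using fun i : Fin (d j₀) => hP (Pi.single j₀ (single o i (1 : k)))
  set v := ∑ i, xi i * g * yi i with hv
  have hvS : v ∈ S := S.sum_mem fun i _ => Submodule.subset_span ⟨(xi i, yi i), rfl⟩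
  have hPv : P v = P b := by
    rw [hPb, hv, map_sum]
    simp only [map_mul, hxi, hyi, hPg, E, ← Pi.single_mul, single_mul_single_same, one_mul]
    funext j
    rw [Finset.sum_apply]
    by_cases hj : j = j₀
    · subst hj
      simp only [Pi.single_eq_same, sum_single_eq_diagonal, diagonal_one]
    · simp [Pi.single_eq_of_ne hj]
  have hK' : I ^ (K + 1) = ⊥ := by rw [Submodule.pow_succ, hIK, Submodule.bot_mul]
  have hbS : ∀ l, ∃ u ∈ S, b - u ∈ I ^ (l + 1) := by
    intro l
    induction l with
    | zero => exact ⟨v, hvS, by rw [zero_add, Submodule.pow_one]; exact hPI _ (by rw [map_sub, hPv, sub_self])⟩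
    | succ l ih =>
      obtain ⟨u, hu, hbu⟩ := ih
      refine ⟨b * b - (b - v) * (b - u), ?_, ?_⟩
      · rw [show b * b - (b - v) * (b - u) = v * b + (b - v) * u by simp only [sub_mul, mul_sub]; abel]
        exact S.add_mem (hSmul v hvS b).1 (hSmul u hu _).2
      · rw [hbb, sub_sub_cancel]
        have h1 : b - v ∈ I := hPI _ (by rw [map_sub, hPv, sub_self])
        rw [Submodule.pow_succ' I (Nat.succ_ne_zero l)]
        exact Ideal.mul_mem_mul h1 hbu
  have hbS' : b ∈ S := by
    obtain ⟨u, hu, hbu⟩ := hbS K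
    rw [hK', Ideal.mem_bot, sub_eq_zero] at hbu
    exact hbu ▸ hu
  obtain ⟨l, c, rs, hrs⟩ := (Submodule.mem_span_set').mp hbS'
  choose ab hab using fun i => (rs i).2
  have hfull : ∑ i, (c i • (ab i).1) * g * (ab i).2 = b := by
    rw [← hrs]
    exact Finset.sum_congr rfl fun i _ => by rw [← hab i, smul_mul_assoc, smul_mul_assoc]
  set r : Fin l → R := fun i => c i • (ab i).1 with hr
  set s : Fin l → R := fun i => (ab i).2 with hs
  -- the corner
  let A : Submodule k R := LinearMap.range ((LinearMap.mulLeft k g).comp (LinearMap.mulRight k g))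
  have hmemA : ∀ a, a ∈ A ↔ g * a * g = a := fun a => by
    constructor
    · rintro ⟨w, rfl⟩
      show g * (g * (w * g)) * g = g * (w * g)
      rw [← mul_assoc g g, hgg, mul_assoc g, mul_assoc w, hgg]
    · intro h
      exact ⟨a, by simp only [LinearMap.comp_apply, LinearMap.mulRight_apply, LinearMap.mulLeft_apply]; rw [← mul_assoc, h]⟩
  have hAgr : ∀ w, g * w * g ∈ A := fun w => (hmemA _).mpr (by
    simp only [← mul_assoc, hgg]; rw [mul_assoc (g * w) g g, hgg])
  have hl : ∀ a ∈ A, g * a = a := fun a ha => by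
    conv_lhs => rw [← (hmemA a).mp ha, ← mul_assoc, ← mul_assoc, hgg]
    exact (hmemA a).mp ha
  have hr' : ∀ a ∈ A, a * g = a := fun a ha => by
    conv_lhs => rw [← (hmemA a).mp ha, mul_assoc, hgg]
    exact (hmemA a).mp ha
  have hAmul : ∀ a ∈ A, ∀ a' ∈ A, a * a' ∈ A := fun a ha a' ha' => by
    rw [hmemA, ← mul_assoc, hl a ha, mul_assoc, hr' a' ha']
  have hgA : g ∈ A := (hmemA g).mpr (by rw [hgg, hgg])
  let N : Submodule k R := A ⊓ LinearMap.ker P.toLinearMap
  have hdec : ∀ a ∈ A, ∃ c : k, a - c • g ∈ N := by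
    intro a ha
    refine ⟨P a j₀ o o, A.sub_mem ha (A.smul_mem _ hgA), ?_⟩
    show a - P a j₀ o o • g ∈ LinearMap.ker P.toLinearMap
    rw [LinearMap.mem_ker, AlgHom.toLinearMap_apply, map_sub, map_smul, sub_eq_zero]
    have h1 : P a = E * P a * E := by rw [← hPg, ← map_mul, ← map_mul, (hmemA a).mp ha]
    rw [hPg]
    funext j
    conv_lhs => rw [h1]
    by_cases hj : j = j₀
    · subst hj
      simp only [Pi.mul_apply, Pi.smul_apply, E, Pi.single_eq_same, single_mul_mul_single, smul_single, smul_eq_mul,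
        mul_one, one_mul]
    · simp [E, Pi.single_eq_of_ne hj]
  have hzA : ∀ a ∈ A, z * a ∈ A := fun a ha => by
    rw [hmemA, show g * (z * a) * g = z * (g * a * g) by rw [← mul_assoc g, ← hzc g]; simp only [mul_assoc],
      (hmemA a).mp ha]
  let W : Submodule k R := N * N ⊔ A.map (LinearMap.mulLeft k z)
  have hcomm : ∀ a ∈ A, ∀ a' ∈ A, a * a' - a' * a ∈ W := by
    intro a ha a' ha'
    obtain ⟨c, hc⟩ := hdec a ha
    obtain ⟨c', hc'⟩ := hdec a' ha'
    refine Submodule.mem_sup_left ?_
    have e : a * a' - a' * a = (a - c • g) * (a' - c' • g) - (a' - c' • g) * (a - c • g) := by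
      simp only [sub_mul, mul_sub, smul_mul_assoc, mul_smul_comm, hl a ha, hl a' ha', hr' a ha, hr' a' ha', hgg,
        smul_sub, smul_smul, mul_comm c']
      module
    rw [e]
    exact Submodule.sub_mem _ (Submodule.mul_mem_mul hc hc') (Submodule.mul_mem_mul hc' hc)
  let T : R →ₗ[k] R := ∑ i, (LinearMap.mulLeft k (g * s i)) ∘ₗ (LinearMap.mulRight k (r i * g))
  have hT : ∀ x, T x = ∑ i, g * s i * x * (r i * g) := fun x => by simp [T, mul_assoc]
  have hTA : ∀ a ∈ A, T a - a ∈ W := by
    intro a ha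
    have h1 : T a = ∑ i, g * s i * g * (a * (g * r i * g)) := by
      rw [hT]
      refine Finset.sum_congr rfl fun i _ => ?_
      conv_lhs => rw [← (hmemA a).mp ha]
      conv_rhs => rw [← (hmemA a).mp ha]
      simp only [← mul_assoc]
      rw [mul_assoc (g * s i) g g, hgg, mul_assoc (g * s i * g * a) g g, hgg]
    have h2 : a = ∑ i, a * (g * r i * g) * (g * s i * g) := by
      calc a = a * (g * b * g) := by rw [← hbc, hbg, hgg, hr' a ha]
        _ = _ := by
          rw [← hfull, Finset.mul_sum, Finset.sum_mul, Finset.mul_sum]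
          refine Finset.sum_congr rfl fun i _ => ?_
          simp only [← mul_assoc]
          rw [mul_assoc (a * g * r i) g g, hgg]
    have h3 : T a - a = ∑ i, (g * s i * g * (a * (g * r i * g)) - a * (g * r i * g) * (g * s i * g)) := by
      rw [Finset.sum_sub_distrib, ← h1, ← h2]
    rw [h3]
    exact W.sum_mem fun i _ => hcomm _ (hAgr _) _ (hAmul _ ha _ (hAgr _))
  have hNN : N ≤ W := by
    intro a ha
    by_contra haW
    have hker : ∀ w ∈ W, P w = 0 := fun w hw => by
      obtain ⟨u, hu, _, ⟨t, -, rfl⟩, rfl⟩ := Submodule.mem_sup.mp hw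
      rw [map_add, LinearMap.mulLeft_apply, map_mul, hzP, zero_mul, add_zero]
      clear hw
      induction hu using Submodule.mul_induction_on' with
      | mem_mul_mem x hx y hy =>
        rw [map_mul, show P x = 0 from LinearMap.mem_ker.mp hx.2, zero_mul]
      | add x hx' y hy' hx hy =>
        rw [map_add, hx, hy, add_zero]
    have hnot : a ∉ W ⊔ k ∙ g := by
      intro h
      obtain ⟨w, hw, _, hc, e⟩ := Submodule.mem_sup.mp h
      obtain ⟨c, rfl⟩ := Submodule.mem_span_singleton.mp hc
      have h1 := congrArg P e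
      rw [map_add, hker w hw, zero_add, map_smul, hPg, show P a = 0 from LinearMap.mem_ker.mp ha.2] at h1
      have h2 := congrFun (congrFun (congrFun h1 j₀) o) o
      simp only [E, Pi.smul_apply, Pi.single_eq_same, Matrix.smul_apply, single_apply_same, smul_eq_mul, mul_one,
        Pi.zero_apply, Matrix.zero_apply] at h2
      exact haW (by rw [← e, h2, zero_smul, add_zero]; exact hw)
    obtain ⟨lam, hlam, hlamW⟩ := Submodule.exists_le_ker_of_notMem hnot
    have hW0 : ∀ w ∈ W, lam w = 0 := fun w hw => hlamW (Submodule.mem_sup_left hw)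
    have hL : IsForm b z (lam ∘ₗ T) := by
      refine ⟨fun x y => ?_, fun x => ?_, fun x => ?_⟩
      · have hexp : ∀ x y, T (x * y) = ∑ i, ∑ j, g * s i * x * (r j * g) * (g * s j * y * (r i * g)) := by
          intro x y
          rw [hT]
          refine Finset.sum_congr rfl fun i _ => ?_
          calc g * s i * (x * y) * (r i * g) = g * s i * x * b * y * (r i * g) := by
                rw [show g * s i * x * b = b * (g * s i * x) from (hbc _).symm, ← mul_assoc b, ← mul_assoc b, hbg]
                simp only [mul_assoc]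
            _ = _ := by
              rw [← hfull, Finset.mul_sum, Finset.sum_mul, Finset.sum_mul]
              refine Finset.sum_congr rfl fun j _ => ?_
              simp only [← mul_assoc]
              rw [mul_assoc (g * s i * x * r j) g g, hgg]
        rw [LinearMap.comp_apply, LinearMap.comp_apply, ← sub_eq_zero, ← map_sub, hexp, hexp]
        rw [Finset.sum_comm (f := fun i j => g * s i * y * (r j * g) * (g * s j * x * (r i * g))),
          ← Finset.sum_sub_distrib]
        refine hW0 _ (W.sum_mem fun i _ => ?_)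
        rw [← Finset.sum_sub_distrib]
        exact W.sum_mem fun j _ => hcomm _ (by simpa only [mul_assoc] using hAgr (s i * x * r j)) _
          (by simpa only [mul_assoc] using hAgr (s j * y * r i))
      · rw [LinearMap.comp_apply, LinearMap.comp_apply, hT, hT]
        congr 1
        refine Finset.sum_congr rfl fun i _ => ?_
        rw [← mul_assoc (g * s i) b, ← hbc, ← mul_assoc b, hbg]
      · rw [LinearMap.comp_apply]
        refine hW0 _ (Submodule.mem_sup_right ⟨T x, ?_, ?_⟩)
        · rw [hT]; exact A.sum_mem fun i _ => by simpa only [mul_assoc] using hAgr (s i * x * r i)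
        · rw [LinearMap.mulLeft_apply, hT, hT, Finset.mul_sum]
          exact Finset.sum_congr rfl fun i _ => by
            simp only [← mul_assoc, hzc (g * s i)]
    have hev : ∀ x ∈ A, (lam ∘ₗ T) x = lam x := fun x hx => by
      rw [LinearMap.comp_apply, ← sub_eq_zero, ← map_sub]; exact hW0 _ (hTA x hx)
    have h3 := hforms _ _ hL (htrF j₀ hj₀) a g
    rw [hev a ha.1, hev g hgA, hlamW (Submodule.mem_sup_right (Submodule.mem_span_singleton_self g)), zero_mul,
      htr, hPg] at h3
    simp only [E, Pi.single_eq_same, Matrix.trace_single_eq_same, mul_one] at h3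
    exact hlam h3
  have hNz : N ≤ A.map (LinearMap.mulLeft k z) := by
    have key : ∀ l, ∀ a ∈ N, ∃ t ∈ A, a - z * t ∈ I ^ (l + 1) := by
      intro l
      induction l with
      | zero => exact fun a ha => ⟨0, A.zero_mem, by
          rw [zero_add, Submodule.pow_one, mul_zero, sub_zero]; exact hPI a (LinearMap.mem_ker.mp ha.2)⟩
      | succ l ih =>
        intro a ha
        obtain ⟨u, hu, _, ⟨t, ht, rfl⟩, rfl⟩ := Submodule.mem_sup.mp (hNN ha)
        suffices hu' : ∃ t' ∈ A, u - z * t' ∈ I ^ (l + 1 + 1) by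
          obtain ⟨t', ht', h⟩ := hu'
          refine ⟨t' + t, A.add_mem ht' ht, ?_⟩
          rwa [LinearMap.mulLeft_apply, mul_add, add_sub_add_right_eq_sub]
        clear ha
        induction hu using Submodule.mul_induction_on' with
        | mem_mul_mem x hx y hy =>
          obtain ⟨t', ht', h⟩ := ih y hy
          refine ⟨x * t', hAmul x hx.1 t' ht', ?_⟩
          rw [show x * y - z * (x * t') = x * (y - z * t') by
            rw [mul_sub, ← mul_assoc z, hzc x, mul_assoc], Submodule.pow_succ' I (Nat.succ_ne_zero l)]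
          exact Ideal.mul_mem_mul (hPI x (LinearMap.mem_ker.mp hx.2)) h
        | add x _ y _ hx hy =>
          obtain ⟨t1, h1, h1'⟩ := hx
          obtain ⟨t2, h2, h2'⟩ := hy
          exact ⟨t1 + t2, A.add_mem h1 h2, by rw [mul_add, add_sub_add_comm]; exact Ideal.add_mem _ h1' h2'⟩
    intro a ha
    obtain ⟨t, ht, h⟩ := key K a ha
    rw [hK', Ideal.mem_bot, sub_eq_zero] at h
    exact ⟨t, ht, h.symm⟩
  have hcorner : ∀ l, ∀ a ∈ A, ∃ Q : k[X], ∃ t ∈ A, a = aeval z Q * g + z ^ l * t := by
    intro l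
    induction l with
    | zero => exact fun a ha => ⟨0, a, ha, by simp⟩
    | succ l ih =>
      intro a ha
      obtain ⟨Q, t, ht, e⟩ := ih a ha
      obtain ⟨c, hc⟩ := hdec t ht
      obtain ⟨t', ht', he'⟩ := hNz hc
      refine ⟨Q + C c * X ^ l, t', ht', ?_⟩
      rw [LinearMap.mulLeft_apply, eq_sub_iff_add_eq] at he'
      rw [e, ← he', map_add, map_mul, aeval_C, map_pow, aeval_X, pow_succ, mul_add, add_mul,
        ← mul_assoc (z ^ l) z t', mul_smul_comm, ← Algebra.smul_def, smul_mul_assoc]
      abel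
  refine ⟨g, ⟨hbc, hbb, hgg, hbg, ⟨l, r, s, hfull⟩, hzc, hbz, hzq, fun w => ?_, fun h => htop ?_, hq⟩,
    d j₀, π, hd j₀, ?_, fun A => ?_⟩
  · obtain ⟨Q, t, -, e⟩ := hcorner q (g * w * g) (hAgr w)
    exact ⟨Q, by rw [e, hzq', zero_mul, add_zero]⟩
  · rw [← hfull, Finset.mul_sum]
    refine Finset.sum_eq_zero fun i _ => ?_
    rw [← mul_assoc, ← mul_assoc, ((show Commute z (r i) from hzc _).pow_left (q - 1)).eq,
      mul_assoc (r i), h, mul_zero, zero_mul]
  · show P b j₀ = 1
    exact hj₀
  · obtain ⟨w, hw⟩ := hP (Pi.single j₀ A)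
    exact ⟨w, by show P w j₀ = A; rw [hw, Pi.single_eq_same]⟩

end Cfsg.Agent.Char.CyclicCorner
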