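import Cfsg.Agent.Lib.Char.IntComb
import Cfsg.Agent.Lib.Char.Rational
import Cfsg.Agent.Lib.Char.Congr
import Cfsg.Agent.Lib.Char.Linear
import Mathlib

/-!
# Functions off the identity of an abelian `p`-group that extend to local-integral combinations of characters

`ExtOff M f` says that some local-integral combination of characters agrees with `f` off the identity. These
functions form a ring in which units are invertible; rational equivariant ones give integral inner products.
-/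

set_option autoImplicit false
set_option linter.unusedSectionVars false
set_option linter.style.haveILetI false

open scoped ComplexConjugate

namespace Cfsg.Agent.Char.LocalSpan

open Cfsg Module Polynomial

universe u

variable {A : Type u} [Group A] [Fintype A] {M : Ideal AlgInt} {p a : ℕ}

/-- A rational number that is a local integer with denominator a power of `p` is an integer. -/
theorem int_of_rat (hM : IsPModular p M) {q : ℚ} (h : MemLocalRing M (q : ℂ)) (a : ℕ)
    (hi : IsIntegral ℤ ((p : ℂ) ^ a * (q : ℂ))) : ∃ n : ℤ, q = n := by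
  have h1 : IsIntegral ℤ ((p : ℚ) ^ a * q) := by
    refine (isIntegral_algebraMap_iff (B := ℂ) (algebraMap ℚ ℂ).injective).mp ?_
    simpa using hi
  obtain ⟨n, hn⟩ := IsIntegrallyClosed.isIntegral_iff.mp h1
  have h2 : (q.den : ℤ) ∣ (p : ℤ) ^ a := by
    have e : q = (n : ℚ) / (((p : ℤ) ^ a : ℤ) : ℚ) := by
      have hp0 : (p : ℚ) ≠ 0 := Nat.cast_ne_zero.mpr hM.1.ne_zero
      push_cast
      rw [eq_div_iff (pow_ne_zero _ hp0), mul_comm]
      simpa using hn.symm
    rw [e, ← Rat.divInt_eq_div]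
    exact Rat.den_dvd _ _
  have h3 : q.den ∣ p ^ a := by exact_mod_cast h2
  obtain ⟨i, -, hi'⟩ := (Nat.dvd_prime_pow hM.1).mp h3
  have h4 : q.den = 1 := by
    rcases Nat.eq_zero_or_pos i with h0 | h0
    · rw [hi', h0, pow_zero]
    · exact absurd (hi' ▸ dvd_pow_self p h0.ne') (rat_den_not_dvd hM h)
  exact ⟨q.num, (Rat.den_eq_one_iff q).mp h4 |>.symm⟩

/-- An integer divisible by `p ^ a` in the local ring is so in the integers. -/
theorem dvd_of_memLR (hM : IsPModular p M) {z : ℤ} (a : ℕ)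
    (h : MemLocalRing M ((z : ℂ) / (p : ℂ) ^ a)) : (p : ℤ) ^ a ∣ z := by
  have hp0 : (p : ℂ) ≠ 0 := Nat.cast_ne_zero.mpr hM.1.ne_zero
  obtain ⟨n, hn⟩ := int_of_rat hM (q := (z : ℚ) / (p : ℚ) ^ a) (by simpa using h) a (by
    push_cast
    rw [mul_div_cancel₀ _ (pow_ne_zero _ hp0)]
    exact isIntegral_algebraMap (x := z))
  refine ⟨n, ?_⟩
  have hp0' : (p : ℚ) ≠ 0 := Nat.cast_ne_zero.mpr hM.1.ne_zero
  rw [div_eq_iff (pow_ne_zero _ hp0')] at hn
  exact_mod_cast hn.trans (mul_comm _ _)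

theorem memLR_intComb (hP : M.IsPrime) {x : A → ℂ} (hx : IntComb M x) (z : A) :
    MemLocalRing M (x z) := by
  rw [classFun_expansion hx.1, Finset.sum_apply]
  exact memLR_sum hP _ _ fun χ _ => memLR_mul hP (hx.2 χ) (memLR_char hP (irr_isCharacter χ.2) z)

theorem intComb_congr_one (hM : IsPModular p M) (hA : IsPGroup p A) {x : A → ℂ} (hx : IntComb M x) (z : A) :
    MemLocalIdeal M (x z - x 1) := by
  haveI := Fact.mk hM.1
  have hP := pmod_prime hM
  rw [classFun_expansion hx.1, Finset.sum_apply, Finset.sum_apply, ← Finset.sum_sub_distrib]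
  refine memLI_sum hP _ _ fun χ _ => ?_
  simp only [Pi.smul_apply, smul_eq_mul, ← mul_sub]
  exact memLI_mul_left hP (hx.2 χ) (char_congr_deg hM (irr_isCharacter χ.2) (IsPGroup.iff_orderOf.mp hA z))

theorem intComb_inv (hP : M.IsPrime) {x : A → ℂ} (hx : IntComb M x) : IntComb M (fun z => x z⁻¹) := by
  refine ⟨fun z k => ?_, fun χ => ?_⟩
  · show x (k * z * k⁻¹)⁻¹ = x z⁻¹
    rw [show (k * z * k⁻¹)⁻¹ = k * z⁻¹ * k⁻¹ by group, hx.1]
  · have e : classInner (fun z => x z⁻¹) (χ : A → ℂ) = classInner x (fun z => conj ((χ : A → ℂ) z)) := by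
      simp only [classInner]
      congr 1
      refine Fintype.sum_equiv (Equiv.inv A) _ _ fun z => ?_
      simp [← char_inv (irr_isCharacter χ.2)]
    rw [e]
    exact intComb_inner hP hx (isCharacter_conj (irr_isCharacter χ.2))

theorem intComb_eval (hP : M.IsPrime) {x : A → ℂ} (hx : IntComb M x) (P : ℂ[X])
    (hc : ∀ i, MemLocalRing M (P.coeff i)) : IntComb M (fun z => P.eval (x z)) := by
  have e : (fun z => P.eval (x z)) = ∑ i ∈ Finset.range (P.natDegree + 1), P.coeff i • x ^ i := by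
    funext z
    rw [eval_eq_sum_range, Finset.sum_apply]
    rfl
  rw [e]
  exact intComb_sum hP _ _ fun i _ => intComb_smul hP (hc i) (intComb_pow hP hx i)

open scoped Classical in
/-- A combination with unit value at the identity is invertible. -/
theorem exists_inverse (hM : IsPModular p M) (hA : IsPGroup p A) {x : A → ℂ} (hx : IntComb M x)
    (h1 : ¬ MemLocalIdeal M (x 1)) : ∃ y, IntComb M y ∧ ∀ z, x z * y z = 1 := by
  have hP := pmod_prime hM
  have hu : ∀ z, ¬ MemLocalIdeal M (x z) := fun z h =>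
    h1 (memLI_congr hP (memLI_symm hP (intComb_congr_one hM hA hx z)) h)
  set P : (locRing hP)[X] := ∏ z : A, (X - C ⟨x z, memLR_intComb hP hx z⟩) with hPdef
  set Q := P.map (locRing hP).subtype with hQdef
  have hQ : Q = ∏ z : A, (X - C (x z)) := by
    rw [hQdef, hPdef, Polynomial.map_prod]
    exact Finset.prod_congr rfl fun z _ => by simp
  have hcoef : ∀ i, MemLocalRing M (Q.coeff i) := fun i => by
    rw [hQdef, coeff_map]; exact (P.coeff i).2
  have hroot : ∀ z, Q.eval (x z) = 0 := fun z => by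
    rw [hQ, eval_prod]
    exact Finset.prod_eq_zero (Finset.mem_univ z) (by simp)
  have h0 : Q.coeff 0 = ∏ z : A, - x z := by
    rw [hQ, coeff_zero_eq_eval_zero, eval_prod]
    simp
  have h0u : ¬ MemLocalIdeal M (Q.coeff 0) := by
    rw [h0]
    have : ∀ s : Finset A, ¬ MemLocalIdeal M (∏ z ∈ s, - x z) := by
      intro s
      induction s using Finset.induction_on with
      | empty => simpa using memLI_one_iff hP
      | insert b s hb ih =>
        rw [Finset.prod_insert hb]
        refine memLR_unit_mul_not hP (memLR_neg hP (memLR_intComb hP hx b))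
          (memLR_prod hP _ _ fun z _ => memLR_neg hP (memLR_intComb hP hx z)) (fun h => hu b ?_) ih
        simpa using memLI_neg hP h
    exact this _
  have h0ne : Q.coeff 0 ≠ 0 := fun h => h0u (h ▸ memLI_zero hP)
  refine ⟨(-(Q.coeff 0)⁻¹) • fun z => Q.divX.eval (x z), intComb_smul hP
    (memLR_neg hP (memLR_inv hP (hcoef 0) h0u))
    (intComb_eval hP hx _ fun i => by rw [coeff_divX]; exact hcoef _), fun z => ?_⟩
  have h2 := congrArg (Polynomial.eval (x z)) (X_mul_divX_add Q)
  simp only [eval_add, eval_mul, eval_X, eval_C, hroot] at h2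
  simp only [Pi.smul_apply, smul_eq_mul]
  field_simp
  linear_combination -h2

/-- `f` agrees off the identity with a local-integral combination of characters. -/
def ExtOff (M : Ideal AlgInt) (f : A → ℂ) : Prop := ∃ x, IntComb M x ∧ ∀ z, z ≠ 1 → x z = f z

theorem extOff_congr {f g : A → ℂ} (h : ExtOff M f) (e : ∀ z, z ≠ 1 → f z = g z) : ExtOff M g := by
  obtain ⟨x, hx, hxf⟩ := h
  exact ⟨x, hx, fun z hz => (hxf z hz).trans (e z hz)⟩

theorem extOff_of_intComb {f : A → ℂ} (h : IntComb M f) : ExtOff M f := ⟨f, h, fun _ _ => rfl⟩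

theorem extOff_mul (hP : M.IsPrime) {f g : A → ℂ} (hf : ExtOff M f) (hg : ExtOff M g) :
    ExtOff M (f * g) := by
  obtain ⟨x, hx, hxf⟩ := hf
  obtain ⟨y, hy, hyg⟩ := hg
  exact ⟨x * y, intComb_mul hP hx hy, fun z hz => by simp [hxf z hz, hyg z hz]⟩

theorem extOff_pow (hP : M.IsPrime) {f : A → ℂ} (hf : ExtOff M f) (n : ℕ) : ExtOff M (f ^ n) := by
  obtain ⟨x, hx, hxf⟩ := hf
  exact ⟨x ^ n, intComb_pow hP hx n, fun z hz => by simp [hxf z hz]⟩

theorem extOff_smul (hP : M.IsPrime) {f : A → ℂ} (hf : ExtOff M f) {r : ℂ} (hr : MemLocalRing M r) :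
    ExtOff M (r • f) := by
  obtain ⟨x, hx, hxf⟩ := hf
  exact ⟨r • x, intComb_smul hP hr hx, fun z hz => by simp [hxf z hz]⟩

theorem extOff_sum (hP : M.IsPrime) {ι : Type*} (s : Finset ι) (f : ι → A → ℂ)
    (h : ∀ i ∈ s, ExtOff M (f i)) : ExtOff M (∑ i ∈ s, f i) := by
  classical
  induction s using Finset.induction_on with
  | empty => exact ⟨0, intComb_zero hP, fun z _ => by simp⟩
  | insert b s hb ih =>
    rw [Finset.sum_insert hb]
    obtain ⟨x, hx, hxf⟩ := h b (Finset.mem_insert_self b s)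
    obtain ⟨y, hy, hyg⟩ := ih fun i hi => h i (Finset.mem_insert_of_mem hi)
    exact ⟨x + y, intComb_add hP hx hy, fun z hz => by simp [hxf z hz, hyg z hz]⟩

/-- Functions congruent modulo the order of the group. -/
theorem extOff_of_congr (hM : IsPModular p M) (hcomm : ∀ y z : A, y * z = z * y) {f g : A → ℂ}
    (hg : ExtOff M g)
    (h : ∀ z, z ≠ 1 → ∃ y, MemLocalRing M y ∧
      f z = g z + (p : ℂ) ^ (Nat.card A).factorization p * y) :
    ExtOff M f := by
  classical
  have hP := pmod_prime hM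
  obtain ⟨x, hx, hxg⟩ := hg
  choose y hy hye using h
  set d : A → ℂ := fun z => if hz : z = 1 then 0 else
    (p : ℂ) ^ (Nat.card A).factorization p * y z hz with hd
  have hdI : IntComb M d := by
    refine intComb_of_dvd hM (fun z k => ?_) fun z => ?_
    · rw [show k * z * k⁻¹ = z by rw [hcomm k z, mul_inv_cancel_right]]
    · by_cases hz : z = 1
      · exact ⟨0, memLR_zero hP, by simp [hd, hz]⟩
      · exact ⟨y z hz, hy z hz, by simp [hd, hz]⟩
  refine ⟨x + d, intComb_add hP hx hdI, fun z hz => ?_⟩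
  simp [hd, hz, hxg z hz, hye z hz]

/-- An extension with unit values has its inverse as an extension. -/
theorem extOff_inv (hM : IsPModular p M) (hA : IsPGroup p A) {f : A → ℂ} (hf : ExtOff M f)
    {z0 : A} (hz0 : z0 ≠ 1) (hu : ¬ MemLocalIdeal M (f z0)) : ExtOff M (fun z => (f z)⁻¹) := by
  have hP := pmod_prime hM
  obtain ⟨x, hx, hxf⟩ := hf
  obtain ⟨y, hy, hxy⟩ := exists_inverse hM hA hx fun h => hu (by
    rw [← hxf z0 hz0]
    exact memLI_congr hP (intComb_congr_one hM hA hx z0) h)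
  exact ⟨y, hy, fun z hz => by
    show y z = (f z)⁻¹
    rw [← hxf z hz]; exact eq_inv_of_mul_eq_one_right (hxy z)⟩

/-- The value zero at the identity and `f` elsewhere. -/
noncomputable def offOne (f : A → ℂ) : A → ℂ := by
  classical exact fun z => if z = 1 then 0 else f z

theorem offOne_one (f : A → ℂ) : offOne f 1 = 0 := by simp [offOne]

theorem offOne_ne (f : A → ℂ) {z : A} (hz : z ≠ 1) : offOne f z = f z := by simp [offOne, hz]

theorem galEquiv_offOne {F : A → ℂ} (hF : GalEquiv F) : GalEquiv (offOne F) := by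
  classical
  have h : offOne F = F * fun z => (((if z = 1 then (0 : ℚ) else 1) : ℚ) : ℂ) := by
    funext z
    by_cases hz : z = 1
    · simp [offOne, hz]
    · simp [offOne, hz]
  rw [h]
  refine galEquiv_mul hF (galEquiv_rat _ fun z k hk => ?_)
  refine if_congr ?_ rfl rfl
  rw [← orderOf_eq_one_iff, Nat.Coprime.orderOf_pow ((hk.coprime_dvd_right (orderOf_dvd_natCard z)).symm),
    orderOf_eq_one_iff]

/-- Integrality of the inner products of a rational extension. -/
theorem exists_int_inner (hM : IsPModular p M) (hA : IsPGroup p A)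
    {f : A → ℂ} (hf : ExtOff M f) (hgal : GalEquiv (offOne f))
    (hint : ∀ z, z ≠ 1 → IsIntegral ℤ (f z)) (l : A →* ℂˣ) :
    ∃ n : ℤ, (Nat.card A : ℂ)⁻¹ * ∑ z, offOne f z * (conj ((l z : ℂˣ) : ℂ) - 1) = n := by
  classical
  haveI := Fact.mk hM.1
  have hP := pmod_prime hM
  obtain ⟨x, hx, hxf⟩ := hf
  obtain ⟨a, ha⟩ := IsPGroup.iff_card.mp hA
  have hl := isIrrCharacter_linear l
  have h1 := isIrrCharacter_linear (1 : A →* ℂˣ)
  have hs : (Nat.card A : ℂ)⁻¹ * ∑ z, offOne f z * (conj ((l z : ℂˣ) : ℂ) - 1) =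
      classInner (offOne f) (fun z => ((l z : ℂˣ) : ℂ)) -
        classInner (offOne f) (fun z => (((1 : A →* ℂˣ) z : ℂˣ) : ℂ)) := by
    simp only [classInner, ← mul_sub, ← Finset.sum_sub_distrib]
    simp
  obtain ⟨q1, hq1⟩ := classInner_rat hgal (irr_isCharacter hl)
  obtain ⟨q2, hq2⟩ := classInner_rat hgal (irr_isCharacter h1)
  have hmem : MemLocalRing M ((q1 - q2 : ℚ) : ℂ) := by
    push_cast
    rw [← hq1, ← hq2]
    have e : classInner (offOne f) (fun z => ((l z : ℂˣ) : ℂ)) -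
        classInner (offOne f) (fun z => (((1 : A →* ℂˣ) z : ℂˣ) : ℂ)) =
        classInner x (fun z => ((l z : ℂˣ) : ℂ)) -
          classInner x (fun z => (((1 : A →* ℂˣ) z : ℂˣ) : ℂ)) := by
      simp only [classInner, ← mul_sub, ← Finset.sum_sub_distrib]
      refine congrArg _ (Finset.sum_congr rfl fun z _ => ?_)
      by_cases hz : z = 1
      · simp [hz]
      · rw [offOne_ne f hz, hxf z hz]
    rw [e]
    exact memLR_sub hP (hx.2 ⟨_, hl⟩) (hx.2 ⟨_, h1⟩)
  obtain ⟨n, hn⟩ := int_of_rat hM hmem a (by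
    push_cast
    rw [← hq1, ← hq2, ← hs, ← mul_assoc, ha, Nat.cast_pow,
      mul_inv_cancel₀ (pow_ne_zero _ (Nat.cast_ne_zero.mpr hM.1.ne_zero)), one_mul]
    refine IsIntegral.sum _ fun z _ => IsIntegral.mul ?_ (IsIntegral.sub ?_ isIntegral_one)
    · by_cases hz : z = 1
      · rw [hz, offOne_one]; exact isIntegral_zero
      · rw [offOne_ne f hz]; exact hint z hz
    · exact char_isIntegral (isCharacter_conj (irr_isCharacter hl)) z)
  refine ⟨n, ?_⟩
  rw [hs, hq1, hq2, ← Rat.cast_sub, hn]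
  simp

/-- Odd `p`: a square root. -/
theorem extOff_sqrt (hM : IsPModular p M) (hp2 : p ≠ 2) (hA : IsPGroup p A)
    (hcomm : ∀ y z : A, y * z = z * y) (m : A → ℤ) (c : ℤ) (hc : ¬ (p : ℤ) ∣ c)
    (hm : ∀ z, z ≠ 1 → (p : ℤ) ∣ m z - c) (h : ExtOff M fun z => ((m z : ℂ) ^ 2)) :
    ExtOff M fun z => (m z : ℂ) := by
  haveI := Fact.mk hM.1
  have hP := pmod_prime hM
  obtain ⟨a, ha⟩ := IsPGroup.iff_card.mp hA
  have hfac : (Nat.card A).factorization p = a := by rw [ha, Nat.factorization_pow_self hM.1]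
  obtain ⟨N, hN⟩ : ∃ N, p ^ a + 1 = 2 * N := by
    obtain ⟨k, hk⟩ := (hM.1.odd_of_ne_two hp2).pow (n := a)
    exact ⟨k + 1, by omega⟩
  obtain ⟨c', hc'⟩ : ∃ c' : ℤ, (p : ℤ) ∣ c' * c - 1 := by
    obtain ⟨s, t, hst⟩ := ((Nat.prime_iff_prime_int.mp hM.1).coprime_iff_not_dvd.mpr hc)
    exact ⟨t, ⟨-s, by linear_combination hst⟩⟩
  have hc'0 : ¬ (p : ℤ) ∣ c' := fun h0 => by
    have : (p : ℤ) ∣ 1 := by
      have := dvd_sub (h0.mul_right c) hc'
      simpa using this
    exact (Nat.prime_iff_prime_int.mp hM.1).not_dvd_one this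
  have h2 : ExtOff M fun z => ((c' * m z : ℤ) : ℂ) := by
    refine extOff_of_congr hM hcomm (extOff_smul hP (extOff_pow hP h N)
      (memLR_intCast (M := M) hP (c' ^ (2 * N)))) fun z hz => ?_
    obtain ⟨w, hw⟩ : (p : ℤ) ^ a ∣ (c' * m z) ^ p ^ a - 1 := by
      have h1 : (p : ℤ) ∣ c' * m z - 1 := by
        have := dvd_add (dvd_mul_of_dvd_right (hm z hz) c') hc'
        simpa [mul_sub] using this
      have := dvd_sub_pow_of_dvd_sub (R := ℤ) (b := 1) h1 a
      rw [one_pow] at this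
      exact (pow_dvd_pow _ (Nat.le_succ a)).trans this
    refine ⟨((-(c' * m z * w) : ℤ) : ℂ), memLR_intCast (M := M) hP _, ?_⟩
    rw [hfac]
    simp only [Pi.smul_apply, Pi.pow_apply, smul_eq_mul]
    have hwC : ((c' : ℂ) * (m z : ℂ)) ^ p ^ a - 1 = (p : ℂ) ^ a * (w : ℂ) := by exact_mod_cast hw
    push_cast
    rw [← pow_mul, ← mul_pow, ← hN, pow_succ]
    linear_combination -((c' : ℂ) * (m z : ℂ)) * hwC
  have hc'u : ¬ MemLocalIdeal M (c' : ℂ) := fun h0 => hc'0 ((memLI_intCast_iff hM c').mp h0)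
  refine extOff_congr (extOff_smul hP h2 (memLR_inv hP (memLR_intCast (M := M) hP c') hc'u)) fun z _ => ?_
  have : (c' : ℂ) ≠ 0 := fun h0 => hc'u (h0 ▸ memLI_zero hP)
  simp only [Pi.smul_apply, smul_eq_mul]
  push_cast
  field_simp

end Cfsg.Agent.Char.LocalSpan
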