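import Cfsg.Agent.Lib.Char.CyclicStructure
import Cfsg.Agent.Lib.Char.CentralClass
import Cfsg.Agent.Lib.Char.FirstMainInduced
import Cfsg.Agent.Lib.Char.LocalSpan

/-!
# The integral form of a block with cyclic defect group

The matrix `wI` of a block with cyclic defect group of order `q` is determined by the `e` relations of the
block, and its form takes values at least `q * e` on the squares of its image.
-/

set_option autoImplicit false
set_option linter.unusedSectionVars false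
set_option linter.style.haveILetI false

open Cfsg

namespace Cfsg.Agent.Char.CyclicForm

universe u

/-- The quadratic bound on a nonzero vector. -/
theorem quad_ge {α : Type*} (X : Finset α) (t : α → ℤ) {m q : ℤ} (hm : 1 ≤ m)
    (hq : q = 1 + m * (X.card : ℤ)) (hne : ∃ i ∈ X, t i ≠ 0) :
    (X.card : ℤ) ≤ q * ∑ i ∈ X, t i ^ 2 - m * (∑ i ∈ X, t i) ^ 2 := by
  classical
  set T := X.filter fun i => t i ≠ 0 with hT
  have h1 : ∑ i ∈ X, t i = ∑ i ∈ T, t i := (Finset.sum_filter_ne_zero X).symm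
  have h2 : ∑ i ∈ X, t i ^ 2 = ∑ i ∈ T, t i ^ 2 :=
    (Finset.sum_subset (Finset.filter_subset _ X) fun i hi hni => by
      have : t i = 0 := by_contra fun h => hni (Finset.mem_filter.mpr ⟨hi, h⟩)
      rw [this]; ring).symm
  have hn1 : (1 : ℤ) ≤ T.card := by
    obtain ⟨i, hi, h⟩ := hne
    exact_mod_cast Finset.card_pos.mpr ⟨i, Finset.mem_filter.mpr ⟨hi, h⟩⟩
  have hne' : (T.card : ℤ) ≤ X.card := by exact_mod_cast Finset.card_filter_le _ _
  have hcs : (∑ i ∈ T, t i) ^ 2 ≤ (T.card : ℤ) * ∑ i ∈ T, t i ^ 2 := sq_sum_le_card_mul_sum_sq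
  have hlow : (T.card : ℤ) ≤ ∑ i ∈ T, t i ^ 2 := by
    rw [Finset.card_eq_sum_ones, Nat.cast_sum]
    refine Finset.sum_le_sum fun i hi => ?_
    have := Finset.mem_filter.mp hi
    have : 0 < t i ^ 2 := sq_pos_of_ne_zero (Finset.mem_filter.mp hi).2
    push_cast
    omega
  rw [h1, h2, hq]
  nlinarith [mul_le_mul_of_nonneg_left hcs (by linarith : (0 : ℤ) ≤ m),
    mul_le_mul_of_nonneg_left hlow (by nlinarith : (0 : ℤ) ≤ 1 + m * ((X.card : ℤ) - T.card)),
    mul_nonneg (mul_nonneg (by linarith : (0 : ℤ) ≤ m) (by linarith : (0 : ℤ) ≤ (T.card : ℤ) - 1))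
      (by linarith : (0 : ℤ) ≤ (X.card : ℤ) - T.card),
    mul_nonneg (by linarith : (0 : ℤ) ≤ m - 1) (by linarith : (0 : ℤ) ≤ (X.card : ℤ) - T.card)]

section Shape

variable {α : Type*} [DecidableEq α]

/-- The signs of the coordinates. -/
def sgn (X : Finset α) (δ : α → ℤ) (δ₀ : ℤ) (i : α) : ℤ := if i ∈ X then δ i else -δ₀

/-- The unsigned model matrix. -/
def shp (X : Finset α) (q m : ℤ) (i k : α) : ℤ :=
  if i ∈ X then (if k ∈ X then (if i = k then q else 0) - m else 1)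
  else (if k ∈ X then 1 else (X.card : ℤ))

theorem shp_symm (X : Finset α) (q m : ℤ) (i k : α) : shp X q m i k = shp X q m k i := by
  rcases eq_or_ne i k with rfl | h
  · rfl
  · unfold shp
    simp only [if_neg h, if_neg h.symm]
    split_ifs <;> rfl

variable {X Y : Finset α} {δ : α → ℤ} {δ₀ q m : ℤ}

theorem sum_shp (hdis : Disjoint X Y) (hm : (Y.card : ℤ) = m) (hq : q = 1 + m * (X.card : ℤ)) {G : α → ℤ}
    (hG : ∀ ψ ∈ Y, G ψ = ∑ χ ∈ X, G χ) {i : α} (hi : i ∈ X ∪ Y) :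
    ∑ k ∈ X ∪ Y, shp X q m i k * G k = q * G i := by
  have hY : ∀ k ∈ Y, k ∉ X := fun k hk hkX => (Finset.disjoint_left.mp hdis) hkX hk
  rw [Finset.sum_union hdis]
  rcases Finset.mem_union.mp hi with hiX | hiY
  · rw [Finset.sum_congr rfl (g := fun k => (if i = k then q * G k else 0) - m * G k) fun k hk => by
      simp only [shp, if_pos hiX, if_pos hk]; split_ifs <;> ring,
      Finset.sum_congr rfl (g := fun _ => ∑ χ ∈ X, G χ) (s₁ := Y) fun k hk => by
      simp only [shp, if_pos hiX, if_neg (hY k hk), one_mul, hG k hk],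
      Finset.sum_sub_distrib, Finset.sum_ite_eq, if_pos hiX, ← Finset.mul_sum, Finset.sum_const, nsmul_eq_mul, hm]
    ring
  · rw [Finset.sum_congr rfl (g := fun k => G k) (s₁ := X) fun k hk => by
      simp only [shp, if_neg (hY i hiY), if_pos hk, one_mul],
      Finset.sum_congr rfl (g := fun _ => (X.card : ℤ) * ∑ χ ∈ X, G χ) (s₁ := Y) fun k hk => by
      simp only [shp, if_neg (hY i hiY), if_neg (hY k hk), hG k hk],
      Finset.sum_const, nsmul_eq_mul, hm, hG i hiY, hq]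
    ring

theorem shp_rel (hdis : Disjoint X Y) (hq : q = 1 + m * (X.card : ℤ)) {ψ : α}
    (hψ : ψ ∈ Y) {k : α} (hk : k ∈ X ∪ Y) : shp X q m ψ k = ∑ χ ∈ X, shp X q m χ k := by
  have hY : ∀ k ∈ Y, k ∉ X := fun k hk hkX => (Finset.disjoint_left.mp hdis) hkX hk
  rcases Finset.mem_union.mp hk with hkX | hkY
  · rw [Finset.sum_congr rfl (g := fun χ => (if χ = k then q else 0) - m) fun χ hχ => by
      simp only [shp, if_pos hχ, if_pos hkX],
      Finset.sum_sub_distrib, Finset.sum_ite_eq', if_pos hkX, Finset.sum_const, nsmul_eq_mul, hq]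
    simp only [shp, if_neg (hY ψ hψ), if_pos hkX]
    ring
  · rw [Finset.sum_congr rfl (g := fun _ => (1 : ℤ)) fun χ hχ => by
      simp only [shp, if_pos hχ, if_neg (hY k hkY)]]
    simp only [shp, if_neg (hY ψ hψ), if_neg (hY k hkY), Finset.sum_const, nsmul_eq_mul, mul_one]

/-- A symmetric scaled projection with the relations and the trace is the model. -/
theorem eq_shp (hdis : Disjoint X Y) (hm : (Y.card : ℤ) = m) (hq : q = 1 + m * (X.card : ℤ))
    (W : α → α → ℤ) (hsymm : ∀ i k, W i k = W k i)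
    (hsq : ∀ i ∈ X ∪ Y, ∀ k ∈ X ∪ Y, ∑ l ∈ X ∪ Y, W i l * W l k = q * W i k)
    (hrel : ∀ ψ ∈ Y, ∀ k ∈ X ∪ Y, W ψ k = ∑ χ ∈ X, W χ k)
    (htr : ∑ i ∈ X ∪ Y, W i i = q * (X.card : ℤ)) {i k : α} (hi : i ∈ X ∪ Y) (hk : k ∈ X ∪ Y) :
    W i k = shp X q m i k := by
  set S := X ∪ Y with hS
  set F := shp X q m with hF
  have hFW : ∀ i ∈ S, ∀ k ∈ S, ∑ l ∈ S, F i l * W l k = q * W i k := fun i hi k hk =>
    sum_shp hdis hm hq (fun ψ hψ => hrel ψ hψ k hk) hi
  have hFF : ∀ i ∈ S, ∀ k ∈ S, ∑ l ∈ S, F i l * F l k = q * F i k := fun i hi k hk =>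
    sum_shp hdis hm hq (fun ψ hψ => shp_rel hdis hq hψ hk) hi
  have hY : ∀ k ∈ Y, k ∉ X := fun k hk hkX => (Finset.disjoint_left.mp hdis) hkX hk
  have htF : ∑ i ∈ S, F i i = q * (X.card : ℤ) := by
    rw [hS, Finset.sum_union hdis, Finset.sum_congr rfl (g := fun _ => q - m) fun i hi => by
      simp only [hF, shp, if_pos hi, ite_true],
      Finset.sum_congr rfl (g := fun _ => (X.card : ℤ)) (s₁ := Y) fun i hi => by
      simp only [hF, shp, if_neg (hY i hi)],
      Finset.sum_const, Finset.sum_const, nsmul_eq_mul, nsmul_eq_mul, hm]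
    ring
  have hzero : ∑ i ∈ S, ∑ k ∈ S, (F i k - W i k) ^ 2 = 0 := by
    have h1 : ∀ i ∈ S, ∑ k ∈ S, (F i k - W i k) ^ 2 = q * F i i - q * W i i := by
      intro i hi
      rw [Finset.sum_congr rfl (g := fun k => (F i k * F k i - F i k * W k i) -
          (F i k * W k i - W i k * W k i)) fun k _ => by
        rw [show F k i = F i k from shp_symm X q m k i, hsymm k i]; ring,
        Finset.sum_sub_distrib, Finset.sum_sub_distrib, Finset.sum_sub_distrib, hFF i hi i hi, hFW i hi i hi,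
        hsq i hi i hi]
      ring
    rw [Finset.sum_congr rfl h1, Finset.sum_sub_distrib, ← Finset.mul_sum, ← Finset.mul_sum, htF, htr, sub_self]
  have h2 := (Finset.sum_eq_zero_iff_of_nonneg fun i _ => Finset.sum_nonneg fun k _ => sq_nonneg _).mp hzero i hi
  have h3 := (Finset.sum_eq_zero_iff_of_nonneg fun k _ => sq_nonneg _).mp h2 k hk
  exact (sub_eq_zero.mp (pow_eq_zero_iff two_ne_zero |>.mp h3)).symm

/-- The squares of a vector with the relations and congruent coordinates. -/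
theorem le_sum_sq (hdis : Disjoint X Y) (hm : (Y.card : ℤ) = m) (hm1 : 1 ≤ m)
    (hq : q = 1 + m * (X.card : ℤ)) (G : α → ℤ) (hG : ∀ ψ ∈ Y, G ψ = ∑ χ ∈ X, G χ)
    (hcong : ∀ i ∈ X, ∀ k ∈ X, q ∣ G i - G k) (hne : ∃ i ∈ X ∪ Y, G i ≠ 0) :
    q * (X.card : ℤ) ≤ ∑ i ∈ X ∪ Y, G i ^ 2 := by
  have hq0 : 0 < q := by rw [hq]; positivity
  set s := ∑ χ ∈ X, G χ with hs
  have hdiv : ∀ i ∈ X, q ∣ G i + m * s := by
    intro i hi
    have h1 : q ∣ (X.card : ℤ) * G i - s := by
      rw [hs, ← nsmul_eq_mul, ← Finset.sum_const, ← Finset.sum_sub_distrib]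
      exact Finset.dvd_sum fun k hk => hcong i hi k hk
    have h2 : G i + m * s = q * G i - m * ((X.card : ℤ) * G i - s) := by rw [hq]; ring
    rw [h2]
    exact dvd_sub (dvd_mul_right _ _) (Dvd.dvd.mul_left h1 m)
  set t := fun i => (G i + m * s) / q with ht
  have hGt : ∀ i ∈ X, G i = q * t i - m * s := fun i hi => by
    rw [ht, Int.mul_ediv_cancel' (hdiv i hi)]; ring
  have hst : ∑ i ∈ X, t i = s := by
    have h1 : s = q * ∑ i ∈ X, t i - m * (X.card : ℤ) * s := by
      conv_lhs => rw [hs, Finset.sum_congr rfl hGt]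
      rw [Finset.sum_sub_distrib, ← Finset.mul_sum, Finset.sum_const, nsmul_eq_mul]
      ring
    refine mul_left_cancel₀ hq0.ne' ?_
    calc q * ∑ i ∈ X, t i = s + m * (X.card : ℤ) * s := by linarith
      _ = q * s := by rw [hq]; ring
  have hnt : ∃ i ∈ X, t i ≠ 0 := by
    by_contra h
    push Not at h
    have hs0 : s = 0 := by rw [← hst, Finset.sum_eq_zero h]
    have hX0 : ∀ i ∈ X, G i = 0 := fun i hi => by rw [hGt i hi, h i hi, hs0]; ring
    obtain ⟨i, hi, hne⟩ := hne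
    rcases Finset.mem_union.mp hi with hiX | hiY
    · exact hne (hX0 i hiX)
    · exact hne (by rw [hG i hiY, hs0])
  have h4 : ∑ i ∈ X ∪ Y, G i ^ 2 = q * (q * ∑ i ∈ X, t i ^ 2 - m * (∑ i ∈ X, t i) ^ 2) := by
    rw [Finset.sum_union hdis, Finset.sum_congr rfl (g := fun _ => s ^ 2) (s₁ := Y) fun i hi => by rw [hG i hi],
      Finset.sum_congr rfl (g := fun i => q * q * t i ^ 2 - 2 * q * m * s * t i + m ^ 2 * s ^ 2) fun i hi => by
      rw [hGt i hi]; ring,
      Finset.sum_add_distrib, Finset.sum_sub_distrib, ← Finset.mul_sum, ← Finset.mul_sum, hst, Finset.sum_const,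
      Finset.sum_const, nsmul_eq_mul, nsmul_eq_mul, hm, hq]
    ring
  rw [h4]
  exact mul_le_mul_of_nonneg_left (quad_ge X t hm1 hq hnt) hq0.le

end Shape

variable {G : Type u} [Group G] [Fintype G] {M : Ideal AlgInt} {p r : ℕ} {B : Set (IrrCharacter G)}

/-- The matrix of a block squares to a multiple of itself. -/
theorem wI_sq (hM : IsPModular p M) (hB : IsPBlock M B) {η φ : IrrCharacter G} (hη : η ∈ B) (hφ : φ ∈ B) :
    ∑ θ ∈ bset B, wI p B η θ * wI p B θ φ = (p : ℤ) ^ blockDefect p B * wI p B η φ := by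
  have h := CentralClass.mul_sum_cls (a := 0) (z := (1 : G)) (ω := (1 : ℂ)) (j := fun _ => 0) hM hB (by simp)
    (by simp) (by simp) (by simp) (by simp) hη hφ (s := 0) (by simp)
  rw [show CentralClass.cls B (fun _ => 0) 0 = bset B from Finset.ext fun θ => by
    simp [CentralClass.mem_cls, mem_bset]] at h
  simpa using h

/-- The matrix kills relations between regular restrictions. -/
theorem sum_wI_eq_zero (hM : IsPModular p M) (hB : IsPBlock M B) (S : Finset (IrrCharacter G))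
    (hS : ∀ θ ∈ S, θ ∈ B) (v : IrrCharacter G → ℤ)
    (hv : ∀ g : G, ¬ p ∣ orderOf g → ∑ θ ∈ S, (v θ : ℂ) * (θ : G → ℂ) g = 0) (k : IrrCharacter G) :
    ∑ θ ∈ S, v θ * wI p B θ k = 0 := by
  apply Int.cast_injective (α := ℂ)
  push_cast
  rw [Finset.sum_congr rfl (g := fun θ => (v θ : ℂ) * ((p : ℂ) ^ blockDefect p B *
    einner p (θ : G → ℂ) (k : G → ℂ))) fun θ hθ => by rw [wI_cast_eq hM hB (hS θ hθ)]]
  simp only [einner_eq_sum, Finset.mul_sum]
  rw [Finset.sum_comm]
  refine Finset.sum_eq_zero fun x hx => ?_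
  have h1 := congrArg (fun z : ℂ => z * ((p : ℂ) ^ blockDefect p B * (Nat.card G : ℂ)⁻¹ *
    (starRingEnd ℂ) ((k : G → ℂ) x))) (hv x (Finset.mem_filter.mp hx).2)
  simp only [Finset.sum_mul, zero_mul] at h1
  exact (Finset.sum_congr rfl fun θ _ => by ring).trans h1

/-- A maximal pair on a given abelian defect group. -/
theorem exists_pair (hM : IsPModular p M) (hB : IsPBlock M B) {D : Subgroup G} (hBD : IsDefectGroup p M B D)
    (hab : ∀ x ∈ D, ∀ y ∈ D, x * y = y * x) :
    ∃ c : Set (IrrCharacter (Subgroup.centralizer (D : Set G))), IsMaximalBrauerPair p M B D c := by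
  haveI := Fact.mk hM.1
  haveI := Fintype.ofFinite (Subgroup.centralizer (D : Set G))
  have hpg : IsPGroup p D := IsPGroup.of_card (card_defectGroup hM hB hBD)
  obtain ⟨c, hc⟩ := (exists_induced_iff (H := Subgroup.centralizer (D : Set G)) hM hpg (fun d hd y hy => hab y hy d hd) le_rfl
    (Subgroup.centralizer_le_normalizer _) hB).mpr ⟨D, hBD, 1, by
      rintro _ ⟨y, hy, rfl⟩
      simpa using hy⟩
  exact ⟨c, maximal_of_defect hM hBD (SubsectionOrbits.pair_of_induced hM hpg hc)⟩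

open scoped Classical in
/-- The shape of a block with cyclic defect group. -/
theorem exists_model (hM : IsPModular p M) (hB : IsPBlock M B) {D : Subgroup G} (hBD : IsDefectGroup p M B D)
    (hcyc : IsCyclic D) (hd : blockDefect p B = r) (hr : 1 ≤ r) :
    ∃ (X Y : Finset (IrrCharacter G)) (δ : IrrCharacter G → ℤ) (m : ℕ), bset B = X ∪ Y ∧ Disjoint X Y ∧
      Y.card = m ∧ 1 ≤ m ∧ p ^ r = 1 + m * X.card ∧ blockRank p B = X.card ∧
      (∀ i ∈ bset B, δ i = 1 ∨ δ i = -1) ∧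
      ∀ i ∈ bset B, ∀ k ∈ bset B, δ i * δ k * wI p B i k = shp X ((p : ℤ) ^ r) m i k := by
  haveI := Fact.mk hM.1
  have hcard : Nat.card D = p ^ r := hd ▸ card_defectGroup hM hB hBD
  obtain ⟨σ, hσ, hord⟩ := CyclicRank.exists_gen hcyc hcard
  obtain ⟨c, hmax⟩ := exists_pair hM hB hBD (CyclicLocal.comm_of_gen hσ)
  obtain ⟨hdvd, -, X, Y, hXY, hdis, hXc, hYc, hYY, δ, δ₀, hδ, hδ₀, hrel, -, -⟩ :=
    CyclicStructure.main hM hmax hσ hr hord rfl
  have hrank := (CyclicRank.counts hM hmax hσ hr hord rfl).1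
  set e := (Subgroup.centralizer (D : Set G)).relIndex (pairStab (pmod_prime hM) hmax.1.1.2) with he
  have hp := hM.1
  have he0 : 0 < e := Nat.pos_of_ne_zero fun h => by
    rw [h, zero_dvd_iff] at hdvd; have := hp.two_le; omega
  have hdq : e ∣ p ^ r - 1 := hdvd.trans (by simpa using Nat.sub_dvd_pow_sub_pow p 1 r)
  have hem : (p ^ r - 1) / e * e = p ^ r - 1 := Nat.div_mul_cancel hdq
  have hq1 : 1 < p ^ r := Nat.one_lt_pow (by omega) hp.one_lt
  have hm1 : 1 ≤ (p ^ r - 1) / e := Nat.div_pos (Nat.le_of_dvd (by omega) hdq) he0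
  have hcardF : ∀ S : Set (IrrCharacter G), Nat.card S = (S.toFinset).card := fun S => by
    rw [Nat.card_eq_fintype_card, Set.toFinset_card]
  have hXc' : X.toFinset.card = e := (hcardF X).symm.trans hXc
  have hYc' : Y.toFinset.card = (p ^ r - 1) / e := (hcardF Y).symm.trans hYc
  have hbs : bset B = X.toFinset ∪ Y.toFinset := by
    ext θ; simp [mem_bset, hXY]
  have hdis' : Disjoint X.toFinset Y.toFinset := Set.disjoint_toFinset.mpr hdis
  have hq : (p : ℤ) ^ r = 1 + (((p ^ r - 1) / e : ℕ) : ℤ) * (X.toFinset.card : ℤ) := by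
    rw [hXc']
    have : 1 + (p ^ r - 1) / e * e = p ^ r := by omega
    exact_mod_cast this.symm
  have hsgn : ∀ i ∈ bset B, sgn X.toFinset δ δ₀ i = 1 ∨ sgn X.toFinset δ δ₀ i = -1 := by
    intro i _
    unfold sgn
    split_ifs with h
    · exact hδ i (Set.mem_toFinset.mp h)
    · rcases hδ₀ with h | h <;> simp [h]
  refine ⟨X.toFinset, Y.toFinset, sgn X.toFinset δ δ₀, (p ^ r - 1) / e, hbs, hdis', hYc', hm1, ?_, ?_, hsgn, ?_⟩
  · rw [hXc']; omega
  · rw [hXc', hrank]
  set R := sgn X.toFinset δ δ₀ with hR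
  have hsq1 : ∀ i ∈ bset B, R i * R i = 1 := fun i hi => by rcases hsgn i hi with h | h <;> rw [h] <;> ring
  intro i hi k hk
  refine eq_shp (q := (p : ℤ) ^ r) (m := (((p ^ r - 1) / e : ℕ) : ℤ)) hdis' (by rw [hYc']) hq
    (fun i k => R i * R k * wI p B i k) (fun i k => by rw [wI_symm hM]; ring) ?_ ?_ ?_ (hbs ▸ hi) (hbs ▸ hk)
  · intro i hi k hk
    rw [← hbs] at hi hk ⊢
    rw [Finset.sum_congr rfl (g := fun l => R i * R k * (wI p B i l * wI p B l k)) fun l hl => by
      linear_combination (R i * R k * wI p B i l * wI p B l k) * hsq1 l hl,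
      ← Finset.mul_sum, wI_sq hM hB (mem_bset.mp hi) (mem_bset.mp hk), hd]
    ring
  · intro ψ hψ k hk
    have hψY : ψ ∈ Y := Set.mem_toFinset.mp hψ
    have hψX : ψ ∉ X.toFinset := fun h => (Finset.disjoint_left.mp hdis') h hψ
    have h := sum_wI_eq_zero hM hB (insert ψ X.toFinset) (fun θ hθ => ?_)
      (fun θ => if θ = ψ then δ₀ else δ θ) (fun g hg => ?_) k
    · rw [Finset.sum_insert hψX, if_pos rfl, Finset.sum_congr rfl (g := fun θ => δ θ * wI p B θ k)
        fun θ hθ => by rw [if_neg fun h : θ = ψ => hψX (h ▸ hθ)]] at h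
      rw [Finset.sum_congr rfl (g := fun χ => R k * (δ χ * wI p B χ k)) fun χ hχ => by
        simp only [hR, sgn, if_pos hχ]; ring, ← Finset.mul_sum]
      simp only [hR, sgn, if_neg hψX]
      linear_combination (-(if k ∈ X.toFinset then δ k else -δ₀)) * h
    · rw [← mem_bset, hbs]
      rcases Finset.mem_insert.mp hθ with rfl | h
      exacts [Finset.mem_union_right _ hψ, Finset.mem_union_left _ h]
    · rw [Finset.sum_insert hψX, if_pos rfl, Finset.sum_congr rfl (g := fun θ => (δ θ : ℂ) * (θ : G → ℂ) g)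
        fun θ hθ => by rw [if_neg fun h : θ = ψ => hψX (h ▸ hθ)]]
      rw [← hrel ψ hψY g hg, finsum_mem_eq_toFinset_sum]
  · rw [← hbs, Finset.sum_congr rfl (g := fun i => wI p B i i) fun i hi => by rw [hsq1 i hi, one_mul],
      ← pow_mul_blockRank hM hB, hd, hrank, hXc']

open scoped Classical in
/-- A nonzero vector in the local image of the matrix has squares at least `q * l`. -/
theorem le_image (hM : IsPModular p M) (hB : IsPBlock M B) {D : Subgroup G} (hBD : IsDefectGroup p M B D)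
    (hcyc : IsCyclic D) (hd : blockDefect p B = r) (hr : 1 ≤ r) (y : IrrCharacter G → ℤ)
    (v : IrrCharacter G → ℂ) (hvR : ∀ χ ∈ bset B, MemLocalRing M (v χ))
    (hy : ∀ θ ∈ bset B, (y θ : ℂ) = ∑ χ ∈ bset B, (wI p B θ χ : ℂ) * v χ) (hne : ∃ θ ∈ bset B, y θ ≠ 0) :
    (p : ℤ) ^ r * blockRank p B ≤ ∑ θ ∈ bset B, y θ ^ 2 := by
  obtain ⟨X, Y, δ, m, hbs, hdis, hYc, hm1, hq, hl, hδ, hW⟩ := exists_model hM hB hBD hcyc hd hr
  have hP := pmod_prime hM
  have hsq : ∀ i ∈ bset B, δ i * δ i = 1 := fun i hi => by rcases hδ i hi with h | h <;> rw [h] <;> ring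
  have hW' : ∀ i ∈ bset B, ∀ k ∈ bset B, δ i * wI p B i k = δ k * shp X ((p : ℤ) ^ r) m i k := fun i hi k hk => by
    rw [← hW i hi k hk]; linear_combination (-(δ i * wI p B i k)) * hsq k hk
  have hz : ∀ i ∈ bset B, ((δ i * y i : ℤ) : ℂ) =
      ∑ k ∈ bset B, ((δ k * shp X ((p : ℤ) ^ r) m i k : ℤ) : ℂ) * v k := fun i hi => by
    rw [Int.cast_mul, hy i hi, Finset.mul_sum]
    exact Finset.sum_congr rfl fun k hk => by rw [← hW' i hi k hk]; push_cast; ring
  have hqZ : (p : ℤ) ^ r = 1 + (m : ℤ) * (X.card : ℤ) := by exact_mod_cast hq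
  have h := le_sum_sq (X := X) (Y := Y) (m := (m : ℤ)) (q := (p : ℤ) ^ r) hdis (by rw [hYc]) (by exact_mod_cast hm1)
    hqZ (fun i => δ i * y i) ?_ ?_ ?_
  · rw [← hbs] at h
    rw [hl]
    refine h.trans_eq (Finset.sum_congr rfl fun i hi => ?_)
    linear_combination (y i ^ 2) * hsq i hi
  · intro ψ hψ
    apply Int.cast_injective (α := ℂ)
    rw [Int.cast_sum, hz ψ (hbs ▸ Finset.mem_union_right _ hψ),
      Finset.sum_congr rfl fun χ hχ => hz χ (hbs ▸ Finset.mem_union_left _ hχ), Finset.sum_comm]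
    refine Finset.sum_congr rfl fun k hk => ?_
    rw [shp_rel hdis hqZ hψ (hbs ▸ hk), ← Finset.sum_mul, ← Int.cast_sum, Finset.mul_sum]
  · intro i hi k hk
    refine LocalSpan.dvd_of_memLR hM r ?_
    have h1 : ∀ l ∈ bset B, ∃ z : ℤ, δ l * shp X ((p : ℤ) ^ r) m i l - δ l * shp X ((p : ℤ) ^ r) m k l =
        (p : ℤ) ^ r * z := fun l _ => by
      by_cases hlX : l ∈ X
      · refine ⟨δ l * ((if i = l then 1 else 0) - (if k = l then 1 else 0)), ?_⟩
        simp only [shp, if_pos hi, if_pos hk, if_pos hlX]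
        split_ifs <;> ring
      · refine ⟨0, ?_⟩
        simp only [shp, if_pos hi, if_pos hk, if_neg hlX]
        ring
    choose! z hz' using h1
    have h2 : ((δ i * y i - δ k * y k : ℤ) : ℂ) / (p : ℂ) ^ r = ∑ l ∈ bset B, (z l : ℂ) * v l := by
      rw [Int.cast_sub, hz i (hbs ▸ Finset.mem_union_left _ hi), hz k (hbs ▸ Finset.mem_union_left _ hk),
        ← Finset.sum_sub_distrib, div_eq_iff (pow_ne_zero _ (Nat.cast_ne_zero.mpr hM.1.ne_zero)), Finset.sum_mul]
      refine Finset.sum_congr rfl fun l hl => ?_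
      rw [← sub_mul, ← Int.cast_sub, hz' l hl]
      push_cast
      ring
    rw [h2]
    exact memLR_sum hP _ _ fun l hl => memLR_mul hP (memLR_intCast hP _) (hvR l hl)
  · obtain ⟨θ, hθ, hne⟩ := hne
    refine ⟨θ, hbs ▸ hθ, fun h => hne ?_⟩
    rcases hδ θ hθ with h' | h' <;> rw [h'] at h <;> linarith

/-- A block with cyclic defect group has at most as many characters as the group has elements. -/
theorem card_le (hM : IsPModular p M) (hB : IsPBlock M B) {D : Subgroup G} (hBD : IsDefectGroup p M B D)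
    (hcyc : IsCyclic D) : Nat.card B ≤ p ^ blockDefect p B := by
  classical
  rcases Nat.eq_zero_or_pos (blockDefect p B) with h | h
  · rw [h, ((defect_zero_iff_rank hM hB).1.mp h).1, pow_zero]
  obtain ⟨X, Y, δ, m, hbs, hdis, hYc, hm1, hq, -, -, -⟩ := exists_model hM hB hBD hcyc rfl h
  have hcard : Nat.card B = (bset B).card := by
    rw [Nat.card_eq_fintype_card, ← Set.toFinset_card]
    congr 1
    ext θ
    simp [mem_bset]
  rw [hcard, hbs, Finset.card_union_of_disjoint hdis, hYc, hq]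
  rcases Nat.eq_zero_or_pos X.card with hx | hx
  · rw [hx] at hq ⊢
    rw [Nat.mul_zero, add_zero] at hq
    exact absurd hq (Nat.one_lt_pow h.ne' hM.1.one_lt).ne'
  nlinarith

end Cfsg.Agent.Char.CyclicForm
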