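import Cfsg.Agent.Lib.Char.CyclicAlgebra

/-!
# The centre of a block with a cyclic defect group without inertia

The Brauer map carries a central element of the block onto `(σ - 1) e`, so the centre is a truncated polynomial
algebra; the block idempotent is a relative trace from the defect group.
-/

set_option autoImplicit false
set_option linter.unusedSectionVars false
set_option linter.style.haveILetI false

namespace Cfsg.Agent.Char.CyclicCentre

open Polynomial MonoidAlgebra

universe u v

variable {k : Type v} [Field k] {H : Type u} [Group H]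

/-- The basis element at `h`. -/
noncomputable def el (h : H) : MonoidAlgebra k H := MonoidAlgebra.single h 1

theorem el_mul (a b : H) : el (k := k) (a * b) = el a * el b := by simp [el]

theorem el_one : el (k := k) (1 : H) = 1 := rfl

theorem el_pow (a : H) (n : ℕ) : el (k := k) (a ^ n) = el a ^ n := by
  induction n with
  | zero => rw [pow_zero, pow_zero, el_one]
  | succ n ih => rw [pow_succ, pow_succ, el_mul, ih]

theorem coeff_el_mul (s : H) (x : MonoidAlgebra k H) (h : H) : (el s * x).coeff h = x.coeff (s⁻¹ * h) := by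
  simp [el]

theorem coeff_mul_el (s : H) (x : MonoidAlgebra k H) (h : H) : (x * el s).coeff h = x.coeff (h * s⁻¹) := by
  simp [el]

/-- Conjugation by a group element. -/
noncomputable def cj (n : H) : MonoidAlgebra k H →ₗ[k] MonoidAlgebra k H :=
  (LinearMap.mulRight k (el n⁻¹)).comp (LinearMap.mulLeft k (el n))

theorem cj_apply (n : H) (x : MonoidAlgebra k H) : cj n x = el n * x * el n⁻¹ := rfl

theorem coeff_cj (n : H) (x : MonoidAlgebra k H) (h : H) : (cj n x).coeff h = x.coeff (n⁻¹ * h * n) := by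
  rw [cj_apply, coeff_mul_el, coeff_el_mul, inv_inv, mul_assoc]

theorem cj_one (x : MonoidAlgebra k H) : cj 1 x = x := by rw [cj_apply, inv_one, el_one, one_mul, mul_one]

theorem cj_mul (m n : H) (x : MonoidAlgebra k H) : cj (m * n) x = cj m (cj n x) := by
  rw [cj_apply, cj_apply, cj_apply, mul_inv_rev, el_mul, el_mul]; simp only [mul_assoc]

theorem cj_map_mul (n : H) (x y : MonoidAlgebra k H) : cj n (x * y) = cj n x * cj n y := by
  have h1 : el (k := k) n⁻¹ * el n = 1 := by rw [← el_mul, inv_mul_cancel, el_one]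
  rw [cj_apply, cj_apply, cj_apply]
  conv_lhs => rw [show x * y = x * (el n⁻¹ * el n) * y by rw [h1, mul_one]]
  simp only [mul_assoc]

theorem commute_iff_cj (n : H) (x : MonoidAlgebra k H) : Commute (el n) x ↔ cj n x = x := by
  have h1 : el (k := k) n * el n⁻¹ = 1 := by rw [← el_mul, mul_inv_cancel, el_one]
  have h2 : el (k := k) n⁻¹ * el n = 1 := by rw [← el_mul, inv_mul_cancel, el_one]
  constructor
  · intro h
    rw [cj_apply, h.eq, mul_assoc, h1, mul_one]
  · intro h
    rw [cj_apply] at h
    show el n * x = x * el n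
    conv_rhs => rw [← h, mul_assoc, h2, mul_one]

theorem ext_coeff {x y : MonoidAlgebra k H} (h : ∀ g, x.coeff g = y.coeff g) : x = y :=
  MonoidAlgebra.coeff_injective (Finsupp.ext h)

theorem central_of_cj {x : MonoidAlgebra k H} (hx : ∀ n, cj n x = x) (r : MonoidAlgebra k H) : x * r = r * x := by
  induction r using MonoidAlgebra.induction_linear with
  | zero => rw [mul_zero, zero_mul]
  | add a b ha hb => rw [mul_add, add_mul, ha, hb]
  | single h c =>
    rw [show MonoidAlgebra.single h c = c • el h by rw [el, MonoidAlgebra.smul_single', mul_one],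
      mul_smul_comm, smul_mul_assoc, ((commute_iff_cj h x).mpr (hx h)).eq]

variable [Fintype H]

open scoped Classical in
/-- The restriction of the support to a subgroup. -/
noncomputable def brC (C : Subgroup H) : MonoidAlgebra k H →ₗ[k] MonoidAlgebra k H where
  toFun x := ∑ h : H, if h ∈ C then MonoidAlgebra.single h (x.coeff h) else 0
  map_add' x y := by
    rw [← Finset.sum_add_distrib]
    exact Finset.sum_congr rfl fun h _ => by split_ifs <;> simp
  map_smul' c x := by
    rw [RingHom.id_apply, Finset.smul_sum]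
    exact Finset.sum_congr rfl fun h _ => by split_ifs <;> simp [MonoidAlgebra.smul_single']

open scoped Classical in
theorem coeff_brC (C : Subgroup H) (x : MonoidAlgebra k H) (g : H) :
    (brC C x).coeff g = if g ∈ C then x.coeff g else 0 := by
  show (∑ h : H, if h ∈ C then MonoidAlgebra.single h (x.coeff h) else 0).coeff g = _
  rw [MonoidAlgebra.coeff_sum, Finsupp.finsetSum_apply, Finset.sum_eq_single g]
  · split_ifs <;> simp
  · intro h _ hne
    split_ifs <;> simp [Finsupp.single_eq_of_ne' hne]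
  · simp

open scoped Classical in
theorem coeff_mul_univ (x y : MonoidAlgebra k H) (g : H) :
    (x * y).coeff g = ∑ u : H, x.coeff u * y.coeff (u⁻¹ * g) := by
  rw [MonoidAlgebra.coeff_mul_apply_left, Finsupp.sum_fintype _ _ fun i => zero_mul _]

/-- The relative trace from `D`. -/
noncomputable def trD (D : Subgroup H) [Fintype (H ⧸ D)] : MonoidAlgebra k H →ₗ[k] MonoidAlgebra k H :=
  ∑ q : H ⧸ D, cj q.out

theorem trD_apply (D : Subgroup H) [Fintype (H ⧸ D)] (x : MonoidAlgebra k H) :
    trD D x = ∑ q : H ⧸ D, cj q.out x := by simp [trD]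

theorem cj_out {D : Subgroup H} {x : MonoidAlgebra k H} (hx : ∀ u ∈ D, cj u x = x) (n : H) :
    cj (n : H ⧸ D).out x = cj n x := by
  obtain ⟨y, hy⟩ := QuotientGroup.mk_out_eq_mul D n
  rw [hy, cj_mul, hx _ y.2]

theorem cj_trD (D : Subgroup H) [Fintype (H ⧸ D)] {x : MonoidAlgebra k H} (hx : ∀ u ∈ D, cj u x = x) (n : H) :
    cj n (trD D x) = trD D x := by
  rw [trD_apply, map_sum]
  refine Fintype.sum_equiv (MulAction.toPerm n) _ _ fun q => ?_
  induction q using QuotientGroup.induction_on with
  | H a => rw [MulAction.toPerm_apply, MulAction.Quotient.smul_coe, smul_eq_mul, cj_out hx, cj_out hx, cj_mul]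

variable {p : ℕ} [CharP k p]

open scoped Classical in
/-- An invariant sum over a set acted on by a `p`-group reduces to the fixed points. -/
theorem sum_fixed [Fact p.Prime] {P : Type*} [Group P] [Finite P] (hP : IsPGroup p P) {α : Type*} [Fintype α]
    [MulAction P α] (F : α → k) (hF : ∀ (u : P) a, F (u • a) = F a) :
    ∑ a, F a = ∑ a with a ∈ MulAction.fixedPoints P α, F a := by
  have hfib : ∀ c, ((Finset.univ.filter fun a => F a = c).card : k) =
      ((Finset.univ.filter fun a => a ∈ MulAction.fixedPoints P α ∧ F a = c).card : k) := by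
    intro c
    letI : MulAction P {a // F a = c} :=
      { smul := fun u a => ⟨u • a.1, (hF u a.1).trans a.2⟩
        one_smul := fun a => Subtype.ext (one_smul P a.1)
        mul_smul := fun u v a => Subtype.ext (mul_smul u v a.1) }
    have h1 := hP.card_modEq_card_fixedPoints {a // F a = c}
    refine Eq.trans ?_ (((CharP.natCast_eq_natCast k p).mpr h1).trans ?_)
    · rw [Nat.card_eq_fintype_card, Fintype.card_subtype]
    · congr 1
      rw [Nat.card_congr (β := {a // a ∈ MulAction.fixedPoints P α ∧ F a = c})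
        { toFun := fun a => ⟨a.1.1, fun u => congrArg Subtype.val (a.2 u), a.1.2⟩
          invFun := fun a => ⟨⟨a.1, a.2.2⟩, fun u => Subtype.ext (a.2.1 u)⟩
          left_inv := fun _ => rfl
          right_inv := fun _ => rfl }, Nat.card_eq_fintype_card, Fintype.card_subtype]
  rw [← Finset.sum_fiberwise_of_maps_to (g := F) (t := Finset.univ.image F)
      (fun a _ => Finset.mem_image_of_mem F (Finset.mem_univ a)),
    ← Finset.sum_fiberwise_of_maps_to (g := F) (t := Finset.univ.image F)
      (s := Finset.univ.filter fun a => a ∈ MulAction.fixedPoints P α)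
      (fun a _ => Finset.mem_image_of_mem F (Finset.mem_univ a))]
  refine Finset.sum_congr rfl fun c _ => ?_
  rw [Finset.filter_filter, Finset.sum_congr rfl fun a ha => (Finset.mem_filter.mp ha).2,
    Finset.sum_congr (s₁ := Finset.univ.filter fun a => a ∈ MulAction.fixedPoints P α ∧ F a = c) rfl
      fun a ha => (Finset.mem_filter.mp ha).2.2,
    Finset.sum_const, Finset.sum_const, nsmul_eq_mul, nsmul_eq_mul, hfib]

variable (D C : Subgroup H) (hC : ∀ h, h ∈ C ↔ ∀ u ∈ D, u * h * u⁻¹ = h)

include hC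

open scoped Classical in
/-- The Brauer map is multiplicative on invariant elements. -/
theorem brC_mul [Fact p.Prime] (hD : IsPGroup p D) {x y : MonoidAlgebra k H} (hx : ∀ u ∈ D, cj u x = x)
    (hy : ∀ u ∈ D, cj u y = y) : brC C (x * y) = brC C x * brC C y := by
  refine ext_coeff fun g => ?_
  rw [coeff_brC, coeff_mul_univ (brC C x)]
  simp only [coeff_brC]
  by_cases hg : g ∈ C
  · rw [if_pos hg, coeff_mul_univ]
    letI : MulAction D H := MulAction.compHom H
      (MonoidHom.comp (ConjAct.toConjAct : H ≃* ConjAct H).toMonoidHom D.subtype)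
    have hsm : ∀ (u : D) (w : H), u • w = (u : H) * w * (u : H)⁻¹ := fun u w => rfl
    have hco : ∀ z : MonoidAlgebra k H, (∀ u ∈ D, cj u z = z) → ∀ (u : D) (w : H),
        z.coeff ((u : H) * w * (u : H)⁻¹) = z.coeff w := fun z hz u w => by
      conv_lhs => rw [← hz _ u.2, coeff_cj]
      congr 1
      group
    rw [sum_fixed hD (fun w => x.coeff w * y.coeff (w⁻¹ * g)) fun u w => ?_, Finset.sum_filter]
    · refine Finset.sum_congr rfl fun w _ => ?_
      have hw : w ∈ MulAction.fixedPoints D H ↔ w ∈ C := by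
        rw [hC]
        exact ⟨fun h u hu => h ⟨u, hu⟩, fun h u => h _ u.2⟩
      by_cases hwC : w ∈ C
      · rw [if_pos (hw.mpr hwC), if_pos hwC, if_pos (C.mul_mem (C.inv_mem hwC) hg)]
      · rw [if_neg fun h => hwC (hw.mp h), if_neg hwC, zero_mul]
    · simp only [hsm]
      rw [hco x hx]
      congr 1
      have h1 := (hC g).mp hg (u : H) u.2
      conv_lhs => rw [show ((u : H) * w * (u : H)⁻¹)⁻¹ * g = (u : H) * (w⁻¹ * g) * (u : H)⁻¹ by
        conv_lhs => rw [← h1]
        group]
      exact hco y hy u _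
  · rw [if_neg hg]
    refine (Finset.sum_eq_zero fun w _ => ?_).symm
    by_cases hw : w ∈ C
    · rw [if_neg (show w⁻¹ * g ∉ C from fun h => hg (by simpa using C.mul_mem hw h)), mul_zero]
    · rw [if_neg hw, zero_mul]

theorem cj_eq_self_of_supp {x : MonoidAlgebra k H} (hx : ∀ h, x.coeff h ≠ 0 → h ∈ C) {u : H} (hu : u ∈ D) :
    cj u x = x := by
  refine ext_coeff fun h => ?_
  rw [coeff_cj]
  by_cases h0 : x.coeff h = 0
  · rw [h0]
    by_contra h1
    have h2 := (hC _).mp (hx _ h1) u hu
    rw [show u * (u⁻¹ * h * u) * u⁻¹ = h by group] at h2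
    exact h1 (by rw [← h2]; exact h0)
  · have h2 := (hC _).mp (hx _ h0) u⁻¹ (D.inv_mem hu)
    rw [inv_inv] at h2
    rw [h2]

open scoped Classical in
/-- The Brauer map of a relative trace. -/
theorem brC_trD [Fact p.Prime] [Fintype (H ⧸ D)] (hD : IsPGroup p D) {x : MonoidAlgebra k H}
    (hx : ∀ h, x.coeff h ≠ 0 → h ∈ C) :
    brC C (trD D x) = ∑ q : H ⧸ D with q ∈ MulAction.fixedPoints D (H ⧸ D), cj q.out x := by
  refine ext_coeff fun g => ?_
  have hfix := fun u hu => cj_eq_self_of_supp D C hC hx (u := u) hu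
  rw [coeff_brC, trD_apply, MonoidAlgebra.coeff_sum, MonoidAlgebra.coeff_sum, Finsupp.finsetSum_apply,
    Finsupp.finsetSum_apply]
  by_cases hg : g ∈ C
  · rw [if_pos hg]
    refine sum_fixed hD (fun q : H ⧸ D => (cj q.out x).coeff g) fun u q => ?_
    induction q using QuotientGroup.induction_on with
    | H a =>
      show (cj (((u : H) • (a : H ⧸ D)) : H ⧸ D).out x).coeff g = (cj (a : H ⧸ D).out x).coeff g
      rw [MulAction.Quotient.smul_coe, smul_eq_mul, cj_out hfix, cj_out hfix, cj_mul, coeff_cj]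
      congr 1
      have h1 := (hC g).mp hg (u : H)⁻¹ (D.inv_mem u.2)
      rwa [inv_inv] at h1
  · rw [if_neg hg]
    refine (Finset.sum_eq_zero fun q hq => ?_).symm
    by_contra h0
    rw [coeff_cj] at h0
    refine hg ((hC g).mpr fun u hu => ?_)
    have h1 := (Finset.mem_filter.mp hq).2 ⟨u, hu⟩
    set n := q.out with hn
    have h2 : n⁻¹ * u * n ∈ D := by
      have h3 : ((u * n : H) : H ⧸ D) = (n : H ⧸ D) := by
        rw [hn, QuotientGroup.out_eq', ← smul_eq_mul, ← MulAction.Quotient.smul_coe, QuotientGroup.out_eq']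
        exact h1
      have h4 := QuotientGroup.eq.mp h3
      have h5 := D.inv_mem h4
      simpa [mul_assoc] using h5
    have h6 := (hC _).mp (hx _ h0) _ h2
    have h7 := congrArg (fun w => n * w * n⁻¹) h6
    simpa [mul_assoc] using h7

set_option maxHeartbeats 3000000 in
open scoped Classical in
/-- The centre of the block and the idempotent as a relative trace. -/
theorem exists_centre [Fact p.Prime] [Fintype (H ⧸ D)] (hD : IsPGroup p D) {σ : H} (hσ : Subgroup.zpowers σ = D)
    {a : ℕ} (ha : 1 ≤ a) (hq : orderOf σ = p ^ a) {b e w : MonoidAlgebra k H}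
    (hbc : ∀ n, cj n b = b) (hbb : b * b = b) (hes : ∀ h, e.coeff h ≠ 0 → h ∈ C) (hee : e * e = e)
    (hec : ∀ n ∈ C, cj n e = e) (hbe : brC C b * e = e) (hene : ∃ h, e.coeff h ≠ 0)
    (horth : ∀ n : H, (∀ u ∈ D, n⁻¹ * u * n ∈ D) → n ∉ C → cj n e * e = 0)
    (hsing : ∀ y ∈ D, y ≠ 1 → ∀ h, e.coeff h ≠ 0 → e.coeff (y * h) = 0)
    (hw : ∀ h, w.coeff h ≠ 0 → h ∈ C)
    (hwe : ∑ q : H ⧸ D with q.out ∈ C, cj q.out w = e)
    (hforms : ∀ L : Fin (p ^ a + 1) → (MonoidAlgebra k H →ₗ[k] k), (∀ i x y, L i (x * y) = L i (y * x)) →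
      (∀ i x, L i (b * x) = L i x) → ¬ LinearIndependent k L) :
    ∃ z w₁ : MonoidAlgebra k H, (∀ r, z * r = r * z) ∧ b * z = z ∧ z ^ (p ^ a) * b = 0 ∧
      z ^ (p ^ a - 1) * b ≠ 0 ∧ (∀ u ∈ D, cj u w₁ = w₁) ∧ trD D w₁ = b ∧
      ∀ x, (∀ r, x * r = r * x) → b * x = x → ∃ P : k[X], x = aeval z P * b := by
  have hp : p.Prime := Fact.out
  set q := p ^ a with hqdef
  have hq1 : 1 < q := Nat.one_lt_pow (by omega) hp.one_lt
  have hbcen := central_of_cj hbc
  have hσD : σ ∈ D := hσ ▸ Subgroup.mem_zpowers σ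
  have hDC : ∀ u ∈ D, u ∈ C := by
    intro u hu
    rw [hC]
    intro v hv
    rw [← hσ] at hu hv
    obtain ⟨i, rfl⟩ := hu
    obtain ⟨j, rfl⟩ := hv
    group
  have hfixe : ∀ u ∈ D, cj u e = e := fun u hu => cj_eq_self_of_supp D C hC hes hu
  have hsupmul : ∀ x y : MonoidAlgebra k H, (∀ h, x.coeff h ≠ 0 → h ∈ C) → (∀ h, y.coeff h ≠ 0 → h ∈ C) →
      ∀ h, (x * y).coeff h ≠ 0 → h ∈ C := by
    intro x y hx hy h hh
    rw [coeff_mul_univ] at hh
    obtain ⟨u, -, hu⟩ := Finset.exists_ne_zero_of_sum_ne_zero hh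
    have h1 := C.mul_mem (hx u (left_ne_zero_of_mul hu)) (hy _ (right_ne_zero_of_mul hu))
    rwa [mul_inv_cancel_left] at h1
  set s : MonoidAlgebra k H := el σ - 1 with hs
  have hss : ∀ h, s.coeff h ≠ 0 → h ∈ C := by
    intro h hh
    by_contra hhC
    refine hh ?_
    rw [hs, MonoidAlgebra.coeff_sub, Finsupp.sub_apply, el, MonoidAlgebra.one_def, MonoidAlgebra.coeff_single,
      MonoidAlgebra.coeff_single, Finsupp.single_eq_of_ne (fun e' : h = σ => hhC (e' ▸ hDC σ hσD)),
      Finsupp.single_eq_of_ne (fun e' : h = 1 => hhC (e' ▸ C.one_mem)), sub_zero]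
  -- the corrected trace datum
  set w' := w * e with hw'
  have hw's : ∀ h, w'.coeff h ≠ 0 → h ∈ C := hsupmul w e hw hes
  have hw'e : ∑ q : H ⧸ D with q.out ∈ C, cj q.out w' = e := by
    calc ∑ q : H ⧸ D with q.out ∈ C, cj q.out w' = ∑ q : H ⧸ D with q.out ∈ C, cj q.out w * e :=
          Finset.sum_congr rfl fun q hq => by rw [hw', cj_map_mul, hec _ (Finset.mem_filter.mp hq).2]
      _ = e := by rw [← Finset.sum_mul, hwe, hee]
  have hbr : ∀ x : MonoidAlgebra k H, (∀ h, x.coeff h ≠ 0 → h ∈ C) → (∀ n ∈ C, cj n x = x) →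
      brC C (trD D (x * w')) * e = x * e := by
    intro x hx hxc
    rw [brC_trD D C hC hD (hsupmul x w' hx hw's), Finset.sum_mul,
      ← Finset.sum_subset (s₁ := Finset.univ.filter fun q : H ⧸ D => q.out ∈ C) (fun q hq => ?_) (fun q hq hqC => ?_)]
    · conv_rhs => rw [← hw'e, Finset.mul_sum]
      refine Finset.sum_congr rfl fun q hq => ?_
      have hqC := (Finset.mem_filter.mp hq).2
      rw [cj_map_mul, hxc _ hqC, hw', cj_map_mul, hec _ hqC]
      simp only [mul_assoc, hee]
    · refine Finset.mem_filter.mpr ⟨Finset.mem_univ _, fun u => ?_⟩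
      have hqC := (Finset.mem_filter.mp hq).2
      show ((u : H) • q : H ⧸ D) = q
      conv_lhs => rw [← QuotientGroup.out_eq' q, MulAction.Quotient.smul_coe, smul_eq_mul]
      conv_rhs => rw [← QuotientGroup.out_eq' q]
      rw [QuotientGroup.eq]
      have h1 := (hC _).mp hqC (u : H) u.2
      have h2 : ((u : H) * q.out)⁻¹ * q.out = (u : H)⁻¹ := by
        rw [show (u : H) * q.out = q.out * u from mul_inv_eq_iff_eq_mul.mp h1]
        group
      rw [h2]
      exact D.inv_mem u.2
    · have hn : ∀ u ∈ D, q.out⁻¹ * u * q.out ∈ D := by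
        intro u hu
        have h1 : ((u : H) • q : H ⧸ D) = q := (Finset.mem_filter.mp hq).2 ⟨u, hu⟩
        rw [← QuotientGroup.out_eq' q, MulAction.Quotient.smul_coe, smul_eq_mul, QuotientGroup.eq] at h1
        simpa [mul_assoc] using D.inv_mem h1
      rw [hw', cj_map_mul, cj_map_mul, mul_assoc, mul_assoc,
        horth _ hn fun h => hqC (Finset.mem_filter.mpr ⟨Finset.mem_univ _, h⟩), mul_zero, mul_zero]
  set z := b * trD D (s * w') with hzdef
  have hfix0 : ∀ x : MonoidAlgebra k H, (∀ h, x.coeff h ≠ 0 → h ∈ C) → ∀ n, cj n (trD D x) = trD D x :=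
    fun x hx n => cj_trD D (fun u hu => cj_eq_self_of_supp D C hC hx hu) n
  have hzfix : ∀ n, cj n z = z := fun n => by
    rw [hzdef, cj_map_mul, hbc, hfix0 _ (hsupmul s w' hss hw's)]
  have hsc : ∀ n ∈ C, cj n s = s := fun n hn => by
    refine (commute_iff_cj n s).mp ?_
    show el n * s = s * el n
    rw [hs, mul_sub, sub_mul, mul_one, one_mul, ← el_mul, ← el_mul]
    congr 2
    exact (mul_inv_eq_iff_eq_mul.mp ((hC n).mp hn σ hσD)).symm
  have hbrz : brC C z * e = s * e := by
    rw [hzdef, hbcen, brC_mul D C hC hD (fun u _ => hfix0 _ (hsupmul s w' hss hw's) u) (fun u _ => hbc u), mul_assoc,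
      hbe, hbr s hss hsc]
  have hse : s * e = e * s := by
    rw [hs, sub_mul, mul_sub, one_mul, mul_one, ((commute_iff_cj σ e).mpr (hfixe σ hσD)).eq]
  have hbrpow : ∀ n, brC C (z ^ n * b) * e = s ^ n * e := by
    intro n
    induction n with
    | zero => rw [pow_zero, pow_zero, one_mul, one_mul, hbe]
    | succ n ih =>
      rw [pow_succ', mul_assoc, brC_mul D C hC hD (fun u _ => hzfix u) (fun u _ => by
        rw [cj_map_mul, hbc, (commute_iff_cj u _).mp
          (Commute.pow_right ((commute_iff_cj u z).mpr (hzfix u)) n)]), mul_assoc, ih,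
        show s ^ n * e = e * s ^ n from ((show Commute s e from hse).pow_left n).eq, ← mul_assoc, hbrz, mul_assoc,
        ← ((show Commute s e from hse).pow_left n).eq, ← mul_assoc, pow_succ']
  have hbrP : ∀ P : k[X], brC C (aeval z P * b) * e = aeval s P * e := by
    intro P
    induction P using Polynomial.induction_on' with
    | add P Q hP hQ => rw [map_add, map_add, add_mul, add_mul, map_add, add_mul, hP, hQ]
    | monomial n c =>
      rw [aeval_monomial, aeval_monomial, ← Algebra.smul_def, ← Algebra.smul_def, smul_mul_assoc, map_smul,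
        smul_mul_assoc, smul_mul_assoc, hbrpow]
  have hsq : s ^ q = 0 := by
    haveI : CharP (MonoidAlgebra k H) p := charP_of_injective_algebraMap (algebraMap k _).injective p
    rw [hs, sub_pow_char_pow_of_commute _ _ (Commute.one_right _), one_pow, ← el_pow, ← hqdef, ← hq,
      pow_orderOf_eq_one, el_one, sub_self]
  have hstop : s ^ (q - 1) * e ≠ 0 := by
    have hgeom : s ^ (q - 1) = ∑ i ∈ Finset.range q, el σ ^ i := by
      have h1 : (X - 1 : k[X]) ^ (q - 1) = ∑ i ∈ Finset.range q, X ^ i := by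
        refine mul_right_cancel₀ (X_sub_C_ne_zero (1 : k)) ?_
        rw [map_one, geom_sum_mul, ← pow_succ, Nat.sub_add_cancel (by omega), hqdef, sub_pow_char_pow, one_pow]
      have h2 := congrArg (aeval (el (k := k) σ)) h1
      simpa [hs, map_sum] using h2
    obtain ⟨h, hh⟩ := hene
    intro h0
    refine hh ?_
    have h1 := congrArg (fun x : MonoidAlgebra k H => x.coeff h) h0
    rw [MonoidAlgebra.coeff_zero, Finsupp.zero_apply, hgeom, Finset.sum_mul, MonoidAlgebra.coeff_sum,
      Finsupp.finsetSum_apply, Finset.sum_eq_single 0] at h1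
    · simpa using h1
    · intro i hi hi0
      rw [← el_pow, coeff_el_mul]
      refine hsing _ (D.inv_mem (D.pow_mem hσD i)) (fun e' => hi0 ?_) h hh
      rw [inv_eq_one] at e'
      exact Nat.eq_zero_of_dvd_of_lt (orderOf_dvd_of_pow_eq_one e') (hq ▸ Finset.mem_range.mp hi)
    · simp [show 0 < q by omega]
  have hindep : ∀ P : k[X], P.degree < (q : ℕ) → aeval s P * e = 0 → P = 0 := by
    intro P hdeg h0
    by_contra hP
    obtain ⟨Q, hPQ, hQ0⟩ := P.exists_eq_pow_rootMultiplicity_mul_and_not_dvd hP 0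
    rw [map_zero, sub_zero] at hPQ hQ0
    set m := P.rootMultiplicity 0 with hm
    have hmq : m < q := by
      have h1 : m ≤ P.natDegree := by
        rw [hPQ, natDegree_mul (pow_ne_zero _ X_ne_zero) (by rintro rfl; exact hQ0 (dvd_zero X)), natDegree_X_pow]
        omega
      have h2 := (natDegree_lt_iff_degree_lt hP).mpr hdeg
      omega
    have h3 : s ^ (q - 1 - m) * (aeval s P * e) = 0 := by rw [h0, mul_zero]
    rw [hPQ, map_mul, map_pow, aeval_X, mul_assoc, ← mul_assoc, ← pow_add, show q - 1 - m + m = q - 1 by omega] at h3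
    rw [← X_mul_divX_add Q, map_add, map_mul, aeval_X, aeval_C, add_mul, mul_add, mul_assoc s, ← mul_assoc (s ^ (q - 1)) s,
      ← pow_succ, Nat.sub_add_cancel (show 1 ≤ q by omega), hsq, zero_mul, zero_add, ← Algebra.smul_def,
      mul_smul_comm] at h3
    exact hQ0 (X_dvd_iff.mpr ((smul_eq_zero.mp h3).resolve_right hstop))
  have hzc := central_of_cj hzfix
  have hbz : b * z = z := by rw [hzdef, ← mul_assoc, hbb]
  have hbpow : ∀ P : k[X], ∀ n, cj n (aeval z P * b) = aeval z P * b := fun P n => by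
    refine (commute_iff_cj n _).mp ?_
    refine Commute.mul_right ?_ ((commute_iff_cj n b).mpr (hbc n))
    induction P using Polynomial.induction_on' with
    | add P Q hP hQ => rw [map_add]; exact hP.add_right hQ
    | monomial i c =>
      rw [aeval_monomial]
      exact Commute.mul_right (show Commute (el n) (algebraMap k (MonoidAlgebra k H) c) from
        (Algebra.commutes c (el n)).symm) (Commute.pow_right ((commute_iff_cj n z).mpr (hzfix n)) i)
  -- the central elements of the block
  have hspan : ∀ x, (∀ r, x * r = r * x) → b * x = x → ∃ P : k[X], P.degree < (q : ℕ) ∧ x = aeval z P * b := by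
    intro x hx hbx
    let fam : Fin (q + 1) → MonoidAlgebra k H := Fin.snoc (fun i : Fin q => z ^ (i : ℕ) * b) x
    let τ : MonoidAlgebra k H →ₗ[k] k :=
      { toFun := fun y => y.coeff 1
        map_add' := fun u v => by simp
        map_smul' := fun c u => by simp }
    let L : Fin (q + 1) → (MonoidAlgebra k H →ₗ[k] k) := fun i => τ.comp (LinearMap.mulLeft k (fam i))
    have hfc : ∀ i, (∀ r, fam i * r = r * fam i) ∧ b * fam i = fam i := by
      intro i
      refine Fin.lastCases ?_ (fun j => ?_) i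
      · simp only [fam, Fin.snoc_last]; exact ⟨hx, hbx⟩
      · simp only [fam, Fin.snoc_castSucc]
        have h1 : z ^ (j : ℕ) * b = aeval z (X ^ (j : ℕ) : k[X]) * b := by rw [map_pow, aeval_X]
        refine ⟨h1 ▸ central_of_cj (hbpow _), ?_⟩
        rw [← mul_assoc, hbcen, mul_assoc, hbb]
    have htr : ∀ u v : MonoidAlgebra k H, τ (u * v) = τ (v * u) := fun u v => by
      show (u * v).coeff 1 = (v * u).coeff 1
      rw [coeff_mul_univ, coeff_mul_univ]
      refine Fintype.sum_equiv (Equiv.inv H) _ _ fun i => ?_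
      simp [mul_comm]
    have hdep := hforms L (fun i u v => by
        simp only [L, LinearMap.comp_apply, LinearMap.mulLeft_apply]
        rw [← mul_assoc, htr, ← mul_assoc, ← (hfc i).1 v, mul_assoc])
      (fun i u => by
        simp only [L, LinearMap.comp_apply, LinearMap.mulLeft_apply]
        rw [← mul_assoc, ← hbcen, (hfc i).2])
    obtain ⟨c, hc, j, hj⟩ := Fintype.not_linearIndependent_iff.mp hdep
    have hrel : ∑ i, c i • fam i = 0 := by
      refine ext_coeff fun g => ?_
      have h1 := LinearMap.congr_fun hc (el g⁻¹)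
      simp only [L, LinearMap.sum_apply, LinearMap.smul_apply, LinearMap.comp_apply, LinearMap.mulLeft_apply,
        LinearMap.zero_apply] at h1
      rw [MonoidAlgebra.coeff_sum, Finsupp.finsetSum_apply, MonoidAlgebra.coeff_zero, Finsupp.zero_apply, ← h1]
      refine Finset.sum_congr rfl fun i _ => ?_
      show _ = c i • (fam i * el g⁻¹).coeff 1
      rw [coeff_mul_el, inv_inv, one_mul, MonoidAlgebra.coeff_smul, Finsupp.smul_apply]
    rw [Fin.sum_univ_castSucc] at hrel
    simp only [fam, Fin.snoc_castSucc, Fin.snoc_last] at hrel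
    let P0 : k[X] := ∑ i : Fin q, Polynomial.C (c i.castSucc) * X ^ (i : ℕ)
    have hP0 : aeval z P0 * b = ∑ i : Fin q, c i.castSucc • (z ^ (i : ℕ) * b) := by
      simp only [P0, map_sum, map_mul, aeval_C, map_pow, aeval_X, Finset.sum_mul, ← Algebra.smul_def, smul_mul_assoc]
    have hdeg : P0.degree < (q : ℕ) := Polynomial.degree_sum_fin_lt _
    rw [← hP0] at hrel
    by_cases hlast : c (Fin.last q) = 0
    · exfalso
      rw [hlast, zero_smul, add_zero] at hrel
      have h2 : P0 = 0 := hindep P0 hdeg (by rw [← hbrP, hrel, map_zero, zero_mul])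
      refine hj ?_
      refine Fin.lastCases hlast (fun i => ?_) j
      have h3 := congrArg (fun P => Polynomial.coeff P i) h2
      simpa [P0, Polynomial.finsetSum_coeff, Polynomial.coeff_C_mul, Polynomial.coeff_X_pow, Fin.val_inj] using h3
    · refine ⟨Polynomial.C (-(c (Fin.last q))⁻¹) * P0, ?_, ?_⟩
      · rwa [degree_C_mul (neg_ne_zero.mpr (inv_ne_zero hlast))]
      · rw [map_mul, aeval_C, mul_assoc, ← Algebra.smul_def, neg_smul, ← smul_neg,
          neg_eq_of_add_eq_zero_right hrel, inv_smul_smul₀ hlast]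
  have hzq : z ^ q * b = 0 := by
    have hX : aeval z (X ^ q : k[X]) = z ^ q := by rw [map_pow, aeval_X]
    obtain ⟨P, hdeg, hP⟩ := hspan (z ^ q * b) (hX ▸ central_of_cj (hbpow (X ^ q)))
      (by rw [← mul_assoc, hbcen, mul_assoc, hbb])
    have h0 : P = 0 := hindep P hdeg (by rw [← hbrP, ← hP, hbrpow, hsq, zero_mul])
    rw [hP, h0, map_zero, zero_mul]
  -- the trace
  have hw'c := hfix0 w' hw's
  obtain ⟨P, hdeg, hP⟩ := hspan (b * trD D w')
    (central_of_cj fun n => by rw [cj_map_mul, hbc, hw'c]) (by rw [← mul_assoc, hbb])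
  have hP1 : aeval s (P - 1) * e = 0 := by
    rw [map_sub, map_one, sub_mul, one_mul, ← hbrP, ← hP, hbcen, brC_mul D C hC hD (fun u _ => hw'c u)
      (fun u _ => hbc u), mul_assoc, hbe]
    have h1 := hbr 1 (fun h hh => by
      by_contra hC'
      refine hh ?_
      rw [MonoidAlgebra.one_def, MonoidAlgebra.coeff_single, Finsupp.single_eq_of_ne]
      exact fun e' => hC' (e' ▸ C.one_mem)) (fun n _ => by rw [cj_apply, mul_one, ← el_mul, mul_inv_cancel, el_one])
    rw [one_mul, one_mul] at h1
    rw [h1, sub_self]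
  have hP' : P = 1 := sub_eq_zero.mp (hindep _ (lt_of_le_of_lt (degree_sub_le _ _) (max_lt hdeg (by
    rw [degree_one]; exact_mod_cast (show 0 < q by omega)))) hP1)
  refine ⟨z, b * w', hzc, hbz, hzq, fun h => hstop ?_, fun u hu => ?_, ?_, fun x hx hbx => ?_⟩
  · rw [← hbrpow, h, map_zero, zero_mul]
  · rw [cj_map_mul, hbc, cj_eq_self_of_supp D C hC hw's hu]
  · calc trD D (b * w') = b * trD D w' := by
          rw [trD_apply, trD_apply, Finset.mul_sum]
          exact Finset.sum_congr rfl fun q _ => by rw [cj_map_mul, hbc]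
      _ = b := by rw [hP, hP', map_one, one_mul]
  · obtain ⟨P, -, hP⟩ := hspan x hx hbx
    exact ⟨P, hP⟩

end Cfsg.Agent.Char.CyclicCentre
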