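import Cfsg.Agent.Lib.Char.LocalSpan
import Cfsg.Agent.Lib.Char.FreeTrace

/-!
# Gluing over the subgroups, and the sign at the prime two

A function of the cyclic subgroup generated by an element extends as soon as its translates by every nontrivial
subgroup do. For a character of a `2`-group with values of integral modulus off the identity the signed modulus
that is congruent to one modulo four extends.
-/

set_option autoImplicit false
set_option linter.unusedSectionVars false
set_option linter.style.haveILetI false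

open scoped ComplexConjugate

namespace Cfsg.Agent.Char.LocalSpan

open Cfsg Module

universe u

variable {A : Type u} [Group A] [Fintype A] {M : Ideal AlgInt} {p : ℕ}

open scoped Classical in
theorem exists_weisner : ∀ n : ℕ, ∃ α : Subgroup A → ℤ, α ⊥ = 1 ∧ ∀ b : Subgroup A, b ≠ ⊥ → Nat.card b ≤ n →
    ∑ a ∈ Finset.univ.filter (· ≤ b), α a = 0 := by
  intro n
  induction n with
  | zero => exact ⟨fun _ => 1, rfl, fun b _ hb => absurd hb (not_le.mpr Nat.card_pos)⟩
  | succ n ih =>
    obtain ⟨α, hα1, hα⟩ := ih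
    set β : Subgroup A → ℤ := fun b => if b ≠ ⊥ ∧ Nat.card b = n + 1 then
      - ∑ a ∈ Finset.univ.filter (· < b), α a else α b with hβ
    refine ⟨β, by simp [hβ, hα1], fun b hb hcard => ?_⟩
    have hsame : ∀ a, a < b → β a = α a := fun a ha => by
      simp only [hβ]
      rw [if_neg]
      rintro ⟨-, h⟩
      have hlt : Nat.card a < Nat.card b := lt_of_le_of_ne (Subgroup.card_le_of_le ha.le) fun e =>
        ha.ne (Subgroup.eq_of_le_of_card_ge ha.le e.ge)
      omega
    have hsplit : Finset.univ.filter (· ≤ b) = insert b (Finset.univ.filter (· < b)) := by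
      ext a
      simp only [Finset.mem_filter, Finset.mem_univ, true_and, Finset.mem_insert]
      exact le_iff_eq_or_lt
    rw [hsplit, Finset.sum_insert (by simp), Finset.sum_congr rfl fun a ha =>
      hsame a (Finset.mem_filter.mp ha).2]
    rcases Nat.lt_or_eq_of_le hcard with h | h
    · have := hα b hb (Nat.lt_succ_iff.mp h)
      rw [hsplit, Finset.sum_insert (by simp)] at this
      simp only [hβ]
      rw [if_neg fun h' => by omega]
      exact this
    · simp only [hβ]
      rw [if_pos ⟨hb, h⟩, neg_add_cancel]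

open scoped Classical in
/-- Gluing. -/
theorem extOff_glue (hP : M.IsPrime) (f : Subgroup A → ℂ)
    (h : ∀ R : Subgroup A, R ≠ ⊥ → ExtOff M fun z => f (R ⊔ Subgroup.zpowers z)) :
    ExtOff M fun z => f (Subgroup.zpowers z) := by
  obtain ⟨α, hα1, hα⟩ := exists_weisner (A := A) (Nat.card A)
  have key : ∀ w : Subgroup A, w ≠ ⊥ → ∀ b, ∑ R ∈ Finset.univ.filter (fun R => R ⊔ w = b), α R = 0 := by
    intro w hw b
    induction hn : Nat.card b using Nat.strong_induction_on generalizing b with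
    | _ n ih =>
      by_cases hwb : w ≤ b
      · have h1 := hα b (fun e => hw (le_bot_iff.mp (e ▸ hwb))) (Subgroup.card_le_card_group b)
        rw [← Finset.sum_fiberwise_of_maps_to (s := Finset.univ.filter (· ≤ b))
          (t := Finset.univ.filter (· ≤ b)) (g := fun R => R ⊔ w) (fun R hR => by
            simp only [Finset.mem_filter, Finset.mem_univ, true_and] at hR ⊢
            exact sup_le hR hwb), Finset.sum_eq_single b] at h1
        · refine Eq.trans (Finset.sum_congr ?_ fun _ _ => rfl) h1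
          ext R
          simp only [Finset.mem_filter, Finset.mem_univ, true_and]
          exact ⟨fun e => ⟨e ▸ le_sup_left, e⟩, fun e => e.2⟩
        · intro c hc hne
          have hcb := (Finset.mem_filter.mp hc).2
          refine Eq.trans (Finset.sum_congr ?_ fun _ _ => rfl) (ih (Nat.card c) ?_ c rfl)
          · ext R
            simp only [Finset.mem_filter, Finset.mem_univ, true_and]
            exact ⟨fun e => e.2, fun e => ⟨(e ▸ le_sup_left : R ≤ c).trans hcb, e⟩⟩
          · subst hn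
            exact lt_of_le_of_ne (Subgroup.card_le_of_le hcb) fun e =>
              hne (Subgroup.eq_of_le_of_card_ge hcb e.ge)
        · simp
      · refine Finset.sum_eq_zero fun R hR => absurd ?_ hwb
        exact (Finset.mem_filter.mp hR).2 ▸ le_sup_right
  have hE : ExtOff M (∑ R ∈ Finset.univ.filter (fun R : Subgroup A => R ≠ ⊥),
      (-(α R : ℂ)) • fun z => f (R ⊔ Subgroup.zpowers z)) :=
    extOff_sum hP _ _ fun R hR => extOff_smul hP (h R (Finset.mem_filter.mp hR).2)
      (memLR_neg hP (memLR_intCast (M := M) hP _))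
  refine extOff_congr hE fun z hz => ?_
  have hw : Subgroup.zpowers z ≠ ⊥ := Subgroup.zpowers_ne_bot.mpr hz
  have htot : ∑ R : Subgroup A, (α R : ℂ) * f (R ⊔ Subgroup.zpowers z) = 0 := by
    rw [← Finset.sum_fiberwise Finset.univ (fun R => R ⊔ Subgroup.zpowers z)]
    refine Finset.sum_eq_zero fun b _ => ?_
    rw [Finset.sum_congr rfl fun R hR => by rw [(Finset.mem_filter.mp hR).2], ← Finset.sum_mul,
      ← Int.cast_sum, key _ hw b, Int.cast_zero, zero_mul]
  rw [← Finset.add_sum_erase _ _ (Finset.mem_univ (⊥ : Subgroup A)), hα1, bot_sup_eq, Int.cast_one,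
    one_mul] at htot
  rw [Finset.sum_apply, Finset.filter_ne']
  simp only [Pi.smul_apply, smul_eq_mul, neg_mul, Finset.sum_neg_distrib]
  linear_combination -htot

/-- The sign of an odd number normalised to one modulo four. -/
def four (m : ℤ) : ℤ := if (4 : ℤ) ∣ m - 1 then m else -m

theorem four_eq {m : ℤ} (hm : Odd m) (v : ℤ) (hv : v = m ∨ v = -m) (h4 : (4 : ℤ) ∣ v - 1) :
    four m = v := by
  obtain ⟨k, rfl⟩ := hm
  unfold four
  split_ifs <;> omega

theorem not_order_even_pow {H : Type*} [Group H] {l : H} {j i : ℕ} (hl : orderOf l = 2 ^ (j + 1))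
    (h : orderOf (l ^ (2 * i)) = orderOf l) : False := by
  have h0 : (l ^ (2 * i)) ^ 2 ^ j = 1 := by
    rw [← pow_mul, show 2 * i * 2 ^ j = 2 ^ (j + 1) * i by ring, pow_mul, ← hl, pow_orderOf_eq_one, one_pow]
  have h1 := Nat.le_of_dvd (Nat.two_pow_pos j) (orderOf_dvd_of_pow_eq_one h0)
  rw [h, hl] at h1
  exact absurd h1 (not_le.mpr (Nat.pow_lt_pow_right one_lt_two (Nat.lt_succ_self j)))

/-- Orbit sums of a linear function of a `2`-group. -/
theorem orbit_sum_two {w : ℂ} (j : ℕ) (hw : w ^ 2 ^ (j + 1) = 1) :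
    ∑ i ∈ Finset.range (2 ^ j), w ^ (2 * i + 1) = if w ^ 2 = 1 then (2 : ℂ) ^ j * w else 0 := by
  have e : ∀ i, w ^ (2 * i + 1) = (w ^ 2) ^ i * w := fun i => by rw [pow_succ, pow_mul]
  simp only [e, ← Finset.sum_mul]
  split_ifs with h
  · simp [h]
  · rw [geom_sum_eq h, ← pow_mul, ← pow_succ', hw, sub_self, zero_div, zero_mul]

/-- Congruence to a sign modulo four. -/
def SignLike (M : Ideal AlgInt) (f : A → ℂ) : Prop :=
  ∃ L : A →* ℂˣ, (∀ z, ((L z : ℂˣ) : ℂ) ^ 2 = 1) ∧
    ∀ z, MemLocalRing M ((f z - f 1 - (((L z : ℂˣ) : ℂ) - 1)) / 4)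

theorem signLike_add (hM : IsPModular 2 M) {f g : A → ℂ} (hf : SignLike M f) (hg : SignLike M g) :
    SignLike M (f + g) := by
  have hP := pmod_prime hM
  obtain ⟨L, hL2, hL⟩ := hf
  obtain ⟨L', hL2', hL'⟩ := hg
  refine ⟨L * L', fun z => by simp [mul_pow, hL2, hL2'], fun z => ?_⟩
  have h0 : MemLocalRing M (((((L z : ℂˣ) : ℂ) - 1) * (((L' z : ℂˣ) : ℂ) - 1)) / 4) := by
    rcases sq_eq_one_iff.mp (hL2 z) with h | h <;> rcases sq_eq_one_iff.mp (hL2' z) with h' | h' <;>
      rw [h, h'] <;> norm_num <;> first | exact memLR_zero hP | exact memLR_one hP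
  have := memLR_sub hP (memLR_add hP (hL z) (hL' z)) h0
  convert this using 1
  simp only [Pi.add_apply, MonoidHom.mul_apply, Units.val_mul]
  ring

theorem signLike_sum (hM : IsPModular 2 M) {ι : Type*} (s : Finset ι) (f : ι → A → ℂ)
    (h : ∀ i ∈ s, SignLike M (f i)) : SignLike M (∑ i ∈ s, f i) := by
  classical
  induction s using Finset.induction_on with
  | empty => exact ⟨1, fun z => by simp, fun z => by simpa using memLR_zero (pmod_prime hM)⟩
  | insert b s hb ih =>
    rw [Finset.sum_insert hb]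
    exact signLike_add hM (h b (Finset.mem_insert_self b s)) (ih fun i hi => h i (Finset.mem_insert_of_mem hi))

theorem signLike_smul (hM : IsPModular 2 M) {f : A → ℂ} (hf : SignLike M f) (c : ℤ) :
    SignLike M ((c : ℂ) • f) := by
  have hP := pmod_prime hM
  obtain ⟨L, hL2, hL⟩ := hf
  rcases Int.even_or_odd c with ⟨k, rfl⟩ | ⟨k, rfl⟩
  · refine ⟨1, fun z => by simp, fun z => ?_⟩
    have h0 : MemLocalRing M (((k + k : ℤ) : ℂ) * ((((L z : ℂˣ) : ℂ) - 1)) / 4) := by
      rcases sq_eq_one_iff.mp (hL2 z) with h | h <;> rw [h] <;> push_cast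
      · simpa using memLR_zero hP
      · convert memLR_neg hP (memLR_intCast (M := M) hP k) using 1
        ring
    convert memLR_add hP (memLR_mul hP (memLR_intCast (M := M) hP (k + k)) (hL z)) h0 using 1
    simp only [Pi.smul_apply, smul_eq_mul, MonoidHom.one_apply, Units.val_one, Int.cast_add]
    ring
  · refine ⟨L, hL2, fun z => ?_⟩
    have h0 : MemLocalRing M (((2 * k : ℤ) : ℂ) * ((((L z : ℂˣ) : ℂ) - 1)) / 4) := by
      rcases sq_eq_one_iff.mp (hL2 z) with h | h <;> rw [h] <;> push_cast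
      · simpa using memLR_zero hP
      · convert memLR_neg hP (memLR_intCast (M := M) hP k) using 1
        ring
    convert memLR_add hP (memLR_mul hP (memLR_intCast (M := M) hP (2 * k + 1)) (hL z)) h0 using 1
    simp only [Pi.smul_apply, smul_eq_mul, Int.cast_add, Int.cast_mul, Int.cast_ofNat, Int.cast_one]
    ring

open scoped Classical in
/-- An orbit of linear functions. -/
theorem signLike_orbit (hM : IsPModular 2 M) (hA : IsPGroup 2 A) (hcomm : ∀ y z : A, y * z = z * y)
    [Fintype (A →* ℂˣ)] (l : A →* ℂˣ) :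
    SignLike M fun z => ∑ μ ∈ Finset.univ.filter
      (fun μ : A →* ℂˣ => Subgroup.zpowers μ = Subgroup.zpowers l), ((μ z : ℂˣ) : ℂ) := by
  have hP := pmod_prime hM
  haveI : Fact (Nat.Prime 2) := ⟨hM.1⟩
  obtain ⟨a, ha⟩ := IsPGroup.iff_card.mp hA
  have hl2 : l ^ 2 ^ a = 1 := MonoidHom.ext fun z => by
    rw [MonoidHom.pow_apply, ← map_pow, ← ha, pow_card_eq_one', map_one, MonoidHom.one_apply]
  obtain ⟨j, -, hj⟩ := (Nat.dvd_prime_pow hM.1).mp (orderOf_dvd_of_pow_eq_one hl2)
  rcases j with _ | j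
  · rw [pow_zero, orderOf_eq_one_iff] at hj
    subst hj
    have e : Finset.univ.filter (fun μ : A →* ℂˣ => Subgroup.zpowers μ = Subgroup.zpowers 1) = {1} := by
      ext μ
      simp [Subgroup.zpowers_eq_bot]
    refine ⟨1, fun z => by simp, fun z => ?_⟩
    simp only [e]
    simpa using memLR_zero hP
  have e : Finset.univ.filter (fun μ : A →* ℂˣ => Subgroup.zpowers μ = Subgroup.zpowers l) =
      (Finset.range (2 ^ j)).image fun i => l ^ (2 * i + 1) := by
    ext μ
    simp only [Finset.mem_filter, Finset.mem_univ, true_and, Finset.mem_image, Finset.mem_range]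
    constructor
    · intro hμ
      have hμl : μ ∈ Subgroup.zpowers l := hμ ▸ Subgroup.mem_zpowers μ
      obtain ⟨k, hk, rfl⟩ := (isOfFinOrder_of_finite l).mem_zpowers_iff_mem_range_orderOf.mp hμl
        |> Finset.mem_image.mp
      rw [Finset.mem_range, hj, pow_succ'] at hk
      have hord : orderOf (l ^ k) = orderOf l := by
        rw [← Nat.card_zpowers, ← Nat.card_zpowers, hμ]
      have hodd : k % 2 = 1 := by
        rcases Nat.mod_two_eq_zero_or_one k with h0 | h0
        · exfalso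
          obtain ⟨i, rfl⟩ := Nat.dvd_of_mod_eq_zero h0
          exact not_order_even_pow hj hord
        · exact h0
      exact ⟨k / 2, by omega, by rw [show 2 * (k / 2) + 1 = k by omega]⟩
    · rintro ⟨i, -, rfl⟩
      refine Subgroup.eq_of_le_of_card_ge (Subgroup.zpowers_le.mpr (Subgroup.pow_mem _
        (Subgroup.mem_zpowers l) _)) (le_of_eq ?_)
      rw [Nat.card_zpowers, Nat.card_zpowers, Nat.Coprime.orderOf_pow]
      rw [hj]
      exact Nat.Coprime.pow_left _ (by rw [Nat.coprime_two_left, Nat.odd_iff]; omega)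
  have hinj : Set.InjOn (fun i => l ^ (2 * i + 1)) (Finset.range (2 ^ j) : Set ℕ) := by
    intro i hi i' hi' hii
    simp only [Finset.coe_range, Set.mem_Iio] at hi hi'
    have hlt : ∀ k, k < 2 ^ j → 2 * k + 1 < orderOf l := fun k hk => by rw [hj, pow_succ']; omega
    have := pow_injOn_Iio_orderOf (hlt i hi) (hlt i' hi') hii
    omega
  set f : A → ℂ := fun z => ∑ μ ∈ Finset.univ.filter
    (fun μ : A →* ℂˣ => Subgroup.zpowers μ = Subgroup.zpowers l), ((μ z : ℂˣ) : ℂ) with hf
  have hval : ∀ z, f z = if ((l z : ℂˣ) : ℂ) ^ 2 = 1 then (2 : ℂ) ^ j * ((l z : ℂˣ) : ℂ) else 0 := by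
    intro z
    simp only [hf]
    rw [e, Finset.sum_image hinj, ← orbit_sum_two j]
    · simp
    · rw [← Units.val_pow_eq_pow_val, ← MonoidHom.pow_apply, ← hj, pow_orderOf_eq_one]
      simp
  have hord : ∀ z, ((l z : ℂˣ) : ℂ) ^ 2 ^ (j + 1) = 1 := fun z => by
    rw [← Units.val_pow_eq_pow_val, ← MonoidHom.pow_apply, ← hj, pow_orderOf_eq_one]
    simp
  rcases j with _ | _ | j
  · refine ⟨l, fun z => by simpa using hord z, fun z => ?_⟩
    have h2 : ((l z : ℂˣ) : ℂ) ^ 2 = 1 := by simpa using hord z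
    simp [hval, h2]
    exact memLR_zero hP
  · refine ⟨l ^ 2, fun z => ?_, fun z => ?_⟩
    · simpa [← pow_mul] using hord z
    · have h4 : ((l z : ℂˣ) : ℂ) ^ 4 = 1 := by simpa using hord z
      simp only [hval, map_one, Units.val_one, one_pow, if_true, pow_one, MonoidHom.pow_apply,
        Units.val_pow_eq_pow_val, zero_add]
      rcases sq_eq_one_iff.mp (show (((l z : ℂˣ) : ℂ) ^ 2) ^ 2 = 1 by rw [← pow_mul]; exact h4) with h | h
      · rw [if_pos h, h]
        rcases sq_eq_one_iff.mp h with h' | h' <;> rw [h'] <;> norm_num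
        · exact memLR_zero hP
        · exact memLR_neg hP (memLR_one hP)
      · rw [if_neg (by rw [h]; norm_num), h]
        norm_num
        exact memLR_zero hP
  · refine ⟨1, fun z => by simp, fun z => ?_⟩
    simp only [hval, map_one, Units.val_one, one_pow, if_true, MonoidHom.one_apply, sub_self, sub_zero, mul_one]
    have e1 : (2 : ℂ) ^ (j + 1 + 1) / 4 = 2 ^ j := by rw [pow_succ, pow_succ]; ring
    have h2 : MemLocalRing M ((2 : ℂ) ^ j) := memLR_pow hP (by simpa using memLR_natCast hP 2) j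
    split_ifs with h
    · rw [sub_div, mul_div_right_comm, e1]
      refine memLR_sub hP (memLR_mul hP h2 ?_) h2
      rcases sq_eq_one_iff.mp h with h' | h' <;> rw [h']
      exacts [memLR_one hP, memLR_neg hP (memLR_one hP)]
    · rw [zero_sub, neg_div, e1]
      exact memLR_neg hP h2

open scoped Classical in
/-- A square root of a linear function trivial on involutions. -/
theorem exists_sqrt_hom (hcomm : ∀ y z : A, y * z = z * y) (μ : A →* ℂˣ)
    (h : ∀ z, z ^ 2 = 1 → μ z = 1) : ∃ ν : A →* ℂˣ, ∀ z, ν z ^ 2 = μ z := by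
  letI : CommGroup A := { ‹Group A› with mul_comm := hcomm }
  let s : A →* A := powMonoidHom 2
  let φ : s.range →* ℂˣ := s.rangeRestrict.liftOfSurjective s.rangeRestrict_surjective
    ⟨μ, fun z hz => by
      rw [MonoidHom.ker_rangeRestrict] at hz
      exact h z (MonoidHom.mem_ker.mp hz)⟩
  haveI : NeZero (Monoid.exponent A) := ⟨Monoid.exponent_ne_zero_of_finite⟩
  obtain ⟨ν, hν⟩ := MonoidHom.domRestrict_surjective (M := ℂ) s.range φ
  refine ⟨ν, fun z => ?_⟩
  have h1 := DFunLike.congr_fun hν (s.rangeRestrict z)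
  rw [← map_pow]
  calc ν (z ^ 2) = φ (s.rangeRestrict z) := h1
    _ = μ z := MonoidHom.liftOfRightInverse_comp_apply _ _ _ _ z

open scoped Classical in
/-- The normalised modulus of a character extends. -/
theorem extOff_four (hM : IsPModular 2 M) (hA : IsPGroup 2 A) (hcomm : ∀ y z : A, y * z = z * y)
    {G0 : A → ℂ} (hG : IsCharacter A G0) (m : A → ℤ) (hm : ∀ z, z ≠ 1 → Odd (m z))
    (habs : ∀ z, z ≠ 1 → G0 z * conj (G0 z) = ((m z : ℂ)) ^ 2)
    (hphase : ∀ z, z ≠ 1 → IsIntegral ℤ (G0 z / (m z : ℂ))) :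
    ExtOff M fun z => (four (m z) : ℂ) := by
  have hP := pmod_prime hM
  haveI : Fact (Nat.Prime 2) := ⟨hM.1⟩
  haveI := finite_hom_units A
  letI := Fintype.ofFinite (A →* ℂˣ)
  by_cases htriv : ∀ z : A, z = 1
  · exact ⟨0, intComb_zero hP, fun z hz => absurd (htriv z) hz⟩
  push Not at htriv
  obtain ⟨z0, hz0⟩ := htriv
  obtain ⟨a, ha⟩ := IsPGroup.iff_card.mp hA
  obtain ⟨g1, hg1⟩ := charOne_eq_natCast hG
  have hGI := intComb_char hP hG
  set U : A → ℂ := fun z => G0 z * G0 z⁻¹ with hU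
  have hUI : IntComb M U := intComb_mul hP hGI (intComb_inv hP hGI)
  have hU1 : U 1 = (g1 : ℂ) ^ 2 := by simp [hU, hg1, pow_two]
  have hUz : ∀ z, z ≠ 1 → U z = (m z : ℂ) ^ 2 := fun z hz => by
    simp only [hU, char_inv hG]; exact habs z hz
  have hg1odd : ¬ 2 ∣ g1 := by
    intro h2
    have h1 : MemLocalIdeal M (U 1) := by
      rw [hU1, pow_two]
      exact memLI_mul_left hP (memLR_natCast hP g1) ((memLI_natCast_iff hM g1).mpr h2)
    have h3 := memLI_congr hP (intComb_congr_one hM hA hUI z0) h1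
    rw [hUz z0 hz0] at h3
    have := (memLI_intCast_iff hM (m z0)).mp (memLI_pow_mem hP (memLR_intCast (M := M) hP _) 2 h3)
    obtain ⟨k, hk⟩ := hm z0 hz0
    omega
  have hg10 : (g1 : ℂ) ≠ 0 := Nat.cast_ne_zero.mpr fun h => hg1odd (h ▸ dvd_zero 2)
  have hU0 : ∀ z, U z ≠ 0 := fun z => by
    by_cases hz : z = 1
    · rw [hz, hU1]; exact pow_ne_zero _ hg10
    · rw [hUz z hz]
      refine pow_ne_zero _ (Int.cast_ne_zero.mpr fun h => ?_)
      obtain ⟨k, hk⟩ := hm z hz
      omega
  have hUu : ¬ MemLocalIdeal M (U 1) := by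
    rw [hU1]
    intro h
    exact hg1odd ((memLI_natCast_iff hM g1).mp (memLI_pow_mem hP (memLR_natCast hP g1) 2 h))
  obtain ⟨W, hW, hUW⟩ := exists_inverse hM hA hUI hUu
  -- the square of the phase
  set y : A → ℂ := G0 * G0 * W with hy
  have hyI : IntComb M y := intComb_mul hP (intComb_mul hP hGI hGI) hW
  have hyz : ∀ z, y z = G0 z * G0 z * (U z)⁻¹ := fun z => by
    rw [hy, Pi.mul_apply, Pi.mul_apply, eq_inv_of_mul_eq_one_right (hUW z)]
  have hygal : GalEquiv y := by
    have h1 := galEquiv_mul (galEquiv_char hG) (galEquiv_inv (galEquiv_char hG))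
    have hrat : ∀ z, ∀ k : ℕ, k.Coprime (Nat.card A) → U (z ^ k) = U z := by
      intro z k hk
      by_cases hz : z = 1
      · simp [hz]
      obtain ⟨hmem, hφ⟩ := h1 z
      obtain ⟨φ, hφk⟩ := exists_embedding_of_power Nat.card_pos.ne' hk
      have h2 := hφ φ k hk hφk
      have e : (⟨_, hmem⟩ : cyc (Nat.card A)) = algebraMap ℚ _ ((m z : ℚ) ^ 2) := by
        refine Subtype.ext ?_
        show G0 z * G0 z⁻¹ = _
        rw [show G0 z * G0 z⁻¹ = U z from rfl, hUz z hz]
        simp
      rw [e, AlgHom.commutes] at h2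
      show G0 (z ^ k) * G0 (z ^ k)⁻¹ = U z
      rw [hUz z hz]
      refine Eq.trans ?_ (h2.symm.trans (by simp))
      rfl
    have h2 : GalEquiv fun z => (((if z = 1 then ((g1 : ℚ) ^ 2)⁻¹ else (((m z : ℚ)) ^ 2)⁻¹) : ℚ) : ℂ) := by
      refine galEquiv_rat _ fun z k hk => ?_
      have hone : z ^ k = 1 ↔ z = 1 := by
        rw [← orderOf_eq_one_iff, Nat.Coprime.orderOf_pow ((hk.coprime_dvd_right (orderOf_dvd_natCard z)).symm),
          orderOf_eq_one_iff]
      by_cases hz : z = 1
      · simp [hz]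
      · rw [if_neg hz, if_neg fun h => hz (hone.mp h)]
        have := hrat z k hk
        rw [hUz z hz, hUz _ fun h => hz (hone.mp h)] at this
        exact congrArg (·⁻¹) (by exact_mod_cast this : ((m (z ^ k) : ℚ)) ^ 2 = (m z : ℚ) ^ 2)
    have e : y = (G0 * G0) * fun z =>
        (((if z = 1 then ((g1 : ℚ) ^ 2)⁻¹ else (((m z : ℚ)) ^ 2)⁻¹) : ℚ) : ℂ) := by
      funext z
      rw [hyz, Pi.mul_apply, Pi.mul_apply]
      congr 1
      split_ifs with hz
      · rw [hz, hU1]; simp
      · rw [hUz z hz]; simp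
    rw [e]
    exact galEquiv_mul (galEquiv_mul (galEquiv_char hG) (galEquiv_char hG)) h2
  have hy1 : y 1 = 1 := by
    rw [hyz, hU1, hg1]
    field_simp
  have hnorm : ∀ z, y z * conj (y z) = 1 := fun z => by
    have e : G0 z * conj (G0 z) = U z := by simp only [hU, char_inv hG]
    have eU : conj (U z) = U z := by rw [← e, map_mul, Complex.conj_conj, mul_comm]
    rw [hyz, map_mul, map_mul, map_inv₀, eU]
    have := hU0 z
    field_simp
    rw [← e]
    ring
  have hint : ∀ χ : IrrCharacter A, ∃ n : ℤ, classInner y (χ : A → ℂ) = n := by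
    intro χ
    obtain ⟨q, hq⟩ := classInner_rat hygal (irr_isCharacter χ.2)
    obtain ⟨n, hn⟩ := int_of_rat hM (q := q) (hq ▸ hyI.2 χ) a (by
      rw [← hq, classInner, ← mul_assoc, ha, Nat.cast_pow, Nat.cast_ofNat,
        mul_inv_cancel₀ (pow_ne_zero _ two_ne_zero), one_mul]
      refine IsIntegral.sum _ fun z _ => IsIntegral.mul ?_ (char_isIntegral (isCharacter_conj (irr_isCharacter χ.2)) z)
      by_cases hz : z = 1
      · rw [hz, hy1]; exact isIntegral_one
      · have e : y z = (G0 z / (m z : ℂ)) ^ 2 := by rw [hyz, hUz z hz]; ring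
        rw [e]
        exact (hphase z hz).pow 2)
    exact ⟨n, by rw [hq, hn]; simp⟩
  choose c hc using hint
  have hsq : ∑ χ : IrrCharacter A, c χ ^ 2 = 1 := by
    have h1 : classInner y y = 1 := by
      rw [classInner, Finset.sum_congr rfl fun z _ => hnorm z, Finset.sum_const, Finset.card_univ,
        nsmul_eq_mul, mul_one, ← Nat.card_eq_fintype_card,
        inv_mul_cancel₀ (Nat.cast_ne_zero.mpr Nat.card_pos.ne')]
    have h2 : classInner y y = ((∑ χ : IrrCharacter A, c χ ^ 2 : ℤ) : ℂ) := by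
      nth_rewrite 1 [classFun_expansion hyI.1]
      rw [classInner_sum_left]
      push_cast
      refine Finset.sum_congr rfl fun χ _ => ?_
      rw [classInner_smul_left, ← classInner_symm y (χ : A → ℂ), hc, map_intCast, pow_two]
    exact_mod_cast (h2.symm.trans h1)
  obtain ⟨χ0, hμy⟩ : ∃ χ0 : IrrCharacter A, y = (χ0 : A → ℂ) := by
    obtain ⟨χ0, -, hχ0⟩ : ∃ χ0 ∈ (Finset.univ : Finset (IrrCharacter A)), c χ0 ≠ 0 := by
      by_contra h
      push Not at h
      rw [Finset.sum_eq_zero fun χ hχ => by rw [h χ hχ]; ring] at hsq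
      exact zero_ne_one hsq
    rw [← Finset.add_sum_erase _ _ (Finset.mem_univ χ0)] at hsq
    have hge : 0 ≤ ∑ χ ∈ Finset.univ.erase χ0, c χ ^ 2 := Finset.sum_nonneg fun _ _ => sq_nonneg _
    have h1 : 1 ≤ c χ0 ^ 2 := (sq_pos_iff.mpr hχ0 : 0 < c χ0 ^ 2)
    have hothers : ∀ χ ∈ Finset.univ.erase χ0, c χ = 0 := fun χ hχ => by
      have := (Finset.sum_eq_zero_iff_of_nonneg fun _ _ => sq_nonneg _).mp
        (show ∑ χ ∈ Finset.univ.erase χ0, c χ ^ 2 = 0 by omega) χ hχ
      exact pow_eq_zero_iff two_ne_zero |>.mp this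
    have hexp : y = (c χ0 : ℂ) • (χ0 : A → ℂ) := by
      conv_lhs => rw [classFun_expansion hyI.1]
      rw [Finset.sum_eq_single χ0]
      · rw [hc]
      · intro χ _ hne
        rw [hc, hothers χ (Finset.mem_erase.mpr ⟨hne, Finset.mem_univ _⟩), Int.cast_zero, zero_smul]
      · simp
    refine ⟨χ0, ?_⟩
    have h11 := congrFun hexp 1
    rw [hy1, Pi.smul_apply, smul_eq_mul, (forall_linear_iff_comm.mp hcomm) χ0, mul_one] at h11
    rw [hexp, ← h11, one_smul]
  obtain ⟨μ, hμ⟩ := exists_hom_of_degree_one (irr_isCharacter χ0.2) ((forall_linear_iff_comm.mp hcomm) χ0)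
  rw [hμ] at hμy
  have hG0 : ∀ z, G0 z ≠ 0 := fun z h => hU0 z (by simp [hU, h])
  obtain ⟨ν, hν⟩ := exists_sqrt_hom hcomm μ fun z hz => Units.ext (by
    have hinv : z⁻¹ = z := by rw [inv_eq_iff_mul_eq_one, ← pow_two, hz]
    rw [← congrFun hμy z, hyz, Units.val_one]
    simp only [hU, hinv]
    exact mul_inv_cancel₀ (mul_ne_zero (hG0 z) (hG0 z)))
  -- the real twist
  set v : A → ℂ := G0 * fun z => (((ν⁻¹) z : ℂˣ) : ℂ) with hv
  have hvC : IsCharacter A v := isCharacter_mul hG (isCharacter_linear ν⁻¹)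
  have hvI := intComb_char hP hvC
  have hv1 : v 1 = (g1 : ℂ) := by simp [hv, hg1]
  have hvsq : ∀ z, v z ^ 2 = U z := by
    intro z
    have h1 := congrArg (fun u : ℂˣ => (u : ℂ)) (hν z)
    simp only [Units.val_pow_eq_pow_val] at h1
    rw [← congrFun hμy z, hyz] at h1
    simp only [hv, Pi.mul_apply, MonoidHom.inv_apply, Units.val_inv_eq_inv_val, mul_pow, inv_pow, h1]
    have := hU0 z
    have := hG0 z
    field_simp
  have hvint : ∀ z, ∃ n : ℤ, v z = n ∧ (z ≠ 1 → n = m z ∨ n = -m z) := by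
    intro z
    by_cases hz : z = 1
    · exact ⟨g1, by rw [hz, hv1]; simp, fun h => absurd hz h⟩
    · have h1 := hvsq z
      rw [hUz z hz] at h1
      rcases eq_or_eq_neg_of_sq_eq_sq _ _ h1 with h | h
      · exact ⟨m z, h, fun _ => Or.inl rfl⟩
      · exact ⟨-m z, by rw [h]; simp, fun _ => Or.inr rfl⟩
  choose w hw hwm using hvint
  have hvpow : ∀ z (k : ℕ), k.Coprime (Nat.card A) → v (z ^ k) = v z := by
    intro z k hk
    obtain ⟨hmem, hφ⟩ := galEquiv_char hvC z
    obtain ⟨φ, hφk⟩ := exists_embedding_of_power Nat.card_pos.ne' hk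
    rw [← hφ φ k hk hφk, show (⟨v z, hmem⟩ : cyc (Nat.card A)) = algebraMap ℚ _ (w z : ℚ) from
      Subtype.ext (by simp [hw]), AlgHom.commutes, hw]
    simp
  -- coefficients are constant on orbits
  set co : (A →* ℂˣ) → ℂ := fun l => classInner v (fun z => ((l z : ℂˣ) : ℂ)) with hco
  have hcok : ∀ (l : A →* ℂˣ) (k : ℕ), k.Coprime (Nat.card A) → co (l ^ k) = co l := by
    intro l k hk
    simp only [hco, classInner]
    congr 1
    refine Eq.trans (Finset.sum_congr rfl fun z _ => ?_) ((powCoprime_bijective hk).sum_comp _)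
    rw [hvpow z k hk, MonoidHom.pow_apply, ← map_pow]
  have hexpl : v = fun z => ∑ l : A →* ℂˣ, co l * ((l z : ℂˣ) : ℂ) := by
    funext z
    conv_lhs => rw [classFun_expansion hvI.1, Finset.sum_apply]
    refine (Fintype.sum_equiv (linearEquiv.trans (Equiv.subtypeUnivEquiv
      (forall_linear_iff_comm.mp hcomm))) _ _ fun l => ?_).symm
    rfl
  have hlike : SignLike M v := by
    rw [hexpl]
    have e : (fun z => ∑ l : A →* ℂˣ, co l * ((l z : ℂˣ) : ℂ)) =
        ∑ S ∈ Finset.univ.image (fun l : A →* ℂˣ => Subgroup.zpowers l),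
          fun z => ∑ l ∈ Finset.univ.filter (fun l : A →* ℂˣ => Subgroup.zpowers l = S), co l * ((l z : ℂˣ) : ℂ) := by
      funext z
      rw [Finset.sum_apply]
      exact (Finset.sum_fiberwise_of_maps_to (fun l _ => Finset.mem_image_of_mem _ (Finset.mem_univ l)) _).symm
    rw [e]
    refine signLike_sum hM _ _ fun S hS => ?_
    obtain ⟨l, -, rfl⟩ := Finset.mem_image.mp hS
    obtain ⟨n, hn⟩ := classInner_natCast hvC (irr_isCharacter (isIrrCharacter_linear l))
    have hconst : ∀ μ' : A →* ℂˣ, Subgroup.zpowers μ' = Subgroup.zpowers l → co μ' = ((n : ℤ) : ℂ) := by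
      intro μ' hμ'
      obtain ⟨k, hk⟩ := (isOfFinOrder_of_finite l).mem_powers_iff_mem_zpowers.mpr
        (hμ' ▸ Subgroup.mem_zpowers μ')
      simp only at hk
      subst hk
      rw [Int.cast_natCast, ← hn]
      change co (l ^ k) = co l
      by_cases hl1 : l = 1
      · exact congrArg co (by rw [hl1]; exact one_pow (M := A →* ℂˣ) k)
      · have hord : orderOf (l ^ k) = orderOf l := by rw [← Nat.card_zpowers, hμ', Nat.card_zpowers]
        refine hcok l k ?_
        rw [ha]
        refine Nat.Coprime.pow_right _ ((Nat.coprime_comm.mp ((hM.1.coprime_iff_not_dvd).mpr fun h2 => hl1 ?_)))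
        refine (orderOf_eq_one_iff (x := l)).mp ?_
        have hl2 : l ^ 2 ^ a = 1 := MonoidHom.ext fun z => by
          rw [MonoidHom.pow_apply, ← map_pow, ← ha, pow_card_eq_one', map_one, MonoidHom.one_apply]
        obtain ⟨j, -, hj⟩ := (Nat.dvd_prime_pow hM.1).mp (orderOf_dvd_of_pow_eq_one hl2)
        rcases j with _ | j
        · simpa using hj
        · exfalso
          obtain ⟨i, rfl⟩ := h2
          exact not_order_even_pow hj hord
    have e2 : (fun z => ∑ μ' ∈ Finset.univ.filter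
        (fun μ' : A →* ℂˣ => Subgroup.zpowers μ' = Subgroup.zpowers l), co μ' * ((μ' z : ℂˣ) : ℂ)) =
        ((n : ℤ) : ℂ) • fun z => ∑ μ' ∈ Finset.univ.filter
          (fun μ' : A →* ℂˣ => Subgroup.zpowers μ' = Subgroup.zpowers l), ((μ' z : ℂˣ) : ℂ) := by
      funext z
      rw [Pi.smul_apply, smul_eq_mul, Finset.mul_sum]
      exact Finset.sum_congr rfl fun μ' hμ' => by rw [hconst μ' (Finset.mem_filter.mp hμ').2]
    rw [e2]
    exact signLike_smul hM (signLike_orbit hM hA hcomm l) _
  obtain ⟨L, hL2, hL⟩ := hlike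
  -- the normalising sign
  obtain ⟨ε, hε, hε4⟩ : ∃ ε : ℤ, (ε = 1 ∨ ε = -1) ∧ (4 : ℤ) ∣ (g1 : ℤ) * ε - 1 := by
    rcases (show g1 % 4 = 1 ∨ g1 % 4 = 3 by omega) with h | h
    · exact ⟨1, Or.inl rfl, by omega⟩
    · exact ⟨-1, Or.inr rfl, by omega⟩
  refine extOff_congr (extOff_of_intComb (intComb_smul hP (memLR_intCast (M := M) hP ε)
    (intComb_mul hP hvI (intComb_char hP (isCharacter_linear L))))) fun z hz => ?_
  obtain ⟨l, hl, hlv⟩ : ∃ l : ℤ, (l = 1 ∨ l = -1) ∧ ((L z : ℂˣ) : ℂ) = l := by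
    rcases sq_eq_one_iff.mp (hL2 z) with h | h
    · exact ⟨1, Or.inl rfl, by rw [h]; simp⟩
    · exact ⟨-1, Or.inr rfl, by rw [h]; simp⟩
  have h4 : (4 : ℤ) ∣ w z - g1 - (l - 1) := by
    have := dvd_of_memLR hM (z := w z - g1 - (l - 1)) 2 (by
      convert hL z using 1
      rw [hv1, hw, hlv]
      push_cast
      ring)
    norm_num at this
    exact this
  have hval : four (m z) = ε * (w z * l) := by
    refine four_eq (hm z hz) _ ?_ ?_
    · rcases hε with h | h <;> rcases hl with h' | h' <;> rcases hwm z hz with h'' | h'' <;>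
        simp [h, h', h'']
    · obtain ⟨r, hr⟩ := hm z hz
      rcases hε with h | h <;> rcases hl with h' | h' <;> subst h <;> subst h' <;> omega
  rw [hval]
  simp only [Pi.smul_apply, Pi.mul_apply, smul_eq_mul, hw, hlv]
  push_cast
  rfl

end Cfsg.Agent.Char.LocalSpan
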