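import Mathlib

/-!
# Integral vectors with the Gram matrix `e + 1`

If `m` integral vectors on a set of `k` points have all inner products `e`, norms `e + 1` and no common zero,
then `k ≤ e + m`; for `e ≤ 3` and `m < k` equality holds up to three exceptional parameter triples.
-/

set_option autoImplicit false

namespace Cfsg.Agent.Char.FreeLattice

open Finset

variable {ι : Type*} [Fintype ι] [DecidableEq ι]

/-- The chain form, twice. -/
theorem two_le_chain (n : ℕ) (x : ℕ → ℤ) (hx : ∃ i ≤ n, x i ≠ 0) :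
    2 ≤ x 0 ^ 2 + x n ^ 2 + ∑ i ∈ range n, (x i - x (i + 1)) ^ 2 := by
  have hnn : 0 ≤ ∑ i ∈ range n, (x i - x (i + 1)) ^ 2 := sum_nonneg fun _ _ => sq_nonneg _
  have hz : ∀ j ≤ n, ∑ i ∈ range n, (x i - x (i + 1)) ^ 2 = 0 → x j = x 0 := by
    intro j hj h
    induction j with
    | zero => rfl
    | succ j ih =>
      have := (sum_eq_zero_iff_of_nonneg fun _ _ => sq_nonneg _).mp h j (mem_range.mpr (by omega))
      have h' := pow_eq_zero_iff two_ne_zero |>.mp this
      have := ih (by omega)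
      omega
  have hpar : ∀ j, Even (x 0 ^ 2 + x j ^ 2 + ∑ i ∈ range j, (x i - x (i + 1)) ^ 2) := by
    intro j
    induction j with
    | zero => exact ⟨x 0 ^ 2, by simp⟩
    | succ j ih =>
      obtain ⟨r, hr⟩ := ih
      refine ⟨r + x (j + 1) ^ 2 - x j * x (j + 1), ?_⟩
      rw [sum_range_succ]
      linear_combination hr
  obtain ⟨r, hr⟩ := hpar n
  by_contra hlt
  push Not at hlt
  have hall : x 0 ^ 2 + x n ^ 2 + ∑ i ∈ range n, (x i - x (i + 1)) ^ 2 = 0 := by
    have := sq_nonneg (x 0); have := sq_nonneg (x n); omega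
  have h0 : x 0 ^ 2 = 0 := by have := sq_nonneg (x 0); have := sq_nonneg (x n); omega
  have hS : ∑ i ∈ range n, (x i - x (i + 1)) ^ 2 = 0 := by have := sq_nonneg (x 0); have := sq_nonneg (x n); omega
  obtain ⟨i, hi, hne⟩ := hx
  exact hne (by rw [hz i hi hS]; exact pow_eq_zero_iff two_ne_zero |>.mp h0)

/-- The bound. -/
theorem card_le (n e : ℕ) (u : ℕ → ι → ℤ)
    (hgram : ∀ i ≤ n, ∀ j ≤ n, ∑ χ, u i χ * u j χ = (e : ℤ) + if i = j then 1 else 0)
    (hsupp : ∀ χ, ∃ i ≤ n, u i χ ≠ 0) : Fintype.card ι ≤ e + (n + 1) := by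
  have h : ∑ _χ : ι, (2 : ℤ) ≤ ∑ χ, (u 0 χ ^ 2 + u n χ ^ 2 + ∑ i ∈ range n, (u i χ - u (i + 1) χ) ^ 2) :=
    sum_le_sum fun χ _ => two_le_chain n (fun i => u i χ) (hsupp χ)
  rw [sum_add_distrib, sum_add_distrib, sum_comm (f := fun χ i => (u i χ - u (i + 1) χ) ^ 2)] at h
  have e1 : ∀ i ≤ n, ∑ χ, u i χ ^ 2 = (e : ℤ) + 1 := fun i hi => by
    simpa [pow_two] using hgram i hi i hi
  have e2 : ∀ i ∈ range n, ∑ χ, (u i χ - u (i + 1) χ) ^ 2 = (2 : ℤ) := fun i hi => by
    have hi' := mem_range.mp hi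
    have hij := hgram i hi'.le (i + 1) hi'
    rw [if_neg (by omega), add_zero] at hij
    have : ∑ χ, (u i χ - u (i + 1) χ) ^ 2 =
        ∑ χ, u i χ ^ 2 + ∑ χ, u (i + 1) χ ^ 2 - 2 * ∑ χ, u i χ * u (i + 1) χ := by
      rw [mul_sum, ← sum_add_distrib, ← sum_sub_distrib]
      exact sum_congr rfl fun χ _ => by ring
    rw [this, e1 i hi'.le, e1 (i + 1) hi', hij]
    ring
  rw [e1 0 (Nat.zero_le n), e1 n le_rfl, sum_congr rfl e2] at h
  simp at h
  omega

theorem sq_sum_eq_card {s : Finset ι} {w : ι → ℤ} (hw : ∀ x ∈ s, w x ≠ 0) (h3 : ∑ x ∈ s, w x ^ 2 ≤ 3) :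
    ∑ x ∈ s, w x ^ 2 = s.card := by
  rw [card_eq_sum_ones, Nat.cast_sum]
  refine sum_congr rfl fun x hx => ?_
  have h1 : w x ^ 2 ≤ 3 := (single_le_sum (f := fun x => w x ^ 2) (fun _ _ => sq_nonneg _) hx).trans h3
  have h2 : -1 ≤ w x := by nlinarith
  have h4 : w x ≤ 1 := by nlinarith
  have := hw x hx
  rcases (show w x = -1 ∨ w x = 1 by omega) with h | h <;> simp [h]

theorem pair_of_norm_two {d : ι → ℤ} (h : ∑ χ, d χ ^ 2 = 2) :
    (univ.filter fun χ => d χ ≠ 0).card = 2 ∧ ∀ χ, d χ ≠ 0 → d χ = 1 ∨ d χ = -1 := by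
  have hsub : ∑ χ ∈ univ.filter (fun χ => d χ ≠ 0), d χ ^ 2 = 2 := by
    refine Eq.trans (sum_subset (subset_univ _) fun χ _ hχ => ?_) h
    rw [mem_filter, not_and, not_not] at hχ
    rw [hχ (mem_univ χ)]
    ring
  have hc := sq_sum_eq_card (w := d) (fun x hx => (mem_filter.mp hx).2) (by rw [hsub]; norm_num)
  refine ⟨by rw [hsub] at hc; exact_mod_cast hc.symm, fun χ hχ => ?_⟩
  have h1 : d χ ^ 2 ≤ 2 := h ▸ single_le_sum (f := fun x => d x ^ 2) (fun _ _ => sq_nonneg _) (mem_univ χ)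
  have h2 : -1 ≤ d χ := by nlinarith
  have h4 : d χ ≤ 1 := by nlinarith
  omega

/-- Small `e`: equality or an exceptional case. -/
theorem card_eq (n e : ℕ) (u : ℕ → ι → ℤ)
    (hgram : ∀ i ≤ n, ∀ j ≤ n, ∑ χ, u i χ * u j χ = (e : ℤ) + if i = j then 1 else 0)
    (hsupp : ∀ χ, ∃ i ≤ n, u i χ ≠ 0) (he : e ≤ 3) (hk : n + 1 < Fintype.card ι) :
    Fintype.card ι = e + (n + 1) ∨ (e = 2 ∧ n = 2 ∧ Fintype.card ι = 4) ∨ (e = 3 ∧ n = 2) ∨
      (e = 3 ∧ n = 3 ∧ Fintype.card ι = 5) := by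
  have hnorm : ∀ i ≤ n, ∑ χ, u i χ ^ 2 = (e : ℤ) + 1 := fun i hi => by
    simpa [pow_two] using hgram i hi i hi
  rcases Nat.eq_zero_or_pos n with rfl | hn
  · left
    have h := hnorm 0 le_rfl
    have hne : ∀ x ∈ (univ : Finset ι), u 0 x ≠ 0 := fun x _ => by
      obtain ⟨i, hi, hne⟩ := hsupp x
      obtain rfl : i = 0 := by omega
      exact hne
    rcases Nat.lt_or_ge e 3 with he' | he'
    · have := sq_sum_eq_card hne (by rw [h]; omega)
      rw [h, card_univ] at this
      omega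
    · have h1 : (Fintype.card ι : ℤ) ≤ ∑ χ, u 0 χ ^ 2 := by
        rw [← card_univ, card_eq_sum_ones, Nat.cast_sum]
        exact sum_le_sum fun x hx => by
          have := hne x hx
          have : 0 < u 0 x ^ 2 := by positivity
          push_cast; omega
      rw [h] at h1
      by_contra hne4
      -- two or three squares with sum four
      have hall : ∀ x, u 0 x ^ 2 = 1 := by
        intro x
        by_contra hx
        have hx4 : 4 ≤ u 0 x ^ 2 := by
          have h0 := hne x (mem_univ x)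
          by_contra hlt
          have h2 : -1 ≤ u 0 x := by nlinarith
          have h4 : u 0 x ≤ 1 := by nlinarith
          rcases (show u 0 x = -1 ∨ u 0 x = 1 by omega) with h' | h' <;> simp [h'] at hx
        have hrest : ((univ.erase x).card : ℤ) ≤ ∑ y ∈ univ.erase x, u 0 y ^ 2 := by
          rw [card_eq_sum_ones, Nat.cast_sum]
          exact sum_le_sum fun y _ => by
            have := hne y (mem_univ y)
            have : 0 < u 0 y ^ 2 := by positivity
            push_cast; omega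
        rw [← add_sum_erase _ _ (mem_univ x)] at h
        have hc : (univ.erase x).card + 1 = Fintype.card ι := card_erase_add_one (mem_univ x)
        omega
      have : ∑ χ, u 0 χ ^ 2 = (Fintype.card ι : ℤ) := by simp [hall]
      omega
  set d : ℕ → ι → ℤ := fun i χ => u i χ - u 0 χ with hd
  have hud : ∀ i, 1 ≤ i → i ≤ n → ∑ χ, u 0 χ * d i χ = -1 := fun i h1 h2 => by
    have a1 := hgram 0 (Nat.zero_le n) i h2
    have a2 := hgram 0 (Nat.zero_le n) 0 (Nat.zero_le n)
    rw [if_neg (by omega)] at a1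
    rw [if_pos rfl] at a2
    simp only [hd, mul_sub, sum_sub_distrib]
    omega
  have hdd : ∀ i, 1 ≤ i → i ≤ n → ∀ j, 1 ≤ j → j ≤ n → ∑ χ, d i χ * d j χ = if i = j then 2 else 1 := by
    intro i hi1 hi j hj1 hj
    have a1 := hgram i hi j hj
    have a2 := hgram 0 (Nat.zero_le n) i hi
    have a3 := hgram 0 (Nat.zero_le n) j hj
    have a4 := hgram 0 (Nat.zero_le n) 0 (Nat.zero_le n)
    rw [if_neg (by omega)] at a2 a3
    rw [if_pos rfl] at a4
    have : ∑ χ, d i χ * d j χ = ∑ χ, u i χ * u j χ - ∑ χ, u 0 χ * u i χ - ∑ χ, u 0 χ * u j χ +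
        ∑ χ, u 0 χ * u 0 χ := by
      rw [← sum_sub_distrib, ← sum_sub_distrib, ← sum_add_distrib]
      exact sum_congr rfl fun χ _ => by simp only [hd]; ring
    rw [this, a1, a2, a3, a4]
    split_ifs <;> ring
  have hpair : ∀ i, 1 ≤ i → i ≤ n → (univ.filter fun χ => d i χ ≠ 0).card = 2 ∧
      ∀ χ, d i χ ≠ 0 → d i χ = 1 ∨ d i χ = -1 := fun i h1 h2 =>
    pair_of_norm_two (by simpa [pow_two] using hdd i h1 h2 i h1 h2)
  set S : ℕ → Finset ι := fun i => univ.filter fun χ => d i χ ≠ 0 with hS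
  have hmem : ∀ i χ, χ ∈ S i ↔ d i χ ≠ 0 := fun i χ => by simp [hS]
  -- two of the supports meet in one point with equal values
  have hmeet : ∀ i, 1 ≤ i → i ≤ n → ∀ j, 1 ≤ j → j ≤ n → i ≠ j →
      ∃ a, S i ∩ S j = {a} ∧ d i a = d j a := by
    intro i hi1 hi j hj1 hj hij
    have hs : ∑ χ ∈ S i ∩ S j, d i χ * d j χ = 1 := by
      have := hdd i hi1 hi j hj1 hj
      rw [if_neg hij] at this
      refine Eq.trans (sum_subset (subset_univ _) fun χ _ hχ => ?_) this
      simp only [mem_inter, hmem, not_and_or, not_not] at hχ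
      rcases hχ with h | h <;> simp [h]
    have hle : (S i ∩ S j).card ≤ 2 := (card_le_card inter_subset_left).trans (hpair i hi1 hi).1.le
    interval_cases hc : (S i ∩ S j).card
    · rw [card_eq_zero.mp hc] at hs
      simp at hs
    · obtain ⟨a, ha⟩ := card_eq_one.mp hc
      refine ⟨a, ha, ?_⟩
      rw [ha, sum_singleton] at hs
      have ha' : a ∈ S i ∩ S j := by rw [ha]; exact mem_singleton_self a
      simp only [mem_inter, hmem] at ha'
      rcases (hpair i hi1 hi).2 a ha'.1 with h | h <;> rcases (hpair j hj1 hj).2 a ha'.2 with h' | h' <;>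
        simp [h, h'] at hs ⊢
    · obtain ⟨a, b, hab, ha⟩ := card_eq_two.mp hc
      rw [ha, sum_pair hab] at hs
      have ha' : a ∈ S i ∩ S j := by rw [ha]; simp
      have hb' : b ∈ S i ∩ S j := by rw [ha]; simp
      simp only [mem_inter, hmem] at ha' hb'
      rcases (hpair i hi1 hi).2 a ha'.1 with h1 | h1 <;> rcases (hpair j hj1 hj).2 a ha'.2 with h2 | h2 <;>
        rcases (hpair i hi1 hi).2 b hb'.1 with h3 | h3 <;> rcases (hpair j hj1 hj).2 b hb'.2 with h4 | h4 <;>
        simp [h1, h2, h3, h4] at hs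
  -- a common point
  obtain ⟨a, ha⟩ : ∃ a, ∀ i, 1 ≤ i → i ≤ n → a ∈ S i ∧ d i a = d 1 a := by
    rcases Nat.lt_or_ge 1 n with h2 | h2
    · obtain ⟨a, ha, hav⟩ := hmeet 1 le_rfl hn 2 (by norm_num) h2 (by norm_num)
      have ha1 : a ∈ S 1 ∩ S 2 := by rw [ha]; exact mem_singleton_self a
      simp only [mem_inter] at ha1
      refine ⟨a, fun i hi1 hi => ?_⟩
      by_cases hin : a ∈ S i
      · refine ⟨hin, ?_⟩
        by_cases h : i = 1
        · rw [h]
        · obtain ⟨b, hb, hbv⟩ := hmeet i hi1 hi 1 le_rfl hn h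
          have : a ∈ S i ∩ S 1 := mem_inter.mpr ⟨hin, ha1.1⟩
          rw [hb, mem_singleton] at this
          rw [this]; exact hbv
      · exfalso
        have hi1' : i ≠ 1 := fun h => hin (h ▸ ha1.1)
        have hi2' : i ≠ 2 := fun h => hin (h ▸ ha1.2)
        obtain ⟨b, hb, hbv⟩ := hmeet i hi1 hi 1 le_rfl hn hi1'
        obtain ⟨c, hc, hcv⟩ := hmeet i hi1 hi 2 (by norm_num) h2 hi2'
        have hb' : b ∈ S i ∩ S 1 := by rw [hb]; exact mem_singleton_self b
        have hc' : c ∈ S i ∩ S 2 := by rw [hc]; exact mem_singleton_self c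
        simp only [mem_inter] at hb' hc'
        have hab : a ≠ b := fun h => hin (h ▸ hb'.1)
        have hac : a ≠ c := fun h => hin (h ▸ hc'.1)
        have hbc : b ≠ c := fun h => by
          have : b ∈ S 1 ∩ S 2 := mem_inter.mpr ⟨hb'.2, h ▸ hc'.2⟩
          rw [ha, mem_singleton] at this
          exact hab this.symm
        have hsum : ∀ (j : ℕ) (x y : ι), 1 ≤ j → j ≤ n → x ∈ S j → y ∈ S j → x ≠ y →
            ∑ χ, u 0 χ * d j χ = u 0 x * d j x + u 0 y * d j y := by
          intro j x y hj1 hj hx hy hxy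
          have hSj : S j = {x, y} := (eq_of_subset_of_card_le (by
            simp [insert_subset_iff, hx, hy]) (by rw [card_pair hxy]; exact (hpair j hj1 hj).1.le)).symm
          rw [← sum_pair (f := fun χ => u 0 χ * d j χ) hxy, ← hSj]
          refine (sum_subset (subset_univ _) fun χ _ hχ => ?_).symm
          rw [hmem, not_not] at hχ
          simp [hχ]
        have e1 := hsum 1 a b le_rfl hn ha1.1 hb'.2 hab
        have e2 := hsum 2 a c (by norm_num) h2 ha1.2 hc'.2 hac
        have e3 := hsum i b c hi1 hi hb'.1 hc'.1 hbc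
        rw [hud 1 le_rfl hn] at e1
        rw [hud 2 (by norm_num) h2, ← hav] at e2
        rw [hud i hi1 hi, hbv, hcv] at e3
        omega
    · obtain ⟨a, ha⟩ := card_pos.mp (show 0 < (S 1).card by rw [(hpair 1 le_rfl hn).1]; norm_num)
      refine ⟨a, fun i hi1 hi => ?_⟩
      obtain rfl : i = 1 := by omega
      exact ⟨ha, rfl⟩
  set σ := d 1 a with hσ
  have hσv : σ = 1 ∨ σ = -1 := (hpair 1 le_rfl hn).2 a ((hmem 1 a).mp (ha 1 le_rfl hn).1)
  -- the other points
  have hb : ∀ i, 1 ≤ i → i ≤ n → ∃ b, b ≠ a ∧ S i = {a, b} := fun i h1 h2 => by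
    obtain ⟨x, y, hxy, he⟩ := card_eq_two.mp (hpair i h1 h2).1
    have h := (ha i h1 h2).1
    change S i = {x, y} at he
    rw [he, mem_insert, mem_singleton] at h
    rcases h with rfl | rfl
    · exact ⟨y, hxy.symm, he⟩
    · exact ⟨x, hxy, by rw [he, pair_comm]⟩
  haveI : Nonempty ι := ⟨a⟩
  choose! b hba hbS using hb
  have hbinj : ∀ i, 1 ≤ i → i ≤ n → ∀ j, 1 ≤ j → j ≤ n → b i = b j → i = j := by
    intro i hi1 hi j hj1 hj hbb
    by_contra hne
    obtain ⟨x, hx, -⟩ := hmeet i hi1 hi j hj1 hj hne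
    have hm1 : a ∈ S i ∩ S j := mem_inter.mpr ⟨(ha i hi1 hi).1, (ha j hj1 hj).1⟩
    have hm2 : b i ∈ S i ∩ S j := mem_inter.mpr ⟨by rw [hbS i hi1 hi]; simp, by rw [hbS j hj1 hj, hbb]; simp⟩
    rw [hx, mem_singleton] at hm1 hm2
    exact hba i hi1 hi (hm2.trans hm1.symm)
  set c := -1 - σ * u 0 a with hc
  have hbval : ∀ i, 1 ≤ i → i ≤ n → u 0 (b i) ^ 2 = c ^ 2 := by
    intro i hi1 hi
    have h := hud i hi1 hi
    have hrw : ∑ χ, u 0 χ * d i χ = u 0 a * σ + u 0 (b i) * d i (b i) := by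
      rw [← (ha i hi1 hi).2, ← sum_pair (f := fun χ => u 0 χ * d i χ) (hba i hi1 hi).symm, ← hbS i hi1 hi]
      refine (sum_subset (subset_univ _) fun χ _ hχ => ?_).symm
      rw [hmem, not_not] at hχ
      simp [hχ]
    rw [hrw] at h
    rcases (hpair i hi1 hi).2 (b i) ((hmem i _).mp (by rw [hbS i hi1 hi]; simp)) with h' | h' <;> rw [h'] at h
    · rw [show u 0 (b i) = c by linarith]
    · rw [show u 0 (b i) = -c by linarith]; ring
  set P := insert a ((Icc 1 n).image b) with hP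
  have hPcard : P.card = n + 1 := by
    rw [hP, card_insert_of_notMem, card_image_of_injOn, Nat.card_Icc]
    · omega
    · intro i hi j hj h
      simp only [coe_Icc, Set.mem_Icc] at hi hj
      exact hbinj i hi.1 hi.2 j hj.1 hj.2 h
    · simp only [mem_image, mem_Icc, not_exists, not_and]
      exact fun i hi => hba i hi.1 hi.2
  have hrestne : ∀ χ ∈ univ \ P, u 0 χ ≠ 0 := by
    intro χ hχ h0
    obtain ⟨i, hi, hne⟩ := hsupp χ
    rcases Nat.eq_zero_or_pos i with rfl | hi0
    · exact hne h0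
    have : χ ∈ S i := by rw [hmem]; simp [hd, h0, hne]
    rw [hbS i hi0 hi, mem_insert, mem_singleton] at this
    refine (mem_sdiff.mp hχ).2 ?_
    rw [hP, mem_insert, mem_image]
    rcases this with h | h
    · exact Or.inl h
    · exact Or.inr ⟨i, mem_Icc.mpr ⟨hi0, hi⟩, h.symm⟩
  have hW : ∑ χ ∈ univ \ P, u 0 χ ^ 2 + ((n : ℤ) + 1) * c ^ 2 + 2 * c = e := by
    have h := hnorm 0 (Nat.zero_le n)
    rw [← sum_sdiff (subset_univ P), hP, sum_insert, sum_image, sum_congr rfl fun i hi =>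
      hbval i (mem_Icc.mp hi).1 (mem_Icc.mp hi).2] at h
    · simp only [sum_const, Nat.card_Icc, nsmul_eq_mul, Nat.add_sub_cancel] at h
      have : u 0 a ^ 2 = (c + 1) ^ 2 := by
        rcases hσv with h' | h' <;> rw [hc, h'] <;> ring
      rw [this, ← hP] at h
      linear_combination h
    · intro i hi j hj h
      simp only [coe_Icc, Set.mem_Icc] at hi hj
      exact hbinj i hi.1 hi.2 j hj.1 hj.2 h
    · simp only [mem_image, mem_Icc, not_exists, not_and]
      exact fun i hi => hba i hi.1 hi.2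
  have hcard : (univ \ P).card + (n + 1) = Fintype.card ι := by
    rw [← hPcard, card_sdiff_add_card_eq_card (subset_univ P), card_univ]
  have hlow : ((univ \ P).card : ℤ) ≤ ∑ χ ∈ univ \ P, u 0 χ ^ 2 := by
    rw [card_eq_sum_ones, Nat.cast_sum]
    exact sum_le_sum fun y hy => by
      have := hrestne y hy
      have : 0 < u 0 y ^ 2 := by positivity
      push_cast; omega
  have hsmall : c = 0 ∨ c = -1 := by
    have h1 : ((n : ℤ) + 1) * c ^ 2 + 2 * c ≤ 2 := by omega
    have h2 : 2 * c ^ 2 ≤ ((n : ℤ) + 1) * c ^ 2 :=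
      mul_le_mul_of_nonneg_right (by omega) (sq_nonneg c)
    have h3 : c ≤ 0 := by
      by_contra hc0
      push Not at hc0
      nlinarith
    have h4 : -1 ≤ c := by
      by_contra hc0
      push Not at hc0
      nlinarith
    omega
  rcases hsmall with h | h <;> rw [h] at hW
  · have := sq_sum_eq_card hrestne (by nlinarith)
    left; nlinarith
  · have := sq_sum_eq_card hrestne (by nlinarith)
    rcases (show n = 1 ∨ n = 2 ∨ 3 ≤ n by omega) with h1 | h1 | h1
    · subst h1; left; omega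
    · subst h1
      interval_cases e <;> omega
    · have : (n : ℤ) ≤ 3 := by nlinarith
      obtain rfl : n = 3 := by omega
      interval_cases e <;> omega

end Cfsg.Agent.Char.FreeLattice
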