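import Cfsg.Agent.Lib.Char.LocalSpan
import Cfsg.Agent.Lib.Char.FreeTrace
import Cfsg.Agent.Lib.Char.FreeLattice

/-!
# Integral vectors of equivariant orthogonal families under a free action

An abelian `p`-group with a free group of automorphisms, and a family of functions extending off the identity
which is orthogonal on orbits: its Fourier coefficients are integral vectors with Gram matrix `e + δ`.
-/

set_option autoImplicit false
set_option linter.unusedSectionVars false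
set_option linter.style.haveILetI false

open scoped ComplexConjugate

namespace Cfsg.Agent.Char.StarVectors

open Cfsg LocalSpan

universe u

variable {A : Type u} [Group A] [Fintype A] (E : Subgroup (MulAut A)) [Fintype E]

theorem sum_lin (θ : A →* ℂˣ) [Decidable (θ = 1)] :
    ∑ z, ((θ z : ℂˣ) : ℂ) = if θ = 1 then (Nat.card A : ℂ) else 0 := by
  split_ifs with h
  · simp [h, Nat.card_eq_fintype_card]
  · obtain ⟨z0, hz0⟩ : ∃ z0, θ z0 ≠ 1 := not_forall.mp fun hall => h (MonoidHom.ext hall)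
    have hne : ((θ z0 : ℂˣ) : ℂ) ≠ 1 := fun e => hz0 (Units.val_eq_one.mp e)
    have := Fintype.sum_equiv (Equiv.mulLeft z0) (fun z => ((θ (z0 * z) : ℂˣ) : ℂ))
      (fun z => ((θ z : ℂˣ) : ℂ)) (fun z => rfl)
    simp only [map_mul, Units.val_mul, ← Finset.mul_sum] at this
    exact (mul_left_eq_self₀.mp this).resolve_left hne

theorem conj_lin (θ : A →* ℂˣ) (z : A) : conj ((θ z : ℂˣ) : ℂ) = ((θ z⁻¹ : ℂˣ) : ℂ) :=
  (char_inv (irr_isCharacter (isIrrCharacter_linear θ)) z).symm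

/-- An automorphism without fixed points fixes no nontrivial linear character. -/
theorem dual_free (hcomm : ∀ y z : A, y * z = z * y) {σ : MulAut A} (hσ : ∀ z, σ z = z → z = 1)
    {μ : A →* ℂˣ} (h : μ.comp σ.toMonoidHom = μ) : μ = 1 := by
  have hinj : Function.Injective fun z => z⁻¹ * σ z := by
    intro a b hab
    have e : σ (a * b⁻¹) = a * b⁻¹ := by
      have h' : σ a = a * (b⁻¹ * σ b) := by rw [← show a⁻¹ * σ a = b⁻¹ * σ b from hab, mul_inv_cancel_left]
      rw [map_mul, map_inv, h', ← mul_assoc, mul_inv_cancel_right]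
    exact mul_inv_eq_one.mp (hσ _ e)
  refine MonoidHom.ext fun w => ?_
  obtain ⟨z, rfl⟩ := (Finite.injective_iff_surjective.mp hinj) w
  have : μ (σ z) = μ z := DFunLike.congr_fun h z
  show μ (z⁻¹ * σ z) = 1
  rw [map_mul, map_inv, this, inv_mul_cancel]

open scoped Classical in
/-- Representatives of the orbits on nontrivial linear characters. -/
theorem exists_reps (hcomm : ∀ y z : A, y * z = z * y) (hA1 : ∃ z : A, z ≠ 1)
    (hfree : ∀ σ ∈ E, σ ≠ 1 → ∀ z, σ z = z → z = 1) :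
    ∃ (m : ℕ) (R : ℕ → (A →* ℂˣ)), 1 ≤ m ∧ Nat.card E * m = Nat.card A - 1 ∧ (∀ i < m, R i ≠ 1) ∧
      (∀ i < m, ∀ j < m, ∀ σ : E, (R j).comp (σ : MulAut A).toMonoidHom = R i ↔ i = j ∧ σ = 1) ∧
      (∀ μ : A →* ℂˣ, μ ≠ 1 → ∃ i < m, ∃ σ : E, μ = (R i).comp (σ : MulAut A).toMonoidHom) := by
  letI : CommGroup A := { ‹Group A› with mul_comm := hcomm }
  haveI : NeZero (Monoid.exponent A) := ⟨Monoid.exponent_ne_zero_of_finite⟩
  haveI := finite_hom_units A
  letI := Fintype.ofFinite (A →* ℂˣ)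
  let α := {μ : A →* ℂˣ // μ ≠ 1}
  have hcomp : ∀ (μ : A →* ℂˣ) (σ τ : E),
      (μ.comp (σ : MulAut A).toMonoidHom).comp (τ : MulAut A).toMonoidHom =
        μ.comp ((σ * τ : E) : MulAut A).toMonoidHom := fun μ σ τ => MonoidHom.ext fun _ => rfl
  have hone : ∀ μ : A →* ℂˣ, μ.comp ((1 : E) : MulAut A).toMonoidHom = μ := fun μ => MonoidHom.ext fun _ => rfl
  have hne : ∀ (μ : A →* ℂˣ) (σ : E), μ ≠ 1 → μ.comp (σ : MulAut A).toMonoidHom ≠ 1 := by
    intro μ σ hμ h
    refine hμ ?_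
    rw [← hone μ, show (1 : E) = σ * σ⁻¹ from (mul_inv_cancel σ).symm, ← hcomp, h, MonoidHom.one_comp]
  let s : Setoid α :=
    { r := fun a b => ∃ σ : E, a.1.comp (σ : MulAut A).toMonoidHom = b.1
      iseqv := ⟨fun a => ⟨1, hone _⟩, fun {a b} ⟨σ, h⟩ => ⟨σ⁻¹, by rw [← h, hcomp, mul_inv_cancel, hone]⟩,
        fun {a b c} ⟨σ, h⟩ ⟨τ, h'⟩ => ⟨σ * τ, by rw [← hcomp, h, h']⟩⟩ }
  let Q := Quotient s
  haveI : Fintype Q := Fintype.ofFinite Q
  have hfix : ∀ (μ : α) (σ : E), μ.1.comp (σ : MulAut A).toMonoidHom = μ.1 → σ = 1 := by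
    intro μ σ h
    by_contra hσ
    exact μ.2 (dual_free hcomm (hfree _ σ.2 fun h' => hσ (Subtype.ext h')) h)
  let f : Q × E → α := fun x => ⟨(Quotient.out x.1).1.comp (x.2 : MulAut A).toMonoidHom, hne _ _ (Quotient.out x.1).2⟩
  have hf : Function.Bijective f := by
    constructor
    · rintro ⟨a, σ⟩ ⟨b, τ⟩ h
      have h' : (Quotient.out a).1.comp (σ : MulAut A).toMonoidHom = (Quotient.out b).1.comp (τ : MulAut A).toMonoidHom :=
        congrArg Subtype.val h
      have hab : a = b := by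
        rw [← Quotient.out_eq a, ← Quotient.out_eq b]
        exact Quotient.sound ⟨σ * τ⁻¹, by rw [← hcomp, h', hcomp, mul_inv_cancel, hone]⟩
      subst hab
      have h1 := hfix (Quotient.out a) (σ * τ⁻¹) (by rw [← hcomp, h', hcomp, mul_inv_cancel, hone])
      rw [mul_inv_eq_one.mp h1]
    · intro μ
      obtain ⟨σ, hσ⟩ : s.r (Quotient.out (Quotient.mk s μ)) μ := Quotient.exact (Quotient.out_eq _)
      exact ⟨(Quotient.mk s μ, σ), Subtype.ext hσ⟩
  have hcard : Nat.card E * Fintype.card Q = Nat.card A - 1 := by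
    have h1 := Fintype.card_of_bijective hf
    rw [Fintype.card_prod, Fintype.card_subtype_compl, Fintype.card_subtype_eq] at h1
    rw [Nat.card_eq_fintype_card, mul_comm, h1, ← Nat.card_eq_fintype_card,
      CommGroup.card_monoidHom_of_hasEnoughRootsOfUnity]
  obtain ⟨z0, hz0⟩ := hA1
  haveI : Nontrivial A := ⟨⟨z0, 1, hz0⟩⟩
  have h2 : 1 < Nat.card A := Finite.one_lt_card
  have hpos : 1 ≤ Fintype.card Q := by
    rcases Nat.eq_zero_or_pos (Fintype.card Q) with h0 | h0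
    · rw [h0, mul_zero] at hcard; omega
    · exact h0
  let en := (Fintype.equivFin Q).symm
  refine ⟨Fintype.card Q, fun i => if hi : i < Fintype.card Q then (Quotient.out (en ⟨i, hi⟩)).1 else 1,
    hpos, hcard, fun i hi => ?_, fun i hi j hj σ => ?_, fun μ hμ => ?_⟩
  · simp only [dif_pos hi]
    exact (Quotient.out (en ⟨i, hi⟩)).2
  · simp only [dif_pos hi, dif_pos hj]
    refine ⟨fun h => ?_, ?_⟩
    · have : f (en ⟨j, hj⟩, σ) = f (en ⟨i, hi⟩, 1) := Subtype.ext (h.trans (hone _).symm)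
      have h' := hf.1 this
      simp only [Prod.mk.injEq] at h'
      have h'' := en.injective h'.1
      simp only [Fin.mk.injEq] at h''
      exact ⟨h''.symm, h'.2⟩
    · rintro ⟨rfl, rfl⟩
      exact hone _
  · obtain ⟨⟨a, σ⟩, ha⟩ := hf.2 ⟨μ, hμ⟩
    refine ⟨(en.symm a).1, (en.symm a).2, σ, ?_⟩
    simp only [dif_pos (en.symm a).2, Fin.eta, Equiv.apply_symm_apply]
    exact (congrArg Subtype.val ha).symm

variable {M : Ideal AlgInt} {p : ℕ} {ι : Type*} [Fintype ι]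

/-- Representatives of the orbits on the nontrivial linear characters. -/
def IsReps (m : ℕ) (R : ℕ → (A →* ℂˣ)) : Prop :=
  1 ≤ m ∧ Nat.card E * m = Nat.card A - 1 ∧ (∀ i < m, R i ≠ 1) ∧
    (∀ i < m, ∀ j < m, ∀ σ : E, (R j).comp (σ : MulAut A).toMonoidHom = R i ↔ i = j ∧ σ = 1) ∧
    (∀ μ : A →* ℂˣ, μ ≠ 1 → ∃ i < m, ∃ σ : E, μ = (R i).comp (σ : MulAut A).toMonoidHom)

open scoped Classical in
set_option maxHeartbeats 1000000 in
/-- The integral vectors of given representatives, with the inversion. -/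
theorem vectors_of_reps (hM : IsPModular p M) (hA : IsPGroup p A) (hcomm : ∀ y z : A, y * z = z * y)
    (hA1 : ∃ z : A, z ≠ 1) (hfree : ∀ σ ∈ E, σ ≠ 1 → ∀ z, σ z = z → z = 1) (H : ι → A → ℂ)
    (hext : ∀ χ, ExtOff M (H χ)) (hgal : ∀ χ, GalEquiv (offOne (H χ)))
    (hint : ∀ χ, ∀ z, z ≠ 1 → IsIntegral ℤ (H χ z))
    (hinv : ∀ χ, ∀ σ : E, ∀ z, z ≠ 1 → H χ ((σ : MulAut A) z) = H χ z)
    (horth : ∀ z z', z ≠ 1 → z' ≠ 1 → ∑ χ, H χ z * conj (H χ z') =
      (Nat.card A : ℂ) * ∑ σ : E, if (σ : MulAut A) z = z' then 1 else 0)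
    (hne : ∀ χ, ∃ z, z ≠ 1 ∧ H χ z ≠ 0)
    {m : ℕ} {R : ℕ → (A →* ℂˣ)} (hR : IsReps E m R) :
    ∃ U : ℕ → ι → ℤ,
      (∀ i ≤ m - 1, ∀ j ≤ m - 1, ∑ χ, U i χ * U j χ = (Nat.card E : ℤ) + if i = j then 1 else 0) ∧
      (∀ χ, ∃ i ≤ m - 1, U i χ ≠ 0) ∧
      (∀ c : ι → ℂ, (∀ z, z ≠ 1 → ∑ χ, c χ * H χ z = 0) → ∀ i, ∑ χ, c χ * (U i χ : ℂ) = 0) ∧
      ∀ χ, ∀ w, w ≠ 1 → H χ w =
        ∑ i : Fin m, (U i χ : ℂ) * ∑ σ : E, ((R i ((σ : MulAut A) w) : ℂˣ) : ℂ) := by
  haveI := finite_hom_units A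
  letI := Fintype.ofFinite (A →* ℂˣ)
  obtain ⟨hm1, hcard, hR1, hRij, hRall⟩ := hR
  set q : ℂ := (Nat.card A : ℂ) with hq
  have hq0 : q ≠ 0 := Nat.cast_ne_zero.mpr Nat.card_pos.ne'
  choose U hU using fun (μ : A →* ℂˣ) χ => exists_int_inner hM hA (hext χ) (hgal χ) (hint χ) μ
  let F : ι → A → ℂ := fun χ => offOne (H χ)
  let L : (A →* ℂˣ) → A → ℂ := fun μ z => conj ((μ z : ℂˣ) : ℂ) - 1
  have hL1 : ∀ μ, L μ 1 = 0 := fun μ => by simp [L]
  have hUF : ∀ μ χ, q * (U μ χ : ℂ) = ∑ z, F χ z * L μ z := fun μ χ => by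
    rw [← hU μ χ, ← mul_assoc, mul_inv_cancel₀ hq0, one_mul]
  have horth' : ∀ (μ ν : A →* ℂˣ) z w, L μ z * conj (L ν w) * ∑ χ, F χ z * conj (F χ w) =
      L μ z * conj (L ν w) * (q * ∑ σ : E, if (σ : MulAut A) z = w then 1 else 0) := by
    intro μ ν z w
    by_cases hz : z = 1
    · simp [hz, hL1]
    by_cases hw : w = 1
    · simp [hw, hL1]
    congr 1
    rw [← horth z w hz hw]
    exact Finset.sum_congr rfl fun χ _ => by simp only [F, offOne_ne _ hz, offOne_ne _ hw]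
  have hgram : ∀ i < m, ∀ j < m, ∑ χ, U (R i) χ * U (R j) χ = (Nat.card E : ℤ) + if i = j then 1 else 0 := by
    intro i hi j hj
    have key : q ^ 2 * ((∑ χ, U (R i) χ * U (R j) χ : ℤ) : ℂ) =
        q ^ 2 * (((Nat.card E : ℤ) + if i = j then 1 else 0 : ℤ) : ℂ) := by
      have e1 : q ^ 2 * ((∑ χ, U (R i) χ * U (R j) χ : ℤ) : ℂ) =
          ∑ χ, (∑ z, F χ z * L (R i) z) * conj (∑ w, F χ w * L (R j) w) := by
        rw [Int.cast_sum, Finset.mul_sum]
        refine Finset.sum_congr rfl fun χ _ => ?_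
        rw [← hUF, ← hUF, map_mul, map_intCast, hq, map_natCast]
        push_cast
        ring
      have e2 : ∑ χ, (∑ z, F χ z * L (R i) z) * conj (∑ w, F χ w * L (R j) w) =
          ∑ z, ∑ w, L (R i) z * conj (L (R j) w) * ∑ χ, F χ z * conj (F χ w) := by
        rw [Finset.sum_congr rfl fun χ _ => by rw [map_sum, Finset.sum_mul_sum]]
        simp only [Finset.mul_sum]
        rw [Finset.sum_comm]
        refine Finset.sum_congr rfl fun z _ => ?_
        rw [Finset.sum_comm]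
        exact Finset.sum_congr rfl fun w _ => Finset.sum_congr rfl fun χ _ => by rw [map_mul]; ring
      have e3 : ∀ σ : E, ∑ z, L (R i) z * conj (L (R j) ((σ : MulAut A) z)) =
          q * (1 + if i = j ∧ σ = 1 then 1 else 0) := by
        intro σ
        set μ := (R j).comp (σ : MulAut A).toMonoidHom with hμ
        have hμ1 : μ ≠ 1 := by
          intro h
          refine hR1 j hj (MonoidHom.ext fun z => ?_)
          have := DFunLike.congr_fun h ((σ : MulAut A).symm z)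
          simpa [hμ] using this
        have he : ∀ z, L (R i) z * conj (L (R j) ((σ : MulAut A) z)) =
            ((((R i)⁻¹ * μ) z : ℂˣ) : ℂ) - (((R i)⁻¹ z : ℂˣ) : ℂ) - ((μ z : ℂˣ) : ℂ) + 1 := by
          intro z
          simp only [L, map_sub, map_one, Complex.conj_conj]
          rw [conj_lin, map_inv]
          simp only [MonoidHom.mul_apply, MonoidHom.inv_apply, Units.val_mul, hμ, MonoidHom.comp_apply,
            MulEquiv.coe_toMonoidHom]
          ring
        rw [Finset.sum_congr rfl fun z _ => he z, Finset.sum_add_distrib, Finset.sum_sub_distrib,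
          Finset.sum_sub_distrib, sum_lin, sum_lin, sum_lin, if_neg (fun h : (R i)⁻¹ = 1 => hR1 i hi (MonoidHom.ext fun z => inv_eq_one.mp (DFunLike.congr_fun h z))), if_neg hμ1]
        have hiff : (R i)⁻¹ * μ = 1 ↔ i = j ∧ σ = 1 := by
          rw [← hRij i hi j hj σ]
          exact ⟨fun h => MonoidHom.ext fun z => (inv_mul_eq_one.mp (DFunLike.congr_fun h z)).symm,
            fun h => MonoidHom.ext fun z => inv_mul_eq_one.mpr (DFunLike.congr_fun h z).symm⟩
        simp only [hiff, Finset.sum_const, Finset.card_univ, nsmul_eq_mul, mul_one, sub_zero,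
          ← Nat.card_eq_fintype_card]
        split_ifs <;> ring
      rw [e1, e2, Finset.sum_congr rfl fun z _ => Finset.sum_congr rfl fun w _ => horth' (R i) (R j) z w]
      simp only [Finset.mul_sum, mul_ite, mul_one, mul_zero]
      rw [Finset.sum_congr rfl fun z _ => Finset.sum_comm, Finset.sum_comm]
      simp only [Finset.sum_ite_eq, Finset.mem_univ, if_true, ← Finset.sum_mul, e3]
      rw [← Finset.mul_sum, Finset.sum_add_distrib]
      simp only [Finset.sum_const, Finset.card_univ, nsmul_eq_mul, mul_one, ← Nat.card_eq_fintype_card,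
        ite_and, Finset.sum_ite_irrel, Finset.sum_ite_eq', Finset.mem_univ, if_true]
      push_cast
      split_ifs <;> ring
    exact_mod_cast mul_left_cancel₀ (pow_ne_zero 2 hq0) key
  have hsupp : ∀ χ, ∃ i ≤ m - 1, U (R i) χ ≠ 0 := by
    intro χ
    by_contra h0
    push Not at h0
    have hall : ∀ μ : A →* ℂˣ, ∑ z, F χ z * L μ z = 0 := by
      intro μ
      by_cases hμ : μ = 1
      · simp [hμ, L]
      obtain ⟨i, hi, σ, rfl⟩ := hRall μ hμ
      have h1 : ∑ z, F χ z * L (R i) z = 0 := by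
        rw [← hUF, h0 i (by omega), Int.cast_zero, mul_zero]
      refine Eq.trans ?_ h1
      refine Fintype.sum_equiv (σ : MulAut A).toEquiv _ _ fun z => ?_
      show F χ z * L _ z = F χ ((σ : MulAut A) z) * L (R i) ((σ : MulAut A) z)
      congr 1
      by_cases hz : z = 1
      · simp [hz]
      · simp only [F]
        rw [offOne_ne _ hz, offOne_ne _ (fun h => hz (by simpa using h)), hinv χ σ z hz]
    obtain ⟨w, hw, hHw⟩ := hne χ
    refine hHw ?_
    have h2 : ∑ μ : A →* ℂˣ, ((μ w : ℂˣ) : ℂ) * ∑ z, F χ z * L μ z = 0 := by simp [hall]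
    have h3 : ∑ μ : A →* ℂˣ, ((μ w : ℂˣ) : ℂ) * ∑ z, F χ z * L μ z =
        ∑ z, F χ z * ((if w * z⁻¹ = 1 then q else 0) - (if w = 1 then q else 0)) := by
      simp only [Finset.mul_sum]
      rw [Finset.sum_comm]
      refine Finset.sum_congr rfl fun z _ => ?_
      rw [← sum_hom_apply hcomm, ← sum_hom_apply hcomm, ← Finset.sum_sub_distrib, Finset.mul_sum]
      refine Finset.sum_congr rfl fun μ _ => ?_
      simp only [L]
      rw [conj_lin, map_mul, Units.val_mul]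
      ring
    rw [h2] at h3
    simp only [if_neg hw, sub_zero, mul_ite, mul_zero, mul_inv_eq_one, Finset.sum_ite_eq, Finset.mem_univ,
      if_true, F, offOne_ne _ hw] at h3
    exact (mul_eq_zero.mp h3.symm).resolve_right hq0
  refine ⟨fun i χ => U (R i) χ, fun i hi j hj => hgram i (by omega) j (by omega), hsupp,
    fun c hc i => mul_left_cancel₀ hq0 ?_, fun χ w hw => mul_left_cancel₀ hq0 ?_⟩
  swap
  · have h3 : ∑ μ : A →* ℂˣ, ((μ w : ℂˣ) : ℂ) * ∑ z, F χ z * L μ z = q * H χ w := by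
      simp only [Finset.mul_sum]
      rw [Finset.sum_comm, Finset.sum_eq_single w]
      · rw [Finset.sum_congr rfl (g := fun μ : A →* ℂˣ => F χ w * (1 - ((μ w : ℂˣ) : ℂ))) fun μ _ => by
          simp only [L, conj_lin]
          have : ((μ w : ℂˣ) : ℂ) * ((μ w⁻¹ : ℂˣ) : ℂ) = 1 := by
            rw [← Units.val_mul, ← map_mul, mul_inv_cancel, map_one, Units.val_one]
          linear_combination (F χ w) * this, ← Finset.mul_sum, Finset.sum_sub_distrib, sum_hom_apply hcomm,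
          if_neg hw, sub_zero]
        simp only [F, offOne_ne _ hw, hq, Finset.sum_const, Finset.card_univ, nsmul_eq_mul, mul_one]
        rw [mul_comm]
        congr 1
        have h1 := sum_hom_apply hcomm (1 : A)
        simp only [map_one, Units.val_one, Finset.sum_const, Finset.card_univ, nsmul_eq_mul, mul_one, if_true] at h1
        exact h1
      · intro z _ hzw
        rw [Finset.sum_congr rfl (g := fun μ : A →* ℂˣ =>
          F χ z * (((μ (w * z⁻¹) : ℂˣ) : ℂ) - ((μ w : ℂˣ) : ℂ))) fun μ _ => by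
            simp only [L, conj_lin, map_mul, Units.val_mul]; ring, ← Finset.mul_sum, Finset.sum_sub_distrib,
          sum_hom_apply hcomm, sum_hom_apply hcomm,
          if_neg (fun h => hzw (mul_inv_eq_one.mp h).symm), if_neg hw, sub_zero, mul_zero]
      · simp
    rw [← h3]
    simp only [← hUF]
    rw [← Finset.add_sum_erase _ _ (Finset.mem_univ (1 : A →* ℂˣ)),
      show q * (U 1 χ : ℂ) = 0 by rw [hUF]; simp [L], mul_zero, zero_add, Finset.mul_sum]
    simp only [Finset.mul_sum]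
    rw [← Finset.sum_product']
    symm
    refine Finset.sum_bij (fun iσ _ => (R iσ.1).comp (iσ.2 : MulAut A).toMonoidHom) (fun iσ _ => ?_) ?_ ?_
      fun iσ _ => ?_
    · refine Finset.mem_erase.mpr ⟨fun h => hR1 iσ.1 iσ.1.2 (MonoidHom.ext fun z => ?_), Finset.mem_univ _⟩
      have := DFunLike.congr_fun h ((iσ.2 : MulAut A).symm z)
      simpa using this
    · rintro ⟨i, σ⟩ _ ⟨j, τ⟩ _ h
      have h' : (R j).comp ((τ * σ⁻¹ : E) : MulAut A).toMonoidHom = R i := by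
        refine MonoidHom.ext fun z => ?_
        have := DFunLike.congr_fun h ((σ : MulAut A).symm z)
        simp only [MonoidHom.comp_apply, MulEquiv.coe_toMonoidHom, MulEquiv.apply_symm_apply] at this
        exact this.symm
      obtain ⟨hij, hστ⟩ := (hRij i i.2 j j.2 _).mp h'
      exact Prod.ext (Fin.ext hij) (mul_inv_eq_one.mp hστ).symm
    · intro μ hμ
      obtain ⟨i, hi, σ, rfl⟩ := hRall μ (Finset.mem_erase.mp hμ).1
      exact ⟨(⟨i, hi⟩, σ), Finset.mem_product.mpr ⟨Finset.mem_univ _, Finset.mem_univ _⟩, rfl⟩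
    · have hinvU : q * (U ((R iσ.1).comp (iσ.2 : MulAut A).toMonoidHom) χ : ℂ) = q * (U (R iσ.1) χ : ℂ) := by
        rw [hUF, hUF]
        refine Fintype.sum_equiv (iσ.2 : MulAut A).toEquiv _ _ fun z => ?_
        show F χ z * L _ z = F χ ((iσ.2 : MulAut A) z) * L (R iσ.1) ((iσ.2 : MulAut A) z)
        congr 1
        by_cases hz : z = 1
        · simp [hz]
        · simp only [F]
          rw [offOne_ne _ hz, offOne_ne _ (fun h => hz (by simpa using h)), hinv χ iσ.2 z hz]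
      show q * ((U (R iσ.1) χ : ℂ) * (((R iσ.1) ((iσ.2 : MulAut A) w) : ℂˣ) : ℂ)) =
        (((R iσ.1) ((iσ.2 : MulAut A) w) : ℂˣ) : ℂ) * (q * (U ((R iσ.1).comp (iσ.2 : MulAut A).toMonoidHom) χ : ℂ))
      rw [hinvU]
      ring
  rw [mul_zero, Finset.mul_sum]
  simp only [mul_left_comm q, hUF, Finset.mul_sum]
  rw [Finset.sum_comm]
  refine Finset.sum_eq_zero fun z _ => ?_
  by_cases hz : z = 1
  · simp [hz, hL1]
  · simp only [F, offOne_ne _ hz, ← mul_assoc, ← Finset.sum_mul, hc z hz, zero_mul]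

open scoped Classical in
/-- The integral vectors. -/
theorem exists_vectors (hM : IsPModular p M) (hA : IsPGroup p A) (hcomm : ∀ y z : A, y * z = z * y)
    (hA1 : ∃ z : A, z ≠ 1) (hfree : ∀ σ ∈ E, σ ≠ 1 → ∀ z, σ z = z → z = 1) (H : ι → A → ℂ)
    (hext : ∀ χ, ExtOff M (H χ)) (hgal : ∀ χ, GalEquiv (offOne (H χ)))
    (hint : ∀ χ, ∀ z, z ≠ 1 → IsIntegral ℤ (H χ z))
    (hinv : ∀ χ, ∀ σ : E, ∀ z, z ≠ 1 → H χ ((σ : MulAut A) z) = H χ z)
    (horth : ∀ z z', z ≠ 1 → z' ≠ 1 → ∑ χ, H χ z * conj (H χ z') =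
      (Nat.card A : ℂ) * ∑ σ : E, if (σ : MulAut A) z = z' then 1 else 0)
    (hne : ∀ χ, ∃ z, z ≠ 1 ∧ H χ z ≠ 0) :
    ∃ (m : ℕ) (U : ℕ → ι → ℤ), 1 ≤ m ∧ Nat.card E * m = Nat.card A - 1 ∧
      (∀ i ≤ m - 1, ∀ j ≤ m - 1, ∑ χ, U i χ * U j χ = (Nat.card E : ℤ) + if i = j then 1 else 0) ∧
      (∀ χ, ∃ i ≤ m - 1, U i χ ≠ 0) ∧
      ∀ c : ι → ℂ, (∀ z, z ≠ 1 → ∑ χ, c χ * H χ z = 0) → ∀ i, ∑ χ, c χ * (U i χ : ℂ) = 0 := by
  obtain ⟨m, R, hR⟩ := exists_reps E hcomm hA1 hfree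
  obtain ⟨U, h1, h2, h3, -⟩ := vectors_of_reps E hM hA hcomm hA1 hfree H hext hgal hint hinv horth hne hR
  exact ⟨m, U, hR.1, hR.2.1, h1, h2, h3⟩

open scoped Classical in
/-- The bound, with the small cases. -/
theorem star_bound (hM : IsPModular p M) (hA : IsPGroup p A) (hcomm : ∀ y z : A, y * z = z * y)
    (hA1 : ∃ z : A, z ≠ 1) (hfree : ∀ σ ∈ E, σ ≠ 1 → ∀ z, σ z = z → z = 1) (H : ι → A → ℂ)
    (hext : ∀ χ, ExtOff M (H χ)) (hgal : ∀ χ, GalEquiv (offOne (H χ)))
    (hint : ∀ χ, ∀ z, z ≠ 1 → IsIntegral ℤ (H χ z))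
    (hinv : ∀ χ, ∀ σ : E, ∀ z, z ≠ 1 → H χ ((σ : MulAut A) z) = H χ z)
    (horth : ∀ z z', z ≠ 1 → z' ≠ 1 → ∑ χ, H χ z * conj (H χ z') =
      (Nat.card A : ℂ) * ∑ σ : E, if (σ : MulAut A) z = z' then 1 else 0)
    (hne : ∀ χ, ∃ z, z ≠ 1 ∧ H χ z ≠ 0) :
    ∃ m : ℕ, 1 ≤ m ∧ Nat.card E * m = Nat.card A - 1 ∧ Nat.card ι ≤ Nat.card E + m ∧
      (Nat.card E ≤ 3 → m < Nat.card ι → Nat.card ι = Nat.card E + m ∨
        (Nat.card E = 2 ∧ Nat.card A = 7 ∧ Nat.card ι = 4) ∨ (Nat.card E = 3 ∧ Nat.card A = 13 ∧ Nat.card ι = 5)) := by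
  obtain ⟨m, U, hm1, hcard, hgram', hsupp, -⟩ := exists_vectors E hM hA hcomm hA1 hfree H hext hgal hint hinv horth hne
  refine ⟨m, hm1, hcard, ?_, fun he3 hk => ?_⟩
  · have := FreeLattice.card_le (m - 1) (Nat.card E) U hgram' hsupp
    rw [Nat.card_eq_fintype_card (α := ι)]
    omega
  · rw [Nat.card_eq_fintype_card (α := ι)] at hk ⊢
    rcases FreeLattice.card_eq (m - 1) (Nat.card E) U hgram' hsupp he3 (by omega) with
      h | ⟨he, hn, hk'⟩ | ⟨he, hn⟩ | ⟨he, hn, hk'⟩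
    · exact Or.inl (by omega)
    · rw [he, show m = 3 by omega] at hcard
      exact Or.inr (Or.inl ⟨he, by omega, hk'⟩)
    · exfalso
      rw [he, show m = 3 by omega] at hcard
      have h10 : Nat.card A = 10 := by omega
      haveI := Fact.mk hM.1
      obtain ⟨a, ha⟩ := IsPGroup.iff_card.mp hA
      rw [h10] at ha
      rcases (Nat.prime_two.eq_one_or_self_of_dvd (Nat.gcd p 2) (Nat.gcd_dvd_right _ _)) with h | h
      · have h2 : 2 ∣ p ^ a := ⟨5, by omega⟩
        have : Nat.Coprime 2 (p ^ a) := (Nat.Coprime.symm h).pow_right a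
        exact absurd (this.eq_one_of_dvd h2) (by norm_num)
      · have h2 : p = 2 := ((Nat.prime_dvd_prime_iff_eq Nat.prime_two hM.1).mp (h ▸ Nat.gcd_dvd_left _ _)).symm
        subst h2
        rcases a with _ | _ | _ | _ | a
        all_goals first | omega | (rw [pow_succ, pow_succ, pow_succ, pow_succ] at ha; omega)
    · rw [he, show m = 4 by omega] at hcard
      exact Or.inr (Or.inr ⟨he, by omega, hk'⟩)

end Cfsg.Agent.Char.StarVectors
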