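import Cfsg.Agent.Lib.Char.StarEdges
import Cfsg.Agent.Lib.Char.StarVectors
import Cfsg.Agent.Lib.Char.LocalSpanTwo
import Cfsg.Agent.Lib.Char.MajorSubsection

/-!
# The orthogonal family of an abelian defect group with free inertial quotient

The traces on the sections, divided by the signed multiplicities, give an equivariant orthogonal family of
functions extending off the identity; hence the bound on the number of characters.
-/

set_option autoImplicit false
set_option linter.unusedSectionVars false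
set_option linter.style.haveILetI false

namespace Cfsg.Agent.Char.StarFamily

open Cfsg Module IdemAlg IdemSub LocalSpan StarLevels
open scoped ComplexConjugate

universe u

variable {G : Type u} [Group G] [Fintype G] {M : Ideal AlgInt} {p : ℕ}

open scoped Classical in
/-- A character of a block is not zero on a major section with one Brauer character. -/
theorem sum_ne_zero (hM : IsPModular p M) {B : Set (IrrCharacter G)} {z : G} (hz : ∃ k : ℕ, orderOf z = p ^ k)
    {K : Subgroup G} (hK : K = Subgroup.centralizer ({z} : Set G)) [Fintype K] {f : Set (IrrCharacter K)}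
    {κ : OA (pmod_prime hM) K} {m : ℕ} (hm : m ≠ 0) (hind : IsInducedBlock M K f B)
    (hd : blockDefect p f = blockDefect p B)
    (hreg : ∀ ξ ∈ f, ∀ θ ∈ f, ∀ x : K, ¬ p ∣ orderOf x → (ξ : K → ℂ) x = (θ : K → ℂ) x)
    (hin : ∀ ξ ∈ f, trC (ξ : K → ℂ) κ = m) (hout : ∀ ξ, ξ ∉ f → trC (ξ : K → ℂ) κ = 0) (hzK : z ∈ K)
    {χ : IrrCharacter G} (hχ : χ ∈ B) :
    trC (χ : G → ℂ) (gen (pmod_prime hM) (K.subtype ⟨z, hzK⟩) * push K.subtype κ) ≠ 0 := by
  subst hK
  have hP := pmod_prime hM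
  obtain ⟨k, hk⟩ := hz
  have hcent : ∀ c : (Subgroup.centralizer ({z} : Set G)), (⟨z, hzK⟩ : (Subgroup.centralizer ({z} : Set G))) * c = c * ⟨z, hzK⟩ := fun c =>
    Subtype.ext (Subgroup.mem_centralizer_singleton_iff.mp c.2).symm
  choose ζ hζ1 hζ using fun η : IrrCharacter (Subgroup.centralizer ({z} : Set G)) => exists_central_root hcent η
  have hζk : ∀ η, ζ η ^ p ^ k = 1 := fun η => by
    rw [← hk, ← Subgroup.orderOf_mk z hzK]
    exact hζ1 η
  have hval : ∀ χ : IrrCharacter G, trC (χ : G → ℂ) (gen hP ((Subgroup.centralizer ({z} : Set G)).subtype ⟨z, hzK⟩) * push (Subgroup.centralizer ({z} : Set G)).subtype κ) =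
      (m : ℂ) * ∑ η : IrrCharacter (Subgroup.centralizer ({z} : Set G)) with η ∈ f, (mRes z χ η : ℂ) * ζ η := by
    intro χ
    rw [trC_edge, show (fun h : (Subgroup.centralizer ({z} : Set G)) => (χ : G → ℂ) ((Subgroup.centralizer ({z} : Set G)).subtype h)) = ∑ η, mRes z χ η • (η : (Subgroup.centralizer ({z} : Set G)) → ℂ) from mRes_spec χ,
      trC_fun_sum, Finset.mul_sum, Finset.sum_filter]
    refine Finset.sum_congr rfl fun η _ => ?_
    have e : trC (η : (Subgroup.centralizer ({z} : Set G)) → ℂ) (gen hP ⟨z, hzK⟩ * κ) = ζ η * trC (η : (Subgroup.centralizer ({z} : Set G)) → ℂ) κ := by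
      rw [trC_gen_mul]
      simp only [trC, Finset.mul_sum]
      exact Finset.sum_congr rfl fun h _ => by rw [hζ η h]; ring
    rw [e]
    split_ifs with h
    · rw [hin η h]; ring
    · rw [hout η h, mul_zero, mul_zero]
  intro h0
  obtain ⟨χ0, hχ0, hh0⟩ := exists_height_zero (p := p) (block_nonempty hP hind.2.1)
  obtain ⟨w, -, hw, hwiff⟩ := MajorSub.major_unit hζ hζk hM hk hind hd hχ hχ0
  obtain ⟨η0, hη0⟩ := block_nonempty hP hind.1
  have hconst : ∀ η ∈ f, ∀ θ ∈ f, wI p f η θ = wI p f η0 η0 := by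
    intro η hη θ hθ
    have e : einner p (η : (Subgroup.centralizer ({z} : Set G)) → ℂ) (θ : (Subgroup.centralizer ({z} : Set G)) → ℂ) = einner p (η0 : (Subgroup.centralizer ({z} : Set G)) → ℂ) (η0 : (Subgroup.centralizer ({z} : Set G)) → ℂ) := by
      rw [MajorSub.einner_eq_avg, MajorSub.einner_eq_avg]
      refine congrArg _ (Finset.sum_congr rfl fun s hs => ?_)
      rw [hreg η hη η0 hη0 s (Finset.mem_filter.mp hs).2, hreg θ hθ η0 hη0 s (Finset.mem_filter.mp hs).2]
    have hz : zI p η θ = zI p η0 η0 := by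
      have : (zI p η θ : ℂ) = (zI p η0 η0 : ℂ) := by rw [zI_spec hM.1, zI_spec hM.1, e]
      exact_mod_cast this
    rw [wI, wI, hz]
  have hctr : ctr p f ζ χ χ0 = (wI p f η0 η0 : ℂ) * (∑ η : IrrCharacter (Subgroup.centralizer ({z} : Set G)) with η ∈ f, (mRes z χ η : ℂ) * ζ η) *
      ∑ θ : IrrCharacter (Subgroup.centralizer ({z} : Set G)) with θ ∈ f, (mRes z χ0 θ : ℂ) * (ζ θ)⁻¹ := by
    rw [ctr, mul_assoc, Finset.sum_mul_sum, Finset.mul_sum]
    refine Finset.sum_congr rfl fun η hη => ?_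
    rw [Finset.mul_sum]
    refine Finset.sum_congr rfl fun θ hθ => ?_
    rw [hconst η (Finset.mem_filter.mp hη).2 θ (Finset.mem_filter.mp hθ).2]
    ring
  rw [hval χ, mul_eq_zero, or_iff_right (Nat.cast_ne_zero.mpr hm)] at h0
  rw [hctr, h0, mul_zero, zero_mul] at hw
  have hw0 : w = 0 := (mul_eq_zero.mp hw.symm).resolve_left (pow_ne_zero _ (Nat.cast_ne_zero.mpr hM.1.ne_zero))
  exact (hwiff.mp (hw0 ▸ memLI_zero hP)) hh0

/-- Composition with an automorphism. -/
theorem intComb_comp {A : Type u} [Group A] [Fintype A] {x : A → ℂ} (hx : IntComb M x) (σ : MulAut A) :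
    IntComb M fun z => x (σ z) := by
  refine ⟨fun z k => ?_, fun χ => ?_⟩
  · show x (σ (k * z * k⁻¹)) = x (σ z)
    rw [map_mul, map_mul, map_inv, hx.1]
  · have e : classInner (fun z => x (σ z)) (χ : A → ℂ) =
        classInner x (irrTransport (σ.symm : A ≃* A) χ : A → ℂ) := by
      simp only [classInner]
      congr 1
      exact Fintype.sum_equiv σ.toEquiv _ _ fun z => by simp [irrTransport_apply]
    rw [e]
    exact hx.2 _

theorem extOff_comp {A : Type u} [Group A] [Fintype A] {f : A → ℂ} (hf : ExtOff M f) (σ : MulAut A) :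
    ExtOff M fun z => f (σ z) := by
  obtain ⟨x, hx, hxf⟩ := hf
  exact ⟨_, intComb_comp hx σ, fun z hz => hxf _ fun h => hz (by simpa using h)⟩

theorem extOff_one (hP : M.IsPrime) {A : Type u} [Group A] [Fintype A] : ExtOff M (1 : A → ℂ) :=
  extOff_of_intComb (intComb_char hP (irr_isCharacter isIrrCharacter_one))

theorem extOff_prod (hP : M.IsPrime) {A : Type u} [Group A] [Fintype A] {κ : Type*} (s : Finset κ)
    (f : κ → A → ℂ) (h : ∀ i ∈ s, ExtOff M (f i)) : ExtOff M (∏ i ∈ s, f i) := by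
  classical
  induction s using Finset.induction_on with
  | empty => exact extOff_one hP
  | insert b s hb ih =>
    rw [Finset.prod_insert hb]
    exact extOff_mul hP (h b (Finset.mem_insert_self b s)) (ih fun i hi => h i (Finset.mem_insert_of_mem hi))

open scoped Classical in
/-- The signs making the squares of the multiplicities into squares of extensions. -/
theorem exists_signs {A : Type u} [Group A] [Fintype A] (hM : IsPModular p M) (hA : IsPGroup p A)
    (hcomm : ∀ y z : A, y * z = z * y) {z0 : A} (hz0 : z0 ≠ 1) (ms : Subgroup A → ℕ)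
    (hunit : ∀ R, R ≠ ⊥ → ¬ p ∣ ms R)
    (hR : ∀ R : Subgroup A, R ≠ ⊥ → ∃ G0 : A → ℂ, IsCharacter A G0 ∧ ∀ z,
      IsIntegral ℤ (G0 z / (ms (R ⊔ Subgroup.zpowers z) : ℂ)) ∧
      G0 z * conj (G0 z) = (ms (R ⊔ Subgroup.zpowers z) : ℂ) ^ 2) :
    ∃ s : A → ℤ, (∀ z, s z = 1 ∨ s z = -1) ∧
      (∀ z, ∀ k : ℕ, k.Coprime (Nat.card A) → s (z ^ k) = s z) ∧
      ExtOff M fun z => (s z : ℂ) * (ms (Subgroup.zpowers z) : ℂ) := by
  have hP := pmod_prime hM
  have hp := hM.1
  haveI := Fact.mk hp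
  have hzp : ∀ z : A, ∀ k : ℕ, k.Coprime (Nat.card A) → Subgroup.zpowers (z ^ k) = Subgroup.zpowers z := by
    intro z k hk
    refine le_antisymm (Subgroup.zpowers_le.mpr (Subgroup.pow_mem _ (Subgroup.mem_zpowers _) k))
      (Subgroup.zpowers_le.mpr ?_)
    obtain ⟨j, hj⟩ := exists_pow_eq_self_of_coprime (hk.coprime_dvd_right (orderOf_dvd_natCard z))
    exact Subgroup.mem_zpowers_iff.mpr ⟨(j : ℤ), by rw [zpow_natCast]; exact hj⟩
  have hne : ∀ R : Subgroup A, R ≠ ⊥ → ∀ z, R ⊔ Subgroup.zpowers z ≠ ⊥ := fun R hR z h =>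
    hR (le_bot_iff.mp (h ▸ le_sup_left))
  by_cases hp2 : p = 2
  · subst hp2
    let w : ℕ → ℤ := fun n => if (4 : ℤ) ∣ (n : ℤ) - 1 then 1 else -1
    have hfour : ∀ n : ℕ, four (n : ℤ) = w n * (n : ℤ) := fun n => by
      simp only [four, w]; split_ifs <;> ring
    refine ⟨fun z => w (ms (Subgroup.zpowers z)), fun z => by simp only [w]; split_ifs <;> simp,
      fun z k hk => by simp only [hzp z k hk], ?_⟩
    have hE : ∀ R : Subgroup A, R ≠ ⊥ →
        ExtOff M fun z => ((four (ms (R ⊔ Subgroup.zpowers z) : ℤ) : ℤ) : ℂ) := by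
      intro R hR'
      obtain ⟨G0, hG0, hG⟩ := hR R hR'
      refine extOff_four hM hA hcomm hG0 (fun z => (ms (R ⊔ Subgroup.zpowers z) : ℤ)) (fun z _ => ?_)
        (fun z _ => by push_cast; exact (hG z).2) (fun z _ => by push_cast; exact (hG z).1)
      exact (Int.odd_coe_nat _).mpr (Nat.not_even_iff_odd.mp fun h => hunit _ (hne R hR' z) h.two_dvd)
    have h := extOff_glue hP (fun R : Subgroup A => ((four (ms R : ℤ) : ℤ) : ℂ)) hE
    refine extOff_congr h fun z _ => ?_
    simp [hfour]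
  · have hsq : ExtOff M fun z => (ms (Subgroup.zpowers z) : ℂ) ^ 2 := by
      refine extOff_glue hP (fun R : Subgroup A => (ms R : ℂ) ^ 2) fun R hR' => ?_
      obtain ⟨G0, hG0, hG⟩ := hR R hR'
      exact extOff_congr (extOff_of_intComb (intComb_mul hP (intComb_char hP hG0)
        (intComb_char hP (isCharacter_conj hG0)))) fun z _ => (hG z).2
    set c : ℤ := (ms (Subgroup.zpowers z0) : ℤ) with hc
    have hcu : ¬ (p : ℤ) ∣ c := by
      rw [hc, Int.natCast_dvd_natCast]
      exact hunit _ (Subgroup.zpowers_ne_bot.mpr hz0)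
    let w : ℕ → ℤ := fun n => if (p : ℤ) ∣ (n : ℤ) - c then 1 else -1
    refine ⟨fun z => w (ms (Subgroup.zpowers z)), fun z => by simp only [w]; split_ifs <;> simp,
      fun z k hk => by simp only [hzp z k hk], ?_⟩
    have hdvd : ∀ z, z ≠ 1 → (p : ℤ) ∣ w (ms (Subgroup.zpowers z)) * (ms (Subgroup.zpowers z) : ℤ) - c := by
      intro z hz
      simp only [w]
      split_ifs with h
      · rwa [one_mul]
      · obtain ⟨x, hx, hxf⟩ := hsq
        have h1 : MemLocalIdeal M (((ms (Subgroup.zpowers z) : ℤ) ^ 2 - c ^ 2 : ℤ) : ℂ) := by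
          push_cast
          rw [hc, Int.cast_natCast, ← show x z = (ms (Subgroup.zpowers z) : ℂ) ^ 2 from hxf z hz,
            ← show x z0 = (ms (Subgroup.zpowers z0) : ℂ) ^ 2 from hxf z0 hz0]
          exact memLI_trans hP (intComb_congr_one hM hA hx z) (memLI_symm hP (intComb_congr_one hM hA hx z0))
        rw [memLI_intCast_iff hM, sq_sub_sq] at h1
        rcases (Nat.prime_iff_prime_int.mp hp).dvd_or_dvd h1 with h' | h'
        · rw [show -1 * (ms (Subgroup.zpowers z) : ℤ) - c = -((ms (Subgroup.zpowers z) : ℤ) + c) by ring]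
          exact h'.neg_right
        · exact absurd h' h
    refine extOff_congr (extOff_sqrt hM hp2 hA hcomm
      (fun z => w (ms (Subgroup.zpowers z)) * (ms (Subgroup.zpowers z) : ℤ)) c hcu hdvd ?_) fun z _ => by push_cast; rfl
    refine extOff_congr hsq fun z _ => ?_
    simp only [w]
    split_ifs <;> simp

open scoped Classical in
/-- A section off the identity is orthogonal to the regular elements. -/
theorem sum_secVal_regular (hM : IsPModular p M) {B : Set (IrrCharacter G)} {D : Subgroup G}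
    {c : Set (IrrCharacter (Subgroup.centralizer (D : Set G)))} {ι : OA (pmod_prime hM) G}
    (hmax : IsMaximalBrauerPair p M B D c) (hab : ∀ x ∈ D, ∀ y ∈ D, x * y = y * x)
    (hd : LocalIdem.Data hM ι hmax.1.2.1 D c) {S : Subgroup G} [Fintype (Subgroup.centralizer (S : Set G))]
    {f : Set (IrrCharacter (Subgroup.centralizer (S : Set G)))}
    {κ : OA (pmod_prime hM) (Subgroup.centralizer (S : Set G))} {m : ℕ} (l : Level hM ι D c B S f κ m)
    {z : G} (hz : z ∈ D) (hzS : Subgroup.zpowers z = S) (hz1 : z ≠ 1) {g : G} (hg : ¬ p ∣ orderOf g) :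
    ∑ χ : IrrCharacter G, (χ : G → ℂ) g * secVal hM ι χ z = 0 := by
  subst hzS
  have hzC : ∀ h : Subgroup.centralizer (Subgroup.zpowers z : Set G), (h : G) * z = z * h := fun h =>
    (h.2 z (Subgroup.mem_zpowers z)).symm
  obtain ⟨k, hk⟩ := pElem hM hmax hab hd hz
  have hval : ∀ χ : IrrCharacter G, secVal hM ι χ z =
      ∑ h, SectionTrace.avg κ h * (χ : G → ℂ) (z * (h : G)) := fun χ => by
    obtain ⟨hzc, e⟩ := secVal_eq hM hmax hab hd l hz rfl χ
    rw [e, trC_edge, trC_gen_mul]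
    refine Eq.trans ?_ (SectionTrace.trC_eq_avg
      (f := fun h : Subgroup.centralizer (Subgroup.zpowers z : Set G) => (χ : G → ℂ) (z * (h : G))) (fun u v => ?_) κ)
    · rfl
    · show (χ : G → ℂ) (z * ((v * u * v⁻¹ : _) : G)) = _
      show _ = (χ : G → ℂ) (z * (u : G))
      rw [← isClassFunction_character (irr_isCharacter χ.2) (z * (u : G)) (v : G)]
      congr 1
      simp only [Subgroup.coe_mul, Subgroup.coe_inv, ← mul_assoc, hzC v]
  simp only [hval, Finset.mul_sum]
  rw [Finset.sum_comm]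
  refine Finset.sum_eq_zero fun h _ => ?_
  by_cases hh : p ∣ orderOf h
  · simp [SectionTrace.avg_sing hM l.idem hh]
  rw [Finset.sum_congr rfl fun χ _ => mul_left_comm _ (SectionTrace.avg κ h) _, ← Finset.mul_sum]
  have hconj : ¬ IsConj g (z * (h : G))⁻¹ := by
    intro hc
    obtain ⟨x, hx⟩ := isConj_iff.mp hc
    apply hg
    have hord : orderOf (z * (h : G))⁻¹ = orderOf g := by
      rw [← hx]
      exact (orderOf_injective (MulAut.conj x).toMonoidHom (MulAut.conj x).injective g)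
    rw [← hord, orderOf_inv, Commute.orderOf_mul_eq_mul_orderOf_of_coprime (hzC h).symm ?_, hk]
    · refine Dvd.dvd.mul_right (dvd_pow_self p ?_) _
      intro h0
      rw [h0, pow_zero, orderOf_eq_one_iff] at hk
      exact hz1 hk
    · rw [hk, Subgroup.orderOf_coe]
      exact (hM.1.coprime_iff_not_dvd.mpr hh).pow_left k
  rw [Finset.sum_congr rfl (g := fun χ : IrrCharacter G => (χ : G → ℂ) g * conj ((χ : G → ℂ) (z * (h : G))⁻¹))
    fun χ _ => by rw [char_inv (irr_isCharacter χ.2), Complex.conj_conj], second_orth, if_neg hconj, mul_zero]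

variable (hM : IsPModular p M) {B : Set (IrrCharacter G)} {D : Subgroup G}
  {c : Set (IrrCharacter (Subgroup.centralizer (D : Set G)))}
  (hmax : IsMaximalBrauerPair p M B D c) (hab : ∀ x ∈ D, ∀ y ∈ D, x * y = y * x)
  (hfree : ∀ t ∈ pairStab (pmod_prime hM) hmax.1.1.2, ∀ x ∈ D, x ≠ 1 → t * x * t⁻¹ = x →
    t ∈ Subgroup.centralizer (D : Set G))
include hmax hab hfree

open scoped Classical in
set_option maxHeartbeats 2000000 in
/-- The family, with its values as signed traces on the levels. -/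
theorem exists_family_values (hD : D ≠ ⊥) :
    ∃ (E : Subgroup (MulAut D)) (_ : Fintype E) (H : {χ // χ ∈ B} → D → ℂ),
      Nat.card E = (Subgroup.centralizer (D : Set G)).relIndex (pairStab (pmod_prime hM) hmax.1.1.2) ∧
      (∀ σ ∈ E, σ ≠ 1 → ∀ z, σ z = z → z = 1) ∧ (∀ χ, ExtOff M (H χ)) ∧ (∀ χ, GalEquiv (offOne (H χ))) ∧
      (∀ χ, ∀ z, z ≠ 1 → IsIntegral ℤ (H χ z)) ∧
      (∀ χ, ∀ σ : E, ∀ z, z ≠ 1 → H χ ((σ : MulAut D) z) = H χ z) ∧
      (∀ z z', z ≠ 1 → z' ≠ 1 → ∑ χ, H χ z * conj (H χ z') =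
        (Nat.card D : ℂ) * ∑ σ : E, if (σ : MulAut D) z = z' then 1 else 0) ∧
      (∀ χ, ∃ z, z ≠ 1 ∧ H χ z ≠ 0) ∧
      (∀ g : G, ¬ p ∣ orderOf g → ∀ z, z ≠ 1 → ∑ χ : {χ // χ ∈ B}, (χ.1 : G → ℂ) g * H χ z = 0) ∧
      ∃ (ι : OA (pmod_prime hM) G), LocalIdem.Data hM ι hmax.1.2.1 D c ∧ ∃ sg : D → ℤ,
        (∀ z, sg z = 1 ∨ sg z = -1) ∧
        ∀ [∀ S : Subgroup G, Fintype (Subgroup.centralizer (S : Set G))] (z : D), z ≠ 1 → ∃ f κ m,
          Level hM ι D c B (Subgroup.zpowers (z : G)) f κ m ∧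
            ∀ χ : {χ // χ ∈ B}, H χ z = (sg z : ℂ) * (secVal hM ι χ.1 (z : G) / (m : ℂ)) := by
  have hP := pmod_prime hM
  have hp := hM.1
  haveI := Fact.mk hp
  letI : ∀ S : Subgroup G, Fintype (Subgroup.centralizer (S : Set G)) := fun S => Fintype.ofFinite _
  obtain ⟨ι, hd⟩ := LocalIdem.exists_data hM hmax hab
  choose! f κ m hlev using fun (S : Subgroup G) (h : S ≤ D ∧ S ≠ ⊥) =>
    exists_level hM hmax hab hd hfree h.1 h.2
  -- the group of automorphisms
  set N := Subgroup.normalizer (D : Set G) with hN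
  have hTN : pairStab hP hmax.1.1.2 ≤ N := fun t ht => ((mem_pairStab hP hmax.1.1.2).mp ht).1
  set hom := D.normalizerMonoidHom with hhom
  set E : Subgroup (MulAut D) := ((pairStab hP hmax.1.1.2).subgroupOf N).map hom with hE
  haveI : Fintype E := Fintype.ofFinite _
  have hcardE : Nat.card E = (Subgroup.centralizer (D : Set G)).relIndex (pairStab hP hmax.1.1.2) := by
    rw [hE, ← Subgroup.relIndex_ker, hhom, Subgroup.normalizerMonoidHom_ker, Subgroup.relIndex_subgroupOf hTN]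
  have hhom_apply : ∀ (t : N) (z : D), ((hom t z : D) : G) = (t : G) * (z : G) * (t : G)⁻¹ := fun t z => rfl
  have hEfree : ∀ σ ∈ E, σ ≠ 1 → ∀ z, σ z = z → z = 1 := by
    rintro σ ⟨t, ht, rfl⟩ hσ z hz
    by_contra hz1
    refine hσ ?_
    have hC := hfree (t : G) ht z z.2 (fun h => hz1 (Subtype.ext h)) (by rw [← hhom_apply, hz])
    rw [← MonoidHom.mem_ker, hhom, Subgroup.normalizerMonoidHom_ker]
    exact hC
  have hiff : ∀ (z z' : D), (∃ t ∈ pairStab hP hmax.1.1.2, t * (z : G) * t⁻¹ = (z' : G)) ↔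
      ∃ σ : E, (σ : MulAut D) z = z' := by
    intro z z'
    constructor
    · rintro ⟨t, ht, h⟩
      exact ⟨⟨hom ⟨t, hTN ht⟩, ⟨_, ht, rfl⟩⟩, Subtype.ext h⟩
    · rintro ⟨⟨σ, t, ht, rfl⟩, h⟩
      exact ⟨(t : G), ht, congrArg Subtype.val h⟩
  have hsumσ : ∀ z z' : D, z ≠ 1 → (∑ σ : E, if (σ : MulAut D) z = z' then (1 : ℂ) else 0) =
      if ∃ t ∈ pairStab hP hmax.1.1.2, t * (z : G) * t⁻¹ = (z' : G) then 1 else 0 := by
    intro z z' hz
    split_ifs with h
    · obtain ⟨σ, hσ⟩ := (hiff z z').mp h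
      rw [Finset.sum_eq_single σ (fun τ _ hτ => if_neg fun hτz => hτ ?_) (fun h => absurd (Finset.mem_univ _) h),
        if_pos hσ]
      by_contra hne
      refine hz (hEfree ((σ⁻¹ * τ : E) : MulAut D) (σ⁻¹ * τ).2 (fun h1 => hne ?_) z ?_)
      · exact inv_mul_eq_one.mp (Subtype.ext h1) |>.symm
      · show (σ : MulAut D)⁻¹ ((τ : MulAut D) z) = z
        rw [hτz, ← hσ]
        exact (σ : MulAut D).symm_apply_apply z
    · exact Finset.sum_eq_zero fun τ _ => if_neg fun hτ => h ((hiff z z').mpr ⟨τ, hτ⟩)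
  -- multiplicities and values
  let ms : Subgroup D → ℕ := fun R => m (R.map D.subtype)
  have hok : ∀ R : Subgroup D, R ≠ ⊥ → R.map D.subtype ≤ D ∧ R.map D.subtype ≠ ⊥ := fun R hR =>
    ⟨Subgroup.map_subtype_le R, fun h => hR ((Subgroup.map_eq_bot_iff_of_injective R D.subtype_injective).mp h)⟩
  have hms : ∀ z : D, ms (Subgroup.zpowers z) = m (Subgroup.zpowers (z : G)) := fun z => by
    simp only [ms, MonoidHom.map_zpowers, Subgroup.coe_subtype]
  have hokz : ∀ z : D, z ≠ 1 → Subgroup.zpowers (z : G) ≤ D ∧ Subgroup.zpowers (z : G) ≠ ⊥ := fun z hz =>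
    ⟨Subgroup.zpowers_le.mpr z.2, Subgroup.zpowers_ne_bot.mpr fun h => hz (Subtype.ext h)⟩
  have hAp : IsPGroup p D := hmax.1.1.1
  have hcomm : ∀ y z : D, y * z = z * y := fun y z => Subtype.ext (hab y y.2 z z.2)
  obtain ⟨d0, hd0, hd01⟩ : ∃ x ∈ D, x ≠ 1 := by
    obtain ⟨a, ha⟩ := D.ne_bot_iff_exists_ne_one.mp hD
    exact ⟨a, a.2, fun h => ha (Subtype.ext h)⟩
  set z0 : D := ⟨d0, hd0⟩
  have hz0 : z0 ≠ 1 := fun h => hd01 (congrArg Subtype.val h)
  obtain ⟨s, hs, hspow, hsext⟩ := exists_signs hM hAp hcomm hz0 ms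
    (fun R hR => (hlev _ (hok R hR)).unit) (fun R hR => by
      have lR := hlev _ (hok R hR)
      obtain ⟨η, hη⟩ := block_nonempty hP lR.below.1.2
      refine ⟨levelChar hM hab lR η, isCharacter_levelChar hM hmax hab hd lR η, fun z => ?_⟩
      have hsup : R.map D.subtype ⊔ Subgroup.zpowers (z : G) = (R ⊔ Subgroup.zpowers z).map D.subtype := by
        rw [Subgroup.map_sup, MonoidHom.map_zpowers]
        rfl
      have hne : R ⊔ Subgroup.zpowers z ≠ ⊥ := fun h => hR (le_bot_iff.mp (h ▸ le_sup_left))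
      exact level_sq hM hmax hab hd lR (hlev _ (hok _ hne)) z hsup hη)
  have hs0 : ∀ z, (s z : ℂ) * (s z : ℂ) = 1 := fun z => by rcases hs z with h | h <;> simp [h]
  have hm0 : ∀ z : D, z ≠ 1 → (ms (Subgroup.zpowers z) : ℂ) ≠ 0 := fun z hz => Nat.cast_ne_zero.mpr fun h =>
    (hlev _ (hokz z hz)).unit (by rw [← hms, h]; exact dvd_zero p)
  let a : IrrCharacter G → D → ℂ := fun χ z => secVal hM ι χ (z : G) / (ms (Subgroup.zpowers z) : ℂ)
  have haint : ∀ χ (z : D), z ≠ 1 → IsIntegral ℤ (a χ z) := by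
    intro χ z hz
    obtain ⟨b, hb, he⟩ := secVal_mul hM hmax hab hd (hlev _ (hokz z hz)) z.2 rfl χ
    have : a χ z = b := by
      simp only [a, hms, he]
      rw [mul_div_cancel_left₀ _ (hms z ▸ hm0 z hz)]
    rw [this]; exact hb
  have horth : ∀ z z' : D, z ≠ 1 → z' ≠ 1 → ∑ χ : {χ // χ ∈ B}, a χ.1 z * conj (a χ.1 z') =
      (Nat.card D : ℂ) * ∑ σ : E, if (σ : MulAut D) z = z' then 1 else 0 := by
    intro z z' hz hz'
    rw [← Finset.sum_subtype (Finset.univ.filter (· ∈ B)) (fun χ => by simp) (fun χ => a χ z * conj (a χ z')),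
      Finset.sum_subset (Finset.subset_univ _) fun χ _ hχ => by
        simp [a, secVal_outside hM hmax hab hd (show χ ∉ B by simpa using hχ)]]
    simp only [a, map_div₀, map_natCast, div_mul_div_comm, ← Finset.sum_div]
    rw [secVal_orth hM hmax hab hd z.2 z'.2 (hlev _ (hokz z hz)) (hlev _ (hokz z' hz')), hsumσ z z' hz, ← hms, ← hms]
    have h1 := hm0 z hz
    have h2 := hm0 z' hz'
    field_simp
  have hainv : ∀ χ ∈ B, ∀ σ : E, ∀ z : D, z ≠ 1 → a χ ((σ : MulAut D) z) = a χ z := by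
    intro χ hχ σ z hz
    set z' := (σ : MulAut D) z with hz'def
    have hz' : z' ≠ 1 := fun h => hz (by simpa [hz'def] using h)
    have h11 : (∑ τ : E, if (τ : MulAut D) z = z then (1 : ℂ) else 0) = 1 := by
      rw [hsumσ z z hz, if_pos ((hiff z z).mpr ⟨1, rfl⟩)]
    have h22 : (∑ τ : E, if (τ : MulAut D) z' = z' then (1 : ℂ) else 0) = 1 := by
      rw [hsumσ z' z' hz', if_pos ((hiff z' z').mpr ⟨1, rfl⟩)]
    have h12 : (∑ τ : E, if (τ : MulAut D) z = z' then (1 : ℂ) else 0) = 1 := by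
      rw [hsumσ z z' hz, if_pos ((hiff z z').mpr ⟨σ, rfl⟩)]
    have h21 : (∑ τ : E, if (τ : MulAut D) z' = z then (1 : ℂ) else 0) = 1 := by
      rw [hsumσ z' z hz', if_pos ((hiff z' z).mpr ⟨σ⁻¹, (σ : MulAut D).symm_apply_apply z⟩)]
    have h0 : ∑ χ : {χ // χ ∈ B}, (a χ.1 z' - a χ.1 z) * conj (a χ.1 z' - a χ.1 z) = 0 := by
      simp only [map_sub, sub_mul, mul_sub, Finset.sum_sub_distrib]
      rw [horth z' z' hz' hz', horth z' z hz' hz, horth z z' hz hz', horth z z hz hz, h11, h22, h12, h21]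
      ring
    simp only [Complex.mul_conj, ← Complex.ofReal_sum, Complex.ofReal_eq_zero] at h0
    have := (Finset.sum_eq_zero_iff_of_nonneg fun χ _ => Complex.normSq_nonneg _).mp h0 ⟨χ, hχ⟩ (Finset.mem_univ _)
    exact sub_eq_zero.mp (Complex.normSq_eq_zero.mp this)
  -- the basic extension
  have hvz0 : ¬ MemLocalIdeal M ((s z0 : ℂ) * (ms (Subgroup.zpowers z0) : ℂ)) := by
    intro h
    refine (hlev _ (hokz z0 hz0)).unit ((memLI_natCast_iff hM _).mp ?_)
    rw [← hms]
    have := memLI_mul_left hP (memLR_intCast (M := M) hP (s z0)) h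
    rwa [← mul_assoc, hs0, one_mul] at this
  have hvinv := extOff_inv hM hAp hsext hz0 hvz0
  let H0 : IrrCharacter G → D → ℂ := fun χ z => (s z : ℂ) * a χ z
  have hH0 : ∀ χ, H0 χ = (fun z : D => secVal hM ι χ (z : G)) *
      fun z : D => ((s z : ℂ) * (ms (Subgroup.zpowers z) : ℂ))⁻¹ := fun χ => funext fun z => by
    simp only [H0, a, Pi.mul_apply, mul_inv]
    rw [inv_eq_of_mul_eq_one_right (hs0 z)]
    ring
  have hH0ext : ∀ χ, ExtOff M (H0 χ) := fun χ => by
    rw [hH0]
    exact extOff_mul hP (extOff_of_intComb (intComb_char hP (isCharacter_secVal hM hmax hab hd χ))) hvinv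
  obtain ⟨χ0, hχ0, h00⟩ := exists_height_zero (p := p) (block_nonempty hP hmax.1.2.1)
  have hH0u : ∀ z : D, z ≠ 1 → MemLocalRing M (a χ0 z) ∧ ¬ MemLocalIdeal M (a χ0 z) := by
    intro z hz
    have hR := memLocalRing_of_isIntegral hP.ne_top (haint χ0 z hz)
    refine ⟨hR, fun h => top_unit hM hmax hab hd hfree hD hχ0 h00 ?_⟩
    refine memLI_congr hP (memLI_symm hP (secVal_congr hM hmax hab hd χ0 z.2)) ?_
    rw [show secVal hM ι χ0 (z : G) = a χ0 z * (ms (Subgroup.zpowers z) : ℂ) by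
      simp only [a]; rw [div_mul_cancel₀ _ (hm0 z hz)]]
    exact memLI_mul_right hP h (memLR_natCast hP _)
  -- the invariant signs
  obtain ⟨sg, hsg, hsgpow, hsginv, hsgext⟩ : ∃ sg : D → ℤ, (∀ z, sg z = 1 ∨ sg z = -1) ∧
      (∀ z, ∀ k : ℕ, k.Coprime (Nat.card D) → sg (z ^ k) = sg z) ∧
      (∀ σ : E, ∀ z, z ≠ 1 → sg ((σ : MulAut D) z) = sg z) ∧
      ∀ χ ∈ B, ExtOff M fun z => (sg z : ℂ) * a χ z := by
    by_cases hp2 : p = 2
    · subst hp2
      have hodd : Odd (Nat.card E) := by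
        obtain ⟨μn, R, -, hcard, -⟩ := StarVectors.exists_reps E hcomm ⟨z0, hz0⟩ hEfree
        obtain ⟨r, hr⟩ := IsPGroup.iff_card.mp hAp
        have hr0 : r ≠ 0 := fun h => hD (Subgroup.card_eq_one.mp (by rw [hr, h, pow_zero]))
        obtain ⟨r', rfl⟩ := Nat.exists_eq_succ_of_ne_zero hr0
        refine (Nat.odd_mul (m := Nat.card E) (n := μn)).mp ?_ |>.1
        rw [hcard, hr, pow_succ]
        exact ⟨2 ^ r' - 1, by have := Nat.one_le_two_pow (n := r'); omega⟩
      refine ⟨fun z => ∏ σ : E, s ((σ : MulAut D) z), fun z => ?_, fun z k hk =>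
        Finset.prod_congr rfl fun σ _ => by rw [map_pow, hspow _ k hk], fun σ z _ => ?_, fun χ hχ => ?_⟩
      · refine Finset.prod_induction _ (fun n : ℤ => n = 1 ∨ n = -1) ?_ (Or.inl rfl) fun σ _ => hs _
        rintro a b (rfl | rfl) (rfl | rfl) <;> simp
      · refine Fintype.prod_equiv (Equiv.mulRight σ) _ _ fun τ => ?_
        rfl
      · have hc0 : ExtOff M fun z => conj (H0 χ0 z) := by
          refine extOff_congr (extOff_mul hP (extOff_of_intComb (intComb_char hP
            (isCharacter_conj (isCharacter_secVal hM hmax hab hd χ0)))) hvinv) fun z _ => ?_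
          rw [hH0, Pi.mul_apply, Pi.mul_apply, map_mul, map_inv₀, map_mul, map_intCast, map_natCast]
        have hn0 : ExtOff M fun z => H0 χ0 z * conj (H0 χ0 z) := extOff_mul hP (hH0ext χ0) hc0
        have hninv := extOff_inv hM hAp hn0 hz0 (by
          obtain ⟨hR, hu⟩ := hH0u z0 hz0
          have e : H0 χ0 z0 * conj (H0 χ0 z0) = a χ0 z0 * conj (a χ0 z0) := by
            simp only [H0, map_mul, map_intCast]
            linear_combination (a χ0 z0 * conj (a χ0 z0)) * hs0 z0
          rw [e]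
          intro h
          have hcI : IsIntegral ℤ (conj (a χ0 z0)) := map_isIntegral_int (starRingEnd ℂ) (haint χ0 z0 hz0)
          rcases memLI_mul_mem hP hR (memLocalRing_of_isIntegral hP.ne_top hcI) h with h' | h'
          · exact hu h'
          · refine top_unit hM hmax hab hd hfree hD hχ0 h00 ?_
            have hzi : z0⁻¹ ≠ 1 := inv_ne_one.mpr hz0
            refine memLI_congr hP (memLI_symm hP (secVal_congr hM hmax hab hd χ0 (z0⁻¹).2)) ?_
            rw [show secVal hM ι χ0 ((z0⁻¹ : D) : G) = conj (secVal hM ι χ0 (z0 : G)) from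
              char_inv (isCharacter_secVal hM hmax hab hd χ0) z0,
              show secVal hM ι χ0 (z0 : G) = a χ0 z0 * (ms (Subgroup.zpowers z0) : ℂ) by
                simp only [a]; rw [div_mul_cancel₀ _ (hm0 z0 hz0)], map_mul, map_natCast]
            exact memLI_mul_right hP h' (memLR_natCast hP _))
        have hτ : ∀ σ : E, ExtOff M fun z => (s ((σ : MulAut D) z) : ℂ) * (s z : ℂ) := by
          intro σ
          refine extOff_congr (extOff_mul hP (extOff_mul hP (extOff_comp (hH0ext χ0) (σ : MulAut D)) hc0) hninv)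
            fun z hz => ?_
          have hz' : (σ : MulAut D) z ≠ 1 := fun h => hz (by simpa using h)
          have ha : a χ0 z ≠ 0 := fun h => (hH0u z hz).2 (h ▸ memLI_zero hP)
          have hsc : conj (s z : ℂ) = (s z : ℂ) := map_intCast _ _
          simp only [H0, Pi.mul_apply, map_mul, hsc, hainv χ0 hχ0 σ z hz]
          have hca : conj (a χ0 z) ≠ 0 := fun h => ha (by simpa using congrArg conj h)
          rcases hs z with h | h <;> rw [h] <;> field_simp <;> push_cast <;> ring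
        refine extOff_congr (extOff_mul hP (extOff_prod hP Finset.univ _ fun σ _ => hτ σ) (hH0ext χ)) fun z _ => ?_
        simp only [Pi.mul_apply, Finset.prod_apply, Finset.prod_mul_distrib, Finset.prod_const, Finset.card_univ,
          ← Nat.card_eq_fintype_card, H0, Int.cast_prod]
        obtain ⟨r, hr⟩ := hodd
        rw [hr, pow_succ, pow_mul, pow_two, hs0, one_pow, one_mul]
        linear_combination ((∏ σ : E, (s ((σ : MulAut D) z) : ℂ)) * a χ z) * hs0 z
    · refine ⟨s, hs, hspow, fun σ z hz => ?_, fun χ _ => hH0ext χ⟩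
      have hz' : (σ : MulAut D) z ≠ 1 := fun h => hz (by simpa using h)
      obtain ⟨x, hx, hxf⟩ := hH0ext χ0
      have h1 : MemLocalIdeal M (H0 χ0 ((σ : MulAut D) z) - H0 χ0 z) := by
        rw [← hxf _ hz', ← hxf _ hz]
        exact memLI_trans hP (intComb_congr_one hM hAp hx _) (memLI_symm hP (intComb_congr_one hM hAp hx _))
      simp only [H0, hainv χ0 hχ0 σ z hz, ← sub_mul] at h1
      have h2 : MemLocalIdeal M (((s ((σ : MulAut D) z) - s z : ℤ) : ℂ)) := by
        push_cast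
        exact (memLI_mul_mem hP (memLR_sub hP (memLR_intCast (M := M) hP _) (memLR_intCast (M := M) hP _))
          (hH0u z hz).1 h1).resolve_right (hH0u z hz).2
      rw [memLI_intCast_iff hM] at h2
      have h3 : ¬ p ∣ 2 := fun h => hp2 ((Nat.prime_dvd_prime_iff_eq hp Nat.prime_two).mp h)
      rcases hs ((σ : MulAut D) z) with e | e <;> rcases hs z with e' | e' <;> rw [e, e'] at h2 ⊢
      · exact absurd (Int.natCast_dvd_natCast.mp (by simpa using h2)) h3
      · exact absurd (Int.natCast_dvd_natCast.mp (by simpa using h2)) h3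
  -- the bound
  have hsg0 : ∀ z, (sg z : ℂ) * (sg z : ℂ) = 1 := fun z => by rcases hsg z with h | h <;> simp [h]
  have hane : ∀ χ : {χ // χ ∈ B}, a χ.1 z0 ≠ 0 := by
    intro χ
    have lz := hlev _ (hokz z0 hz0)
    obtain ⟨hzC, he⟩ := secVal_eq hM hmax hab hd lz z0.2 rfl χ.1
    refine div_ne_zero ?_ (hm0 z0 hz0)
    rw [he]
    have hQfree : ∀ t ∈ pairStab hP hmax.1.1.2, (∀ u ∈ Subgroup.zpowers (z0 : G), t * u = u * t) →
        t ∈ Subgroup.centralizer (D : Set G) := fun t ht h =>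
      hfree t ht z0 z0.2 hd01 (by rw [h _ (Subgroup.mem_zpowers _), mul_inv_cancel_right])
    exact sum_ne_zero hM (pElem hM hmax hab hd z0.2) centralizer_zpowers_eq
      (by intro h; exact lz.unit (h ▸ dvd_zero p)) (BelowData.induced hM hmax hab lz.below)
      (BelowData.defect hM hmax hab lz.below)
      (fun ξ hξ θ hθ x hx => BelowData.regular hM hmax hab lz.below hQfree hξ hθ hx)
      lz.trace_in lz.trace_out hzC χ.2
  refine ⟨E, inferInstance, fun (χ : {χ // χ ∈ B}) z => (sg z : ℂ) * a χ.1 z, hcardE, hEfree, fun χ => hsgext _ χ.2,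
    (fun χ => galEquiv_offOne (by
      have h := galEquiv_mul (galEquiv_char (isCharacter_secVal hM hmax hab hd χ.1))
        (galEquiv_rat (G := D) (fun z => (sg z : ℚ) / (ms (Subgroup.zpowers z) : ℚ)) fun z k hk => by
          have : Subgroup.zpowers (z ^ k) = Subgroup.zpowers z := by
            refine le_antisymm (Subgroup.zpowers_le.mpr (Subgroup.pow_mem _ (Subgroup.mem_zpowers _) k))
              (Subgroup.zpowers_le.mpr ?_)
            obtain ⟨j, hj⟩ := exists_pow_eq_self_of_coprime (hk.coprime_dvd_right (orderOf_dvd_natCard z))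
            exact Subgroup.mem_zpowers_iff.mpr ⟨(j : ℤ), by rw [zpow_natCast]; exact hj⟩
          simp only [hsgpow z k hk, this])
      convert h using 1
      funext z
      simp only [a, Pi.mul_apply]
      push_cast
      ring)),
    (fun χ z hz => IsIntegral.mul (isIntegral_algebraMap (x := sg z)) (haint χ.1 z hz)),
    (fun χ σ z hz => by simp only [hsginv σ z hz, hainv χ.1 χ.2 σ z hz]),
    (fun z z' hz hz' => by
      by_cases hex : ∃ σ : E, (σ : MulAut D) z = z'
      · obtain ⟨σ, rfl⟩ := hex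
        refine Eq.trans ?_ (by convert horth z _ hz hz')
        refine Finset.sum_congr rfl fun χ _ => ?_
        rw [map_mul, map_intCast, hsginv σ z hz]
        linear_combination (a χ.1 z * conj (a χ.1 ((σ : MulAut D) z))) * hsg0 z
      · have h0 : (∑ σ : E, if (σ : MulAut D) z = z' then (1 : ℂ) else 0) = 0 :=
          Finset.sum_eq_zero fun τ _ => if_neg fun h => hex ⟨τ, h⟩
        have h := horth z z' hz hz'
        rw [h0, mul_zero] at h
        refine Eq.trans (b := (0 : ℂ)) ?_ (mul_eq_zero_of_right _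
          (Finset.sum_eq_zero fun τ _ => if_neg fun h => hex ⟨τ, h⟩)).symm
        rw [← mul_zero ((sg z : ℂ) * (sg z' : ℂ)), ← h, Finset.mul_sum]
        exact Finset.sum_congr rfl fun χ _ => by rw [map_mul, map_intCast]; ring),
    (fun χ => ⟨z0, hz0, mul_ne_zero (fun h => by simpa [h] using hsg0 z0) (hane χ)⟩),
    fun g hg z hz => ?_, ι, hd, sg, hsg, fun z hz => ?_⟩
  swap
  · rename_i inst
    obtain rfl : inst = fun S : Subgroup G => Fintype.ofFinite _ := Subsingleton.elim _ _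
    exact ⟨_, _, _, hlev _ (hokz z hz), fun χ => by simp only [a, hms]⟩
  simp only [a, mul_div_assoc', ← Finset.sum_div]
  rw [Finset.sum_congr rfl fun χ _ => mul_left_comm _ (sg z : ℂ) _, ← Finset.mul_sum,
    ← Finset.sum_subtype (Finset.univ.filter (· ∈ B)) (fun χ => by simp)
      (fun χ => (χ : G → ℂ) g * secVal hM ι χ (z : G)),
    Finset.sum_subset (Finset.subset_univ _) fun χ _ hχ => by
      rw [secVal_outside hM hmax hab hd (show χ ∉ B by simpa using hχ), mul_zero],
    sum_secVal_regular hM hmax hab hd (hlev _ (hokz z hz)) z.2 rfl (fun h => hz (Subtype.ext h)) hg,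
    mul_zero, zero_div]

open scoped Classical in
/-- The family, and its orthogonality to the regular elements. -/
theorem exists_family (hD : D ≠ ⊥) :
    ∃ (E : Subgroup (MulAut D)) (_ : Fintype E) (H : {χ // χ ∈ B} → D → ℂ),
      Nat.card E = (Subgroup.centralizer (D : Set G)).relIndex (pairStab (pmod_prime hM) hmax.1.1.2) ∧
      (∀ σ ∈ E, σ ≠ 1 → ∀ z, σ z = z → z = 1) ∧ (∀ χ, ExtOff M (H χ)) ∧ (∀ χ, GalEquiv (offOne (H χ))) ∧
      (∀ χ, ∀ z, z ≠ 1 → IsIntegral ℤ (H χ z)) ∧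
      (∀ χ, ∀ σ : E, ∀ z, z ≠ 1 → H χ ((σ : MulAut D) z) = H χ z) ∧
      (∀ z z', z ≠ 1 → z' ≠ 1 → ∑ χ, H χ z * conj (H χ z') =
        (Nat.card D : ℂ) * ∑ σ : E, if (σ : MulAut D) z = z' then 1 else 0) ∧
      (∀ χ, ∃ z, z ≠ 1 ∧ H χ z ≠ 0) ∧
      ∀ g : G, ¬ p ∣ orderOf g → ∀ z, z ≠ 1 → ∑ χ : {χ // χ ∈ B}, (χ.1 : G → ℂ) g * H χ z = 0 := by
  obtain ⟨E, iE, H, h1, h2, h3, h4, h5, h6, h7, h8, h9, -⟩ := exists_family_values hM hmax hab hfree hD
  exact ⟨E, iE, H, h1, h2, h3, h4, h5, h6, h7, h8, h9⟩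

open scoped Classical in
/-- The bound for the number of characters, with the small cases. -/
theorem bound (hD : D ≠ ⊥) :
    ∃ m : ℕ, 1 ≤ m ∧
      (Subgroup.centralizer (D : Set G)).relIndex (pairStab (pmod_prime hM) hmax.1.1.2) * m = Nat.card D - 1 ∧
      Nat.card B ≤ (Subgroup.centralizer (D : Set G)).relIndex (pairStab (pmod_prime hM) hmax.1.1.2) + m ∧
      ((Subgroup.centralizer (D : Set G)).relIndex (pairStab (pmod_prime hM) hmax.1.1.2) ≤ 3 → m < Nat.card B →
        Nat.card B = (Subgroup.centralizer (D : Set G)).relIndex (pairStab (pmod_prime hM) hmax.1.1.2) + m ∨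
        ((Subgroup.centralizer (D : Set G)).relIndex (pairStab (pmod_prime hM) hmax.1.1.2) = 2 ∧ Nat.card D = 7 ∧ Nat.card B = 4) ∨
        ((Subgroup.centralizer (D : Set G)).relIndex (pairStab (pmod_prime hM) hmax.1.1.2) = 3 ∧
          Nat.card D = 13 ∧ Nat.card B = 5)) := by
  have hP := pmod_prime hM
  obtain ⟨d0, hd0, hd01⟩ : ∃ x ∈ D, x ≠ 1 := by
    obtain ⟨a, ha⟩ := D.ne_bot_iff_exists_ne_one.mp hD
    exact ⟨a, a.2, fun h => ha (Subtype.ext h)⟩
  obtain ⟨E, iE, H, hcardE, hEfree, hext, hgal, hint, hinv, horth, hne, -⟩ := exists_family hM hmax hab hfree hD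
  obtain ⟨mm, hmm, hcard, hle, hsmall⟩ := StarVectors.star_bound E hM hmax.1.1.1
    (fun y z => Subtype.ext (hab y y.2 z z.2)) ⟨⟨d0, hd0⟩, fun h => hd01 (congrArg Subtype.val h)⟩ hEfree H
    hext hgal hint hinv (fun z z' hz hz' => by convert horth z z' hz hz') hne
  rw [hcardE] at hcard hle hsmall
  exact ⟨mm, hmm, hcard, hle, hsmall⟩

end Cfsg.Agent.Char.StarFamily
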