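import Cfsg.Agent.Lib.Char.StarValues
import Cfsg.Agent.Lib.Char.StarFamily
import Cfsg.Agent.Lib.Char.DegreesBelowPrime

/-!
# The columns of a block with free inertial quotient

A column at a singular element is a local combination of the family on the defect group, the pairing of a column
with the family is a local multiple of the order of the centralizer, and a combination of characters vanishing on
the singular elements is such a multiple as well.
-/

set_option autoImplicit false
set_option linter.unusedSectionVars false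
set_option linter.style.haveILetI false

namespace Cfsg.Agent.Char.CyclicColumns

open Cfsg Module IdemAlg IdemSub LocalSpan StarLevels StarFamily
open scoped ComplexConjugate

universe u

variable {G : Type u} [Group G] [Fintype G] {M : Ideal AlgInt} {p : ℕ}

open scoped Classical in
/-- A combination vanishing on the singular elements is divisible by the orders of the centralizers. -/
theorem vanish_local (hM : IsPModular p M) (cf : IrrCharacter G → ℂ) (hcf : ∀ χ, MemLocalRing M (cf χ))
    (h0 : ∀ g : G, p ∣ orderOf g → ∑ χ : IrrCharacter G, cf χ * (χ : G → ℂ) g = 0) (x : G) :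
    MemLocalRing M ((∑ χ : IrrCharacter G, cf χ * (χ : G → ℂ) x) /
      (Nat.card (Subgroup.centralizer ({x} : Set G)) : ℂ)) := by
  have hP := pmod_prime hM
  haveI := Fact.mk hM.1
  by_cases hx : p ∣ orderOf x
  · rw [h0 x hx, zero_div]
    exact memLR_zero hP
  set C := Subgroup.centralizer ({x} : Set G) with hC
  haveI : Fintype C := Fintype.ofFinite _
  obtain ⟨S⟩ : Nonempty (Sylow p C) := inferInstance
  haveI : Fintype (S : Subgroup C) := Fintype.ofFinite _
  have hk := S.not_dvd_index
  have hcard : Nat.card C = Nat.card (S : Subgroup C) * (S : Subgroup C).index :=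
    (Subgroup.card_mul_index _).symm
  have hxC : x ∈ C := Subgroup.mem_centralizer_singleton_iff.mpr rfl
  have hcent : ∀ a : C, (⟨x, hxC⟩ : C) * a = a * ⟨x, hxC⟩ := fun a =>
    Subtype.ext (Subgroup.mem_centralizer_singleton_iff.mp a.2).symm
  -- the shifted column is supported at the identity
  have hsum : ∑ χ : IrrCharacter G, cf χ * (χ : G → ℂ) x =
      ∑ χ : IrrCharacter G, cf χ * ∑ s : (S : Subgroup C), (χ : G → ℂ) (x * ((s : C) : G)) := by
    simp only [Finset.mul_sum]
    rw [Finset.sum_comm, Finset.sum_eq_single (1 : (S : Subgroup C))]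
    · simp
    · intro s _ hs
      refine h0 _ ?_
      obtain ⟨k, hk'⟩ := IsPGroup.iff_orderOf.mp S.isPGroup' s
      have hcomm : Commute x ((s : C) : G) := congrArg Subtype.val (hcent (s : C))
      have hk2 : orderOf ((s : C) : G) = p ^ k := by rw [Subgroup.orderOf_coe, Subgroup.orderOf_coe, hk']
      rw [hcomm.orderOf_mul_eq_mul_orderOf_of_coprime
        (hk2 ▸ ((hM.1.coprime_iff_not_dvd.mpr hx).pow_left k).symm), hk2]
      refine Dvd.dvd.mul_left (dvd_pow_self p fun h => hs ?_) _
      rwa [h, pow_zero, orderOf_eq_one_iff] at hk'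
    · simp
  rw [hsum, Finset.sum_div]
  refine memLR_sum hP _ _ fun χ _ => ?_
  rw [mul_div_assoc]
  refine memLR_mul hP (hcf χ) ?_
  obtain ⟨n, hn⟩ := exists_decomposition (isCharacter_comp C.subtype (irr_isCharacter χ.2))
  choose ζ hζ1 hζ using fun η : IrrCharacter C => exists_central_root hcent η
  choose t ht using fun η : IrrCharacter C => classInner_natCast
    (isCharacter_comp (S : Subgroup C).subtype (irr_isCharacter η.2))
    (irr_isCharacter (isIrrCharacter_one (G := (S : Subgroup C))))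
  have e : ∑ s : (S : Subgroup C), (χ : G → ℂ) (x * ((s : C) : G)) =
      (Nat.card (S : Subgroup C) : ℂ) * ∑ η : IrrCharacter C, (n η : ℂ) * ζ η * (t η : ℂ) := by
    have h1 : ∀ s : (S : Subgroup C), (χ : G → ℂ) (x * ((s : C) : G)) =
        ∑ η : IrrCharacter C, (n η : ℂ) * ζ η * (η : C → ℂ) (s : C) := fun s => by
      have h := congrFun hn ((⟨x, hxC⟩ : C) * (s : C))
      simp only [Function.comp_apply, Subgroup.coe_subtype, Subgroup.coe_mul, Finset.sum_apply, Pi.smul_apply,
        nsmul_eq_mul, Pi.mul_apply, Pi.natCast_apply, hζ] at h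
      rw [h]
      exact Finset.sum_congr rfl fun η _ => by ring
    rw [Finset.sum_congr rfl fun s _ => h1 s, Finset.sum_comm, Finset.mul_sum]
    refine Finset.sum_congr rfl fun η _ => ?_
    have h2 := ht η
    simp only [classInner, map_one, mul_one, Function.comp_apply, Subgroup.coe_subtype] at h2
    rw [← Finset.mul_sum, ← h2, mul_left_comm,
      mul_inv_cancel_left₀ (Nat.cast_ne_zero.mpr Nat.card_pos.ne')]
  rw [e, hcard, Nat.cast_mul, mul_div_mul_left _ _ (Nat.cast_ne_zero.mpr Nat.card_pos.ne'), div_eq_mul_inv]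
  exact memLR_mul hP (memLR_sum hP _ _ fun η _ => memLR_mul hP (memLR_mul hP (memLR_natCast hP _)
    (memLocalRing_of_isIntegral hP.ne_top (root_of_unity_isIntegral (orderOf_pos _).ne' (hζ1 η))))
    (memLR_natCast hP _)) (memLR_inv_natCast hM hk)

variable (hM : IsPModular p M) {B : Set (IrrCharacter G)} {D : Subgroup G}
  {c : Set (IrrCharacter (Subgroup.centralizer (D : Set G)))} {ι : OA (pmod_prime hM) G}
  (hmax : IsMaximalBrauerPair p M B D c) (hab : ∀ x ∈ D, ∀ y ∈ D, x * y = y * x)
  (hd : LocalIdem.Data hM ι hmax.1.2.1 D c)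
include hmax hab hd

/-- The section as a combination of values of the character. -/
theorem secVal_sum {z : G} (hz : z ∈ D) [Fintype (Subgroup.centralizer (Subgroup.zpowers z : Set G))]
    {f : Set (IrrCharacter (Subgroup.centralizer (Subgroup.zpowers z : Set G)))}
    {κ : OA (pmod_prime hM) (Subgroup.centralizer (Subgroup.zpowers z : Set G))} {m : ℕ}
    (l : Level hM ι D c B (Subgroup.zpowers z) f κ m) (χ : IrrCharacter G) :
    secVal hM ι χ z = ∑ h, co κ h * (χ : G → ℂ) (z * (h : G)) := by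
  obtain ⟨hzC, e⟩ := secVal_eq hM hmax hab hd l hz rfl χ
  rw [e, trC_edge, trC_gen_mul]
  exact Finset.sum_congr rfl fun h _ => rfl

open scoped Classical in
/-- The part in a local block is the section times the common value on the regular element. -/
theorem pc_eq_secVal {z : G} (hz : z ∈ D)
    (hQfree : ∀ t ∈ pairStab (pmod_prime hM) hmax.1.1.2, (∀ u ∈ Subgroup.zpowers z, t * u = u * t) →
      t ∈ Subgroup.centralizer (D : Set G))
    [Fintype (Subgroup.centralizer (Subgroup.zpowers z : Set G))]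
    {f : Set (IrrCharacter (Subgroup.centralizer (Subgroup.zpowers z : Set G)))}
    {κ : OA (pmod_prime hM) (Subgroup.centralizer (Subgroup.zpowers z : Set G))} {m : ℕ}
    (l : Level hM ι D c B (Subgroup.zpowers z) f κ m)
    {ξ : IrrCharacter (Subgroup.centralizer (Subgroup.zpowers z : Set G))} (hξ : ξ ∈ f)
    {s : Subgroup.centralizer (Subgroup.zpowers z : Set G)} (hs : ¬ p ∣ orderOf s) (χ : IrrCharacter G) :
    Star.pc (χ : G → ℂ) (z * (s : G)) ⟨Subgroup.zpowers z, f⟩ =
      (ξ : Subgroup.centralizer (Subgroup.zpowers z : Set G) → ℂ) s * (secVal hM ι χ z / (m : ℂ)) := by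
  have hcl := isClassFunction_character (irr_isCharacter χ.2)
  set F := Star.shift (χ : G → ℂ) z z with hF
  have hFc : IsClassFunction _ F := Star.isClassFunction_shift hcl (Subgroup.mem_zpowers z)
  have hsec : secVal hM ι χ z = (m : ℂ) *
      ∑ η : IrrCharacter (Subgroup.centralizer (Subgroup.zpowers z : Set G)) with η ∈ f,
        classInner F (η : _ → ℂ) := by
    rw [secVal_sum hM hmax hab hd hz l, ← trace_sum hM hmax hab hd l]
    simp only [trC, Finset.sum_mul]
    rw [Finset.sum_comm]
    refine Finset.sum_congr rfl fun h _ => ?_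
    have h1 := congrFun (classFun_expansion hFc) h
    rw [Finset.sum_apply] at h1
    simp only [Pi.smul_apply, smul_eq_mul] at h1
    rw [show (χ : G → ℂ) (z * (h : G)) = F h from rfl, h1, Finset.mul_sum]
    exact Finset.sum_congr rfl fun η _ => by ring
  rw [Star.pc_eq_blockPart hcl (Subgroup.mem_zpowers z) f s, blockPart_eq, hsec,
    mul_div_cancel_left₀ _ (Nat.cast_ne_zero.mpr fun h => l.unit (by rw [h]; exact dvd_zero p)), Finset.mul_sum]
  refine Finset.sum_congr rfl fun η hη => ?_
  rw [BelowData.regular hM hmax hab l.below hQfree (Finset.mem_filter.mp hη).2 hξ hs, mul_comm]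

variable (hfree : ∀ t ∈ pairStab (pmod_prime hM) hmax.1.1.2, ∀ x ∈ D, x ≠ 1 → t * x * t⁻¹ = x →
    t ∈ Subgroup.centralizer (D : Set G))
  [∀ S : Subgroup G, Fintype (Subgroup.centralizer (S : Set G))]
  (H : {χ // χ ∈ B} → D → ℂ) (sg : D → ℤ) (hsg : ∀ z, sg z = 1 ∨ sg z = -1)
  (hval : ∀ z : D, z ≠ 1 → ∃ f κ m, Level hM ι D c B (Subgroup.zpowers (z : G)) f κ m ∧
    ∀ χ : {χ // χ ∈ B}, H χ z = (sg z : ℂ) * (secVal hM ι χ.1 (z : G) / (m : ℂ)))
include hfree hsg hval

open scoped Classical in
/-- A column at a singular element lies in the local span of the family. -/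
theorem exists_col [Fintype D] {g : G} (hg : p ∣ orderOf g) :
    ∃ a : D → ℂ, (∀ z, MemLocalRing M (a z)) ∧ a 1 = 0 ∧
      ∀ χ : {χ // χ ∈ B}, (χ.1 : G → ℂ) g = ∑ z, a z * H χ z := by
  have hP := pmod_prime hM
  set u := ppt p g with hu
  set s := preg p g with hs
  have hu' := ppt_ppower hM.1 g
  have hsR := Star.preg_mem_regC hM.1 g
  have hu1 : u ≠ 1 := fun h => (ppt_eq_one_iff hM.1 g).mp h hg
  have key : ∀ a : BrauerPairIdx G, a ∈ Star.prs p M B u → ∃ (z : D) (r : ℂ), z ≠ 1 ∧ MemLocalRing M r ∧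
      ∀ χ : {χ // χ ∈ B}, Star.pc (χ.1 : G → ℂ) g a = r * H χ z := by
    intro a ha
    obtain ⟨w, hw⟩ := pairs_conj_into_maximal hM hmax (Star.mem_prs.mp ha).2
    have hn : IsNormalSubpair p M (conjIdx w a).1 (conjIdx w a).2 D c :=
      SubsectionOrbits.normal_of_le hM hmax hab hw
    have hb1 := (Star.mem_prs.mp (Star.prs_conj_mem w ha)).1
    have hconj : ∀ χ : IrrCharacter G, Star.pc (χ : G → ℂ) g a =
        Star.pc (χ : G → ℂ) ((w * u * w⁻¹) * (w * s * w⁻¹)) (conjIdx w a) := fun χ => by
      rw [show (w * u * w⁻¹) * (w * s * w⁻¹) = w * (u * s) * w⁻¹ by group,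
        Star.pc_conj (isClassFunction_character (irr_isCharacter χ.2)), hu, hs, Star.self_eq]
    obtain ⟨z, hz⟩ : ∃ z, z = w * u * w⁻¹ := ⟨_, rfl⟩
    rw [← hz] at hb1 hconj
    generalize conjIdx w a = b at hn hb1 hconj
    obtain ⟨R, r⟩ := b
    dsimp only at hn hb1 hconj
    subst hb1
    have hzD : z ∈ D := hn.2.2.1 (Subgroup.mem_zpowers z)
    have hz1 : (⟨z, hzD⟩ : D) ≠ 1 := fun h => hu1 (conj_eq_one_iff.mp (hz.symm.trans (congrArg Subtype.val h)))
    obtain ⟨f, κ, m, l, hH⟩ := hval ⟨z, hzD⟩ hz1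
    obtain rfl : r = f := SubsectionOrbits.below_unique hM hn l.below
    obtain ⟨ξ, hξ⟩ := block_nonempty hP hn.1.2
    have hQfree : ∀ t ∈ pairStab hP hmax.1.1.2, (∀ u ∈ Subgroup.zpowers z, t * u = u * t) →
        t ∈ Subgroup.centralizer (D : Set G) := fun t ht h =>
      hfree t ht z hzD (fun h1 => hz1 (Subtype.ext h1)) (by rw [h _ (Subgroup.mem_zpowers _), mul_inv_cancel_right])
    have hsC : w * s * w⁻¹ ∈ Subgroup.centralizer (Subgroup.zpowers z : Set G) :=
      Star.mem_czp.mpr (by
        have h := (Star.mem_regC.mp hsR).1.map (MulAut.conj w).toMonoidHom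
        simpa [hz, hu, hs] using h)
    have hs' : ¬ p ∣ orderOf (⟨w * s * w⁻¹, hsC⟩ : Subgroup.centralizer (Subgroup.zpowers z : Set G)) := by
      rw [Subgroup.orderOf_mk]
      have : orderOf (w * s * w⁻¹) = orderOf s :=
        orderOf_injective (MulAut.conj w).toMonoidHom (MulAut.conj w).injective s
      rw [this]
      exact (Star.mem_regC.mp hsR).2
    refine ⟨⟨z, hzD⟩, (ξ : Subgroup.centralizer (Subgroup.zpowers z : Set G) → ℂ) ⟨_, hsC⟩ * (sg ⟨z, hzD⟩ : ℂ),
      hz1, memLR_mul hP (memLR_char hP (irr_isCharacter ξ.2) _) (memLR_intCast hP _), fun χ => ?_⟩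
    rw [hconj, hH χ]
    have h2 := pc_eq_secVal hM hmax hab hd hzD hQfree l hξ hs' χ.1
    rw [h2]
    rcases hsg ⟨z, hzD⟩ with h | h <;> simp [h]
  choose z r hz1 hr hpc using key
  refine ⟨fun y => ∑ a ∈ (Star.prs p M B u).attach, if z a.1 a.2 = y then r a.1 a.2 else 0,
    fun y => memLR_sum hP _ _ fun a _ => ?_, Finset.sum_eq_zero fun a _ => if_neg (hz1 a.1 a.2), fun χ => ?_⟩
  · split_ifs
    · exact hr a.1 a.2
    · exact memLR_zero hP
  · have hth := congrFun (Star.theta_one hM hmax χ.2) g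
    rw [Star.theta] at hth
    rw [← hth, ← hu, ← Finset.sum_attach]
    simp only [Finset.sum_mul, ite_mul, zero_mul]
    rw [Finset.sum_comm]
    refine Finset.sum_congr rfl fun a _ => ?_
    rw [Finset.sum_ite_eq, if_pos (Finset.mem_univ _), Star.wt_one hM hmax a.2, one_mul]
    exact hpc a.1 a.2 χ

open scoped Classical in
/-- The pairing of a column with the family. -/
theorem pair_local (g : G) {z : D} (hz : z ≠ 1) :
    MemLocalRing M ((∑ χ : {χ // χ ∈ B}, (χ.1 : G → ℂ) g * H χ z) /
      (Nat.card (Subgroup.centralizer ({g} : Set G)) : ℂ)) := by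
  have hP := pmod_prime hM
  obtain ⟨f, κ, m, l, hH⟩ := hval z hz
  have hall : ∑ χ : {χ // χ ∈ B}, (χ.1 : G → ℂ) g * H χ z =
      ((sg z : ℂ) / (m : ℂ)) * ∑ χ : IrrCharacter G, (χ : G → ℂ) g * secVal hM ι χ (z : G) := by
    rw [Finset.sum_congr rfl fun χ _ => by rw [hH χ], ← Finset.sum_subtype (Finset.univ.filter (· ∈ B))
      (fun χ => by simp) (fun χ => (χ : G → ℂ) g * ((sg z : ℂ) * (secVal hM ι χ (z : G) / (m : ℂ)))),
      Finset.sum_subset (Finset.subset_univ _) fun χ _ hχ => by
        rw [secVal_outside hM hmax hab hd (show χ ∉ B by simpa using hχ)]; simp, Finset.mul_sum]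
    exact Finset.sum_congr rfl fun χ _ => by ring
  have hC0 : (Nat.card (Subgroup.centralizer ({g} : Set G)) : ℂ) ≠ 0 := Nat.cast_ne_zero.mpr Nat.card_pos.ne'
  rw [hall, mul_div_assoc, div_eq_mul_inv (sg z : ℂ)]
  refine memLR_mul hP (memLR_mul hP (memLR_intCast hP _) (memLR_inv_natCast hM l.unit)) ?_
  simp only [secVal_sum hM hmax hab hd z.2 l, Finset.mul_sum]
  rw [Finset.sum_comm, Finset.sum_div]
  refine memLR_sum hP _ _ fun h _ => ?_
  rw [Finset.sum_congr rfl fun χ _ => mul_left_comm _ (co κ h) _, ← Finset.mul_sum, mul_div_assoc]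
  refine memLR_mul hP (memLR_co κ h) ?_
  rw [Finset.sum_congr rfl (g := fun χ : IrrCharacter G =>
    (χ : G → ℂ) g * conj ((χ : G → ℂ) ((z : G) * (h : G))⁻¹)) fun χ _ => by
      rw [char_inv (irr_isCharacter χ.2), Complex.conj_conj], second_orth]
  split_ifs with hc
  · have h1 := DegBelow.card_centralizer_mul g
    have e : Nat.card {x : G // IsConj ((z : G) * (h : G))⁻¹ x} = Nat.card {x : G // IsConj g x} :=
      Nat.card_congr (Equiv.subtypeEquivRight fun x => ⟨fun h => hc.trans h, fun h => hc.symm.trans h⟩)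
    rw [e, ← h1, Nat.cast_mul]
    haveI : Nonempty {x : G // IsConj g x} := ⟨⟨g, IsConj.refl g⟩⟩
    rw [mul_div_cancel_left₀ _ (Nat.cast_ne_zero.mpr (Nat.card_pos (α := {x : G // IsConj g x})).ne'),
      div_self hC0]
    exact memLR_one hP
  · rw [zero_div]
    exact memLR_zero hP

end Cfsg.Agent.Char.CyclicColumns
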