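import Mathlib

/-!
# Blocks of algebras whose corner is a truncated polynomial algebra

A central idempotent `b`, an idempotent `g` generating `b` as a two-sided ideal and a central element `z` with
`g R g = k[z] g` and `z ^ (q - 1) g ≠ 0`. Maps between the corners of two modules extend to the modules, and the
elements killed by `z` are multiples of `z ^ (q - 1)`.
-/

set_option autoImplicit false
set_option linter.unusedSectionVars false

namespace Cfsg.Agent.Char.CyclicCorner

open Polynomial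

universe u v w

variable {k : Type v} [Field k] {R : Type w} [Ring R] [Algebra k R]

/-- The corner of a block that is a truncated polynomial algebra. -/
structure Corner (k : Type v) [Field k] {R : Type w} [Ring R] [Algebra k R] (b g z : R) (q : ℕ) : Prop where
  bcomm : ∀ r, b * r = r * b
  bb : b * b = b
  gg : g * g = g
  bg : b * g = g
  full : ∃ (m : ℕ) (r s : Fin m → R), ∑ i, r i * g * s i = b
  zcomm : ∀ r, z * r = r * z
  zb : b * z = z
  zq : z ^ q * b = 0
  corner : ∀ r, ∃ P : k[X], g * r * g = aeval z P * g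
  top : z ^ (q - 1) * g ≠ 0
  two : 2 ≤ q

variable {b g z : R} {q : ℕ} (hK : Corner k b g z q)
include hK

theorem Corner.zg_zero : z ^ q * g = 0 := by rw [← hK.bg, ← mul_assoc, hK.zq, zero_mul]

theorem Corner.aeval_comm (P : k[X]) (r : R) : aeval z P * r = r * aeval z P := by
  induction P using Polynomial.induction_on' with
  | add a b ha hb => rw [map_add, add_mul, mul_add, ha, hb]
  | monomial n c =>
    rw [aeval_monomial, mul_assoc, ((show Commute z r from hK.zcomm r).pow_left n).eq, ← mul_assoc,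
      Algebra.commutes c r, mul_assoc]

theorem Corner.X_pow_dvd (P : k[X]) : ∀ j, j ≤ q → z ^ (q - j) * (aeval z P * g) = 0 → X ^ j ∣ P := by
  intro j
  induction j with
  | zero => intro _ _; rw [pow_zero]; exact one_dvd _
  | succ j ih =>
    intro hj h
    obtain ⟨Q, rfl⟩ := ih (by omega) (by
      rw [show q - j = 1 + (q - (j + 1)) by omega, pow_add, mul_assoc, h, mul_zero])
    rw [map_mul, map_pow, aeval_X, mul_assoc, ← mul_assoc (z ^ (q - (j + 1))), ← pow_add,
      show q - (j + 1) + j = q - 1 by omega, ← mul_assoc] at h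
    have h1 : (Q.coeff 0) • (z ^ (q - 1) * g) = 0 := by
      have e : aeval z Q = z * aeval z Q.divX + algebraMap k R (Q.coeff 0) := by
        conv_lhs => rw [← X_mul_divX_add Q, map_add, map_mul, aeval_X, aeval_C]
      rw [e, mul_add, add_mul, ← mul_assoc, ← pow_succ, show q - 1 + 1 = q by have := hK.two; omega,
        mul_assoc (z ^ q), hK.aeval_comm, ← mul_assoc, hK.zg_zero, zero_mul, zero_add,
        ← Algebra.commutes, mul_assoc, ← Algebra.smul_def] at h
      exact h
    have h0 : Q.coeff 0 = 0 := (smul_eq_zero.mp h1).resolve_right hK.top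
    rw [pow_succ]
    exact mul_dvd_mul_left _ (X_dvd_iff.mpr h0)

/-- An element killed by `z` in the block is a multiple of `z ^ (q - 1)`. -/
theorem Corner.socle {u : R} (hu : z * u = 0) (hbu : b * u = u) : ∃ r, u = z ^ (q - 1) * r := by
  obtain ⟨m, r, s, hrs⟩ := hK.full
  have key : ∀ i j, ∃ t, g * (s i * u * r j) * g = z ^ (q - 1) * t := by
    intro i j
    obtain ⟨P, hP⟩ := hK.corner (s i * u * r j)
    have h1 : z ^ (q - (q - 1)) * (aeval z P * g) = 0 := by
      rw [show q - (q - 1) = 1 by have := hK.two; omega, pow_one, ← hP]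
      simp only [← mul_assoc]
      rw [show z * g = g * z from hK.zcomm g, mul_assoc g z (s i), hK.zcomm (s i), ← mul_assoc,
        mul_assoc (g * s i) z u, hu]
      simp
    obtain ⟨Q, rfl⟩ := hK.X_pow_dvd P (q - 1) (by omega) h1
    exact ⟨aeval z Q * g, by rw [hP, map_mul, map_pow, aeval_X, mul_assoc]⟩
  choose t ht using key
  refine ⟨∑ i, ∑ j, r i * t i j * s j, ?_⟩
  calc u = b * u * b := by rw [mul_assoc, ← hK.bcomm u, ← mul_assoc, hK.bb, hbu]
    _ = ∑ i, ∑ j, r i * (g * (s i * u * r j) * g) * s j := by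
      rw [← hrs, Finset.sum_mul, Finset.sum_mul]
      simp only [Finset.mul_sum, mul_assoc]
    _ = _ := by
      simp only [ht, Finset.mul_sum]
      refine Finset.sum_congr rfl fun i _ => Finset.sum_congr rfl fun j _ => ?_
      rw [← mul_assoc (r i), ← ((show Commute z (r i) from hK.zcomm _).pow_left (q - 1)).eq]
      simp only [mul_assoc]

section Modules

variable {W₁ : Type u} [AddCommGroup W₁] [Module k W₁] (π₁ : R →ₐ[k] Module.End k W₁)
  {W₂ : Type u} [AddCommGroup W₂] [Module k W₂] (π₂ : R →ₐ[k] Module.End k W₂)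

theorem Corner.eq_zero {x : W₁} (hb : π₁ b x = x) (h : ∀ s, π₁ (g * s) x = 0) : x = 0 := by
  obtain ⟨m, r, s, hrs⟩ := hK.full
  rw [← hb, ← hrs, map_sum, LinearMap.sum_apply]
  exact Finset.sum_eq_zero fun i _ => by rw [mul_assoc, map_mul, Module.End.mul_apply, h, map_zero]

/-- A map of corners commuting with `z` extends to a map of modules. -/
theorem Corner.extend (ψ : W₁ →ₗ[k] W₂) (hψg : ∀ x, π₂ g (ψ (π₁ g x)) = ψ (π₁ g x))
    (hψz : ∀ x, ψ (π₁ z (π₁ g x)) = π₂ z (ψ (π₁ g x))) :
    ∃ φ : W₁ →ₗ[k] W₂, (∀ r x, φ (π₁ r x) = π₂ r (φ x)) ∧ (∀ x, φ (π₁ g x) = ψ (π₁ g x)) ∧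
      (∀ x, φ (π₁ b x) = φ x) ∧ ∀ x, π₂ b (φ x) = φ x := by
  obtain ⟨m, r, s, hrs⟩ := hK.full
  let φ : W₁ →ₗ[k] W₂ := ∑ i, (π₂ (r i)) ∘ₗ ψ ∘ₗ π₁ (g * s i)
  have hφ : ∀ x, φ x = ∑ i, π₂ (r i) (ψ (π₁ (g * s i) x)) := fun x => by simp [φ]
  have hP : ∀ (P : k[X]) (x : W₁), ψ (π₁ (aeval z P) (π₁ g x)) = π₂ (aeval z P) (ψ (π₁ g x)) := by
    intro P
    induction P using Polynomial.induction_on with
    | C c => intro x; simp [Algebra.algebraMap_eq_smul_one, ψ.map_smul]
    | add p q hp hq => intro x; simp only [map_add, LinearMap.add_apply, map_add, hp, hq]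
    | monomial n c ih =>
      intro x
      rw [pow_succ, ← mul_assoc, map_mul (aeval z), aeval_X, map_mul π₁, Module.End.mul_apply,
        ← Module.End.mul_apply (π₁ z) (π₁ g), ← map_mul, show z * g = g * z from hK.zcomm g, map_mul π₁ g z,
        Module.End.mul_apply, ih, map_mul π₂, Module.End.mul_apply, ← hψz]
      congr 2
      rw [← Module.End.mul_apply, ← map_mul, ← Module.End.mul_apply, ← map_mul, hK.zcomm g]
  have hgr : ∀ a x, π₂ (g * a * g) (ψ (π₁ g x)) = ψ (π₁ (g * a * g) (π₁ g x)) := by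
    intro a x
    obtain ⟨P, hP'⟩ := hK.corner a
    rw [hP', map_mul, map_mul, Module.End.mul_apply, Module.End.mul_apply, hψg,
      ← Module.End.mul_apply (π₁ g) (π₁ g), ← map_mul, hK.gg, hP]
  have hkey : ∀ t x, π₂ (g * t) (φ x) = ψ (π₁ (g * t * b) x) := by
    intro t x
    rw [hφ, map_sum, ← hrs, Finset.mul_sum, map_sum, LinearMap.sum_apply, map_sum]
    refine Finset.sum_congr rfl fun i _ => ?_
    have h1 := hgr (t * r i) (π₁ (s i) x)
    rw [map_mul π₁ g (s i), Module.End.mul_apply, ← hψg, ← Module.End.mul_apply (π₂ (r i)), ← map_mul,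
      ← Module.End.mul_apply (π₂ (g * t)), ← map_mul,
      show g * t * (r i * g) = g * (t * r i) * g by simp only [mul_assoc], h1,
      ← Module.End.mul_apply, ← map_mul, ← Module.End.mul_apply, ← map_mul]
    congr 2
    rw [mul_assoc (g * (t * r i) * g), show g * (t * r i) * g * (g * s i) = g * (t * r i) * (g * g) * s i by
      simp only [mul_assoc], hK.gg]
    simp only [mul_assoc]
  have hbφ : ∀ x, π₂ b (φ x) = φ x := fun x => by
    rw [hφ, map_sum]
    refine Finset.sum_congr rfl fun i _ => ?_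
    rw [map_mul π₁ g (s i), Module.End.mul_apply, ← hψg, ← Module.End.mul_apply (π₂ (r i)), ← map_mul,
      ← Module.End.mul_apply (π₂ b), ← map_mul, ← mul_assoc, hK.bcomm, mul_assoc (r i), hK.bg]
  refine ⟨φ, fun a x => ?_, fun x => ?_, fun x => ?_, hbφ⟩
  · refine sub_eq_zero.mp (hK.eq_zero π₂ ?_ fun t => ?_)
    · rw [map_sub, hbφ, ← Module.End.mul_apply, ← map_mul, hK.bcomm, map_mul, Module.End.mul_apply, hbφ]
    · rw [map_sub, hkey, ← Module.End.mul_apply (π₂ (g * t)), ← map_mul, mul_assoc g t a, hkey,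
        ← Module.End.mul_apply, ← map_mul, sub_eq_zero]
      congr 2
      simp only [mul_assoc]
      rw [hK.bcomm a]
  · refine sub_eq_zero.mp (hK.eq_zero π₂ ?_ fun t => ?_)
    · rw [map_sub, hbφ, ← hψg, ← Module.End.mul_apply, ← map_mul, hK.bg, hψg]
    · rw [map_sub, hkey, ← hψg, ← Module.End.mul_apply (π₂ (g * t)), ← map_mul, hgr,
        ← Module.End.mul_apply, ← map_mul, ← Module.End.mul_apply, ← map_mul, sub_eq_zero]
      congr 2
      simp only [mul_assoc, hK.bg, hK.gg]
  · refine sub_eq_zero.mp (hK.eq_zero π₂ ?_ fun t => ?_)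
    · rw [map_sub, hbφ, hbφ]
    · rw [map_sub, hkey, hkey, ← Module.End.mul_apply, ← map_mul, mul_assoc (g * t), hK.bb, sub_self]

/-- In a simple module of the block `z` vanishes and the corner is a line. -/
theorem Corner.simple (hb : ∀ x, π₁ b x = x)
    (hs : ∀ U : Submodule k W₁, (∀ r, ∀ x ∈ U, π₁ r x ∈ U) → U = ⊥ ∨ U = ⊤) :
    π₁ z = 0 ∧ ∀ x y, π₁ g x ≠ 0 → ∃ c : k, π₁ g y = c • π₁ g x := by
  have hz : π₁ z = 0 := by
    have hinv : ∀ r, ∀ x ∈ LinearMap.ker (π₁ z), π₁ r x ∈ LinearMap.ker (π₁ z) := fun r x hx => by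
      rw [LinearMap.mem_ker] at hx ⊢
      rw [← Module.End.mul_apply, ← map_mul, hK.zcomm, map_mul, Module.End.mul_apply, hx, map_zero]
    rcases hs _ hinv with h | h
    · refine LinearMap.ext fun x => ?_
      have hinj := LinearMap.ker_eq_bot.mp h
      have h1 : ∀ j y, π₁ (z ^ j) y = 0 → y = 0 := fun j => by
        induction j with
        | zero => intro y hy; simpa using hy
        | succ j ih =>
          intro y hy
          rw [pow_succ', map_mul, Module.End.mul_apply] at hy
          exact ih y (hinj (hy.trans (map_zero _).symm))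
      have : x = 0 := h1 q x (by rw [← hb x, ← Module.End.mul_apply, ← map_mul, hK.zq, map_zero]; rfl)
      rw [this, map_zero, map_zero]
    · exact LinearMap.ker_eq_top.mp h
  refine ⟨hz, fun x y hx => ?_⟩
  let U : Submodule k W₁ := LinearMap.range
    ({ toFun := fun r => π₁ r (π₁ g x)
       map_add' := fun a c => by rw [map_add, LinearMap.add_apply]
       map_smul' := fun c a => by rw [map_smul, LinearMap.smul_apply, RingHom.id_apply] } : R →ₗ[k] W₁)
  have hU : U = ⊤ := (hs U fun r _ ⟨a, ha⟩ => ⟨r * a, by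
    rw [← ha]; show π₁ (r * a) _ = π₁ r (π₁ a _); rw [map_mul, Module.End.mul_apply]⟩).resolve_left fun h => hx (by
      have h1 : π₁ g x ∈ U := ⟨1, by show π₁ 1 _ = _; rw [map_one, Module.End.one_apply]⟩
      rwa [h, Submodule.mem_bot] at h1)
  obtain ⟨r, hr⟩ : y ∈ U := hU ▸ Submodule.mem_top
  obtain ⟨P, hP⟩ := hK.corner r
  refine ⟨P.coeff 0, ?_⟩
  rw [← hr]
  show π₁ g (π₁ r (π₁ g x)) = _
  rw [← Module.End.mul_apply, ← Module.End.mul_apply, ← map_mul, ← map_mul, hP, map_mul,
    Module.End.mul_apply, ← aeval_algHom_apply, hz, aeval_eq_sum_range, LinearMap.sum_apply,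
    Finset.sum_eq_single 0]
  · simp
  · intro j _ hj
    simp [zero_pow hj]
  · simp

end Modules

end Cfsg.Agent.Char.CyclicCorner
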