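import Cfsg.Agent.Lib.Char.LocalPairs

/-!
# The first main theorem through Brauer pairs
-/

set_option autoImplicit false

namespace Cfsg.Agent.Char

open Cfsg Module
open scoped ComplexConjugate

universe u

variable {G : Type u} [Group G] [Fintype G] {M : Ideal AlgInt} {p : ℕ}

/-- Every pair belongs to a block. -/
theorem exists_pairOf (hM : IsPModular p M) {P : Subgroup G}
    {e : Set (IrrCharacter (Subgroup.centralizer (P : Set G)))} (h : IsBrauerPair p M P e) :
    ∃ B : Set (IrrCharacter G), IsBrauerPairOf p M B P e := by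
  classical
  haveI := Fintype.ofFinite (Subgroup.centralizer (P : Set G))
  have hMp := pmod_prime hM
  obtain ⟨ξ0, hξ0⟩ := block_nonempty hMp h.2
  obtain ⟨B, hB, hone, -⟩ := (isCentralHom_brLam hM h.1 le_rfl
    (Subgroup.centralizer_le_normalizer (P : Set G)) ξ0).exists_block hM
  refine ⟨B, h, hB, brOne_of_mem hM h.2
    (isGoodFun_of_classFun P (isIntClassFun_blockCoeff hM hB)) hξ0 ?_⟩
  rw [brauerOmega_eq]
  refine memLI_trans hMp (y := brLam P (Subgroup.centralizer (P : Set G))
    (ξ0 : Subgroup.centralizer (P : Set G) → ℂ) (blockCoeff B)) ?_ hone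
  rw [brLam, show brRes P (Subgroup.centralizer (P : Set G)) (blockCoeff B) = tr P (blockCoeff B) from
    funext fun c => by rw [brRes, if_pos c.2]; rfl, sub_self]
  exact memLI_zero hMp

/-- A pair belongs to only one block. -/
theorem pairOf_unique (hM : IsPModular p M) {P : Subgroup G}
    {e : Set (IrrCharacter (Subgroup.centralizer (P : Set G)))} {B B' : Set (IrrCharacter G)}
    (h : IsBrauerPairOf p M B P e) (h' : IsBrauerPairOf p M B' P e) : B = B' := by
  haveI := Fintype.ofFinite (Subgroup.centralizer (P : Set G))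
  have hMp := pmod_prime hM
  obtain ⟨ξ, hξ⟩ := block_nonempty hMp h.1.2
  obtain ⟨χ, hχ⟩ := block_nonempty hMp h.2.1
  have h1 := pair_lam hM h hξ hχ (isIntClassFun_blockCoeff hM h'.2.1)
  have h2 := h'.2.2 ξ hξ
  rw [brauerOmega_eq] at h2
  rw [lam_blockCoeff] at h1
  refine block_disjoint hMp h.2.1 h'.2.1 hχ ?_
  by_contra hn
  rw [if_neg hn, sub_zero] at h1
  exact memLI_one_iff hMp (by simpa using memLI_sub hMp h1 h2)

theorem card_pairOf_le (hM : IsPModular p M) {B : Set (IrrCharacter G)} {D : Subgroup G}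
    (hD : IsDefectGroup p M B D) {R : Subgroup G}
    {g : Set (IrrCharacter (Subgroup.centralizer (R : Set G)))} (h : IsBrauerPairOf p M B R g) :
    ∃ t : G, R ≤ D.map (MulAut.conj t).toMonoidHom := by
  classical
  haveI := Fintype.ofFinite (Subgroup.centralizer (R : Set G))
  have hMp := pmod_prime hM
  obtain ⟨y, hy, hDy⟩ := (isDefectGroup_iff B D).mp hD
  obtain ⟨ξ, hξ⟩ := block_nonempty hMp h.1.2
  obtain ⟨x, hx⟩ : ∃ x : Subgroup.centralizer (R : Set G), ¬ MemLocalIdeal M (blockCoeff B (x : G)) := by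
    by_contra hne
    push Not at hne
    have h1 := h.2.2 ξ hξ
    rw [brauerOmega_eq] at h1
    have h2 := memLI_lam hMp ξ.2 (isGoodFun_of_classFun R
      (isIntClassFun_blockCoeff hM h.2.1)).tr.1 hne
    exact memLI_one_iff hMp (by simpa using memLI_sub hMp h2 h1)
  exact le_defect_of_detect hM h.2.1 hy hDy h.1.1 x.2 hx

theorem exists_pair_of_le_defect (hM : IsPModular p M) {B : Set (IrrCharacter G)} (hB : IsPBlock M B)
    {D P : Subgroup G} (hD : IsDefectGroup p M B D) (hPD : P ≤ D) :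
    ∃ e, IsBrauerPairOf p M B P e := by
  obtain ⟨y, hy, hDy⟩ := (isDefectGroup_iff B D).mp hD
  have hP : IsPGroup p P := hDy.isPGroup.to_le hPD
  obtain ⟨e, he, hone⟩ := exists_brOne hM hP
    (isGoodFun_of_classFun P (isIntClassFun_blockCoeff hM hB)) (conv_blockCoeff B)
    (x := ⟨y, centralizer_antitone hPD hDy.self_mem_centralizer⟩) hy.2.1
  exact ⟨e, ⟨hP, he⟩, hB, hone⟩

/-- A pair on a defect group is maximal. -/
theorem maximal_of_defect (hM : IsPModular p M) {B : Set (IrrCharacter G)} {P : Subgroup G}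
    {e : Set (IrrCharacter (Subgroup.centralizer (P : Set G)))} (hP : IsDefectGroup p M B P)
    (h : IsBrauerPairOf p M B P e) : IsMaximalBrauerPair p M B P e := by
  refine ⟨h, fun R g hR hle => ?_⟩
  obtain ⟨t, ht⟩ := card_pairOf_le hM hP hR
  have h1 := Subgroup.card_le_of_le ht
  rw [Subgroup.card_map_of_injective (MulEquiv.injective _)] at h1
  exact (Subgroup.eq_of_le_of_card_ge (subpair_le hle) h1).symm

/-- Maximality can be seen one normal step away. -/
theorem maximal_iff_local (hM : IsPModular p M) {B : Set (IrrCharacter G)} {P : Subgroup G}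
    {e : Set (IrrCharacter (Subgroup.centralizer (P : Set G)))} (h : IsBrauerPairOf p M B P e) :
    IsMaximalBrauerPair p M B P e ↔ ∀ a : BrauerPairIdx G,
      IsNormalSubpair p M P e a.1 a.2 → a.1 = P := by
  constructor
  · intro hmax a ha
    exact hmax.2 a.1 a.2 ((brauerPairOf_iff hM h.2.1 ha).mp h) (Relation.ReflTransGen.single ha)
  · intro hloc
    refine ⟨h, fun R g hR hle => ?_⟩
    rcases first_step_rel hM (a := (⟨P, e⟩ : BrauerPairIdx G)) (b := ⟨R, g⟩) hle with heq | ⟨c, hlt, hstep, -⟩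
    · exact (Sigma.mk.inj_iff.mp heq).1.symm
    · exact absurd (hloc c hstep) hlt.ne'

theorem pairStab_over_all (hM : IsPModular p M) {Q : Subgroup G}
    {f : Set (IrrCharacter (Subgroup.centralizer (Q : Set G)))} (hQ : IsPGroup p Q)
    (hf : IsPBlock M f) {H : Subgroup G} (hc : StabCtx p M Q f H) :
    H ≤ pairStab (pmod_prime hM) hf :=
  fun u hu => (mem_pairStab _ hf).mpr (hc.stab u hu)

section Sub

variable {H : Subgroup G} [Fintype H] {P0 : Subgroup H}
  {e0 : Set (IrrCharacter (Subgroup.centralizer (P0 : Set H)))}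

/-- A block whose pair lifts to a pair of `B` induces `B` whenever it induces anything. -/
theorem pairOf_of_induced (hM : IsPModular p M) {c : Set (IrrCharacter H)} {B : Set (IrrCharacter G)}
    (hind : IsInducedBlock M H c B)
    (hC : Subgroup.centralizer ((P0.map H.subtype : Subgroup G) : Set G) ≤ H)
    (hp : IsBrauerPairOf p M c P0 e0) :
    IsBrauerPairOf p M B (P0.map H.subtype) (liftBlock P0 e0) := by
  classical
  haveI := Fintype.ofFinite (Subgroup.centralizer (P0 : Set H))
  have hMp := pmod_prime hM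
  refine ⟨⟨hp.1.1.map _, isPBlock_liftBlock P0 hC hp.1.2⟩, hind.2.1, ?_⟩
  refine (brOne_lift_iff P0 hC (F := fun x : H => blockCoeff B (x : G)) (fun c _ => rfl) e0).mpr ?_
  intro ξ hξ
  obtain ⟨ψ, hψ⟩ := block_nonempty hMp hind.1
  obtain ⟨χ, hχ⟩ := block_nonempty hMp hind.2.1
  have hbI := isIntClassFun_blockCoeff hM hind.2.1
  have hbH : IsIntClassFun M (fun x : H => blockCoeff B (x : G)) :=
    ⟨isClassFunction_restrict hbI.1, fun x => hbI.2 _⟩
  rw [brauerOmega_eq]
  have h1 := pair_lam hM hp hξ hψ hbH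
  have h2 := induced_congr_fun hMp (fun g => hind.2.2 ψ hψ χ hχ g) hbI
  rw [lam_blockCoeff, if_pos hχ] at h2
  exact memLI_trans hMp h1 h2

theorem maximal_lift_iff (hM : IsPModular p M)
    (hN : Subgroup.normalizer ((P0.map H.subtype : Subgroup G) : Set G) ≤ H)
    {c : Set (IrrCharacter H)} {B : Set (IrrCharacter G)} (hc : IsBrauerPairOf p M c P0 e0)
    (hB : IsBrauerPairOf p M B (P0.map H.subtype) (liftBlock P0 e0)) :
    IsMaximalBrauerPair p M c P0 e0 ↔
      IsMaximalBrauerPair p M B (P0.map H.subtype) (liftBlock P0 e0) := by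
  have hC : Subgroup.centralizer ((P0.map H.subtype : Subgroup G) : Set G) ≤ H :=
    (centralizer_le_norm _).trans hN
  rw [maximal_iff_local hM hc, maximal_iff_local hM hB]
  constructor
  · rintro h ⟨R, g⟩ ha
    obtain ⟨R0, rfl⟩ : ∃ R0 : Subgroup H, R0.map H.subtype = R :=
      ⟨R.subgroupOf H, Subgroup.map_subgroupOf_eq_of_le (ha.2.2.2.1.trans hN)⟩
    have hle : P0 ≤ R0 := fun x hx => by
      obtain ⟨y, hy, hyx⟩ := ha.2.2.1 ⟨x, hx, rfl⟩
      exact Subtype.ext hyx ▸ hy
    have hCR := (centralizer_antitone ha.2.2.1).trans hC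
    obtain ⟨g0, hg0, rfl⟩ := exists_preimage R0 hCR ha.2.1.2
    haveI := Fintype.ofFinite (Subgroup.centralizer (P0 : Set H))
    have hR0p : IsPGroup p R0 :=
      ha.2.1.1.of_equiv (R0.equivMapOfInjective _ (Subgroup.subtype_injective H)).symm
    have hN0 : R0 ≤ Subgroup.normalizer (P0 : Set H) := fun u hu => by
      rw [Subgroup.mem_normalizer_iff]
      intro y
      have h1 := (Subgroup.mem_normalizer_iff.mp (ha.2.2.2.1 ⟨u, hu, rfl⟩)) (y : G)
      constructor
      · intro hy
        obtain ⟨z, hz, hzy⟩ := h1.mp ⟨y, hy, rfl⟩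
        exact (show z = u * y * u⁻¹ from Subtype.ext hzy) ▸ hz
      · intro hy
        obtain ⟨z, hz, hzy⟩ := h1.mpr ⟨_, hy, rfl⟩
        exact (show z = y from Subtype.ext hzy) ▸ hz
    have hst : ∀ u ∈ R0, StabilizesBlock (Subgroup.centralizer (P0 : Set H)) e0 u := fun u hu => by
      refine stabilizes_of_blockCoeff (pmod_prime hM) (hN0 hu) hc.1.2 fun y => ?_
      haveI := Fintype.ofFinite (Subgroup.centralizer ((P0.map H.subtype : Subgroup G) : Set G))
      have hu' : (u : G) ∈ R0.map H.subtype := ⟨u, hu, rfl⟩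
      have h2 : subgroupBlockCoeff (Subgroup.centralizer ((P0.map H.subtype : Subgroup G) : Set G))
          (liftBlock P0 e0) ((u : G) * (y : G) * (u : G)⁻¹) =
          subgroupBlockCoeff (Subgroup.centralizer ((P0.map H.subtype : Subgroup G) : Set G))
          (liftBlock P0 e0) (y : G) :=
        blockCoeff_conj_eq_of_stabilizes (ha.2.2.2.1 hu') (ha.2.2.2.2.1 _ hu') (y : G)
      rw [subgroupBlockCoeff_lift P0 hC, subgroupBlockCoeff_lift P0 hC, extendByZero_mem _ _ y.2,
        extendByZero_mem _ _ (mul_mem (mul_mem u.2 y.2) (inv_mem u.2))] at h2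
      exact h2
    have h3 : NormalSubpairRel p M (⟨P0, e0⟩ : BrauerPairIdx H) ⟨R0, g0⟩ := by
      refine ⟨hc.1, ⟨hR0p, hg0⟩, hle, hN0, hst, ?_⟩
      refine (brOne_lift_iff R0 hCR (fun x _ => ?_) g0).mp ha.2.2.2.2.2
      rw [subgroupBlockCoeff_lift P0 hC, extendByZero_mem _ _ x.2]
    exact congrArg (Subgroup.map H.subtype) (h ⟨R0, g0⟩ h3)
  · rintro h ⟨R0, g0⟩ ha
    have h1 := normalSubpair_lift hM (a := (⟨P0, e0⟩ : BrauerPairIdx H)) (b := ⟨R0, g0⟩) hC ha
    exact Subgroup.map_injective (Subgroup.subtype_injective H) (h _ h1)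

theorem brauer_congr_of_maximal (hM : IsPModular p M)
    (hN : Subgroup.normalizer ((P0.map H.subtype : Subgroup G) : Set G) ≤ H)
    {c : Set (IrrCharacter H)} {B : Set (IrrCharacter G)}
    (hc : IsMaximalBrauerPair p M c P0 e0)
    (hB : IsMaximalBrauerPair p M B (P0.map H.subtype) (liftBlock P0 e0)) (x : G)
    (hx : x ∈ Subgroup.centralizer ((P0.map H.subtype : Subgroup G) : Set G)) :
    MemLocalIdeal M (blockCoeff B x - subgroupBlockCoeff H c x) := by
  classical
  have hMp := pmod_prime hM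
  have hC : Subgroup.centralizer ((P0.map H.subtype : Subgroup G) : Set G) ≤ H :=
    (centralizer_le_norm _).trans hN
  set P := P0.map H.subtype
  haveI := Fintype.ofFinite (Subgroup.centralizer (P : Set G))
  haveI := Fintype.ofFinite (Subgroup.centralizer (P0 : Set H))
  haveI := Fintype.ofFinite (Subgroup.normalizer (P : Set G))
  haveI := Fintype.ofFinite (Subgroup.normalizer (P0 : Set H))
  have hp : IsPGroup p P := hB.1.1.1
  have hBI := isIntClassFun_blockCoeff hM hB.1.2.1
  have hcI := isIntClassFun_blockCoeff hM hc.1.2.1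
  have hgH : IsGoodFun M P (subgroupBlockCoeff H c) := by
    have key : ∀ a ∈ H, ∀ y, subgroupBlockCoeff H c (a * y * a⁻¹) = subgroupBlockCoeff H c y := by
      intro a ha y
      rw [subgroupBlockCoeff_eq]
      by_cases hy : y ∈ H
      · rw [extendByZero_mem _ _ hy, extendByZero_mem _ _ (mul_mem (mul_mem ha hy) (inv_mem ha))]
        exact hcI.1 ⟨y, hy⟩ ⟨a, ha⟩
      · rw [extendByZero_not_mem _ _ hy, extendByZero_not_mem]
        exact fun h => hy (by simpa [mul_assoc] using mul_mem (mul_mem (inv_mem ha) h) ha)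
    refine ⟨fun y => ?_, fun a ha => key a (Subgroup.map_subtype_le _ ha), fun a ha => key a (hC ha)⟩
    rw [subgroupBlockCoeff_eq]
    by_cases hy : y ∈ H
    · rw [extendByZero_mem _ _ hy]; exact hcI.2 _
    · rw [extendByZero_not_mem _ _ hy]; exact memLR_zero hMp
  have hgB := isGoodFun_of_classFun (M := M) P hBI
  have hi1 := isModIdem_tr hM hp hgB (conv_blockCoeff B)
  have hi2 := isModIdem_tr hM hp hgH (conv_subgroupBlockCoeff H c)
  have hval : ∀ (f0 : Set (IrrCharacter (Subgroup.centralizer (P0 : Set H)))), IsPBlock M f0 →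
      (BrOne M P (blockCoeff B) (liftBlock P0 f0) ↔ BrOne M P (subgroupBlockCoeff H c) (liftBlock P0 f0)) := by
    intro f0 hf0
    rw [brOne_lift_iff P0 hC (F := blockCoeff c) (F' := subgroupBlockCoeff H c) (fun y _ => by
      rw [subgroupBlockCoeff_eq, extendByZero_mem _ _ y.2]) f0]
    constructor
    · intro h1
      obtain ⟨n, hn, hnf⟩ := maximal_pairs_conj hM hB ⟨⟨hp, isPBlock_liftBlock P0 hC hf0⟩, hB.1.2.1, h1⟩
      have hpn := brauerPairOf_conj (⟨n, hN hn⟩ : H) hc.1
      have hnP : (conjIdx (⟨n, hN hn⟩ : H) (⟨P0, e0⟩ : BrauerPairIdx H)).1 = P0 :=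
        Subgroup.map_injective (Subgroup.subtype_injective H) (by
          rw [show (conjIdx (⟨n, hN hn⟩ : H) (⟨P0, e0⟩ : BrauerPairIdx H)).1.map H.subtype =
            P.map (MulAut.conj n).toMonoidHom by
              simp only [conjIdx, P, Subgroup.map_map]; rfl]
          exact Subgroup.mem_normalizer_iff_map_conj_eq.mp hn)
      have h2 := liftIdx_conj hMp (⟨n, hN hn⟩ : H) (a := ⟨P0, e0⟩) hC (by rw [hnP]; exact hC) hc.1.1.2
      have h3 : liftIdx H (⟨P0, f0⟩ : BrauerPairIdx H) =
          liftIdx H (conjIdx (⟨n, hN hn⟩ : H) ⟨P0, e0⟩) := hnf.trans h2.symm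
      have h4 : (⟨P0, f0⟩ : BrauerPairIdx H) = conjIdx (⟨n, hN hn⟩ : H) ⟨P0, e0⟩ := by
        refine idx_ext hMp hnP.symm hf0 hpn.1.2 fun y => ?_
        have h5 := congrArg (fun a : BrauerPairIdx G =>
          subgroupBlockCoeff (Subgroup.centralizer (a.1 : Set G)) a.2 (y : G)) h3
        simp only [liftIdx, conjIdx] at h5
        rw [subgroupBlockCoeff_lift P0 hC, extendByZero_mem _ _ y.2] at h5
        rw [h5]
        refine (subgroupBlockCoeff_lift _ ((centralizer_antitone (le_of_eq ?_)).trans hC) _ _).trans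
          (extendByZero_mem _ _ y.2)
        exact congrArg (Subgroup.map H.subtype) hnP.symm
      have h6 : IsBrauerPairOf p M c P0 f0 :=
        Eq.mpr (congrArg (fun a : BrauerPairIdx H => IsBrauerPairOf p M c a.1 a.2) h4) hpn
      exact h6.2.2
    · intro h1
      obtain ⟨n, hn, hnf⟩ := maximal_pairs_conj hM hc ⟨⟨hc.1.1.1, hf0⟩, hc.1.2.1, h1⟩
      have hnP : (conjIdx n (⟨P0, e0⟩ : BrauerPairIdx H)).1 = P0 :=
        (Sigma.mk.inj_iff.mp hnf).1.symm
      have h2 := liftIdx_conj hMp n (a := ⟨P0, e0⟩) hC (by rw [hnP]; exact hC) hc.1.1.2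
      have h3 := brauerPairOf_conj (n : G) hB.1
      have h4 : liftIdx H (⟨P0, f0⟩ : BrauerPairIdx H) = conjIdx (n : G) (liftIdx H ⟨P0, e0⟩) := by
        rw [hnf]; exact h2
      have h6 : IsBrauerPairOf p M B P (liftBlock P0 f0) :=
        Eq.mpr (congrArg (fun a : BrauerPairIdx G => IsBrauerPairOf p M B a.1 a.2) h4) h3
      exact h6.2.2
  have hceq : CEq M (tr P (blockCoeff B)) (tr P (subgroupBlockCoeff H c)) := by
    refine hi1.ext hM hi2 fun ψ => ?_
    obtain ⟨f0, hf0, hf0eq⟩ := exists_preimage P0 hC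
      (isPBlock_blockOf M (ψ : IrrCharacter (Subgroup.centralizer (P : Set G))))
    have hψ : ψ ∈ liftBlock P0 f0 := by rw [hf0eq]; exact self_mem_blockOf hMp ψ
    have hb := isPBlock_liftBlock P0 hC hf0
    have key := hval f0 hf0
    rcases hi1.lam_cases hMp ψ with h0 | h1
    · rcases hi2.lam_cases hMp ψ with h0' | h1'
      · exact memLI_trans hMp (y := 0) (by rwa [sub_zero]) (by rw [zero_sub]; exact memLI_neg hMp h0')
      · have h3 := key.mpr (brOne_of_mem hM hb hgH hψ (by rwa [brauerOmega_eq])) ψ hψ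
        rw [brauerOmega_eq] at h3
        exact absurd (by simpa using memLI_sub hMp h0 h3) (memLI_one_iff (M := M) hMp)
    · rcases hi2.lam_cases hMp ψ with h0' | h1'
      · have h3 := key.mp (brOne_of_mem hM hb hgB hψ (by rwa [brauerOmega_eq])) ψ hψ
        rw [brauerOmega_eq] at h3
        exact absurd (by simpa using memLI_sub hMp h0' h3) (memLI_one_iff (M := M) hMp)
      · exact memLI_trans hMp h1 (memLI_symm hMp h1')
  exact hceq ⟨x, hx⟩

theorem brOne_of_congr (hM : IsPModular p M) {R : Subgroup G} {F F' : G → ℂ}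
    (hF : IsGoodFun M R F) (hF' : IsGoodFun M R F')
    (h : ∀ x ∈ Subgroup.centralizer (R : Set G), MemLocalIdeal M (F x - F' x))
    {g : Set (IrrCharacter (Subgroup.centralizer (R : Set G)))} (hg : BrOne M R F g) :
    BrOne M R F' g := by
  haveI := Fintype.ofFinite (Subgroup.centralizer (R : Set G))
  have hMp := pmod_prime hM
  intro ξ hξ
  have h1 := hg ξ hξ
  rw [brauerOmega_eq] at h1 ⊢
  exact memLI_trans hMp (memLI_symm hMp (lam_ceq hMp ξ hF.tr.1 hF'.tr.1 fun c => h c c.2)) h1

/-- A pair of `B` on `P` is one of the pairs of any block with congruent coefficients on `C(P)`. -/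
theorem pairOf_sub_of_congr (hM : IsPModular p M)
    (hC : Subgroup.centralizer ((P0.map H.subtype : Subgroup G) : Set G) ≤ H)
    {c : Set (IrrCharacter H)} (hc : IsPBlock M c) {B : Set (IrrCharacter G)}
    (hB : IsBrauerPairOf p M B (P0.map H.subtype) (liftBlock P0 e0)) (he0 : IsPBlock M e0)
    (hP0 : IsPGroup p P0)
    (h : ∀ x : G, x ∈ Subgroup.centralizer ((P0.map H.subtype : Subgroup G) : Set G) →
      MemLocalIdeal M (blockCoeff B x - subgroupBlockCoeff H c x)) :
    IsBrauerPairOf p M c P0 e0 := by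
  haveI := Fintype.ofFinite (Subgroup.centralizer ((P0.map H.subtype : Subgroup G) : Set G))
  haveI := Fintype.ofFinite (Subgroup.centralizer (P0 : Set H))
  have hMp := pmod_prime hM
  refine ⟨⟨hP0, he0⟩, hc, (brOne_lift_iff P0 hC (F' := subgroupBlockCoeff H c)
    (fun x _ => by rw [subgroupBlockCoeff_eq, extendByZero_mem _ _ x.2]) e0).mp ?_⟩
  intro ξ hξ
  have h1 := hB.2.2 ξ hξ
  rw [brauerOmega_eq] at h1 ⊢
  refine memLI_trans hMp (memLI_symm hMp ?_) h1
  refine lam_ceq hMp ξ (isGoodFun_of_classFun (M := M) _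
    (isIntClassFun_blockCoeff hM hB.2.1)).tr.1 (fun a k => ?_) fun y => h y y.2
  rw [tr_apply, tr_apply, subgroupBlockCoeff_eq, extendByZero_mem _ _ (hC a.2),
    extendByZero_mem _ _ (hC (k * a * k⁻¹).2)]
  exact isClassFunction_blockCoeff c ⟨(a : G), hC a.2⟩ ⟨(k : G), hC k.2⟩

theorem pairOf_lift_of_congr (hM : IsPModular p M)
    (hC : Subgroup.centralizer ((P0.map H.subtype : Subgroup G) : Set G) ≤ H)
    {c : Set (IrrCharacter H)} {B : Set (IrrCharacter G)} (hB : IsPBlock M B)
    (hc : IsBrauerPairOf p M c P0 e0)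
    (h : ∀ x : G, x ∈ Subgroup.centralizer ((P0.map H.subtype : Subgroup G) : Set G) →
      MemLocalIdeal M (blockCoeff B x - subgroupBlockCoeff H c x)) :
    IsBrauerPairOf p M B (P0.map H.subtype) (liftBlock P0 e0) := by
  haveI := Fintype.ofFinite (Subgroup.centralizer ((P0.map H.subtype : Subgroup G) : Set G))
  haveI := Fintype.ofFinite (Subgroup.centralizer (P0 : Set H))
  have hMp := pmod_prime hM
  refine ⟨⟨hc.1.1.map _, isPBlock_liftBlock P0 hC hc.1.2⟩, hB, ?_⟩
  intro ξ hξ
  have h1 := (brOne_lift_iff P0 hC (F' := subgroupBlockCoeff H c)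
    (fun x _ => by rw [subgroupBlockCoeff_eq, extendByZero_mem _ _ x.2]) e0).mpr hc.2.2 ξ hξ
  rw [brauerOmega_eq] at h1 ⊢
  refine memLI_trans hMp ?_ h1
  refine lam_ceq hMp ξ (isGoodFun_of_classFun (M := M) _
    (isIntClassFun_blockCoeff hM hB)).tr.1 (fun a k => ?_) fun y => h y y.2
  rw [tr_apply, tr_apply, subgroupBlockCoeff_eq, extendByZero_mem _ _ (hC a.2),
    extendByZero_mem _ _ (hC (k * a * k⁻¹).2)]
  exact isClassFunction_blockCoeff c ⟨(a : G), hC a.2⟩ ⟨(k : G), hC k.2⟩

end Sub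

section Central

theorem defect_of_trivial_char (hM : IsPModular p M) {Z : Subgroup G} (hZ : Z ≤ Subgroup.center G)
    (hZp : IsPGroup p Z) (θ : IrrCharacter G)
    (hdeg : dexp p (θ : G → ℂ) + (Nat.card Z).factorization p = (Nat.card G).factorization p) :
    IsDefectGroup p M (blockOf M (θ : G → ℂ)) Z ∧ ∀ g, g * (preg p g)⁻¹ ∉ Z → (θ : G → ℂ) g = 0 := by
  haveI := Fact.mk hM.1
  have hMp := pmod_prime hM
  have hb := isPBlock_blockOf M θ
  have hθ := self_mem_blockOf hMp θ
  obtain ⟨k, hk⟩ := IsPGroup.iff_card.mp hZp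
  rw [hk, Nat.factorization_pow_self hM.1] at hdeg
  obtain ⟨h0, hd, hvan⟩ := central_defect hM hZ hk θ hb hθ hdeg.ge
  refine ⟨?_, hvan⟩
  obtain ⟨D, hD⟩ := exists_isDefectGroup hM hb
  haveI : Z.Normal := ⟨fun z hz w => by
    rw [Subgroup.mem_center_iff.mp (hZ hz) w, mul_inv_cancel_right]; exact hz⟩
  have hZD : Z ≤ D := pCore_le_defectGroup hM hb hD Z hZp
  have h1 := dmin_add_defect (p := p) (block_nonempty hMp hb)
  have h2 := (blockHeight_eq_zero_iff hθ).mp h0
  rwa [Subgroup.eq_of_le_of_card_ge hZD (by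
    rw [card_defectGroup hM hb hD, hk]
    exact Nat.pow_le_pow_right hM.1.pos (by omega))]

theorem exists_trivial_char (hM : IsPModular p M) {Z : Subgroup G} (hZ : Z ≤ Subgroup.center G)
    {b : Set (IrrCharacter G)} (hb : IsPBlock M b) (hD : IsDefectGroup p M b Z) :
    ∃ θ ∈ b, (∀ z ∈ Z, (θ : G → ℂ) z = (θ : G → ℂ) 1) ∧
      dexp p (θ : G → ℂ) + (Nat.card Z).factorization p = (Nat.card G).factorization p := by
  classical
  have hMp := pmod_prime hM
  haveI : Z.Normal := ⟨fun z hz w => by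
    rw [Subgroup.mem_center_iff.mp (hZ hz) w, mul_inv_cancel_right]; exact hz⟩
  obtain ⟨χ, hχ⟩ := block_nonempty hMp hb
  obtain ⟨g, hg, hgD⟩ := (isDefectGroup_iff b Z).mp hD
  obtain ⟨θ, hs, htriv⟩ := exists_sameBlock_trivial_on hM Z hgD.isPGroup χ
  have hθ : θ ∈ b := (mem_block_iff hMp hb hχ θ).mpr hs
  refine ⟨θ, hθ, htriv, ?_⟩
  obtain ⟨φ, hφ⟩ := exists_quotient_char Z θ htriv
  haveI := Fintype.ofFinite (G ⧸ Z)
  have hdvd := deg_dvd_card φ.2
  have h1 : deg (θ : G → ℂ) = deg (φ : G ⧸ Z → ℂ) := by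
    have := hφ 1
    rw [QuotientGroup.mk_one, char_one_eq_deg (irr_isCharacter φ.2),
      char_one_eq_deg (irr_isCharacter θ.2)] at this
    exact_mod_cast this.symm
  have h2 : (deg (φ : G ⧸ Z → ℂ)).factorization p ≤ (Nat.card (G ⧸ Z)).factorization p :=
    (Nat.factorization_le_iff_dvd (by
      intro h0
      have := hdvd
      rw [h0, zero_dvd_iff] at this
      exact Nat.card_pos.ne' this) Nat.card_pos.ne').mpr hdvd p
  have h3 : (Nat.card G).factorization p =
      (Nat.card (G ⧸ Z)).factorization p + (Nat.card Z).factorization p := by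
    rw [Subgroup.card_eq_card_quotient_mul_card_subgroup Z,
      Nat.factorization_mul Nat.card_pos.ne' Nat.card_pos.ne', Finsupp.add_apply]
  have h4 := dmin_add_defect (p := p) (block_nonempty hMp hb)
  have h5 := dmin_le (p := p) hθ
  have h6 : (Nat.card Z).factorization p = blockDefect p b := by
    rw [card_defectGroup hM hb hD, Nat.factorization_pow_self hM.1]
  simp only [dexp, h1] at h5 ⊢
  omega

end Central

end Cfsg.Agent.Char
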