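import Cfsg.Agent.Lib.Char.CyclicIsometry
import Cfsg.Agent.Lib.Char.FirstMain

/-!
# Blocks with isomorphic cyclic defect groups and equal inertial index, and correspondents in overgroups
-/

set_option autoImplicit false
set_option linter.unusedSectionVars false
set_option linter.style.haveILetI false

namespace Cfsg.Agent.Char.CyclicCorrespondent

open Cfsg CyclicSides

universe u v

variable {G : Type u} [Group G] [Fintype G] {M : Ideal AlgInt} {p a e : ℕ}

open scoped Classical in
/-- Blocks with cyclic defect groups of one order and one inertial index are perfectly isometric. -/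
theorem between {K : Type v} [Group K] [Fintype K] (hM : IsPModular p M)
    {B : Set (IrrCharacter G)} {D : Subgroup G} {c : Set (IrrCharacter (Subgroup.centralizer (D : Set G)))}
    (hmax : IsMaximalBrauerPair p M B D c) {σ : G} (hσ : Subgroup.zpowers σ = D) (ha : 1 ≤ a)
    (hord : orderOf σ = p ^ a)
    (he : (Subgroup.centralizer (D : Set G)).relIndex (pairStab (pmod_prime hM) hmax.1.1.2) = e)
    {B' : Set (IrrCharacter K)} {D' : Subgroup K} {c' : Set (IrrCharacter (Subgroup.centralizer (D' : Set K)))}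
    (hmax' : IsMaximalBrauerPair p M B' D' c') {τ : K} (hτ : Subgroup.zpowers τ = D')
    (hord' : orderOf τ = p ^ a)
    (he' : (Subgroup.centralizer (D' : Set K)).relIndex (pairStab (pmod_prime hM) hmax'.1.1.2) = e) :
    ∃ (I : IrrCharacter K → IrrCharacter G) (ε : IrrCharacter K → ℤ), IsPerfectIsometry p M B' B I ε := by
  haveI : IsCyclic D := hσ ▸ inferInstanceAs (IsCyclic (Subgroup.zpowers σ))
  haveI : IsCyclic D' := hτ ▸ inferInstanceAs (IsCyclic (Subgroup.zpowers τ))
  have hq : Nat.card D = p ^ a := by rw [← hσ, Nat.card_zpowers, hord]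
  have hq' : Nat.card D' = p ^ a := by rw [← hτ, Nat.card_zpowers, hord']
  let φ : D' ≃* D := mulEquivOfCyclicCardEq (hq'.trans hq.symm)
  obtain ⟨E, hE, hfree⟩ := exists_aut hM hmax hσ ha hord he
  haveI := Fintype.ofFinite E
  haveI := Fintype.ofFinite (pullAut φ E)
  have hcomm : ∀ y z : D, y * z = z * y := fun y z => Subtype.ext (CyclicLocal.comm_of_gen hσ y y.2 z z.2)
  have hD1 : ∃ z : D, z ≠ 1 := ⟨⟨σ, hσ ▸ Subgroup.mem_zpowers σ⟩, fun h1 => by
    have h2 : σ = 1 := congrArg Subtype.val h1
    rw [h2, orderOf_one] at hord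
    exact absurd (Nat.pow_eq_one.mp hord.symm) (by have := hM.1.two_le; omega)⟩
  obtain ⟨m, R, hR⟩ : ∃ m R, StarVectors.IsReps E m R := StarVectors.exists_reps E hcomm hD1 hfree
  obtain ⟨y, δ, ε, S⟩ := exists_side hM hmax hσ ha hord he E hE hR
  obtain ⟨y', δ', ε', S'⟩ := exists_side hM hmax' hτ ha hord' he' (pullAut φ E) ((card_pullAut φ E).trans hE)
    (isReps_pull φ E hR)
  have hψ : psi (pullAut φ E) (fun i => (R i).comp φ.toMonoidHom) = fun (i : Fin m) z => psi E R i (φ z) :=
    funext fun i => funext fun z => psi_pull E φ R i z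
  rw [hψ] at S'
  obtain ⟨I, s, hI, -, -⟩ := CyclicIsometry.of_sides hM φ (fun z hz => psi_sum E hcomm hR hz) hR.1 S S'
  exact ⟨I, s, hI⟩

variable {H : Subgroup G} [Fintype H]

/-- Stabilizers of a pair of an overgroup of the normalizer and of the lifted pair. -/
theorem mem_stab_lift (hM : IsPModular p M) {R : Subgroup H}
    (hC : Subgroup.centralizer ((R.map H.subtype : Subgroup G) : Set G) ≤ H)
    {g : Set (IrrCharacter (Subgroup.centralizer (R : Set H)))} (hg : IsPBlock M g) (u : H) :
    (u : G) ∈ pairStab (pmod_prime hM) (isPBlock_liftBlock R hC hg) ↔ u ∈ pairStab (pmod_prime hM) hg := by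
  haveI := Fintype.ofFinite (Subgroup.centralizer (R : Set H))
  haveI := Fintype.ofFinite (Subgroup.centralizer ((R.map H.subtype : Subgroup G) : Set G))
  rw [mem_pairStab, mem_pairStab]
  have hN : (u : G) ∈ Subgroup.normalizer ((R.map H.subtype : Subgroup G) : Set G) ↔
      u ∈ Subgroup.normalizer (R : Set H) := by
    rw [Subgroup.mem_normalizer_iff, Subgroup.mem_normalizer_iff]
    constructor
    · intro h x
      have e0 : ∀ y : H, ((y : G) ∈ R.map H.subtype ↔ y ∈ R) := fun y =>
        ⟨fun ⟨w, hw, e⟩ => (Subtype.ext e : w = y) ▸ hw, fun h' => ⟨y, h', rfl⟩⟩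
      have e1 := e0 x
      have e2 := e0 (u * x * u⁻¹)
      exact e1.symm.trans ((h (x : G)).trans e2)
    · intro h x
      constructor
      · rintro ⟨w, hw, rfl⟩
        exact ⟨u * w * u⁻¹, (h w).mp hw, rfl⟩
      · rintro ⟨w, hw, hwx⟩
        refine ⟨u⁻¹ * w * u, (h _).mpr (by rwa [show u * (u⁻¹ * w * u) * u⁻¹ = w by group]), ?_⟩
        have hwx' : (w : G) = (u : G) * x * (u : G)⁻¹ := hwx
        show (u : G)⁻¹ * (w : G) * (u : G) = x
        rw [hwx']
        group
  rw [hN]
  refine and_congr_right fun hu => ?_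
  have hCn : ∀ k : Subgroup.centralizer (R : Set H),
      (((liftEquiv R hC k) : Subgroup.centralizer ((R.map H.subtype : Subgroup G) : Set G)) : G) = ((k : H) : G) :=
    fun k => rfl
  constructor
  · rintro ⟨-, hst⟩
    refine ⟨Subgroup.mem_normalizer_iff.mpr fun x => ⟨fun hx => conj_mem_centralizer hu hx, fun hx => ?_⟩,
      fun χ hχ => ?_⟩
    · simpa [mul_assoc] using conj_mem_centralizer (Subgroup.inv_mem _ hu) hx
    · have hmem : irrTransport (liftEquiv R hC).symm χ ∈ liftBlock R g := by
        rw [liftBlock_eq R hC]; exact ⟨χ, hχ, rfl⟩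
      obtain ⟨χ', hχ', hconj⟩ := hst _ hmem
      obtain ⟨ξ', hξ', hval⟩ := hχ'
      refine ⟨ξ', hξ', fun k k' hk => ?_⟩
      rw [← hval k' (liftEquiv R hC k') (hCn k'),
        hconj (liftEquiv R hC k) (liftEquiv R hC k') (congrArg Subtype.val hk), irrTransport_apply,
        MulEquiv.symm_apply_apply]
  · rintro ⟨-, hst⟩
    refine ⟨Subgroup.mem_normalizer_iff.mpr fun x =>
      ⟨fun hx => conj_mem_centralizer (hN.mpr hu) hx, fun hx => ?_⟩, fun χ hχ => ?_⟩
    · simpa [mul_assoc] using conj_mem_centralizer (Subgroup.inv_mem _ (hN.mpr hu)) hx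
    · obtain ⟨ξ, hξ, hval⟩ := hχ
      obtain ⟨ξ', hξ', hconj⟩ := hst ξ hξ
      refine ⟨irrTransport (liftEquiv R hC).symm ξ', by rw [liftBlock_eq R hC]; exact ⟨ξ', hξ', rfl⟩,
        fun k k' hk => ?_⟩
      rw [irrTransport_apply, hval ((liftEquiv R hC).symm k) k rfl]
      exact hconj _ _ (Subtype.ext hk)

/-- The inertial index in an overgroup of the normalizer. -/
theorem relIndex_lift (hM : IsPModular p M) {R : Subgroup H}
    (hN : Subgroup.normalizer ((R.map H.subtype : Subgroup G) : Set G) ≤ H)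
    {g : Set (IrrCharacter (Subgroup.centralizer (R : Set H)))} (hg : IsPBlock M g) :
    (Subgroup.centralizer ((R.map H.subtype : Subgroup G) : Set G)).relIndex
        (pairStab (pmod_prime hM) (isPBlock_liftBlock R ((Subgroup.centralizer_le_normalizer _).trans hN) hg)) =
      (Subgroup.centralizer (R : Set H)).relIndex (pairStab (pmod_prime hM) hg) := by
  have hC := (Subgroup.centralizer_le_normalizer _).trans hN
  have h1 : (pairStab (pmod_prime hM) hg).map H.subtype =
      pairStab (pmod_prime hM) (isPBlock_liftBlock R hC hg) := by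
    ext x
    constructor
    · rintro ⟨w, hw, rfl⟩
      exact (mem_stab_lift hM hC hg w).mpr hw
    · intro hx
      have hxH : x ∈ H := hN ((mem_pairStab _ _).mp hx).1
      exact ⟨⟨x, hxH⟩, (mem_stab_lift hM hC hg ⟨x, hxH⟩).mp hx, rfl⟩
  have h2 : Subgroup.centralizer (R : Set H) =
      (Subgroup.centralizer ((R.map H.subtype : Subgroup G) : Set G)).comap H.subtype := by
    ext c
    exact mem_centralizer_map_subtype c
  rw [h2, Subgroup.relIndex_comap, h1]

end Cfsg.Agent.Char.CyclicCorrespondent
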