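import Cfsg.Agent.Lib.Char.BlockMatrix

/-!
# The local corner of a component with one simple module
-/

set_option autoImplicit false

namespace Cfsg.Agent.Char

open Matrix Module

variable {k R : Type*} [Field k] [Ring R] [Algebra k R]

/-- The corner of a primitive idempotent in a component with one simple module. -/
theorem exists_local_corner [IsAlgClosed k] [FiniteDimensional k R] {e : R}
    (he : IsIdempotentElem e) (hc : ∀ r, e * r = r * e) (hne : e ≠ 0)
    (hone : ∀ (n₁ n₂ : ℕ) (π₁ : R →ₐ[k] Matrix (Fin n₁) (Fin n₁) k)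
      (π₂ : R →ₐ[k] Matrix (Fin n₂) (Fin n₂) k), 0 < n₁ → 0 < n₂ → π₁ e = 1 → π₂ e = 1 →
      (∀ A B, ∃ r, π₁ r = A ∧ π₂ r = B) → False)
    {c0 : ℕ} (hdim : ∀ L : Fin (c0 + 1) → (R →ₗ[k] k), (∀ i a b, L i (a * b) = L i (b * a)) →
      (∀ i a, L i (e * a) = L i a) → ¬ LinearIndependent k L) :
    ∃ (n : ℕ) (g : R) (A N : Submodule k R), 0 < n ∧ IsIdempotentElem g ∧ (∀ a, a ∈ A ↔ g * a * g = a) ∧
      g ∈ A ∧ N ≤ A ∧ g ∉ N ∧ (∀ a ∈ A, ∃ c : k, a - c • g ∈ N) ∧ N * N ≤ N ∧
      (∃ K : ℕ, N ^ (K + 1) = ⊥) ∧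
      finrank k (LinearMap.range (LinearMap.mulLeft k e)) = n ^ 2 * finrank k A ∧
      finrank k (LinearMap.range (LinearMap.mulRight k g)) = n * finrank k A ∧
      ∀ W : Submodule k R, W ≤ A → (∀ a ∈ A, ∀ b ∈ A, a * b - b * a ∈ W) →
        finrank k A ≤ finrank k W + c0 := by
  classical
  obtain ⟨m, d, P, hd, hP, I, K, hIK, hPI⟩ := exists_pi_matrix (k := k) (R := R)
  have hnil : ∀ x, P x = 0 → IsNilpotent x := fun x hx => ⟨K, by
    have := Ideal.pow_mem_pow (hPI x hx) K
    rwa [hIK, Ideal.mem_bot] at this⟩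
  have hcomp : ∀ j, P e j = 0 ∨ P e j = 1 := fun j => by
    refine central_idem_matrix (hd j) ?_ fun b => ?_
    · exact congrFun (he.map P) j
    · obtain ⟨r, hr⟩ := hP (Pi.single j b)
      have := congrFun (congrArg P (hc r)) j
      rw [map_mul, map_mul, Pi.mul_apply, Pi.mul_apply, hr, Pi.single_eq_same] at this
      exact this
  obtain ⟨j₀, hj₀⟩ : ∃ j, P e j = 1 := by
    by_contra hno
    push Not at hno
    exact hne (idem_nilpotent_eq_zero he (hnil e (funext fun j => (hcomp j).resolve_right (hno j))))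
  have hother : ∀ j, j ≠ j₀ → P e j = 0 := fun j hj => (hcomp j).resolve_right fun h1 =>
    hone (d j) (d j₀) ((Pi.evalAlgHom k _ j).comp P) ((Pi.evalAlgHom k _ j₀).comp P) (hd j) (hd j₀)
      h1 hj₀ fun A B => by
        obtain ⟨r, hr⟩ := hP (Pi.single j A + Pi.single j₀ B)
        refine ⟨r, ?_, ?_⟩
        · show P r j = A
          rw [hr, Pi.add_apply, Pi.single_eq_same, Pi.single_eq_of_ne hj, add_zero]
        · show P r j₀ = B
          rw [hr, Pi.add_apply, Pi.single_eq_same, Pi.single_eq_of_ne hj.symm, zero_add]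
  set n := d j₀ with hn
  set π := (Pi.evalAlgHom k _ j₀).comp P with hπ
  have hπa : ∀ x, π x = P x j₀ := fun x => rfl
  have hker : ∀ x, e * x = x → π x = 0 → P x = 0 := fun x hx hx0 => funext fun j => by
    by_cases hj : j = j₀
    · subst hj; exact hx0
    · rw [← hx, map_mul, Pi.mul_apply, hother j hj, zero_mul]; rfl
  -- lifted diagonal idempotents
  let E : Fin n → ∀ j, Matrix (Fin (d j)) (Fin (d j)) k := fun i => Pi.single j₀ (single i i 1)
  have hEo : OrthogonalIdempotents E := by
    refine ⟨fun i => ?_, fun i j hij => ?_⟩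
    · show E i * E i = E i
      simp only [E]
      rw [← Pi.single_mul, single_mul_single_same, one_mul]
    · show E i * E j = 0
      simp only [E]
      rw [← Pi.single_mul, single_mul_single_of_ne (h := hij), Pi.single_zero]
  obtain ⟨f', hf', hff⟩ := OrthogonalIdempotents.lift_of_isNilpotent_ker P.toRingHom
    (fun x hx => hnil x hx) hEo (fun i => hP _)
  obtain ⟨f, hfd⟩ : ∃ f : Fin n → R, f = fun i => e * f' i := ⟨_, rfl⟩
  replace hfd : ∀ i, f i = e * f' i := congrFun hfd
  have hπf : ∀ i, π (f i) = single i i 1 := fun i => by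
    have h1 : P (f' i) = E i := congrFun hff i
    rw [hfd]
    show P (e * f' i) j₀ = _
    rw [map_mul, Pi.mul_apply, hj₀, one_mul, h1]
    exact Pi.single_eq_same ..
  have hcm : ∀ a b, e * a * (e * b) = e * (a * b) := fun a b => by
    rw [mul_assoc, ← mul_assoc a e b, ← hc a, ← mul_assoc, ← mul_assoc, he.eq, mul_assoc]
  have hfi : ∀ i, f i * f i = f i := fun i => by rw [hfd, hcm, (hf'.idem i).eq]
  have hfo : ∀ i j, i ≠ j → f i * f j = 0 := fun i j hij => by
    rw [hfd, hfd, hcm, hf'.ortho hij, mul_zero]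
  have hef : ∀ i, e * f i = f i := fun i => by rw [hfd, ← mul_assoc, he.eq]
  have hfe : ∀ i, f i * e = f i := fun i => by rw [← hc, hef]
  have hidem_zero : ∀ x, IsIdempotentElem x → e * x = x → π x = 0 → x = 0 := fun x hx hex h0 =>
    idem_nilpotent_eq_zero hx (hnil x (hker x hex h0))
  have hsum : ∑ i, f i = e := by
    have hid : IsIdempotentElem (∑ i, f i) :=
      (OrthogonalIdempotents.isIdempotentElem_sum (s := Finset.univ) ⟨hfi, fun i j h => hfo i j h⟩)
    have hes : e * ∑ i, f i = ∑ i, f i := by rw [Finset.mul_sum]; simp only [hef]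
    have hse : (∑ i, f i) * e = ∑ i, f i := by rw [← hc, hes]
    refine (sub_eq_zero.mp (hidem_zero (e - ∑ i, f i) ?_ ?_ ?_)).symm
    · show _ * _ = _
      rw [sub_mul, mul_sub, mul_sub, he.eq, hid.eq, hes, hse]; abel
    · rw [mul_sub, he.eq, hes]
    · rw [map_sub, map_sum, hπa e, hj₀]
      simp only [hπf, sum_single_eq_diagonal, diagonal_one, sub_self]
  -- the matrix units
  set o : Fin n := ⟨0, hd j₀⟩ with ho
  have hπs : ∀ A : Matrix (Fin n) (Fin n) k, ∃ r, π r = A := fun A => by
    obtain ⟨r, hr⟩ := hP (Pi.single j₀ A)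
    exact ⟨r, by rw [hπa, hr]; exact Pi.single_eq_same ..⟩
  have hunit : ∀ i, ∃ u x : R, f o * u = u ∧ u * f i = u ∧ f i * x = x ∧ x * f o = x ∧
      u * x = f o ∧ x * u = f i := by
    intro i
    obtain ⟨X, hX⟩ := hπs (single i o 1)
    obtain ⟨Y, hY⟩ := hπs (single o i 1)
    set x := f i * X * f o with hx
    set y := f o * Y * f i with hy
    have hπx : π x = single i o 1 := by
      rw [hx, map_mul, map_mul, hπf, hπf, hX, single_mul_single_same, single_mul_single_same,
        one_mul, one_mul]
    have hπy : π y = single o i 1 := by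
      rw [hy, map_mul, map_mul, hπf, hπf, hY, single_mul_single_same, single_mul_single_same,
        one_mul, one_mul]
    have hfx : f i * x = x := by rw [hx, ← mul_assoc, ← mul_assoc, hfi]
    have hxf : x * f o = x := by rw [hx, mul_assoc, hfi]
    have hfy : f o * y = y := by rw [hy, ← mul_assoc, ← mul_assoc, hfi]
    have hyf : y * f i = y := by rw [hy, mul_assoc, hfi]
    clear_value x y
    set q := y * x - f o with hq
    have hfq : f o * q = q := by rw [hq, mul_sub, ← mul_assoc, hfy, hfi]
    have hqf : q * f o = q := by rw [hq, sub_mul, mul_assoc, hxf, hfi]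
    have heq' : e * q = q := by rw [← hfq, ← mul_assoc, hef]
    have hπq : π q = 0 := by
      rw [hq, map_sub, map_mul, hπy, hπx, hπf, single_mul_single_same, one_mul, sub_self]
    obtain ⟨w, hw⟩ := (hnil q (hker q heq' hπq)).isUnit_one_add
    have hyx : y * x = f o * (w : R) := by rw [hw, mul_add, mul_one, hfq, hq, add_sub_cancel]
    have hwc : Commute (f o) (w : R) := by
      show f o * (w : R) = (w : R) * f o
      rw [hw, mul_add, add_mul, hfq, hqf, mul_one, one_mul]
    have hwc' : Commute (f o) ((w⁻¹ : Rˣ) : R) := hwc.units_inv_right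
    refine ⟨((w⁻¹ : Rˣ) : R) * y, x, ?_, by rw [mul_assoc, hyf], hfx, hxf, ?_, ?_⟩
    · rw [← mul_assoc, hwc'.eq, mul_assoc, hfy]
    · rw [mul_assoc, hyx, hwc.eq, ← mul_assoc, Units.inv_mul, one_mul]
    · set u := ((w⁻¹ : Rˣ) : R) * y with hu
      have hux : u * x = f o := by rw [hu, mul_assoc, hyx, hwc.eq, ← mul_assoc, Units.inv_mul, one_mul]
      have hπw : π ((w⁻¹ : Rˣ) : R) = 1 := by
        have h1 : π (w : R) = 1 := by rw [hw, map_add, map_one, hπq, add_zero]
        have h2 := congrArg π (Units.inv_mul w)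
        rwa [map_mul, h1, map_one, mul_one] at h2
      have hxu : x * u * (x * u) = x * u := by
        rw [mul_assoc, ← mul_assoc u x u, hux, ← mul_assoc, hxf]
      have hfxu : f i * (x * u) = x * u := by rw [← mul_assoc, hfx]
      have hxuf : x * u * f i = x * u := by rw [mul_assoc, show u * f i = u by rw [hu, mul_assoc, hyf]]
      refine (sub_eq_zero.mp (hidem_zero (f i - x * u) ?_ ?_ ?_)).symm
      · show _ * _ = _
        rw [sub_mul, mul_sub, mul_sub, hfi, hfxu, hxuf, hxu]; abel
      · rw [mul_sub, hef, ← mul_assoc e x, show e * x = x by rw [← hfx, ← mul_assoc, hef]]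
      · rw [map_sub, map_mul, hπx, hπf, hu, map_mul, hπy, hπw, one_mul, single_mul_single_same,
          one_mul, sub_self]
  choose u x hfu huf hfx hxf hux hxu using hunit
  have hux' : ∀ i j, i ≠ j → u i * x j = 0 := fun i j hij => by
    rw [← huf i, ← hfx j, mul_assoc, ← mul_assoc (f i), hfo i j hij, zero_mul, mul_zero]
  have hxsum : ∑ i, x i * u i = e := by simp only [hxu, hsum]
  -- the corner
  let A : Submodule k R := LinearMap.range ((LinearMap.mulLeft k (f o)).comp (LinearMap.mulRight k (f o)))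
  have hmemA : ∀ a, a ∈ A ↔ f o * a * f o = a := fun a => by
    constructor
    · rintro ⟨r, rfl⟩
      show f o * (f o * (r * f o)) * f o = f o * (r * f o)
      rw [← mul_assoc (f o) (f o), hfi, mul_assoc (f o), mul_assoc r, hfi]
    · intro h
      exact ⟨a, by simp only [LinearMap.comp_apply, LinearMap.mulRight_apply,
        LinearMap.mulLeft_apply]; rw [← mul_assoc, h]⟩
  have hl : ∀ a ∈ A, f o * a = a := fun a ha => by
    conv_lhs => rw [← (hmemA a).mp ha, ← mul_assoc, ← mul_assoc, hfi]
    exact (hmemA a).mp ha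
  have hr : ∀ a ∈ A, a * f o = a := fun a ha => by
    conv_lhs => rw [← (hmemA a).mp ha, mul_assoc, hfi]
    exact (hmemA a).mp ha
  have hmul : ∀ a ∈ A, ∀ b ∈ A, a * b ∈ A := fun a ha b hb => by
    rw [hmemA, ← mul_assoc, hl a ha, mul_assoc, hr b hb]
  have hcor : ∀ i j b, u i * b * x j ∈ A := fun i j b => by
    rw [hmemA, ← mul_assoc, ← mul_assoc, hfu, mul_assoc (u i * b), hxf]
  let Φ : LinearMap.range (LinearMap.mulLeft k e) →ₗ[k] (Fin n × Fin n → A) :=
    { toFun := fun b ij => ⟨u ij.1 * (b : R) * x ij.2, hcor _ _ _⟩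
      map_add' := fun b c => funext fun ij => Subtype.ext (by
        simp [mul_add, add_mul])
      map_smul' := fun r b => funext fun ij => Subtype.ext (by simp) }
  have hexp : ∀ b, ∑ i, ∑ j, x i * (u i * b * x j) * u j = e * b := fun b => by
    have : ∑ i, ∑ j, x i * (u i * b * x j) * u j = (∑ i, x i * u i) * b * ∑ j, x j * u j := by
      rw [Finset.sum_mul, Finset.sum_mul]
      simp only [Finset.mul_sum, mul_assoc]
    rw [this, hxsum, mul_assoc, ← hc b, ← mul_assoc, he.eq]
  have hΦ : Function.Bijective Φ := by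
    refine ⟨(injective_iff_map_eq_zero _).mpr fun b hb => Subtype.ext ?_, fun a => ?_⟩
    · obtain ⟨r, hr⟩ := b.2
      have hb' : e * (b : R) = b := by
        rw [← hr]; simp [← mul_assoc, he.eq]
      rw [← hb', ← hexp]
      simp only [ZeroMemClass.coe_zero]
      refine Finset.sum_eq_zero fun i _ => Finset.sum_eq_zero fun j _ => ?_
      rw [show u i * (b : R) * x j = 0 from congrArg Subtype.val (congrFun hb (i, j)), mul_zero,
        zero_mul]
    · refine ⟨⟨∑ i, ∑ j, x i * (a (i, j) : R) * u j, ∑ i, ∑ j, x i * (a (i, j) : R) * u j, ?_⟩, ?_⟩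
      · simp only [LinearMap.mulLeft_apply, Finset.mul_sum, ← mul_assoc]
        refine Finset.sum_congr rfl fun i _ => Finset.sum_congr rfl fun j _ => ?_
        rw [show e * x i = x i by rw [← hfx i, ← mul_assoc, hef]]
      · funext ij
        obtain ⟨i, j⟩ := ij
        refine Subtype.ext ?_
        show u i * (∑ i', ∑ j', x i' * (a (i', j') : R) * u j') * x j = _
        simp only [Finset.mul_sum, Finset.sum_mul]
        rw [Finset.sum_eq_single i, Finset.sum_eq_single j]
        · rw [mul_assoc, mul_assoc (x i * _), hux j, ← mul_assoc, ← mul_assoc, hux i]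
          exact (hmemA _).mp (a (i, j)).2
        · intro j' _ hj'
          rw [mul_assoc, mul_assoc (x i * _), hux' j' j hj', mul_zero, mul_zero]
        · simp
        · intro i' _ hi'
          refine Finset.sum_eq_zero fun j' _ => ?_
          rw [← mul_assoc (u i), ← mul_assoc (u i), hux' i i' (Ne.symm hi'), zero_mul, zero_mul,
            zero_mul]
        · simp
  have hfin : finrank k (LinearMap.range (LinearMap.mulLeft k e)) = n ^ 2 * finrank k A := by
    rw [(LinearEquiv.ofBijective Φ hΦ).finrank_eq, Module.finrank_pi_fintype, Finset.sum_const,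
      Finset.card_univ, Fintype.card_prod, Fintype.card_fin, smul_eq_mul, pow_two]
  -- trace functionals from forms on the corner
  let g : Fin n → (R →ₗ[k] A) := fun i =>
    { toFun := fun b => ⟨u i * b * x i, hcor _ _ _⟩
      map_add' := fun b c => Subtype.ext (by simp [mul_add, add_mul])
      map_smul' := fun r b => Subtype.ext (by simp) }
  let T : R →ₗ[k] A :=
    { toFun := fun b => ∑ i, g i b
      map_add' := fun b c => by simp only [map_add, Finset.sum_add_distrib]
      map_smul' := fun r b => by simp only [map_smul, Finset.smul_sum, RingHom.id_apply] }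
  have hTe : ∀ b, T (e * b) = T b := fun b => by
    show ∑ i, g i (e * b) = ∑ i, g i b
    refine Finset.sum_congr rfl fun i _ => Subtype.ext ?_
    show u i * (e * b) * x i = u i * b * x i
    rw [hc, ← mul_assoc, mul_assoc _ e, show e * x i = x i by rw [← hfx i, ← mul_assoc, hef]]
  have hT : ∀ μ : A →ₗ[k] k, (∀ a b : A, ∀ (h : (a : R) * b ∈ A) (h' : (b : R) * a ∈ A),
      μ ⟨(a : R) * b, h⟩ = μ ⟨(b : R) * a, h'⟩) → ∀ b c, μ (T (b * c)) = μ (T (c * b)) := by
    intro μ hμ
    have hexp2 : ∀ b c i, (⟨u i * (b * c) * x i, hcor _ _ _⟩ : A) =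
        ∑ j, ⟨(u i * b * x j) * (u j * c * x i), hmul _ (hcor _ _ _) _ (hcor _ _ _)⟩ := by
      intro b c i
      refine Subtype.ext ?_
      rw [AddSubmonoidClass.coe_finset_sum]
      show u i * (b * c) * x i = ∑ j, (u i * b * x j) * (u j * c * x i)
      have : ∑ j, (u i * b * x j) * (u j * c * x i) = u i * b * (∑ j, x j * u j) * c * x i := by
        simp only [Finset.mul_sum, Finset.sum_mul, mul_assoc]
      rw [this, hxsum]
      conv_rhs => rw [mul_assoc (u i * b) e c, hc c, ← mul_assoc, mul_assoc _ e (x i),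
        show e * x i = x i by rw [← hfx i, ← mul_assoc, hef]]
      simp only [mul_assoc]
    intro b c
    show μ (∑ i, g i (b * c)) = μ (∑ i, g i (c * b))
    simp only [show ∀ i b, g i b = ⟨u i * b * x i, hcor _ _ _⟩ from fun _ _ => rfl, map_sum, hexp2]
    rw [Finset.sum_comm]
    exact Finset.sum_congr rfl fun i _ => Finset.sum_congr rfl fun j _ =>
      hμ ⟨_, hcor _ _ _⟩ ⟨_, hcor _ _ _⟩ _ _
  have hTsurj : Function.Surjective T := fun a => by
    refine ⟨x o * (a : R) * u o, ?_⟩
    show (∑ i, g i (x o * (a : R) * u o)) = a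
    rw [Finset.sum_eq_single o]
    · refine Subtype.ext ?_
      show u o * (x o * (a : R) * u o) * x o = a
      rw [← mul_assoc, ← mul_assoc, hux, mul_assoc (f o * (a : R)), hux]
      exact (hmemA _).mp a.2
    · intro i _ hi
      refine Subtype.ext ?_
      show u i * (x o * (a : R) * u o) * x i = 0
      rw [← mul_assoc, ← mul_assoc, hux' i o hi, zero_mul, zero_mul, zero_mul]
    · simp
  -- the radical of the corner
  have hfoA : f o ∈ A := (hmemA _).mpr (by rw [hfi, hfi])
  let N : Submodule k R := A ⊓ LinearMap.ker π.toLinearMap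
  have hNP : ∀ a ∈ N, a ∈ I := fun a ha => by
    refine hPI a (hker a ?_ ha.2)
    have := (hmemA a).mp ha.1
    rw [← this, ← mul_assoc, ← mul_assoc, hef]
  have hdecomp : ∀ a ∈ A, ∃ c : k, a - c • f o ∈ N := fun a ha => by
    refine ⟨π a o o, Submodule.sub_mem _ ha (Submodule.smul_mem _ _ hfoA), ?_⟩
    show π (a - π a o o • f o) = 0
    have h1 : π a = π a o o • π (f o) := by
      conv_lhs => rw [← (hmemA a).mp ha, map_mul, map_mul, hπf, single_mul_mul_single]
      rw [hπf]
    rw [map_sub, map_smul, ← h1, sub_self]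
  have hmulN : N * N ≤ N := Submodule.mul_le.mpr fun a ha b hb => by
    refine ⟨(hmemA _).mpr ?_, ?_⟩
    · exact (hmemA _).mp (hmul a ha.1 b hb.1)
    · show π (a * b) = 0
      rw [map_mul, show π a = 0 from ha.2, zero_mul]
  refine ⟨n, f o, A, N, hd j₀, hfi o, hmemA, hfoA, inf_le_left, fun h => ?_, hdecomp, hmulN, ⟨K, ?_⟩,
    hfin, ?_, fun W hWA hW => ?_⟩
  · have h1 : π (f o) = 0 := h.2
    rw [hπf] at h1
    simpa using congrFun (congrFun h1 o) o
  · have h2 : ∀ l : ℕ, ∀ a ∈ N ^ (l + 1), a ∈ I ^ (l + 1) := by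
      intro l
      induction l with
      | zero => intro a ha; rw [zero_add, pow_one] at ha; rw [zero_add, Submodule.pow_one]; exact hNP a ha
      | succ l ih =>
        intro a ha
        rw [pow_succ] at ha
        refine Submodule.mul_induction_on ha (fun y hy z hz => ?_) fun y z => Ideal.add_mem _
        rw [Submodule.pow_succ]
        exact Ideal.mul_mem_mul (ih y hy) (hNP z hz)
    refine le_bot_iff.mp fun a ha => ?_
    have h5 : a ∈ I ^ K := Ideal.pow_le_pow_right (Nat.le_succ K) (h2 K a ha)
    rwa [hIK, Ideal.mem_bot] at h5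
  · -- the projective indecomposable module
    have hux1 : ∀ (i : Fin n) (b : R), b * f o = b → u i * b ∈ A := fun i b hb => by
      rw [hmemA, ← mul_assoc, hfu, mul_assoc, hb]
    have hbr : ∀ b : LinearMap.range (LinearMap.mulRight k (f o)), (b : R) * f o = b := fun b => by
      obtain ⟨r, hr'⟩ := b.2
      rw [← hr', LinearMap.mulRight_apply, mul_assoc, hfi]
    let Ψ : LinearMap.range (LinearMap.mulRight k (f o)) →ₗ[k] (Fin n → A) :=
      { toFun := fun b i => ⟨u i * (b : R), hux1 i b (hbr b)⟩
        map_add' := fun b c => funext fun i => Subtype.ext (by simp [mul_add])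
        map_smul' := fun r b => funext fun i => Subtype.ext (by simp) }
    have hΨ : Function.Bijective Ψ := by
      refine ⟨(injective_iff_map_eq_zero _).mpr fun b hb => Subtype.ext ?_, fun a => ?_⟩
      · have e1 : (b : R) = e * b := by
          rw [hc, ← hbr b, mul_assoc (b : R), hfe]
        rw [e1, ← hxsum, Finset.sum_mul, ZeroMemClass.coe_zero]
        refine Finset.sum_eq_zero fun i _ => ?_
        rw [mul_assoc, show u i * (b : R) = 0 from congrArg Subtype.val (congrFun hb i), mul_zero]
      · refine ⟨⟨∑ i, x i * (a i : R), ∑ i, x i * (a i : R), ?_⟩, ?_⟩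
        · rw [LinearMap.mulRight_apply, Finset.sum_mul]
          exact Finset.sum_congr rfl fun i _ => by rw [mul_assoc, hr _ (a i).2]
        · funext i
          refine Subtype.ext ?_
          show u i * ∑ j, x j * (a j : R) = a i
          rw [Finset.mul_sum, Finset.sum_eq_single i]
          · rw [← mul_assoc, hux, hl _ (a i).2]
          · intro j _ hj
            rw [← mul_assoc, hux' i j (Ne.symm hj), zero_mul]
          · simp
    rw [(LinearEquiv.ofBijective Ψ hΨ).finrank_eq, Module.finrank_pi_fintype, Finset.sum_const,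
      Finset.card_univ, Fintype.card_fin, smul_eq_mul]
  · have h1 := finrank_le_of_forms (W.comap A.subtype) c0 fun μ hμ hind => hdim (fun i => (μ i).comp T)
      (fun i b c => hT (μ i) (fun a b h h' => sub_eq_zero.mp (by
        rw [← map_sub]
        exact hμ i _ (hW a a.2 b b.2))) b c)
      (fun i b => by
        show μ i (T (e * b)) = μ i (T b)
        rw [hTe])
      (hind.map' T.dualMap (LinearMap.ker_eq_bot.mpr
        (LinearMap.dualMap_injective_of_surjective hTsurj)))
    rwa [(Submodule.comapSubtypeEquivOfLe hWA).finrank_eq] at h1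

end Cfsg.Agent.Char
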