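import Mathlib

/-!
# Small local symmetric algebras are commutative

The algebra is the corner `A` of an idempotent `f` inside a larger ring, with radical `N`.
-/

set_option autoImplicit false

namespace Cfsg.Agent.Char.LocalSymm

open Module

variable {k R : Type*} [Field k] [Ring R] [Algebra k R]

theorem eq_bot_of_le_succ {P : Submodule k R} {l : ℕ} (hP : P ^ l ≤ P ^ (l + 1)) {K : ℕ}
    (hK : P ^ K = ⊥) : P ^ l = ⊥ := by
  have h : ∀ j : ℕ, P ^ l ≤ P ^ (l + j) := by
    intro j
    induction j with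
    | zero => exact le_rfl
    | succ j ih =>
      refine ih.trans ?_
      rw [show l + (j + 1) = (l + 1) + j by omega, pow_add P l j, pow_add P (l + 1) j]
      exact mul_le_mul' hP le_rfl
  refine le_bot_iff.mp ((h K).trans_eq ?_)
  rw [pow_add, hK, Submodule.mul_bot]

/-- The corner of an idempotent with a local radical and a nondegenerate symmetric form. -/
structure Corner (f : R) (A N : Submodule k R) (τ : R →ₗ[k] k) : Prop where
  mem : f ∈ A
  left : ∀ a ∈ A, f * a = a
  right : ∀ a ∈ A, a * f = a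
  le : N ≤ A
  notMem : f ∉ N
  decomp : ∀ a ∈ A, ∃ c : k, a - c • f ∈ N
  mul_le : N * N ≤ N
  nilp : ∃ K : ℕ, N ^ (K + 1) = ⊥
  symm : ∀ a b : R, τ (a * b) = τ (b * a)
  nondeg : ∀ a ∈ A, a ≠ 0 → ∃ b ∈ A, τ (a * b) ≠ 0

variable {f : R} {A N : Submodule k R} {τ : R →ₗ[k] k}

theorem Corner.pow_succ_le (h : Corner f A N τ) : ∀ l : ℕ, N ^ (l + 1 + 1) ≤ N ^ (l + 1) := by
  intro l
  rw [pow_succ, pow_succ, mul_assoc]
  exact mul_le_mul' le_rfl h.mul_le

theorem Corner.pow_le_radical (h : Corner f A N τ) : ∀ l : ℕ, N ^ (l + 1) ≤ N := by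
  intro l
  induction l with
  | zero => simp
  | succ l ih => exact (h.pow_succ_le l).trans ih

theorem Corner.mul_mem (h : Corner f A N τ) {V : Submodule k R} (hVA : V ≤ A)
    (hV : N * V ≤ V ∧ V * N ≤ V) {a v : R} (ha : a ∈ A) (hv : v ∈ V) : a * v ∈ V ∧ v * a ∈ V := by
  obtain ⟨c, hc⟩ := h.decomp a ha
  have e : a = c • f + (a - c • f) := (add_sub_cancel _ _).symm
  constructor
  · rw [e, add_mul, smul_mul_assoc, h.left v (hVA hv)]
    exact add_mem (V.smul_mem c hv) (hV.1 (Submodule.mul_mem_mul hc hv))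
  · rw [e, mul_add, mul_smul_comm, h.right v (hVA hv)]
    exact add_mem (V.smul_mem c hv) (hV.2 (Submodule.mul_mem_mul hv hc))

theorem Corner.lt_ker (h : Corner f A N τ) {V : Submodule k R} (hVA : V ≤ A)
    (hV : N * V ≤ V ∧ V * N ≤ V) (hne : V ≠ ⊥) : V ⊓ LinearMap.ker τ < V := by
  refine lt_of_le_of_ne inf_le_left fun he => ?_
  obtain ⟨v, hv, hv0⟩ := V.exists_mem_ne_zero_of_ne_bot hne
  obtain ⟨b, hb, hτ⟩ := h.nondeg v (hVA hv) hv0
  have hm := (h.mul_mem hVA hV hb hv).2
  rw [← he] at hm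
  exact hτ hm.2

theorem Corner.comm_sub (h : Corner f A N τ) {a b : R} (ha : a ∈ A) (hb : b ∈ A) :
    ∃ y ∈ N, ∃ z ∈ N, a * b - b * a = y * z - z * y := by
  obtain ⟨c, hc⟩ := h.decomp a ha
  obtain ⟨c', hc'⟩ := h.decomp b hb
  refine ⟨_, hc, _, hc', ?_⟩
  simp only [sub_mul, mul_sub, smul_mul_assoc, mul_smul_comm, h.left a ha, h.left b hb,
    h.right a ha, h.right b hb, h.left f h.mem, smul_smul, smul_sub, mul_comm c' c]
  abel

theorem Corner.finrank_le [FiniteDimensional k R] (h : Corner f A N τ) :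
    finrank k N + 1 ≤ finrank k A :=
  Submodule.finrank_lt_finrank_of_lt (lt_of_le_of_ne h.le fun e => h.notMem (e.symm ▸ h.mem))

/-- A radical with one generator is commutative. -/
theorem Corner.comm_of_span (h : Corner f A N τ) {t : R} (ht : t ∈ N)
    (htN : N ≤ Submodule.span k {t} ⊔ N * N) : ∀ y ∈ N, ∀ z ∈ N, y * z = z * y := by
  have htp : ∀ l : ℕ, Submodule.span k {t ^ (l + 1)} ≤ N ^ (l + 1) := fun l =>
    (Submodule.span_singleton_le_iff_mem _ _).mpr (Submodule.pow_mem_pow N ht _)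
  have hpow : ∀ i : ℕ, N ^ (i + 1) ≤ Submodule.span k {t ^ (i + 1)} ⊔ N ^ (i + 2) := by
    intro i
    induction i with
    | zero => simpa [pow_two] using htN
    | succ i ih =>
      calc N ^ (i + 2) = N ^ (i + 1) * N := pow_succ N (i + 1)
        _ ≤ (Submodule.span k {t ^ (i + 1)} ⊔ N ^ (i + 2)) * (Submodule.span k {t} ⊔ N * N) :=
          mul_le_mul' ih htN
        _ ≤ Submodule.span k {t ^ (i + 2)} ⊔ N ^ (i + 3) := by
          rw [Submodule.sup_mul, Submodule.mul_sup, Submodule.mul_sup]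
          refine sup_le (sup_le ?_ ?_) (sup_le ?_ ?_)
          · rw [Submodule.span_mul_span, Set.singleton_mul_singleton, ← pow_succ]
            exact le_sup_left
          · refine le_sup_of_le_right ((mul_le_mul' (htp i) le_rfl).trans_eq ?_)
            rw [← pow_two, ← pow_add]
          · refine le_sup_of_le_right ((mul_le_mul' le_rfl
              ((Submodule.span_singleton_le_iff_mem _ _).mpr ht)).trans_eq (pow_succ N (i + 2)).symm)
          · refine le_sup_of_le_right ?_
            rw [pow_succ N (i + 2)]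
            exact mul_le_mul' le_rfl h.mul_le
  let S : Submodule k R := Submodule.span k (Set.range fun i : ℕ => t ^ (i + 1))
  have hNS : N ≤ S := by
    obtain ⟨K, hK⟩ := h.nilp
    have h1 : ∀ l : ℕ, N ≤ S ⊔ N ^ (l + 1) := by
      intro l
      induction l with
      | zero => rw [pow_one]; exact le_sup_right
      | succ l ih =>
        exact ih.trans (sup_le le_sup_left ((hpow l).trans (sup_le (le_sup_of_le_left
          ((Submodule.span_singleton_le_iff_mem _ _).mpr (Submodule.subset_span ⟨l, rfl⟩)))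
          le_sup_right)))
    simpa [hK] using h1 K
  intro y hy z hz
  have ha := hNS hy
  have hb := hNS hz
  show Commute y z
  clear hy hz
  induction ha using Submodule.span_induction with
  | mem a ha =>
    obtain ⟨i, rfl⟩ := ha
    induction hb using Submodule.span_induction with
    | mem b hb => obtain ⟨j, rfl⟩ := hb; exact Commute.pow_pow_self t _ _
    | zero => exact Commute.zero_right _
    | add y z _ _ h h' => exact h.add_right h'
    | smul r y _ h => exact h.smul_right r
  | zero => exact Commute.zero_left _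
  | add y z _ _ h h' => exact h.add_left h'
  | smul r y _ h => exact h.smul_left r

/-- Associativity kills the products of a generator with a one-dimensional square. -/
theorem assoc_zero {V : Type*} [AddCommGroup V] [Module k V] {α β δ : k} {P Q U W : V}
    (h2 : α • Q = β • U) (h3 : β • P = (β - 1) • U) (h4 : β • Q = δ • U)
    (h1 : α • P = α • U) (h5 : (β - 1) • P = α • W) (h6 : (β - 1) • Q = β • W)
    (h7 : δ • P = (β - 1) • W) (h8 : δ • Q = δ • W) : U = 0 ∧ W = 0 := by
  have a : (β - 1) • U = 0 := by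
    linear_combination (norm := module) (β - 1) • h3 - β • h5 - (β - 1) • h2 + α • h6
  have b : β • W = 0 := by
    have b' : β • β • W = 0 := by
      linear_combination (norm := module) (β - 1) • h4 - β • h6 + δ • a
    rcases smul_eq_zero.mp b' with hβ | hβ
    · rw [hβ, zero_smul]
    · exact hβ
  rcases eq_or_ne β 0 with hβ | hβ
  · subst hβ
    have hU : U = 0 := by simpa using a
    have hQ : Q = 0 := by simpa using h6
    subst hU hQ
    refine ⟨rfl, ?_⟩
    have hδ : δ • W = 0 := by simpa using h8.symm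
    linear_combination (norm := module) h7 + δ • h5 + α • hδ
  rcases eq_or_ne β 1 with hβ1 | hβ1
  · subst hβ1
    have hW : W = 0 := by simpa using b
    have hP : P = 0 := by simpa using h3
    subst hW hP
    refine ⟨?_, rfl⟩
    have hα : α • U = 0 := by simpa using h1.symm
    linear_combination (norm := module) -h2 + α • h4 + δ • hα
  · exact ⟨(smul_eq_zero.mp a).resolve_left (sub_ne_zero.mpr hβ1),
      (smul_eq_zero.mp b).resolve_left hβ⟩

/-- A local symmetric algebra with at most four trace forms is commutative. -/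
theorem Corner.comm [FiniteDimensional k R] (h : Corner f A N τ) {c0 : ℕ} (hc0 : c0 ≤ 4)
    (hforms : ∀ W : Submodule k R, W ≤ A → (∀ a ∈ A, ∀ b ∈ A, a * b - b * a ∈ W) →
      finrank k A ≤ finrank k W + c0) : ∀ a ∈ A, ∀ b ∈ A, a * b = b * a := by
  suffices hN : ∀ y ∈ N, ∀ z ∈ N, y * z = z * y by
    intro a ha b hb
    obtain ⟨y, hy, z, hz, e⟩ := h.comm_sub ha hb
    rw [← sub_eq_zero, e, hN y hy z hz, sub_self]
  have hN2A : N * N ≤ A := h.mul_le.trans h.le
  have hideal : N * (N * N) ≤ N * N ∧ (N * N) * N ≤ N * N :=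
    ⟨mul_le_mul' le_rfl h.mul_le, mul_le_mul' h.mul_le le_rfl⟩
  have hcomm2 : ∀ y ∈ N, ∀ z ∈ N, y * z - z * y ∈ N * N := fun y hy z hz =>
    sub_mem (Submodule.mul_mem_mul hy hz) (Submodule.mul_mem_mul hz hy)
  have hτc : ∀ y z : R, y * z - z * y ∈ LinearMap.ker τ := fun y z => by
    simp [h.symm y z]
  by_cases h3 : N * (N * N) = ⊥
  · intro y hy z hz
    by_contra hne
    obtain ⟨b, hb, hτ⟩ := h.nondeg _ (hN2A (hcomm2 y hy z hz)) (sub_ne_zero.mpr hne)
    obtain ⟨c, hc⟩ := h.decomp b hb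
    have h0 : (y * z - z * y) * (b - c • f) = 0 := by
      have := Submodule.mul_mem_mul (hcomm2 y hy z hz) hc
      rwa [mul_assoc, h3, Submodule.mem_bot] at this
    rw [mul_sub, sub_eq_zero, mul_smul_comm, h.right _ (hN2A (hcomm2 y hy z hz))] at h0
    exact hτ (by rw [h0, map_smul, LinearMap.mem_ker.mp (hτc y z), smul_zero])
  have hN2ne : N * N ≠ ⊥ := fun e => h3 (by rw [e, Submodule.mul_bot])
  -- the radical has at most two generators
  have hr : finrank k N ≤ finrank k ↥(N * N) + 2 := by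
    have h1 := hforms (N * N ⊓ LinearMap.ker τ) (inf_le_left.trans hN2A) fun a ha b hb => by
      obtain ⟨y, hy, z, hz, e⟩ := h.comm_sub ha hb
      rw [e]
      exact ⟨hcomm2 y hy z hz, hτc y z⟩
    have h2 := Submodule.finrank_lt_finrank_of_lt (h.lt_ker hN2A hideal hN2ne)
    have := h.finrank_le
    omega
  by_cases hgen : ∃ t ∈ N, N ≤ Submodule.span k {t} ⊔ N * N
  · obtain ⟨t, ht, htN⟩ := hgen
    exact h.comm_of_span ht htN
  push Not at hgen
  obtain ⟨x, hx, hx2⟩ := SetLike.not_le_iff_exists.mp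
    (fun e => hgen 0 (zero_mem _) (e.trans le_sup_right) : ¬ N ≤ N * N)
  obtain ⟨y, hy, hy2⟩ := SetLike.not_le_iff_exists.mp (hgen x hx)
  set U1 := Submodule.span k {x} ⊔ N * N with hU1
  set U2 := Submodule.span k {y} ⊔ U1 with hU2
  have l1 : finrank k ↥(N * N) < finrank k U1 := Submodule.finrank_lt_finrank_of_lt
    (lt_of_le_of_ne le_sup_right fun e => hx2 (e ▸ le_sup_left (a := Submodule.span k {x})
      (Submodule.mem_span_singleton_self x)))
  have l2 : finrank k U1 < finrank k U2 := Submodule.finrank_lt_finrank_of_lt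
    (lt_of_le_of_ne le_sup_right fun e => hy2 (e ▸ le_sup_left (a := Submodule.span k {y})
      (Submodule.mem_span_singleton_self y)))
  have hU2N : U2 ≤ N := sup_le ((Submodule.span_singleton_le_iff_mem _ _).mpr hy)
    (sup_le ((Submodule.span_singleton_le_iff_mem _ _).mpr hx) h.mul_le)
  have l3 := Submodule.finrank_mono hU2N
  have hU2eq : U2 = N := Submodule.eq_of_le_of_finrank_le hU2N (by omega)
  have hsplit : ∀ w ∈ N, ∃ a b : k, ∃ m ∈ N * N, w = a • x + b • y + m := fun w hw => by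
    rw [← hU2eq] at hw
    obtain ⟨u, hu, v, hv, rfl⟩ := Submodule.mem_sup.mp hw
    obtain ⟨b, rfl⟩ := Submodule.mem_span_singleton.mp hu
    obtain ⟨u', hu', m, hm, rfl⟩ := Submodule.mem_sup.mp hv
    obtain ⟨a, rfl⟩ := Submodule.mem_span_singleton.mp hu'
    exact ⟨a, b, m, hm, by abel⟩
  set c := x * y - y * x with hc
  set N3 := N * (N * N) with hN3
  have hN3' : N * N * N = N3 := mul_assoc _ _ _
  have hcN2 : c ∈ N * N := hcomm2 x hx y hy
  set V := Submodule.span k {c} ⊔ N3 with hVdef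
  have hV2 : V ≤ N * N := sup_le ((Submodule.span_singleton_le_iff_mem _ _).mpr hcN2) hideal.1
  have hVid : N * V ≤ V ∧ V * N ≤ V := by
    refine ⟨(mul_le_mul' le_rfl hV2).trans le_sup_right, ?_⟩
    exact ((mul_le_mul' hV2 le_rfl).trans_eq hN3').trans le_sup_right
  have hcV : ∀ u ∈ N, ∀ w ∈ N, u * w - w * u ∈ V := fun u hu w hw => by
    obtain ⟨a, b, m, hm, e1⟩ := hsplit u hu
    obtain ⟨a', b', m', hm', e2⟩ := hsplit w hw
    have e : u * w - w * u = (a * b' - b * a') • c +
        ((a • x + b • y) * m' - m' * (a • x + b • y) + (m * w - w * m)) := by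
      rw [hc, e1, e2]
      simp only [add_mul, mul_add, smul_mul_assoc, mul_smul_comm, smul_smul, sub_smul, smul_sub,
        smul_add, mul_comm a' a, mul_comm b' b, mul_comm a' b, mul_comm b' a]
      abel
    rw [e]
    refine add_mem (le_sup_left (b := N3) (Submodule.smul_mem _ _ (Submodule.mem_span_singleton_self c)))
      (le_sup_right (a := Submodule.span k {c}) ?_)
    have hab : a • x + b • y ∈ N := add_mem (N.smul_mem a hx) (N.smul_mem b hy)
    exact add_mem (sub_mem (Submodule.mul_mem_mul hab hm') (hN3' ▸ Submodule.mul_mem_mul hm' hab))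
      (sub_mem (hN3' ▸ Submodule.mul_mem_mul hm hw) (Submodule.mul_mem_mul hw hm))
  have hVne : V ≠ ⊥ := fun e => h3 (le_bot_iff.mp (le_sup_right.trans_eq e))
  -- the square of the radical is spanned by the commutator modulo the cube
  have hN2V : N * N ≤ V := by
    refine (Submodule.eq_of_le_of_finrank_le hV2 ?_).ge
    have h1 := hforms (V ⊓ LinearMap.ker τ) (inf_le_left.trans (hV2.trans hN2A)) fun a ha b hb => by
      obtain ⟨u, hu, w, hw, e⟩ := h.comm_sub ha hb
      rw [e]
      exact ⟨hcV u hu w hw, hτc u w⟩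
    have h2 := Submodule.finrank_lt_finrank_of_lt (h.lt_ker (hV2.trans hN2A) hVid hVne)
    have := h.finrank_le
    omega
  have hprod : ∀ u ∈ N, ∀ w ∈ N, ∃ a : k, ∃ m ∈ N3, u * w = a • c + m := fun u hu w hw => by
    obtain ⟨c', hc', m, hm, e⟩ := Submodule.mem_sup.mp (hN2V (Submodule.mul_mem_mul hu hw))
    obtain ⟨a, rfl⟩ := Submodule.mem_span_singleton.mp hc'
    exact ⟨a, m, hm, e.symm⟩
  obtain ⟨α, m1, hm1, hxx⟩ := hprod x hx x hx
  obtain ⟨β, m2, hm2, hxy⟩ := hprod x hx y hy
  obtain ⟨δ, m4, hm4, hyy⟩ := hprod y hy y hy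
  have hyx : y * x = (β - 1) • c + m2 := by
    rw [show y * x = x * y - c by rw [hc, sub_sub_cancel], hxy, sub_smul, one_smul]; abel
  set N4 := N * N3 with hN4
  have hl : ∀ m ∈ N3, ∀ u ∈ N, N4.mkQ (m * u) = 0 := fun m hm u hu => by
    rw [Submodule.mkQ_apply, Submodule.Quotient.mk_eq_zero, hN4, hN3, show N * (N * (N * N)) = N * (N * N) * N by
      simp only [mul_assoc]]
    exact Submodule.mul_mem_mul hm hu
  have hr' : ∀ m ∈ N3, ∀ u ∈ N, N4.mkQ (u * m) = 0 := fun m hm u hu => by
    rw [Submodule.mkQ_apply, Submodule.Quotient.mk_eq_zero]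
    exact Submodule.mul_mem_mul hu hm
  -- one equation for each monomial of degree three
  have key : ∀ u ∈ N, ∀ v ∈ N, ∀ w ∈ N, ∀ a b : k, ∀ m ∈ N3, ∀ m' ∈ N3, u * v = a • c + m →
      v * w = b • c + m' → a • N4.mkQ (c * w) = b • N4.mkQ (u * c) := by
    intro u hu v _ w hw a b m hm m' hm' e e'
    have h1 := congrArg N4.mkQ (mul_assoc u v w)
    rwa [e, e', add_mul, mul_add, map_add, map_add, hl m hm w hw, hr' m' hm' u hu, add_zero,
      add_zero, smul_mul_assoc, mul_smul_comm, map_smul, map_smul] at h1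
  obtain ⟨hU, hW⟩ := assoc_zero
    (key x hx x hx y hy α β m1 hm1 m2 hm2 hxx hxy)
    (key x hx y hy x hx β (β - 1) m2 hm2 m2 hm2 hxy hyx)
    (key x hx y hy y hy β δ m2 hm2 m4 hm4 hxy hyy)
    (key x hx x hx x hx α α m1 hm1 m1 hm1 hxx hxx)
    (key y hy x hx x hx (β - 1) α m2 hm2 m1 hm1 hyx hxx)
    (key y hy x hx y hy (β - 1) β m2 hm2 m2 hm2 hyx hxy)
    (key y hy y hy x hx δ (β - 1) m4 hm4 m2 hm2 hyy hyx)
    (key y hy y hy y hy δ δ m4 hm4 m4 hm4 hyy hyy)
  rw [Submodule.mkQ_apply, Submodule.Quotient.mk_eq_zero] at hU hW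
  -- hence the cube vanishes
  have h34 : N3 ≤ N4 := by
    refine Submodule.mul_le.mpr fun u hu v hv => ?_
    obtain ⟨a, b, m, hm, rfl⟩ := hsplit u hu
    obtain ⟨c', hc', n3, hn3, rfl⟩ := Submodule.mem_sup.mp (hN2V hv)
    obtain ⟨s, rfl⟩ := Submodule.mem_span_singleton.mp hc'
    have h1 : m * (s • c) ∈ N4 := by
      have : N * N * (N * N) = N4 := by simp only [hN4, hN3, mul_assoc]
      exact this ▸ Submodule.mul_mem_mul hm (Submodule.smul_mem _ s hcN2)
    have e : (a • x + b • y + m) * (s • c + n3) =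
        s • a • (x * c) + s • b • (y * c) + m * (s • c) + a • (x * n3) + b • (y * n3) + m * n3 := by
      simp only [add_mul, mul_add, smul_mul_assoc, mul_smul_comm, smul_add]
      abel
    rw [e]
    exact add_mem (add_mem (add_mem (add_mem (add_mem (N4.smul_mem _ (N4.smul_mem _ hU))
      (N4.smul_mem _ (N4.smul_mem _ hW))) h1) (N4.smul_mem _ (Submodule.mul_mem_mul hx hn3)))
      (N4.smul_mem _ (Submodule.mul_mem_mul hy hn3))) (Submodule.mul_mem_mul (h.mul_le hm) hn3)
  obtain ⟨K, hK⟩ := h.nilp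
  refine absurd (eq_bot_of_le_succ (l := 3) ?_ hK) ?_
  · simpa only [hN4, hN3, pow_succ, pow_zero, one_mul, mul_assoc] using h34
  · simpa only [hN3, pow_succ, pow_zero, one_mul, mul_assoc] using h3

end Cfsg.Agent.Char.LocalSymm
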