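import Mathlib

/-!
# Modules of `p`-groups in characteristic `p` whose fixed vectors are norms
-/

set_option autoImplicit false

namespace Cfsg.Agent.Char.SummandFree

open Module

variable {S : Type*} [Group S] [Fintype S] {k : Type*} [Field k] {p : ℕ} [Fact p.Prime] [CharP k p]
  {V : Type*} [AddCommGroup V] [Module k V]

theorem exists_fixed_ne_zero (hS : IsPGroup p S) (ρ : S →* Module.End k V) (W : Submodule k V)
    (hW : ∀ s, ∀ w ∈ W, ρ s w ∈ W) (hne : W ≠ ⊥) : ∃ w ∈ W, w ≠ 0 ∧ ∀ s, ρ s w = w := by
  classical
  obtain ⟨v, hv, hv0⟩ := W.exists_mem_ne_zero_of_ne_bot hne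
  letI : Algebra (ZMod p) k := ZMod.algebra k p
  letI : Module (ZMod p) V := Module.compHom V (algebraMap (ZMod p) k)
  let U : Submodule (ZMod p) V := Submodule.span (ZMod p) (Set.range fun s => ρ s v)
  haveI : Module.Finite (ZMod p) U := Module.Finite.span_of_finite _ (Set.finite_range _)
  haveI : Finite U := Module.finite_of_finite (ZMod p)
  have hlin : ∀ (f : Module.End k V) (c : ZMod p) (w : V), f (c • w) = c • f w := fun f c w =>
    map_smul f (algebraMap (ZMod p) k c) w
  have hUs : ∀ s, ∀ w ∈ U, ρ s w ∈ U := by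
    intro s w hw
    induction hw using Submodule.span_induction with
    | mem w hw =>
      obtain ⟨t, rfl⟩ := hw
      exact Submodule.subset_span ⟨s * t, by simp⟩
    | zero => simp
    | add a b _ _ ha hb => rw [map_add]; exact add_mem ha hb
    | smul c a _ ha => rw [hlin]; exact U.smul_mem c ha
  have hUW : ∀ w ∈ U, w ∈ W := by
    intro w hw
    induction hw using Submodule.span_induction with
    | mem w hw => obtain ⟨t, rfl⟩ := hw; exact hW t v hv
    | zero => exact zero_mem _
    | add a b _ _ ha hb => exact add_mem ha hb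
    | smul c a _ ha => exact W.smul_mem (algebraMap (ZMod p) k c) ha
  letI : MulAction S U :=
    { smul := fun s w => ⟨ρ s w, hUs s w w.2⟩
      one_smul := fun w => Subtype.ext (show ρ 1 (w : V) = w by simp)
      mul_smul := fun s t w => Subtype.ext (show ρ (s * t) (w : V) = ρ s (ρ t w) by simp) }
  have hvU : v ∈ U := Submodule.subset_span ⟨1, by simp⟩
  haveI : Nontrivial U := ⟨⟨v, hvU⟩, 0, fun e => hv0 (congrArg Subtype.val e)⟩
  have hdvd : p ∣ Nat.card U := by
    rw [Module.natCard_eq_pow_finrank (K := ZMod p), Nat.card_zmod]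
    exact dvd_pow_self p (Module.finrank_pos).ne'
  obtain ⟨w, hw, hw0⟩ := hS.exists_fixed_point_of_prime_dvd_card_of_fixed_point U hdvd
    (a := 0) (fun s => Subtype.ext (map_zero (ρ s)))
  refine ⟨w, hUW w w.2, fun e => hw0 (Subtype.ext e.symm), fun s => congrArg Subtype.val (hw s)⟩

/-- If every fixed vector is a norm, the dimension is a multiple of the order of the group. -/
theorem card_dvd_finrank [FiniteDimensional k V] (hS : IsPGroup p S) (ρ : S →* Module.End k V)
    (hnorm : ∀ v : V, (∀ s, ρ s v = v) → ∃ w, ∑ s, ρ s w = v) :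
    Fintype.card S ∣ finrank k V := by
  classical
  let F : Submodule k V :=
    { carrier := {v | ∀ s, ρ s v = v}
      add_mem' := fun ha hb s => by rw [map_add, ha s, hb s]
      zero_mem' := fun s => map_zero _
      smul_mem' := fun c v hv s => by rw [map_smul, hv s] }
  let b := Module.finBasis k F
  choose w hw using fun i => hnorm (b i : V) (b i).2
  choose l hl using fun i => LinearMap.exists_extend (b.coord i)
  let σ : S →* Module.End k (Fin (finrank k F) × S → k) :=
    { toFun := fun s => LinearMap.funLeft k k fun is => (is.1, s⁻¹ * is.2)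
      map_one' := by ext c is; simp [LinearMap.funLeft_apply]
      map_mul' := fun s t => by ext c is; simp [LinearMap.funLeft_apply, mul_assoc] }
  let Φ : (Fin (finrank k F) × S → k) →ₗ[k] V :=
    Fintype.linearCombination k fun is => ρ is.2 (w is.1)
  have hΦ : ∀ s c, Φ (σ s c) = ρ s (Φ c) := by
    intro s c
    simp only [Φ, Fintype.linearCombination_apply, map_sum, map_smul]
    refine Fintype.sum_equiv ((Equiv.refl _).prodCongr (Equiv.mulLeft s⁻¹)) _ _ fun is => ?_
    simp [σ, LinearMap.funLeft_apply, Prod.map]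
  have hΦinj : Function.Injective Φ := by
    rw [← LinearMap.ker_eq_bot]
    by_contra hne
    obtain ⟨c, hc, hc0, hfix⟩ := exists_fixed_ne_zero hS σ _ (fun s c hc => by
      rw [LinearMap.mem_ker] at hc ⊢
      rw [hΦ, hc, map_zero]) hne
    have hconst : ∀ i s, c (i, s) = c (i, 1) := fun i s => by
      have h := congrFun (hfix s) (i, s)
      simpa [σ, LinearMap.funLeft_apply] using h.symm
    have h1 : (∑ i, c (i, 1) • b i : F) = 0 := by
      refine Subtype.ext ?_
      rw [ZeroMemClass.coe_zero, ← LinearMap.mem_ker.mp hc]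
      simp only [Φ, Fintype.linearCombination_apply, Fintype.sum_prod_type, hconst, ← Finset.smul_sum, hw]
      simp
    refine hc0 (funext fun is => ?_)
    rw [← Prod.eta is, hconst]
    exact Fintype.linearIndependent_iff.mp b.linearIndependent _ h1 is.1
  let Ψ : V →ₗ[k] (Fin (finrank k F) × S → k) := LinearMap.pi fun is => (l is.1).comp (ρ is.2)
  have hΨinj : Function.Injective Ψ := by
    rw [← LinearMap.ker_eq_bot]
    by_contra hne
    obtain ⟨v, hv, hv0, hfix⟩ := exists_fixed_ne_zero hS ρ _ (fun s v hv => by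
      rw [LinearMap.mem_ker] at hv ⊢
      funext is
      have h := congrFun hv (is.1, is.2 * s)
      simpa [Ψ] using h) hne
    refine hv0 (congrArg Subtype.val (b.ext_elem (y := 0) (x := (⟨v, hfix⟩ : F)) fun i => ?_))
    have h := congrFun (LinearMap.mem_ker.mp hv) (i, 1)
    rw [map_zero, Finsupp.zero_apply]
    refine Eq.trans ?_ h
    show b.coord i ⟨v, hfix⟩ = (l i) (ρ 1 v)
    rw [← hl i, map_one]
    rfl
  have h1 := LinearMap.finrank_le_finrank_of_injective hΦinj
  have h2 := LinearMap.finrank_le_finrank_of_injective hΨinj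
  rw [Module.finrank_fintype_fun_eq_card, Fintype.card_prod, Fintype.card_fin] at h1 h2
  exact ⟨finrank k F, by rw [mul_comm]; omega⟩

end Cfsg.Agent.Char.SummandFree
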