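import Cfsg.Agent.Lib.Char.TwoCharBlock
import Cfsg.Agent.Lib.Char.LocalCorner
import Cfsg.Agent.Lib.Char.LocalSymm
import Cfsg.Agent.Lib.Char.SummandFree
import Cfsg.Agent.Lib.Char.BlockDim

/-!
# Blocks of rank one with at most four characters
-/

set_option autoImplicit false
set_option linter.unusedSectionVars false

namespace Cfsg.Agent.Char.SmallBlock

open Cfsg Module
open scoped ComplexConjugate

universe u

variable {G : Type u} [Group G] [Fintype G] {M : Ideal AlgInt} {p : ℕ} {B : Set (IrrCharacter G)}

section Forms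

variable {hP : M.IsPrime}

theorem many_forms (hM : IsPModular p M) (hB : IsPBlock M B) {c0 : ℕ} (hk : Nat.card B ≤ c0)
    (L : Fin (c0 + 1) → (MonoidAlgebra (Res hP) G →ₗ[Res hP] Res hP))
    (hL : ∀ i a b, L i (a * b) = L i (b * a))
    (hLe : ∀ i a, L i (rdAlg hP (blockCoeff B) * a) = L i a) :
    ¬ LinearIndependent (Res hP) L := by
  classical
  intro hind
  let lift : Res hP → ℂ := fun z =>
    ((Ideal.Quotient.mk_surjective (I := resIdeal hP) z).choose : ℂ)
  have hlift : ∀ z, MemLocalRing M (lift z) ∧ red hP (lift z) = z := fun z => by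
    refine ⟨(Ideal.Quotient.mk_surjective (I := resIdeal hP) z).choose.2, ?_⟩
    rw [← redHom_apply]
    exact (Ideal.Quotient.mk_surjective (I := resIdeal hP) z).choose_spec
  let F : Fin (c0 + 1) → G → ℂ := fun i g => lift (L i (MonoidAlgebra.single g 1))
  have hF : ∀ i, IsClassFunction G (F i) := fun i g x => by
    show lift _ = lift _
    rw [(form_data hM (L i) (hL i) (hLe i)).1]
  have heR : ∀ g, MemLocalRing M (blockCoeff B g) := fun g => memLR_blockCoeff hM hB g
  have hW : ∀ i y, MemLocalRing M (blockPart B (F i) y) ∧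
      red hP (blockPart B (F i) y) = L i (MonoidAlgebra.single y 1) := fun i y => by
    rw [← sum_blockCoeff_shift B (hF i) y]
    have hR : ∀ g, MemLocalRing M (blockCoeff B g * F i (g * y)) := fun g =>
      memLR_mul hP (heR g) (hlift _).1
    refine ⟨memLR_sum hP _ _ fun g _ => hR g, ?_⟩
    rw [red_sum hP _ _ fun g _ => hR g, ← (form_data hM (L i) (hL i) (hLe i)).2 y]
    exact Finset.sum_congr rfl fun g _ => by rw [red_mul hP (heR g) (hlift _).1, (hlift _).2]
  have h1 := linearIndependent_of_red hP (fun i => blockPart B (F i)) (fun i y => (hW i y).1) (by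
    simp only [fun i y => (hW i y).2]
    rw [Fintype.linearIndependent_iff] at hind ⊢
    intro a ha
    refine hind a (form_ext fun y => ?_)
    have := congrFun ha y
    simpa using this)
  have h2 := (LinearIndependent.of_comp (v := fun i =>
    (⟨blockPart B (F i), blockPart_mem_charSpan B (F i)⟩ : charSpan B))
    (charSpan B).subtype h1).fintype_card_le_finrank
  rw [finrank_charSpan, Fintype.card_fin] at h2
  omega

/-- The coefficient at the identity is symmetric. -/
theorem coeff_one_comm (a b : MonoidAlgebra (Res hP) G) : (a * b).coeff 1 = (b * a).coeff 1 := by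
  classical
  induction a using MonoidAlgebra.induction_linear with
  | zero => simp
  | add x y hx hy => simp [add_mul, mul_add, hx, hy]
  | single x c =>
    induction b using MonoidAlgebra.induction_linear with
    | zero => simp
    | add x' y hx hy => simp [add_mul, mul_add, hx, hy]
    | single y d =>
      simp [MonoidAlgebra.single_mul_single, Finsupp.single_apply, mul_comm c d,
        mul_eq_one_comm (a := x) (b := y)]

theorem coeff_single_mul (a : MonoidAlgebra (Res hP) G) (s g : G) :
    (MonoidAlgebra.single s (1 : Res hP) * a).coeff g = a.coeff (s⁻¹ * g) := by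
  classical
  induction a using MonoidAlgebra.induction_linear with
  | zero => simp
  | add x y hx hy => simp [mul_add, hx, hy]
  | single y d =>
    simp [MonoidAlgebra.single_mul_single, Finsupp.single_apply, eq_inv_mul_iff_mul_eq]

/-- The dimension of a projective left ideal is divisible by the full `p`-part of the group order. -/
theorem sylow_dvd_finrank (hM : IsPModular p M) {g : MonoidAlgebra (Res hP) G}
    (hg : IsIdempotentElem g) :
    p ^ (Nat.card G).factorization p ∣
      finrank (Res hP) (LinearMap.range (LinearMap.mulRight (Res hP) g)) := by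
  classical
  haveI := Fact.mk hM.1
  haveI := charP_res hP hM
  haveI : Module.Finite (Res hP) (MonoidAlgebra (Res hP) G) :=
    Module.Finite.of_injective (coeL hP) (coeL_injective hP)
  obtain ⟨P⟩ : Nonempty (Sylow p G) := inferInstance
  haveI := Fintype.ofFinite (P : Subgroup G)
  rw [← P.card_eq_multiplicity, Nat.card_eq_fintype_card]
  set V := LinearMap.range (LinearMap.mulRight (Res hP) g)
  have hst : ∀ (s : (P : Subgroup G)) (v : MonoidAlgebra (Res hP) G), v ∈ V →
      MonoidAlgebra.single (s : G) (1 : Res hP) * v ∈ V := by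
    rintro s _ ⟨r, rfl⟩
    exact ⟨MonoidAlgebra.single (s : G) (1 : Res hP) * r, by simp [mul_assoc]⟩
  let ρ : (P : Subgroup G) →* Module.End (Res hP) V :=
    { toFun := fun s =>
        { toFun := fun v => ⟨MonoidAlgebra.single (s : G) (1 : Res hP) * (v : MonoidAlgebra (Res hP) G), hst s v v.2⟩
          map_add' := fun v w => Subtype.ext (mul_add _ _ _)
          map_smul' := fun c v => Subtype.ext (mul_smul_comm _ _ _) }
      map_one' := LinearMap.ext fun v => Subtype.ext (by
        show MonoidAlgebra.single (1 : G) (1 : Res hP) * (v : MonoidAlgebra (Res hP) G) = v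
        rw [show MonoidAlgebra.single (1 : G) (1 : Res hP) = 1 from rfl, one_mul])
      map_mul' := fun s t => LinearMap.ext fun v => Subtype.ext (by
        show MonoidAlgebra.single ((s : G) * (t : G)) (1 : Res hP) * (v : MonoidAlgebra (Res hP) G) =
          MonoidAlgebra.single (s : G) (1 : Res hP) *
            (MonoidAlgebra.single (t : G) (1 : Res hP) * (v : MonoidAlgebra (Res hP) G))
        rw [← mul_assoc, MonoidAlgebra.single_mul_single, one_mul]) }
  refine SummandFree.card_dvd_finrank P.isPGroup' ρ fun v hv => ?_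
  let rep : G → G := fun x => Quotient.out (Quotient.mk (QuotientGroup.rightRel (P : Subgroup G)) x)
  have hrep : ∀ x, x * (rep x)⁻¹ ∈ (P : Subgroup G) := fun x => by
    have h := Quotient.exact (Quotient.out_eq (Quotient.mk (QuotientGroup.rightRel (P : Subgroup G)) x))
    exact QuotientGroup.rightRel_apply.mp h
  have hinv : ∀ (s : (P : Subgroup G)) (x : G), rep ((s : G) * x) = rep x := fun s x => by
    refine congrArg Quotient.out (Quotient.sound (QuotientGroup.rightRel_apply.mpr ?_))
    simp
  have hrr : ∀ x, rep (rep x) = rep x := fun x => by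
    have h := hinv ⟨_, hrep x⟩ (rep x)
    simpa using h.symm
  set x := (v : MonoidAlgebra (Res hP) G) with hxdef
  have hx : ∀ (s : (P : Subgroup G)) (z : G), x.coeff ((s : G) * z) = x.coeff z := fun s z => by
    have h := congrArg (fun w : V => (w : MonoidAlgebra (Res hP) G).coeff z) (hv s⁻¹)
    change (MonoidAlgebra.single ((s⁻¹ : (P : Subgroup G)) : G) 1 * x).coeff z = x.coeff z at h
    rw [coeff_single_mul] at h
    simpa using h
  let y : MonoidAlgebra (Res hP) G :=
    ∑ z ∈ Finset.univ.filter (fun z => rep z = z), MonoidAlgebra.single z (x.coeff z)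
  have hy : ∀ z, y.coeff z = if rep z = z then x.coeff z else 0 := fun z => by
    simp only [y, MonoidAlgebra.coeff_sum, Finsupp.finset_sum_apply, MonoidAlgebra.coeff_single,
      Finsupp.single_apply, Finset.sum_ite_eq', Finset.mem_filter, Finset.mem_univ, true_and]
  have hsum : ∑ s : (P : Subgroup G), MonoidAlgebra.single (s : G) (1 : Res hP) * y = x := by
    refine MonoidAlgebra.coeff_injective (Finsupp.ext fun z => ?_)
    simp only [MonoidAlgebra.coeff_sum, Finsupp.finset_sum_apply, coeff_single_mul, hy]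
    rw [Finset.sum_eq_single ⟨_, hrep z⟩]
    · simp only [mul_inv_rev, inv_inv, inv_mul_cancel_right, hrr, if_true]
      have h := hx ⟨_, hrep z⟩ (rep z)
      simpa using h.symm
    · intro s _ hs
      refine if_neg fun e => hs (Subtype.ext ?_)
      have h := hinv s⁻¹ z
      simp only [Subgroup.coe_inv] at h
      rw [e] at h
      show (s : G) = z * (rep z)⁻¹
      rw [← h]
      group
    · simp
  obtain ⟨r, hr⟩ := v.2
  have hxg : x * g = x := by
    rw [hxdef, ← hr, LinearMap.mulRight_apply, mul_assoc, hg.eq]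
  refine ⟨⟨y * g, y, rfl⟩, Subtype.ext ?_⟩
  rw [AddSubmonoidClass.coe_finsetSum]
  show ∑ s : (P : Subgroup G), MonoidAlgebra.single (s : G) (1 : Res hP) * (y * g) = x
  simp only [← mul_assoc]
  rw [← Finset.sum_mul, hsum, hxg]

end Forms

open scoped Classical in
/-- The basic algebra of such a block is commutative of dimension at most `k(B)`. -/
theorem dim_small (hM : IsPModular p M) (hB : IsPBlock M B) (hl : blockRank p B = 1)
    (hk : Nat.card B ≤ 4) :
    ∃ n m : ℕ, p ^ (Nat.card G).factorization p ∣ n * m ∧ m ≤ Nat.card B ∧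
      (∑ χ : IrrCharacter G with χ ∈ B, (χ : G → ℂ) 1 * (χ : G → ℂ) 1) = ((n ^ 2 * m : ℕ) : ℂ) := by
  have hPr := pmod_prime hM
  set e := rdAlg hPr (blockCoeff B) with he
  have heR : ∀ g, MemLocalRing M (blockCoeff B g) := fun g => memLR_blockCoeff hM hB g
  have hee : IsIdempotentElem e := by
    show e * e = e
    rw [he, ← rdAlg_conv hPr heR heR, conv_blockCoeff]
  have hne : e ≠ 0 := fun h => by
    obtain ⟨g, hg⟩ := exists_defectClass hM hB
    exact hg.2.1 ((rdAlg_eq_zero_iff hPr heR).mp h g)
  haveI : Module.Finite (Res hPr) (MonoidAlgebra (Res hPr) G) :=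
    Module.Finite.of_injective (coeL hPr) (coeL_injective hPr)
  obtain ⟨n, f, A, N, -, hff, hmemA, hfA, hNA, hfN, hdec, hNN, hnil, hdim, hR, hforms⟩ :=
    exists_local_corner hee (rdAlg_central hPr (isClassFunction_blockCoeff B)) hne
      (fun n₁ n₂ π₁ π₂ h1 h2 e1 e2 hs => one_simple hM hB hl n₁ n₂ π₁ π₂ h1 h2 e1 e2 hs)
      (many_forms hM hB (le_refl (Nat.card B)))
  have hl' : ∀ a ∈ A, f * a = a := fun a ha => by
    conv_lhs => rw [← (hmemA a).mp ha, ← mul_assoc, ← mul_assoc, hff.eq]
    exact (hmemA a).mp ha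
  have hr' : ∀ a ∈ A, a * f = a := fun a ha => by
    conv_lhs => rw [← (hmemA a).mp ha, mul_assoc, hff.eq]
    exact (hmemA a).mp ha
  let τ : MonoidAlgebra (Res hPr) G →ₗ[Res hPr] Res hPr :=
    (LinearMap.proj (1 : G)).comp (coeL hPr)
  have hcor : LocalSymm.Corner f A N τ :=
    { mem := hfA, left := hl', right := hr', le := hNA, notMem := hfN, decomp := hdec
      mul_le := hNN, nilp := hnil
      symm := coeff_one_comm
      nondeg := fun a ha ha0 => by
        obtain ⟨g, hg⟩ : ∃ g, a.coeff g ≠ 0 := by
          by_contra h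
          push Not at h
          exact ha0 (MonoidAlgebra.coeff_injective (Finsupp.ext fun g => by simp [h g]))
        refine ⟨f * MonoidAlgebra.single g⁻¹ (1 : Res hPr) * f, (hmemA _).mpr ?_, ?_⟩
        · simp only [← mul_assoc, hff.eq]
          rw [mul_assoc _ f f, hff.eq]
        · show (a * (f * MonoidAlgebra.single g⁻¹ (1 : Res hPr) * f)).coeff 1 ≠ 0
          rw [← mul_assoc, ← mul_assoc, hr' a ha, coeff_one_comm, ← mul_assoc, hl' a ha,
            coeff_one_comm, coeff_single_mul]
          simpa using hg }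
  have hcomm := hcor.comm hk hforms
  have hle : finrank (Res hPr) A ≤ Nat.card B := by
    have h := hforms ⊥ bot_le fun a ha b hb => by simp [hcomm a ha b hb]
    simpa using h
  refine ⟨n, finrank (Res hPr) A, hR ▸ sylow_dvd_finrank hM hff, hle, ?_⟩
  rw [← hdim, finrank_block_algebra hPr hM hB]

/-- `k(B)` is the order of a defect group. -/
theorem card_eq_pow (hM : IsPModular p M) (hB : IsPBlock M B) (hl : blockRank p B = 1)
    (hk : Nat.card B ≤ 4) : Nat.card B = p ^ blockDefect p B := by
  classical
  have hp := hM.1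
  obtain ⟨n, m, hdvd, hm, hS⟩ := dim_small hM hB hl hk
  have hS' : (∑ᶠ χ ∈ B, charDegree (χ : G → ℂ) ^ 2) = n ^ 2 * m := by
    have : ((∑ᶠ χ ∈ B, charDegree (χ : G → ℂ) ^ 2 : ℕ) : ℂ) = ((n ^ 2 * m : ℕ) : ℂ) := by
      rw [← hS, finsum_mem_irr, Nat.cast_sum]
      refine Finset.sum_congr rfl fun χ _ => ?_
      rw [Nat.cast_pow, charDegree_eq_deg, ← char_one_eq_deg (irr_isCharacter χ.2), pow_two]
    exact_mod_cast this
  obtain ⟨χ0, hχ0⟩ := block_nonempty (pmod_prime hM) hB
  have hS0 : n ^ 2 * m ≠ 0 := by
    intro h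
    rw [← hS', finsum_mem_irr] at h
    have h1 := (Finset.sum_eq_zero_iff.mp h) χ0 (Finset.mem_filter.mpr ⟨Finset.mem_univ _, hχ0⟩)
    rw [charDegree_eq_deg] at h1
    refine irr_one_ne_zero χ0.2 ?_
    rw [char_one_eq_deg (irr_isCharacter χ0.2), pow_eq_zero_iff two_ne_zero |>.mp h1, Nat.cast_zero]
  obtain ⟨hn0, hm0⟩ := mul_ne_zero_iff.mp hS0
  have hn1 : n ≠ 0 := fun h => hn0 (by simp [h])
  have hv := factorization_sum_sq hM hB
  rw [hS', Nat.factorization_mul hn0 hm0, Nat.factorization_pow] at hv
  simp only [Finsupp.add_apply, Finsupp.smul_apply, smul_eq_mul] at hv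
  have h2 := (hp.pow_dvd_iff_le_factorization (mul_ne_zero hn1 hm0)).mp hdvd
  rw [Nat.factorization_mul hn1 hm0, Finsupp.add_apply] at h2
  have hd := dmin_add_defect (p := p) (G := G) (block_nonempty (pmod_prime hM) hB)
  have hpm : p ^ blockDefect p B ≤ m :=
    Nat.le_of_dvd (Nat.pos_of_ne_zero hm0)
      ((hp.pow_dvd_iff_le_factorization hm0).mpr (by omega))
  refine le_antisymm ?_ (hpm.trans hm)
  obtain ⟨φ, d, -, hval, hC⟩ := exists_cartan_rank_one hM hB hl
  rw [← hC, ← card_bset]
  refine le_trans (by simp) (Finset.sum_le_sum (s := bset B) (f := fun _ => 1) fun χ hχ => ?_)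
  refine Nat.one_le_pow _ _ (Nat.pos_of_ne_zero fun h => irr_one_ne_zero χ.2 ?_)
  rw [hval χ (mem_bset.mp hχ) 1 (by simp [hp.ne_one]), h, Nat.cast_zero, zero_mul]

end Cfsg.Agent.Char.SmallBlock
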