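import Cfsg.Agent.Lib.Char.StarFamily
import Cfsg.Agent.Lib.Char.SmallBlock

/-!
# Counting the characters of a block with abelian defect group and free inertial quotient
-/

set_option autoImplicit false
set_option linter.unusedSectionVars false
set_option linter.style.haveILetI false

namespace Cfsg.Agent.Char.StarCount

open Cfsg

universe u

variable {G : Type u} [Group G] [Fintype G] {M : Ideal AlgInt} {p : ℕ}

theorem exists_block_on_eq {B : Set (IrrCharacter G)} {K K' : Subgroup G} (h : K = K')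
    {b : Set (IrrCharacter K)} (hb : IsInducedBlock M K b B) :
    ∃ b' : Set (IrrCharacter K'), IsInducedBlock M K' b' B ∧ blockRank p b' = blockRank p b := by
  subst h
  exact ⟨b, hb, rfl⟩

variable (hM : IsPModular p M) {B : Set (IrrCharacter G)} {D : Subgroup G}
  {c : Set (IrrCharacter (Subgroup.centralizer (D : Set G)))}
  (hmax : IsMaximalBrauerPair p M B D c) (hab : ∀ x ∈ D, ∀ y ∈ D, x * y = y * x)
  (hfree : ∀ t ∈ pairStab (pmod_prime hM) hmax.1.1.2, ∀ x ∈ D, x ≠ 1 → t * x * t⁻¹ = x →
    t ∈ Subgroup.centralizer (D : Set G))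
include hmax hab hfree

/-- The subsection blocks outside the identity have one Brauer character. -/
theorem rank_subsection {x : G} (hx : ∃ k : ℕ, orderOf x = p ^ k) (hx1 : x ≠ 1)
    {b : Set (IrrCharacter (Subgroup.centralizer ({x} : Set G)))}
    (hb : IsInducedBlock M (Subgroup.centralizer ({x} : Set G)) b B) : blockRank p b = 1 := by
  classical
  haveI := Fintype.ofFinite (Subgroup.centralizer ({x} : Set G))
  obtain ⟨b', hb', hrk⟩ := exists_block_on_eq (p := p) (K' := Subgroup.centralizer (Subgroup.zpowers x : Set G))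
    (centralizer_zpowers_eq (x := x)).symm hb
  have hpair := SubsectionOrbits.pair_of_induced hM (isPGroup_zpowers hM.1 hx) hb'
  obtain ⟨g, hg⟩ := pairs_conj_into_maximal hM hmax hpair
  have hn := SubsectionOrbits.normal_of_le hM hmax hab hg
  have hmap : (Subgroup.zpowers x).map (MulAut.conj g).toMonoidHom = Subgroup.zpowers (g * x * g⁻¹) := by
    simp only [MonoidHom.map_zpowers, MulEquiv.coe_toMonoidHom, MulAut.conj_apply]
  have hQfree : ∀ t ∈ pairStab (pmod_prime hM) hmax.1.1.2,
      (∀ u ∈ (Subgroup.zpowers x).map (MulAut.conj g).toMonoidHom, t * u = u * t) →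
      t ∈ Subgroup.centralizer (D : Set G) := fun t ht h => by
    have hmem : g * x * g⁻¹ ∈ (Subgroup.zpowers x).map (MulAut.conj g).toMonoidHom :=
      hmap ▸ Subgroup.mem_zpowers _
    exact hfree t ht _ (subpair_le hg hmem) (fun h1 => hx1 (conj_eq_one_iff.mp h1))
      (by rw [h _ hmem, mul_inv_cancel_right])
  have h1 := BelowData.rank_one hM hmax hab hn hQfree
  haveI := Fintype.ofFinite (Subgroup.centralizer (Subgroup.zpowers x : Set G))
  haveI := Fintype.ofFinite (Subgroup.centralizer
    (((Subgroup.zpowers x).map (MulAut.conj g).toMonoidHom : Subgroup G) : Set G))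
  rw [← hrk, ← SubsectionOrbits.blockRank_transport (p := p) (centConj (Subgroup.zpowers x) g).symm b',
    ← conjBlock_eq]
  exact h1

open scoped Classical in
set_option maxHeartbeats 800000 in
/-- `k(B)` is `l(B)` plus one for each orbit. -/
theorem card_eq_rank_add (hD : D ≠ ⊥) :
    ∃ m : ℕ, (Subgroup.centralizer (D : Set G)).relIndex (pairStab (pmod_prime hM) hmax.1.1.2) * m = Nat.card D - 1 ∧
      Nat.card B = blockRank p B + m := by
  obtain ⟨Φ, h1, h3, hcount⟩ := SubsectionOrbits.card_eq_rank_add hM hmax hab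
  set T := pairStab (pmod_prime hM) hmax.1.1.2 with hT
  set S := Finset.univ.filter (fun z : G => z ∈ D ∧ z ≠ 1) with hS
  have hmem : ∀ z, z ∈ S ↔ z ∈ D ∧ z ≠ 1 := fun z => by simp [hS]
  have hrank : ∀ a ∈ S.image Φ, blockRank p a.2 = 1 := by
    intro a ha
    obtain ⟨z, hz, rfl⟩ := Finset.mem_image.mp ha
    obtain ⟨hzD, hz1⟩ := (hmem z).mp hz
    obtain ⟨hp', hconj, hind, -⟩ := h1 z hzD hz1
    exact rank_subsection hM hmax hab hfree hp' (fun h => hz1 (isConj_one_left.mp (h ▸ hconj))) hind
  rw [Finset.sum_congr rfl hrank, Finset.sum_const, smul_eq_mul, mul_one] at hcount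
  refine ⟨(S.image Φ).card, ?_, hcount⟩
  have hTD : ∀ t ∈ T, ∀ z ∈ S, t * z * t⁻¹ ∈ S := by
    intro t ht z hz
    obtain ⟨hzD, hz1⟩ := (hmem z).mp hz
    exact (hmem _).mpr ⟨(Subgroup.mem_normalizer_iff.mp ((mem_pairStab _ _).mp ht).1 z).mp hzD,
      fun h => hz1 (conj_eq_one_iff.mp h)⟩
  have hfib : ∀ a ∈ S.image Φ, (S.filter fun z => Φ z = a).card =
      (Subgroup.centralizer (D : Set G)).relIndex T := by
    intro a ha
    obtain ⟨z, hz, rfl⟩ := Finset.mem_image.mp ha
    obtain ⟨hzD, hz1⟩ := (hmem z).mp hz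
    let f : T ⧸ (Subgroup.centralizer (D : Set G)).subgroupOf T → {w // w ∈ S.filter fun w => Φ w = Φ z} :=
      Quotient.lift (fun t => ⟨(t : G) * z * (t : G)⁻¹, Finset.mem_filter.mpr ⟨hTD t t.2 z hz,
        ((h3 z hzD hz1 _ ((hmem _).mp (hTD t t.2 z hz)).1 ((hmem _).mp (hTD t t.2 z hz)).2).mpr ⟨t, t.2, rfl⟩).symm⟩⟩)
        fun a b hab' => by
          have hab'' : ((a : G)⁻¹ * b : G) ∈ Subgroup.centralizer (D : Set G) := by
            simpa [Subgroup.mem_subgroupOf] using QuotientGroup.leftRel_apply.mp hab'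
          refine Subtype.ext ?_
          have h := hab'' z hzD
          show (a : G) * z * (a : G)⁻¹ = (b : G) * z * (b : G)⁻¹
          calc (a : G) * z * (a : G)⁻¹ = (a : G) * (z * ((a : G)⁻¹ * b)) * (b : G)⁻¹ := by group
            _ = (a : G) * (((a : G)⁻¹ * b) * z) * (b : G)⁻¹ := by rw [h]
            _ = _ := by group
    have hbij : Function.Bijective f := by
      constructor
      · intro x y
        refine Quotient.inductionOn₂ x y fun a b e => ?_
        have e' : (a : G) * z * (a : G)⁻¹ = (b : G) * z * (b : G)⁻¹ := congrArg Subtype.val e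
        refine Quotient.sound (QuotientGroup.leftRel_apply.mpr ?_)
        rw [Subgroup.mem_subgroupOf, Subgroup.coe_mul, Subgroup.coe_inv]
        refine hfree _ (T.mul_mem (T.inv_mem a.2) b.2) z hzD hz1 ?_
        calc (a : G)⁻¹ * b * z * ((a : G)⁻¹ * b)⁻¹ = (a : G)⁻¹ * ((b : G) * z * (b : G)⁻¹) * a := by group
          _ = z := by rw [← e']; group
      · rintro ⟨w, hw⟩
        obtain ⟨hwS, hwz⟩ := Finset.mem_filter.mp hw
        obtain ⟨t, ht, htw⟩ := (h3 z hzD hz1 w ((hmem w).mp hwS).1 ((hmem w).mp hwS).2).mp hwz.symm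
        exact ⟨QuotientGroup.mk ⟨t, ht⟩, Subtype.ext htw⟩
    have hc := Nat.card_eq_of_bijective f hbij
    rw [Nat.card_eq_fintype_card (α := {w // w ∈ S.filter fun w => Φ w = Φ z}), Fintype.card_coe] at hc
    exact hc.symm
  have hScard : S.card = Nat.card D - 1 := by
    have e : S = ((D : Set G).toFinset).erase 1 := by ext z; simp [hS, and_comm]
    rw [e, Finset.card_erase_of_mem (by simp), Set.toFinset_card, ← Nat.card_eq_fintype_card]
    rfl
  rw [← hScard, Finset.card_eq_sum_card_image Φ S, Finset.sum_congr rfl hfib, Finset.sum_const, smul_eq_mul, mul_comm]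

open scoped Classical in
/-- The counts, up to one exceptional possibility. -/
theorem counts (hD : D ≠ ⊥) :
    ∀ e : ℕ, (Subgroup.centralizer (D : Set G)).relIndex (pairStab (pmod_prime hM) hmax.1.1.2) = e →
      Nat.card B ≤ e + (Nat.card D - 1) / e ∧ blockRank p B ≤ e ∧
      (Nat.card B = e + (Nat.card D - 1) / e ↔ blockRank p B = e) ∧
      (e ≤ 3 → (blockRank p B = e ∨ (e = 3 ∧ Nat.card D = 13 ∧ blockRank p B = 1))) := by
  intro e he_def
  obtain ⟨m, hem, hk⟩ := card_eq_rank_add hM hmax hab hfree hD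
  obtain ⟨m', hm', hem', hle, hsmall⟩ := StarFamily.bound hM hmax hab hfree hD
  rw [he_def] at hem hem' hle hsmall
  have hq : 1 < Nat.card D := by
    by_contra h
    exact hD (Subgroup.card_eq_one.mp (le_antisymm (not_lt.mp h) Nat.card_pos))
  have he : 0 < e := by
    rcases Nat.eq_zero_or_pos e with h | h
    · rw [h, zero_mul] at hem; omega
    · exact h
  obtain rfl : m' = m := Nat.eq_of_mul_eq_mul_left he (hem'.trans hem.symm)
  have hdiv : (Nat.card D - 1) / e = m' := by rw [← hem', Nat.mul_div_cancel_left _ he]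
  rw [hdiv]
  have hl := NilpotentAbelian.one_le_blockRank hM hmax.1.2.1
  refine ⟨hle, by omega, by omega, fun he3 => ?_⟩
  rcases hsmall he3 (by omega) with h | ⟨h2, h7, hk4⟩ | ⟨he', h13, hk5⟩
  · exact Or.inl (by omega)
  · exfalso
    have hd := card_defectGroup hM hmax.1.2.1 (maximal_pair_defect hM hmax)
    by_cases h1 : blockRank p B = 1
    · have := SmallBlock.card_eq_pow hM hmax.1.2.1 h1 (by omega)
      omega
    · rw [h2, h7] at hem'
      omega
  · rw [he', h13] at hem'
    exact Or.inr ⟨he', h13, by omega⟩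

end Cfsg.Agent.Char.StarCount
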