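import Cfsg.Agent.Lib.Char.CyclicDefectRank
import Cfsg.Agent.Lib.Char.StarCount
import Cfsg.Agent.Lib.Char.SubsectionOrbits

/-!
# Inertial index, number of characters and modular rank of a block with a cyclic defect group
-/

set_option autoImplicit false
set_option linter.unusedSectionVars false
set_option linter.style.haveILetI false

open Cfsg

namespace Cfsg.Agent.Char.CyclicRank

universe u

variable {G : Type u} [Group G] [Fintype G] {M : Ideal AlgInt} {p : ℕ} {B : Set (IrrCharacter G)}
  {D : Subgroup G} {c : Set (IrrCharacter (Subgroup.centralizer (D : Set G)))} {σ : G} {a : ℕ}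

theorem exists_gen (hD : IsCyclic D) (hDa : Nat.card D = p ^ a) :
    ∃ σ : G, Subgroup.zpowers σ = D ∧ orderOf σ = p ^ a := by
  obtain ⟨s, hs⟩ := (Subgroup.isCyclic_iff_exists_zpowers_eq_top D).mp hD
  exact ⟨s, hs, by rw [← Nat.card_zpowers, hs, hDa]⟩

/-- The stabilizer acts freely. -/
theorem free_action (hM : IsPModular p M) (hmax : IsMaximalBrauerPair p M B D c) (hσ : Subgroup.zpowers σ = D)
    (ha : 1 ≤ a) (hord : orderOf σ = p ^ a) :
    ∀ t ∈ pairStab (pmod_prime hM) hmax.1.1.2, ∀ x ∈ D, x ≠ 1 → t * x * t⁻¹ = x →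
      t ∈ Subgroup.centralizer (D : Set G) := by
  intro t ht x hx hx1 hfix
  obtain ⟨i, hi⟩ := bottom_le hM.1 hσ ha hord hx hx1
  refine CyclicLocal.free hM hmax hσ ha hord ht ?_
  rw [← hi]
  exact ((show Commute t x from mul_inv_eq_iff_eq_mul.mp hfix).zpow_right i).eq

/-- The modular rank is the inertial index, and the number of characters follows. -/
theorem counts (hM : IsPModular p M) (hmax : IsMaximalBrauerPair p M B D c) (hσ : Subgroup.zpowers σ = D)
    (ha : 1 ≤ a) (hord : orderOf σ = p ^ a) {e : ℕ}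
    (he : (Subgroup.centralizer (D : Set G)).relIndex (pairStab (pmod_prime hM) hmax.1.1.2) = e) :
    blockRank p B = e ∧ Nat.card B = e + (Nat.card D - 1) / e := by
  have hD : D ≠ ⊥ := fun h => by
    have h1 : Nat.card D = p ^ a := by rw [← hσ, Nat.card_zpowers, hord]
    rw [h, Subgroup.card_bot] at h1
    exact absurd (Nat.pow_eq_one.mp h1.symm) (by have := hM.1.two_le; omega)
  obtain ⟨-, h2, h3, -⟩ := StarCount.counts hM hmax (CyclicLocal.comm_of_gen hσ)
    (free_action hM hmax hσ ha hord) hD e he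
  have h4 := le_blockRank hM hmax hσ ha hord
  rw [he] at h4
  have h5 := le_antisymm h2 h4
  exact ⟨h5, h3.mpr h5⟩

/-- The two descriptions of the stabilizer. -/
theorem stab_eq (hM : IsPModular p M) (hc : IsPBlock M c) {T : Subgroup G}
    (hT : ∀ g : G, g ∈ T ↔ (g ∈ Subgroup.normalizer (D : Set G) ∧ ∀ θ ∈ c, ∀ θ' : IrrCharacter
      (Subgroup.centralizer (D : Set G)), (∀ h h' : Subgroup.centralizer (D : Set G), (h' : G) = g * h * g⁻¹ →
        (θ' : Subgroup.centralizer (D : Set G) → ℂ) h' = (θ : Subgroup.centralizer (D : Set G) → ℂ) h) →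
      θ' ∈ c)) : T = pairStab (pmod_prime hM) hc := by
  classical
  ext g
  rw [hT, mem_pairStab]
  refine and_congr_right fun hg => ?_
  let α : Subgroup.centralizer (D : Set G) ≃* Subgroup.centralizer (D : Set G) :=
    conjC D ⟨g⁻¹, inv_mem hg⟩
  have hα : ∀ x, (α x : G) = g⁻¹ * (x : G) * g := fun x => by simp [α, conjC_apply]
  constructor
  · intro h
    refine ⟨Subgroup.mem_normalizer_iff.mpr fun x => ⟨fun hx => conj_mem_centralizer hg hx, fun hx => ?_⟩,
      fun χ hχ => ?_⟩
    · simpa [mul_assoc] using conj_mem_centralizer (inv_mem hg) hx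
    · have hconj : IsConjCharOf (Subgroup.centralizer (D : Set G)) g (χ : Subgroup.centralizer (D : Set G) → ℂ)
          (irrTransport α χ : Subgroup.centralizer (D : Set G) → ℂ) := fun k k' hk => by
        rw [irrTransport_apply]
        refine congrArg _ (Subtype.ext ?_)
        rw [hα, hk]
        group
      exact ⟨irrTransport α χ, h χ hχ _ fun k k' hk => hconj k k' hk, hconj⟩
  · rintro ⟨-, hst⟩ θ hθ θ' hθ'
    obtain ⟨χ', hχ', hconj⟩ := hst θ hθ
    have : θ' = χ' := Subtype.ext (funext fun x => by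
      have hx : (x : G) = g * (α x : G) * g⁻¹ := by rw [hα]; group
      rw [hθ' (α x) x hx, hconj (α x) x hx])
    exact this ▸ hχ'

end Cfsg.Agent.Char.CyclicRank
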