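import Cfsg.Agent.Lib.Char.CyclicCentre

/-!
# Extensions of the simple module of a block across a cyclic inertia quotient

An invariant simple module of the normal subgroup has one extension for each root of unity, and they are
pairwise unlinked.
-/

set_option autoImplicit false
set_option linter.unusedSectionVars false

namespace Cfsg.Agent.Char.CyclicInertia

open Polynomial

universe u v

variable {k : Type v} [Field k] {T : Type u} [Group T] [Fintype T]

/-- The algebra representation of a subgroup inside a representation. -/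
noncomputable def resAlg {W : Type*} [AddCommGroup W] [Module k W] (H : Subgroup T) (ρ : T →* Module.End k W) :
    MonoidAlgebra k H →ₐ[k] Module.End k W := MonoidAlgebra.lift k (Module.End k W) H (ρ.comp H.subtype)

theorem resAlg_el {W : Type*} [AddCommGroup W] [Module k W] (H : Subgroup T) (ρ : T →* Module.End k W) (h : H) :
    resAlg H ρ (CyclicCentre.el h) = ρ (h : T) := by
  simp [resAlg, CyclicCentre.el]

variable [IsAlgClosed k]

/-- Operators commuting with a full matrix algebra are scalars. -/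
theorem scalar_of_commute {n : ℕ} {R : Type*} [Ring R] [Algebra k R] (π : R →ₐ[k] Matrix (Fin n) (Fin n) k)
    (hπ : Function.Surjective π) (F : Module.End k (Fin n → k))
    (hF : ∀ r x, F (Matrix.toLinAlgEquiv' (π r) x) = Matrix.toLinAlgEquiv' (π r) (F x)) :
    ∃ c : k, F = c • LinearMap.id := by
  obtain ⟨c, hc⟩ := Matrix.mem_range_scalar_of_commute_single (M := Matrix.toLinAlgEquiv'.symm F) fun i j _ => by
    obtain ⟨r, hr⟩ := hπ (Matrix.single i j 1)
    refine Matrix.toLinAlgEquiv'.injective ?_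
    rw [map_mul, map_mul, AlgEquiv.apply_symm_apply, ← hr]
    exact LinearMap.ext fun x => (hF r x).symm
  refine ⟨c, ?_⟩
  have := congrArg Matrix.toLinAlgEquiv' hc
  rw [AlgEquiv.apply_symm_apply] at this
  rw [← this]
  refine LinearMap.ext fun x => ?_
  simp

theorem simple_of_surjective {n : ℕ} {R : Type*} [Ring R] [Algebra k R] (π : R →ₐ[k] Matrix (Fin n) (Fin n) k)
    (hπ : Function.Surjective π) (U : Submodule k (Fin n → k))
    (hU : ∀ r, ∀ x ∈ U, Matrix.toLinAlgEquiv' (π r) x ∈ U) : U = ⊥ ∨ U = ⊤ := by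
  by_cases h : U = ⊥
  · exact Or.inl h
  obtain ⟨x, hx, hx0⟩ := U.ne_bot_iff.mp h
  obtain ⟨i, hi⟩ : ∃ i, x i ≠ 0 := by
    by_contra hall
    push Not at hall
    exact hx0 (funext hall)
  refine Or.inr (eq_top_iff.mpr fun y _ => ?_)
  rw [pi_eq_sum_univ y]
  refine U.sum_mem fun j _ => U.smul_mem _ ?_
  obtain ⟨r, hr⟩ := hπ (Matrix.single j i (x i)⁻¹)
  have h1 := hU r x hx
  rw [hr] at h1
  convert h1 using 1
  funext l
  simp only [Matrix.toLinAlgEquiv'_apply, Matrix.mulVec, dotProduct, Matrix.single_apply, ite_mul, zero_mul]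
  by_cases hjl : j = l
  · subst hjl
    simp [hi]
  · simp [hjl]

variable (H : Subgroup T) [H.Normal]

open scoped Classical in
set_option maxHeartbeats 1000000 in
/-- The extensions. -/
theorem exists_extensions (hcyc : IsCyclic (T ⧸ H)) (he : ((H.index : ℕ) : k) ≠ 0)
    {b g z : MonoidAlgebra k H} {q : ℕ} (hK : CyclicCorner.Corner k b g z q)
    (hinv : ∀ t : T, MonoidAlgebra.mapDomainAlgHom k k (MulAut.conjNormal t : MulAut H).toMonoidHom b = b)
    {n : ℕ} (hn : 0 < n) (π : MonoidAlgebra k H →ₐ[k] Matrix (Fin n) (Fin n) k) (hπb : π b = 1)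
    (hπ : Function.Surjective π) :
    ∃ ν : Fin H.index → (T →* Module.End k (Fin n → k)),
      (∀ i, resAlg H (ν i) b = 1) ∧ (∀ i, resAlg H (ν i) z = 0) ∧
      (∀ i, ∀ U : Submodule k (Fin n → k), (∀ r, ∀ x ∈ U, resAlg H (ν i) r x ∈ U) → U = ⊥ ∨ U = ⊤) ∧
      ∀ i j, i ≠ j → ∀ f : (Fin n → k) →ₗ[k] (Fin n → k), (∀ t x, f (ν j t x) = ν i t (f x)) → f = 0 := by
  let π₀ : MonoidAlgebra k H →ₐ[k] Module.End k (Fin n → k) := Matrix.toLinAlgEquiv'.toAlgHom.comp π
  have hπ₀ : ∀ r, π₀ r = Matrix.toLinAlgEquiv' (π r) := fun r => rfl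
  have hb₁ : ∀ x, π₀ b x = x := fun x => by rw [hπ₀, hπb, map_one, Module.End.one_apply]
  have hs₁ : ∀ U : Submodule k (Fin n → k), (∀ r, ∀ x ∈ U, π₀ r x ∈ U) → U = ⊥ ∨ U = ⊤ :=
    simple_of_surjective π hπ
  obtain ⟨hz₁, hline⟩ := hK.simple π₀ hb₁ hs₁
  -- a generator
  obtain ⟨γ, hγ⟩ := IsCyclic.exists_generator (α := T ⧸ H)
  obtain ⟨t₀, rfl⟩ := QuotientGroup.mk'_surjective H γ
  set e := H.index with hedef
  have hpow : t₀ ^ e ∈ H := Subgroup.pow_index_mem H t₀
  let σ : MulAut H := MulAut.conjNormal t₀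
  let τ : MonoidAlgebra k H →ₐ[k] MonoidAlgebra k H := MonoidAlgebra.mapDomainAlgHom k k σ.toMonoidHom
  let π₂ : MonoidAlgebra k H →ₐ[k] Module.End k (Fin n → k) := π₀.comp τ
  have hb₂ : ∀ x, π₂ b x = x := fun x => by
    show π₀ (τ b) x = x
    rw [show τ b = b from hinv t₀, hb₁]
  have hτsurj : Function.Surjective τ := fun r => ⟨MonoidAlgebra.mapDomainAlgHom k k σ.symm.toMonoidHom r, by
    induction r using MonoidAlgebra.induction_linear with
    | zero => simp
    | add a c ha hc => rw [map_add, map_add, ha, hc]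
    | single h c => simp [τ, MonoidAlgebra.mapDomainAlgHom]⟩
  have hs₂ : ∀ U : Submodule k (Fin n → k), (∀ r, ∀ x ∈ U, π₂ r x ∈ U) → U = ⊥ ∨ U = ⊤ := fun U hU =>
    hs₁ U fun r x hx => by
      obtain ⟨r', rfl⟩ := hτsurj r
      exact hU r' x hx
  obtain ⟨hz₂, -⟩ := hK.simple π₂ hb₂ hs₂
  have hne0 : (fun _ => (1 : k) : Fin n → k) ≠ 0 := fun h => one_ne_zero (congrFun h ⟨0, hn⟩)
  have hcorner : ∀ πi : MonoidAlgebra k H →ₐ[k] Module.End k (Fin n → k), (∀ x, πi b x = x) →
      ∃ x, πi g x ≠ 0 := fun πi hb => by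
    by_contra hall
    push Not at hall
    exact hne0 (hK.eq_zero πi (hb _) fun s => by rw [map_mul, Module.End.mul_apply, hall])
  obtain ⟨x₀, hx₀⟩ := hcorner π₀ hb₁
  obtain ⟨y₀, hy₀⟩ := hcorner π₂ hb₂
  obtain ⟨lam, hlam⟩ : ∃ lam : (Fin n → k) →ₗ[k] k, lam (π₀ g x₀) = 1 := by
    obtain ⟨i, hi⟩ : ∃ i, π₀ g x₀ i ≠ 0 := by
      by_contra hall
      push Not at hall
      exact hx₀ (funext hall)
    exact ⟨(π₀ g x₀ i)⁻¹ • LinearMap.proj i, by simp [hi]⟩
  obtain ⟨φ, hφ, hφg, -, -⟩ := hK.extend π₀ π₂ (lam.smulRight (π₂ g y₀))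
    (fun x => by
      simp only [LinearMap.smulRight_apply, map_smul]
      rw [← Module.End.mul_apply, ← map_mul, hK.gg])
    (fun x => by simp [hz₁, hz₂])
  have hφ0 : φ ≠ 0 := fun h => hy₀ (by
    have h1 := hφg x₀
    rw [h, LinearMap.zero_apply, LinearMap.smulRight_apply, hlam, one_smul] at h1
    exact h1.symm)
  have hinj : Function.Injective φ := LinearMap.ker_eq_bot.mp ((hs₁ (LinearMap.ker φ) fun r x hx => by
    rw [LinearMap.mem_ker] at hx ⊢
    rw [hφ, hx, map_zero]).resolve_right fun h => hφ0 (LinearMap.ker_eq_top.mp h))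
  have hsurj : Function.Surjective φ := LinearMap.surjective_of_injective hinj
  let πh : H → Module.End k (Fin n → k) := fun h => π₀ (CyclicCentre.el h)
  have hπh : ∀ a c, πh (a * c) = πh a * πh c := fun a c => by simp only [πh, CyclicCentre.el_mul, map_mul]
  have hπh1 : πh 1 = 1 := by simp only [πh, CyclicCentre.el_one, map_one]
  have hφh : ∀ h x, φ (πh h x) = πh (σ h) (φ x) := fun h x => by
    rw [hφ]
    show π₀ (τ (CyclicCentre.el h)) (φ x) = _
    simp [τ, πh, CyclicCentre.el, MonoidAlgebra.mapDomainAlgHom]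
  have hφpow : ∀ j : ℕ, ∀ h x, (φ ^ j) (πh h x) = πh (MulAut.conjNormal (t₀ ^ j) h) ((φ ^ j) x) := by
    intro j
    induction j with
    | zero => simp
    | succ j ih =>
      intro h x
      rw [pow_succ', Module.End.mul_apply, ih, hφh, pow_succ', map_mul]
      rfl
  -- normalization of the intertwiner
  obtain ⟨c, hc⟩ := scalar_of_commute π hπ (πh ⟨t₀ ^ e, hpow⟩⁻¹ * φ ^ e) fun r x => by
    induction r using MonoidAlgebra.induction_linear with
    | zero => simp
    | add a a' ha ha' => simp only [map_add, LinearMap.add_apply, ha, ha']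
    | single h d =>
      rw [show MonoidAlgebra.single h d = d • CyclicCentre.el h by
        simp [CyclicCentre.el, MonoidAlgebra.smul_single']]
      simp only [map_smul, LinearMap.smul_apply, ← hπ₀]
      congr 1
      show πh _ ((φ ^ e) (πh h x)) = πh h (πh _ ((φ ^ e) x))
      rw [hφpow, ← Module.End.mul_apply, ← hπh, ← Module.End.mul_apply (πh h), ← hπh]
      congr 2
      exact Subtype.ext (by simp [← map_pow, MulAut.conjNormal_apply, mul_assoc])
  have hφe : φ ^ e = c • πh ⟨t₀ ^ e, hpow⟩ := by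
    have h1 := congrArg (fun F => πh ⟨t₀ ^ e, hpow⟩ * F) hc
    simp only [← mul_assoc, ← hπh, mul_inv_cancel, hπh1, one_mul] at h1
    rw [h1, mul_smul_comm, ← Module.End.one_eq_id, mul_one]
  have hc0 : c ≠ 0 := fun h => by
    rw [h, zero_smul] at hφe
    refine hne0 (Function.Injective.iterate hinj e ?_)
    rw [← Module.End.coe_pow, hφe, map_zero]
    rfl
  have he0 : 0 < e := Nat.pos_of_ne_zero Subgroup.index_ne_zero_of_finite
  obtain ⟨μ, hμ⟩ := IsAlgClosed.exists_pow_nat_eq c⁻¹ he0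
  haveI : NeZero ((e : ℕ) : k) := ⟨he⟩
  obtain ⟨ζ, hζ⟩ := HasEnoughRootsOfUnity.exists_primitiveRoot k e
  let A : Fin e → Module.End k (Fin n → k) := fun i => (ζ ^ (i : ℕ) * μ) • φ
  have hAe : ∀ i, A i ^ e = πh ⟨t₀ ^ e, hpow⟩ := fun i => by
    simp only [A, _root_.smul_pow, hφe, smul_smul]
    rw [mul_pow, ← pow_mul, mul_comm (i : ℕ), pow_mul, hζ.pow_eq_one, one_pow, one_mul, hμ, inv_mul_cancel₀ hc0,
      one_smul]
  have hApow : ∀ i j h, A i ^ j * πh h = πh (MulAut.conjNormal (t₀ ^ j) h) * A i ^ j := by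
    intro i j h
    refine LinearMap.ext fun x => ?_
    simp only [A, _root_.smul_pow, Module.End.mul_apply, LinearMap.smul_apply, map_smul, hφpow]
  -- the exponent of an element
  have hex : ∀ t : T, ∃ j : ℕ, (t₀ ^ j)⁻¹ * t ∈ H := fun t => by
    obtain ⟨j, hj⟩ := mem_powers_iff_mem_zpowers.mpr (hγ (QuotientGroup.mk' H t))
    refine ⟨j, ?_⟩
    simp only [← map_pow, QuotientGroup.mk'_apply] at hj
    exact QuotientGroup.eq.mp hj
  choose J hJ using hex
  have hord : orderOf (QuotientGroup.mk' H t₀) = e := by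
    rw [orderOf_eq_card_of_forall_mem_zpowers hγ, hedef, Subgroup.index]
  have hval : ∀ i (t : T) (j : ℕ) (hj : (t₀ ^ j)⁻¹ * t ∈ H),
      A i ^ J t * πh ⟨_, hJ t⟩ = A i ^ j * πh ⟨_, hj⟩ := by
    intro i
    have key : ∀ (t : T) (j l : ℕ) (hj : (t₀ ^ j)⁻¹ * t ∈ H) (hl : (t₀ ^ (j + e * l))⁻¹ * t ∈ H),
        A i ^ (j + e * l) * πh ⟨_, hl⟩ = A i ^ j * πh ⟨_, hj⟩ := by
      intro t j l hj hl
      have h1 : A i ^ (e * l) = πh (⟨t₀ ^ e, hpow⟩ ^ l) := by
        rw [pow_mul, hAe]
        clear hl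
        induction l with
        | zero => rw [pow_zero, pow_zero, hπh1]
        | succ l ih => rw [pow_succ, pow_succ, hπh, ih]
      rw [pow_add, h1, mul_assoc, ← hπh]
      congr 2
      refine Subtype.ext ?_
      simp only [Subgroup.coe_mul, SubmonoidClass.coe_pow, ← pow_mul, pow_add, mul_inv_rev]
      rw [← mul_assoc, ← mul_assoc, mul_inv_cancel, one_mul]
    intro t j hj
    have h1 : (QuotientGroup.mk' H t₀) ^ J t = (QuotientGroup.mk' H t₀) ^ j := by
      have e1 : ∀ j : ℕ, (t₀ ^ j)⁻¹ * t ∈ H → (QuotientGroup.mk' H t₀) ^ j = QuotientGroup.mk' H t := fun j hj => by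
        rw [← map_pow]; exact QuotientGroup.eq.mpr hj
      rw [e1 _ (hJ t), e1 _ hj]
    rw [pow_eq_pow_iff_modEq, hord] at h1
    rcases le_total (J t) j with h | h
    · obtain ⟨l, hl⟩ := (Nat.modEq_iff_dvd' h).mp h1
      obtain rfl : j = J t + e * l := by omega
      exact (key t _ l (hJ t) hj).symm
    · obtain ⟨l, hl⟩ := (Nat.modEq_iff_dvd' h).mp h1.symm
      have hl' : J t = j + e * l := by omega
      have h2 : ∀ m, J t = m → ∀ hm : (t₀ ^ m)⁻¹ * t ∈ H,
          A i ^ J t * πh ⟨_, hJ t⟩ = A i ^ m * πh ⟨_, hm⟩ := by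
        rintro m rfl hm
        rfl
      exact (h2 _ hl' (hl' ▸ hJ t)).trans (key t j l hj _)
  let ν : Fin e → T →* Module.End k (Fin n → k) := fun i =>
    { toFun := fun t => A i ^ J t * πh ⟨_, hJ t⟩
      map_one' := by
        rw [hval i 1 0 (by simp), pow_zero, one_mul, show (⟨(t₀ ^ 0)⁻¹ * 1, _⟩ : H) = 1 from Subtype.ext (by simp),
          hπh1]
      map_mul' := fun t t' => by
        have hmem : (t₀ ^ (J t + J t'))⁻¹ * (t * t') ∈ H := by
          have := H.mul_mem (Subgroup.Normal.conj_mem ‹_› _ (hJ t) (t₀ ^ J t')⁻¹) (hJ t')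
          convert this using 1
          rw [pow_add, mul_inv_rev]; group
        rw [hval i (t * t') _ hmem, pow_add, mul_assoc, mul_assoc (A i ^ J t), ← mul_assoc (πh ⟨_, hJ t⟩)]
        congr 1
        rw [show (⟨_, hmem⟩ : H) = MulAut.conjNormal (t₀ ^ J t')⁻¹ ⟨_, hJ t⟩ * ⟨_, hJ t'⟩ from Subtype.ext (by
          simp only [Subgroup.coe_mul, MulAut.conjNormal_apply, inv_inv, pow_add, mul_inv_rev]
          group), hπh, ← mul_assoc, hApow, ← MulAut.mul_apply, ← map_mul, mul_inv_cancel, map_one,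
          MulAut.one_apply] }
  have hνH : ∀ i, ∀ r, resAlg H (ν i) r = π₀ r := by
    intro i r
    induction r using MonoidAlgebra.induction_linear with
    | zero => simp
    | add a a' ha ha' => rw [map_add, map_add, ha, ha']
    | single h d =>
      rw [show MonoidAlgebra.single h d = d • CyclicCentre.el h by
        simp [CyclicCentre.el, MonoidAlgebra.smul_single'], map_smul, map_smul, resAlg_el]
      congr 1
      show A i ^ J (h : T) * πh ⟨_, hJ _⟩ = πh h
      rw [hval i (h : T) 0 (by simp), pow_zero, one_mul]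
      exact congrArg πh (Subtype.ext (by simp))
  refine ⟨ν, fun i => by rw [hνH]; exact LinearMap.ext hb₁, fun i => by rw [hνH, hz₁], fun i U hU => hs₁ U
    fun r x hx => by rw [← hνH i]; exact hU r x hx, fun i j hij f hf => ?_⟩
  obtain ⟨d, hd⟩ := scalar_of_commute π hπ f fun r x => by
    rw [← hπ₀]
    induction r using MonoidAlgebra.induction_linear with
    | zero => simp
    | add a a' ha ha' => simp only [map_add, LinearMap.add_apply, ha, ha']
    | single h d =>
      rw [show MonoidAlgebra.single h d = d • CyclicCentre.el h by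
        simp [CyclicCentre.el, MonoidAlgebra.smul_single'], map_smul, LinearMap.smul_apply, LinearMap.smul_apply,
        map_smul]
      congr 1
      rw [← hνH j, resAlg_el, hf, ← resAlg_el H (ν i), hνH i, ← hνH j, resAlg_el]
  by_contra hf0
  have hd0 : d ≠ 0 := fun h => hf0 (by rw [hd, h, zero_smul])
  have h1 : ∀ i, ν i t₀ = A i := fun i => by
    show A i ^ J t₀ * πh ⟨_, hJ t₀⟩ = A i
    rw [hval i t₀ 1 (by simp), pow_one, show (⟨(t₀ ^ 1)⁻¹ * t₀, _⟩ : H) = 1 from Subtype.ext (by simp), hπh1, mul_one]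
  have h2 := hf t₀ (fun _ => 1)
  rw [hd, h1, h1] at h2
  simp only [A, LinearMap.smul_apply, LinearMap.id_apply, map_smul, smul_smul] at h2
  have h3 : φ (fun _ => 1) ≠ 0 := fun h => hne0 (hinj (h.trans (map_zero φ).symm))
  have h4 := smul_left_injective k h3 h2
  have h5 : ζ ^ (j : ℕ) = ζ ^ (i : ℕ) := by
    have hμ0 : μ ≠ 0 := fun h => by
      rw [h, zero_pow he0.ne'] at hμ
      exact inv_ne_zero hc0 hμ.symm
    exact mul_right_cancel₀ hμ0 (mul_left_cancel₀ hd0 (by linear_combination h4))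
  exact hij (Fin.ext (hζ.pow_inj j.2 i.2 h5).symm)

end Cfsg.Agent.Char.CyclicInertia
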