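import Cfsg.Agent.Lib.Char.PrimeSylowRank
import Cfsg.Agent.Lib.Char.SectionCount
import Mathlib

/-!
# `l(B₀) ≥ |N_G(P) : C_G(P)|` for a Sylow subgroup `P` of prime order
-/

set_option autoImplicit false
set_option linter.unusedSectionVars false

namespace Cfsg.Agent.Char

open Cfsg Module
open scoped ComplexConjugate

universe u

variable {G : Type u} [Group G] [Fintype G] {M : Ideal AlgInt} {p : ℕ}

theorem red_blockCoeff_idem (hM : IsPModular p M) {B : Set (IrrCharacter G)} (hB : IsPBlock M B)
    (hPr : M.IsPrime) (x : G) :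
    ∑ g, red hPr (blockCoeff B g) * red hPr (blockCoeff B (g⁻¹ * x)) = red hPr (blockCoeff B x) := by
  have heR : ∀ g, MemLocalRing M (blockCoeff B g) := fun g => memLR_blockCoeff hM hB g
  have h := congrFun (conv_blockCoeff (G := G) B) x
  simp only [← red_mul hPr (heR _) (heR _)]
  rw [← red_sum hPr _ _ fun g _ => memLR_mul hPr (heR _) (heR _)]
  exact congrArg (red hPr) h

open scoped Classical in
theorem sum_red_blockCoeff_centralizer (hM : IsPModular p M) (hPr : M.IsPrime) {Q : Subgroup G}
    (hQ : IsPGroup p Q) :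
    ∑ g : G with g ∈ Subgroup.centralizer (Q : Set G),
      red hPr (blockCoeff (principalBlock M G) g) = 1 := by
  have heR : ∀ g, MemLocalRing M (blockCoeff (principalBlock M G) g) := fun g =>
    memLR_blockCoeff hM (isPBlock_principalBlock M) g
  rw [← red_sum hPr _ _ fun g _ => heR g, ← red_one hPr,
    red_eq_iff hPr (memLR_sum hPr _ _ fun g _ => heR g) (memLR_one hPr)]
  have h0 : (⟨fun _ => 1, isIrrCharacter_one⟩ : IrrCharacter ↥(Subgroup.centralizer (Q : Set G))) ∈
      principalBlock M ↥(Subgroup.centralizer (Q : Set G)) := sameBlock_refl hPr _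
  have h := (third_main_brauer (M := M) hM hQ
    (⟨fun _ => 1, isIrrCharacter_one⟩ : IrrCharacter ↥(Subgroup.centralizer (Q : Set G)))).mpr h0
  have e : brLam Q (Subgroup.centralizer (Q : Set G)) (fun _ => (1 : ℂ))
      (blockCoeff (principalBlock M G)) =
      ∑ g : G with g ∈ Subgroup.centralizer (Q : Set G), blockCoeff (principalBlock M G) g := by
    simp only [brLam, lam, brRes, mul_one, div_one]
    rw [Finset.sum_subtype (Finset.univ.filter fun g => g ∈ Subgroup.centralizer (Q : Set G))
      (p := fun g => g ∈ Subgroup.centralizer (Q : Set G)) (fun g => by simp)]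
    refine Finset.sum_congr rfl fun x _ => ?_
    rw [if_pos x.2]
  rw [← e]
  exact h

open scoped Classical in
/-- A simple module of the principal block with a prescribed fixed class. -/
theorem exists_block_simple [Fact p.Prime] (hM : IsPModular p M) (hPr : M.IsPrime)
    {P K N : Subgroup G} [Fintype ↥P] [Fintype ↥K] (hS : PrimeSetup P K N p)
    [CharP (Res hPr) p] (c : ↥N →* Res hPr) (hCN : Subgroup.centralizer (P : Set G) ≤ N)
    (hPC : P ≤ Subgroup.centralizer (P : Set G))
    (hcC : ∀ g (hg : g ∈ Subgroup.centralizer (P : Set G)), c ⟨g, hCN hg⟩ = 1) :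
    ∃ q : InvPair (indRep N c), SimpleRep q.rep ∧
      (∀ z, (∑ g, red hPr (blockCoeff (principalBlock M G) g) • q.rep g) z = z) ∧
      ∃ x, FixEig q.rep P K (c.comp (Subgroup.inclusion hS.leK)) x ∧
        x ∉ LinearMap.range (trEnd q.rep P) := by
  set eb : G → Res hPr := fun g => red hPr (blockCoeff (principalBlock M G) g) with heb
  have hecl : ∀ g x, eb (x * g * x⁻¹) = eb g := fun g x => by
    simp only [heb, isClassFunction_blockCoeff (principalBlock M G) g x]
  have hcP : ∀ y (hy : y ∈ P), c ⟨y, hS.leP hy⟩ = 1 := fun y hy => hcC y (hPC hy)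
  set ρ := indRep N c
  set A : Module.End (Res hPr) (indSpace N c) := ∑ g, eb g • ρ g with hA
  have hAcomm : ∀ x, ρ x * A = A * ρ x := fun x => by
    simp only [hA, Finset.mul_sum, Finset.sum_mul, mul_smul_comm, smul_mul_assoc, ← map_mul]
    refine Fintype.sum_equiv (MulAut.conj x).toEquiv _ _ fun g => ?_
    show eb g • ρ (x * g) = eb (x * g * x⁻¹) • ρ (x * g * x⁻¹ * x)
    rw [hecl, inv_mul_cancel_right]
  have hAA : A * A = A := by
    simp only [hA, Finset.mul_sum, Finset.sum_mul, mul_smul_comm, smul_mul_assoc, smul_smul,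
      Finset.smul_sum, ← map_mul]
    conv_lhs => enter [2, x, 2, y, 1]; rw [mul_comm]
    rw [Finset.sum_comm]
    rw [Finset.sum_congr rfl fun g _ => (Fintype.sum_equiv (Equiv.mulLeft g⁻¹)
      (fun x => (eb g * eb (g⁻¹ * x)) • ρ x)
      (fun h => (eb g * eb h) • ρ (g * h)) fun x => by simp).symm, Finset.sum_comm]
    refine Finset.sum_congr rfl fun x _ => ?_
    rw [← Finset.sum_smul]
    exact congrArg (fun z => z • ρ x) (red_blockCoeff_idem hM (isPBlock_principalBlock M) hPr x)
  set v := indVec N c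
  have hvfix : FixEig ρ P K (c.comp (Subgroup.inclusion hS.leK)) v := by
    refine ⟨fun y => ?_, fun n => ?_⟩
    swap
    · have h1 := indVec_eig N c (Subgroup.inclusion hS.leK n)
      rw [Subgroup.coe_inclusion] at h1
      exact h1
    rw [show ρ (y : G) v = c ⟨(y : G), hS.leP y.2⟩ • v from indVec_eig N c ⟨(y : G), hS.leP y.2⟩, hcP _ y.2, one_smul]
  obtain ⟨t, ht⟩ : ∃ t, A v = v + trEnd ρ P t := by
    obtain ⟨t, ht⟩ := sum_equivariant_fixed (Q := ↥P) (α := G)
      (by rw [hS.card]; exact hS.prime) (fun y g => (y : G) * g * (y : G)⁻¹) (fun g => by simp)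
      (fun y z g => by simp [mul_assoc]) (fun y => (ρ (y : G)).toAddMonoidHom)
      (fun g => eb g • ρ g v) (fun y g => by
        show eb _ • _ = ρ (y : G) (eb g • ρ g v)
        rw [hecl, map_smul, map_mul, Module.End.mul_apply, map_mul, Module.End.mul_apply,
          show ρ (y : G)⁻¹ v = v from hvfix.1 y⁻¹])
    refine ⟨t, ?_⟩
    rw [hA, LinearMap.sum_apply]
    simp only [LinearMap.smul_apply]
    rw [ht]
    refine congrArg₂ (· + ·) ?_ (by simp [trEnd])
    rw [Finset.sum_congr (s₂ := Finset.univ.filter fun g => g ∈ Subgroup.centralizer (P : Set G))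
      (g := fun g => eb g • v) ?_ fun g hg => ?_, ← Finset.sum_smul]
    · rw [show (∑ g : G with g ∈ Subgroup.centralizer (P : Set G), eb g) = 1 from
        sum_red_blockCoeff_centralizer hM hPr (IsPGroup.of_card (n := 1) (by rw [hS.card, pow_one])),
        one_smul]
    · refine Finset.filter_congr fun g _ => ?_
      rw [Subgroup.mem_centralizer_iff]
      exact ⟨fun h y hy => mul_inv_eq_iff_eq_mul.mp (h ⟨y, hy⟩),
        fun h y => mul_inv_eq_iff_eq_mul.mpr (h (y : G) y.2)⟩
    · have hgC := (Finset.mem_filter.mp hg).2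
      have e1 : ρ g v = c ⟨g, hCN hgC⟩ • v := indVec_eig N c ⟨g, hCN hgC⟩
      rw [e1, hcC g hgC, one_smul]
  have hU₀ : InvSub ρ (LinearMap.range A) := by
    rintro g _ ⟨x, rfl⟩
    exact ⟨ρ g x, by rw [← Module.End.mul_apply, ← hAcomm]; rfl⟩
  have hAv : FixEig ρ P K (c.comp (Subgroup.inclusion hS.leK)) (A v) :=
    ⟨fun y => by rw [← Module.End.mul_apply, hAcomm, Module.End.mul_apply, hvfix.1 y],
      fun n => by rw [← Module.End.mul_apply, hAcomm, Module.End.mul_apply, hvfix.2 n, map_smul]⟩
  have hAvn : A v ∉ LinearMap.range (trEnd ρ P) := by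
    rintro ⟨s, hs⟩
    refine indVec_notMem_range N c hS.card hS.leP hcP ⟨s - t, ?_⟩
    rw [map_sub, hs, ht, add_sub_cancel_right]
  obtain ⟨q, hq, hsim, x, hx, hxn⟩ := hS.exists_section _ _ hU₀ ⟨v, rfl⟩ hAv hAvn
  refine ⟨q, hsim, fun z => ?_, x, hx, hxn⟩
  obtain ⟨z, rfl⟩ := Submodule.Quotient.mk_surjective _ z
  obtain ⟨w, hw⟩ := hq z.2
  have e : ∀ g, (eb g • q.rep g) (Submodule.Quotient.mk z) =
      Submodule.mkQ (q.bot.comap q.top.subtype)
        (eb g • (⟨ρ g (z : indSpace N c), q.top_inv g z z.2⟩ : ↥q.top)) := fun g => by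
    rw [map_smul]; rfl
  rw [LinearMap.sum_apply, Finset.sum_congr rfl fun g _ => e g, ← map_sum]
  refine congrArg _ (Subtype.ext ?_)
  have h2 : A (z : indSpace N c) = z := by
    rw [← hw, ← Module.End.mul_apply, hAA]
  rw [hA, LinearMap.sum_apply] at h2
  rw [AddSubmonoidClass.coe_finset_sum]
  exact h2

open scoped Classical in
/-- Independent reductions lift to independent block functions. -/
theorem le_blockRank_of_traces (hM : IsPModular p M) (hPr : M.IsPrime)
    (B : Set (IrrCharacter G)) (hB : IsPBlock M B) {e : ℕ} (T : Fin e → G → Res hPr)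
    (hTconj : ∀ j g x, T j (x * g * x⁻¹) = T j g) (hTreg : ∀ j g, T j g = T j (preg p g))
    (hTe : ∀ j y, ∑ g, red hPr (blockCoeff B g) * T j (g * y) = T j y)
    (hindepk : ∀ a : Fin e → Res hPr, (∀ g, ∑ j, a j * T j g = 0) → ∀ j, a j = 0) :
    e ≤ blockRank p B := by
  have hp : p.Prime := hM.1
  have heR : ∀ g, MemLocalRing M (blockCoeff B g) := fun g => memLR_blockCoeff hM hB g
  let lift : Res hPr → ℂ := fun z =>
    ((Ideal.Quotient.mk_surjective (I := resIdeal hPr) z).choose : ℂ)
  have hlift : ∀ z, MemLocalRing M (lift z) ∧ red hPr (lift z) = z := fun z => by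
    refine ⟨(Ideal.Quotient.mk_surjective (I := resIdeal hPr) z).choose.2, ?_⟩
    rw [← redHom_apply]
    exact (Ideal.Quotient.mk_surjective (I := resIdeal hPr) z).choose_spec
  let F : Fin e → G → ℂ := fun j g => lift (T j g)
  have hFcl : ∀ j, IsClassFunction G (F j) := fun j g x => by
    show lift _ = lift _
    rw [hTconj]
  let Ψ : Fin e → G → ℂ := fun j => pRegularPart p (blockPart B (F j))
  have hΨv : ∀ j y, ¬ p ∣ orderOf y →
      MemLocalRing M (Ψ j y) ∧ red hPr (Ψ j y) = T j y := by
    intro j y hy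
    have e1 : Ψ j y = ∑ g, blockCoeff B g * F j (g * y) := by
      rw [sum_blockCoeff_shift B (hFcl j) y]
      simp [Ψ, pRegularPart, IsPRegular, hy]
    have hR : ∀ g, MemLocalRing M (blockCoeff B g * F j (g * y)) := fun g =>
      memLR_mul hPr (heR g) (hlift _).1
    refine ⟨e1 ▸ memLR_sum hPr _ _ fun g _ => hR g, ?_⟩
    rw [e1, red_sum hPr _ _ fun g _ => hR g, ← hTe j y]
    refine Finset.sum_congr rfl fun g _ => ?_
    rw [red_mul hPr (heR g) (hlift _).1, (hlift _).2]
  -- a right inverse of the trace functions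
  let φ : (G → Res hPr) →ₗ[Res hPr] (Fin e → Res hPr) :=
    LinearMap.pi fun j => ∑ g, T j g • LinearMap.proj g
  have hφ : ∀ f j, φ f j = ∑ g, T j g * f g := fun f j => by simp [φ]
  have hsurj : LinearMap.range φ = ⊤ := by
    by_contra hne
    obtain ⟨ψ, hψ0, hψ⟩ := Submodule.exists_le_ker_of_lt_top _ (lt_top_iff_ne_top.mpr hne)
    have hsingle : ∀ j : Fin e, (fun i => if j = i then (1 : Res hPr) else 0) = Pi.single j 1 :=
      fun j => by funext i; simp [Pi.single_apply, eq_comm]
    have hrel : ∀ g, ∑ j, ψ (Pi.single j 1) * T j g = 0 := fun g => by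
      have h1 : ψ (φ (Pi.single g 1)) = 0 := hψ ⟨_, rfl⟩
      rw [pi_eq_sum_univ (φ (Pi.single g 1)), map_sum] at h1
      refine Eq.trans (Finset.sum_congr rfl fun j _ => ?_) h1
      rw [map_smul, smul_eq_mul, mul_comm, hφ, hsingle]
      congr 1
      simp [Pi.single_apply]
    refine hψ0 (LinearMap.ext fun f => ?_)
    rw [pi_eq_sum_univ f, map_sum, LinearMap.zero_apply]
    refine Finset.sum_eq_zero fun j _ => ?_
    rw [map_smul, hsingle, hindepk _ hrel j, smul_zero]
  have hb : ∀ i : Fin e, ∃ b : G → Res hPr, φ b = Pi.single i 1 := fun i => by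
    have : Pi.single i 1 ∈ LinearMap.range φ := hsurj ▸ Submodule.mem_top
    exact this
  choose b hb using hb
  let D : Matrix (Fin e) (Fin e) (locRing hPr) := Matrix.of fun j i =>
    ∑ g, ⟨Ψ j (preg p g), (hΨv j _ (preg_spec hp g).2.1).1⟩ * ⟨lift (b i g), (hlift _).1⟩
  have hD : D.map (redHom hPr) = 1 := by
    ext j i
    simp only [D, Matrix.map_apply, Matrix.of_apply, map_sum, map_mul, redHom_apply]
    rw [Finset.sum_congr rfl fun g _ => by rw [(hΨv j _ (preg_spec hp g).2.1).2, ← hTreg,
      (hlift _).2], ← hφ, hb, Matrix.one_apply, Pi.single_apply]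
  have hdet : (D.map ((locRing hPr).subtype)).det ≠ 0 := by
    intro h0
    rw [← RingHom.mapMatrix_apply, ← RingHom.map_det] at h0
    have h1 : D.det = 0 := Subtype.ext h0
    have h2 := RingHom.map_det (redHom hPr) D
    rw [RingHom.mapMatrix_apply, hD, h1, map_zero, Matrix.det_one] at h2
    exact zero_ne_one h2
  have hindep : LinearIndependent ℂ Ψ := by
    rw [Fintype.linearIndependent_iff]
    intro a ha j
    have h1 : Matrix.vecMul a (D.map ((locRing hPr).subtype)) = 0 := by
      funext i
      simp only [Matrix.vecMul, dotProduct, D, Matrix.map_apply, Matrix.of_apply, map_sum, map_mul,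
        Subring.coe_subtype, AddSubmonoidClass.coe_finset_sum, Subring.coe_mul, Finset.mul_sum,
        Pi.zero_apply]
      rw [Finset.sum_comm]
      refine Finset.sum_eq_zero fun g _ => ?_
      have h3 := congrFun ha (preg p g)
      simp only [Finset.sum_apply, Pi.smul_apply, smul_eq_mul, Pi.zero_apply] at h3
      simp only [← mul_assoc, ← Finset.sum_mul, h3, zero_mul]
    exact congrFun (Matrix.eq_zero_of_vecMul_eq_zero hdet h1) j
  have hmem : ∀ j, Ψ j ∈ blockSpan p B := fun j => by
    have := regPart_blockPart_mem (p := p) B (F j)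
    rw [blockPartL_apply] at this
    exact this
  have h := (LinearIndependent.of_comp (v := fun j => (⟨Ψ j, hmem j⟩ : blockSpan p B))
    (blockSpan p B).subtype hindep).fintype_card_le_finrank
  rw [Fintype.card_fin] at h
  exact h

open scoped Classical in
theorem le_blockRank_principal [Fact p.Prime] (hM : IsPModular p M) (P : Sylow p G)
    (hP : Nat.card P = p) :
    (Subgroup.centralizer ((P : Subgroup G) : Set G)).relIndex
      (Subgroup.normalizer ((P : Subgroup G) : Set G)) ≤ blockRank p (principalBlock M G) := by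
  have hPr := pmod_prime hM
  have hp : p.Prime := Fact.out
  haveI hchar : CharP (Res hPr) p := charP_res hPr hM
  set N := Subgroup.normalizer ((P : Subgroup G) : Set G) with hN
  set C := Subgroup.centralizer ((P : Subgroup G) : Set G) with hC
  set e := C.relIndex N with he
  obtain ⟨K, hS⟩ := exists_primeSetup P hP
  obtain ⟨ω, hω⟩ := exists_exponent_hom (k := Res hPr) P hP
  have hPC : (P : Subgroup G) ≤ C := by
    haveI : IsCyclic ↥(P : Subgroup G) := isCyclic_of_prime_card hP
    haveI : IsMulCommutative ↥(P : Subgroup G) := IsCyclic.commutative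
    exact Subgroup.le_centralizer _
  have hcard : Nat.card ω.range = e := by
    rw [he, Subgroup.relIndex, ← hω, Subgroup.index_ker]
  obtain ⟨γ, hγ⟩ := IsCyclic.exists_generator (α := ω.range)
  have hγo : orderOf γ = e := by
    rw [← hcard]; exact orderOf_eq_card_of_forall_mem_zpowers hγ
  obtain ⟨n₀, hn₀⟩ := γ.2
  let c : Fin e → ↥N →* Res hPr := fun j => (Units.coeHom (Res hPr)).comp (ω ^ (j : ℕ))
  have hc : ∀ j n, c j n = ((ω n : (Res hPr)ˣ) : Res hPr) ^ (j : ℕ) := fun j n => by simp [c]
  have hcC : ∀ j g (hg : g ∈ C), c j ⟨g, Subgroup.centralizer_le_normalizer _ hg⟩ = 1 :=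
    fun j g hg => by
      have : ω ⟨g, Subgroup.centralizer_le_normalizer _ hg⟩ = 1 := by
        rw [← MonoidHom.mem_ker, hω]; exact hg
      rw [hc, this, Units.val_one, one_pow]
  let lam : Fin e → ↥K →* Res hPr := fun j => (c j).comp (Subgroup.inclusion hS.leK)
  have hlam_inj : Function.Injective lam := by
    intro i j hij
    obtain ⟨y, hy, n, hn, hxy⟩ := hS.gen (n₀ : G) n₀.2
    have e0 : n₀ = (⟨y, Subgroup.centralizer_le_normalizer _ (hPC hy)⟩ : ↥N) * ⟨n, hS.leK hn⟩ :=
      Subtype.ext hxy
    have h1 : c i n₀ = c j n₀ := by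
      rw [e0, map_mul, map_mul, hcC i y (hPC hy), hcC j y (hPC hy)]
      exact congrArg (fun l : ↥K →* Res hPr => 1 * l ⟨n, hn⟩) hij
    rw [hc, hc, hn₀] at h1
    have h2 : γ ^ (i : ℕ) = γ ^ (j : ℕ) :=
      Subtype.ext (Units.ext (by simpa using h1))
    exact Fin.ext (pow_injOn_Iio_orderOf (by simp [hγo]) (by simp [hγo]) h2)
  haveI : Fintype ↥(P : Subgroup G) := Fintype.ofFinite _
  haveI : Fintype ↥K := Fintype.ofFinite _
  choose q hsim hqA x hx hxn using fun j : Fin e =>
    exists_block_simple hM hPr hS (c j) (Subgroup.centralizer_le_normalizer _) hPC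
      (fun g hg => hcC j g hg)
  have hhom : ∀ i j, i ≠ j → ∀ f, EquivMap (q i).rep (q j).rep f → f = 0 := by
    intro i j hij f hf
    by_contra h0
    obtain ⟨hinj, hsurj⟩ := bijective_of_equivMap (hsim i) (hsim j) hf h0
    have hfx : FixEig (q j).rep (P : Subgroup G) K (lam i) (f (x i)) :=
      ⟨fun y => by rw [← hf, (hx i).1],
        fun n => by rw [← hf, (hx i).2, map_smul]⟩
    obtain ⟨d, hd⟩ := hS.fixed_line (hsim j) (hx j) (hxn j) hfx
    have hE : eigProj (q j).rep K (lam i) (x j) = 0 := by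
      obtain ⟨d2, hd2⟩ := eigProj_scalar (mu := lam i) (hx j).2
      obtain ⟨n, hn⟩ : ∃ n, lam i n ≠ lam j n := by
        by_contra hall
        push Not at hall
        exact hij (hlam_inj (MonoidHom.ext hall))
      have h1 := eigProj_eig (ρ := (q j).rep) (lam i) n (x j)
      rw [hd2, map_smul, (hx j).2 n, smul_smul, smul_smul, ← sub_eq_zero, ← sub_smul] at h1
      rcases smul_eq_zero.mp h1 with h2 | h2
      · have : (lam j n - lam i n) * d2 = 0 := by linear_combination h2
        rw [mul_eq_zero, or_iff_right (sub_ne_zero.mpr hn.symm)] at this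
        rw [hd2, this, zero_smul]
      · rw [hd2, h2, smul_zero]
    obtain ⟨t, ht⟩ := hd
    have h3 := congrArg (eigProj (q j).rep K (lam i)) ht
    rw [eigProj_trEnd hS.norm, map_sub, map_smul, eigProj_of_eig hS.card_ne hfx.2, hE, smul_zero,
      sub_zero] at h3
    obtain ⟨s, hs⟩ := hsurj (eigProj (q j).rep K (lam i) t)
    refine hxn i ⟨s, hinj ?_⟩
    rw [← h3, ← hs]
    simp only [trEnd, LinearMap.sum_apply, map_sum]
    exact Finset.sum_congr rfl fun y _ => hf _ _
  have hend : ∀ j, ∀ f, EquivMap (q j).rep (q j).rep f →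
      ∃ c : Res hPr, f = c • LinearMap.id := by
    intro j f hf
    have hfx : FixEig (q j).rep (P : Subgroup G) K (lam j) (f (x j)) :=
      ⟨fun y => by rw [← hf, (hx j).1], fun n => by rw [← hf, (hx j).2, map_smul]⟩
    obtain ⟨d, hd⟩ := hS.fixed_line (hsim j) (hx j) (hxn j) hfx
    refine ⟨d, sub_eq_zero.mp ?_⟩
    by_contra h0
    set g := f - d • LinearMap.id with hg
    have hgE : EquivMap (q j).rep (q j).rep g := fun a z => by
      simp [hg, hf a z]
    obtain ⟨hinj, hsurj⟩ := bijective_of_equivMap (hsim j) (hsim j) hgE h0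
    obtain ⟨t, ht⟩ := hd
    obtain ⟨s, hs⟩ := hsurj t
    refine hxn j ⟨s, hinj ?_⟩
    rw [show g (x j) = f (x j) - d • x j by simp [hg], ← ht, ← hs]
    simp only [trEnd, LinearMap.sum_apply, map_sum]
    exact Finset.sum_congr rfl fun y _ => hgE _ _
  refine le_blockRank_of_traces hM hPr _ (isPBlock_principalBlock M)
    (fun j g => LinearMap.trace (Res hPr) _ ((q j).rep g))
    (fun j g z => trace_conj_rep _ g z) (fun j g => trace_eq_preg hp _ g) (fun j y => ?_)
    (fun a ha j => trace_family_independent _ (fun j => (q j).rep) hsim hend hhom (c := a) ha j)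
  have h1 : (∑ g, red hPr (blockCoeff (principalBlock M G) g) • (q j).rep g) = 1 :=
    LinearMap.ext (hqA j)
  calc ∑ g, red hPr (blockCoeff (principalBlock M G) g) *
        LinearMap.trace (Res hPr) _ ((q j).rep (g * y))
      = LinearMap.trace (Res hPr) _
          ((∑ g, red hPr (blockCoeff (principalBlock M G) g) • (q j).rep g) * (q j).rep y) := by
        simp only [Finset.sum_mul, map_sum, smul_mul_assoc, map_smul, smul_eq_mul, map_mul]
    _ = _ := by rw [h1, one_mul]

end Cfsg.Agent.Char
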