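import Cfsg.Agent.Lib.Char.ResField
import Mathlib

/-!
# The residue field of the algebraic integers is algebraically closed
-/

set_option autoImplicit false

namespace Cfsg.Agent.Char

open Cfsg Polynomial

variable {M : Ideal AlgInt}

/-- The local ring is integrally closed in the complex numbers. -/
theorem memLR_of_monic_root (hP : M.IsPrime) {f : (locRing hP)[X]} (hf : f.Monic) {z : ℂ}
    (hz : f.eval₂ (locRing hP).subtype z = 0) : MemLocalRing M z := by
  classical
  -- a common denominator
  have key : ∀ n : ℕ, ∃ b : AlgInt, b ∉ M ∧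
      ∀ i < n, IsIntegral ℤ ((b : ℂ) * ((f.coeff i : locRing hP) : ℂ)) := by
    intro n
    induction n with
    | zero => exact ⟨1, fun h => hP.ne_top ((Ideal.eq_top_iff_one M).mpr h), fun i hi => by omega⟩
    | succ n ih =>
      obtain ⟨b, hb, hbi⟩ := ih
      obtain ⟨a, c, hc, hac⟩ := (f.coeff n).2
      refine ⟨b * c, fun h => (hP.mem_or_mem h).elim hb hc, fun i hi => ?_⟩
      rcases Nat.lt_succ_iff_lt_or_eq.mp hi with hi' | rfl
      · rw [MulMemClass.coe_mul, mul_right_comm]
        exact (hbi i hi').mul c.2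
      · rw [MulMemClass.coe_mul, ← hac, mul_assoc, mul_div_cancel₀ _ (coe_ne_zero_of_not_mem hc)]
        exact b.2.mul a.2
  obtain ⟨b, hb, hbi⟩ := key f.natDegree
  have hint : IsIntegral ℤ (z * (b : ℂ)) := by
    -- the scaled polynomial has integral coefficients
    set g := scaleRoots (f.map (locRing hP).subtype) (b : ℂ) with hg
    have hgm : g.Monic := (monic_scaleRoots_iff _).mpr (hf.map _)
    have hdeg : (f.map (locRing hP).subtype).natDegree = f.natDegree := hf.natDegree_map _
    have hcoef : ∀ i, g.coeff i ∈ (algebraMap AlgInt ℂ).range := by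
      intro i
      rw [hg, coeff_scaleRoots, hdeg, coeff_map]
      rcases lt_trichotomy i f.natDegree with hi | hi | hi
      · obtain ⟨j, hj⟩ : ∃ j, f.natDegree - i = j + 1 := ⟨f.natDegree - i - 1, by omega⟩
        refine ⟨⟨_, ((hbi i hi).mul (b.2.pow j))⟩, ?_⟩
        rw [hj, pow_succ]
        show (b : ℂ) * ((f.coeff i : locRing hP) : ℂ) * (b : ℂ) ^ j = _
        rw [Subring.coe_subtype]
        ring
      · refine ⟨1, ?_⟩
        rw [hi, hf.coeff_natDegree, map_one, map_one, Nat.sub_self, pow_zero, one_mul]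
      · refine ⟨0, ?_⟩
        rw [coeff_eq_zero_of_natDegree_lt hi, map_zero, map_zero, zero_mul]
    obtain ⟨g', hg', -, hg'm⟩ := lifts_and_natDegree_eq_and_monic
      ((lifts_iff_coeff_lifts g).mpr hcoef) hgm
    have hroot : g'.eval₂ (algebraMap AlgInt ℂ) (z * (b : ℂ)) = 0 := by
      rw [← eval_map, hg', hg, mul_comm z]
      have := scaleRoots_eval₂_eq_zero (RingHom.id ℂ) (p := f.map (locRing hP).subtype) (r := z)
        (s := (b : ℂ)) (by rwa [eval₂_id, eval_map])
      rwa [RingHom.id_apply, eval₂_id] at this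
    exact isIntegral_trans (R := ℤ) (A := AlgInt) _ ⟨g', hg'm, hroot⟩
  refine ⟨⟨z * (b : ℂ), hint⟩, b, hb, ?_⟩
  show z * (b : ℂ) / (b : ℂ) = z
  rw [mul_div_assoc, div_self (coe_ne_zero_of_not_mem hb), mul_one]

instance isAlgClosed_res (hP : M.IsPrime) : IsAlgClosed (Res hP) := by
  refine IsAlgClosed.of_exists_root _ fun q hq hirr => ?_
  have hsurj : Function.Surjective (redHom hP) := Ideal.Quotient.mk_surjective
  obtain ⟨f, hf, hdeg, hfm⟩ := lifts_and_natDegree_eq_and_monic
    ((lifts_iff_coeff_lifts q).mpr fun i => hsurj _) hq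
  have hpos : 0 < f.natDegree := by rw [hdeg]; exact Irreducible.natDegree_pos hirr
  have hne : (f.map (locRing hP).subtype).degree ≠ 0 := by
    rw [degree_eq_natDegree (hfm.map _).ne_zero, hfm.natDegree_map]
    exact_mod_cast hpos.ne'
  obtain ⟨z, hz⟩ := IsAlgClosed.exists_root _ hne
  have hz' : f.eval₂ (locRing hP).subtype z = 0 := by rwa [← eval_map]
  refine ⟨redHom hP ⟨z, memLR_of_monic_root hP hfm hz'⟩, ?_⟩
  rw [← hf, eval_map, eval₂_at_apply]
  convert map_zero (redHom hP)
  apply Subtype.ext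
  have := hom_eval₂ f (RingHom.id _) (locRing hP).subtype (⟨z, memLR_of_monic_root hP hfm hz'⟩ : locRing hP)
  rw [RingHom.comp_id, eval₂_id] at this
  exact this.trans hz'

end Cfsg.Agent.Char
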