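import Cfsg.Agent.Lib.Char.CyclicDefectSetting
import Cfsg.Agent.Lib.Char.CyclicInertia
import Cfsg.Agent.Lib.Char.PrimeSylowBlockRank
import Cfsg.Agent.Lib.Char.ResClosed

/-!
# A block with a cyclic defect group has at least as many modular irreducibles as its inertial index
-/

set_option autoImplicit false
set_option linter.unusedSectionVars false
set_option linter.style.haveILetI false

open Cfsg

namespace Cfsg.Agent.Char.CyclicRank

open CyclicCentre

universe u

theorem corner_map {k : Type*} [Field k] {R R' : Type*} [Ring R] [Algebra k R] [Ring R'] [Algebra k R']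
    (E : R ≃ₐ[k] R') {b g z : R} {q : ℕ} (hK : CyclicCorner.Corner k b g z q) :
    CyclicCorner.Corner k (E b) (E g) (E z) q where
  bcomm r := by obtain ⟨r, rfl⟩ := E.surjective r; rw [← map_mul, ← map_mul, hK.bcomm]
  bb := by rw [← map_mul, hK.bb]
  gg := by rw [← map_mul, hK.gg]
  bg := by rw [← map_mul, hK.bg]
  full := by
    obtain ⟨m, r, s, hrs⟩ := hK.full
    exact ⟨m, fun i => E (r i), fun i => E (s i), by simp only [← map_mul, ← map_sum, hrs]⟩
  zcomm r := by obtain ⟨r, rfl⟩ := E.surjective r; rw [← map_mul, ← map_mul, hK.zcomm]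
  zb := by rw [← map_mul, hK.zb]
  zq := by rw [← map_pow, ← map_mul, hK.zq, map_zero]
  corner r := by
    obtain ⟨r, rfl⟩ := E.surjective r
    obtain ⟨P, hP⟩ := hK.corner r
    exact ⟨P, by
      rw [← map_mul, ← map_mul, hP, map_mul]
      congr 1
      exact (Polynomial.aeval_algHom_apply E.toAlgHom z P).symm⟩
  top h := hK.top (E.injective (by rw [map_mul, map_pow, h, map_zero]))
  two := hK.two

variable {G : Type u} [Group G] [Fintype G] {M : Ideal AlgInt} {p : ℕ} {B : Set (IrrCharacter G)}
  {D : Subgroup G} {c : Set (IrrCharacter (Subgroup.centralizer (D : Set G)))} {σ : G} {a : ℕ}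

/-- The inertial quotient below is cyclic of order prime to `p`. -/
theorem cyclic_quotient (hp : p.Prime) {v : G} (hv : orderOf v = p) {T : Subgroup G}
    (hTN : T ≤ Subgroup.normalizer (Subgroup.zpowers v : Set G))
    [((Subgroup.centralizer (Subgroup.zpowers v : Set G)).subgroupOf T).Normal] :
    IsCyclic (T ⧸ (Subgroup.centralizer (Subgroup.zpowers v : Set G)).subgroupOf T) ∧
      ¬ p ∣ (Subgroup.centralizer (Subgroup.zpowers v : Set G)).relIndex T := by
  haveI := Fact.mk hp
  set P := Subgroup.zpowers v with hP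
  have hD : Nat.card P = p := by rw [hP, Nat.card_zpowers, hv]
  haveI : IsCyclic P := isCyclic_of_prime_card hD
  haveI hcycA : IsCyclic (MulAut P) := by
    haveI : IsCyclic (ZMod (Nat.card P))ˣ := by rw [hD]; infer_instance
    exact (IsCyclic.mulAutMulEquiv P).isCyclic.mpr inferInstance
  have e : (P.normalizerMonoidHom.comp (Subgroup.inclusion hTN)).ker =
      (Subgroup.centralizer (P : Set G)).subgroupOf T := by
    ext x
    rw [MonoidHom.mem_ker, MonoidHom.comp_apply, ← MonoidHom.mem_ker, P.normalizerMonoidHom_ker]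
    rfl
  refine ⟨isCyclic_of_injective ((QuotientGroup.kerLift _).comp (QuotientGroup.quotientMulEquivOfEq e.symm).toMonoidHom)
      ((QuotientGroup.kerLift_injective (P.normalizerMonoidHom.comp (Subgroup.inclusion hTN))).comp
        (MulEquiv.injective _)), fun hdvd => ?_⟩
  have h1 : (Subgroup.centralizer (P : Set G)).relIndex T ∣ Nat.card (MulAut P) := by
    rw [Subgroup.relIndex, ← e, Subgroup.index_ker]
    exact Subgroup.card_subgroup_dvd_card _
  rw [IsCyclic.card_mulAut, hD, Nat.totient_prime hp] at h1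
  have := Nat.le_of_dvd (by have := hp.two_le; omega) (hdvd.trans h1)
  have := hp.two_le
  omega

open scoped Classical in
set_option maxHeartbeats 1000000 in
/-- Irreducible modules of the block carrying unlinked modules of the inertia group bound the rank from below. -/
theorem le_of_family (hM : IsPModular p M) (hB : IsPBlock M B) {H N T : Subgroup G} {q : ℕ}
    [Fintype (H ⧸ D.subgroupOf H)] {b g z w : MonoidAlgebra (Res (pmod_prime hM)) H}
    (hS : CyclicTransfer.Setting (Res (pmod_prime hM)) D H N T q b g z w) {e : ℕ} {V : Type u} [AddCommGroup V]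
    [Module (Res (pmod_prime hM)) V] [FiniteDimensional (Res (pmod_prime hM)) V]
    (νU : Fin e → (T →* Module.End (Res (pmod_prime hM)) V)) (hmod : ∀ i, CyclicTransfer.Mod hS.ht b z (νU i))
    {W : Fin e → Type u} [∀ i, AddCommGroup (W i)] [∀ i, Module (Res (pmod_prime hM)) (W i)]
    [∀ i, FiniteDimensional (Res (pmod_prime hM)) (W i)]
    (P : ∀ i, G →* Module.End (Res (pmod_prime hM)) (W i)) (hsim : ∀ i, SimpleRep (P i))
    (hA : ∀ i, ∀ x, (∑ g, red (pmod_prime hM) (blockCoeff B g) • P i g) x = x)
    (hcar : ∀ i, CyclicTransfer.Carries b z q (νU i) (P i))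
    (hsep : ∀ i j, i ≠ j → ∀ φ : V →ₗ[Res (pmod_prime hM)] V, (∀ t v, φ (νU j t v) = νU i t (φ v)) → φ = 0) :
    e ≤ blockRank p B := by
  have hp := hM.1
  haveI := Fact.mk hp
  let hP := pmod_prime hM
  haveI : CharP (Res hP) p := charP_res hP hM
  have hhom : ∀ i j, i ≠ j → ∀ φ, EquivMap (P i) (P j) φ → φ = 0 := by
    intro i j hij φ hφ
    by_contra h0
    obtain ⟨hinj, hsurj⟩ := bijective_of_equivMap (hsim i) (hsim j) hφ h0
    obtain ⟨fi, hfi, vi, hvi⟩ := hcar i
    have hcar' : CyclicTransfer.Carries b z q (νU i) (P j) := by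
      have hcomm : ∀ r x, φ (CyclicTransfer.op (P i) H r x) = CyclicTransfer.op (P j) H r (φ x) := by
        intro r x
        induction r using CyclicTransfer.el_induction H with
        | h0 => simp
        | hadd a b ha hb => simp only [map_add, LinearMap.add_apply, ha, hb]
        | hsm s h => simp only [map_smul, LinearMap.smul_apply, CyclicTransfer.op_el, hφ (h : G) x]
      refine ⟨φ ∘ₗ fi, fun t v => by rw [LinearMap.comp_apply, hfi, hφ]; rfl, vi, fun ⟨x, hx⟩ => hvi ?_⟩
      obtain ⟨y, rfl⟩ := hsurj x
      rw [← hcomm] at hx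
      exact ⟨y, hinj hx⟩
    obtain ⟨φ', hφ', v', hv'⟩ := CyclicTransfer.exists_map hS (hsim j) (hmod j) (hmod i) (hcar j) hcar'
    exact hv' (LinearMap.congr_fun (hsep j i (Ne.symm hij) φ' hφ') v')
  refine le_blockRank_of_traces hM hP B hB (fun j g => LinearMap.trace _ _ ((P j) g))
    (fun j g x => trace_conj_rep _ g x) (fun j g => trace_eq_preg hp _ g) (fun j y => ?_)
    (fun a ha j => trace_family_independent _ P hsim
      (fun j φ hφ => TransferLine.end_scalar (hsim j) hφ) hhom (c := a) ha j)
  have h1 : (∑ g, red hP (blockCoeff B g) • (P j) g) = 1 := LinearMap.ext (hA j)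
  calc ∑ g, red hP (blockCoeff B g) * LinearMap.trace _ _ ((P j) (g * y))
      = LinearMap.trace _ _ ((∑ g, red hP (blockCoeff B g) • (P j) g) * (P j) y) := by
        simp only [Finset.sum_mul, map_sum, smul_mul_assoc, map_smul, smul_eq_mul, map_mul]
    _ = _ := by rw [h1, one_mul]

open scoped Classical in
set_option maxHeartbeats 1000000 in
/-- The modular rank is at least the inertial index. -/
theorem le_blockRank (hM : IsPModular p M) (hmax : IsMaximalBrauerPair p M B D c)
    (hσ : Subgroup.zpowers σ = D) (ha : 1 ≤ a) (hord : orderOf σ = p ^ a) :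
    (Subgroup.centralizer (D : Set G)).relIndex (pairStab (pmod_prime hM) hmax.1.1.2) ≤ blockRank p B := by
  have hp := hM.1
  haveI := Fact.mk hp
  let hP := pmod_prime hM
  haveI : CharP (Res hP) p := charP_res hP hM
  have hB : IsPBlock M B := hmax.1.2.1
  have hab := CyclicLocal.comm_of_gen hσ
  set v := σ ^ p ^ (a - 1) with hv
  have hvord : orderOf v = p := by
    rw [hv, orderOf_pow_of_dvd (pow_ne_zero _ hp.ne_zero) (hord ▸ Nat.pow_dvd_pow p (Nat.sub_le a 1)), hord,
      Nat.pow_div (Nat.sub_le a 1) hp.pos, show a - (a - 1) = 1 by omega, pow_one]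
  have hQD : Subgroup.zpowers v ≤ D := Subgroup.zpowers_le.mpr (D.pow_mem (hσ ▸ Subgroup.mem_zpowers σ) _)
  obtain ⟨f, hf⟩ := BelowData.exists_below hM hmax hab hQD
  let H := Subgroup.centralizer (Subgroup.zpowers v : Set G)
  let T := pairStab hP hf.1.2
  have hTN : T ≤ Subgroup.normalizer (Subgroup.zpowers v : Set G) := fun t ht => ((mem_pairStab hP hf.1.2).mp ht).1
  haveI hHn : (H.subgroupOf T).Normal := ⟨fun x hx t => Subgroup.mem_subgroupOf.mpr
    (conj_mem_centralizer (hTN t.2) (Subgroup.mem_subgroupOf.mp hx))⟩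
  obtain ⟨hcyc, hindex⟩ := cyclic_quotient hp hvord hTN
  haveI : Fintype (H.subgroupOf T) := Fintype.ofFinite _
  haveI : Fintype (H ⧸ D.subgroupOf H) := Fintype.ofFinite _
  obtain ⟨g, z, w, hS⟩ := setting hM hmax hσ ha hord hf hindex
  obtain ⟨n, π, hn, hπb, hπ⟩ := hS.loc.rep
  let ε : H.subgroupOf T ≃* H := Subgroup.subgroupOfEquivOfLe hS.ht
  let E : MonoidAlgebra (Res hP) H ≃ₐ[Res hP] MonoidAlgebra (Res hP) (H.subgroupOf T) :=
    MonoidAlgebra.domCongr (Res hP) (Res hP) ε.symm
  have hEel : ∀ h : H, E (el h) = el (ε.symm h) := fun h => by simp [E, el]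
  have hEinv : ∀ t : T, MonoidAlgebra.mapDomainAlgHom (Res hP) (Res hP)
      (MulAut.conjNormal t : MulAut (H.subgroupOf T)).toMonoidHom (E (rdAlg hP (blockCoeff f))) =
      E (rdAlg hP (blockCoeff f)) := by
    intro t
    have key : ∀ r : MonoidAlgebra (Res hP) H, MonoidAlgebra.mapDomainAlgHom (Res hP) (Res hP)
        (MulAut.conjNormal t : MulAut (H.subgroupOf T)).toMonoidHom (E r) =
        E (CyclicTransfer.cjH H (t : G) (hS.norm _ (hS.tn t.2)) r) := by
     intro r
     induction r using CyclicTransfer.el_induction (k := Res hP) H with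
     | h0 => simp
     | hadd x y hx hy => simp only [map_add, hx, hy]
     | hsm s h =>
      simp only [map_smul]
      congr 1
      rw [hEel, show CyclicTransfer.cjH H (t : G) (hS.norm _ (hS.tn t.2)) (el h : MonoidAlgebra (Res hP) H) =
        el (CyclicTransfer.conjHom H (t : G) (hS.norm _ (hS.tn t.2)) h) by
          simp [CyclicTransfer.cjH, el, MonoidAlgebra.mapDomainAlgHom], hEel]
      have e : (MulAut.conjNormal t : MulAut (H.subgroupOf T)) (ε.symm h) =
          ε.symm (CyclicTransfer.conjHom H (t : G) (hS.norm _ (hS.tn t.2)) h) :=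
        Subtype.ext (Subtype.ext rfl)
      simp [el, MonoidAlgebra.mapDomainAlgHom, e]
    exact (key _).trans (congrArg E (hS.stab (t : G) t.2))
  have hidx : H.relIndex T = (H.subgroupOf T).index := rfl
  obtain ⟨ν, hνb, hνz, hνs, hνsep⟩ := CyclicInertia.exists_extensions (H.subgroupOf T) hcyc hS.index
    (corner_map E hS.loc.corner) hEinv hn (π.comp E.symm.toAlgHom) (by simp [hπb])
    (hπ.comp E.symm.surjective)
  let up : (Fin n → Res hP) ≃ₗ[Res hP] ULift.{u} (Fin n → Res hP) := ULift.moduleEquiv.symm
  let νU : Fin (H.subgroupOf T).index → (T →* Module.End (Res hP) (ULift.{u} (Fin n → Res hP))) := fun i =>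
    { toFun := fun t => up.toLinearMap ∘ₗ ν i t ∘ₗ up.symm.toLinearMap
      map_one' := LinearMap.ext fun x => by simp
      map_mul' := fun s t => LinearMap.ext fun x => by simp }
  have hop : ∀ i r x, CyclicTransfer.opT hS.ht (νU i) r x = up (CyclicInertia.resAlg _ (ν i) (E r) (up.symm x)) := by
    intro i r x
    induction r using CyclicTransfer.el_induction H with
    | h0 => simp
    | hadd a b ha hb => simp only [map_add, LinearMap.add_apply, ha, hb]
    | hsm s h =>
      simp only [map_smul, LinearMap.smul_apply, CyclicTransfer.opT_el, hEel, CyclicInertia.resAlg_el]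
      rfl
  have hmod : ∀ i, CyclicTransfer.Mod hS.ht (rdAlg hP (blockCoeff f)) z (νU i) := fun i =>
    { simple := fun U hU => by
        rcases hνs i (U.map up.symm.toLinearMap) (fun r x hx => by
          obtain ⟨y, hy, rfl⟩ := hx
          refine ⟨_, hU (E.symm r) y hy, ?_⟩
          rw [hop, AlgEquiv.apply_symm_apply]
          exact up.symm_apply_apply _) with h | h
        · exact Or.inl (Submodule.map_injective_of_injective up.symm.injective (h.trans (Submodule.map_bot _).symm))
        · refine Or.inr (eq_top_iff.mpr fun x _ => ?_)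
          obtain ⟨y, hy, hxy⟩ := (show up.symm x ∈ U.map up.symm.toLinearMap from h ▸ Submodule.mem_top)
          rwa [up.symm.injective hxy] at hy
      nontrivial := ⟨up fun _ => 1, fun h => one_ne_zero
        (congrFun (up.injective (h.trans (map_zero up).symm)) ⟨0, hn⟩)⟩
      block := LinearMap.ext fun x => by rw [hop, hνb]; exact up.apply_symm_apply x
      kills := LinearMap.ext fun x => by rw [hop, hνz, LinearMap.zero_apply, map_zero]; rfl }
  have hvH : v ∈ H := fun u hu => by
    obtain ⟨i, rfl⟩ := hu
    exact ((Commute.refl v).zpow_left i).eq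
  let y₀ : T := ⟨v, hS.ht hvH⟩
  have hy₀ : y₀ ^ p = 1 := Subtype.ext (by
    show v ^ p = 1
    rw [← hvord, pow_orderOf_eq_one])
  have hfix : ∀ t : T, (t : G) ∈ H ↔ y₀ * t = t * y₀ := fun t => by
    refine ⟨fun h => Subtype.ext (h v (Subgroup.mem_zpowers v)), fun h u hu => ?_⟩
    obtain ⟨i, rfl⟩ := hu
    exact ((show Commute v (t : G) from congrArg Subtype.val h).zpow_left i).eq
  have hνy : ∀ i, νU i y₀ = 1 := by
    intro i
    have hs := (hmod i).simple
    let X : Module.End (Res hP) (ULift.{u} (Fin n → Res hP)) := νU i y₀ - 1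
    have hcomm : ∀ r, Commute X (CyclicTransfer.opT hS.ht (νU i) r) := by
      intro r
      induction r using CyclicTransfer.el_induction H with
      | h0 => rw [map_zero]; exact Commute.zero_right _
      | hadd a b ha hb => rw [map_add]; exact ha.add_right hb
      | hsm s h =>
        rw [map_smul, CyclicTransfer.opT_el]
        refine Commute.smul_right ((Commute.map ?_ (νU i)).sub_left (Commute.one_left _)) _
        exact Subtype.ext (h.2 v (Subgroup.mem_zpowers v))
    have hXp : X ^ p = 0 := by
      haveI : CharP (Module.End (Res hP) (ULift.{u} (Fin n → Res hP))) p := by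
        haveI : Nontrivial (ULift.{u} (Fin n → Res hP)) := ⟨_, _, ((hmod i).nontrivial).choose_spec⟩
        exact charP_of_injective_algebraMap (RingHom.injective (algebraMap (Res hP) _)) p
      simp only [X]
      rw [sub_pow_char_of_commute p (Commute.one_right _), ← map_pow, hy₀, map_one, one_pow, sub_self]
    rcases hs (LinearMap.ker X) (fun r x hx => by
      rw [LinearMap.mem_ker] at hx ⊢
      rw [← Module.End.mul_apply, (hcomm r).eq, Module.End.mul_apply, hx, map_zero]) with h | h
    · exfalso
      obtain ⟨x, hx⟩ := (hmod i).nontrivial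
      have hinj := LinearMap.ker_eq_bot.mp h
      refine hx (Function.Injective.iterate hinj p ?_)
      rw [← Module.End.coe_pow, hXp, map_zero]
      rfl
    · exact sub_eq_zero.mp (LinearMap.ker_eq_top.mp h)
  have heH : ∀ i, ∑ h : H, red hP (blockCoeff B (h : G)) • νU i ⟨(h : G), hS.ht h.2⟩ = 1 := by
    intro i
    have h1 := congrArg (CyclicTransfer.opT hS.ht (νU i)) (block_one hM hmax hf)
    rw [map_mul, (hmod i).block, mul_one] at h1
    rw [← h1]
    simp only [rdAlg, map_sum]
    refine Finset.sum_congr rfl fun h _ => ?_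
    rw [show MonoidAlgebra.single h (red hP (blockCoeff B (h : G))) = red hP (blockCoeff B (h : G)) • el h by
      simp [el, MonoidAlgebra.smul_single'], map_smul, CyclicTransfer.opT_el]
  choose P hsim hA hcar using fun i => CyclicTransfer.exists_simple hS hp (hmod i)
    (fun x => red hP (blockCoeff B x)) (fun x y => congrArg (red hP) (isClassFunction_blockCoeff B x y))
    (fun x => red_blockCoeff_idem hM hB hP x) (heH i) y₀ hy₀ (hνy i) hfix
  have hrank : (H.subgroupOf T).index ≤ blockRank p B :=
    le_of_family hM hB hS (fun i => νU i) hmod (fun i => (P i).rep) hsim hA hcar fun i j hij φ hφ => by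
      have h2 := hνsep i j hij (up.symm.toLinearMap ∘ₗ φ ∘ₗ up.toLinearMap) fun t x => by
        simp only [LinearMap.comp_apply, LinearEquiv.coe_coe]
        have h3 := hφ t (up x)
        have h4 : νU j t (up x) = up (ν j t x) := by
          show up (ν j t (up.symm (up x))) = _
          rw [up.symm_apply_apply]
        rw [h4] at h3
        rw [h3]
        exact up.symm_apply_apply _
      refine LinearMap.ext fun v' => ?_
      have h3 := LinearMap.congr_fun h2 (up.symm v')
      simp only [LinearMap.comp_apply, LinearEquiv.coe_coe, LinearEquiv.apply_symm_apply, LinearMap.zero_apply] at h3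
      exact (LinearEquiv.map_eq_zero_iff _).mp h3
  refine le_trans (le_of_eq ?_) (le_trans (Subgroup.relIndex_le_of_le_right (H := H)
    (stab_le hM hmax hσ ha hord hf) Subgroup.index_ne_zero_of_finite) (le_of_eq_of_le hidx hrank))
  rw [← Subgroup.inf_relIndex_right H, ← Subgroup.inf_relIndex_right (Subgroup.centralizer (D : Set G))]
  congr 1
  ext t
  refine ⟨fun ⟨h1, h2⟩ => ⟨fun u hu => h1 u (hQD hu), h2⟩, fun ⟨h1, h2⟩ =>
    ⟨CyclicLocal.free hM hmax hσ ha hord h2 (h1 v (Subgroup.mem_zpowers v)).symm, h2⟩⟩

end Cfsg.Agent.Char.CyclicRank
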