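import Cfsg.Agent.Lib.Char.CyclicTransferExists
import Cfsg.Agent.Lib.Char.LocalPairs
import Cfsg.Agent.Lib.Char.BrauerConj

/-!
# The inertia group of the block below the subgroup of order `p` of a cyclic defect group
-/

set_option autoImplicit false
set_option linter.unusedSectionVars false
set_option linter.style.haveILetI false

open Cfsg

namespace Cfsg.Agent.Char.CyclicRank

universe u

variable {G : Type u} [Group G] [Fintype G] {M : Ideal AlgInt} {p : ℕ} {B : Set (IrrCharacter G)}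
  {D : Subgroup G} {c : Set (IrrCharacter (Subgroup.centralizer (D : Set G)))} {σ : G} {a : ℕ}

theorem mem_bottom (hp : p.Prime) (hσ : Subgroup.zpowers σ = D) (ha : 1 ≤ a) (hord : orderOf σ = p ^ a) {x : G}
    (hx : x ∈ D) (hx1 : x ^ p = 1) : x ∈ Subgroup.zpowers (σ ^ p ^ (a - 1)) := by
  obtain ⟨i, rfl⟩ : x ∈ Submonoid.powers σ :=
    mem_powers_iff_mem_zpowers.mpr (hσ.symm ▸ hx)
  simp only [← pow_mul] at hx1 ⊢
  have h1 : p ^ (a - 1) * p ∣ i * p := by
    rw [← pow_succ, Nat.sub_add_cancel ha, ← hord]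
    exact orderOf_dvd_iff_pow_eq_one.mpr hx1
  obtain ⟨m, rfl⟩ := (Nat.mul_dvd_mul_iff_right hp.pos).mp h1
  rw [pow_mul]
  exact Subgroup.pow_mem _ (Subgroup.mem_zpowers _) m

theorem bottom_le (hp : p.Prime) (hσ : Subgroup.zpowers σ = D) (ha : 1 ≤ a) (hord : orderOf σ = p ^ a) {u : G}
    (hu : u ∈ D) (hu1 : u ≠ 1) : σ ^ p ^ (a - 1) ∈ Subgroup.zpowers u := by
  haveI := Fact.mk hp
  have h1 : orderOf u ∣ p ^ a := by
    rw [← hord, ← Nat.card_zpowers σ, hσ, ← Subgroup.orderOf_mk u hu]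
    exact orderOf_dvd_natCard _
  obtain ⟨j, -, hj⟩ := (Nat.dvd_prime_pow hp).mp h1
  obtain ⟨l, rfl⟩ : ∃ l, j = l + 1 := ⟨j - 1, by
    rcases Nat.eq_zero_or_pos j with rfl | h
    · exact absurd (orderOf_eq_one_iff.mp (by rw [hj, pow_zero])) hu1
    · omega⟩
  set v := u ^ p ^ l with hv
  have hv1 : v ^ p = 1 := by rw [hv, ← pow_mul, ← pow_succ, ← hj, pow_orderOf_eq_one]
  have hv0 : v ≠ 1 := fun h => by
    have h2 := Nat.le_of_dvd (pow_pos hp.pos l) (orderOf_dvd_iff_pow_eq_one.mpr h)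
    rw [hj] at h2
    have := (Nat.pow_le_pow_iff_right hp.one_lt).mp h2
    omega
  have hord1 : orderOf (σ ^ p ^ (a - 1)) = p := orderOf_eq_prime (by
    rw [← pow_mul, ← pow_succ, Nat.sub_add_cancel ha, ← hord, pow_orderOf_eq_one]) fun h => by
    have h2 := Nat.le_of_dvd (pow_pos hp.pos _) (orderOf_dvd_iff_pow_eq_one.mpr h)
    rw [hord] at h2
    have := (Nat.pow_le_pow_iff_right hp.one_lt).mp h2
    omega
  have h3 : Subgroup.zpowers v = Subgroup.zpowers (σ ^ p ^ (a - 1)) := by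
    refine Subgroup.eq_of_le_of_card_ge (Subgroup.zpowers_le.mpr
      (mem_bottom hp hσ ha hord (D.pow_mem hu _) hv1)) ?_
    rw [Nat.card_zpowers, Nat.card_zpowers, hord1, orderOf_eq_prime hv1 hv0]
  have h4 : σ ^ p ^ (a - 1) ∈ Subgroup.zpowers v := h3 ▸ Subgroup.mem_zpowers _
  exact Subgroup.zpowers_le.mpr (Subgroup.pow_mem _ (Subgroup.mem_zpowers u) _) h4

/-- An element outside the normalizer of the bottom moves `D` off itself. -/
theorem outer (hp : p.Prime) (hσ : Subgroup.zpowers σ = D) (ha : 1 ≤ a) (hord : orderOf σ = p ^ a) {n : G}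
    (hn : n ∉ Subgroup.normalizer (Subgroup.zpowers (σ ^ p ^ (a - 1)) : Set G)) {u : G} (hu : u ∈ D)
    (hnu : n⁻¹ * u * n ∈ D) : u = 1 := by
  by_contra hu1
  refine hn ?_
  obtain ⟨i, hi⟩ := bottom_le hp hσ ha hord hu hu1
  set v := σ ^ p ^ (a - 1) with hv
  have hvp : v ^ p = 1 := by rw [hv, ← pow_mul, ← pow_succ, Nat.sub_add_cancel ha, ← hord, pow_orderOf_eq_one]
  have hconj : n⁻¹ * v * n ∈ Subgroup.zpowers v := by
    refine mem_bottom hp hσ ha hord ?_ ?_
    · rw [← hi, show n⁻¹ * u ^ i * n = (n⁻¹ * u * n) ^ i by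
        conv_rhs => rw [show n⁻¹ * u * n = n⁻¹ * u * (n⁻¹)⁻¹ by rw [inv_inv], conj_zpow, inv_inv]]
      exact D.zpow_mem hnu i
    · rw [show n⁻¹ * v * n = n⁻¹ * v * (n⁻¹)⁻¹ by rw [inv_inv], conj_pow, hvp, mul_one, mul_inv_cancel]
  rw [← inv_mem_iff]
  refine Subgroup.mem_normalizer_iff_map_conj_eq.mpr (Subgroup.eq_of_le_of_card_ge ?_ ?_)
  · rw [MonoidHom.map_zpowers]
    refine Subgroup.zpowers_le.mpr ?_
    simpa using hconj
  · rw [Subgroup.card_map_of_injective (MulEquiv.injective _)]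

/-- The stabilizer of a pair normalizes the bottom. -/
theorem stab_norm (hp : p.Prime) (hσ : Subgroup.zpowers σ = D) (ha : 1 ≤ a) (hord : orderOf σ = p ^ a) {t : G}
    (ht : t ∈ Subgroup.normalizer (D : Set G)) :
    t ∈ Subgroup.normalizer (Subgroup.zpowers (σ ^ p ^ (a - 1)) : Set G) := by
  by_contra h
  have hσD : σ ^ p ^ (a - 1) ∈ D := D.pow_mem (hσ ▸ Subgroup.mem_zpowers σ) _
  have h1 := outer hp hσ ha hord h hσD (by
    have := (Subgroup.mem_normalizer_iff.mp (inv_mem ht) (σ ^ p ^ (a - 1))).mp hσD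
    rwa [inv_inv] at this)
  have h2 := Nat.le_of_dvd (pow_pos hp.pos _) (orderOf_dvd_iff_pow_eq_one.mpr h1)
  rw [hord] at h2
  have := (Nat.pow_le_pow_iff_right hp.one_lt).mp h2
  omega

variable {f : Set (IrrCharacter (Subgroup.centralizer (Subgroup.zpowers (σ ^ p ^ (a - 1)) : Set G)))}

/-- The stabilizer of the maximal pair stabilizes the block below. -/
theorem stab_le (hM : IsPModular p M) (hmax : IsMaximalBrauerPair p M B D c) (hσ : Subgroup.zpowers σ = D)
    (ha : 1 ≤ a) (hord : orderOf σ = p ^ a)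
    (hf : IsNormalSubpair p M (Subgroup.zpowers (σ ^ p ^ (a - 1))) f D c) :
    pairStab (pmod_prime hM) hmax.1.1.2 ≤ pairStab (pmod_prime hM) hf.1.2 := by
  intro t ht
  have hab := CyclicLocal.comm_of_gen hσ
  have hN := stab_norm hM.1 hσ ha hord ((mem_pairStab _ _).mp ht).1
  have hQD : Subgroup.zpowers (σ ^ p ^ (a - 1)) ≤ D :=
    Subgroup.zpowers_le.mpr (D.pow_mem (hσ ▸ Subgroup.mem_zpowers σ) _)
  have h2 : conjIdx t (⟨D, c⟩ : BrauerPairIdx G) = ⟨D, c⟩ := ht
  have hu : ∀ x y : BrauerPairIdx G, y = ⟨D, c⟩ → x.1 = Subgroup.zpowers (σ ^ p ^ (a - 1)) →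
      IsNormalSubpair p M x.1 x.2 y.1 y.2 → x = ⟨_, f⟩ := by
    rintro ⟨Q, f'⟩ y rfl hQ h
    simp only at hQ
    subst hQ
    obtain ⟨g, -, hg⟩ := existsUnique_normalSubpair hM hmax.1.1.1 hQD
      ((BelowData.le_centralizer hab hQD).trans (centralizer_le_norm _)) hmax.1.1.2
    rw [hg f' h, hg f hf]
  have h3 : conjIdx t (⟨_, f⟩ : BrauerPairIdx G) = ⟨_, f⟩ :=
    hu _ _ h2 (Subgroup.mem_normalizer_iff_map_conj_eq.mp hN) (normalSubpair_conj hM t hf)
  exact h3

open scoped Classical in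
set_option maxHeartbeats 1000000 in
/-- The data of the transfer. -/
theorem setting (hM : IsPModular p M) (hmax : IsMaximalBrauerPair p M B D c) (hσ : Subgroup.zpowers σ = D)
    (ha : 1 ≤ a) (hord : orderOf σ = p ^ a)
    (hf : IsNormalSubpair p M (Subgroup.zpowers (σ ^ p ^ (a - 1))) f D c)
    [Fintype (Subgroup.centralizer (Subgroup.zpowers (σ ^ p ^ (a - 1)) : Set G))]
    [Fintype (Subgroup.centralizer (Subgroup.zpowers (σ ^ p ^ (a - 1)) : Set G) ⧸
      D.subgroupOf (Subgroup.centralizer (Subgroup.zpowers (σ ^ p ^ (a - 1)) : Set G)))]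
    (hindex : ¬ p ∣ (Subgroup.centralizer (Subgroup.zpowers (σ ^ p ^ (a - 1)) : Set G)).relIndex
      (pairStab (pmod_prime hM) hf.1.2)) :
    ∃ g z w, CyclicTransfer.Setting (Res (pmod_prime hM)) D
      (Subgroup.centralizer (Subgroup.zpowers (σ ^ p ^ (a - 1)) : Set G))
      (Subgroup.normalizer (Subgroup.zpowers (σ ^ p ^ (a - 1)) : Set G))
      (pairStab (pmod_prime hM) hf.1.2) (p ^ a) (rdAlg (pmod_prime hM) (blockCoeff f)) g z w := by
  have hp := hM.1
  haveI := Fact.mk hp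
  obtain ⟨g, z, w, hloc⟩ := CyclicLocal.exists_data hM hmax hσ ha hord hf
  let hP := pmod_prime hM
  haveI : CharP (Res hP) p := charP_res hP hM
  have hab := CyclicLocal.comm_of_gen hσ
  have hQD : Subgroup.zpowers (σ ^ p ^ (a - 1)) ≤ D :=
    Subgroup.zpowers_le.mpr (D.pow_mem (hσ ▸ Subgroup.mem_zpowers σ) _)
  let H := Subgroup.centralizer (Subgroup.zpowers (σ ^ p ^ (a - 1)) : Set G)
  have hnorm : ∀ n ∈ Subgroup.normalizer (Subgroup.zpowers (σ ^ p ^ (a - 1)) : Set G), ∀ h ∈ H, n * h * n⁻¹ ∈ H :=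
    fun n hn h hh => conj_mem_centralizer hn hh
  have hrd : ∀ (φ : H → ℂ) (l : H), (rdAlg hP φ).coeff l = red hP (φ l) := by
    intro φ l
    rw [rdAlg, MonoidAlgebra.coeff_sum, Finsupp.finsetSum_apply, Finset.sum_eq_single l]
    · simp
    · intro y _ hy; simp [Finsupp.single_eq_of_ne' hy]
    · simp
  have hcoeff : ∀ n (hn : n ∈ Subgroup.normalizer (Subgroup.zpowers (σ ^ p ^ (a - 1)) : Set G)),
      ∀ (r : MonoidAlgebra (Res hP) H) (y : H),
      (CyclicTransfer.cjH H n (hnorm n hn) r).coeff y =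
        r.coeff ⟨n⁻¹ * (y : G) * n, by simpa using hnorm _ (inv_mem hn) _ y.2⟩ := by
    intro n hn r y
    have hinj : Function.Injective (CyclicTransfer.conjHom H n (hnorm n hn)) := fun u v e => by
      have := congrArg Subtype.val e
      simp [CyclicTransfer.conjHom] at this
      exact this
    conv_lhs => rw [show y = CyclicTransfer.conjHom H n (hnorm n hn)
      ⟨n⁻¹ * (y : G) * n, by simpa using hnorm _ (inv_mem hn) _ y.2⟩ from Subtype.ext (by
        simp [CyclicTransfer.conjHom, mul_assoc])]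
    exact Finsupp.mapDomain_apply hinj r.coeff _
  refine ⟨g, z, w, hloc, BelowData.le_centralizer hab hQD, (stabCtx_pairStab hM hf.1.1 hf.1.2).cent,
    fun t ht => ((mem_pairStab hP hf.1.2).mp ht).1, hnorm, fun n hn => ?_, fun n hn hnT => ?_,
    fun n hn u hu hnu => outer hp hσ ha hord hn hu hnu, fun h => hindex ?_⟩
  · have hn' := ((mem_pairStab hP hf.1.2).mp hn)
    refine CyclicCentre.ext_coeff fun y => ?_
    rw [hcoeff n hn'.1, hrd, hrd]
    refine congrArg _ ?_
    have h1 := blockCoeff_conj_eq_of_stabilizes hn'.1 hn'.2 (n⁻¹ * (y : G) * n)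
    rw [show n * (n⁻¹ * (y : G) * n) * n⁻¹ = (y : G) by group, subgroupBlockCoeff_eq,
      extendByZero_mem _ _ y.2, extendByZero_mem _ _ (show n⁻¹ * (y : G) * n ∈ _ by
        simpa using hnorm _ (inv_mem hn'.1) _ y.2)] at h1
    exact h1.symm
  · let α : H ≃* H :=
      { toFun := fun x => ⟨n⁻¹ * x * n, by simpa using hnorm _ (inv_mem hn) _ x.2⟩
        invFun := fun x => ⟨n * x * n⁻¹, hnorm _ hn _ x.2⟩
        left_inv := fun x => Subtype.ext (by simp [mul_assoc])
        right_inv := fun x => Subtype.ext (by simp [mul_assoc])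
        map_mul' := fun x y => Subtype.ext (by simp [mul_assoc]) }
    have hc' : IsPBlock M (irrTransport α '' f) := isPBlock_transport α hf.1.2
    have hne' : irrTransport α '' f ≠ f := by
      intro heq
      refine hnT ((mem_pairStab hP hf.1.2).mpr ⟨hn, ?_, fun χ hχ => ?_⟩)
      · exact Subgroup.mem_normalizer_iff.mpr fun x => ⟨fun hx => hnorm _ hn _ hx, fun hx => by
          simpa [mul_assoc] using hnorm _ (inv_mem hn) _ hx⟩
      · refine ⟨irrTransport α χ, heq ▸ ⟨χ, hχ, rfl⟩, fun k₁ k₂ hk => ?_⟩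
        rw [irrTransport_apply]
        refine congrArg _ (Subtype.ext ?_)
        show n⁻¹ * (k₂ : G) * n = k₁
        rw [hk]
        group
    have hcj : CyclicTransfer.cjH H n (hnorm n hn) (rdAlg hP (blockCoeff f)) =
        rdAlg hP (blockCoeff (irrTransport α '' f)) := by
      refine CyclicCentre.ext_coeff fun y => ?_
      rw [hcoeff n hn, hrd, hrd, blockCoeff_transport]
      rfl
    rw [hcj, ← rdAlg_conv hP (memLR_blockCoeff hM hc') (memLR_blockCoeff hM hf.1.2),
      conv_blockCoeff_ne hP hc' hf.1.2 hne']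
    exact (rdAlg_eq_zero_iff hP (f := (0 : H → ℂ)) fun _ => memLR_zero hP).mpr fun _ => memLI_zero hP
  · exact (CharP.cast_eq_zero_iff (Res hP) p _).mp h

open scoped Classical in
/-- The idempotent of the block acts as the identity on the block below. -/
theorem block_one (hM : IsPModular p M) (hmax : IsMaximalBrauerPair p M B D c) {Q : Subgroup G}
    {f : Set (IrrCharacter (Subgroup.centralizer (Q : Set G)))} (hf : IsNormalSubpair p M Q f D c)
    [Fintype (Subgroup.centralizer (Q : Set G))] :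
    rdAlg (pmod_prime hM) (fun x : Subgroup.centralizer (Q : Set G) => blockCoeff B (x : G)) *
      rdAlg (pmod_prime hM) (blockCoeff f) = rdAlg (pmod_prime hM) (blockCoeff f) := by
  set hP := pmod_prime hM
  have hB : IsPBlock M B := hmax.1.2.1
  have hcl := isClassFunction_blockCoeff B
  have hgood : IsGoodFun M Q (blockCoeff B) :=
    ⟨memLR_blockCoeff hM hB, fun u _ y => hcl y u, fun u _ y => hcl y u⟩
  have hi := isModIdem_tr hM hf.1.1 hgood (conv_blockCoeff B)
  obtain ⟨ξ, hξ⟩ := block_nonempty hP hf.1.2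
  have h1 := ((brauerPairOf_iff hM hB hf).mpr hmax.1).2.2 ξ hξ
  rw [brauerOmega_eq] at h1
  have hR := memLR_blockCoeff hM hf.1.2
  rw [show (fun x : Subgroup.centralizer (Q : Set G) => blockCoeff B (x : G)) = tr Q (blockCoeff B) from rfl,
    ← rdAlg_conv hP hi.1.2 hR]
  refine CyclicCentre.ext_coeff fun x => ?_
  have hrd : ∀ (φ : Subgroup.centralizer (Q : Set G) → ℂ) l, (rdAlg hP φ).coeff l = red hP (φ l) := by
    intro φ l
    rw [rdAlg, MonoidAlgebra.coeff_sum, Finsupp.finsetSum_apply, Finset.sum_eq_single l]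
    · simp
    · intro y _ hy; simp [Finsupp.single_eq_of_ne' hy]
    · simp
  rw [hrd, hrd, red_eq_iff hP ((hi.mul hP (isModIdem_blockCoeff hM hf.1.2)).1.2 x) (hR x)]
  refine memLI_trans hP (conv_idem_block hM hi hf.1.2 hξ x) ?_
  rw [Pi.smul_apply, smul_eq_mul, ← sub_one_mul]
  exact memLI_mul_right hP h1 (hR x)

end Cfsg.Agent.Char.CyclicRank
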