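import Cfsg.Agent.Lib.Char.GaloisConj
import Cfsg.Agent.Lib.Char.CoprimeMcKay
import Cfsg.Agent.Lib.Char.OverBlock
import Cfsg.Agent.Lib.Char.Rational
import Cfsg.Agent.Lib.Char.FreeTrace

/-!
# Canonical extensions along a coprime cyclic action
-/

set_option autoImplicit false
set_option linter.unusedSectionVars false
set_option linter.style.haveILetI false

namespace Cfsg.Agent.Char

open Cfsg Module
open scoped ComplexConjugate

universe u

/-- A coprime cyclic action inside a group. -/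
structure CycCtx {Γ : Type u} [Group Γ] (G S C : Subgroup Γ) : Prop where
  norm : ∀ s ∈ S, ∀ g ∈ G, s * g * s⁻¹ ∈ G
  cop : (Nat.card G).Coprime (Nat.card S)
  top : G ⊔ S = ⊤
  cyc : IsCyclic S
  cent : C = G ⊓ Subgroup.centralizer (S : Set Γ)

variable {Γ : Type u} [Group Γ] [Fintype Γ] {G S C : Subgroup Γ}

theorem CycCtx.normal (h : CycCtx G S C) : G.Normal :=
  Subgroup.normalizer_eq_top_iff.mp (top_le_iff.mp (h.top ▸ sup_le Subgroup.le_normalizer (fun s hs =>
    Subgroup.mem_normalizer_iff.2 fun g => ⟨fun hg => h.norm s hs g hg, fun hg => by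
      have := h.norm s⁻¹ (S.inv_mem hs) _ hg
      simpa [mul_assoc] using this⟩)))

theorem CycCtx.compl (h : CycCtx G S C) : S.IsComplement' G := by
  haveI := h.normal
  refine Subgroup.isComplement'_of_disjoint_and_mul_eq_univ
    (disjoint_iff.2 (Subgroup.inf_eq_bot_of_coprime h.cop.symm)) ?_
  rw [← Subgroup.mul_normal, sup_comm, h.top, Subgroup.coe_top]

theorem CycCtx.card_eq (h : CycCtx G S C) : Nat.card Γ = Nat.card S * Nat.card G :=
  h.compl.card_mul_card.symm

theorem CycCtx.comm (h : CycCtx G S C) {c s : Γ} (hc : c ∈ C) (hs : s ∈ S) : Commute c s := by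
  rw [h.cent] at hc
  exact (Subgroup.mem_centralizer_iff.1 hc.2 s hs).symm

theorem CycCtx.le (h : CycCtx G S C) : C ≤ G := h.cent ▸ inf_le_left

/-- A power that is the identity on `G` and a prescribed power on `S`. -/
theorem CycCtx.exists_pow (h : CycCtx G S C) {k : ℕ} (hk : k.Coprime (Nat.card S)) :
    ∃ k' : ℕ, k'.Coprime (Nat.card Γ) ∧ (∀ g ∈ G, g ^ k' = g) ∧ (∀ s ∈ S, s ^ k' = s ^ k) ∧
      k' ≡ 1 [MOD Nat.card G] := by
  obtain ⟨k', h1, h2⟩ := Nat.chineseRemainder h.cop 1 k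
  refine ⟨k', ?_, fun g hg => ?_, fun s hs => ?_, h1⟩
  · rw [h.card_eq]
    exact Nat.Coprime.mul_right ((h2.gcd_eq).trans hk) ((h1.gcd_eq).trans (Nat.gcd_one_left _))
  · conv_rhs => rw [← pow_one g]
    exact pow_eq_pow_iff_modEq.2 (h1.of_dvd (Subgroup.orderOf_dvd_natCard G hg))
  · exact pow_eq_pow_iff_modEq.2 (h2.of_dvd (Subgroup.orderOf_dvd_natCard S hs))

/-- The coset of a generator of `S` is the union of the conjugates of its part over `C`. -/
theorem CycCtx.sum_coset [Fintype G] [Fintype C] (h : CycCtx G S C) {u : Γ}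
    (hu : Subgroup.zpowers u = S) {F : Γ → ℂ} (hF : IsClassFunction Γ F) :
    (Nat.card G : ℂ)⁻¹ * ∑ g : G, F ((g : Γ) * u) =
      (Nat.card C : ℂ)⁻¹ * ∑ c : C, F ((c : Γ) * u) := by
  classical
  haveI := h.normal
  have huS : u ∈ S := hu ▸ Subgroup.mem_zpowers u
  let D := C.subgroupOf G
  haveI : Fintype (G ⧸ D) := Fintype.ofFinite _
  let P : (G ⧸ D) × C → G := fun x =>
    ⟨((x.1.out : G) : Γ) * ((x.2 : Γ) * u) * ((x.1.out : G) : Γ)⁻¹ * u⁻¹, by
      have h2 : u * ((x.1.out : G) : Γ)⁻¹ * u⁻¹ ∈ G :=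
        h.norm u huS _ (G.inv_mem (x.1.out : G).2)
      have := G.mul_mem (G.mul_mem (x.1.out : G).2 (h.le x.2.2)) h2
      simpa [mul_assoc] using this⟩
  have hcomm : ∀ (x : Γ), x ∈ G → x * u * x⁻¹ = u → x ∈ C := by
    intro x hx hxu
    rw [h.cent]
    refine ⟨hx, Subgroup.mem_centralizer_iff.2 fun s hs => ?_⟩
    rw [← hu] at hs
    obtain ⟨n, rfl⟩ := Subgroup.mem_zpowers_iff.1 hs
    exact ((show Commute x u from mul_inv_eq_iff_eq_mul.1 hxu).zpow_right n).symm.eq
  obtain ⟨k, hk1, hk0⟩ := Nat.chineseRemainder h.cop.symm 1 0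
  have hpart : ∀ c : C, ((c : Γ) * u) ^ k = u := fun c => by
    rw [(h.comm c.2 huS).mul_pow]
    have e1 : (c : Γ) ^ k = 1 := orderOf_dvd_iff_pow_eq_one.1
      ((Subgroup.orderOf_dvd_natCard G (h.le c.2)).trans (Nat.modEq_zero_iff_dvd.1 hk0))
    have e2 : u ^ k = u := by
      conv_rhs => rw [← pow_one u]
      exact pow_eq_pow_iff_modEq.2 (hk1.of_dvd (Subgroup.orderOf_dvd_natCard S huS))
    rw [e1, e2, one_mul]
  have hinj : Function.Injective P := by
    rintro ⟨q, c⟩ ⟨q', c'⟩ e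
    have e1 : ((q.out : G) : Γ) * ((c : Γ) * u) * ((q.out : G) : Γ)⁻¹ =
        ((q'.out : G) : Γ) * ((c' : Γ) * u) * ((q'.out : G) : Γ)⁻¹ :=
      mul_right_cancel (congrArg Subtype.val e)
    have e2 := congrArg (fun x => x ^ k) e1
    simp only [conj_pow, hpart] at e2
    have hq : q = q' := by
      rw [← QuotientGroup.out_eq' q, ← QuotientGroup.out_eq' q', QuotientGroup.eq]
      refine Subgroup.mem_subgroupOf.2 (hcomm _ ((q.out : G)⁻¹ * q'.out).2 ?_)
      push_cast
      rw [mul_inv_rev, inv_inv]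
      calc _ = ((q.out : G) : Γ)⁻¹ * (((q'.out : G) : Γ) * u * ((q'.out : G) : Γ)⁻¹) * (q.out : G) := by
            group
        _ = u := by rw [← e2]; group
    subst hq
    refine Prod.ext rfl (Subtype.ext ?_)
    exact mul_right_cancel (mul_left_cancel (mul_right_cancel e1))
  have hD : Nat.card D = Nat.card C := Nat.card_congr (Subgroup.subgroupOfEquivOfLe h.le).toEquiv
  have hcard : Fintype.card ((G ⧸ D) × C) = Fintype.card G := by
    rw [← Nat.card_eq_fintype_card, ← Nat.card_eq_fintype_card, Nat.card_prod, ← hD,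
      ← Subgroup.card_eq_card_quotient_mul_card_subgroup]
  have hbij : Function.Bijective P := (Fintype.bijective_iff_injective_and_card P).2 ⟨hinj, hcard⟩
  rw [← hbij.sum_comp (fun g : G => F ((g : Γ) * u)), Fintype.sum_prod_type]
  have hval : ∀ q : G ⧸ D, ∑ c : C, F (((P (q, c) : G) : Γ) * u) = ∑ c : C, F ((c : Γ) * u) :=
    fun q => Finset.sum_congr rfl fun c _ => by
      simp only [P, inv_mul_cancel_right]
      exact hF _ _
  rw [Finset.sum_congr rfl (fun q _ => hval q), Finset.sum_const, Finset.card_univ, nsmul_eq_mul,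
    ← Nat.card_eq_fintype_card, Subgroup.card_eq_card_quotient_mul_card_subgroup D, hD]
  push_cast
  have hq : (Nat.card (G ⧸ D) : ℂ) ≠ 0 := Nat.cast_ne_zero.2 Nat.card_pos.ne'
  field_simp

/-- The inner product of two extensions over a coset of a generator. -/
theorem CycCtx.coset_inner [Fintype G] (h : CycCtx G S C) {u : Γ} (hu : u ∈ S)
    (χ χ' : IrrCharacter G) {f f' : Γ → ℂ} (hf : IsIrrCharacter Γ f) (hf' : IsIrrCharacter Γ f')
    (hr : ∀ g : G, f g = (χ : G → ℂ) g) (hr' : ∀ g : G, f' g = (χ' : G → ℂ) g)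
    (heq : χ = χ' → f = f') :
    (Nat.card G : ℂ)⁻¹ * ∑ g : G, f ((g : Γ) * u) * conj (f' ((g : Γ) * u)) =
      if χ = χ' then 1 else 0 := by
  classical
  haveI := h.normal
  haveI := finite_hom_units S
  haveI := Fintype.ofFinite (S →* ℂˣ)
  have hcy := h.cyc
  have hScomm : ∀ a b : S, a * b = b * a := fun a b => (IsCyclic.commGroup (α := S)).mul_comm a b
  let pr : Γ →* S := h.compl.QuotientMulEquiv.toMonoidHom.comp (QuotientGroup.mk' G)
  have hprG : ∀ g : G, pr (g : Γ) = 1 := fun g => by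
    show h.compl.QuotientMulEquiv _ = 1
    rw [QuotientGroup.mk'_apply, (QuotientGroup.eq_one_iff (g : Γ)).2 g.2, map_one]
  have hker : ∀ x : Γ, pr x = pr u ↔ x * u⁻¹ ∈ G := fun x => by
    show h.compl.QuotientMulEquiv _ = h.compl.QuotientMulEquiv _ ↔ _
    rw [h.compl.QuotientMulEquiv.injective.eq_iff, QuotientGroup.mk'_apply, QuotientGroup.mk'_apply,
      ← div_eq_one, ← QuotientGroup.mk_div, QuotientGroup.eq_one_iff, div_eq_mul_inv]
  let F : Γ → ℂ := fun x => f x * conj (f' x)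
  -- twisted inner products
  have hinner : ∀ l : S →* ℂˣ, classInner (fun x => (l (pr x) : ℂ) * f x) f' =
      if χ = χ' ∧ l = 1 then 1 else 0 := by
    intro l
    have hl := isIrr_linear_mul hf (l.comp pr)
    split_ifs with hc
    · obtain ⟨hc1, rfl⟩ := hc
      rw [← heq hc1]
      simp [irr_self hf]
    · have := irrC_orth (⟨_, hl⟩ : IrrCharacter Γ) ⟨f', hf'⟩
      rw [if_neg] at this
      · exact this
      intro e
      have e' : (fun x => (l (pr x) : ℂ) * f x) = f' := congrArg Subtype.val e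
      have hχ : χ = χ' := Subtype.ext (funext fun g => by
        have := congrFun e' (g : Γ)
        simpa [hprG, hr, hr'] using this)
      refine hc ⟨hχ, ?_⟩
      rw [← heq hχ] at e'
      have hlin : ∀ m : S →* ℂˣ, IsIrrCharacter Γ (fun x => (m (pr x) : ℂ)) ∧
          classInner (indFun G (fun _ => 1)) (fun x => (m (pr x) : ℂ)) ≠ 0 := fun m => by
        have h1 := isIrrCharacter_linear (m.comp pr)
        refine ⟨h1, (constituent_indFun_one_iff G h1).2 fun g => ?_⟩
        simp [hprG]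
      have hinv : ∀ (x : Γ) (g : G), (χ : G → ℂ) (MulAut.conjNormal x g) = (χ : G → ℂ) g := fun x g => by
        rw [← hr, ← hr, MulAut.conjNormal_apply]
        exact isClassFunction_character (irr_isCharacter hf) _ _
      have gal := gallagher G (fun _ => 1) (χ : G → ℂ) isIrrCharacter_one (fun _ _ => rfl) hinv
        (by simpa [show ((fun _ => 1) * (χ : G → ℂ)) = (χ : G → ℂ) from one_mul _] using χ.2)
        (irr_isCharacter hf) hr
      have e2 := gal.injOn (hlin l) (hlin 1) (by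
        show (fun x => (l (pr x) : ℂ)) * f = (fun x => ((1 : S →* ℂˣ) (pr x) : ℂ)) * f
        funext x
        simpa using congrFun e' x)
      refine MonoidHom.ext fun a => Units.ext ?_
      have hs : pr (a : Γ) = a := by
        show h.compl.QuotientMulEquiv (QuotientGroup.mk (a : Γ)) = a
        rw [show (QuotientGroup.mk (a : Γ) : Γ ⧸ G) = h.compl.QuotientMulEquiv.symm a from rfl,
          MulEquiv.apply_symm_apply]
      simpa [hs] using congrFun e2 (a : Γ)
  have hdelta : ∀ x : Γ, ∑ l : S →* ℂˣ, (l (pr x) : ℂ) * ((l (pr u))⁻¹ : ℂˣ) =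
      if x * u⁻¹ ∈ G then (Nat.card S : ℂ) else 0 := fun x => by
    have h1 := sum_hom_apply hScomm (pr x * (pr u)⁻¹)
    simp only [map_mul, map_inv, Units.val_mul, mul_inv_eq_one, hker] at h1
    exact h1
  have key : (Nat.card S : ℂ) * ∑ g : G, F ((g : Γ) * u) =
      (Nat.card Γ : ℂ) * if χ = χ' then 1 else 0 := by
    have h1 : ∑ x : Γ, F x * ∑ l : S →* ℂˣ, (l (pr x) : ℂ) * ((l (pr u))⁻¹ : ℂˣ) =
        (Nat.card S : ℂ) * ∑ g : G, F ((g : Γ) * u) := by
      simp only [hdelta, mul_ite, mul_zero, ← Finset.sum_filter]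
      rw [Finset.mul_sum]
      refine Eq.symm (Finset.sum_bij (fun (g : G) _ => (g : Γ) * u) (fun g _ => by simp)
        (fun a _ b _ e => Subtype.ext (mul_right_cancel e))
        (fun x hx => ⟨⟨x * u⁻¹, (Finset.mem_filter.1 hx).2⟩, Finset.mem_univ _, by simp⟩)
        fun g _ => mul_comm _ _)
    rw [← h1]
    simp only [Finset.mul_sum]
    rw [Finset.sum_comm]
    have h2 : ∀ l : S →* ℂˣ, ∑ x : Γ, F x * ((l (pr x) : ℂ) * ((l (pr u))⁻¹ : ℂˣ)) =
        ((l (pr u))⁻¹ : ℂˣ) * ((Nat.card Γ : ℂ) *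
          classInner (fun x => (l (pr x) : ℂ) * f x) f') := fun l => by
      rw [classInner, ← mul_assoc ((Nat.card Γ : ℂ)),
        mul_inv_cancel₀ (Nat.cast_ne_zero.2 Nat.card_pos.ne'), one_mul, Finset.mul_sum]
      exact Finset.sum_congr rfl fun x _ => by simp only [F]; ring
    rw [Finset.sum_congr rfl fun l _ => h2 l, Finset.sum_eq_single (1 : S →* ℂˣ)]
    · rw [hinner]
      simp
    · intro l _ hl
      rw [hinner, if_neg fun hc => hl hc.2, mul_zero, mul_zero]
    · simp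
  have hG : (Nat.card G : ℂ) ≠ 0 := Nat.cast_ne_zero.2 Nat.card_pos.ne'
  have hS : (Nat.card S : ℂ) ≠ 0 := Nat.cast_ne_zero.2 Nat.card_pos.ne'
  rw [h.card_eq] at key
  push_cast at key
  rw [mul_assoc] at key
  show (Nat.card G : ℂ)⁻¹ * ∑ g : G, F ((g : Γ) * u) = _
  rw [mul_left_cancel₀ hS key]
  field_simp

/-- The value on the coset of a generator is independent of the generator. -/
theorem CycCtx.gen_invariant [Fintype G] (h : CycCtx G S C) (χ : IrrCharacter G) {f : Γ → ℂ}
    (hf : IsIrrCharacter Γ f) (hr : ∀ g : G, f g = (χ : G → ℂ) g)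
    (hdet : (detOrder f).Coprime (Nat.card S)) {c u : Γ} (hc : c ∈ C) (hu : u ∈ S) {k : ℕ}
    (hk : k.Coprime (Nat.card S)) : f (c * u ^ k) = f (c * u) := by
  classical
  haveI := h.normal
  obtain ⟨k', hk', hG, hS, h1G⟩ := h.exists_pow hk
  have hdG : detOrder f ∣ Nat.card G :=
    hdet.dvd_of_dvd_mul_left (h.card_eq ▸ detOrder_dvd_card (irr_isCharacter hf))
  obtain ⟨n, ρ, hρ⟩ := irr_isCharacter hf
  have hd : detChar (fun g => f (g ^ k')) = detChar f := by
    rw [detChar_pow (irr_isCharacter hf) hk', detChar_eq_hom ρ hρ]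
    funext g
    rw [detOrder_eq ρ hρ] at hdG
    show (detHom ρ g : ℂ) ^ k' = (detHom ρ g : ℂ)
    rw [← Units.val_pow_eq_pow_val]
    refine congrArg Units.val ?_
    have ho : orderOf (detHom ρ g) ∣ Nat.card G :=
      (orderOf_dvd_of_pow_eq_one (by
        rw [← MonoidHom.pow_apply, pow_orderOf_eq_one, MonoidHom.one_apply])).trans hdG
    conv_rhs => rw [← pow_one (detHom ρ g)]
    exact pow_eq_pow_iff_modEq.2 (h1G.of_dvd ho)
  have hres : ∀ g : G, f ((g : Γ) ^ k') = (χ : G → ℂ) g := fun g => by rw [hG g g.2, hr]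
  have e := extension_unique_of_det G χ.2 (deg (χ : G → ℂ)) (char_one_eq_deg (irr_isCharacter χ.2))
    (h.compl.index_eq_card ▸ (h.cop.coprime_dvd_left (deg_dvd_card χ.2)).symm)
    (irr_isCharacter hf) (irr_isCharacter (isIrrCharacter_pow hf hk')) hr hres hd
  have := congrFun e (c * u)
  rw [(h.comm hc hu).mul_pow, hG c (h.le hc), hS u hu] at this
  exact this

/-- An invariant character has an extension with determinant order prime to `|S|`. -/
theorem CycCtx.exists_ext [Fintype G] (h : CycCtx G S C) (χ : IrrCharacter G)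
    (hinv : ∀ s ∈ S, ∀ g g' : G, (g' : Γ) = s * g * s⁻¹ → (χ : G → ℂ) g' = (χ : G → ℂ) g) :
    ∃ f : IrrCharacter Γ, (∀ g : G, (f : Γ → ℂ) g = (χ : G → ℂ) g) ∧
      (detOrder (f : Γ → ℂ)).Coprime (Nat.card S) := by
  classical
  haveI := h.normal
  have hinv' : ∀ (x : Γ) (g : G), (χ : G → ℂ) (MulAut.conjNormal x g) = (χ : G → ℂ) g := by
    intro x g
    obtain ⟨⟨s, k⟩, rfl⟩ := h.compl.2 x
    show (χ : G → ℂ) (MulAut.conjNormal ((s : Γ) * (k : Γ)) g) = _
    rw [map_mul, MulAut.mul_apply]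
    refine (hinv s s.2 _ _ (MulAut.conjNormal_apply _ _)).trans ?_
    rw [show MulAut.conjNormal (k : Γ) g = k * g * k⁻¹ from Subtype.ext (by simp),
      isClassFunction_character (irr_isCharacter χ.2)]
  have hcd : G.index.Coprime (deg (χ : G → ℂ)) :=
    h.compl.index_eq_card ▸ h.cop.symm.coprime_dvd_right (deg_dvd_card χ.2)
  obtain ⟨d, σ, hσ⟩ := irr_isCharacter χ.2
  have hσinv : ∀ (x : Γ) (g : G), detHom σ (MulAut.conjNormal x g) = detHom σ g := fun x g => by
    apply Units.ext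
    have e := detChar_conj_inv G (irr_isCharacter χ.2) hinv' x g
    rw [detChar_eq_hom σ hσ] at e
    exact e
  have ho : orderOf (detHom σ) ∣ Nat.card G :=
    orderOf_dvd_of_pow_eq_one (MonoidHom.ext fun z => by
      rw [MonoidHom.pow_apply, MonoidHom.one_apply, ← map_pow, pow_card_eq_one', map_one])
  obtain ⟨μ, hμ, hμo⟩ := exists_linear_extension_coprime G (detHom σ) hσinv
    (h.compl.index_eq_card ▸ h.cop.symm.coprime_dvd_right ho)
  have hμ' : ∀ g : G, (μ (g : Γ) : ℂ) = detChar (χ : G → ℂ) g := fun g => by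
    rw [hμ, detChar_eq_hom σ hσ]
  obtain ⟨η, hη, hηr⟩ := exists_extension_of_det_extension G χ.2 hinv' (deg (χ : G → ℂ))
    (char_one_eq_deg (irr_isCharacter χ.2)) hcd μ hμ'
  obtain ⟨f, ⟨hf, hfr, hfd⟩, -⟩ := existsUnique_extension_det G χ.2 (deg (χ : G → ℂ))
    (char_one_eq_deg (irr_isCharacter χ.2)) hcd hη hηr μ hμ'
  refine ⟨⟨f, hf⟩, hfr, ?_⟩
  show (detOrder f).Coprime _
  rw [detOrder, hfd, orderOf_coe_hom, hμo]
  exact h.cop.coprime_dvd_left ho

/-- Extensions of one character with determinant order prime to `|S|` agree. -/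
theorem CycCtx.ext_unique [Fintype G] (h : CycCtx G S C) (χ : IrrCharacter G) {f f' : Γ → ℂ}
    (hf : IsIrrCharacter Γ f) (hf' : IsIrrCharacter Γ f') (hr : ∀ g : G, f g = (χ : G → ℂ) g)
    (hr' : ∀ g : G, f' g = (χ : G → ℂ) g) (hd : (detOrder f).Coprime (Nat.card S))
    (hd' : (detOrder f').Coprime (Nat.card S)) : f = f' := by
  classical
  haveI := h.normal
  obtain ⟨n, ρ, hρ⟩ := irr_isCharacter hf
  obtain ⟨n', ρ', hρ'⟩ := irr_isCharacter hf'
  refine extension_unique_of_det G χ.2 (deg (χ : G → ℂ)) (char_one_eq_deg (irr_isCharacter χ.2))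
    (h.compl.index_eq_card ▸ (h.cop.coprime_dvd_left (deg_dvd_card χ.2)).symm)
    (irr_isCharacter hf') (irr_isCharacter hf) hr' hr ?_
  have h1 : detHom ρ = detHom ρ' := by
    refine linear_extension_unique G (μ := detHom ρ') (fun g => Units.ext ?_) ?_ ?_
    · have e1 := detChar_restrict G (irr_isCharacter hf) hr g
      have e2 := detChar_restrict G (irr_isCharacter hf') hr' g
      rw [detChar_eq_hom ρ hρ] at e1
      rw [detChar_eq_hom ρ' hρ'] at e2
      exact e1.trans e2.symm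
    · rw [h.compl.index_eq_card, ← detOrder_eq ρ' hρ']
      exact hd'.symm
    · rw [h.compl.index_eq_card, ← detOrder_eq ρ hρ]
      exact hd.symm
  rw [detChar_eq_hom ρ hρ, detChar_eq_hom ρ' hρ', h1]

/-- The values of the canonical extension on the coset of a generator. -/
theorem CycCtx.exists_sign [Fintype G] [Fintype C] (h : CycCtx G S C) (χ : IrrCharacter G)
    (f : IrrCharacter Γ) (hr : ∀ g : G, (f : Γ → ℂ) g = (χ : G → ℂ) g)
    (hdet : (detOrder (f : Γ → ℂ)).Coprime (Nat.card S)) :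
    ∃ (β : IrrCharacter C) (ε : ℤ), (ε = 1 ∨ ε = -1) ∧
      (∀ c : C, ∀ u : Γ, Subgroup.zpowers u = S →
        (f : Γ → ℂ) ((c : Γ) * u) = (ε : ℂ) * (β : C → ℂ) c) ∧
      classInner (fun c : C => (χ : G → ℂ) ⟨c, h.le c.2⟩) (β : C → ℂ) ≠ 0 := by
  classical
  haveI := h.normal
  haveI := h.cyc
  haveI := Fintype.ofFinite S
  obtain ⟨⟨u₀, hu₀⟩, hgen⟩ := IsCyclic.exists_zpow_surjective (G := S)
  have hS0 : Subgroup.zpowers u₀ = S := le_antisymm ((Subgroup.zpowers_le).2 hu₀) fun s hs => by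
    obtain ⟨n, hn⟩ := hgen ⟨s, hs⟩
    exact Subgroup.mem_zpowers_iff.2 ⟨n, congrArg Subtype.val hn⟩
  let ι : C × S →* Γ :=
    { toFun := fun x => (x.1 : Γ) * x.2
      map_one' := by simp
      map_mul' := fun x y => by
        simp only [Prod.fst_mul, Prod.snd_mul, Subgroup.coe_mul]
        rw [mul_assoc, ← mul_assoc (y.1 : Γ), (h.comm y.1.2 x.2.2).eq, mul_assoc, ← mul_assoc] }
  have hψ : IsCharacter (C × S) (fun x => (f : Γ → ℂ) (ι x)) := isCharacter_comp ι (irr_isCharacter f.2)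
  let u : S := ⟨u₀, hu₀⟩
  let F : C → ℂ := fun c => (f : Γ → ℂ) ((c : Γ) * u₀)
  have hFc : IsClassFunction C F := fun a b => by
    show (f : Γ → ℂ) (((b : Γ) * a * (b : Γ)⁻¹) * u₀) = (f : Γ → ℂ) ((a : Γ) * u₀)
    rw [show ((b : Γ) * a * (b : Γ)⁻¹) * u₀ = b * ((a : Γ) * u₀) * (b : Γ)⁻¹ by
      rw [mul_assoc, ((h.comm b.2 hu₀).inv_left).eq]; group,
      isClassFunction_character (irr_isCharacter f.2)]
  obtain ⟨m, hm⟩ := exists_decomposition hψ
  -- the coefficients are algebraic integers with a nonzero multiplicity behind them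
  have hcoef : ∀ β : IrrCharacter C, ∃ (w : IrrCharacter (C × S) → ℂ) (n : IrrCharacter (C × S) → ℕ),
      (∀ ξ, IsIntegral ℤ (w ξ)) ∧
      classInner F (β : C → ℂ) = ∑ ξ, w ξ * (n ξ : ℂ) ∧
      classInner (fun c : C => (χ : G → ℂ) ⟨c, h.le c.2⟩) (β : C → ℂ) = ∑ ξ, (n ξ : ℂ) := by
    intro β
    have hx : ∀ ξ : IrrCharacter (C × S), ∃ n : ℕ,
        classInner (fun c : C => (ξ : C × S → ℂ) (c, 1)) (β : C → ℂ) = n := fun ξ =>
      classInner_natCast (isCharacter_comp (MonoidHom.inl C S) (irr_isCharacter ξ.2))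
        (irr_isCharacter β.2)
    choose n hn using hx
    have hz : ((1 : C), u) ∈ Subgroup.center (C × S) := Subgroup.mem_center_iff.2 fun x =>
      Prod.ext (by simp) ((IsCyclic.commGroup (α := S)).mul_comm _ _)
    refine ⟨fun ξ => (ξ : C × S → ℂ) (1, u) / (ξ : C × S → ℂ) 1, fun ξ => m ξ * n ξ, fun ξ => ?_,
      ?_, ?_⟩
    · have := omega_isIntegral ξ.2 ((1 : C), u)
      rw [omega, card_conjClass_eq_index,
        show Subgroup.centralizer ({((1 : C), u)} : Set (C × S)) = ⊤ from top_le_iff.1 fun x _ =>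
          Subgroup.mem_centralizer_iff.2 fun y hy => by
            rw [Set.mem_singleton_iff.1 hy]; exact (Subgroup.mem_center_iff.1 hz x).symm,
        Subgroup.index_top] at this
      simpa using this
    · rw [show F = ∑ ξ : IrrCharacter (C × S),
          ((m ξ : ℂ) * ((ξ : C × S → ℂ) (1, u) / (ξ : C × S → ℂ) 1)) •
            fun c : C => (ξ : C × S → ℂ) (c, 1) from funext fun c => by
        have e := congrFun hm (c, u)
        simp only [Finset.sum_apply, Pi.smul_apply, nsmul_eq_mul, Pi.mul_apply, Pi.natCast_apply] at e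
        simp only [Finset.sum_apply, Pi.smul_apply, smul_eq_mul]
        refine e.trans (Finset.sum_congr rfl fun ξ _ => ?_)
        rw [show (c, u) = ((1 : C), u) * (c, 1) from Prod.ext (one_mul _).symm (mul_one _).symm,
          char_central_mul ξ.2 hz]
        ring,
        classInner_sum_left]
      refine Finset.sum_congr rfl fun ξ _ => ?_
      rw [classInner_smul_left, hn]
      push_cast
      ring
    · rw [show (fun c : C => (χ : G → ℂ) ⟨c, h.le c.2⟩) = ∑ ξ : IrrCharacter (C × S),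
          (m ξ : ℂ) • fun c : C => (ξ : C × S → ℂ) (c, 1) from funext fun c => by
        have e := congrFun hm (c, 1)
        simp only [Finset.sum_apply, Pi.smul_apply, nsmul_eq_mul, Pi.mul_apply, Pi.natCast_apply] at e
        simp only [Finset.sum_apply, Pi.smul_apply, smul_eq_mul]
        rw [← e, ← hr]
        show (f : Γ → ℂ) c = (f : Γ → ℂ) ((c : Γ) * ((1 : S) : Γ))
        rw [Subgroup.coe_one, mul_one],
        classInner_sum_left]
      refine Finset.sum_congr rfl fun ξ _ => ?_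
      rw [classInner_smul_left, hn]
      push_cast
      rfl
  -- they are rational
  have hrat : ∀ β : IrrCharacter C, ∃ z : ℤ, classInner F (β : C → ℂ) = z := by
    intro β
    let Ψ : C × S → ℂ := fun x => (f : Γ → ℂ) (ι x) * (β : C → ℂ) (x⁻¹).1
    have hgal : GalEquiv Ψ := galEquiv_mul (galEquiv_char hψ)
      (galEquiv_inv (galEquiv_char (isCharacter_comp (MonoidHom.fst C S) (irr_isCharacter β.2))))
    choose hmem hφ using hgal
    have hn0 : Nat.card (C × S) ≠ 0 := Nat.card_pos.ne'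
    obtain ⟨q, hq⟩ := exists_rat_of_fixed (n := Nat.card (C × S)) hn0
      (z := ∑ c : C, Ψ (c, u))
      (sum_mem fun c _ => hmem (c, u)) fun φ => by
        obtain ⟨k, hk, hμ⟩ := exists_power_of_embedding hn0 φ
        have e : (⟨_, sum_mem fun c _ => hmem (c, u)⟩ : Char.cyc (Nat.card (C × S))) =
            ∑ c : C, ⟨_, hmem (c, u)⟩ := Subtype.ext (by
          rw [AddSubmonoidClass.coe_finsetSum])
        rw [e, map_sum, Finset.sum_congr rfl fun c _ => hφ (c, u) φ k hk hμ]
        have hk' : k.Coprime (Nat.card C) ∧ k.Coprime (Nat.card S) := by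
          rw [Nat.card_prod] at hk
          exact ⟨hk.coprime_mul_right_right, hk.coprime_mul_left_right⟩
        refine (Fintype.sum_equiv (powCoprime hk'.1.symm) _ _ fun c => ?_).trans rfl
        simp only [Ψ, powCoprime_apply, Prod.pow_mk, Prod.inv_mk]
        congr 1
        exact h.gen_invariant χ f.2 hr hdet (c ^ k).2 hu₀ hk'.2
    have hci : classInner F (β : C → ℂ) = (((Nat.card C : ℚ)⁻¹ * q : ℚ) : ℂ) := by
      push_cast
      rw [← hq, classInner]
      congr 1
      refine Finset.sum_congr rfl fun c _ => ?_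
      simp only [Ψ, Prod.inv_mk]
      rw [char_inv (irr_isCharacter β.2)]
      rfl
    obtain ⟨w, n, hw, he, -⟩ := hcoef β
    obtain ⟨z, hz⟩ := isIntegral_rat_cast_imp (q := (Nat.card C : ℚ)⁻¹ * q)
      (hci ▸ he ▸ IsIntegral.sum _ fun ξ _ => (hw ξ).mul (isIntegral_algebraMap (R := ℤ) (x := (n ξ : ℤ))))
    exact ⟨z, by rw [hci, ← hz]; push_cast; rfl⟩
  choose z hz using hrat
  have hexp : F = ∑ β : IrrCharacter C, (z β : ℂ) • (β : C → ℂ) := by
    conv_lhs => rw [classFun_expansion hFc]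
    exact Finset.sum_congr rfl fun β _ => by rw [hz]
  have hnorm : classInner F F = 1 := by
    have h1 := h.sum_coset hS0 (F := fun x => (f : Γ → ℂ) x * conj ((f : Γ → ℂ) x)) fun a b => by
      simp only [isClassFunction_character (irr_isCharacter f.2) a b]
    have h2 := h.coset_inner hu₀ χ χ f.2 f.2 hr hr fun _ => rfl
    rw [if_pos rfl, h1] at h2
    exact h2
  have hsq : ∑ β : IrrCharacter C, z β * z β = 1 := by
    have : (∑ β : IrrCharacter C, (z β : ℂ) * (z β : ℂ)) = 1 := by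
      rw [← hnorm]
      conv_rhs => arg 1; rw [hexp]
      rw [classInner_sum_left]
      refine Finset.sum_congr rfl fun β _ => ?_
      rw [classInner_smul_left, ← classInner_symm, hz, map_intCast]
    exact_mod_cast this
  obtain ⟨β, hβ⟩ : ∃ β, z β ≠ 0 := by
    by_contra hc
    push Not at hc
    simp [hc] at hsq
  rw [← Finset.add_sum_erase _ _ (Finset.mem_univ β)] at hsq
  have hnn : 0 ≤ ∑ x ∈ Finset.univ.erase β, z x * z x := Finset.sum_nonneg fun x _ => mul_self_nonneg _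
  have h1 : 1 ≤ z β * z β := Int.add_one_le_iff.2 (mul_self_pos.2 hβ)
  have hrest : ∑ x ∈ Finset.univ.erase β, z x * z x = 0 := by omega
  have hzero : ∀ x, x ≠ β → z x = 0 := fun x hx => mul_self_eq_zero.1
    ((Finset.sum_eq_zero_iff_of_nonneg fun y _ => mul_self_nonneg _).1 hrest x
      (Finset.mem_erase.2 ⟨hx, Finset.mem_univ _⟩))
  refine ⟨β, z β, mul_self_eq_one_iff.1 (by omega), fun c v hv => ?_, fun h0 => ?_⟩
  · have hval : F c = (z β : ℂ) * (β : C → ℂ) c := by
      have := congrFun hexp c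
      rw [Finset.sum_apply, Finset.sum_eq_single β] at this
      · exact this
      · intro x _ hx; simp [hzero x hx]
      · simp
    have hvu : v ∈ Subgroup.zpowers u₀ := by rw [hS0, ← hv]; exact Subgroup.mem_zpowers v
    obtain ⟨k, rfl⟩ := mem_zpowers_iff_mem_range_orderOf.1 hvu |> Finset.mem_image.1 |> fun ⟨k, _, e⟩ =>
      (⟨k, e⟩ : ∃ k : ℕ, u₀ ^ k = v)
    have hk : k.Coprime (Nat.card S) := by
      have ho : orderOf (u₀ ^ k) = orderOf u₀ := by
        rw [← Nat.card_zpowers, ← Nat.card_zpowers, hv, hS0]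
      rw [← hS0, Nat.card_zpowers]
      rw [orderOf_pow, Nat.div_eq_self] at ho
      rcases ho with ho | ho
      · exact absurd ho (orderOf_pos u₀).ne'
      · exact Nat.Coprime.symm ho
    rw [h.gen_invariant χ f.2 hr hdet c.2 hu₀ hk]
    exact hval
  · obtain ⟨w, n, -, he, he'⟩ := hcoef β
    rw [h0] at he'
    have hn0 : ∀ ξ, n ξ = 0 := fun ξ => by
      have : ((∑ ξ, n ξ : ℕ) : ℂ) = 0 := by rw [Nat.cast_sum, ← he']
      exact (Finset.sum_eq_zero_iff.1 (Nat.cast_eq_zero.1 this)) ξ (Finset.mem_univ _)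
    rw [hz] at he
    simp [hn0, hβ] at he

/-- Extensions agreeing up to sign on the coset of a generator come from the same character. -/
theorem CycCtx.eq_of_sign [Fintype G] [Fintype C] (h : CycCtx G S C) (χ χ' : IrrCharacter G)
    (f f' : IrrCharacter Γ) (hr : ∀ g : G, (f : Γ → ℂ) g = (χ : G → ℂ) g)
    (hr' : ∀ g : G, (f' : Γ → ℂ) g = (χ' : G → ℂ) g)
    (hd : (detOrder (f : Γ → ℂ)).Coprime (Nat.card S))
    (hd' : (detOrder (f' : Γ → ℂ)).Coprime (Nat.card S)) (β : IrrCharacter C) {ε ε' : ℤ}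
    (hε : ε = 1 ∨ ε = -1) (hε' : ε' = 1 ∨ ε' = -1)
    (hv : ∀ c : C, ∀ s : Γ, Subgroup.zpowers s = S →
      (f : Γ → ℂ) ((c : Γ) * s) = (ε : ℂ) * (β : C → ℂ) c)
    (hv' : ∀ c : C, ∀ s : Γ, Subgroup.zpowers s = S →
      (f' : Γ → ℂ) ((c : Γ) * s) = (ε' : ℂ) * (β : C → ℂ) c) : χ = χ' := by
  classical
  haveI := h.cyc
  obtain ⟨⟨u₀, hu₀⟩, hgen⟩ := IsCyclic.exists_zpow_surjective (G := S)
  have hS0 : Subgroup.zpowers u₀ = S := le_antisymm ((Subgroup.zpowers_le).2 hu₀) fun s hs => by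
    obtain ⟨n, hn⟩ := hgen ⟨s, hs⟩
    exact Subgroup.mem_zpowers_iff.2 ⟨n, congrArg Subtype.val hn⟩
  by_contra hne
  have h1 := h.sum_coset hS0 (F := fun x => (f : Γ → ℂ) x * conj ((f' : Γ → ℂ) x)) fun a b => by
    simp only [isClassFunction_character (irr_isCharacter f.2) a b,
      isClassFunction_character (irr_isCharacter f'.2) a b]
  have h2 := h.coset_inner hu₀ χ χ' f.2 f'.2 hr hr' fun e => absurd e hne
  rw [if_neg hne, h1] at h2
  have h3 : (Nat.card C : ℂ)⁻¹ * ∑ c : C, (f : Γ → ℂ) ((c : Γ) * u₀) *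
      conj ((f' : Γ → ℂ) ((c : Γ) * u₀)) = ((ε * ε' : ℤ) : ℂ) := by
    rw [Int.cast_mul, ← mul_one ((ε : ℂ) * ε'), ← irr_self β.2, classInner, Finset.mul_sum,
      Finset.mul_sum, Finset.mul_sum]
    refine Finset.sum_congr rfl fun c _ => ?_
    rw [hv c u₀ hS0, hv' c u₀ hS0, map_mul, map_intCast]
    ring
  rw [h3] at h2
  rcases hε with rfl | rfl <;> rcases hε' with rfl | rfl <;> norm_num at h2

/-- Every character of the fixed points occurs. -/
theorem CycCtx.surjective [Fintype G] [Fintype C] (h : CycCtx G S C) (β : IrrCharacter C) :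
    ∃ (χ : IrrCharacter G) (f : IrrCharacter Γ) (ε : ℤ),
      (∀ s ∈ S, ∀ g g' : G, (g' : Γ) = s * g * s⁻¹ → (χ : G → ℂ) g' = (χ : G → ℂ) g) ∧
      (∀ g : G, (f : Γ → ℂ) g = (χ : G → ℂ) g) ∧
      (detOrder (f : Γ → ℂ)).Coprime (Nat.card S) ∧ (ε = 1 ∨ ε = -1) ∧
      ∀ c : C, ∀ s : Γ, Subgroup.zpowers s = S →
        (f : Γ → ℂ) ((c : Γ) * s) = (ε : ℂ) * (β : C → ℂ) c := by
  classical
  haveI := h.normal
  haveI := h.cyc
  let φ : S →* MulAut G := conjActHom G S h.norm
  let I := {χ : IrrCharacter G // ∀ (s : S) (g : G), (χ : G → ℂ) (φ s g) = (χ : G → ℂ) g}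
  have hI : ∀ x : I, ∀ s ∈ S, ∀ g g' : G, (g' : Γ) = s * g * s⁻¹ →
      (x.1 : G → ℂ) g' = (x.1 : G → ℂ) g := fun x s hs g g' e => by
    rw [show g' = φ ⟨s, hs⟩ g from Subtype.ext e]
    exact x.2 ⟨s, hs⟩ g
  choose f hfr hfd using fun x : I => h.exists_ext x.1 (hI x)
  choose b e he hv hb using fun x : I => h.exists_sign x.1 (f x) (hfr x) (hfd x)
  have hinj : Function.Injective b := fun x y exy => Subtype.ext
    (h.eq_of_sign x.1 y.1 (f x) (f y) (hfr x) (hfr y) (hfd x) (hfd y) (b x) (he x) (he y) (hv x)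
      (exy ▸ hv y))
  have hsolv : Group.IsSolvable S := by
    letI := IsCyclic.commGroup (α := S)
    infer_instance
  have hcard : Nat.card I = Nat.card (IrrCharacter C) := by
    rw [card_invariant_fixed _ S G φ rfl hsolv h.cop]
    refine card_irr_congr
      { toFun := fun g => ⟨((g : G) : Γ), h.cent ▸ ⟨(g : G).2, Subgroup.mem_centralizer_iff.2
          fun s hs => mul_inv_eq_iff_eq_mul.1
            (congrArg Subtype.val (g.2 ⟨s, hs⟩ (Subgroup.mem_top _)))⟩⟩
        invFun := fun c => ⟨⟨(c : Γ), h.le c.2⟩, fun s _ => Subtype.ext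
          (mul_inv_eq_iff_eq_mul.2 (h.comm c.2 s.2).eq.symm)⟩
        left_inv := fun g => rfl
        right_inv := fun c => rfl
        map_mul' := fun a b => rfl }
  haveI : Fintype I := Fintype.ofFinite _
  have hbij : Function.Bijective b := (Fintype.bijective_iff_injective_and_card b).2
    ⟨hinj, by rwa [← Nat.card_eq_fintype_card, ← Nat.card_eq_fintype_card]⟩
  obtain ⟨x, rfl⟩ := hbij.2 β
  exact ⟨x.1, f x, e x, hI x, hfr x, hfd x, he x, hv x⟩

end Cfsg.Agent.Char
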