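import Cfsg.Agent.Lib.Char.Congr
import Cfsg.Agent.Lib.Char.Section
import Cfsg.Agent.Lib.Char.Ortho
import Cfsg.Agent.Lib.Char.LocalRing

/-!
# Congruences of powers of character values, separation of `p`-regular classes
-/

set_option autoImplicit false

namespace Cfsg.Agent.Char

open Cfsg Module
open scoped ComplexConjugate

universe u

variable {G : Type u} [Group G] [Finite G] {M : Ideal AlgInt} {p : ℕ}

/-- `(∑ aᵢ) ^ q ≡ ∑ aᵢ ^ q` modulo `p`. -/
theorem sum_pow_prime_pow {R : Type*} [CommRing R] (hp : p.Prime) (n : ℕ) {ι : Type*}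
    (s : Finset ι) (a : ι → R) :
    ∃ r : R, (∑ i ∈ s, a i) ^ p ^ n - ∑ i ∈ s, a i ^ p ^ n = (p : R) * r := by
  classical
  induction s using Finset.induction with
  | empty => exact ⟨0, by simp [zero_pow (pow_pos hp.pos n).ne']⟩
  | insert i s hi ih =>
    obtain ⟨r, hr⟩ := ih
    obtain ⟨t, ht⟩ := exists_add_pow_prime_pow_eq hp (a i) (∑ j ∈ s, a j) n
    refine ⟨r + a i * (∑ j ∈ s, a j) * t, ?_⟩
    rw [Finset.sum_insert hi, Finset.sum_insert hi, ht]
    linear_combination hr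

/-- `χ(x) ^ q ≡ χ(x ^ q)` modulo `p`. -/
theorem char_pow_congr {χ : G → ℂ} (hχ : IsCharacter G χ) (hp : p.Prime) (n : ℕ) (x : G) :
    ∃ γ : AlgInt, χ x ^ p ^ n - χ (x ^ p ^ n) = (p : ℂ) * (γ : ℂ) := by
  obtain ⟨d, ρ, rfl⟩ := hχ
  obtain ⟨μ, hμ, htr, -⟩ := exists_eigenvalues ρ x
  let A : _ → AlgInt := fun i => ⟨μ i, root_of_unity_isIntegral (orderOf_pos x).ne' (hμ i)⟩
  obtain ⟨r, hr⟩ := sum_pow_prime_pow hp n Finset.univ A
  refine ⟨r, ?_⟩
  have h1 : ρ.character x = ∑ i, μ i := by simpa using htr 1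
  have h2 := congrArg (fun z : AlgInt => (z : ℂ)) hr
  simp only [A, AddSubgroupClass.coe_sub, SubmonoidClass.coe_pow, AddSubmonoidClass.coe_finset_sum,
    MulMemClass.coe_mul] at h2
  rw [h1, htr, h2]
  simp

/-- Characters separate `p`-regular classes modulo `M`. -/
theorem isConj_of_congr [Fintype G] (hM : IsPModular p M) {u v : G} (hu : ¬ p ∣ orderOf u)
    (hv : ¬ p ∣ orderOf v)
    (h : ∀ χ : IrrCharacter G, MemLocalIdeal M ((χ : G → ℂ) u - (χ : G → ℂ) v)) : IsConj u v := by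
  have hP := pmod_prime hM
  by_contra hc
  obtain ⟨hcf, hcomb⟩ := intComb_secInd (G := G) hM hu
  have e : (secInd p u : G → ℂ) u - secInd p u v = ∑ χ : IrrCharacter G,
      classInner (secInd p u : G → ℂ) (χ : G → ℂ) * ((χ : G → ℂ) u - (χ : G → ℂ) v) := by
    conv_lhs => rw [classFun_expansion hcf]
    simp only [Finset.sum_apply, Pi.smul_apply, smul_eq_mul, ← Finset.sum_sub_distrib, ← mul_sub]
  have a1 : (secInd p u : G → ℂ) u = 1 :=
    if_pos (by rw [preg_of_isPRegular hM.1 hu])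
  have a2 : (secInd p u : G → ℂ) v = 0 :=
    if_neg (by rw [preg_of_isPRegular hM.1 hv]; exact hc)
  rw [a1, a2, sub_zero] at e
  refine memLI_one_iff hP (e ▸ ?_ : MemLocalIdeal M 1)
  exact memLI_sum hP _ _ fun χ _ => memLI_mul_left hP (hcomb χ) (h χ)

end Cfsg.Agent.Char
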