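import Cfsg.Agent.Lib.Char.CyclicExt
import Cfsg.Agent.Lib.Char.PowerCongr
import Cfsg.Agent.Lib.Char.Coherence
import Cfsg.Agent.Lib.Char.RestrictIrred

/-!
# Canonical extensions along a cyclic action without further fixed points
-/

set_option autoImplicit false
set_option linter.unusedSectionVars false
set_option linter.style.haveILetI false

namespace Cfsg.Agent.Char

open Cfsg Module
open scoped ComplexConjugate

universe u

section cyclic

variable {S : Type u} [Group S] [Fintype S]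

/-- An integral character of a group takes congruent values at an element and its prime power. -/
theorem int_char_congr {b : S → ℂ} (hb : IsCharacter S b) {q : ℕ} (hq : q.Prime) {x : S} {u v : ℤ}
    (hu : b x = u) (hv : b (x ^ q) = v) : (q : ℤ) ∣ u - v := by
  obtain ⟨γ, hγ⟩ := char_pow_congr hb hq 1 x
  rw [pow_one, hu, hv] at hγ
  obtain ⟨w, hw⟩ := isIntegral_rat_cast_imp (q := ((u ^ q - v : ℤ) : ℚ) / q) (by
    have h1 : (((u ^ q - v : ℤ) : ℚ) / q : ℚ) = ((γ : AlgInt) : ℂ) := by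
      push_cast
      rw [hγ]
      exact mul_div_cancel_left₀ _ (Nat.cast_ne_zero.2 hq.ne_zero)
    rw [h1]
    exact γ.2)
  have h2 : (q : ℤ) ∣ u ^ q - v := ⟨w, by
    have hq0 : (q : ℚ) ≠ 0 := Nat.cast_ne_zero.2 hq.ne_zero
    field_simp at hw
    exact_mod_cast hw.symm.trans (mul_comm _ _)⟩
  haveI := Fact.mk hq
  rw [← ZMod.intCast_zmod_eq_zero_iff_dvd] at h2 ⊢
  push_cast at h2 ⊢
  rwa [ZMod.pow_card] at h2

/-- A character of a cyclic group which is `±1` off the identity, and constant on generators of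
subgroups, is a multiple of the regular character plus a signed linear character. -/
theorem cyclic_sign_decomp [IsCyclic S] (hnt : 1 < Nat.card S) (b : S → ℂ) (hb : IsCharacter S b)
    (a : S → ℤ) (hab : ∀ x, b x = a x) (hsign : ∀ x, x ≠ 1 → a x = 1 ∨ a x = -1)
    (hgal : ∀ x : S, ∀ k : ℕ, k.Coprime (Nat.card S) → a (x ^ k) = a x) :
    ∃ (ε : ℤ) (k : ℕ) (μ : S →* ℂˣ), (ε = 1 ∨ ε = -1) ∧ a 1 = k * Nat.card S + ε ∧
      (∀ x, (μ x : ℂ) * μ x = 1) ∧ ∀ x, x ≠ 1 → (a x : ℂ) = ε * μ x := by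
  classical
  set m := Nat.card S with hm
  letI := IsCyclic.commGroup (α := S)
  haveI := finite_hom_units S
  haveI := Fintype.ofFinite (S →* ℂˣ)
  obtain ⟨s, hs⟩ := IsCyclic.exists_monoid_generator (α := S)
  have hos : orderOf s = m := orderOf_eq_card_of_forall_mem_zpowers fun y => by
    obtain ⟨i, rfl⟩ := Submonoid.mem_powers_iff _ _ |>.1 (hs y)
    exact ⟨i, by simp⟩
  have hstep : ∀ (q : ℕ), q.Prime → q ≠ 2 → ∀ x : S, x ^ q ≠ 1 → a x = a (x ^ q) := by
    intro q hq hq2 x hx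
    have hx1 : x ≠ 1 := fun e => hx (by rw [e, one_pow])
    have h1 := int_char_congr hb hq (hab x) (hab (x ^ q))
    have h3 : 3 ≤ q := by have := hq.two_le; omega
    rcases hsign x hx1 with e | e <;> rcases hsign _ hx with e' | e' <;>
      rw [e, e'] at h1 ⊢ <;> first
        | (exfalso; have := Int.le_of_dvd (by norm_num) (dvd_abs _ _ |>.2 h1); norm_num at this; omega)
        | rfl
  have hchain : ∀ n : ℕ, Odd n → ∀ x : S, x ^ n ≠ 1 → a x = a (x ^ n) := by
    intro n
    induction n using Nat.strong_induction_on with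
    | _ n IH =>
      intro hn x hx
      rcases eq_or_ne n 1 with rfl | hn1
      · rw [pow_one]
      obtain ⟨q, hq, n', rfl⟩ := Nat.exists_prime_and_dvd hn1
      obtain ⟨hqo, hn'⟩ := Nat.odd_mul.1 hn
      have hq2 : q ≠ 2 := fun e => absurd (e ▸ hqo) (by decide)
      have h1 : x ^ n' ≠ 1 := fun e => hx (by rw [pow_mul', e, one_pow])
      have hn0 : 0 < n' := hn'.pos
      have h2 : n' < q * n' := lt_mul_left hn0 hq.one_lt
      rw [IH n' h2 hn' x h1, hstep q hq hq2 _ (by rwa [← pow_mul, mul_comm]), ← pow_mul, mul_comm]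
  obtain ⟨δ, f, w, hδ, hf1, hfa, hw1, hfw⟩ : ∃ (δ : ℤ) (f : S → ℤ) (w : S), (δ = 1 ∨ δ = -1) ∧
      f 1 = δ ∧ (∀ x, x ≠ 1 → f x = a x) ∧ w ≠ 1 ∧ ∀ x, f (x * w) = f x := by
    obtain ⟨n2, o, ho, hmo⟩ := Nat.exists_eq_pow_mul_and_not_dvd (show m ≠ 0 by omega) 2 (by norm_num)
    have hoodd : Odd o := Nat.not_even_iff_odd.1 fun he => ho he.two_dvd
    have hxo : ∀ x : S, (x ^ o) ^ (2 ^ n2) = 1 := fun x => by
      rw [← pow_mul, mul_comm, ← hmo, pow_card_eq_one']
    rcases eq_or_ne o 1 with rfl | ho1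
    · -- a `2`-group
      rw [mul_one] at hmo
      have hn0 : n2 ≠ 0 := fun e => by rw [e, pow_zero] at hmo; omega
      set z := s ^ 2 ^ (n2 - 1) with hz
      have hz2 : z ^ 2 = 1 := by
        rw [hz, ← pow_mul, ← pow_succ, Nat.sub_add_cancel (Nat.pos_of_ne_zero hn0), ← hmo,
          pow_card_eq_one']
      have hz1 : z ≠ 1 := fun e => by
        have h1 := orderOf_dvd_of_pow_eq_one e
        rw [hos, hmo, Nat.pow_dvd_pow_iff_le_right (by norm_num)] at h1
        omega
      refine ⟨a z, fun x => if x = 1 then a z else a x, z, hsign z hz1, if_pos rfl,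
        fun x hx => if_neg hx, hz1, fun x => ?_⟩
      rcases eq_or_ne x 1 with rfl | hx
      · simp [hz1]
      rcases eq_or_ne x z with rfl | hxz
      · simp [← pow_two, hz2, hz1]
      have hxz1 : x * z ≠ 1 := fun e => hxz ((mul_eq_one_iff_eq_inv.1 e).trans
        (inv_eq_of_mul_eq_one_right (by rw [← pow_two, hz2])))
      simp only [if_neg hx, if_neg hxz1]
      have huniq : ∀ y : S, y ^ 2 = 1 → y ≠ 1 → y = z := by
        intro y hy hy1
        by_contra hyz
        have h1 : ({1, y, z} : Finset S).card ≤ 2 := (Finset.card_le_card fun v hv => by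
          simp only [Finset.mem_insert, Finset.mem_singleton] at hv
          rw [Finset.mem_filter]
          refine ⟨Finset.mem_univ _, ?_⟩
          rcases hv with rfl | rfl | rfl
          exacts [one_pow 2, hy, hz2]).trans (IsCyclic.card_pow_eq_one_le two_pos)
        rw [Finset.card_eq_three.2 ⟨1, y, z, hy1.symm, hz1.symm, hyz, rfl⟩] at h1
        omega
      obtain ⟨i, hi, hox⟩ := (Nat.dvd_prime_pow Nat.prime_two).1
        (show orderOf x ∣ 2 ^ n2 by rw [← hmo, hm]; exact orderOf_dvd_natCard x)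
      have hi2 : 2 ≤ i := by
        by_contra hi'
        refine hxz (huniq x ?_ hx)
        rw [← orderOf_dvd_iff_pow_eq_one, hox]
        exact (Nat.pow_dvd_pow 2 (show i ≤ 1 by omega)).trans (by norm_num)
      have hy : x ^ 2 ^ (i - 1) = z := by
        refine huniq _ ?_ fun e => ?_
        · rw [← pow_mul, ← pow_succ, Nat.sub_add_cancel (by omega), ← hox, pow_orderOf_eq_one]
        · have h1 := orderOf_dvd_of_pow_eq_one e
          rw [hox, Nat.pow_dvd_pow_iff_le_right (by norm_num)] at h1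
          omega
      rw [← hy, ← pow_succ']
      refine hgal x _ ?_
      show Nat.Coprime _ m
      rw [hmo]
      refine Nat.Coprime.pow_right n2 ?_
      rw [Nat.coprime_comm, Nat.prime_two.coprime_iff_not_dvd]
      intro hd
      have : 2 ∣ 2 ^ (i - 1) := dvd_pow_self 2 (by omega)
      omega
    · -- odd part
      set t := s ^ 2 ^ n2 with ht
      have hto : t ^ o = 1 := by rw [ht, ← pow_mul, ← hmo, pow_card_eq_one']
      have ht1 : t ≠ 1 := fun e => by
        have h1 := Nat.le_of_dvd (pow_pos (by norm_num) n2) (orderOf_dvd_of_pow_eq_one (x := s) e)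
        rw [hos, hmo] at h1
        have : 2 ≤ o := by have := hoodd.pos; omega
        nlinarith [pow_pos (show (0 : ℕ) < 2 by norm_num) n2]
      have hodd : ∀ x : S, x ≠ 1 → x ^ o = 1 → a x = a t := by
        intro x hx hxo'
        obtain ⟨j, rfl⟩ := Submonoid.mem_powers_iff _ _ |>.1 (hs x)
        have h1 : 2 ^ n2 ∣ j := by
          have h2 := orderOf_dvd_of_pow_eq_one (x := s) (n := j * o) (by rw [pow_mul, hxo'])
          rw [hos, hmo] at h2
          exact Nat.dvd_of_mul_dvd_mul_right hoodd.pos h2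
        obtain ⟨k, rfl⟩ := h1
        rw [pow_mul] at hx ⊢
        rw [← ht] at hx ⊢
        rcases Nat.even_or_odd k with hk | hk
        · have hk' : Odd (k + o) := hk.add_odd hoodd
          rw [hchain _ hk' t (by rw [pow_add, hto, mul_one]; exact hx), pow_add, hto, mul_one]
        · rw [hchain _ hk t hx]
      refine ⟨a t, fun x => if x ^ o = 1 then a t else a (x ^ o), t, hsign t ht1, if_pos (one_pow o),
        fun x hx => ?_, ht1, fun x => by simp only [mul_pow, hto, mul_one]⟩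
      by_cases hxo' : x ^ o = 1
      · simp only [if_pos hxo']; exact (hodd x hx hxo').symm
      · simp only [if_neg hxo']; exact (hchain o hoodd x hxo').symm
  -- a linear character not trivial at `w`
  obtain ⟨l, hl⟩ : ∃ l : S →* ℂˣ, l w ≠ 1 := by
    by_contra hc
    push Not at hc
    have h1 := sum_hom_apply (fun x y : S => mul_comm x y) w
    rw [if_neg hw1, Finset.sum_congr rfl (g := fun _ => (1 : ℂ)) (fun θ _ => by rw [hc θ, Units.val_one]),
      Finset.sum_const, Finset.card_univ, nsmul_eq_mul, mul_one, Nat.cast_eq_zero] at h1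
    exact Fintype.card_ne_zero h1
  have hsum0 : ∑ x : S, (f x : ℂ) * (l x : ℂ) = 0 := by
    have h1 : ∑ x : S, (f x : ℂ) * (l x : ℂ) = (∑ x : S, (f x : ℂ) * (l x : ℂ)) * (l w : ℂ) := by
      rw [Finset.sum_mul, ← Equiv.sum_comp (Equiv.mulRight w) fun x => (f x : ℂ) * (l x : ℂ)]
      refine Finset.sum_congr rfl fun x _ => ?_
      rw [Equiv.coe_mulRight, hfw, map_mul, Units.val_mul, mul_assoc]
    by_contra hne
    exact hl (Units.ext (mul_left_cancel₀ hne (by rw [Units.val_one, mul_one]; exact h1.symm)))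
  obtain ⟨n, hn⟩ := classInner_natCast hb (isCharacter_linear (l⁻¹ : S →* ℂˣ))
  have hcj : ∀ x : S, conj (((l⁻¹ : S →* ℂˣ) x : ℂˣ) : ℂ) = (l x : ℂ) := fun x => by
    rw [← char_inv (isCharacter_linear (l⁻¹ : S →* ℂˣ)) x]
    simp
  have hkey : (a 1 : ℂ) - δ = (m : ℂ) * n := by
    rw [← hn, classInner, ← mul_assoc, hm, mul_inv_cancel₀ (Nat.cast_ne_zero.2 Nat.card_pos.ne'), one_mul]
    calc (a 1 : ℂ) - δ = ∑ x : S, ((b x) * (l x : ℂ) - (f x : ℂ) * (l x : ℂ)) := by
          rw [Finset.sum_eq_single (1 : S)]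
          · rw [hab, hf1, map_one, Units.val_one, mul_one, mul_one]
          · intro x _ hx
            rw [hab, hfa x hx, sub_self]
          · simp
      _ = _ := by
          rw [Finset.sum_sub_distrib, hsum0, sub_zero]
          exact Finset.sum_congr rfl fun x _ => by rw [hcj]
  have hkeyZ : a 1 = (n : ℤ) * m + δ := by
    have h1 : ((a 1 : ℤ) : ℂ) = (((n : ℤ) * m + δ : ℤ) : ℂ) := by push_cast; linear_combination hkey
    exact_mod_cast h1
  -- the signed linear character
  set g : S → ℂ := fun x => if x = 1 then (δ : ℂ) else (a x : ℂ) with hg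
  have hgen : IsGeneralizedCharacter S g := by
    refine ⟨b, ∑ _i ∈ Finset.range n, ∑ θ : S →* ℂˣ, (fun x : S => (θ x : ℂ)), hb,
      isCharacter_sum _ _ (fun _ _ => isCharacter_sum _ _ fun θ _ => isCharacter_linear θ), ?_⟩
    funext x
    simp only [Pi.sub_apply, Finset.sum_apply, Finset.sum_const, Finset.card_range, nsmul_eq_mul,
      Pi.natCast_apply, Pi.mul_apply, sum_hom_apply (fun x y : S => mul_comm x y)]
    simp only [g]
    rcases eq_or_ne x 1 with rfl | hx
    · rw [if_pos rfl, if_pos rfl, hab, hkeyZ, ← hm]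
      push_cast
      ring
    · rw [if_neg hx, if_neg hx, hab, mul_zero, sub_zero]
  have hgsq : ∀ x, g x * g x = 1 := fun x => by
    simp only [g]
    rcases eq_or_ne x 1 with rfl | hx
    · rw [if_pos rfl]; rcases hδ with e | e <;> rw [e] <;> norm_num
    · rw [if_neg hx]; rcases hsign x hx with e | e <;> rw [e] <;> norm_num
  have hgreal : ∀ x, conj (g x) = g x := fun x => by simp only [g]; split_ifs <;> simp
  have hnorm : classInner g g = 1 := by
    rw [classInner, Finset.sum_congr rfl (g := fun _ => (1 : ℂ)) (fun x _ => by rw [hgreal, hgsq]),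
      Finset.sum_const, Finset.card_univ, nsmul_eq_mul, mul_one, ← Nat.card_eq_fintype_card,
      inv_mul_cancel₀ (Nat.cast_ne_zero.2 Nat.card_pos.ne')]
  obtain ⟨e, θ, he, hge⟩ := exists_sign_of_norm_one hgen hnorm
  have hθ1 : (θ : S → ℂ) 1 = 1 := forall_linear_iff_comm.1 (fun x y => mul_comm x y) θ
  obtain ⟨μ, hμ⟩ := exists_hom_of_degree_one (irr_isCharacter θ.2) hθ1
  have hval : ∀ x, g x = (e : ℂ) * μ x := fun x => by
    rw [congrFun hge x, Pi.smul_apply, smul_eq_mul, congrFun hμ x]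
  have hed : δ = e := by
    have h1 := hval 1
    simp only [g, if_pos rfl, map_one, Units.val_one, mul_one] at h1
    exact_mod_cast h1
  refine ⟨δ, n, μ, hδ, hkeyZ, fun x => ?_, fun x hx => ?_⟩
  · have h1 := hgsq x
    rw [hval, show (e : ℂ) * μ x * ((e : ℂ) * μ x) = ((e * e : ℤ) : ℂ) * (μ x * μ x) by push_cast; ring] at h1
    rcases he with rfl | rfl <;> simpa using h1
  · have h1 := hval x
    simp only [g, if_neg hx] at h1
    rw [h1, hed]

end cyclic

variable {Γ : Type u} [Group Γ] [Fintype Γ] {G S C : Subgroup Γ}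

/-- The values at a nontrivial element of `S` when the fixed points do not grow. -/
theorem CycCtx.sub_sign [Fintype G] [Fintype C] (h : CycCtx G S C) (χ : IrrCharacter G)
    (f : IrrCharacter Γ) (hr : ∀ g : G, (f : Γ → ℂ) g = (χ : G → ℂ) g)
    (hdet : (detOrder (f : Γ → ℂ)).Coprime (Nat.card S)) {x : Γ} (hx : x ∈ S)
    (hfix : G ⊓ Subgroup.centralizer ({x} : Set Γ) = C) :
    ∃ (β : IrrCharacter C) (ε : ℤ), (ε = 1 ∨ ε = -1) ∧
      ∀ c : C, (f : Γ → ℂ) ((c : Γ) * x) = (ε : ℂ) * (β : C → ℂ) c := by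
  classical
  set T := Subgroup.zpowers x with hT
  have hTS : T ≤ S := (Subgroup.zpowers_le).2 hx
  set Γ' := G ⊔ T with hΓ'
  haveI : Fintype Γ' := Fintype.ofFinite _
  have hG' : G ≤ Γ' := le_sup_left
  have hT' : T ≤ Γ' := le_sup_right
  have hC' : C ≤ Γ' := h.le.trans hG'
  haveI : Fintype (G.subgroupOf Γ') := Fintype.ofFinite _
  haveI : Fintype (C.subgroupOf Γ') := Fintype.ofFinite _
  have hcardG : Nat.card (G.subgroupOf Γ') = Nat.card G :=
    Nat.card_congr (Subgroup.subgroupOfEquivOfLe hG').toEquiv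
  have hcardT : Nat.card (T.subgroupOf Γ') = Nat.card T :=
    Nat.card_congr (Subgroup.subgroupOfEquivOfLe hT').toEquiv
  have hctx : CycCtx (G.subgroupOf Γ') (T.subgroupOf Γ') (C.subgroupOf Γ') := by
    refine ⟨fun s hs g hg => h.norm _ (hTS hs) _ hg, ?_, ?_, ?_, ?_⟩
    · rw [hcardG, hcardT]
      exact h.cop.coprime_dvd_right (Subgroup.card_dvd_of_le hTS)
    · rw [← Subgroup.subgroupOf_sup hG' hT', Subgroup.subgroupOf_self]
    · exact (Subgroup.subgroupOfEquivOfLe hT').isCyclic.2 inferInstance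
    · ext y
      simp only [Subgroup.mem_subgroupOf, Subgroup.mem_inf, Subgroup.mem_centralizer_iff,
        SetLike.mem_coe]
      rw [← hfix, Subgroup.mem_inf, Subgroup.mem_centralizer_singleton_iff]
      refine and_congr_right fun _ => ⟨fun hy z hz => Subtype.ext ?_, fun hy => ?_⟩
      · obtain ⟨i, hi⟩ := Subgroup.mem_zpowers_iff.1 hz
        show (z : Γ) * y = y * z
        rw [← hi]
        exact ((show Commute (y : Γ) x from hy).zpow_right i).symm.eq
      · exact (congrArg Subtype.val (hy ⟨x, hT' (Subgroup.mem_zpowers x)⟩ (Subgroup.mem_zpowers x))).symm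
  set e := Subgroup.subgroupOfEquivOfLe hG' with he
  let χ' : IrrCharacter (G.subgroupOf Γ') := ⟨fun g => (χ : G → ℂ) (e g), isIrrCharacter_comp_equiv e χ.2⟩
  have hres : ∀ g : G.subgroupOf Γ', (f : Γ → ℂ) ((g : Γ') : Γ) = (χ' : G.subgroupOf Γ' → ℂ) g :=
    fun g => hr (e g)
  have hirr : IsIrrCharacter Γ' (fun y => (f : Γ → ℂ) y) :=
    isIrr_of_comp_irr (G.subgroupOf Γ').subtype (isCharacter_comp Γ'.subtype (irr_isCharacter f.2))
      (by simp only [Subgroup.coe_subtype, hres]; exact χ'.2)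
  let f' : IrrCharacter Γ' := ⟨_, hirr⟩
  have hdet' : (detOrder (f' : Γ' → ℂ)).Coprime (Nat.card (T.subgroupOf Γ')) := by
    obtain ⟨d, ρ, hρ⟩ := irr_isCharacter f.2
    rw [hcardT]
    refine Nat.Coprime.coprime_dvd_left ?_ (hdet.coprime_dvd_right (Subgroup.card_dvd_of_le hTS))
    show detOrder (fun y : Γ' => (f : Γ → ℂ) y) ∣ _
    rw [detOrder_eq (ρ.comp Γ'.subtype) (χ := fun y : Γ' => (f : Γ → ℂ) y)
      (funext fun y => congrFun hρ (y : Γ)), detOrder_eq ρ hρ]
    refine orderOf_dvd_of_pow_eq_one (MonoidHom.ext fun y => ?_)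
    rw [MonoidHom.pow_apply, MonoidHom.one_apply]
    have h1 := DFunLike.congr_fun (pow_orderOf_eq_one (detHom ρ)) (y : Γ)
    rw [MonoidHom.pow_apply, MonoidHom.one_apply] at h1
    exact h1
  obtain ⟨β', ε, hε, hval, -⟩ := hctx.exists_sign χ' f' hres hdet'
  set eC := Subgroup.subgroupOfEquivOfLe hC' with heC
  refine ⟨⟨fun c => (β' : C.subgroupOf Γ' → ℂ) (eC.symm c), isIrrCharacter_comp_equiv eC.symm β'.2⟩, ε,
    hε, fun c => ?_⟩
  refine hval (eC.symm c) ⟨x, hT' (Subgroup.mem_zpowers x)⟩ ?_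
  apply Subgroup.map_injective Γ'.subtype_injective
  rw [MonoidHom.map_zpowers, Subgroup.map_subgroupOf_eq_of_le hT']
  rfl

/-- The full description of the canonical extension on `C × S`. -/
theorem CycCtx.exists_mu [Fintype G] [Fintype C] (h : CycCtx G S C)
    (hfpf : ∀ x ∈ S, x ≠ 1 → G ⊓ Subgroup.centralizer ({x} : Set Γ) = C) (hnt : 1 < Nat.card S)
    (χ : IrrCharacter G) (f : IrrCharacter Γ) (hr : ∀ g : G, (f : Γ → ℂ) g = (χ : G → ℂ) g)
    (hdet : (detOrder (f : Γ → ℂ)).Coprime (Nat.card S)) (β : IrrCharacter C) {ε₀ : ℤ}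
    (hε₀ : ε₀ = 1 ∨ ε₀ = -1) (hβ : ∀ c : C, ∀ s : Γ, Subgroup.zpowers s = S →
      (f : Γ → ℂ) ((c : Γ) * s) = (ε₀ : ℂ) * (β : C → ℂ) c) :
    ∃ (ε : ℤ) (μ : S →* ℂˣ) (t : IrrCharacter C → ℕ), (ε = 1 ∨ ε = -1) ∧
      (∀ x, (μ x : ℂ) * μ x = 1) ∧
      (∀ c : C, ∀ x : S, x ≠ 1 → (f : Γ → ℂ) ((c : Γ) * x) = (ε : ℂ) * (β : C → ℂ) c * μ x) ∧
      ∀ c : C, (χ : G → ℂ) ⟨c, h.le c.2⟩ =
        (Nat.card S : ℂ) * ∑ ψ, (t ψ : ℂ) * (ψ : C → ℂ) c + (ε : ℂ) * (β : C → ℂ) c := by
  classical
  haveI := h.cyc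
  haveI := Fintype.ofFinite S
  letI : CommGroup S := IsCyclic.commGroup
  haveI := finite_hom_units S
  haveI := Fintype.ofFinite (S →* ℂˣ)
  obtain ⟨s, hs⟩ := IsCyclic.exists_monoid_generator (α := S)
  have hS0 : Subgroup.zpowers (s : Γ) = S := le_antisymm ((Subgroup.zpowers_le).2 s.2) fun y hy => by
    obtain ⟨j, hj⟩ := Submonoid.mem_powers_iff _ _ |>.1 (hs ⟨y, hy⟩)
    exact ⟨(j : ℤ), by simpa using congrArg Subtype.val hj⟩
  let ι : C × S →* Γ :=
    { toFun := fun x => (x.1 : Γ) * x.2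
      map_one' := by simp
      map_mul' := fun x y => by
        simp only [Prod.fst_mul, Prod.snd_mul, Subgroup.coe_mul]
        rw [mul_assoc, ← mul_assoc (y.1 : Γ), (h.comm y.1.2 x.2.2).eq, mul_assoc, ← mul_assoc] }
  let A : IrrCharacter C → S → ℂ := fun ψ x =>
    classInner (fun c : C => (f : Γ → ℂ) ((c : Γ) * x)) (ψ : C → ℂ)
  have hscomm : ∀ a b : S, a * b = b * a := fun a b => mul_comm a b
  have hAchar : ∀ ψ, IsCharacter S (A ψ) := by
    intro ψ
    have hc : ∀ l : S →* ℂˣ, ∃ n : ℕ, classInner (fun y : C × S => (f : Γ → ℂ) (ι y))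
        ((fun y : C × S => (ψ : C → ℂ) y.1) * fun y : C × S => (l y.2 : ℂ)) = n := fun l =>
      classInner_natCast (isCharacter_comp ι (irr_isCharacter f.2))
        (isCharacter_mul (isCharacter_comp (MonoidHom.fst C S) (irr_isCharacter ψ.2))
          (isCharacter_comp (MonoidHom.snd C S) (isCharacter_linear l)))
    choose n hn using hc
    have heq : A ψ = ∑ l : S →* ℂˣ, n l • (fun x : S => (l x : ℂ)) := by
      funext x
      simp only [Finset.sum_apply, Pi.smul_apply, nsmul_eq_mul, Pi.mul_apply, Pi.natCast_apply, ← hn]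
      simp only [classInner, Pi.mul_apply, map_mul, Fintype.sum_prod_type, Nat.card_prod, Nat.cast_mul,
        mul_inv, Finset.mul_sum, Finset.sum_mul, A]
      rw [Finset.sum_comm (γ := S →* ℂˣ)]
      refine Finset.sum_congr rfl fun c _ => ?_
      rw [Finset.sum_comm]
      have h1 : ∀ (y : S) (l : S →* ℂˣ), conj (l y : ℂ) * (l x : ℂ) = (l (y⁻¹ * x) : ℂ) := fun y l => by
        rw [← char_inv (isCharacter_linear l) y]; simp
      have h2 : ∀ y : S, ∑ l : S →* ℂˣ, (Nat.card C : ℂ)⁻¹ * (Nat.card S : ℂ)⁻¹ *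
          ((f : Γ → ℂ) (ι (c, y)) * (conj ((ψ : C → ℂ) c) * conj (l y : ℂ))) * (l x : ℂ) =
          if y = x then (Nat.card C : ℂ)⁻¹ * ((f : Γ → ℂ) (ι (c, y)) * conj ((ψ : C → ℂ) c)) else 0 := by
        intro y
        rw [Finset.sum_congr rfl (g := fun l : S →* ℂˣ => ((Nat.card C : ℂ)⁻¹ * (Nat.card S : ℂ)⁻¹ *
          ((f : Γ → ℂ) (ι (c, y)) * conj ((ψ : C → ℂ) c))) * (l (y⁻¹ * x) : ℂ)) (fun l _ => by
            rw [← h1]; ring), ← Finset.mul_sum, sum_hom_apply hscomm]
        by_cases hyx : y = x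
        · rw [if_pos hyx, if_pos (by rw [hyx, inv_mul_cancel])]
          field_simp [Nat.cast_ne_zero.2 (Nat.card_pos (α := S)).ne']
        · rw [if_neg hyx, if_neg fun e => hyx (inv_mul_eq_one.1 e), mul_zero]
      rw [Finset.sum_congr rfl fun y _ => h2 y, Finset.sum_ite_eq' Finset.univ x, if_pos (Finset.mem_univ x)]
      rfl
    rw [heq]
    exact isCharacter_sum _ _ fun l _ => isCharacter_nsmul (isCharacter_linear l) _
  -- values off the identity
  have hsub : ∀ x : S, x ≠ 1 → ∃ (b : IrrCharacter C) (e : ℤ), (e = 1 ∨ e = -1) ∧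
      ∀ c : C, (f : Γ → ℂ) ((c : Γ) * x) = (e : ℂ) * (b : C → ℂ) c := fun x hx =>
    h.sub_sign χ f hr hdet x.2 (hfpf x x.2 fun e => hx (Subtype.ext e))
  choose b e he hbe using hsub
  have hA : ∀ ψ (x : S) (hx : x ≠ 1), A ψ x = if b x hx = ψ then (e x hx : ℂ) else 0 := by
    intro ψ x hx
    show classInner (fun c : C => (f : Γ → ℂ) ((c : Γ) * x)) (ψ : C → ℂ) = _
    rw [show (fun c : C => (f : Γ → ℂ) ((c : Γ) * x)) = (e x hx : ℂ) • ((b x hx : IrrCharacter C) : C → ℂ)
      from funext fun c => hbe x hx c, classInner_smul_left, irrC_orth, mul_ite, mul_one, mul_zero]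
  have hlink : ∀ (q : ℕ), q.Prime → ∀ (x : S) (hx : x ≠ 1) (hxq : x ^ q ≠ 1), b x hx = b (x ^ q) hxq := by
    intro q hq x hx hxq
    by_contra hne
    have h1 := int_char_congr (hAchar (b x hx)) hq (u := e x hx) (v := 0)
      (by rw [hA _ x hx, if_pos rfl]) (by rw [hA _ _ hxq, if_neg (Ne.symm hne), Int.cast_zero])
    rw [sub_zero, Int.natCast_dvd] at h1
    have : (e x hx).natAbs = 1 := by rcases he x hx with r | r <;> rw [r] <;> rfl
    rw [this, Nat.dvd_one] at h1
    exact hq.one_lt.ne' h1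
  have hs1 : s ≠ 1 := fun e => by
    have : Nat.card S = 1 := by
      rw [← orderOf_eq_card_of_forall_mem_zpowers (g := s) (fun y => by
        obtain ⟨i, rfl⟩ := Submonoid.mem_powers_iff _ _ |>.1 (hs y)
        exact ⟨i, by simp⟩), e, orderOf_one]
    omega
  have hbs : b s hs1 = β := by
    by_contra hne
    have h1 : A β s = (ε₀ : ℂ) := by
      show classInner (fun c : C => (f : Γ → ℂ) ((c : Γ) * s)) (β : C → ℂ) = _
      rw [show (fun c : C => (f : Γ → ℂ) ((c : Γ) * s)) = (ε₀ : ℂ) • (β : C → ℂ)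
        from funext fun c => hβ c s hS0, classInner_smul_left, irr_self β.2, mul_one]
    rw [hA β s hs1, if_neg hne] at h1
    rcases hε₀ with rfl | rfl <;> norm_num at h1
  have hbβ : ∀ (x : S) (hx : x ≠ 1), b x hx = β := by
    have key : ∀ k : ℕ, ∀ hx : s ^ k ≠ 1, b (s ^ k) hx = β := by
      intro k
      induction k using Nat.strong_induction_on with
      | _ k IH =>
        intro hx
        rcases Nat.lt_trichotomy k 1 with hk | rfl | hk
        · exact absurd (by rw [show k = 0 by omega, pow_zero]) hx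
        · simp only [pow_one] at hx ⊢; exact hbs
        obtain ⟨q, hq, k', rfl⟩ := Nat.exists_prime_and_dvd hk.ne'
        have hx' : s ^ k' ≠ 1 := fun e => hx (by rw [pow_mul', e, one_pow])
        have hk'0 : 0 < k' := Nat.pos_of_ne_zero fun e => hx' (by rw [e, pow_zero])
        have h3 := hlink q hq (s ^ k') hx' (by rwa [← pow_mul, mul_comm])
        rw [IH k' (lt_mul_left hk'0 hq.one_lt) hx'] at h3
        have h4 : (s ^ k') ^ q = s ^ (q * k') := by rw [← pow_mul, mul_comm]
        simp only [h4] at h3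
        exact h3.symm
    intro x hx
    obtain ⟨k, rfl⟩ := Submonoid.mem_powers_iff _ _ |>.1 (hs x)
    exact key k hx
  obtain ⟨a1, ha1⟩ := charOne_eq_natCast (hAchar β)
  set a : S → ℤ := fun x => if hx : x = 1 then (a1 : ℤ) else e x hx with ha
  have haβ : ∀ x, A β x = a x := fun x => by
    simp only [a]
    by_cases hx : x = 1
    · rw [dif_pos hx, hx, ha1]; simp
    · rw [dif_neg hx, hA β x hx, if_pos (hbβ x hx)]
  have hgal : ∀ x : S, ∀ k : ℕ, k.Coprime (Nat.card S) → a (x ^ k) = a x := by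
    intro x k hk
    have h1 : A β (x ^ k) = A β x := by
      show classInner _ _ = classInner _ _
      refine congrArg (fun F => classInner F (β : C → ℂ)) (funext fun c => ?_)
      rw [Subgroup.coe_pow]
      exact h.gen_invariant χ f.2 hr hdet c.2 x.2 hk
    rw [haβ, haβ] at h1
    exact_mod_cast h1
  obtain ⟨ε, k, μ, hε, hk, hμ2, hμ⟩ := cyclic_sign_decomp hnt (A β) (hAchar β) a haβ
    (fun x hx => by simp only [a, dif_neg hx]; exact he x hx) hgal
  -- multiplicities at the identity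
  have hT : ∀ ψ : IrrCharacter C, ∃ n : ℕ,
      A ψ 1 = (Nat.card S : ℂ) * n + if ψ = β then (ε : ℂ) else 0 := by
    intro ψ
    by_cases hψ : ψ = β
    · refine ⟨k, ?_⟩
      rw [hψ, if_pos rfl, haβ, hk]
      push_cast
      ring
    · obtain ⟨n, hn⟩ := classInner_natCast (hAchar ψ) (isCharacter_linear (1 : S →* ℂˣ))
      refine ⟨n, ?_⟩
      rw [if_neg hψ, add_zero, ← hn, classInner, ← mul_assoc,
        mul_inv_cancel₀ (Nat.cast_ne_zero.2 Nat.card_pos.ne'), one_mul, Finset.sum_eq_single (1 : S)]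
      · simp
      · intro x _ hx
        rw [hA ψ x hx, if_neg (fun e' => hψ (e'.symm.trans (hbβ x hx))), zero_mul]
      · simp
  choose t ht using hT
  refine ⟨ε, μ, t, hε, hμ2, fun c x hx => ?_, fun c => ?_⟩
  · rw [hbe x hx c, hbβ x hx]
    have h1 := hμ x hx
    simp only [a, dif_neg hx] at h1
    rw [h1]
    ring
  · have hexp := congrFun (char_expansion (isCharacter_comp (Subgroup.inclusion h.le) (irr_isCharacter χ.2))) c
    simp only [Finset.sum_apply, Pi.smul_apply, smul_eq_mul] at hexp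
    have hco : ∀ ψ : IrrCharacter C,
        classInner ((χ : G → ℂ) ∘ Subgroup.inclusion h.le) (ψ : C → ℂ) = A ψ 1 := fun ψ => by
      refine congrArg (fun F => classInner F (ψ : C → ℂ)) (funext fun c => ?_)
      rw [OneMemClass.coe_one, mul_one]
      exact (hr _).symm
    refine hexp.trans ?_
    rw [Finset.sum_congr rfl (g := fun ψ : IrrCharacter C => (Nat.card S : ℂ) * ((t ψ : ℂ) * (ψ : C → ℂ) c) +
      if ψ = β then (ε : ℂ) * (ψ : C → ℂ) c else 0) (fun ψ _ => by
        rw [hco, ht, add_mul, ite_mul, zero_mul, mul_assoc]),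
      Finset.sum_add_distrib, Finset.sum_ite_eq' Finset.univ β, if_pos (Finset.mem_univ β), ← Finset.mul_sum]

end Cfsg.Agent.Char
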