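import Cfsg.Agent.Lib.Char.CyclicIsometry
import Cfsg.Agent.Lib.Char.OneBlock
import Cfsg.Agent.Lib.Char.Linear

/-!
# The group of a cyclic `p`-group and a group of automorphisms of order prime to `p`, and isometries onto it
-/

set_option autoImplicit false
set_option linter.unusedSectionVars false
set_option linter.style.haveILetI false

namespace Cfsg.Agent.Char.CyclicFrobenius

open Cfsg CyclicSides

universe u v

variable {F : Type v} [Group F] [Fintype F] {Q : Subgroup F} {p a e : ℕ}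

/-- The hypotheses on the group. -/
structure Frob (p a e : ℕ) (Q : Subgroup F) : Prop where
  prime : p.Prime
  cyc : IsCyclic Q
  cardQ : Nat.card Q = p ^ a
  one_le : 1 ≤ a
  cardF : Nat.card F = p ^ a * e
  cent : Subgroup.centralizer (Q : Set F) = Q
  dvd : e ∣ p - 1

variable (h : Frob p a e Q)
include h

theorem Frob.not_dvd : ¬ p ∣ e := fun hd => by
  have := h.prime.two_le
  have := Nat.le_of_dvd (by omega) (hd.trans h.dvd)
  omega

theorem Frob.index_eq : Q.index = e := by
  have h1 := Subgroup.card_mul_index Q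
  rw [h.cardQ, h.cardF] at h1
  exact Nat.eq_of_mul_eq_mul_left (Nat.pow_pos h.prime.pos) h1

theorem Frob.isPGroup : IsPGroup p Q := IsPGroup.of_card h.cardQ

theorem Frob.normal : Q.Normal := by
  haveI := Fact.mk h.prime
  let S : Sylow p F := h.isPGroup.toSylow (by rw [h.index_eq]; exact h.not_dvd)
  have hS : (S : Subgroup F) = Q := rfl
  have h1 : Nat.card (Sylow p F) ∣ e := by
    have := Sylow.card_dvd_index S
    rwa [hS, h.index_eq] at this
  have h2 : Nat.card (Sylow p F) ≡ 1 [MOD p] := card_sylow_modEq_one p F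
  have h3 : Nat.card (Sylow p F) ≤ p - 1 :=
    Nat.le_of_dvd (by have := h.prime.two_le; omega) (h1.trans h.dvd)
  have h4 : Nat.card (Sylow p F) = 1 := h2.eq_of_lt_of_lt (by have := h.prime.two_le; omega) h.prime.one_lt
  haveI : Subsingleton (Sylow p F) := (Nat.card_eq_one_iff_unique.mp h4).1
  exact hS ▸ S.normal_of_subsingleton

theorem Frob.normalizer_top : Subgroup.normalizer (Q : Set F) = ⊤ :=
  haveI := h.normal
  Subgroup.normalizer_eq_top_iff.mpr inferInstance

theorem Frob.le_pCore : Q ≤ pCore p F :=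
  haveI := h.normal
  Fusion.le_pCore h.isPGroup

theorem Frob.one_block {M : Ideal AlgInt} (hM : IsPModular p M) :
    IsPBlock M (Set.univ : Set (IrrCharacter F)) := by
  obtain ⟨χ⟩ : Nonempty (IrrCharacter F) := ⟨⟨_, isIrrCharacter_one⟩⟩
  refine ⟨χ, (Set.eq_univ_of_forall fun ψ => ?_).symm⟩
  refine sameBlock_of_constrained hM ?_ χ ψ
  intro x hx
  refine h.le_pCore ?_
  rw [← h.cent]
  exact fun y hy => hx y (h.le_pCore hy)

theorem Frob.defect {M : Ideal AlgInt} (hM : IsPModular p M) :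
    IsDefectGroup p M (Set.univ : Set (IrrCharacter F)) Q := by
  haveI := h.normal
  obtain ⟨D, hD⟩ := exists_isDefectGroup hM (h.one_block hM)
  have hle : Q ≤ D := pCore_le_defectGroup hM (h.one_block hM) hD Q h.isPGroup
  obtain rfl : Q = D := by
    refine Subgroup.eq_of_le_of_card_ge hle ?_
    have h1 := Subgroup.card_subgroup_dvd_card D
    rw [card_defectGroup hM (h.one_block hM) hD, h.cardF] at h1
    rw [h.cardQ, card_defectGroup hM (h.one_block hM) hD]
    refine Nat.pow_le_pow_right h.prime.pos ((Nat.pow_dvd_pow_iff_le_right h.prime.one_lt).mp ?_)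
    exact ((h.prime.coprime_iff_not_dvd.mpr h.not_dvd).pow_left _).dvd_of_dvd_mul_right h1
  exact hD

theorem Frob.exists_max {M : Ideal AlgInt} (hM : IsPModular p M) :
    ∃ c : Set (IrrCharacter (Subgroup.centralizer (Q : Set F))),
      ∃ hmax : IsMaximalBrauerPair p M (Set.univ : Set (IrrCharacter F)) Q c,
        pairStab (pmod_prime hM) hmax.1.1.2 = ⊤ := by
  classical
  haveI := Fact.mk h.prime
  obtain ⟨c, hc⟩ := exists_pair_of_le_defect hM (h.one_block hM) (h.defect hM) le_rfl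
  refine ⟨c, maximal_of_defect hM (h.defect hM) hc, ?_⟩
  haveI := Fintype.ofFinite (Subgroup.centralizer (Q : Set F))
  have hC : IsPGroup p (Subgroup.centralizer (Q : Set F)) := h.isPGroup.to_le h.cent.le
  have hcore : pCore p (Subgroup.centralizer (Q : Set F)) = ⊤ :=
    eq_top_iff.mpr (Fusion.le_pCore (hC.to_subgroup ⊤))
  have hall : ∀ ξ, ξ ∈ c := fun ξ => by
    obtain ⟨θ, hθ⟩ := block_nonempty (pmod_prime hM) hc.1.2
    exact (mem_block_iff (pmod_prime hM) hc.1.2 hθ ξ).mpr (sameBlock_of_constrained hM (by rw [hcore]; exact le_top) θ ξ)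
  refine eq_top_iff.mpr fun g _ => (mem_pairStab _ _).mpr ⟨h.normalizer_top ▸ Subgroup.mem_top g, ?_⟩
  have hgC : g ∈ Subgroup.normalizer ((Subgroup.centralizer (Q : Set F) : Subgroup F) : Set F) := by
    rw [h.cent, h.normalizer_top]; exact Subgroup.mem_top g
  refine ⟨hgC, fun χ _ => ?_⟩
  let α : Subgroup.centralizer (Q : Set F) ≃* Subgroup.centralizer (Q : Set F) :=
    conjC Q ⟨g⁻¹, inv_mem (h.normalizer_top ▸ Subgroup.mem_top g)⟩
  refine ⟨irrTransport α χ, hall _, fun k k' hk => ?_⟩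
  rw [irrTransport_apply]
  refine congrArg _ (Subtype.ext ?_)
  simp only [α, conjC_apply, hk]
  group

theorem Frob.exists_gen : ∃ σ : F, Subgroup.zpowers σ = Q ∧ orderOf σ = p ^ a :=
  CyclicRank.exists_gen h.cyc h.cardQ

theorem Frob.relIndex : (Subgroup.centralizer (Q : Set F)).relIndex ⊤ = e := by
  rw [Subgroup.relIndex_top_right, h.cent, h.index_eq]

theorem Frob.ppt_mem (g : F) : ppt p g ∈ Q := by
  haveI := h.normal
  obtain ⟨k, hk⟩ := ppt_ppower h.prime g
  have hco : (e).Coprime (orderOf (ppt p g)) := by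
    rw [hk]; exact ((h.prime.coprime_iff_not_dvd.mpr h.not_dvd).pow_left k).symm
  obtain ⟨j, hj⟩ := exists_pow_eq_self_of_coprime hco
  rw [← hj]
  refine Subgroup.pow_mem _ ?_ j
  rw [← h.index_eq]
  exact Subgroup.pow_index_mem Q _

theorem Frob.commutator_eq (he : 2 ≤ e) : commutator F = Q := by
  haveI := h.normal
  haveI := h.cyc
  have hker : (Q.normalizerMonoidHom).ker = Q.subgroupOf (Subgroup.normalizer (Q : Set F)) := by
    rw [Subgroup.normalizerMonoidHom_ker, h.cent]
  have hcommA : ∀ x y : MulAut Q, x * y = y * x := fun x y =>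
    (IsCyclic.mulAutMulEquiv Q).injective (by rw [map_mul, map_mul, mul_comm])
  refine le_antisymm ?_ ?_
  · rw [commutator_def, Subgroup.commutator_le]
    intro x _ y _
    set x' : Subgroup.normalizer (Q : Set F) := ⟨x, h.normalizer_top ▸ Subgroup.mem_top x⟩
    set y' : Subgroup.normalizer (Q : Set F) := ⟨y, h.normalizer_top ▸ Subgroup.mem_top y⟩
    have h1 : x' * y' * x'⁻¹ * y'⁻¹ ∈ (Q.normalizerMonoidHom).ker := by
      rw [MonoidHom.mem_ker, map_mul, map_mul, map_mul, map_inv, map_inv,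
        hcommA (Q.normalizerMonoidHom x') (Q.normalizerMonoidHom y'), mul_inv_cancel_right, mul_inv_cancel]
    rw [hker, Subgroup.mem_subgroupOf] at h1
    simpa [commutatorElement_def, x', y'] using h1
  · obtain ⟨t, ht⟩ : ∃ t : F, t ∉ Q := by
      by_contra hall
      push Not at hall
      have := h.index_eq
      rw [show Q = ⊤ from eq_top_iff.mpr fun x _ => hall x, Subgroup.index_top] at this
      omega
    obtain ⟨σ, hσ, hord⟩ := h.exists_gen
    have hab := CyclicLocal.comm_of_gen hσ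
    have hcomm : ∀ x : Q, t * (x : F) * t⁻¹ * (x : F)⁻¹ ∈ Q := fun x =>
      mul_mem (Subgroup.Normal.conj_mem inferInstance _ x.2 t) (inv_mem x.2)
    let f : Q → Q := fun x => ⟨t * (x : F) * t⁻¹ * (x : F)⁻¹, hcomm x⟩
    have hinj : Function.Injective f := by
      intro x y hxy
      have e1 : t * (x : F) * t⁻¹ * (x : F)⁻¹ = t * (y : F) * t⁻¹ * (y : F)⁻¹ := congrArg Subtype.val hxy
      have hxy' : ((x : F))⁻¹ * y ∈ Q := mul_mem (inv_mem x.2) y.2
      by_contra hne
      have hne' : ((x : F))⁻¹ * y ≠ 1 := fun hh => hne (Subtype.ext (inv_mul_eq_one.mp hh))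
      have hfix : t * ((x : F)⁻¹ * y) * t⁻¹ = (x : F)⁻¹ * y := by
        have e2 : t * (y : F) * t⁻¹ = t * (x : F) * t⁻¹ * ((x : F)⁻¹ * y) := by
          rw [← mul_assoc, e1, inv_mul_cancel_right]
        calc t * ((x : F)⁻¹ * y) * t⁻¹ = (t * (x : F) * t⁻¹)⁻¹ * (t * (y : F) * t⁻¹) := by group
          _ = (x : F)⁻¹ * y := by rw [e2, inv_mul_cancel_left]
      obtain ⟨i, hi⟩ := CyclicRank.bottom_le h.prime hσ h.one_le hord hxy' hne'
      have hcz : Commute t (σ ^ p ^ (a - 1)) := by
        rw [← hi]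
        exact (show Commute t ((x : F)⁻¹ * y) from mul_inv_eq_iff_eq_mul.mp hfix).zpow_right i
      obtain ⟨M, hM⟩ := exists_pModular h.prime
      obtain ⟨c, hmax, hst⟩ := h.exists_max hM
      exact ht (h.cent.le (CyclicLocal.free hM hmax hσ h.one_le hord (hst ▸ Subgroup.mem_top t) hcz.eq))
    intro z hz
    obtain ⟨x, hx⟩ := (Finite.injective_iff_surjective.mp hinj) ⟨z, hz⟩
    rw [← show t * (x : F) * t⁻¹ * (x : F)⁻¹ = z from congrArg Subtype.val hx, commutator_def,
      ← commutatorElement_def]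
    exact Subgroup.commutator_mem_commutator (Subgroup.mem_top t) (Subgroup.mem_top _)

omit h

open scoped Classical in
/-- The perfect isometry onto a block, uniform on the characters nontrivial on the normal subgroup. -/
theorem isometry {G : Type u} [Group G] [Fintype G] {M : Ideal AlgInt} (hM : IsPModular p M)
    {B : Set (IrrCharacter G)} {D : Subgroup G} {c : Set (IrrCharacter (Subgroup.centralizer (D : Set G)))}
    (hmax : IsMaximalBrauerPair p M B D c) {σ : G} (hσ : Subgroup.zpowers σ = D) (ha : 1 ≤ a)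
    (hord : orderOf σ = p ^ a)
    (he : (Subgroup.centralizer (D : Set G)).relIndex (pairStab (pmod_prime hM) hmax.1.1.2) = e)
    (h : Frob p a e Q) :
    ∃ (I : IrrCharacter F → IrrCharacter G) (ε : IrrCharacter F → ℤ),
      IsPerfectIsometry p M (Set.univ : Set (IrrCharacter F)) B I ε ∧
      ∀ η η' : IrrCharacter F, (∃ x ∈ Q, (η : F → ℂ) x ≠ (η : F → ℂ) 1) →
        (∃ x ∈ Q, (η' : F → ℂ) x ≠ (η' : F → ℂ) 1) → ε η = ε η' := by
  haveI := h.cyc
  haveI : IsCyclic D := hσ ▸ inferInstanceAs (IsCyclic (Subgroup.zpowers σ))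
  have hqD : Nat.card D = p ^ a := by rw [← hσ, Nat.card_zpowers, hord]
  let φ : Q ≃* D := mulEquivOfCyclicCardEq (h.cardQ.trans hqD.symm)
  obtain ⟨E, hE, hfree⟩ := exists_aut hM hmax hσ ha hord he
  haveI := Fintype.ofFinite E
  haveI := Fintype.ofFinite (pullAut φ E)
  have hcomm : ∀ y z : D, y * z = z * y := fun y z => Subtype.ext (CyclicLocal.comm_of_gen hσ y y.2 z z.2)
  have hD1 : ∃ z : D, z ≠ 1 := ⟨⟨σ, hσ ▸ Subgroup.mem_zpowers σ⟩, fun h1 => by
    have h2 : σ = 1 := congrArg Subtype.val h1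
    rw [h2, orderOf_one] at hord
    exact absurd (Nat.pow_eq_one.mp hord.symm) (by have := hM.1.two_le; omega)⟩
  obtain ⟨m, R, hR⟩ : ∃ m R, StarVectors.IsReps E m R := StarVectors.exists_reps E hcomm hD1 hfree
  obtain ⟨y, δ, ε, S⟩ := exists_side hM hmax hσ ha hord he E hE hR
  obtain ⟨c', hmax', hst⟩ := h.exists_max hM
  obtain ⟨τ, hτ, hordτ⟩ := h.exists_gen
  have he' : (Subgroup.centralizer (Q : Set F)).relIndex (pairStab (pmod_prime hM) hmax'.1.1.2) = e := by
    rw [hst, h.relIndex]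
  obtain ⟨y', δ', ε', S'⟩ := exists_side hM hmax' hτ h.one_le hordτ he' (pullAut φ E) ((card_pullAut φ E).trans hE)
    (isReps_pull φ E hR)
  have hψ : psi (pullAut φ E) (fun i => (R i).comp φ.toMonoidHom) = fun (i : Fin m) z => psi E R i (φ z) :=
    funext fun i => funext fun z => psi_pull E φ R i z
  rw [hψ] at S'
  obtain ⟨I, s, hI, hsy, hsX⟩ := CyclicIsometry.of_sides hM φ (fun z hz => psi_sum E hcomm hR hz) hR.1 S S'
  refine ⟨I, s, hI, fun η η' hη hη' => ?_⟩
  by_cases he1 : e = 1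
  · have key : ∀ {H : Type v} [Group H] [Fintype H] {b : Set (IrrCharacter H)} {A : Type v} [Group A] [Fintype A]
        {ψ : Fin m → A → ℂ} {z : Fin m → IrrCharacter H} {d : IrrCharacter H → ℤ} {u : ℤ}
        (_ : Side M p b e m ψ z d u) (χ : {χ // χ ∈ b ∧ χ ∉ Set.range z}), d χ.1 = -u := by
      intro H _ _ b A _ _ ψ z d u T χ
      have h1 := T.rel ⟨0, hR.1⟩ 1 (by simp [hM.1.ne_one])
      haveI : Subsingleton {χ // χ ∈ b ∧ χ ∉ Set.range z} :=
        Fintype.card_le_one_iff_subsingleton.mp (T.card_rest.trans he1).le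
      rw [Fintype.sum_subsingleton _ χ, char_one_eq_deg (irr_isCharacter χ.1.2),
        char_one_eq_deg (irr_isCharacter (z _).2)] at h1
      have h2 : u * (deg (z ⟨0, hR.1⟩ : H → ℂ) : ℤ) + d χ.1 * (deg (χ.1 : H → ℂ) : ℤ) = 0 := by exact_mod_cast h1
      have := deg_pos χ.1.2
      have := deg_pos (z ⟨0, hR.1⟩).2
      rcases T.sign₀ with h' | h' <;> rcases T.sign χ.1 with h'' | h'' <;> rw [h', h''] at h2 ⊢ <;> omega
    have keyG : ∀ χ : {χ // χ ∈ B ∧ χ ∉ Set.range y}, δ χ.1 = -ε := by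
      intro χ
      have h1 := S.rel ⟨0, hR.1⟩ 1 (by simp [hM.1.ne_one])
      haveI : Subsingleton {χ // χ ∈ B ∧ χ ∉ Set.range y} :=
        Fintype.card_le_one_iff_subsingleton.mp (S.card_rest.trans he1).le
      rw [Fintype.sum_subsingleton _ χ, char_one_eq_deg (irr_isCharacter χ.1.2),
        char_one_eq_deg (irr_isCharacter (y _).2)] at h1
      have h2 : ε * (deg (y ⟨0, hR.1⟩ : G → ℂ) : ℤ) + δ χ.1 * (deg (χ.1 : G → ℂ) : ℤ) = 0 := by exact_mod_cast h1
      have := deg_pos χ.1.2
      have := deg_pos (y ⟨0, hR.1⟩).2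
      rcases S.sign₀ with h' | h' <;> rcases S.sign χ.1 with h'' | h'' <;> rw [h', h''] at h2 ⊢ <;> omega
    have hall : ∀ θ : IrrCharacter F, s θ = ε * ε' := fun θ => by
      by_cases hθ : θ ∈ Set.range y'
      · obtain ⟨i, rfl⟩ := hθ
        exact hsy i
      · obtain ⟨χ, hχ⟩ := hsX ⟨θ, Set.mem_univ _, hθ⟩
        rw [hχ, keyG χ, key S' ⟨θ, Set.mem_univ _, hθ⟩]
        ring
    rw [hall, hall]
  -- the linear characters
  have he2 : 2 ≤ e := by
    have : 0 < e := hE ▸ Nat.card_pos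
    omega
  have hcQ := h.commutator_eq he2
  have hlin : ∀ θ : IrrCharacter F, (θ : F → ℂ) 1 = 1 → ∀ x ∈ Q, ∀ g, (θ : F → ℂ) (x * g) = (θ : F → ℂ) g := by
    intro θ hθ x hx g
    obtain ⟨l, hl⟩ := exists_hom_of_degree_one (irr_isCharacter θ.2) hθ
    have h1 : l x = 1 := Abelianization.commutator_subset_ker l (hcQ ▸ hx)
    simp only [hl, map_mul, h1, one_mul]
  have hnl : ∀ θ : IrrCharacter F, (∃ x ∈ Q, (θ : F → ℂ) x ≠ (θ : F → ℂ) 1) → (θ : F → ℂ) 1 ≠ 1 := by
    rintro θ ⟨x, hx, hne⟩ h1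
    exact hne (by simpa using hlin θ h1 x hx 1)
  set L := Finset.univ.filter fun θ : IrrCharacter F => (θ : F → ℂ) 1 = 1 with hL
  have hLcard : L.card = e := by
    have h1 := card_linear (G := F)
    rw [hcQ, h.index_eq, Nat.card_eq_fintype_card, Fintype.card_subtype] at h1
    exact h1
  set X := Finset.univ.filter fun θ : IrrCharacter F => θ ∉ Set.range y' with hX
  have hXcard : X.card = e := by
    rw [← Fintype.card_subtype, ← Nat.card_eq_fintype_card]
    refine (Nat.card_congr (Equiv.subtypeEquivRight fun θ => ?_)).trans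
      ((@Nat.card_eq_fintype_card _ (_)).trans S'.card_rest)
    exact ⟨fun h' => ⟨Set.mem_univ _, h'⟩, fun h' => h'.2⟩
  rcases Nat.lt_or_ge m 2 with hm | hm
  · -- only one character is not linear
    have h1 : (Finset.univ.filter fun θ : IrrCharacter F => ¬ (θ : F → ℂ) 1 = 1).card = m := by
      have h2 := Finset.card_filter_add_card_filter_not (s := (Finset.univ : Finset (IrrCharacter F)))
        (p := fun θ => (θ : F → ℂ) 1 = 1)
      have h3 := Finset.card_filter_add_card_filter_not (s := (Finset.univ : Finset (IrrCharacter F)))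
        (p := fun θ => θ ∈ Set.range y')
      have h4 : (Finset.univ.filter fun θ : IrrCharacter F => θ ∈ Set.range y') = Finset.univ.image y' := by
        ext θ; simp
      rw [h4, Finset.card_image_of_injective _ S'.inj, Finset.card_univ, Fintype.card_fin, ← hX, hXcard] at h3
      rw [← hL, hLcard] at h2
      simp only [Finset.card_univ] at h2 h3
      omega
    rw [Finset.card_le_one.mp (h1.trans_le (by omega)) η (Finset.mem_filter.mpr ⟨Finset.mem_univ _, hnl η hη⟩) η'
      (Finset.mem_filter.mpr ⟨Finset.mem_univ _, hnl η' hη'⟩)]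
  · have hsub : L ⊆ X := by
      intro θ hθ
      have hθ1 := (Finset.mem_filter.mp hθ).2
      refine Finset.mem_filter.mpr ⟨Finset.mem_univ _, ?_⟩
      rintro ⟨i, rfl⟩
      obtain ⟨j, hj⟩ : ∃ j : Fin m, j ≠ i := by
        haveI : Nontrivial (Fin m) := Fin.nontrivial_iff_two_le.mpr hm
        exact exists_ne i
      have heq : ∀ g, ¬ p ∣ orderOf g → (y' i : F → ℂ) g = (y' j : F → ℂ) g := fun g hg =>
        mul_left_cancel₀ (by rcases S'.sign₀ with h' | h' <;> simp [h'])
          (add_right_cancel ((S'.rel i g hg).trans (S'.rel j g hg).symm))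
      have hj1 : (y' j : F → ℂ) 1 = 1 := (heq 1 (by simp [hM.1.ne_one])).symm.trans hθ1
      refine hj (S'.inj (Subtype.ext (funext fun g => ?_)))
      rw [← ppt_mul_preg (p := p) g, hlin _ hj1 _ (h.ppt_mem g), hlin _ hθ1 _ (h.ppt_mem g)]
      exact (heq _ (preg_spec h.prime g).2.1).symm
    have hLX := Finset.eq_of_subset_of_card_le hsub (hXcard.trans hLcard.symm).le
    have hiny : ∀ θ : IrrCharacter F, (θ : F → ℂ) 1 ≠ 1 → θ ∈ Set.range y' := fun θ hθ => by
      by_contra hn
      exact hθ (Finset.mem_filter.mp (hLX ▸ Finset.mem_filter.mpr ⟨Finset.mem_univ _, hn⟩ : θ ∈ L)).2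
    obtain ⟨i, rfl⟩ := hiny η (hnl η hη)
    obtain ⟨j, rfl⟩ := hiny η' (hnl η' hη')
    rw [hsy, hsy]

end Cfsg.Agent.Char.CyclicFrobenius
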