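import Cfsg.Agent.Lib.Char.CyclicSides

/-!
# Perfect isometries between blocks with isomorphic cyclic defect groups and equal inertial index
-/

set_option autoImplicit false
set_option linter.unusedSectionVars false
set_option linter.style.haveILetI false

namespace Cfsg.Agent.Char.CyclicIsometry

open Cfsg CyclicSides StarVectors

universe u v w w'

variable {G : Type u} [Group G] [Fintype G] {H : Type v} [Group H] [Fintype H] {M : Ideal AlgInt} {p : ℕ}

open scoped Classical in
set_option maxHeartbeats 2000000 in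
/-- The isometry of two sides with the same orbit sums. -/
theorem of_sides (hM : IsPModular p M) {B : Set (IrrCharacter G)} {b : Set (IrrCharacter H)} {e m : ℕ}
    {A₁ : Type w} [Group A₁] [Fintype A₁] {A₂ : Type w'} [Group A₂] [Fintype A₂] (φ : A₂ ≃* A₁)
    {ψ : Fin m → A₁ → ℂ} (hψ : ∀ z, z ≠ 1 → ∑ i, ψ i z = -1) (hm : 1 ≤ m)
    {y : Fin m → IrrCharacter G} {δ : IrrCharacter G → ℤ} {ε : ℤ} (S : Side M p B e m ψ y δ ε)
    {y' : Fin m → IrrCharacter H} {δ' : IrrCharacter H → ℤ} {ε' : ℤ}
    (S' : Side M p b e m (fun i z => ψ i (φ z)) y' δ' ε') :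
    ∃ (I : IrrCharacter H → IrrCharacter G) (s : IrrCharacter H → ℤ), IsPerfectIsometry p M b B I s ∧
      (∀ i, s (y' i) = ε * ε') ∧
      ∀ η : {η // η ∈ b ∧ η ∉ Set.range y'}, ∃ χ : {χ // χ ∈ B ∧ χ ∉ Set.range y}, s η.1 = δ χ.1 * δ' η.1 := by
  have hP := pmod_prime hM
  let f : {η // η ∈ b ∧ η ∉ Set.range y'} ≃ {χ // χ ∈ B ∧ χ ∉ Set.range y} :=
    Fintype.equivOfCardEq (S'.card_rest.trans S.card_rest.symm)
  let I : IrrCharacter H → IrrCharacter G := fun η =>
    if h : η ∈ Set.range y' then y h.choose else if h' : η ∈ b then (f ⟨η, h', h⟩).1 else y ⟨0, hm⟩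
  let s : IrrCharacter H → ℤ := fun η => if η ∈ Set.range y' then ε * ε' else δ (I η) * δ' η
  have hIy : ∀ i, I (y' i) = y i := fun i => by
    have h : y' i ∈ Set.range y' := ⟨i, rfl⟩
    simp only [I, dif_pos h]
    exact congrArg y (S'.inj h.choose_spec)
  have hsy : ∀ i, s (y' i) = ε * ε' := fun i => if_pos ⟨i, rfl⟩
  have hIX : ∀ η : {η // η ∈ b ∧ η ∉ Set.range y'}, I η.1 = (f η).1 := fun η => by
    simp only [I, dif_neg η.2.2, dif_pos η.2.1, Subtype.coe_eta]
  have hsX : ∀ η : {η // η ∈ b ∧ η ∉ Set.range y'}, s η.1 = δ (f η).1 * δ' η.1 := fun η => by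
    simp only [s, if_neg η.2.2, hIX]
  have hbij : Set.BijOn I b B := by
    refine ⟨fun η hη => ?_, fun η hη η' hη' he => ?_, fun χ hχ => ?_⟩
    · by_cases h : η ∈ Set.range y'
      · obtain ⟨i, rfl⟩ := h
        rw [hIy]
        exact S.mem i
      · rw [hIX ⟨η, hη, h⟩]
        exact (f _).2.1
    · by_cases h : η ∈ Set.range y' <;> by_cases h' : η' ∈ Set.range y'
      · obtain ⟨i, rfl⟩ := h
        obtain ⟨j, rfl⟩ := h'
        rw [hIy, hIy] at he
        rw [S.inj he]
      · obtain ⟨i, rfl⟩ := h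
        rw [hIy, hIX ⟨η', hη', h'⟩] at he
        exact absurd ⟨i, he⟩ (f ⟨η', hη', h'⟩).2.2
      · obtain ⟨j, rfl⟩ := h'
        rw [hIy, hIX ⟨η, hη, h⟩] at he
        exact absurd ⟨j, he.symm⟩ (f ⟨η, hη, h⟩).2.2
      · rw [hIX ⟨η, hη, h⟩, hIX ⟨η', hη', h'⟩] at he
        exact congrArg Subtype.val (f.injective (Subtype.ext he))
    · by_cases h : χ ∈ Set.range y
      · obtain ⟨i, rfl⟩ := h
        exact ⟨y' i, S'.mem i, hIy i⟩
      · obtain ⟨η, hη⟩ := f.surjective ⟨χ, hχ, h⟩
        exact ⟨η.1, η.2.1, by rw [hIX, hη]⟩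
  have hsign : ∀ η, s η = 1 ∨ s η = -1 := fun η => by
    simp only [s]
    split_ifs
    · rcases S.sign₀ with h | h <;> rcases S'.sign₀ with h' | h' <;> simp [h, h']
    · rcases S.sign (I η) with h | h <;> rcases S'.sign η with h' | h' <;> simp [h, h']
  -- the kernel
  let Y : Fin m → G → ℂ := fun i g => (ε : ℂ) * (y i : G → ℂ) g
  let Y' : Fin m → H → ℂ := fun i h => (ε' : ℂ) * (y' i : H → ℂ) h
  let X : {χ // χ ∈ B ∧ χ ∉ Set.range y} → G → ℂ := fun χ g => (δ χ.1 : ℂ) * (χ.1 : G → ℂ) g
  let X' : {η // η ∈ b ∧ η ∉ Set.range y'} → H → ℂ := fun η h => (δ' η.1 : ℂ) * (η.1 : H → ℂ) h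
  have hker : ∀ g h, signedBijectionKernel b I s g h =
      ∑ i, Y i g * Y' i h + ∑ η, X (f η) g * X' η h := by
    intro g h
    rw [signedBijectionKernel, finsum_mem_irr,
      ← Finset.sum_filter_add_sum_filter_not _ (fun η => η ∈ Set.range y'), Finset.filter_filter,
      Finset.filter_filter]
    congr 1
    · refine (Finset.sum_bij (fun i _ => y' i) (fun i _ => Finset.mem_filter.mpr ⟨Finset.mem_univ _, S'.mem i, i, rfl⟩)
        (fun i _ j _ e => S'.inj e) (fun η hη => ?_) fun i _ => ?_).symm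
      · obtain ⟨i, hi⟩ := (Finset.mem_filter.mp hη).2.2
        exact ⟨i, Finset.mem_univ _, hi⟩
      · simp only [hIy, hsy, Y, Y']
        push_cast
        ring
    · refine (Finset.sum_bij (fun η _ => η.1) (fun η _ => Finset.mem_filter.mpr ⟨Finset.mem_univ _, η.2⟩)
        (fun a _ b _ e => Subtype.ext e) (fun η hη => ⟨⟨η, (Finset.mem_filter.mp hη).2⟩, Finset.mem_univ _, rfl⟩)
        fun η _ => ?_).symm
      simp only [hIX, hsX, X, X']
      push_cast
      ring
  have hswap : ∀ g, ∑ η, X (f η) g = ∑ χ, X χ g := fun g => f.sum_comp fun χ => X χ g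
  have hrel : ∀ i g, ¬ p ∣ orderOf g → Y i g = -∑ χ, X χ g := fun i g hg => eq_neg_of_add_eq_zero_left (S.rel i g hg)
  have hrel' : ∀ i h, ¬ p ∣ orderOf h → Y' i h = -∑ η, X' η h := fun i h hh =>
    eq_neg_of_add_eq_zero_left (S'.rel i h hh)
  have htot : ∀ a : A₁ → ℂ, a 1 = 0 → ∑ i, ∑ z, a z * ψ i z = -∑ z, a z := fun a ha => by
    rw [Finset.sum_comm, ← Finset.sum_neg_distrib]
    refine Finset.sum_congr rfl fun z _ => ?_
    rw [← Finset.mul_sum]
    by_cases hz : z = 1
    · simp [hz, ha]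
    · rw [hψ z hz]; ring
  have htot' : ∀ a : A₂ → ℂ, a 1 = 0 → ∑ i, ∑ z, a z * ψ i (φ z) = -∑ z, a z := fun a ha => by
    rw [Finset.sum_comm, ← Finset.sum_neg_distrib]
    refine Finset.sum_congr rfl fun z _ => ?_
    rw [← Finset.mul_sum]
    by_cases hz : z = 1
    · simp [hz, ha]
    · rw [hψ (φ z) fun h => hz (φ.map_eq_one_iff.mp h)]; ring
  have hmix : ∀ g h, ¬ (p ∣ orderOf g ↔ p ∣ orderOf h) → signedBijectionKernel b I s g h = 0 := by
    intro g h hgh
    rw [hker]
    by_cases hg : p ∣ orderOf g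
    · have hh : ¬ p ∣ orderOf h := fun hh => hgh ⟨fun _ => hh, fun _ => hg⟩
      obtain ⟨a, -, ha1, hX, hY⟩ := S.col g hg
      have h1 : ∀ i, Y i g * Y' i h = (∑ z, a z * ψ i z) * (-∑ η, X' η h) := fun i => by
        rw [hrel' i h hh, show Y i g = ∑ z, a z * ψ i z from hY i]
      have h2 : ∀ η, X (f η) g * X' η h = (-∑ z, a z) * X' η h := fun η => by
        rw [show X (f η) g = -∑ z, a z from hX (f η)]
      rw [Finset.sum_congr rfl fun i _ => h1 i, Finset.sum_congr rfl fun η _ => h2 η, ← Finset.sum_mul,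
        ← Finset.mul_sum, htot a ha1]
      ring
    · have hh : p ∣ orderOf h := by
        by_contra hh
        exact hgh ⟨fun h' => absurd h' hg, fun h' => absurd h' hh⟩
      obtain ⟨a, -, ha1, hX, hY⟩ := S'.col h hh
      have h1 : ∀ i, Y i g * Y' i h = (-∑ χ, X χ g) * ∑ z, a z * ψ i (φ z) := fun i => by
        rw [hrel i g hg, show Y' i h = ∑ z, a z * ψ i (φ z) from hY i]
      have h2 : ∀ η, X (f η) g * X' η h = X (f η) g * (-∑ z, a z) := fun η => by
        rw [show X' η h = -∑ z, a z from hX η]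
      rw [Finset.sum_congr rfl fun i _ => h1 i, Finset.sum_congr rfl fun η _ => h2 η, ← Finset.mul_sum,
        ← Finset.sum_mul, htot' a ha1, hswap]
      ring
  have hleft : ∀ g h, MemLocalRing M (signedBijectionKernel b I s g h /
      (Nat.card (Subgroup.centralizer ({g} : Set G)) : ℂ)) := by
    intro g h
    by_cases hh : p ∣ orderOf h
    · obtain ⟨a, ha, ha1, hX, hY⟩ := S'.col h hh
      have h1 : ∀ i, Y i g * Y' i h = ∑ z, a z * (ψ i (φ z) * Y i g) := fun i => by
        rw [show Y' i h = ∑ z, a z * ψ i (φ z) from hY i, Finset.mul_sum]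
        exact Finset.sum_congr rfl fun z _ => by ring
      have h2 : ∀ η, X (f η) g * X' η h = -∑ z, a z * X (f η) g := fun η => by
        rw [show X' η h = -∑ z, a z from hX η, ← Finset.sum_mul]
        ring
      have e : signedBijectionKernel b I s g h =
          ∑ z, a z * (∑ i, ψ i (φ z) * Y i g - ∑ χ, X χ g) := by
        rw [hker, Finset.sum_congr rfl fun i _ => h1 i, Finset.sum_congr rfl fun η _ => h2 η,
          Finset.sum_neg_distrib, f.sum_comp (fun χ => ∑ z, a z * X χ g), Finset.sum_comm,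
          Finset.sum_comm (f := fun χ z => a z * X χ g), ← sub_eq_add_neg, ← Finset.sum_sub_distrib]
        exact Finset.sum_congr rfl fun z _ => by rw [mul_sub, Finset.mul_sum, Finset.mul_sum]
      rw [e, Finset.sum_div]
      refine memLR_sum hP _ _ fun z _ => ?_
      rw [mul_div_assoc]
      by_cases hz : z = 1
      · rw [hz, ha1, zero_mul]
        exact memLR_zero hP
      · exact memLR_mul hP (ha z) (S.pair g (φ z) fun h' => hz (φ.map_eq_one_iff.mp h'))
    · let cf : IrrCharacter G → ℂ := fun χ =>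
        ∑ η : IrrCharacter H with η ∈ b ∧ I η = χ, (s η : ℂ) * (η : H → ℂ) h
      have e : ∀ x, signedBijectionKernel b I s x h = ∑ χ, cf χ * (χ : G → ℂ) x := fun x => by
        rw [signedBijectionKernel, finsum_mem_irr,
          ← Finset.sum_fiberwise_of_maps_to (g := I) (t := Finset.univ) fun _ _ => Finset.mem_univ _]
        refine Finset.sum_congr rfl fun χ _ => ?_
        rw [Finset.sum_mul, Finset.filter_filter]
        refine Finset.sum_congr rfl fun η hη => ?_
        rw [(Finset.mem_filter.mp hη).2.2]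
        ring
      rw [e]
      exact CyclicColumns.vanish_local hM cf (fun χ => memLR_sum hP _ _ fun η _ =>
        memLR_mul hP (memLR_intCast hP _) (memLR_char hP (irr_isCharacter η.2) _))
        (fun x hx => (e x).symm.trans (hmix x h fun hiff => hh (hiff.mp hx))) g
  have hright : ∀ g h, MemLocalRing M (signedBijectionKernel b I s g h /
      (Nat.card (Subgroup.centralizer ({h} : Set H)) : ℂ)) := by
    intro g h
    by_cases hg : p ∣ orderOf g
    · obtain ⟨a, ha, ha1, hX, hY⟩ := S.col g hg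
      have h1 : ∀ i, Y i g * Y' i h = ∑ z, a z * (ψ i z * Y' i h) := fun i => by
        rw [show Y i g = ∑ z, a z * ψ i z from hY i, Finset.sum_mul]
        exact Finset.sum_congr rfl fun z _ => by ring
      have h2 : ∀ η, X (f η) g * X' η h = -∑ z, a z * X' η h := fun η => by
        rw [show X (f η) g = -∑ z, a z from hX (f η), ← Finset.sum_mul]
        ring
      have e : signedBijectionKernel b I s g h =
          ∑ z, a z * (∑ i, ψ i z * Y' i h - ∑ η, X' η h) := by
        rw [hker, Finset.sum_congr rfl fun i _ => h1 i, Finset.sum_congr rfl fun η _ => h2 η,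
          Finset.sum_neg_distrib, Finset.sum_comm,
          Finset.sum_comm (f := fun η z => a z * X' η h), ← sub_eq_add_neg, ← Finset.sum_sub_distrib]
        exact Finset.sum_congr rfl fun z _ => by rw [mul_sub, Finset.mul_sum, Finset.mul_sum]
      rw [e, Finset.sum_div]
      refine memLR_sum hP _ _ fun z _ => ?_
      rw [mul_div_assoc]
      by_cases hz : z = 1
      · rw [hz, ha1, zero_mul]
        exact memLR_zero hP
      · refine memLR_mul hP (ha z) ?_
        have h1 := S'.pair h (φ.symm z) fun h' => hz (φ.symm.map_eq_one_iff.mp h')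
        simp only [MulEquiv.apply_symm_apply] at h1
        exact h1
    · let cf : IrrCharacter H → ℂ := fun η => if η ∈ b then (s η : ℂ) * (I η : G → ℂ) g else 0
      have e : ∀ x, signedBijectionKernel b I s g x = ∑ η, cf η * (η : H → ℂ) x := fun x => by
        rw [signedBijectionKernel, finsum_mem_irr, Finset.sum_filter]
        exact Finset.sum_congr rfl fun η _ => by simp only [cf, ite_mul, zero_mul]
      rw [e]
      refine CyclicColumns.vanish_local hM cf (fun η => ?_)
        (fun x hx => (e x).symm.trans (hmix g x fun hiff => hg (hiff.mpr hx))) h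
      simp only [cf]
      split_ifs
      · exact memLR_mul hP (memLR_intCast hP _) (memLR_char hP (irr_isCharacter (I η).2) _)
      · exact memLR_zero hP
  refine ⟨I, s, ⟨hbij, fun η _ => hsign η, fun g h => ⟨hleft g h, hright g h, ?_⟩⟩, hsy, fun η => ⟨f η, hsX η⟩⟩
  by_cases hgh : (p ∣ orderOf g ↔ p ∣ orderOf h)
  · exact Or.inl (not_congr hgh)
  · exact Or.inr (hmix g h hgh)

end Cfsg.Agent.Char.CyclicIsometry
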