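import Mathlib

/-!
# Vectors with Gram matrix `e + 1` on the largest possible support

If `m` integral vectors on `e + m` points have inner products `e`, norms `e + 1` and no common zero, then each of
them has one point of its own and the remaining `e` points carry a common sign vector.
-/

set_option autoImplicit false

namespace Cfsg.Agent.Char.CyclicLattice

open Finset

/-- The form at one point. -/
theorem point {N : ℕ} (x : Fin N → ℤ) (hx : ∃ i, x i ≠ 0) :
    (N : ℤ) ≤ ((N : ℤ) + 1) * ∑ i, x i ^ 2 - (∑ i, x i) ^ 2 ∧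
      (((N : ℤ) + 1) * ∑ i, x i ^ 2 - (∑ i, x i) ^ 2 = N →
        (∃ i, (x i = 1 ∨ x i = -1) ∧ ∀ j, j ≠ i → x j = 0) ∨ ∃ d : ℤ, (d = 1 ∨ d = -1) ∧ ∀ i, x i = d) := by
  classical
  set S := univ.filter fun i => x i ≠ 0 with hS
  set T := ∑ i, x i ^ 2 with hT
  have hTS : T = ∑ i ∈ S, x i ^ 2 := (sum_subset (subset_univ _) fun i _ hi => by
    simp only [hS, mem_filter, mem_univ, true_and, not_not] at hi
    simp [hi]).symm
  have hsum : ∑ i, x i = ∑ i ∈ S, x i := (sum_subset (subset_univ _) fun i _ hi => by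
    simp only [hS, mem_filter, mem_univ, true_and, not_not] at hi
    exact hi).symm
  have hsT : (S.card : ℤ) ≤ T := by
    rw [hTS, card_eq_sum_ones, Nat.cast_sum]
    refine sum_le_sum fun i hi => ?_
    have h0 := (mem_filter.mp hi).2
    have : 0 < x i ^ 2 := by positivity
    push_cast; omega
  have hcs : (∑ i, x i) ^ 2 ≤ (S.card : ℤ) * T := by rw [hsum, hTS]; exact sq_sum_le_card_mul_sum_sq
  have hs1 : 1 ≤ (S.card : ℤ) := by
    obtain ⟨i, hi⟩ := hx
    exact_mod_cast card_pos.mpr ⟨i, by simp [hS, hi]⟩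
  have hsN : (S.card : ℤ) ≤ N := by
    exact_mod_cast (card_le_univ S).trans (Fintype.card_fin N).le
  have h1 : ((N : ℤ) + 1 - S.card) * S.card ≤ ((N : ℤ) + 1 - S.card) * T :=
    mul_le_mul_of_nonneg_left hsT (by omega)
  have h2 : (N : ℤ) ≤ ((N : ℤ) + 1 - S.card) * S.card := by
    nlinarith [mul_nonneg (show 0 ≤ (S.card : ℤ) - 1 by omega) (show 0 ≤ (N : ℤ) - S.card by omega)]
  refine ⟨by nlinarith, fun heq => ?_⟩
  have hTs : T = S.card := by nlinarith
  have hunit : ∀ i ∈ S, x i = 1 ∨ x i = -1 := by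
    intro i hi
    by_contra hne
    have h4 : 4 ≤ x i ^ 2 := by
      have h0 := (mem_filter.mp hi).2
      push Not at hne
      rcases (show 2 ≤ x i ∨ x i ≤ -2 by omega) with h | h <;> nlinarith
    have hrest : ((S.erase i).card : ℤ) ≤ ∑ j ∈ S.erase i, x j ^ 2 := by
      rw [card_eq_sum_ones, Nat.cast_sum]
      refine sum_le_sum fun j hj => ?_
      have h0 := (mem_filter.mp (mem_of_mem_erase hj)).2
      have : 0 < x j ^ 2 := by positivity
      push_cast; omega
    rw [← card_erase_add_one hi, hTS, ← add_sum_erase _ _ hi] at hTs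
    push_cast at hTs
    omega
  have hprod : ((S.card : ℤ) - 1) * ((N : ℤ) - S.card) = 0 := by nlinarith
  rcases mul_eq_zero.mp hprod with h | h
  · left
    obtain ⟨i, hi⟩ := card_eq_one.mp (show S.card = 1 by omega)
    refine ⟨i, hunit i (by rw [hi]; exact mem_singleton_self i), fun j hj => ?_⟩
    by_contra h0
    have : j ∈ S := by simp [hS, h0]
    rw [hi, mem_singleton] at this
    exact hj this
  · right
    have hall : ∀ i, x i = 1 ∨ x i = -1 := fun i => hunit i (by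
      rw [eq_univ_of_card S (by rw [Fintype.card_fin]; omega)]; exact mem_univ i)
    have hsq : (∑ i, x i) ^ 2 = (N : ℤ) ^ 2 := by
      rw [hTs, show (S.card : ℤ) = N by omega] at heq
      linarith
    rcases sq_eq_sq_iff_eq_or_eq_neg.mp hsq with h' | h'
    · refine ⟨1, Or.inl rfl, fun i => ?_⟩
      have h0 : ∑ i, (1 - x i) = 0 := by simp [sum_sub_distrib, h']
      have := (sum_eq_zero_iff_of_nonneg fun i _ => by rcases hall i with h | h <;> simp [h]).mp h0 i (mem_univ i)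
      omega
    · refine ⟨-1, Or.inr rfl, fun i => ?_⟩
      have h0 : ∑ i, (1 + x i) = 0 := by simp [sum_add_distrib, h']
      have := (sum_eq_zero_iff_of_nonneg fun i _ => by rcases hall i with h | h <;> simp [h]).mp h0 i (mem_univ i)
      omega

open scoped Classical in
/-- The shape of the vectors. -/
theorem exact {ι : Type*} [Fintype ι] {N e : ℕ} (hN : 1 ≤ N) (u : Fin N → ι → ℤ)
    (hgram : ∀ i j, ∑ χ, u i χ * u j χ = (e : ℤ) + if i = j then 1 else 0) (hsupp : ∀ χ, ∃ i, u i χ ≠ 0)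
    (hk : Fintype.card ι = e + N) :
    ∃ (y : Fin N → ι) (δ : ι → ℤ) (ε : Fin N → ℤ), Function.Injective y ∧ (∀ χ, δ χ = 1 ∨ δ χ = -1) ∧
      (∀ i, ε i = 1 ∨ ε i = -1) ∧
      ∀ i χ, u i χ = if χ = y i then ε i else if χ ∈ Set.range y then 0 else δ χ := by
  let Q : ι → ℤ := fun χ => ((N : ℤ) + 1) * ∑ i, u i χ ^ 2 - (∑ i, u i χ) ^ 2
  have hQsum : ∑ χ, Q χ = ∑ _χ : ι, (N : ℤ) := by
    have e1 : ∑ χ, ∑ i, u i χ ^ 2 = (N : ℤ) * (e + 1) := by
      rw [sum_comm, sum_congr rfl (g := fun _ : Fin N => (e : ℤ) + 1) fun i _ => by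
        simpa [pow_two] using hgram i i]
      simp
    have e2 : ∑ χ, (∑ i, u i χ) ^ 2 = (N : ℤ) * (N * e + 1) := by
      simp only [pow_two, sum_mul_sum]
      rw [sum_comm, sum_congr rfl fun i _ => by rw [sum_comm, sum_congr rfl fun j _ => hgram i j]]
      simp [sum_add_distrib]
    simp only [Q, sum_sub_distrib, ← mul_sum, e1, e2, sum_const, card_univ, hk, nsmul_eq_mul]
    push_cast
    ring
  have hQ : ∀ χ, Q χ = N := fun χ =>
    ((sum_eq_sum_iff_of_le fun χ _ => (point (fun i => u i χ) (hsupp χ)).1).mp hQsum.symm χ (mem_univ χ)).symm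
  have hshape := fun χ => (point (fun i => u i χ) (hsupp χ)).2 (hQ χ)
  by_cases hN1 : N = 1
  · subst hN1
    have hu : ∀ χ, u 0 χ = 1 ∨ u 0 χ = -1 := fun χ => by
      rcases hshape χ with ⟨i, hi, -⟩ | ⟨d, hd, hi⟩
      · rwa [Subsingleton.elim 0 i]
      · rw [hi 0]; exact hd
    obtain ⟨χ₀⟩ : Nonempty ι := Fintype.card_pos_iff.mp (by omega)
    refine ⟨fun _ => χ₀, u 0, fun _ => u 0 χ₀, fun a b _ => Subsingleton.elim a b, hu, fun _ => hu χ₀,
      fun i χ => ?_⟩
    rw [Subsingleton.elim i 0]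
    split_ifs with h1 h2
    · rw [h1]
    · obtain ⟨_, h⟩ := h2
      exact absurd h.symm h1
    · rfl
  set X := univ.filter fun χ => ∀ i, u i χ = 1 ∨ u i χ = -1 with hX
  have hfull : ∀ χ ∈ X, ∀ i j, u i χ * u j χ = 1 := by
    intro χ hχ i j
    rcases hshape χ with ⟨l, -, hz⟩ | ⟨d, hd, hi⟩
    · exfalso
      haveI : Nontrivial (Fin N) := Fin.nontrivial_iff_two_le.mpr (by omega)
      obtain ⟨l', hl'⟩ := exists_ne l
      have h := (mem_filter.mp hχ).2 l'
      rw [show u l' χ = 0 from hz l' hl'] at h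
      omega
    · rw [hi i, hi j]; rcases hd with h | h <;> simp [h]
  have hsingle : ∀ χ ∉ X, ∃ i, (u i χ = 1 ∨ u i χ = -1) ∧ ∀ j, j ≠ i → u j χ = 0 := by
    intro χ hχ
    rcases hshape χ with h | ⟨d, hd, hi⟩
    · exact h
    · exact absurd (mem_filter.mpr ⟨mem_univ χ, fun i => by rw [hi i]; exact hd⟩) hχ
  have hXe : (X.card : ℤ) = e := by
    haveI : Nontrivial (Fin N) := Fin.nontrivial_iff_two_le.mpr (by omega)
    obtain ⟨i, j, hij⟩ := exists_pair_ne (Fin N)
    have h := hgram i j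
    rw [if_neg hij, add_zero, ← sum_subset (subset_univ X) fun χ _ hχ => by
      obtain ⟨l, -, hl⟩ := hsingle χ hχ
      by_cases h : i = l
      · rw [hl j (h ▸ hij.symm), mul_zero]
      · rw [hl i h, zero_mul], sum_congr rfl fun χ hχ => hfull χ hχ i j] at h
    simpa using h
  have hy : ∀ i, ∃ χ, χ ∉ X ∧ (u i χ = 1 ∨ u i χ = -1) ∧ ∀ χ', χ' ∉ X → u i χ' ≠ 0 → χ' = χ := by
    intro i
    have h := hgram i i
    rw [if_pos rfl, ← sum_add_sum_compl X, sum_congr rfl fun χ hχ => hfull χ hχ i i] at h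
    have h2 : ∑ χ ∈ Xᶜ.filter (fun χ => u i χ ≠ 0), u i χ * u i χ = ((Xᶜ.filter fun χ => u i χ ≠ 0).card : ℤ) := by
      rw [card_eq_sum_ones, Nat.cast_sum]
      refine sum_congr rfl fun χ hχ => ?_
      obtain ⟨hχX, hne⟩ := mem_filter.mp hχ
      obtain ⟨l, hl, hz⟩ := hsingle χ (mem_compl.mp hχX)
      rcases hl with hl | hl <;>
        rw [show i = l from by_contra fun h' => hne (hz i h'), hl] <;> simp
    rw [← sum_subset (filter_subset (fun χ => u i χ ≠ 0) Xᶜ) (fun χ hχ hne => by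
      rw [mem_filter, not_and, not_not] at hne; simp [hne hχ]), h2] at h
    simp only [sum_const, nsmul_eq_mul, mul_one] at h
    obtain ⟨χ, hχ⟩ := card_eq_one.mp (show (Xᶜ.filter fun χ => u i χ ≠ 0).card = 1 by omega)
    have hmem : χ ∈ Xᶜ.filter (fun χ => u i χ ≠ 0) := by rw [hχ]; exact mem_singleton_self χ
    obtain ⟨hχX, hne⟩ := mem_filter.mp hmem
    refine ⟨χ, mem_compl.mp hχX, ?_, fun χ' h1 h2 => mem_singleton.mp (hχ ▸ mem_filter.mpr ⟨mem_compl.mpr h1, h2⟩)⟩
    obtain ⟨l, hl, hz⟩ := hsingle χ (mem_compl.mp hχX)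
    rwa [show i = l from by_contra fun h' => hne (hz i h')]
  choose y hyX hy1 hyu using hy
  let i₀ : Fin N := ⟨0, hN⟩
  refine ⟨y, fun χ => if χ ∈ X then u i₀ χ else 1, fun i => u i (y i), fun i j hij => ?_, fun χ => ?_, hy1,
    fun i χ => ?_⟩
  · by_contra hne
    obtain ⟨l, -, hz⟩ := hsingle _ (hyX i)
    have hi : i = l := by_contra fun h => by have := hy1 i; rw [hz i h] at this; omega
    have hj : j = l := by_contra fun h => by have := hy1 j; rw [← hij, hz j h] at this; omega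
    exact hne (hi.trans hj.symm)
  · dsimp only
    split_ifs with h
    · exact (mem_filter.mp h).2 i₀
    · exact Or.inl rfl
  · dsimp only
    split_ifs with h1 h2 h3
    · rw [h1]
    · obtain ⟨j, rfl⟩ := h2
      by_contra h0
      exact h1 (hyu i _ (hyX j) h0)
    · have h4 := hfull χ h3 i i₀
      rcases (mem_filter.mp h3).2 i₀ with h | h <;> rw [h] at h4 ⊢ <;> omega
    · exfalso
      obtain ⟨l, hl, -⟩ := hsingle χ h3
      exact h2 ⟨l, (hyu l χ h3 (by omega)).symm⟩

end Cfsg.Agent.Char.CyclicLattice
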