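import Cfsg.Agent.Lib.Char.SubsectionOrbits
import Cfsg.Agent.Lib.Char.BlockCountBound
import Cfsg.Agent.Lib.Char.LocalPairs

/-!
# Blocks of defect two at the prime two
-/

set_option autoImplicit false
set_option linter.unusedSectionVars false

open Cfsg

namespace Cfsg.Agent.Char.KleinBlock

universe u

variable {H : Type u} [Group H] [Fintype H] {M : Ideal AlgInt}

theorem height_zero (hM : IsPModular 2 M) {f : Set (IrrCharacter H)} (hf : IsPBlock M f)
    (hd : blockDefect 2 f = 2) {θ : IrrCharacter H} (hθ : θ ∈ f) : blockHeight 2 f (θ : H → ℂ) = 0 := by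
  by_contra h
  have := height_add_two_le hM hf hθ h
  omega

theorem wI_self_odd (hM : IsPModular 2 M) {f : Set (IrrCharacter H)} (hf : IsPBlock M f)
    (hd : blockDefect 2 f = 2) {θ : IrrCharacter H} (hθ : θ ∈ f) : Odd (wI 2 f θ θ) := by
  rw [← Int.not_even_iff_odd, even_iff_two_dvd]
  intro h
  refine (wI_succ_dvd_iff hM hf hθ hθ).mp ?_ (height_zero hM hf hd hθ)
  rw [height_zero hM hf hd hθ, zero_add, pow_one]
  exact h

theorem card_le_four (hM : IsPModular 2 M) {f : Set (IrrCharacter H)} (hf : IsPBlock M f)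
    (hd : blockDefect 2 f = 2) : (bset f).card ≤ 4 := by
  have := CentralClass.card_le_kBound hM 2 f hf hd
  rw [CentralClass.natCard_eq_bset] at this
  simpa [CentralClass.kBound] using this

theorem rank_pos (hM : IsPModular 2 M) {f : Set (IrrCharacter H)} (hf : IsPBlock M f) :
    1 ≤ blockRank 2 f := by
  by_contra h
  have hsum := pow_mul_blockRank hM hf
  obtain ⟨θ, hθ⟩ := block_nonempty (pmod_prime hM) hf
  rw [show blockRank 2 f = 0 by omega, Nat.cast_zero, mul_zero] at hsum
  have := (Finset.sum_pos (fun χ hχ => wI_self_pos hM hf (mem_bset.mp hχ)) ⟨θ, mem_bset.mpr hθ⟩).ne'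
  exact this hsum.symm

open scoped Classical in
/-- A central involution cuts such a block into two halves of size twice the rank. -/
theorem rank_one_of_central (hM : IsPModular 2 M) {f : Set (IrrCharacter H)} (hf : IsPBlock M f) {z : H}
    (hzc : ∀ c, z * c = c * z) (hzo : orderOf z = 2) (hd : blockDefect 2 f = 2) : blockRank 2 f = 1 := by
  have hza : orderOf z = 2 ^ 1 := by rw [hzo, pow_one]
  obtain ⟨ω, hω⟩ : ∃ ω : ℂ, IsPrimitiveRoot ω (2 ^ 1) :=
    ⟨_, Complex.isPrimitiveRoot_exp _ (pow_ne_zero 1 two_ne_zero)⟩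
  haveI : NeZero (2 ^ 1) := ⟨pow_ne_zero 1 two_ne_zero⟩
  choose ζ hζN hζ using fun η => exists_central_root hzc η
  have h : ∀ η, ∃ i < 2 ^ 1, ω ^ i = ζ η := fun η => hω.eq_pow_of_pow_eq_one (by rw [← hza]; exact hζN η)
  choose j hj hjζ using h
  have hz : ∀ (η : IrrCharacter H) (c : H), (η : H → ℂ) (z * c) = ω ^ j η * (η : H → ℂ) c :=
    fun η c => by rw [hjζ]; exact hζ η c
  have hcls : ∀ s < 2 ^ 1, ((CentralClass.cls f j s).card : ℤ) = 2 * (blockRank 2 f : ℤ) := by
    intro s hs
    have hdiag : ∀ θ ∈ CentralClass.cls f j s, wI 2 f θ θ = 1 := by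
      intro θ hθ
      have hθf := (CentralClass.mem_cls.mp hθ).1
      have h := CentralClass.mul_sum_cls hM hf hzc hza hω hj hz hθf hθf hs
      rw [hd] at h
      have h1 : wI 2 f θ θ * wI 2 f θ θ ≤ ∑ φ ∈ CentralClass.cls f j s, wI 2 f θ φ * wI 2 f φ θ :=
        Finset.single_le_sum (f := fun φ => wI 2 f θ φ * wI 2 f φ θ) (fun φ _ => by
          rw [wI_symm hM φ θ]; exact mul_self_nonneg _) hθ
      have hpos := wI_self_pos hM hf hθf
      obtain ⟨m, hm⟩ := wI_self_odd hM hf hd hθf
      norm_num at h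
      have hle2 : wI 2 f θ θ ≤ 2 := by
        refine le_of_mul_le_mul_right ?_ hpos
        linarith
      omega
    have h1 : ∑ η ∈ bset f, ∑ θ ∈ CentralClass.cls f j s, wI 2 f η θ * wI 2 f θ η =
        ∑ θ ∈ CentralClass.cls f j s, 4 * wI 2 f θ θ := by
      rw [Finset.sum_comm]
      refine Finset.sum_congr rfl fun θ hθ => ?_
      have h2 := sum_wI_sq hM hf (CentralClass.mem_cls.mp hθ).1
      rw [hd] at h2
      refine Eq.trans ?_ (h2.trans (by norm_num))
      exact Finset.sum_congr rfl fun η _ => by rw [wI_symm hM η θ, sq]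
    have h3 : 2 * ∑ η ∈ bset f, ∑ θ ∈ CentralClass.cls f j s, wI 2 f η θ * wI 2 f θ η =
        4 * ∑ η ∈ bset f, wI 2 f η η := by
      rw [Finset.mul_sum, Finset.mul_sum]
      refine Finset.sum_congr rfl fun η hη => ?_
      have h := CentralClass.mul_sum_cls hM hf hzc hza hω hj hz (mem_bset.mp hη) (mem_bset.mp hη) hs
      rw [hd] at h
      norm_num at h
      exact h
    rw [h1, ← pow_mul_blockRank hM hf, hd, Finset.sum_congr rfl fun θ hθ => by rw [hdiag θ hθ],
      Finset.sum_const, nsmul_eq_mul] at h3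
    norm_num at h3
    omega
  have hle : (CentralClass.cls f j 0).card + (CentralClass.cls f j 1).card ≤ (bset f).card := by
    rw [← Finset.card_union_of_disjoint]
    · refine Finset.card_le_card (Finset.union_subset ?_ ?_) <;>
        exact fun θ hθ => mem_bset.mpr (CentralClass.mem_cls.mp hθ).1
    · rw [Finset.disjoint_left]
      intro θ h0 h1
      rw [CentralClass.mem_cls] at h0 h1
      omega
  have := card_le_four hM hf hd
  have := hcls 0 (by norm_num)
  have := hcls 1 (by norm_num)
  have := rank_pos hM hf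
  omega

/-- No such block has three characters, or two and rank one. -/
theorem card_eq_four (hM : IsPModular 2 M) {f : Set (IrrCharacter H)} (hf : IsPBlock M f)
    (hd : blockDefect 2 f = 2) (hk : (bset f).card = blockRank 2 f + 1) : (bset f).card = 4 := by
  classical
  have hle := card_le_four hM hf hd
  have hpos := rank_pos hM hf
  have hsum := pow_mul_blockRank hM hf
  rw [hd] at hsum
  by_contra hne
  rcases (by omega : (bset f).card = 2 ∨ (bset f).card = 3) with h2 | h3
  · obtain ⟨χ, ψ, hχψ, hs⟩ := Finset.card_eq_two.mp h2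
    have hχ : χ ∈ f := mem_bset.mp (by rw [hs]; simp)
    have hψ : ψ ∈ f := mem_bset.mp (by rw [hs]; simp)
    rw [hs, Finset.sum_pair hχψ, show blockRank 2 f = 1 by omega] at hsum
    have hq := sum_wI_sq hM hf hχ
    rw [hs, Finset.sum_pair hχψ, hd] at hq
    have a1 := wI_self_pos hM hf hχ
    have a2 := wI_self_pos hM hf hψ
    obtain ⟨m, hm⟩ := wI_self_odd hM hf hd hχ
    norm_num at hsum hq
    obtain hA | hA : wI 2 f χ χ = 1 ∨ wI 2 f χ χ = 3 := by omega
    all_goals
      rw [hA] at hq
      have hb1 : -2 < wI 2 f χ ψ := by nlinarith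
      have hb2 : wI 2 f χ ψ < 2 := by nlinarith
      rcases (by omega : wI 2 f χ ψ = -1 ∨ wI 2 f χ ψ = 0 ∨ wI 2 f χ ψ = 1) with h | h | h <;>
        rw [h] at hq <;> norm_num at hq
  · obtain ⟨a, b, c, hab, hac, hbc, hs⟩ := Finset.card_eq_three.mp h3
    have hm : ∀ θ ∈ ({a, b, c} : Finset (IrrCharacter H)), Odd (wI 2 f θ θ) := fun θ hθ =>
      wI_self_odd hM hf hd (mem_bset.mp (hs ▸ hθ))
    rw [hs, Finset.sum_insert (by simp [hab, hac]), Finset.sum_pair hbc,
      show blockRank 2 f = 2 by omega] at hsum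
    obtain ⟨i, hi⟩ := hm a (by simp)
    obtain ⟨k, hk'⟩ := hm b (by simp)
    obtain ⟨l, hl⟩ := hm c (by simp)
    norm_num at hsum
    omega

variable {G : Type u} [Group G] [Fintype G] {B : Set (IrrCharacter G)}

/-- Below an abelian maximal pair the stabilizer has index prime to `p` over the centralizer. -/
theorem inertial_prime {p : ℕ} (hM : IsPModular p M) {D : Subgroup G}
    {e : Set (IrrCharacter (Subgroup.centralizer (D : Set G)))} (hmax : IsMaximalBrauerPair p M B D e)
    (hab : ∀ x ∈ D, ∀ y ∈ D, x * y = y * x) :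
    ((Subgroup.centralizer (D : Set G)).relIndex (pairStab (pmod_prime hM) hmax.1.1.2)).factorization p = 0 := by
  have hctx := stabCtx_pairStab hM hmax.1.1.1 hmax.1.1.2
  obtain ⟨d, hd⟩ := hctx.exists_maxOver hM
  have h := hctx.maxOver_relIndex hM hd
  have hpair := (brauerPairOf_iff hM hmax.1.2.1 hd.1.1).mp hmax.1
  have hdD : d.1 = D := (Subgroup.eq_of_le_of_card_ge hd.1.1.2.2.1 (card_le_of_pairOf hM hmax hpair)).symm
  have hone : (Subgroup.centralizer (D : Set G)).relIndex D = 1 :=
    Subgroup.relIndex_eq_one.mpr fun x hx y hy => hab y hy x hx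
  rw [hdD, hone] at h
  exact Nat.pow_right_injective hM.1.two_le (h.symm.trans (pow_zero p).symm)

end Cfsg.Agent.Char.KleinBlock
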