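import Cfsg.Agent.Lib.Char.CyclicCentre
import Cfsg.Agent.Lib.Char.BelowData
import Cfsg.Agent.Lib.Char.SmallBlock
import Cfsg.Agent.Lib.Char.KleinFourBlock
import Cfsg.Agent.Lib.Char.Green
import Cfsg.Agent.Lib.Char.ResClosed

/-!
# The block of the centralizer of the subgroup of order `p` of a cyclic defect group

It is nilpotent, and its group algebra over the residue field has a truncated polynomial corner.
-/

set_option autoImplicit false
set_option linter.unusedSectionVars false
set_option linter.style.haveILetI false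

open Cfsg

namespace Cfsg.Agent.Char.CyclicLocal

universe u

variable {G : Type u} [Group G] [Fintype G] {M : Ideal AlgInt} {p : ℕ} {B : Set (IrrCharacter G)}
  {D : Subgroup G} {c : Set (IrrCharacter (Subgroup.centralizer (D : Set G)))} {σ : G} {a : ℕ}

theorem comm_of_gen (hσ : Subgroup.zpowers σ = D) : ∀ x ∈ D, ∀ y ∈ D, x * y = y * x := by
  intro x hx y hy
  rw [← hσ] at hx hy
  obtain ⟨i, rfl⟩ := hx
  obtain ⟨j, rfl⟩ := hy
  group

open scoped Classical in
/-- An element of the stabilizer fixing the subgroup of order `p` centralizes `D`. -/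
theorem free (hM : IsPModular p M) (hmax : IsMaximalBrauerPair p M B D c) (hσ : Subgroup.zpowers σ = D)
    (ha : 1 ≤ a) (hord : orderOf σ = p ^ a) {t : G} (ht : t ∈ pairStab (pmod_prime hM) hmax.1.1.2)
    (hfix : t * σ ^ p ^ (a - 1) = σ ^ p ^ (a - 1) * t) : t ∈ Subgroup.centralizer (D : Set G) := by
  have hp := hM.1
  haveI := Fact.mk hp
  have hσD : σ ∈ D := hσ ▸ Subgroup.mem_zpowers σ
  have htN := ((mem_pairStab _ _).mp ht).1
  obtain ⟨r, hr⟩ : t * σ * t⁻¹ ∈ Submonoid.powers σ :=
    mem_powers_iff_mem_zpowers.mpr (hσ.symm ▸ (Subgroup.mem_normalizer_iff.mp htN σ).mp hσD)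
  simp only at hr
  have hpow : ∀ j : ℕ, t ^ j * σ * (t ^ j)⁻¹ = σ ^ (r ^ j) := by
    intro j
    induction j with
    | zero => simp
    | succ j ih =>
      rw [pow_succ', pow_succ', pow_mul, hr, conj_pow, ← ih]
      group
  set C := (Subgroup.centralizer (D : Set G)).subgroupOf (pairStab (pmod_prime hM) hmax.1.1.2)
  haveI : C.Normal := ⟨fun x hx g => by
    rw [Subgroup.mem_subgroupOf, Subgroup.mem_centralizer_iff] at hx ⊢
    intro d hd
    have hgN := ((mem_pairStab _ _).mp g.2).1
    have hd' : (g : G)⁻¹ * d * g ∈ D := by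
      simpa using (Subgroup.mem_normalizer_iff.mp (inv_mem hgN) d).mp hd
    have h1 := hx _ hd'
    simp only [Subgroup.coe_mul, Subgroup.coe_inv]
    calc d * ((g : G) * x * (g : G)⁻¹) = g * (((g : G)⁻¹ * d * g) * x) * (g : G)⁻¹ := by group
      _ = g * ((x : G) * ((g : G)⁻¹ * d * g)) * (g : G)⁻¹ := by rw [h1]
      _ = _ := by group⟩
  set o := C.index with ho
  have ho' : (⟨t, ht⟩ : pairStab (pmod_prime hM) hmax.1.1.2) ^ o ∈ C := Subgroup.pow_index_mem C _
  have hto : t ^ o ∈ Subgroup.centralizer (D : Set G) := by simpa [C, Subgroup.mem_subgroupOf] using ho'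
  have hop : o.Coprime p := by
    refine ((hp.coprime_iff_not_dvd).mpr fun h => ?_).symm
    have h1 := KleinBlock.inertial_prime hM hmax (comm_of_gen hσ)
    have h2 := (hp.dvd_iff_one_le_factorization (show o ≠ 0 from Subgroup.index_ne_zero_of_finite)).mp h
    have h3 : o.factorization p = 0 := h1
    omega
  have h1 : ((r : ZMod (orderOf σ))) ^ o = 1 := by
    have h2 : σ ^ (r ^ o) = σ ^ 1 := by rw [← hpow, pow_one, ← hto σ hσD, mul_inv_cancel_right]
    simpa using (ZMod.natCast_eq_natCast_iff _ _ _).mpr (pow_eq_pow_iff_modEq.mp h2)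
  have h3 : ((r : ZMod (orderOf σ))) ^ (p ^ (a - 1)) = 1 := by
    have h4 : σ ^ (r * p ^ (a - 1)) = σ ^ (p ^ (a - 1)) := by
      rw [pow_mul, hr, conj_pow, hfix, mul_inv_cancel_right]
    have h5 : (p : ℤ) ∣ (r : ℤ) - 1 := by
      have h6 : r * p ^ (a - 1) ≡ 1 * p ^ (a - 1) [MOD p * p ^ (a - 1)] := by
        rw [one_mul, ← pow_succ', Nat.sub_add_cancel ha, ← hord]
        exact pow_eq_pow_iff_modEq.mp h4
      have h7 : r ≡ 1 [MOD p] := Nat.ModEq.mul_right_cancel' (pow_ne_zero _ hp.ne_zero) h6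
      exact (Nat.modEq_iff_dvd.mp h7.symm)
    have h8 := dvd_sub_pow_of_dvd_sub h5 (a - 1)
    rw [Nat.sub_add_cancel ha, one_pow] at h8
    have h9 : (((r : ℤ) ^ p ^ (a - 1) - 1 : ℤ) : ZMod (orderOf σ)) = 0 := by
      rw [ZMod.intCast_zmod_eq_zero_iff_dvd, hord]
      exact_mod_cast h8
    push_cast at h9
    exact sub_eq_zero.mp h9
  have h10 : (r : ZMod (orderOf σ)) = 1 := by
    have hc : o.gcd (p ^ (a - 1)) = 1 := hop.pow_right _
    have : (r : ZMod (orderOf σ)) ^ o.gcd (p ^ (a - 1)) = 1 := pow_gcd_eq_one.mpr ⟨h1, h3⟩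
    rwa [hc, pow_one] at this
  have h11 : t * σ * t⁻¹ = σ := by
    rw [← hr]
    nth_rw 2 [← pow_one σ]
    exact pow_eq_pow_iff_modEq.mpr ((ZMod.natCast_eq_natCast_iff _ _ _).mp (by rw [h10, Nat.cast_one]))
  rw [Subgroup.mem_centralizer_iff]
  intro d hd
  rw [← hσ] at hd
  obtain ⟨i, rfl⟩ := hd
  exact ((show Commute t σ from mul_inv_eq_iff_eq_mul.mp h11).zpow_right i).eq.symm

section Forms

variable {k : Type*} [Field k] {H : Type u} [Group H] [Fintype H]

open scoped Classical in
/-- A symmetric form killing `z` is a multiple of the form of `z ^ (q - 1)`. -/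
theorem form_socle {b z : MonoidAlgebra k H} {q : ℕ} (hq : 1 ≤ q) (hzc : ∀ r, z * r = r * z)
    (hzq : z ^ q * b = 0) (htop : z ^ (q - 1) * b ≠ 0)
    (hcen : ∀ x, (∀ r, x * r = r * x) → b * x = x → ∃ P : Polynomial k, x = Polynomial.aeval z P * b)
    {L : MonoidAlgebra k H →ₗ[k] k} (hL : CyclicCorner.IsForm b z L) :
    ∃ c₀ : k, ∀ x, L x = c₀ * (z ^ (q - 1) * b * x).coeff 1 := by
  have hcm : ∀ u v : MonoidAlgebra k H, (u * v).coeff 1 = (v * u).coeff 1 := fun u v => by
    rw [CyclicCentre.coeff_mul_univ, CyclicCentre.coeff_mul_univ]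
    refine Fintype.sum_equiv (Equiv.inv H) _ _ fun i => ?_
    simp [mul_comm]
  have hzcm : ∀ P : Polynomial k, ∀ r, Polynomial.aeval z P * r = r * Polynomial.aeval z P := by
    intro P r
    induction P using Polynomial.induction_on' with
    | add P Q hP hQ => rw [map_add, add_mul, mul_add, hP, hQ]
    | monomial n t =>
      rw [Polynomial.aeval_monomial, mul_assoc, ((show Commute z r from hzc r).pow_left n).eq, ← mul_assoc,
        Algebra.commutes t r, mul_assoc]
  let a0 : MonoidAlgebra k H := ∑ h : H, MonoidAlgebra.single h (L (CyclicCentre.el h⁻¹))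
  have ha0 : ∀ x, (a0 * x).coeff 1 = L x := by
    intro x
    induction x using MonoidAlgebra.induction_linear with
    | zero => simp
    | add u v hu hv => rw [mul_add, map_add, ← hu, ← hv]; simp
    | single h t =>
      rw [show MonoidAlgebra.single h t = t • CyclicCentre.el h by
        simp [CyclicCentre.el, MonoidAlgebra.smul_single'], mul_smul_comm, map_smul,
        MonoidAlgebra.coeff_smul, Finsupp.smul_apply, CyclicCentre.coeff_mul_el, one_mul]
      simp only [a0, MonoidAlgebra.coeff_sum, Finsupp.finsetSum_apply]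
      rw [Finset.sum_eq_single h⁻¹]
      · simp
      · intro y _ hy; simp [Finsupp.single_eq_of_ne' hy]
      · simp
  have hsep : ∀ u : MonoidAlgebra k H, (∀ x, (u * x).coeff 1 = 0) → u = 0 := fun u hu =>
    CyclicCentre.ext_coeff fun g => by
      have := hu (CyclicCentre.el g⁻¹)
      simpa [CyclicCentre.coeff_mul_el] using this
  have hcentral : ∀ r, a0 * r = r * a0 := fun r => sub_eq_zero.mp (hsep _ fun x => by
    have e1 : ((a0 * r - r * a0) * x).coeff 1 = (a0 * (r * x)).coeff 1 - (a0 * (x * r)).coeff 1 := by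
      rw [sub_mul, MonoidAlgebra.coeff_sub, Finsupp.sub_apply, mul_assoc, mul_assoc r, ← mul_assoc a0 x r,
        hcm r (a0 * x)]
    rw [e1, ha0, ha0, hL.symm, sub_self])
  have hba0 : b * a0 = a0 := sub_eq_zero.mp (hsep _ fun x => by
    rw [sub_mul, MonoidAlgebra.coeff_sub, Finsupp.sub_apply, ← hcentral b, mul_assoc, ha0, ha0, hL.block, sub_self])
  have hza0 : z * a0 = 0 := hsep _ fun x => by rw [← hcentral z, mul_assoc, ha0, hL.kills]
  obtain ⟨P, hP'⟩ := hcen a0 hcentral hba0
  have hsplit : ∀ (j : ℕ) (Q : Polynomial k), j + 1 = q →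
      z ^ j * (Polynomial.aeval z Q * b) = Q.coeff 0 • (z ^ j * b) := by
    intro j Q hj
    conv_lhs => rw [← Polynomial.X_mul_divX_add Q, map_add, map_mul, Polynomial.aeval_X, Polynomial.aeval_C]
    rw [add_mul, mul_add, mul_assoc z, ← mul_assoc (z ^ j), ← pow_succ, hj, ← mul_assoc (z ^ q),
      ← hzcm, mul_assoc, hzq, mul_zero, zero_add, ← Algebra.smul_def, mul_smul_comm]
  have hdvd : ∀ j, j + 1 ≤ q → Polynomial.X ^ j ∣ P := by
    intro j
    induction j with
    | zero => intro _; rw [pow_zero]; exact one_dvd _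
    | succ j ih =>
      intro hj
      obtain ⟨Q, rfl⟩ := ih (by omega)
      have h1 : z ^ (q - 1 - (j + 1)) * (z * a0) = 0 := by rw [hza0, mul_zero]
      rw [hP', map_mul, map_pow, Polynomial.aeval_X, ← mul_assoc, ← pow_succ, mul_assoc (z ^ j), ← mul_assoc,
        ← pow_add, hsplit _ Q (by omega), show q - 1 - (j + 1) + 1 + j = q - 1 by omega] at h1
      rw [pow_succ]
      exact mul_dvd_mul_left _ (Polynomial.X_dvd_iff.mpr ((smul_eq_zero.mp h1).resolve_right htop))
  obtain ⟨Q, hQ⟩ := hdvd (q - 1) (by omega)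
  refine ⟨Q.coeff 0, fun x => ?_⟩
  rw [← ha0, hP', hQ, map_mul, map_pow, Polynomial.aeval_X, mul_assoc (z ^ (q - 1)),
    hsplit _ Q (Nat.sub_add_cancel hq), smul_mul_assoc, MonoidAlgebra.coeff_smul, Finsupp.smul_apply, smul_eq_mul]

end Forms

/-- What the group algebra of the local block provides. -/
structure LocalData (k : Type*) [Field k] {H : Type u} [Group H] (D : Subgroup H) [Fintype (H ⧸ D)]
    (q : ℕ) (b g z w : MonoidAlgebra k H) : Prop where
  corner : CyclicCorner.Corner k b g z q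
  fixed : ∀ u ∈ D, CyclicCentre.cj u w = w
  trace : CyclicCentre.trD D w = b
  centre : ∀ x, (∀ r, x * r = r * x) → b * x = x → ∃ P : Polynomial k, x = Polynomial.aeval z P * b
  rep : ∃ (n : ℕ) (π : MonoidAlgebra k H →ₐ[k] Matrix (Fin n) (Fin n) k),
    0 < n ∧ π b = 1 ∧ Function.Surjective π

open scoped Classical in
set_option maxHeartbeats 2000000 in
theorem exists_data (hM : IsPModular p M) (hmax : IsMaximalBrauerPair p M B D c) (hσ : Subgroup.zpowers σ = D)
    (ha : 1 ≤ a) (hord : orderOf σ = p ^ a)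
    {f : Set (IrrCharacter (Subgroup.centralizer (Subgroup.zpowers (σ ^ p ^ (a - 1)) : Set G)))}
    (hf : IsNormalSubpair p M (Subgroup.zpowers (σ ^ p ^ (a - 1))) f D c)
    [Fintype (Subgroup.centralizer (Subgroup.zpowers (σ ^ p ^ (a - 1)) : Set G))]
    [Fintype (Subgroup.centralizer (Subgroup.zpowers (σ ^ p ^ (a - 1)) : Set G) ⧸
      D.subgroupOf (Subgroup.centralizer (Subgroup.zpowers (σ ^ p ^ (a - 1)) : Set G)))] :
    ∃ g z w, LocalData (Res (pmod_prime hM))
      (D.subgroupOf (Subgroup.centralizer (Subgroup.zpowers (σ ^ p ^ (a - 1)) : Set G))) (p ^ a)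
      (rdAlg (pmod_prime hM) (blockCoeff f)) g z w := by
  have hp := hM.1
  haveI := Fact.mk hp
  set hP := pmod_prime hM with hPdef
  haveI : CharP (Res hP) p := charP_res hP hM
  have hab := comm_of_gen hσ
  have hcB : IsPBlock M c := hmax.1.1.2
  have hfB : IsPBlock M f := hf.1.2
  have hDcard : Nat.card D = p ^ a := by rw [← hσ, Nat.card_zpowers, hord]
  have hdefB : blockDefect p B = a := Nat.pow_right_injective hp.two_le
    ((card_defectGroup hM hmax.1.2.1 (maximal_pair_defect hM hmax)).symm.trans hDcard)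
  let H : Subgroup G := Subgroup.centralizer (Subgroup.zpowers (σ ^ p ^ (a - 1)) : Set G)
  let K : Subgroup G := Subgroup.centralizer (D : Set G)
  have hσD : σ ∈ D := hσ ▸ Subgroup.mem_zpowers σ
  have hQD : Subgroup.zpowers (σ ^ p ^ (a - 1)) ≤ D := Subgroup.zpowers_le.mpr (D.pow_mem hσD _)
  have hDH : D ≤ H := BelowData.le_centralizer hab hQD
  have hKH : K ≤ H := fun x hx u hu => hx u (hQD hu)
  have hDK : D ≤ K := BelowData.le_centralizer hab le_rfl
  have hfree : ∀ t ∈ pairStab hP hmax.1.1.2, (∀ u ∈ Subgroup.zpowers (σ ^ p ^ (a - 1)), t * u = u * t) →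
      t ∈ K := fun t ht h => free hM hmax hσ ha hord ht (h _ (Subgroup.mem_zpowers _))
  have hfreeD : ∀ t ∈ pairStab hP hmax.1.1.2, (∀ u ∈ D, t * u = u * t) → t ∈ K :=
    fun t _ h u hu => (h u hu).symm
  let Dh : Subgroup H := D.subgroupOf H
  let Ch : Subgroup H := K.subgroupOf H
  let σh : H := ⟨σ, hDH hσD⟩
  have hσh : Subgroup.zpowers σh = Dh := by
    refine le_antisymm (Subgroup.zpowers_le.mpr hσD) fun x hx => ?_
    rw [Subgroup.mem_subgroupOf, ← hσ] at hx
    obtain ⟨i, hi⟩ := hx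
    exact ⟨i, Subtype.ext (by simpa [σh] using hi)⟩
  have hDh : IsPGroup p Dh := IsPGroup.of_card (n := a) (by
    rw [Nat.card_congr (Subgroup.subgroupOfEquivOfLe hDH).toEquiv, hDcard])
  have hC : ∀ h, h ∈ Ch ↔ ∀ u ∈ Dh, u * h * u⁻¹ = h := by
    intro h
    rw [Subgroup.mem_subgroupOf]
    constructor
    · intro hh u hu
      refine Subtype.ext ?_
      simp only [Subgroup.coe_mul, Subgroup.coe_inv]
      rw [show (u : G) * h = h * u from hh _ hu, mul_inv_cancel_right]
    · intro hh d hd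
      exact mul_inv_eq_iff_eq_mul.mp (congrArg Subtype.val (hh ⟨d, hDH hd⟩ hd))
  haveI : Fintype K := Fintype.ofFinite _
  -- the embedding of the algebra of the centralizer
  let ι : MonoidAlgebra (Res hP) K →ₐ[Res hP] MonoidAlgebra (Res hP) H :=
    MonoidAlgebra.mapDomainAlgHom (Res hP) (Res hP) (Subgroup.inclusion hKH)
  have hι1 : ∀ x (k' : K), (ι x).coeff (Subgroup.inclusion hKH k') = x.coeff k' := fun x k' =>
    Finsupp.mapDomain_apply (Subgroup.inclusion_injective hKH) x.coeff k'
  have hι0 : ∀ x (h : H), h ∉ Ch → (ι x).coeff h = 0 := fun x h hh =>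
    Finsupp.mapDomain_of_notMem_range x.coeff h (by rintro ⟨k', rfl⟩; exact hh k'.2)
  have hιmem : ∀ h : H, h ∈ Ch → ∃ k' : K, Subgroup.inclusion hKH k' = h := fun h hh =>
    ⟨⟨(h : G), hh⟩, Subtype.ext rfl⟩
  have hιinj : Function.Injective ι := fun x y hxy => CyclicCentre.ext_coeff fun k' => by
    rw [← hι1 x, hxy, hι1]
  have hιs : ∀ x h, (ι x).coeff h ≠ 0 → h ∈ Ch := fun x h hh => by
    by_contra hn
    exact hh (hι0 x h hn)
  have hrd : ∀ {L : Type u} [Group L] [Fintype L] (φ : L → ℂ) (l : L), (rdAlg hP φ).coeff l = red hP (φ l) := by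
    intro L _ _ φ l
    rw [rdAlg, MonoidAlgebra.coeff_sum, Finsupp.finsetSum_apply, Finset.sum_eq_single l]
    · simp
    · intro y _ hy; simp [Finsupp.single_eq_of_ne' hy]
    · simp
  set eb := rdAlg hP (blockCoeff f) with heb
  set ec0 := rdAlg hP (blockCoeff c) with hec0
  set ec := ι ec0 with hec
  have hfR : ∀ x, MemLocalRing M (blockCoeff f x) := memLR_blockCoeff hM hfB
  have hcR : ∀ x, MemLocalRing M (blockCoeff c x) := memLR_blockCoeff hM hcB
  have hbc : ∀ n, CyclicCentre.cj n eb = eb := fun n => CyclicCentre.ext_coeff fun g => by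
    rw [CyclicCentre.coeff_cj, heb, hrd, hrd]
    congr 1
    have h1 := isClassFunction_blockCoeff f g n⁻¹
    rwa [inv_inv] at h1
  have hbb : eb * eb = eb := by rw [heb, ← rdAlg_conv hP hfR hfR, conv_blockCoeff]
  have hec0i : ec0 * ec0 = ec0 := by rw [hec0, ← rdAlg_conv hP hcR hcR, conv_blockCoeff]
  have hee : ec * ec = ec := by rw [hec, ← map_mul, hec0i]
  have hecC : ∀ n ∈ Ch, CyclicCentre.cj n ec = ec := by
    intro n hn
    obtain ⟨n', rfl⟩ := hιmem n hn
    rw [CyclicCentre.cj_apply, hec]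
    have e1 : ∀ m : K, CyclicCentre.el (k := Res hP) (Subgroup.inclusion hKH m) =
        ι (CyclicCentre.el m) := fun m => by
      simp [ι, CyclicCentre.el, MonoidAlgebra.mapDomainAlgHom]
    rw [← map_inv, e1, e1, ← map_mul, ← map_mul,
      ← rdAlg_central hP (isClassFunction_blockCoeff c), mul_assoc, ← CyclicCentre.el_mul, mul_inv_cancel,
      CyclicCentre.el_one, mul_one]
  -- the local units of the block of the centralizer
  obtain ⟨θ, hθ⟩ := block_nonempty hP hcB
  have hne : ∃ k', ¬ MemLocalIdeal M (blockCoeff c k') := by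
    by_contra hall
    push Not at hall
    have h1 := memLI_lam hP θ.2 (isClassFunction_blockCoeff c) hall
    rw [lam_blockCoeff, if_pos hθ] at h1
    exact memLI_one_iff hP h1
  have hdefc : blockDefect p c = a :=
    (BelowData.defect hM hmax hab (isNormalSubpair_self hM hmax.1.1.1 hcB)).trans hdefB
  have hreg : ∀ k' : K, ec0.coeff k' ≠ 0 → ¬ p ∣ orderOf k' := fun k' h hs => h (by
    rw [hec0, hrd, blockCoeff_eq_zero_of_singular hM hcB hs, red_zero])
  let Dk : Subgroup K := D.subgroupOf K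
  have hDk : Nat.card Dk = p ^ a := by rw [Nat.card_congr (Subgroup.subgroupOfEquivOfLe hDK).toEquiv, hDcard]
  have hcent : ∀ k' : K, ec0.coeff k' ≠ 0 →
      ∃ m : ℕ, ¬ p ∣ m ∧ Nat.card (Subgroup.centralizer ({k'} : Set K)) = p ^ a * m := by
    intro k' hk
    obtain ⟨D0, hD0⟩ := exists_isDefectGroup hM hcB
    obtain ⟨S⟩ : Nonempty (Sylow p (Subgroup.centralizer ({k'} : Set K))) := inferInstance
    have hle : Dk ≤ Subgroup.centralizer ({k'} : Set K) := fun d hd =>
      Subgroup.mem_centralizer_singleton_iff.mpr (Subtype.ext (k'.2 (d : G) hd))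
    have h1 : ¬ MemLocalIdeal M (blockCoeff c k') := fun h => hk (by
      rw [hec0, hrd]; exact (red_eq_zero_iff hP (hcR k')).mpr h)
    have h2 := card_le_of_detect hM hcB hD0
      (Q := (S : Subgroup (Subgroup.centralizer ({k'} : Set K))).map (Subgroup.subtype _)) (S.isPGroup'.map _)
      (x := k') (fun u hu => by
        obtain ⟨u', -, rfl⟩ := hu
        exact Subgroup.mem_centralizer_singleton_iff.mp u'.2) h1
    rw [Subgroup.card_map_of_injective (Subgroup.subtype_injective _), card_defectGroup hM hcB hD0, hdefc,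
      Sylow.card_eq_multiplicity] at h2
    have h3 : p ^ a ∣ Nat.card (Subgroup.centralizer ({k'} : Set K)) := hDk ▸ Subgroup.card_dvd_of_le hle
    obtain ⟨m, hm⟩ := h3
    refine ⟨m, fun hpm => ?_, hm⟩
    have h4 : p ^ (a + 1) ∣ Nat.card (Subgroup.centralizer ({k'} : Set K)) := by
      rw [hm, pow_succ]; exact mul_dvd_mul_left _ hpm
    have h5 := (hp.pow_dvd_iff_le_factorization Nat.card_pos.ne').mp h4
    have h6 := (Nat.pow_le_pow_iff_right hp.one_lt).mp h2
    have h7 : (Nat.card (Subgroup.centralizer ({k'} : Set K))).factorization p ≤ a := h6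
    omega
  -- a trace datum in the centralizer
  let rep : K → K := fun k' => (Quotient.mk (IsConj.setoid K) k').out
  have hrep : ∀ k', IsConj k' (rep k') := fun k' =>
    IsConj.symm (Quotient.exact (Quotient.out_eq (Quotient.mk (IsConj.setoid K) k')) : IsConj (rep k') k')
  let cnt : K → ℕ := fun k' => Nat.card (Subgroup.centralizer ({k'} : Set K)) / p ^ a
  let w0 : MonoidAlgebra (Res hP) K :=
    ∑ k' : K, if rep k' = k' then MonoidAlgebra.single k' (ec0.coeff k' * ((cnt k' : Res hP))⁻¹) else 0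
  have hw0 : ∀ k', w0.coeff k' = if rep k' = k' then ec0.coeff k' * ((cnt k' : Res hP))⁻¹ else 0 := by
    intro k'
    simp only [w0, MonoidAlgebra.coeff_sum, Finsupp.finsetSum_apply]
    rw [Finset.sum_eq_single k']
    · split_ifs <;> simp
    · intro y _ hy; split_ifs <;> simp [Finsupp.single_eq_of_ne' hy]
    · simp
  have hwe : ∑ q : H ⧸ Dh with q.out ∈ Ch, CyclicCentre.cj q.out (ι w0) = ec := by
    refine CyclicCentre.ext_coeff fun g => ?_
    rw [MonoidAlgebra.coeff_sum, Finsupp.finsetSum_apply]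
    simp only [CyclicCentre.coeff_cj]
    by_cases hg : g ∈ Ch
    swap
    · rw [hec, hι0 _ _ hg]
      refine Finset.sum_eq_zero fun q hq => hι0 _ _ fun h => hg ?_
      have hqC := (Finset.mem_filter.mp hq).2
      have := Ch.mul_mem (Ch.mul_mem hqC h) (Ch.inv_mem hqC)
      simpa [mul_assoc] using this
    obtain ⟨k', rfl⟩ := hιmem g hg
    rw [hec, hι1]
    -- the contributing cosets
    set r := rep k' with hr
    let S := Finset.univ.filter fun q : H ⧸ Dh => q.out ∈ Ch ∧
      (q.out)⁻¹ * Subgroup.inclusion hKH k' * q.out = Subgroup.inclusion hKH r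
    have hterm : ∀ q ∈ Finset.univ.filter (fun q : H ⧸ Dh => q.out ∈ Ch),
        (ι w0).coeff ((q.out)⁻¹ * Subgroup.inclusion hKH k' * q.out) =
          if q ∈ S then w0.coeff r else 0 := by
      intro q hq
      obtain ⟨n, hn⟩ := hιmem q.out (Finset.mem_filter.mp hq).2
      rw [← hn, ← map_inv, ← map_mul, ← map_mul, hι1]
      by_cases hS : n⁻¹ * k' * n = r
      · rw [if_pos (Finset.mem_filter.mpr ⟨Finset.mem_univ _, (Finset.mem_filter.mp hq).2,
          by rw [← hn, ← map_inv, ← map_mul, ← map_mul, hS]⟩), hS]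
      · rw [if_neg fun h => hS (Subgroup.inclusion_injective hKH (by
          rw [map_mul, map_mul, map_inv, hn]; exact (Finset.mem_filter.mp h).2.2)), hw0, if_neg]
        intro h
        refine hS (h.symm.trans ?_)
        refine congrArg Quotient.out (Quotient.sound ?_)
        exact IsConj.symm (isConj_iff.mpr ⟨n⁻¹, by group⟩)
    rw [Finset.sum_congr rfl hterm, Finset.sum_ite, Finset.sum_const_zero, add_zero, Finset.sum_const,
      nsmul_eq_mul, Finset.filter_filter]
    have hScard : (Finset.univ.filter fun q : H ⧸ Dh => q.out ∈ Ch ∧ q ∈ S).card * p ^ a =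
        Nat.card (Subgroup.centralizer ({r} : Set K)) := by
      rw [show (Finset.univ.filter fun q : H ⧸ Dh => q.out ∈ Ch ∧ q ∈ S) = S from Finset.ext fun q => by
        simp only [S, Finset.mem_filter, Finset.mem_univ, true_and]; tauto]
      obtain ⟨n₀, hn₀⟩ := isConj_iff.mp (hrep k')
      let P : H → Prop := fun n => n ∈ Ch ∧ n⁻¹ * Subgroup.inclusion hKH k' * n = Subgroup.inclusion hKH r
      have hPD : ∀ n, ∀ y ∈ Dh, P (n * y) ↔ P n := by
        intro n y hy
        have hyC : y ∈ Ch := hDK hy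
        simp only [P, Ch.mul_mem_cancel_right hyC]
        refine and_congr_right fun hn => ?_
        have h1 : n⁻¹ * Subgroup.inclusion hKH k' * n ∈ Ch :=
          Ch.mul_mem (Ch.mul_mem (Ch.inv_mem hn) hg) hn
        have h2 := (hC _).mp h1 y⁻¹ (Dh.inv_mem hy)
        rw [inv_inv] at h2
        rw [show (n * y)⁻¹ * Subgroup.inclusion hKH k' * (n * y) =
          y⁻¹ * (n⁻¹ * Subgroup.inclusion hKH k' * n) * y by group, h2]
      let e1 : {n : H // P n} ≃ Subgroup.centralizer ({r} : Set K) :=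
        { toFun := fun n => ⟨n₀ * (⟨((n.1 : H) : G), n.2.1⟩ : K), Subgroup.mem_centralizer_singleton_iff.mpr (by
            have h1 : (⟨((n.1 : H) : G), n.2.1⟩ : K)⁻¹ * k' * ⟨((n.1 : H) : G), n.2.1⟩ = r :=
              Subgroup.inclusion_injective hKH (by rw [map_mul, map_mul, map_inv]; exact n.2.2)
            calc n₀ * (⟨((n.1 : H) : G), n.2.1⟩ : K) * r
                = n₀ * (⟨((n.1 : H) : G), n.2.1⟩ * ((⟨((n.1 : H) : G), n.2.1⟩ : K)⁻¹ * k' * ⟨((n.1 : H) : G), n.2.1⟩)) := by
                  rw [h1, mul_assoc]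
              _ = (n₀ * k' * n₀⁻¹) * (n₀ * ⟨((n.1 : H) : G), n.2.1⟩) := by group
              _ = _ := by rw [hn₀])⟩
          invFun := fun z => ⟨Subgroup.inclusion hKH (n₀⁻¹ * z.1), ⟨(n₀⁻¹ * z.1).2, by
            rw [← map_inv, ← map_mul, ← map_mul]
            refine congrArg _ ?_
            calc (n₀⁻¹ * z.1)⁻¹ * k' * (n₀⁻¹ * z.1) = (z.1)⁻¹ * ((n₀ * k' * n₀⁻¹) * z.1) := by group
              _ = (z.1)⁻¹ * (r * z.1) := by rw [hn₀]
              _ = r := by rw [← Subgroup.mem_centralizer_singleton_iff.mp z.2]; group⟩⟩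
          left_inv := fun n => Subtype.ext (Subtype.ext (by simp))
          right_inv := fun z => Subtype.ext (Subtype.ext (by simp)) }
      rw [← Nat.card_congr e1, Nat.card_eq_fintype_card, Fintype.card_subtype,
        Finset.card_eq_sum_card_fiberwise (t := S) (f := fun n : H => (n : H ⧸ Dh)) fun n hn => ?_]
      · rw [← smul_eq_mul, ← Finset.sum_const]
        refine (Finset.sum_congr rfl fun q hq => ?_).symm
        rw [show p ^ a = Nat.card Dh by
          rw [Nat.card_congr (Subgroup.subgroupOfEquivOfLe hDH).toEquiv, hDcard],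
          Nat.card_eq_fintype_card, ← Finset.card_univ]
        refine Finset.card_bij' (fun n hn => (⟨(q.out)⁻¹ * n, QuotientGroup.eq.mp (by
            rw [QuotientGroup.out_eq']; exact (Finset.mem_filter.mp hn).2.symm)⟩ : Dh))
          (fun y _ => q.out * y) (fun _ _ => Finset.mem_univ _) (fun y _ => ?_) (fun n _ => by simp)
          (fun y _ => by simp)
        simp only [Finset.mem_filter, Finset.mem_univ, true_and]
        exact ⟨(hPD _ _ y.2).mpr (Finset.mem_filter.mp hq).2,
          by rw [QuotientGroup.mk_mul_of_mem _ y.2, QuotientGroup.out_eq']⟩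
      · refine Finset.mem_filter.mpr ⟨Finset.mem_univ _, ?_⟩
        obtain ⟨y, hy⟩ := QuotientGroup.mk_out_eq_mul Dh n
        show P (n : H ⧸ Dh).out
        rw [hy]
        exact (hPD n y y.2).mpr (Finset.mem_filter.mp hn).2
    have hconj : ec0.coeff r = ec0.coeff k' := by
      obtain ⟨x, hx⟩ := isConj_iff.mp (hrep k')
      rw [hec0, hrd, hrd, show r = x * k' * x⁻¹ from hx.symm, isClassFunction_blockCoeff c k' x]
    rw [hw0, if_pos (show rep r = r from congrArg Quotient.out (Quotient.out_eq _)), hconj]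
    by_cases h0 : ec0.coeff k' = 0
    · rw [h0, zero_mul, mul_zero]
    obtain ⟨m, hm, hcm⟩ := hcent r (hconj ▸ h0)
    have hcnt : cnt r = m := by simp only [cnt, hcm, Nat.mul_div_cancel_left _ (pow_pos hp.pos a)]
    have hScard' : (Finset.univ.filter fun q : H ⧸ Dh => q.out ∈ Ch ∧ q ∈ S).card = m :=
      Nat.eq_of_mul_eq_mul_right (pow_pos hp.pos a) (hScard.trans (hcm.trans (mul_comm _ _)))
    rw [hScard', hcnt, mul_left_comm, mul_inv_cancel₀ (fun h => hm ((CharP.cast_eq_zero_iff (Res hP) p m).mp h)),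
      mul_one]
  -- the Brauer image of the block
  have hbrf : CyclicCentre.brC Ch eb = ι (rdAlg hP fun k' : K => blockCoeff f (Subgroup.inclusion hKH k')) := by
    refine CyclicCentre.ext_coeff fun g => ?_
    rw [CyclicCentre.coeff_brC]
    by_cases hg : g ∈ Ch
    · obtain ⟨k', rfl⟩ := hιmem g hg
      rw [if_pos hg, hι1, heb, hrd, hrd]
    · rw [if_neg hg, hι0 _ _ hg]
  have hbe : CyclicCentre.brC Ch eb * ec = ec := by
    set φ : K → ℂ := fun k' => blockCoeff f (Subgroup.inclusion hKH k') with hφ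
    have hφI : IsIntClassFun M φ := ⟨fun x y => by
      simp only [hφ]
      rw [map_mul, map_mul, map_inv]
      exact isClassFunction_blockCoeff f _ _, fun x => hfR _⟩
    have hid : IsModIdem M φ := by
      refine ⟨hφI, fun x => ?_⟩
      have h1 := CyclicCentre.brC_mul Dh Ch hC hDh (fun u _ => hbc u) (fun u _ => hbc u)
      rw [hbb, hbrf, ← map_mul] at h1
      have h2 := congrArg (fun y => y.coeff x) (hιinj h1).symm
      rw [← rdAlg_conv hP hφI.2 hφI.2, hrd, hrd] at h2
      exact (red_eq_iff hP ((intClassFun_conv hP hφI hφI).2 x) (hφI.2 x)).mp h2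
    have hprod := hid.mul hP (isModIdem_blockCoeff hM hcB)
    have hext : CEq M (conv φ (blockCoeff c)) (blockCoeff c) := by
      refine hprod.ext hM (isModIdem_blockCoeff hM hcB) fun ψ => ?_
      rw [lam_conv ψ.2 hφI.1 (isClassFunction_blockCoeff c), lam_blockCoeff]
      by_cases hψ : ψ ∈ c
      · rw [if_pos hψ, mul_one]
        have h1 := hf.2.2.2.2.2 ψ hψ
        rw [brauerOmega, finsum_eq_sum_of_fintype] at h1
        convert h1 using 3
        rw [lam, Finset.sum_div]
        refine Finset.sum_congr rfl fun x _ => ?_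
        rw [subgroupBlockCoeff, dif_pos (hKH x.2)]
        rfl
      · rw [if_neg hψ, mul_zero, sub_zero]; exact memLI_zero hP
    rw [hbrf, hec, hec0, ← map_mul, ← rdAlg_conv hP hφI.2 hcR]
    refine congrArg ι (CyclicCentre.ext_coeff fun x => ?_)
    rw [hrd, hrd]
    exact (red_eq_iff hP (hprod.1.2 x) (hcR x)).mpr (hext x)
  have horth : ∀ n : H, (∀ u ∈ Dh, n⁻¹ * u * n ∈ Dh) → n ∉ Ch → CyclicCentre.cj n ec * ec = 0 := by
    intro n hnD hnC
    have hN : (n : G) ∈ Subgroup.normalizer (D : Set G) := by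
      rw [← inv_mem_iff, Subgroup.mem_normalizer_iff]
      intro y
      have hsurj : Function.Surjective (fun u : Dh => (⟨n⁻¹ * u * n, hnD u u.2⟩ : Dh)) :=
        Finite.injective_iff_surjective.mp fun u v e => by
          have := congrArg Subtype.val e
          simp only [mul_left_inj, mul_right_inj] at this
          exact Subtype.ext this
      refine ⟨fun hy => by
        have := hnD ⟨y, hDH hy⟩ hy
        rw [inv_inv]
        exact this, fun hy => ?_⟩
      obtain ⟨u, hu⟩ := hsurj ⟨⟨_, hDH hy⟩, hy⟩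
      have := congrArg (fun v : Dh => ((v : H) : G)) hu
      simp only [Subgroup.coe_mul, Subgroup.coe_inv, inv_inv, mul_left_inj, mul_right_inj] at this
      exact this ▸ u.2
    have hKn : ∀ x : G, x ∈ K → (n : G)⁻¹ * x * n ∈ K := fun x hx => by
      intro d hd
      have hd' : (n : G) * d * (n : G)⁻¹ ∈ D := (Subgroup.mem_normalizer_iff.mp hN d).mp hd
      calc d * ((n : G)⁻¹ * x * n) = (n : G)⁻¹ * (((n : G) * d * (n : G)⁻¹) * x) * n := by group
        _ = (n : G)⁻¹ * (x * ((n : G) * d * (n : G)⁻¹)) * n := by rw [hx _ hd']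
        _ = _ := by group
    have hKn' : ∀ x : G, x ∈ K → (n : G) * x * (n : G)⁻¹ ∈ K := fun x hx => by
      intro d hd
      have hd' : (n : G)⁻¹ * d * n ∈ D := by
        simpa using (Subgroup.mem_normalizer_iff.mp (inv_mem hN) d).mp hd
      calc d * ((n : G) * x * (n : G)⁻¹) = (n : G) * (((n : G)⁻¹ * d * n) * x) * (n : G)⁻¹ := by group
        _ = (n : G) * (x * ((n : G)⁻¹ * d * n)) * (n : G)⁻¹ := by rw [hx _ hd']
        _ = _ := by group
    let α : K ≃* K :=
      { toFun := fun x => ⟨(n : G)⁻¹ * x * n, hKn x x.2⟩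
        invFun := fun x => ⟨(n : G) * x * (n : G)⁻¹, hKn' x x.2⟩
        left_inv := fun x => Subtype.ext (by simp [mul_assoc])
        right_inv := fun x => Subtype.ext (by simp [mul_assoc])
        map_mul' := fun x y => Subtype.ext (by simp [mul_assoc]) }
    have hc' : IsPBlock M (irrTransport α '' c) := isPBlock_transport α hcB
    have hne' : irrTransport α '' c ≠ c := by
      intro heq
      refine hnC (hfree _ ((mem_pairStab hP hmax.1.1.2).mpr ⟨hN, ?_, fun χ hχ => ?_⟩) fun u hu => (n.2 u hu).symm)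
      · exact Subgroup.mem_normalizer_iff.mpr fun x => ⟨fun hx => hKn' x hx, fun hx => by
          simpa [mul_assoc] using hKn _ hx⟩
      · refine ⟨irrTransport α χ, heq ▸ ⟨χ, hχ, rfl⟩, fun k₁ k₂ hk => ?_⟩
        rw [irrTransport_apply]
        refine congrArg _ (Subtype.ext ?_)
        show (n : G)⁻¹ * (k₂ : G) * n = k₁
        rw [hk]
        simp only [Subgroup.coe_subtype]
        group
    have hcj : CyclicCentre.cj n ec = ι (rdAlg hP (blockCoeff (irrTransport α '' c))) := by
      refine CyclicCentre.ext_coeff fun g => ?_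
      rw [CyclicCentre.coeff_cj]
      by_cases hg : g ∈ Ch
      · obtain ⟨k', rfl⟩ := hιmem g hg
        rw [hι1, hrd, blockCoeff_transport, hec,
          show n⁻¹ * Subgroup.inclusion hKH k' * n = Subgroup.inclusion hKH (α k') from Subtype.ext rfl, hι1,
          hec0, hrd]
      · rw [hι0 _ _ hg, hec, hι0]
        intro h
        refine hg ?_
        have := hKn' _ h
        rw [Subgroup.mem_subgroupOf]
        simpa [mul_assoc] using this
    rw [hcj, hec, hec0, ← map_mul, ← rdAlg_conv hP (memLR_blockCoeff hM hc') hcR, conv_blockCoeff_ne hP hc' hcB hne']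
    rw [(rdAlg_eq_zero_iff hP (f := (0 : K → ℂ)) fun _ => memLR_zero hP).mpr fun _ => memLI_zero hP, map_zero]
  have hsing : ∀ y ∈ Dh, y ≠ 1 → ∀ h, ec.coeff h ≠ 0 → ec.coeff (y * h) = 0 := by
    intro y hy hy1 h hh
    obtain ⟨k', rfl⟩ := hιmem h (hιs _ _ hh)
    obtain ⟨y', rfl⟩ := hιmem y (hDK hy)
    rw [hec, hι1] at hh
    rw [← map_mul, hec, hι1]
    by_contra h0
    have hcm : Commute y' k' := Subtype.ext (k'.2 _ hy)
    have hr1 := hreg _ h0
    have hr2 := hreg _ hh
    have h3 : orderOf ((y' * k') * k'⁻¹) ∣ Nat.lcm (orderOf (y' * k')) (orderOf k'⁻¹) :=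
      ((hcm.mul_left (Commute.refl k')).inv_right).orderOf_mul_dvd_lcm
    rw [mul_inv_cancel_right, orderOf_inv] at h3
    have h4 : ¬ p ∣ orderOf y' := fun hd =>
      (hp.dvd_mul.mp ((hd.trans h3).trans (Nat.lcm_dvd_mul _ _))).elim hr1 hr2
    have h5 : orderOf y' ∣ p ^ a := by
      rw [← hDcard, ← Subgroup.orderOf_coe y', ← Subgroup.orderOf_mk (y' : G) hy]
      exact orderOf_dvd_natCard _
    obtain ⟨i, -, hi⟩ := (Nat.dvd_prime_pow hp).mp h5
    rcases Nat.eq_zero_or_pos i with rfl | hi0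
    · rw [pow_zero, orderOf_eq_one_iff] at hi
      exact hy1 (by rw [hi, map_one])
    · exact h4 (hi ▸ dvd_pow_self p hi0.ne')
  have hqdef : blockDefect p f = a := (BelowData.defect hM hmax hab hf).trans hdefB
  have hcardf : Nat.card f ≤ p ^ a := by
    rw [BelowData.counts hM hmax hab hf hfree, hdefB]
  haveI hfd : Module.Finite (Res hP) (MonoidAlgebra (Res hP) H) :=
    Module.Finite.of_injective (coeL hP) (coeL_injective hP)
  obtain ⟨z, w₁, hzc, hbz, hzq, htop, hwfix, htr, hcen⟩ := CyclicCentre.exists_centre Dh Ch hC hDh hσh ha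
    (hq := by rw [← Subgroup.orderOf_coe]; exact hord) hbc hbb (fun h hh => hιs _ h hh) hee hecC hbe
    (by
      obtain ⟨k', hk'⟩ := hne
      refine ⟨Subgroup.inclusion hKH k', ?_⟩
      rw [hι1, hec0, hrd]
      exact fun h0 => hk' ((red_eq_zero_iff hP (hcR k')).mp h0))
    horth hsing (fun h hh => hιs _ h hh) hwe
    (fun L hL hLb => SmallBlock.many_forms hM hfB hcardf L hL hLb)
  have hforms : ∀ L L' : MonoidAlgebra (Res hP) H →ₗ[Res hP] Res hP, CyclicCorner.IsForm eb z L →
      CyclicCorner.IsForm eb z L' → ∀ x y, L x * L' y = L y * L' x := by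
    intro L L' hL hL'
    obtain ⟨c₁, h₁⟩ := form_socle (Nat.one_le_pow _ _ hp.pos) hzc hzq htop hcen hL
    obtain ⟨c₂, h₂⟩ := form_socle (Nat.one_le_pow _ _ hp.pos) hzc hzq htop hcen hL'
    intro x y
    rw [h₁, h₁, h₂, h₂]
    ring
  obtain ⟨g, hK, hrep'⟩ := CyclicCorner.exists_corner (q := p ^ a) (Nat.le_self_pow (by omega) p |>.trans' hp.two_le)
    (CyclicCentre.central_of_cj hbc) hbb hzc hbz hzq htop hforms
  exact ⟨g, z, w₁, hK, hwfix, htr, hcen, hrep'⟩

end Cfsg.Agent.Char.CyclicLocal
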