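import Mathlib

/-!
# Multiplicities in a principal block with cyclic defect group

Integer vectors whose Gram matrix is that of the multiplicity differences on a cyclic Sylow subgroup: in
each vector all but one orbit share a value, so the fixed space of the subgroup of order `p` is at most
half the degree.
-/

set_option autoImplicit false

namespace Cfsg.Agent.Char.CyclicPairs

variable {ι : Type*} {q : ℕ} [NeZero q]

/-- The orbit relation of a set of multipliers. -/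
def Rel (S : Finset (ZMod q)) (k l : ZMod q) : Prop := ∃ s ∈ S, l = s * k

/-- The data of the multiplicities. -/
structure MultData (B : Finset ι) (d : ι → ℕ) (n : ι → ZMod q → ℤ) (S : Finset (ZMod q)) (e0 : ι) :
    Prop where
  two_le : 2 ≤ S.card
  one_mem : (1 : ZMod q) ∈ S
  symm : ∀ k l : ZMod q, Rel S k l → Rel S l k
  trans : ∀ k l m : ZMod q, Rel S k l → Rel S l m → Rel S k m
  inj : ∀ k : ZMod q, k ≠ 0 → ∀ s ∈ S, ∀ t ∈ S, s * k = t * k → s = t
  inv : ∀ χ, ∀ s ∈ S, ∀ k : ZMod q, n χ (s * k) = n χ k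
  nonneg : ∀ χ k, 0 ≤ n χ k
  degree : ∀ χ ∈ B, 0 < d χ
  gram : ∀ k l : ZMod q, k ≠ 0 → l ≠ 0 → ∀ [Decidable (Rel S k l)],
    ∑ χ ∈ B, (n χ 0 - n χ k) * (n χ 0 - n χ l) = (S.card : ℤ) + if Rel S k l then 1 else 0
  orth : ∀ k : ZMod q, k ≠ 0 → ∑ χ ∈ B, (d χ : ℤ) * (n χ 0 - n χ k) = 0
  mem_triv : e0 ∈ B
  triv_zero : n e0 0 = 1
  triv_ne : ∀ k : ZMod q, k ≠ 0 → n e0 k = 0

variable {B : Finset ι} {d : ι → ℕ} {n : ι → ZMod q → ℤ} {S : Finset (ZMod q)} {e0 : ι}

open scoped Classical in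
theorem MultData.diff_gram (h : MultData B d n S e0) {a b c e : ZMod q} (ha : a ≠ 0) (hb : b ≠ 0)
    (hc : c ≠ 0) (he : e ≠ 0) :
    ∑ χ ∈ B, (n χ a - n χ b) * (n χ c - n χ e) =
      (if Rel S a c then 1 else 0) - (if Rel S a e then 1 else 0) - (if Rel S b c then 1 else 0) +
        if Rel S b e then (1 : ℤ) else 0 := by
  have hx : ∀ χ, (n χ a - n χ b) * (n χ c - n χ e) =
      (n χ 0 - n χ a) * (n χ 0 - n χ c) - (n χ 0 - n χ a) * (n χ 0 - n χ e) -
        (n χ 0 - n χ b) * (n χ 0 - n χ c) + (n χ 0 - n χ b) * (n χ 0 - n χ e) := fun χ => by ring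
  simp only [hx, Finset.sum_add_distrib, Finset.sum_sub_distrib, h.gram a c ha hc, h.gram a e ha he,
    h.gram b c hb hc, h.gram b e hb he]
  ring

theorem MultData.eq_of_rel (h : MultData B d n S e0) {χ : ι} {k l : ZMod q} (hr : Rel S k l) :
    n χ l = n χ k := by
  obtain ⟨s, hs, rfl⟩ := hr
  exact h.inv χ s hs k

open scoped Classical in
/-- The sum of the squares of the differences is two. -/
theorem MultData.diff_sq (h : MultData B d n S e0) {a b : ZMod q} (ha : a ≠ 0) (hb : b ≠ 0)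
    (hab : ¬ Rel S a b) : ∑ χ ∈ B, (n χ a - n χ b) ^ 2 = 2 := by
  have hr : ∀ x, Rel S x x := fun x => ⟨1, h.one_mem, (one_mul x).symm⟩
  simp only [sq, h.diff_gram ha hb ha hb, if_pos (hr a), if_pos (hr b), if_neg hab,
    if_neg fun hh => hab (h.symm _ _ hh)]
  norm_num

theorem MultData.abs_diff_le (h : MultData B d n S e0) {χ : ι} (hχ : χ ∈ B) {a b : ZMod q}
    (ha : a ≠ 0) (hb : b ≠ 0) : |n χ a - n χ b| ≤ 1 := by
  classical
  by_cases hab : Rel S a b
  · simp [h.eq_of_rel hab]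
  have h1 : (n χ a - n χ b) ^ 2 ≤ 2 := (h.diff_sq ha hb hab) ▸
    Finset.single_le_sum (f := fun ψ => (n ψ a - n ψ b) ^ 2) (fun ψ _ => sq_nonneg _) hχ
  rw [abs_le]
  constructor <;> nlinarith

/-- A difference taking a nonzero value has one partner, of opposite value and equal degree. -/
theorem MultData.partner (h : MultData B d n S e0) {χ : ι} (hχ : χ ∈ B) {a b : ZMod q}
    (ha : a ≠ 0) (hb : b ≠ 0) (hne : n χ a ≠ n χ b) :
    ∃ ψ ∈ B, ψ ≠ χ ∧ n ψ a - n ψ b = -(n χ a - n χ b) ∧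
      ∀ φ ∈ B, φ ≠ χ → φ ≠ ψ → n φ a - n φ b = 0 := by
  classical
  have hab : ¬ Rel S a b := fun hh => hne (h.eq_of_rel hh).symm
  have hsq := h.diff_sq ha hb hab
  set v : ι → ℤ := fun φ => n φ a - n φ b with hv
  have hsmall : ∀ φ ∈ B, v φ = -1 ∨ v φ = 0 ∨ v φ = 1 := fun φ hφ => by
    have := abs_le.1 (h.abs_diff_le hφ ha hb)
    simp only [hv] at this ⊢
    omega
  have hcard : (B.filter fun φ => v φ ≠ 0).card = 2 := by
    have e : ∑ φ ∈ B, v φ ^ 2 = ((B.filter fun φ => v φ ≠ 0).card : ℤ) := by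
      rw [Finset.natCast_card_filter]
      refine Finset.sum_congr rfl fun φ hφ => ?_
      rcases hsmall φ hφ with h1 | h1 | h1 <;> simp [h1]
    have : ((B.filter fun φ => v φ ≠ 0).card : ℤ) = 2 := e.symm.trans hsq
    exact_mod_cast this
  have hχS : χ ∈ B.filter fun φ => v φ ≠ 0 := Finset.mem_filter.2 ⟨hχ, sub_ne_zero.2 hne⟩
  obtain ⟨ψ, hψ⟩ := Finset.card_eq_one.1
    (show ((B.filter fun φ => v φ ≠ 0).erase χ).card = 1 by
      rw [Finset.card_erase_of_mem hχS, hcard])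
  have hψm : ψ ∈ (B.filter fun φ => v φ ≠ 0).erase χ := hψ ▸ Finset.mem_singleton_self ψ
  obtain ⟨hψne, hψS⟩ := Finset.mem_erase.1 hψm
  obtain ⟨hψB, hψv⟩ := Finset.mem_filter.1 hψS
  have hzero : ∀ φ ∈ B, φ ≠ χ → φ ≠ ψ → v φ = 0 := fun φ hφ h1 h2 => by
    by_contra h3
    have hm : φ ∈ (B.filter fun φ => v φ ≠ 0).erase χ :=
      Finset.mem_erase.2 ⟨h1, Finset.mem_filter.2 ⟨hφ, h3⟩⟩
    rw [hψ, Finset.mem_singleton] at hm
    exact h2 hm
  refine ⟨ψ, hψB, hψne, ?_, hzero⟩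
  have horth : (d χ : ℤ) * v χ + (d ψ : ℤ) * v ψ = 0 := by
    have e : ∑ φ ∈ B, (d φ : ℤ) * v φ = (d χ : ℤ) * v χ + (d ψ : ℤ) * v ψ :=
      Finset.sum_eq_add_of_mem χ ψ hχ hψB hψne.symm fun φ hφ ⟨h1, h2⟩ => by
        rw [hzero φ hφ h1 h2, mul_zero]
    rw [← e]
    have e2 : ∀ φ, (d φ : ℤ) * v φ = (d φ : ℤ) * (n φ 0 - n φ b) - (d φ : ℤ) * (n φ 0 - n φ a) :=
      fun φ => by simp only [hv]; ring
    simp only [e2, Finset.sum_sub_distrib, h.orth a ha, h.orth b hb, sub_zero]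
  have hdχ : (0 : ℤ) < d χ := by exact_mod_cast h.degree χ hχ
  have hdψ : (0 : ℤ) < d ψ := by exact_mod_cast h.degree ψ hψB
  have hχv : v χ ≠ 0 := sub_ne_zero.2 hne
  show v ψ = -(v χ)
  rcases hsmall χ hχ with h1 | h1 | h1 <;> rcases hsmall ψ hψB with h2 | h2 | h2 <;>
    rw [h1, h2] at horth <;> first | (exfalso; omega) | (exfalso; nlinarith) | omega

/-- Four pairwise unrelated indices cannot carry two values twice each. -/
theorem MultData.no_four (h : MultData B d n S e0) {χ : ι} (hχ : χ ∈ B) {a a' b b' : ZMod q}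
    (ha : a ≠ 0) (ha' : a' ≠ 0) (hb : b ≠ 0) (hb' : b' ≠ 0) (haa : ¬ Rel S a a') (hbb : ¬ Rel S b b')
    (ea : n χ a' = n χ a) (eb : n χ b' = n χ b) (hne : n χ a ≠ n χ b) : False := by
  classical
  obtain ⟨ψ, hψB, hψne, hψv, hz⟩ := h.partner hχ ha hb hne
  obtain ⟨ψ', hψB', hψne', hψv', hz'⟩ := h.partner hχ ha' hb' (by rw [ea, eb]; exact hne)
  have hd := h.diff_gram ha hb ha' hb'
  have h1 : ¬ Rel S a b' := fun hh => hne (by rw [← eb, h.eq_of_rel hh])
  have h2 : ¬ Rel S b a' := fun hh => hne (by rw [← ea, h.eq_of_rel hh])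
  rw [if_neg haa, if_neg h1, if_neg h2, if_neg hbb] at hd
  have hx : (n χ a - n χ b) ^ 2 = 1 := by
    have h3 := abs_le.1 (h.abs_diff_le hχ ha hb)
    have h4 : n χ a - n χ b ≠ 0 := sub_ne_zero.2 hne
    obtain h5 | h5 : n χ a - n χ b = -1 ∨ n χ a - n χ b = 1 := by omega
    all_goals rw [h5]; norm_num
  set v : ι → ℤ := fun φ => (n φ a - n φ b) * (n φ a' - n φ b') with hv
  have hsum : ∑ φ ∈ B, v φ = v χ + v ψ :=
    Finset.sum_eq_add_of_mem χ ψ hχ hψB hψne.symm fun φ hφ ⟨h5, h6⟩ => by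
      simp only [hv, hz φ hφ h5 h6, zero_mul]
  have hvχ : v χ = 1 := by simp only [hv, ea, eb, ← sq, hx]
  have hvψ : 0 ≤ v ψ := by
    rcases eq_or_ne ψ ψ' with rfl | hne'
    · simp only [hv, hψv, hψv', ea, eb]
      nlinarith [hx]
    · simp only [hv, hz' ψ hψB hψne hne', mul_zero, le_refl]
  simp only [hv] at hsum hvχ hvψ hd
  omega

/-- All but one orbit of nonzero indices share a value. -/
theorem MultData.common_value (h : MultData B d n S e0) {χ : ι} (hχ : χ ∈ B) {k0 : ZMod q}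
    (hk0 : k0 ≠ 0) : ∃ c : ZMod q, c ≠ 0 ∧
      ∀ k k' : ZMod q, k ≠ 0 → k' ≠ 0 → n χ k ≠ n χ c → n χ k' ≠ n χ c → Rel S k k' := by
  classical
  by_cases hall : ∀ k : ZMod q, k ≠ 0 → n χ k = n χ k0
  · exact ⟨k0, hk0, fun k k' hk _ h1 => absurd (hall k hk) h1⟩
  obtain ⟨b, hb, hne⟩ := not_forall₂.1 hall
  have h01 := abs_le.1 (h.abs_diff_le hχ hb hk0)
  have two : ∀ k : ZMod q, k ≠ 0 → n χ k = n χ k0 ∨ n χ k = n χ b := fun k hk => by
    have h1 := abs_le.1 (h.abs_diff_le hχ hk hk0)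
    have h2 := abs_le.1 (h.abs_diff_le hχ hk hb)
    omega
  by_cases hA : ∀ k k' : ZMod q, k ≠ 0 → k' ≠ 0 → n χ k = n χ k0 → n χ k' = n χ k0 → Rel S k k'
  · exact ⟨b, hb, fun k k' hk hk' h1 h2 => hA k k' hk hk' ((two k hk).resolve_right h1)
      ((two k' hk').resolve_right h2)⟩
  simp only [not_forall] at hA
  obtain ⟨a, a', ha, ha', ea, ea', haa⟩ := hA
  refine ⟨k0, hk0, fun k k' hk hk' h1 h2 => ?_⟩
  by_contra hkk
  exact h.no_four hχ ha ha' hk hk' haa hkk (by rw [ea, ea'])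
    (by rw [(two k hk).resolve_left h1, (two k' hk').resolve_left h2]) (by rw [ea]; exact fun hh => h1 hh.symm)

theorem card_orbit (h : MultData B d n S e0) {k : ZMod q} (hk : k ≠ 0) :
    (S.image fun s => s * k).card = S.card :=
  Finset.card_image_of_injOn fun s hs t ht e => h.inj k hk s hs t ht e

/-- The fixed space of the subgroup of order `p` is at most half of the degree. -/
theorem MultData.fixed_le_half (h : MultData B d n S e0) {p Q : ℕ} (hp : 3 ≤ p) (hq : q = p * Q)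
    (hQ : Q = 1 ∨ p ≤ Q) (hSp : S.card ≤ p - 1) {L : Finset (ZMod q)} (hL : L.card = Q)
    (h0 : (0 : ZMod q) ∈ L) (hLS : ∀ k ∈ L, ∀ s ∈ S, s * k ∈ L)
    {χ : ι} (hχ : χ ∈ B) (hχ0 : χ ≠ e0) (hfaith : ∃ k ∉ L, n χ k ≠ 0) :
    2 * ∑ k ∈ L, n χ k ≤ ∑ k : ZMod q, n χ k := by
  classical
  obtain ⟨k1, hk1, hk1n⟩ := hfaith
  have hk10 : k1 ≠ 0 := fun hh => hk1 (hh ▸ h0)
  obtain ⟨c, hc, hcv⟩ := h.common_value hχ hk10
  set C := n χ c with hC
  have hC0 : 0 ≤ C := h.nonneg χ c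
  have hn0 : 0 ≤ n χ 0 := h.nonneg χ 0
  have hS2 : (2 : ℤ) ≤ S.card := by exact_mod_cast h.two_le
  -- the bound on the multiplicity of the trivial character
  have hD : (n χ 0 - C) ^ 2 ≤ (S.card : ℤ) := by
    have hg : ∑ ψ ∈ B, (n ψ 0 - n ψ c) * (n ψ 0 - n ψ c) = (S.card : ℤ) + 1 := by
      rw [h.gram c c hc hc, if_pos ⟨1, h.one_mem, (one_mul c).symm⟩]
    rw [← Finset.add_sum_erase _ _ h.mem_triv, h.triv_zero, h.triv_ne c hc] at hg
    have h1 : (n χ 0 - n χ c) * (n χ 0 - n χ c) ≤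
        ∑ ψ ∈ B.erase e0, (n ψ 0 - n ψ c) * (n ψ 0 - n ψ c) :=
      Finset.single_le_sum (f := fun ψ => (n ψ 0 - n ψ c) * (n ψ 0 - n ψ c))
        (fun ψ _ => mul_self_nonneg _) (Finset.mem_erase.2 ⟨hχ0, hχ⟩)
    rw [sq]
    linarith
  have hn : n χ 0 - C ≤ (S.card : ℤ) - 1 := by
    by_contra hcon
    have h1 : (S.card : ℤ) ≤ n χ 0 - C := by omega
    nlinarith
  set L' := L.erase 0 with hL'
  set R := (Finset.univ : Finset (ZMod q)) \ L with hR
  have hsplit : ∑ k : ZMod q, n χ k = ∑ k ∈ L, n χ k + ∑ k ∈ R, n χ k := by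
    rw [add_comm, hR, Finset.sum_sdiff (Finset.subset_univ L)]
  have hLsum : ∑ k ∈ L, n χ k = n χ 0 + ∑ k ∈ L', n χ k := (Finset.add_sum_erase _ _ h0).symm
  have hRne : ∀ k ∈ R, k ≠ 0 := fun k hk hh => (Finset.mem_sdiff.1 hk).2 (hh ▸ h0)
  set Bad := (Finset.univ : Finset (ZMod q)).filter fun k => k ≠ 0 ∧ n χ k ≠ C with hBad
  have hRc : R.card + Q = q := by
    rw [hR, Finset.card_sdiff_of_subset (Finset.subset_univ L), Finset.card_univ, ZMod.card, hL]
    have : L.card ≤ q := (Finset.card_le_univ L).trans_eq (ZMod.card q)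
    omega
  have hL'c : L'.card + 1 = Q := by rw [hL', Finset.card_erase_of_mem h0, hL]; have := Finset.card_pos.2 ⟨0, h0⟩; omega
  have hbadle : ∀ k : ZMod q, k ≠ 0 → |n χ k - C| ≤ 1 := fun k hk => h.abs_diff_le hχ hk hc
  rcases eq_or_lt_of_le hC0 with hC1 | hC1
  · -- all nonzero multiplicities vanish outside one orbit, which lies outside `L`
    have hk1bad : n χ k1 ≠ C := fun hh => hk1n (hh.trans hC1.symm)
    have hLz : ∀ k ∈ L', n χ k = 0 := by
      intro k hk
      obtain ⟨hk0, hkL⟩ := Finset.mem_erase.1 hk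
      by_contra hne
      obtain ⟨s, hs, hks⟩ := hcv k k1 hk0 hk10 (by rw [← hC1]; exact hne) hk1bad
      exact hk1 (hks ▸ hLS k hkL s hs)
    set O := S.image fun s => s * k1 with hO
    have hOR : O ⊆ R := by
      intro k hk
      obtain ⟨s, hs, rfl⟩ := Finset.mem_image.1 hk
      refine Finset.mem_sdiff.2 ⟨Finset.mem_univ _, fun hm => hk1 ?_⟩
      obtain ⟨t, ht, htk⟩ := h.symm k1 (s * k1) ⟨s, hs, rfl⟩
      rw [htk]
      exact hLS _ hm t ht
    have hO1 : ∀ k ∈ O, 1 ≤ n χ k := by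
      intro k hk
      obtain ⟨s, hs, rfl⟩ := Finset.mem_image.1 hk
      rw [h.inv χ s hs k1]
      have := h.nonneg χ k1
      omega
    have h1 : (S.card : ℤ) ≤ ∑ k ∈ R, n χ k := by
      rw [← card_orbit h hk10]
      calc ((O.card : ℕ) : ℤ) = ∑ _k ∈ O, (1 : ℤ) := by simp
        _ ≤ ∑ k ∈ O, n χ k := Finset.sum_le_sum hO1
        _ ≤ _ := Finset.sum_le_sum_of_subset_of_nonneg hOR fun k _ _ => h.nonneg χ k
    rw [hsplit, hLsum, Finset.sum_eq_zero hLz, add_zero]
    linarith [hC1]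
  · have hbadc : Bad.card ≤ S.card := by
      rcases Bad.eq_empty_or_nonempty with he | ⟨k, hk⟩
      · simp [he]
      · obtain ⟨hk0, hkC⟩ := (Finset.mem_filter.1 hk).2
        calc Bad.card ≤ (S.image fun s => s * k).card := by
              refine Finset.card_le_card fun k' hk' => ?_
              obtain ⟨hk0', hkC'⟩ := (Finset.mem_filter.1 hk').2
              obtain ⟨s, hs, hks⟩ := hcv k k' hk0 hk0' hkC hkC'
              exact Finset.mem_image.2 ⟨s, hs, hks.symm⟩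
          _ = _ := card_orbit h hk0
    have hlo : ∀ k ∈ R, C - (if n χ k ≠ C then (1 : ℤ) else 0) ≤ n χ k := fun k hk => by
      have := abs_le.1 (hbadle k (hRne k hk))
      split_ifs <;> omega
    have hhi : ∀ k ∈ L', n χ k ≤ C + (if n χ k ≠ C then (1 : ℤ) else 0) := fun k hk => by
      have := abs_le.1 (hbadle k (Finset.ne_of_mem_erase hk))
      split_ifs <;> omega
    have h1 := Finset.sum_le_sum hlo
    have h2 := Finset.sum_le_sum hhi
    rw [Finset.sum_sub_distrib, Finset.sum_const, nsmul_eq_mul, ← Finset.natCast_card_filter] at h1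
    rw [Finset.sum_add_distrib, Finset.sum_const, nsmul_eq_mul, ← Finset.natCast_card_filter] at h2
    have hdis : (R.filter fun k => n χ k ≠ C).card + (L'.filter fun k => n χ k ≠ C).card ≤ Bad.card := by
      rw [← Finset.card_union_of_disjoint]
      · refine Finset.card_le_card fun k hk => ?_
        rcases Finset.mem_union.1 hk with hk | hk <;> obtain ⟨hm, hne⟩ := Finset.mem_filter.1 hk
        · exact Finset.mem_filter.2 ⟨Finset.mem_univ _, hRne k hm, hne⟩
        · exact Finset.mem_filter.2 ⟨Finset.mem_univ _, Finset.ne_of_mem_erase hm, hne⟩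
      · rw [Finset.disjoint_left]
        intro k hk hk'
        exact (Finset.mem_sdiff.1 (Finset.mem_filter.1 hk).1).2
          (Finset.mem_of_mem_erase (Finset.mem_filter.1 hk').1)
    rw [hsplit, hLsum]
    have hdis' : ((R.filter fun k => n χ k ≠ C).card : ℤ) + (L'.filter fun k => n χ k ≠ C).card ≤
        (Bad.card : ℤ) := by exact_mod_cast hdis
    have hRz : (R.card : ℤ) = (p : ℤ) * Q - Q := by
      have : ((R.card + Q : ℕ) : ℤ) = ((p * Q : ℕ) : ℤ) := by rw [hRc, hq]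
      push_cast at this
      linarith
    have hLz : (L'.card : ℤ) = (Q : ℤ) - 1 := by
      have : ((L'.card + 1 : ℕ) : ℤ) = (Q : ℤ) := by rw [hL'c]
      push_cast at this
      linarith
    rw [hRz] at h1
    rw [hLz] at h2
    have hSpz : (S.card : ℤ) ≤ (p : ℤ) - 1 := by omega
    have hbz : (Bad.card : ℤ) ≤ S.card := by exact_mod_cast hbadc
    have hpz : (3 : ℤ) ≤ p := by exact_mod_cast hp
    suffices hs : (Bad.card : ℤ) + (S.card : ℤ) - 1 ≤ ((p : ℤ) * Q - 2 * Q) * C by nlinarith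
    rcases hQ with hQ | hQ
    · subst hQ
      push_cast
      rcases Bad.eq_empty_or_nonempty with he | ⟨k, hk⟩
      · simp only [he, Finset.card_empty, Nat.cast_zero]
        nlinarith
      · obtain ⟨hk0, hkC⟩ := (Finset.mem_filter.1 hk).2
        have h2S : 2 * S.card ≤ p - 1 := by
          have hdj : Disjoint (S.image fun s => s * k) (S.image fun s => s * c) := by
            rw [Finset.disjoint_left]
            intro y hy hy'
            obtain ⟨s, hs, rfl⟩ := Finset.mem_image.1 hy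
            obtain ⟨t, ht, e⟩ := Finset.mem_image.1 hy'
            exact hkC (by rw [← h.inv χ s hs k, ← e, h.inv χ t ht c])
          have hsub : (S.image fun s => s * k) ∪ (S.image fun s => s * c) ⊆
              (Finset.univ : Finset (ZMod q)).erase 0 := by
            intro y hy
            refine Finset.mem_erase.2 ⟨fun hy0 => ?_, Finset.mem_univ _⟩
            rcases Finset.mem_union.1 hy with hy | hy <;> obtain ⟨s, hs, rfl⟩ := Finset.mem_image.1 hy
            · obtain ⟨t, -, ht⟩ := h.symm k (s * k) ⟨s, hs, rfl⟩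
              exact hk0 (by rw [ht, hy0, mul_zero])
            · obtain ⟨t, -, ht⟩ := h.symm c (s * c) ⟨s, hs, rfl⟩
              exact hc (by rw [ht, hy0, mul_zero])
          have h3 := Finset.card_le_card hsub
          rw [Finset.card_union_of_disjoint hdj, card_orbit h hk0, card_orbit h hc,
            Finset.card_erase_of_mem (Finset.mem_univ _), Finset.card_univ, ZMod.card] at h3
          omega
        have h2Sz : 2 * (S.card : ℤ) ≤ (p : ℤ) - 1 := by omega
        nlinarith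
    · have hQz : (p : ℤ) ≤ Q := by exact_mod_cast hQ
      have h3 : (p : ℤ) * ((p : ℤ) - 2) ≤ ((p : ℤ) * Q - 2 * Q) * C := by
        have h4 : (p : ℤ) * ((p : ℤ) - 2) ≤ (p : ℤ) * Q - 2 * Q := by nlinarith
        have h5 : (p : ℤ) * Q - 2 * Q ≤ ((p : ℤ) * Q - 2 * Q) * C :=
          le_mul_of_one_le_right (by nlinarith) hC1
        linarith
      nlinarith

end Cfsg.Agent.Char.CyclicPairs
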