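import Cfsg.Agent.Lib.Char.OneClassProducts

/-!
# Sections and pairs for a cyclic Sylow subgroup
-/

set_option autoImplicit false
set_option linter.unusedSectionVars false
set_option linter.style.haveILetI false

namespace Cfsg.Agent.Char.CyclicPairs

open Cfsg Cfsg.Agent.Char
open scoped ComplexConjugate

universe u

variable {G : Type u} [Group G] [Fintype G] {p : ℕ} [hp : Fact p.Prime] {M : Ideal AlgInt} {x : G}
  [Fintype (Subgroup.centralizer ({x} : Set G))]
  (K : Subgroup (Subgroup.centralizer ({x} : Set G))) [K.Normal]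

open scoped Classical in
theorem classInner_section (hM : IsPModular p M) (hx : ∃ i : ℕ, orderOf x = p ^ i)
    (hK : ¬ p ∣ Nat.card K) {k : ℕ} (hk : K.index = p ^ k) (χ : IrrCharacter G) :
    classInner (fun g : G => if IsConj x (ppt p g) then (1 : ℂ) else 0) (χ : G → ℂ) =
      (K.index : ℂ)⁻¹ * (if χ ∈ principalBlock M G then conj ((χ : G → ℂ) x) else 0) := by
  have hc : IsClassFunction G fun g : G => conj ((χ : G → ℂ) g) :=
    isClassFunction_character (isCharacter_conj (irr_isCharacter χ.2))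
  have hsec := Cfsg.Agent.Char.MajorPairs.section_sum hp.out hx
    (C := Subgroup.centralizer ({x} : Set G)) rfl hc
  have hfil : (Finset.univ.filter fun v : Subgroup.centralizer ({x} : Set G) => ¬ p ∣ orderOf v) =
      Finset.univ.filter fun v => v ∈ K :=
    Finset.filter_congr fun v _ => regular_iff_mem_of_index hp.out K hK hk v
  rw [hfil] at hsec
  have hconj : ∑ v ∈ Finset.univ.filter (fun v : Subgroup.centralizer ({x} : Set G) => v ∈ K),
      conj ((χ : G → ℂ) (x * (v : G))) =
      if χ ∈ principalBlock M G then (Nat.card K : ℂ) * conj ((χ : G → ℂ) x) else 0 := by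
    rw [← map_sum, OneClass.section_sum_values K hM hx hK hk χ]
    split_ifs <;> simp
  rw [hconj] at hsec
  have e : ∑ g : G, (if IsConj x (ppt p g) then (1 : ℂ) else 0) * conj ((χ : G → ℂ) g) =
      ∑ g : G with IsConj x (ppt p g), conj ((χ : G → ℂ) g) := by
    rw [Finset.sum_filter]
    refine Finset.sum_congr rfl fun g _ => ?_
    split_ifs <;> simp
  have hG : (Nat.card G : ℂ) = (Nat.card K : ℂ) * (K.index : ℂ) *
      ((Subgroup.centralizer ({x} : Set G)).index : ℂ) := by
    rw [← Nat.cast_mul, ← Nat.cast_mul, Subgroup.card_mul_index, Subgroup.card_mul_index]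
  rw [classInner, e, hsec]
  have h1 : (Nat.card K : ℂ) ≠ 0 := Nat.cast_ne_zero.2 Nat.card_pos.ne'
  have h2 : (K.index : ℂ) ≠ 0 := Nat.cast_ne_zero.2 K.index_ne_zero_of_finite
  have h3 : ((Subgroup.centralizer ({x} : Set G)).index : ℂ) ≠ 0 :=
    Nat.cast_ne_zero.2 (Subgroup.index_ne_zero_of_finite)
  rw [hG]
  split_ifs
  · field_simp
  · simp

open scoped Classical in
theorem sum_degree_column (hM : IsPModular p M) (hx : ∃ i : ℕ, orderOf x = p ^ i) (hx1 : x ≠ 1)
    (hK : ¬ p ∣ Nat.card K) {k : ℕ} (hk : K.index = p ^ k) :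
    ∑ χ : IrrCharacter G with χ ∈ principalBlock M G,
      (χ : G → ℂ) x * conj ((χ : G → ℂ) 1) = 0 := by
  have hreg := regular_iff_mem_of_index hp.out K hK hk
  set S := Finset.univ.filter (fun v : Subgroup.centralizer ({x} : Set G) => v ∈ K) with hS
  have h1 : ∀ v ∈ S, ∑ χ : IrrCharacter G, (χ : G → ℂ) (x * (v : G)) * conj ((χ : G → ℂ) 1) = 0 := by
    intro v hv
    rw [second_orth, if_neg]
    intro h
    rw [isConj_comm, isConj_one_right] at h
    have h2 : (v : G) = x⁻¹ := eq_inv_of_mul_eq_one_right h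
    have hvr := (hreg v).mpr (Finset.mem_filter.1 hv).2
    rw [← Subgroup.orderOf_coe, h2, orderOf_inv] at hvr
    obtain ⟨i, hi⟩ := hx
    cases i with
    | zero => exact hx1 (orderOf_eq_one_iff.1 (by rw [hi, pow_zero]))
    | succ i => exact hvr (hi ▸ dvd_pow_self p (Nat.succ_ne_zero i))
  have h2 := Finset.sum_eq_zero h1
  rw [Finset.sum_comm] at h2
  simp only [← Finset.sum_mul, hS, OneClass.section_sum_values K hM hx hK hk, ite_mul, zero_mul] at h2
  rw [← Finset.sum_filter] at h2
  simp only [mul_assoc, ← Finset.mul_sum] at h2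
  exact (mul_eq_zero.1 h2).resolve_left (Nat.cast_ne_zero.2 Nat.card_pos.ne')

open scoped Classical in
/-- The columns of the principal block at non-conjugate elements are orthogonal. -/
theorem sum_principal_ne {y : G} [Fintype (Subgroup.centralizer ({y} : Set G))]
    (K' : Subgroup (Subgroup.centralizer ({y} : Set G))) [K'.Normal]
    (hM : IsPModular p M) (hx : ∃ i : ℕ, orderOf x = p ^ i) (hy : ∃ i : ℕ, orderOf y = p ^ i)
    (hne : ¬ IsConj x y) (hK : ¬ p ∣ Nat.card K) {k : ℕ} (hk : K.index = p ^ k)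
    (hK' : ¬ p ∣ Nat.card K') {k' : ℕ} (hk' : K'.index = p ^ k') :
    ∑ χ : IrrCharacter G with χ ∈ principalBlock M G, (χ : G → ℂ) x * conj ((χ : G → ℂ) y) = 0 := by
  set S := Finset.univ.filter (fun v : Subgroup.centralizer ({x} : Set G) => v ∈ K) with hS
  set S' := Finset.univ.filter (fun v : Subgroup.centralizer ({y} : Set G) => v ∈ K') with hS'
  have h0 : ∑ χ : IrrCharacter G, (∑ v ∈ S, (χ : G → ℂ) (x * (v : G))) *
      conj (∑ w ∈ S', (χ : G → ℂ) (y * (w : G))) = 0 := by
    simp only [map_sum, Finset.sum_mul_sum]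
    rw [Finset.sum_comm]
    refine Finset.sum_eq_zero fun v hv => ?_
    rw [Finset.sum_comm]
    refine Finset.sum_eq_zero fun w hw => ?_
    rw [second_orth, if_neg]
    intro h
    obtain ⟨c, hc⟩ := isConj_iff.1 h
    obtain ⟨r, hr, hcm, ⟨i, hi⟩, hreg⟩ := isPPart_mul hx v
      ((regular_iff_mem_of_index hp.out K hK hk v).mpr (Finset.mem_filter.1 hv).2)
    have h2 : IsPPart p (y * (w : G)) (c * x * c⁻¹) := by
      refine ⟨c * r * c⁻¹, by rw [← hc, ← hr]; group, ?_, ⟨i, ?_⟩, ?_⟩
      · simpa [MulAut.conj_apply] using hcm.map (MulAut.conj c)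
      · rw [← hi, ← MulAut.conj_apply, MulEquiv.orderOf_eq]
      · rwa [← MulAut.conj_apply, MulEquiv.orderOf_eq]
    exact hne (isConj_iff.2 ⟨c, isPPart_unique hp.out h2 (isPPart_mul hy w
      ((regular_iff_mem_of_index hp.out K' hK' hk' w).mpr (Finset.mem_filter.1 hw).2))⟩)
  simp only [hS, hS', OneClass.section_sum_values K hM hx hK hk,
    OneClass.section_sum_values K' hM hy hK' hk'] at h0
  have e : ∀ χ : IrrCharacter G,
      (if χ ∈ principalBlock M G then (Nat.card K : ℂ) * (χ : G → ℂ) x else 0) *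
        conj (if χ ∈ principalBlock M G then (Nat.card K' : ℂ) * (χ : G → ℂ) y else 0) =
      if χ ∈ principalBlock M G then
        ((Nat.card K : ℂ) * Nat.card K') * ((χ : G → ℂ) x * conj ((χ : G → ℂ) y)) else 0 := by
    intro χ
    split_ifs
    · rw [map_mul, map_natCast]; ring
    · rw [zero_mul]
  rw [Finset.sum_congr rfl fun χ _ => e χ, ← Finset.sum_filter, ← Finset.mul_sum] at h0
  exact (mul_eq_zero.1 h0).resolve_left (mul_ne_zero (Nat.cast_ne_zero.2 Nat.card_pos.ne')
    (Nat.cast_ne_zero.2 Nat.card_pos.ne'))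

end Cfsg.Agent.Char.CyclicPairs

namespace Cfsg.Agent.Char.CyclicPairs

open Cfsg

universe v

variable {G : Type v} [Group G] [Finite G] {p : ℕ} [hp : Fact p.Prime]

/-- Two elements of order `p` generating a `p`-solvable group with cyclic Sylow subgroups: some
power product is regular, and every element of `p`-power order has order at most `p`. -/
theorem pair_cyclic {x y : G} (hx : orderOf x = p) (hy : orderOf y = p)
    (hgen : Subgroup.closure ({x, y} : Set G) = ⊤) (hG : IsPSolvable p G)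
    (hcyc : ∀ S : Sylow p G, IsCyclic (S : Subgroup G)) :
    (∃ t ∈ Finset.Icc 1 (p - 1), ¬ p ∣ orderOf (x * y ^ t)) ∧
      ∀ w : G, (∃ k : ℕ, orderOf w = p ^ k) → w ^ p = 1 := by
  set N := pPrimeCore p G with hN
  set π := QuotientGroup.mk' N with hπ
  have hsur : Function.Surjective π := QuotientGroup.mk'_surjective N
  have hQ : IsPSolvable p (G ⧸ N) := Solv.isPSolvable_map hp.out hG π hsur
  have hcycQ : ∀ S : Sylow p (G ⧸ N), IsCyclic (S : Subgroup (G ⧸ N)) := by
    intro S
    obtain ⟨T, rfl⟩ := Sylow.mapSurjective_surjective hsur p S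
    haveI := hcyc T
    exact isCyclic_of_surjective _ (π.subgroupMap_surjective (T : Subgroup G))
  have habQ : ∀ S : Sylow p (G ⧸ N), IsMulCommutative (S : Subgroup (G ⧸ N)) := fun S => by
    haveI := hcycQ S
    exact ⟨⟨fun a b => (IsCyclic.commGroup (α := (S : Subgroup (G ⧸ N)))).mul_comm a b⟩⟩
  have hpow : ∀ a : G, a ^ p = 1 → π a ∈ pCore p (G ⧸ N) := fun a ha => by
    refine OneClass.mem_pCore_of_commutative hQ Fusion.pPrimeCore_quotient_eq_bot habQ ?_
    obtain ⟨k, -, hk⟩ := (Nat.dvd_prime_pow hp.out).1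
      (orderOf_dvd_of_pow_eq_one (x := π a) (n := p ^ 1) (by rw [pow_one, ← map_pow, ha, map_one]))
    exact ⟨k, hk⟩
  have hxp : x ^ p = 1 := by rw [← hx]; exact pow_orderOf_eq_one x
  have hyp : y ^ p = 1 := by rw [← hy]; exact pow_orderOf_eq_one y
  have hgenQ : Subgroup.closure ({π x, π y} : Set (G ⧸ N)) = ⊤ := by
    rw [← Set.image_pair, ← MonoidHom.map_closure, hgen, Subgroup.map_top_of_surjective π hsur]
  have htop : pCore p (G ⧸ N) = ⊤ := by
    rw [eq_top_iff, ← hgenQ, Subgroup.closure_le]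
    rintro _ (rfl | rfl)
    · exact hpow x hxp
    · exact hpow y hyp
  have hpg : IsPGroup p (G ⧸ N) := by
    have h := Fusion.isPGroup_pCore p (G ⧸ N)
    rw [htop] at h
    exact h.of_equiv Subgroup.topEquiv
  haveI hcQ : IsCyclic (G ⧸ N) := by
    obtain ⟨S, hS⟩ := (hpg.to_subgroup ⊤).exists_le_sylow
    haveI := hcycQ S
    rw [top_le_iff.1 hS] at *
    exact isCyclic_of_surjective (Subgroup.topEquiv (G := G ⧸ N)) Subgroup.topEquiv.surjective
  letI := IsCyclic.commGroup (α := G ⧸ N)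
  have hexp : ∀ a : G ⧸ N, a ^ p = 1 := fun a => by
    have : Subgroup.closure ({π x, π y} : Set (G ⧸ N)) ≤ (powMonoidHom p : (G ⧸ N) →* G ⧸ N).ker := by
      rw [Subgroup.closure_le]
      rintro _ (rfl | rfl)
      · show (π x) ^ p = 1
        rw [← map_pow, hxp, map_one]
      · show (π y) ^ p = 1
        rw [← map_pow, hyp, map_one]
    rw [hgenQ] at this
    exact this (Subgroup.mem_top a)
  have hmem : ∀ a : G, a ∈ N → ¬ p ∣ orderOf a := fun a ha hd => by
    have h2 := Fusion.mem_pPrimeCore_orderOf ha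
    exact hp.out.ne_one (Nat.eq_one_of_dvd_coprimes h2 hd dvd_rfl)
  have hne : ∀ a : G, orderOf a = p → π a ≠ 1 := fun a ha h =>
    hmem a ((QuotientGroup.eq_one_iff a).1 h) (by rw [ha])
  have hox : orderOf (π x) = p := orderOf_eq_prime (hexp _) (hne x hx)
  have hcardQ : Nat.card (G ⧸ N) = p := by
    obtain ⟨γ, hγ⟩ := IsCyclic.exists_ofOrder_eq_natCard (α := G ⧸ N)
    refine le_antisymm (hγ ▸ Nat.le_of_dvd hp.out.pos (orderOf_dvd_of_pow_eq_one (hexp γ))) ?_
    exact hox ▸ Nat.le_of_dvd Nat.card_pos (orderOf_dvd_natCard _)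
  refine ⟨?_, fun w hw => ?_⟩
  · have htopx : Subgroup.zpowers (π y) = ⊤ := by
      apply Subgroup.eq_top_of_card_eq
      rw [Nat.card_zpowers, hcardQ, orderOf_eq_prime (hexp _) (hne y hy)]
    have hmx : (π x)⁻¹ ∈ Submonoid.powers (π y) := by
      rw [← mem_powers_iff_mem_zpowers.symm, htopx]
      trivial
    obtain ⟨t, ht⟩ := Submonoid.mem_powers_iff _ _ |>.1 hmx
    have ht' : (π y) ^ (t % p) = (π x)⁻¹ := by
      rw [← ht, ← pow_eq_pow_iff_modEq.2]
      rw [orderOf_eq_prime (hexp _) (hne y hy)]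
      exact (Nat.mod_modEq t p).symm
    refine ⟨t % p, Finset.mem_Icc.2 ⟨?_, ?_⟩, hmem _ ((QuotientGroup.eq_one_iff _).1 ?_)⟩
    · rcases Nat.eq_zero_or_pos (t % p) with h | h
      · rw [h, pow_zero] at ht'
        exact absurd (inv_eq_one.1 ht'.symm) (hne x hx)
      · exact h
    · have := Nat.mod_lt t hp.out.pos
      omega
    · show π (x * y ^ (t % p)) = 1
      rw [map_mul, map_pow, ht', mul_inv_cancel]
  · obtain ⟨k, hk⟩ := hw
    have h1 : w ^ p ∈ N := (QuotientGroup.eq_one_iff _).1 (by rw [QuotientGroup.mk_pow]; exact hexp _)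
    have h2 := Fusion.mem_pPrimeCore_orderOf h1
    obtain ⟨m, -, hm⟩ := (Nat.dvd_prime_pow hp.out).1 (hk ▸ orderOf_pow_dvd p (x := w))
    cases m with
    | zero => exact orderOf_eq_one_iff.1 (by rw [hm, pow_zero])
    | succ m => exact absurd (hm ▸ dvd_pow_self p (Nat.succ_ne_zero m)) (hmem _ h1)

end Cfsg.Agent.Char.CyclicPairs
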