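import Cfsg.Agent.Lib.Char.CyclicPairsSetup
import Cfsg.Agent.S1951

/-!
# No simple group with cyclic Sylow subgroup has all pairs of elements of order `p` `p`-solvable
-/

set_option autoImplicit false
set_option linter.unusedSectionVars false
set_option linter.style.haveILetI false

namespace Cfsg.Agent.Char.CyclicPairs

open Cfsg Cfsg.Agent.Char
open scoped ComplexConjugate

universe u

variable {G : Type u} [Group G] [Fintype G] {p : ℕ} [hp : Fact p.Prime] {P : Sylow p G}
  {q : ℕ} [NeZero q] (φ : Param P q) {a : ℕ}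

theorem exists_pow_eq (hq : q = p ^ a) (i : ZMod q) : ∃ k : ℕ, orderOf (φ.toFun i) = p ^ k := by
  obtain ⟨k, -, hk⟩ := (Nat.dvd_prime_pow hp.out).1
    (((Subgroup.orderOf_mk _ (φ.mem i)).symm ▸ orderOf_dvd_natCard (⟨_, φ.mem i⟩ : (P : Subgroup G))).trans
      (dvd_of_eq (φ.card.trans hq)))
  exact ⟨k, hk⟩

theorem ne_one {i : ZMod q} (hi : i ≠ 0) : φ.toFun i ≠ 1 := fun h =>
  hi (φ.inj (h.trans (map_zero φ).symm))

theorem exists_complement (hq : q = p ^ a) {i : ZMod q} (hi : i ≠ 0) :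
    ∃ (K : Subgroup (Subgroup.centralizer ({φ.toFun i} : Set G))) (_ : K.Normal),
      ¬ p ∣ Nat.card K ∧ (∃ k : ℕ, K.index = p ^ k) ∧ K.index = q := by
  haveI : Fintype (Subgroup.centralizer ({φ.toFun i} : Set G)) := Fintype.ofFinite _
  obtain ⟨K, hKn, hK, ⟨k, hk⟩, -⟩ := exists_complement_index (hnpc_centralizer φ hq hi)
  have hPC : (P : Subgroup G) ≤ Subgroup.centralizer ({φ.toFun i} : Set G) := fun y hy => by
    obtain ⟨j, rfl⟩ := φ.surj y hy
    refine Subgroup.mem_centralizer_singleton_iff.2 ?_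
    rw [← φ.map_add, ← φ.map_add, add_comm]
  refine ⟨K, hKn, hK, ⟨k, hk⟩, ?_⟩
  rw [← card_sylow_eq_index K hK hk (P.subtype hPC), Sylow.coe_subtype]
  exact (Nat.card_congr (Subgroup.subgroupOfEquivOfLe hPC).toEquiv).trans φ.card

open scoped Classical in
theorem column_orth {M : Ideal AlgInt} (hM : IsPModular p M) (hq : q = p ^ a) {i j : ZMod q}
    (hi : i ≠ 0) (hj : j ≠ 0) :
    ∑ χ : IrrCharacter G with χ ∈ principalBlock M G,
      (χ : G → ℂ) (φ.toFun i) * conj ((χ : G → ℂ) (φ.toFun j)) =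
      if Rel (mult φ) i j then (q : ℂ) else 0 := by
  obtain ⟨K, hKn, hK, ⟨k, hk⟩, hKi⟩ := exists_complement φ hq hi
  haveI := hKn
  haveI : Fintype (Subgroup.centralizer ({φ.toFun i} : Set G)) := Fintype.ofFinite _
  haveI : Fintype (Subgroup.centralizer ({φ.toFun j} : Set G)) := Fintype.ofFinite _
  split_ifs with hr
  · obtain ⟨c, hc⟩ := isConj_iff.1 ((isConj_iff_rel φ i j).2 hr)
    have h := sum_principal_sq_section hM (exists_pow_eq φ hq i) K hK hk
    rw [hKi] at h
    rw [← h]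
    refine Finset.sum_congr rfl fun χ _ => ?_
    rw [← hc, isClassFunction_character (irr_isCharacter χ.2), mul_comm]
  · obtain ⟨K', hKn', hK', ⟨k', hk'⟩, -⟩ := exists_complement φ hq hj
    haveI := hKn'
    exact sum_principal_ne K K' hM (exists_pow_eq φ hq i) (exists_pow_eq φ hq j)
      (fun h => hr ((isConj_iff_rel φ i j).1 h)) hK hk hK' hk'

open scoped Classical in
theorem column_degree {M : Ideal AlgInt} (hM : IsPModular p M) (hq : q = p ^ a) {i : ZMod q}
    (hi : i ≠ 0) :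
    ∑ χ : IrrCharacter G with χ ∈ principalBlock M G,
      (χ : G → ℂ) (φ.toFun i) * conj ((χ : G → ℂ) 1) = 0 := by
  obtain ⟨K, hKn, hK, ⟨k, hk⟩, -⟩ := exists_complement φ hq hi
  haveI := hKn
  haveI : Fintype (Subgroup.centralizer ({φ.toFun i} : Set G)) := Fintype.ofFinite _
  exact sum_degree_column K hM (exists_pow_eq φ hq i) (ne_one φ hi) hK hk

/-- The restriction of a character to `P`, as a function of the exponent. -/
def res (χ : G → ℂ) (i : ZMod q) : ℂ := χ (φ.toFun i)

open ZMod in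
theorem exists_multiplicity {χ : G → ℂ} (h : IsCharacter G χ) (k : ZMod q) :
    ∃ n : ℕ, ∑ i : ZMod q, χ (φ.toFun i) * stdAddChar (-(k * i)) = (q : ℂ) * n := by
  let f : Multiplicative (ZMod q) →* G :=
    MonoidHom.mk' (fun i => φ.toFun i.toAdd) fun i j => φ.map_add _ _
  let L : Multiplicative (ZMod q) →* ℂˣ :=
    (((stdAddChar (N := q)).mulShift k).toMonoidHom).toHomUnits
  obtain ⟨n, hn⟩ := classInner_natCast (isCharacter_comp f h) (isCharacter_linear L)
  refine ⟨n, ?_⟩
  have hq0 : (Nat.card (Multiplicative (ZMod q)) : ℂ) = q := by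
    rw [Nat.card_congr Multiplicative.toAdd, Nat.card_zmod]
  rw [← hn, classInner, hq0, ← mul_assoc, mul_inv_cancel₀ (Nat.cast_ne_zero.2 (NeZero.ne q)), one_mul]
  refine Fintype.sum_equiv Multiplicative.ofAdd _ _ fun i => ?_
  show χ (φ.toFun i) * stdAddChar (-(k * i)) = χ (φ.toFun i) * conj (stdAddChar (k * i))
  rw [AddChar.map_neg_eq_conj]

theorem sum_shift {q : ℕ} [NeZero q] (b : ZMod q) :
    ∑ i : ZMod q, ZMod.stdAddChar (i * b) = if b = 0 then (q : ℂ) else 0 := by
  rw [AddChar.sum_mulShift b (ZMod.isPrimitive_stdAddChar q), ZMod.card]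
  split_ifs <;> simp

set_option maxHeartbeats 4000000 in
include φ in
open scoped Classical in
theorem no_pairs [IsSimpleGroup G] (hnp : ¬ HasNormalPComplement p G) (hp2 : p ≠ 2)
    (hq : q = p ^ a) (ha : 1 ≤ a) (hq3 : q ≠ 3)
    (hc : ∀ x y : G, orderOf x = p → orderOf y = p → IsPSolvable p ↥(Subgroup.closure ({x, y} : Set G))) :
    False := by
  have hp3 : 3 ≤ p := by have := hp.out.two_le; omega
  obtain ⟨M, hM⟩ := exists_pModular hp.out
  set Q := p ^ (a - 1) with hQ
  have hqQ : q = p * Q := by rw [hq, hQ, ← pow_succ']; congr 1; omega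
  have hQ0 : 0 < Q := pow_pos hp.out.pos _
  set S := mult φ with hS
  set B := Finset.univ.filter fun χ : IrrCharacter G => χ ∈ principalBlock M G with hB
  have hψ0 : ZMod.stdAddChar (0 : ZMod q) = (1 : ℂ) := AddChar.map_zero_eq_one _
  choose d hd using fun χ : IrrCharacter G => charOne_eq_natCast (irr_isCharacter χ.2)
  choose n hn using fun (χ : IrrCharacter G) (k : ZMod q) =>
    exists_multiplicity φ (irr_isCharacter χ.2) k
  have hqC : (q : ℂ) ≠ 0 := Nat.cast_ne_zero.2 (NeZero.ne q)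
  have hf0 : ∀ χ : IrrCharacter G, (χ : G → ℂ) (φ.toFun 0) = d χ := fun χ => by rw [map_zero, hd]
  have hdiff : ∀ χ k, (q : ℂ) * (((n χ 0 : ℤ) - (n χ k : ℤ) : ℤ) : ℂ) =
      ∑ i : ZMod q, (χ : G → ℂ) (φ.toFun i) * (1 - ZMod.stdAddChar (-(k * i))) := fun χ k => by
    simp only [mul_sub, mul_one, Finset.sum_sub_distrib, hn]
    have h0 := hn χ 0
    simp only [zero_mul, neg_zero, hψ0, mul_one] at h0
    rw [h0]
    push_cast
    ring
  have hinv : ∀ χ, ∀ s ∈ S, ∀ k : ZMod q, n χ (s * k) = n χ k := by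
    intro χ s hs k
    have h : (q : ℂ) * n χ (s * k) = (q : ℂ) * n χ k := by
      rw [← hn, ← hn]
      obtain ⟨t, -, hts⟩ := exists_inv φ hs
      refine Fintype.sum_equiv (Units.mkOfMulEqOne s t (by rw [mul_comm, hts])).mulLeft _ _ fun i => ?_
      show _ = (χ : G → ℂ) (φ.toFun (s * i)) * ZMod.stdAddChar (-(k * (s * i)))
      obtain ⟨c, -, hcs⟩ := (mem_mult φ).1 hs
      rw [← conj_apply φ hcs i, isClassFunction_character (irr_isCharacter χ.2),
        show k * (s * i) = s * k * i by ring]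
    exact_mod_cast mul_left_cancel₀ hqC h
  set e0 : IrrCharacter G := ⟨fun _ => 1, isIrrCharacter_one⟩ with he0
  have hde : d e0 = 1 := by
    have h : (d e0 : ℂ) = ((1 : ℕ) : ℂ) := by rw [← hd e0]; simp [he0]
    exact_mod_cast h
  have hne0 : ∀ k : ZMod q, (n e0 k : ℤ) = if k = 0 then 1 else 0 := by
    intro k
    have h := hn e0 k
    have e : ∑ i : ZMod q, (e0 : G → ℂ) (φ.toFun i) * ZMod.stdAddChar (-(k * i)) =
        if k = 0 then (q : ℂ) else 0 := by
      rw [Finset.sum_congr rfl (g := fun i => ZMod.stdAddChar (i * -k)) fun i _ => by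
        simp [he0, mul_comm], sum_shift]
      simp only [neg_eq_zero]
    rw [e] at h
    split_ifs at h ⊢
    · have h' : (q : ℂ) * (1 : ℕ) = (q : ℂ) * n e0 k := by rw [Nat.cast_one, mul_one]; exact h
      exact_mod_cast (mul_left_cancel₀ hqC h').symm
    · exact_mod_cast (mul_eq_zero.1 h.symm).resolve_left hqC
  have hsumn : ∀ χ, ∑ k : ZMod q, (n χ k : ℤ) = (d χ : ℤ) := by
    intro χ
    have h : (q : ℂ) * ∑ k : ZMod q, (n χ k : ℂ) = (q : ℂ) * d χ := by
      simp only [Finset.mul_sum, ← hn]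
      rw [Finset.sum_comm, Finset.sum_eq_single 0]
      · simp [mul_zero, neg_zero, hψ0, ← Finset.sum_mul, hf0, ZMod.card]
      · intro i _ hi
        rw [← Finset.mul_sum,
          show ∑ k : ZMod q, ZMod.stdAddChar (-(k * i)) = ∑ k : ZMod q, ZMod.stdAddChar (k * -i) from
            Finset.sum_congr rfl fun k _ => by rw [mul_neg], sum_shift, if_neg (neg_ne_zero.2 hi), mul_zero]
      · exact fun h => absurd (Finset.mem_univ _) h
    have h' := mul_left_cancel₀ hqC h
    exact_mod_cast h'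
  have hcard1 : ∀ i j : ZMod q, i ≠ 0 → Rel S i j → j ≠ 0 := fun i j hi hr => by
    obtain ⟨s, hs, rfl⟩ := hr
    exact mult_ne_zero φ (hqQ ▸ (lt_of_lt_of_le (by omega) (Nat.le_mul_of_pos_right p hQ0) : 1 < p * Q)) hs hi
  -- the sum over the related elements
  have hrelsum : ∀ {α : Type} [AddCommMonoid α] (i : ZMod q), i ≠ 0 → ∀ F : ZMod q → α,
      (∑ j : ZMod q with Rel S i j, F j) = ∑ s ∈ S, F (s * i) := by
    intro α _ i hi F
    rw [← Finset.sum_image (f := F) (g := fun s => s * i) fun s hs t ht h =>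
      mult_inj φ hq hi hs ht h]
    refine Finset.sum_congr ?_ fun _ _ => rfl
    ext j
    rw [Finset.mem_image, Finset.mem_filter]
    exact ⟨fun ⟨_, s, hs, h⟩ => ⟨s, hs, h.symm⟩, fun ⟨s, hs, h⟩ => ⟨Finset.mem_univ _, s, hs, h.symm⟩⟩
  have hgram : ∀ k l : ZMod q, k ≠ 0 → l ≠ 0 → ∀ [Decidable (Rel S k l)],
      ∑ χ ∈ B, ((n χ 0 : ℤ) - n χ k) * ((n χ 0 : ℤ) - n χ l) =
        (S.card : ℤ) + if Rel S k l then 1 else 0 := by
    intro k l hk hl _
    have h1 : (q : ℂ) * q * ((∑ χ ∈ B, ((n χ 0 : ℤ) - n χ k) * ((n χ 0 : ℤ) - n χ l) : ℤ) : ℂ) =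
        ∑ i : ZMod q, ∑ j : ZMod q, (1 - ZMod.stdAddChar (-(k * i))) *
          conj (1 - ZMod.stdAddChar (-(l * j))) *
          ∑ χ ∈ B, (χ : G → ℂ) (φ.toFun i) * conj ((χ : G → ℂ) (φ.toFun j)) := by
      rw [Int.cast_sum, Finset.mul_sum]
      simp only [Finset.mul_sum]
      rw [Finset.sum_congr rfl fun i _ => Finset.sum_comm, Finset.sum_comm]
      refine Finset.sum_congr rfl fun χ _ => ?_
      have hl' := congrArg conj (hdiff χ l)
      rw [map_mul, map_natCast, map_intCast, map_sum] at hl'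
      rw [Int.cast_mul, mul_mul_mul_comm, hdiff χ k, hl', Finset.sum_mul_sum]
      refine Finset.sum_congr rfl fun i _ => Finset.sum_congr rfl fun j _ => ?_
      rw [map_mul]
      ring
    have h2 : ∀ i : ZMod q, ∑ j : ZMod q, (1 - ZMod.stdAddChar (-(k * i))) *
          conj (1 - ZMod.stdAddChar (-(l * j))) *
          (∑ χ ∈ B, (χ : G → ℂ) (φ.toFun i) * conj ((χ : G → ℂ) (φ.toFun j))) =
        (q : ℂ) * ∑ s ∈ S, (1 - ZMod.stdAddChar (-(k * i))) *
          conj (1 - ZMod.stdAddChar (-(l * (s * i)))) := by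
      intro i
      rcases eq_or_ne i 0 with rfl | hi
      · simp [hψ0]
      · rw [← hrelsum i hi (fun j => (1 - ZMod.stdAddChar (-(k * i))) *
          conj (1 - ZMod.stdAddChar (-(l * j)))), Finset.mul_sum, Finset.sum_filter]
        refine Finset.sum_congr rfl fun j _ => ?_
        rcases eq_or_ne j 0 with rfl | hj
        · simp [hψ0]
        · rw [hB, column_orth φ hM hq hi hj]
          split_ifs <;> ring
    have h3 : ∀ s ∈ S, ∑ i : ZMod q, (1 - ZMod.stdAddChar (-(k * i))) *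
        conj (1 - ZMod.stdAddChar (-(l * (s * i)))) = (q : ℂ) * (1 + if k = s * l then 1 else 0) := by
      intro s hs
      have e : ∀ i : ZMod q, (1 - ZMod.stdAddChar (-(k * i))) *
          conj (1 - ZMod.stdAddChar (-(l * (s * i)))) =
          1 - ZMod.stdAddChar (i * -k) - ZMod.stdAddChar (i * (s * l)) +
            ZMod.stdAddChar (i * (s * l - k)) := by
        intro i
        rw [map_sub, map_one, ← AddChar.map_neg_eq_conj, neg_neg,
          show i * (s * l - k) = -(k * i) + l * (s * i) by ring, AddChar.map_add_eq_mul,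
          show i * -k = -(k * i) by ring, show i * (s * l) = l * (s * i) by ring]
        ring
      rw [Finset.sum_congr rfl fun i _ => e i, Finset.sum_add_distrib, Finset.sum_sub_distrib,
        Finset.sum_sub_distrib, sum_shift, sum_shift, sum_shift, if_neg (neg_ne_zero.2 hk),
        if_neg (mult_ne_zero φ (hqQ ▸ (lt_of_lt_of_le (by omega) (Nat.le_mul_of_pos_right p hQ0) : 1 < p * Q)) hs hl),
        Finset.sum_const, Finset.card_univ, ZMod.card, nsmul_one]
      simp only [sub_eq_zero, eq_comm (a := k)]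
      split_ifs <;> ring
    rw [Finset.sum_congr rfl fun i _ => h2 i, ← Finset.mul_sum, Finset.sum_comm, Finset.sum_congr rfl h3,
      ← Finset.mul_sum, Finset.sum_add_distrib, ← mul_assoc] at h1
    have h4 : ∑ s ∈ S, (if k = s * l then (1 : ℂ) else 0) = if Rel S k l then 1 else 0 := by
      split_ifs with hr
      · obtain ⟨t, ht, htk⟩ := rel_symm φ hr
        rw [Finset.sum_eq_single t (fun s hs hne => if_neg fun h => hne (mult_inj φ hq hl hs ht
          (h.symm.trans htk))) (fun h => absurd ht h), if_pos htk]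
      · exact Finset.sum_eq_zero fun s hs => if_neg fun h => hr (rel_symm φ ⟨s, hs, h⟩)
    rw [h4, Finset.sum_const, nsmul_one] at h1
    have h5 := mul_left_cancel₀ (mul_ne_zero hqC hqC) h1
    split_ifs at h5 ⊢ <;> exact_mod_cast h5
  have horth : ∀ k : ZMod q, k ≠ 0 → ∑ χ ∈ B, (d χ : ℤ) * ((n χ 0 : ℤ) - n χ k) = 0 := by
    intro k _
    have h : (q : ℂ) * ((∑ χ ∈ B, (d χ : ℤ) * ((n χ 0 : ℤ) - n χ k) : ℤ) : ℂ) = 0 := by
      rw [Int.cast_sum, Finset.mul_sum]
      have e : ∀ χ ∈ B, (q : ℂ) * (((d χ : ℤ) * ((n χ 0 : ℤ) - n χ k) : ℤ) : ℂ) =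
          ∑ i : ZMod q, ((χ : G → ℂ) (φ.toFun i) * conj ((χ : G → ℂ) 1)) *
            (1 - ZMod.stdAddChar (-(k * i))) := fun χ _ => by
        rw [Int.cast_mul, Int.cast_natCast, mul_left_comm, hdiff χ k, Finset.mul_sum]
        refine Finset.sum_congr rfl fun i _ => ?_
        rw [hd χ, map_natCast]
        ring
      rw [Finset.sum_congr rfl e, Finset.sum_comm]
      refine Finset.sum_eq_zero fun i _ => ?_
      rw [← Finset.sum_mul]
      rcases eq_or_ne i 0 with rfl | hi
      · simp [hψ0]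
      · rw [hB, column_degree φ hM hq hi, zero_mul]
    exact_mod_cast (mul_eq_zero.1 h).resolve_left hqC
  have hdata : MultData B d (fun χ k => (n χ k : ℤ)) S e0 :=
    { two_le := two_le_card_mult φ hnp
      one_mem := one_mem_mult φ
      symm := fun _ _ => rel_symm φ
      trans := fun _ _ _ => rel_trans φ
      inj := fun k hk s hs t ht h => mult_inj φ hq hk hs ht h
      inv := fun χ s hs k => congrArg Nat.cast (hinv χ s hs k)
      nonneg := fun χ k => Int.natCast_nonneg _
      degree := fun χ _ => Nat.pos_of_ne_zero fun h => irr_one_ne_zero χ.2 (by rw [hd, h, Nat.cast_zero])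
      gram := hgram
      orth := horth
      mem_triv := Finset.mem_filter.2 ⟨Finset.mem_univ _, one_mem_principal hM⟩
      triv_zero := by simp [hne0]
      triv_ne := fun k hk => by simp [hne0, hk] }
  -- the elements of order `p` and the characters trivial on them
  set Z := Finset.univ.filter (fun i : ZMod q => i * (p : ZMod q) = 0) with hZ
  set Z0 := Z.erase 0 with hZ0
  set L := Finset.univ.filter (fun k : ZMod q => k * (Q : ZMod q) = 0) with hL
  have hqQ' : q = Q * p := by rw [hqQ, mul_comm]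
  have hZc : Z.card = p := card_killed hqQ'
  have hLc : L.card = Q := card_killed hqQ
  have hZz : (0 : ZMod q) ∈ Z := Finset.mem_filter.2 ⟨Finset.mem_univ _, zero_mul _⟩
  have hZ0c : Z0.card = p - 1 := by rw [hZ0, Finset.card_erase_of_mem hZz, hZc]
  have hQZ : (Q : ZMod q) ∈ Z0 := by
    refine Finset.mem_erase.2 ⟨fun h => ?_, Finset.mem_filter.2 ⟨Finset.mem_univ _, ?_⟩⟩
    · rw [ZMod.natCast_eq_zero_iff] at h
      have h' := Nat.le_of_dvd hQ0 h
      have : 2 * Q ≤ p * Q := Nat.mul_le_mul_right Q hp.out.two_le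
      omega
    · rw [← Nat.cast_mul, ← hqQ', ZMod.natCast_self]
  have hrelZ : ∀ i j, i ∈ Z0 → Rel S i j → j ∈ Z0 := fun i j hi hr => by
    obtain ⟨hi0, hiZ⟩ := Finset.mem_erase.1 hi
    refine Finset.mem_erase.2 ⟨hcard1 i j hi0 hr, ?_⟩
    obtain ⟨s, -, rfl⟩ := hr
    exact Finset.mem_filter.2 ⟨Finset.mem_univ _, by
      rw [mul_assoc, (Finset.mem_filter.1 hiZ).2, mul_zero]⟩
  have hSp : S.card ≤ p - 1 := by
    rw [← hZ0c, ← card_orbit hdata (Finset.ne_of_mem_erase hQZ)]
    refine Finset.card_le_card fun y hy => ?_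
    obtain ⟨s, hs, rfl⟩ := Finset.mem_image.1 hy
    exact hrelZ _ _ hQZ ⟨s, hs, rfl⟩
  have hrelc : ∀ i ∈ Z0, (Z0.filter fun j => Rel S i j).card = S.card := fun i hi => by
    rw [← card_orbit hdata (Finset.ne_of_mem_erase hi)]
    congr 1
    ext j
    simp only [Finset.mem_filter, Finset.mem_image]
    exact ⟨fun ⟨_, s, hs, h⟩ => ⟨s, hs, h.symm⟩,
      fun ⟨s, hs, h⟩ => ⟨hrelZ i j hi ⟨s, hs, h.symm⟩, s, hs, h.symm⟩⟩
  set Y : IrrCharacter G → ℤ := fun χ => (p : ℤ) * (∑ k ∈ L, (n χ k : ℤ)) - d χ with hY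
  have hYsum : ∀ χ : IrrCharacter G, ∑ i ∈ Z0, (χ : G → ℂ) (φ.toFun i) = ((Y χ : ℤ) : ℂ) := by
    intro χ
    have hker : ∀ i : ZMod q, ∑ k ∈ L, ZMod.stdAddChar (-(k * i)) = if i ∈ Z then (Q : ℂ) else 0 := by
      intro i
      split_ifs with hi
      · rw [← hLc, Finset.sum_congr rfl fun k hk => ?_, Finset.sum_const, nsmul_one]
        obtain ⟨c, hc⟩ : (p : ℕ) ∣ k.val := by
          have h := (Finset.mem_filter.1 hk).2
          rw [← ZMod.natCast_zmod_val k, ← Nat.cast_mul, ZMod.natCast_eq_zero_iff] at h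
          exact Nat.dvd_of_mul_dvd_mul_right hQ0 ((dvd_of_eq hqQ.symm).trans h)
        rw [← ZMod.natCast_zmod_val k, hc, Nat.cast_mul, mul_comm (p : ZMod q), mul_assoc,
          mul_comm (p : ZMod q) i, (Finset.mem_filter.1 hi).2, mul_zero, neg_zero, hψ0]
      · have hpL : (p : ZMod q) ∈ L := Finset.mem_filter.2 ⟨Finset.mem_univ _, by
          rw [← Nat.cast_mul, ← hqQ, ZMod.natCast_self]⟩
        have hw : ZMod.stdAddChar (-((p : ZMod q) * i)) ≠ 1 := fun h => hi (by
          refine Finset.mem_filter.2 ⟨Finset.mem_univ _, ?_⟩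
          have h0 := ZMod.injective_stdAddChar (h.trans hψ0.symm)
          rw [mul_comm]
          exact neg_eq_zero.1 h0)
        have hsh : ∑ k ∈ L, ZMod.stdAddChar (-(k * i)) =
            ZMod.stdAddChar (-((p : ZMod q) * i)) * ∑ k ∈ L, ZMod.stdAddChar (-(k * i)) := by
          rw [Finset.mul_sum]
          refine Finset.sum_equiv (Equiv.addRight (-(p : ZMod q))) (fun k => ?_) fun k _ => ?_
          · simp only [hL, Finset.mem_filter, Finset.mem_univ, true_and, Equiv.coe_addRight, add_mul,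
              neg_mul, (Finset.mem_filter.1 hpL).2, neg_zero, add_zero]
          · rw [← AddChar.map_add_eq_mul, Equiv.coe_addRight]
            congr 1
            ring
        by_contra hne
        exact hw (mul_eq_right₀ hne |>.1 hsh.symm)
    have h : (Q : ℂ) * ∑ i ∈ Z, (χ : G → ℂ) (φ.toFun i) =
        (Q : ℂ) * ((p : ℂ) * ∑ k ∈ L, (n χ k : ℂ)) := by
      rw [← mul_assoc, ← Nat.cast_mul, ← hqQ', Finset.mul_sum, Finset.mul_sum]
      simp only [← hn]
      rw [Finset.sum_comm]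
      simp only [← Finset.mul_sum, hker, mul_ite, mul_zero, Finset.sum_ite_mem, Finset.univ_inter]
      rw [← Finset.sum_mul, mul_comm]
    have h' := mul_left_cancel₀ (Nat.cast_ne_zero.2 hQ0.ne') h
    rw [← Finset.add_sum_erase _ _ hZz, hf0] at h'
    simp only [hY, Int.cast_sub, Int.cast_mul, Int.cast_natCast, Int.cast_sum]
    rw [← h']
    ring
  have hYsq : ∑ χ ∈ B, Y χ ^ 2 = ((p - 1 : ℕ) : ℤ) * S.card * q := by
    have h : ((∑ χ ∈ B, Y χ ^ 2 : ℤ) : ℂ) = (((p - 1 : ℕ) : ℤ) * S.card * q : ℤ) := by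
      rw [Int.cast_sum]
      have e : ∀ χ, ((Y χ ^ 2 : ℤ) : ℂ) = ∑ i ∈ Z0, ∑ j ∈ Z0,
          (χ : G → ℂ) (φ.toFun i) * conj ((χ : G → ℂ) (φ.toFun j)) := fun χ => by
        rw [← Finset.sum_mul_sum, ← map_sum, hYsum, map_intCast, Int.cast_pow, sq]
      simp only [e]
      rw [Finset.sum_comm]
      rw [Finset.sum_congr rfl fun i _ => Finset.sum_comm]
      rw [Finset.sum_congr rfl fun i hi => ?_, Finset.sum_const, nsmul_eq_mul, hZ0c]
      rotate_left
      · exact (S.card : ℂ) * q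
      · rw [Finset.sum_congr rfl fun j hj => column_orth φ hM hq (Finset.ne_of_mem_erase hi)
          (Finset.ne_of_mem_erase hj), ← Finset.sum_filter, Finset.sum_const, nsmul_eq_mul, hrelc i hi]
      push_cast
      ring
    exact_mod_cast h
  -- the count of products with `p`-part of order `p`
  set F : G → ℂ := fun g => if p ∣ orderOf g ∧ ppt p g ^ p = 1 then 1 else 0 with hF
  have hord : ∀ i ∈ Z0, orderOf (φ.toFun i) = p := fun i hi => by
    refine orderOf_eq_prime ?_ (ne_one φ (Finset.ne_of_mem_erase hi))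
    rw [← map_natCast_mul, mul_comm, (Finset.mem_filter.1 (Finset.mem_of_mem_erase hi)).2, map_zero]
  have hFe : ∀ g : G, (S.card : ℂ) * F g = ∑ i ∈ Z0, if IsConj (φ.toFun i) (ppt p g) then 1 else 0 := by
    intro g
    obtain ⟨y, hy, hcm, hpow, hreg⟩ := isPPart_ppt hp.out g
    by_cases hg : p ∣ orderOf g ∧ ppt p g ^ p = 1
    · simp only [hF, if_pos hg, mul_one]
      have h1 : ppt p g ≠ 1 := fun h => hreg (by rw [h, one_mul] at hy; rw [hy]; exact hg.1)
      obtain ⟨k, hk⟩ := hpow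
      have hup : IsPGroup p (Subgroup.zpowers (ppt p g)) :=
        IsPGroup.of_card (n := k) (by rw [Nat.card_zpowers, hk])
      obtain ⟨R, hR⟩ := hup.exists_le_sylow
      obtain ⟨c, hc'⟩ := MulAction.exists_smul_eq G R P
      have hmem : c * ppt p g * c⁻¹ ∈ (P : Subgroup G) := by
        rw [← hc', Sylow.coe_subgroup_smul]
        exact ⟨_, hR (Subgroup.mem_zpowers _), rfl⟩
      obtain ⟨j, hj⟩ := φ.surj _ hmem
      have hjc : IsConj (φ.toFun j) (ppt p g) := (isConj_iff.2 ⟨c, hj.symm⟩).symm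
      have hjZ : j ∈ Z0 := by
        refine Finset.mem_erase.2 ⟨fun h => h1 ?_, Finset.mem_filter.2 ⟨Finset.mem_univ _, φ.inj ?_⟩⟩
        · rw [h, map_zero] at hjc
          exact (isConj_one_right.1 hjc)
        · rw [map_zero, mul_comm, map_natCast_mul, hj, conj_pow, hg.2]
          group
      rw [← Finset.sum_filter, Finset.sum_const, nsmul_one, Nat.cast_inj, ← hrelc j hjZ]
      congr 1
      refine Finset.filter_congr fun i _ => ?_
      rw [← isConj_iff_rel φ]
      exact ⟨fun h => h.symm.trans hjc, fun h => hjc.trans h.symm⟩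
    · simp only [hF, if_neg hg, mul_zero]
      symm
      refine Finset.sum_eq_zero fun i hi => if_neg fun h => hg ?_
      obtain ⟨c, hc'⟩ := isConj_iff.1 h
      have ho : orderOf (ppt p g) = p := by
        rw [← hc', ← MulAut.conj_apply, MulEquiv.orderOf_eq, hord i hi]
      refine ⟨?_, (congrArg (ppt p g ^ ·) ho).symm.trans (pow_orderOf_eq_one _)⟩
      rw [← hy, hcm.orderOf_mul_eq_mul_orderOf_of_coprime (by
        rw [ho]; exact hp.out.coprime_iff_not_dvd.2 hreg), ho]
      exact dvd_mul_right p _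
  have hFc : IsClassFunction G F := fun g h => by
    have e1 : orderOf (h * g * h⁻¹) = orderOf g := by rw [← MulAut.conj_apply, MulEquiv.orderOf_eq]
    have e2 : ppt p (h * g * h⁻¹) = h * ppt p g * h⁻¹ := by
      obtain ⟨y, hy, hcm, ⟨k, hk⟩, hreg⟩ := isPPart_ppt hp.out g
      refine ppt_eq hp.out ⟨h * y * h⁻¹, by rw [conj_mul, hy], ?_, ⟨k, ?_⟩, ?_⟩
      · simpa [MulAut.conj_apply] using hcm.map (MulAut.conj h)
      · rw [← hk, ← MulAut.conj_apply, MulEquiv.orderOf_eq]
      · rwa [← MulAut.conj_apply, MulEquiv.orderOf_eq]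
    simp only [hF, e1, e2, conj_pow, mul_inv_eq_one, mul_eq_left]
  have hcoef : ∀ χ : IrrCharacter G, (S.card : ℂ) * (q : ℂ) * classInner F (χ : G → ℂ) =
      if χ ∈ principalBlock M G then ((Y χ : ℤ) : ℂ) else 0 := by
    intro χ
    have e : (S.card : ℂ) * classInner F (χ : G → ℂ) =
        ∑ i ∈ Z0, classInner (fun g : G => if IsConj (φ.toFun i) (ppt p g) then (1 : ℂ) else 0)
          (χ : G → ℂ) := by
      simp only [classInner, ← Finset.mul_sum]
      rw [Finset.sum_comm, mul_left_comm, Finset.mul_sum]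
      congr 1
      refine Finset.sum_congr rfl fun g _ => ?_
      rw [← mul_assoc, hFe, Finset.sum_mul]
    rw [mul_right_comm, e, Finset.sum_mul]
    have e2 : ∀ i ∈ Z0, classInner (fun g : G => if IsConj (φ.toFun i) (ppt p g) then (1 : ℂ) else 0)
        (χ : G → ℂ) * (q : ℂ) = if χ ∈ principalBlock M G then conj ((χ : G → ℂ) (φ.toFun i)) else 0 := by
      intro i hi
      have hi0 := Finset.ne_of_mem_erase hi
      obtain ⟨K, hKn, hK, ⟨k, hk⟩, hKi⟩ := exists_complement φ hq hi0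
      haveI := hKn
      haveI : Fintype (Subgroup.centralizer ({φ.toFun i} : Set G)) := Fintype.ofFinite _
      rw [classInner_section K hM (exists_pow_eq φ hq i) hK hk χ, hKi]
      split_ifs
      · field_simp
      · simp
    rw [Finset.sum_congr rfl e2]
    split_ifs
    · rw [← map_sum, hYsum, map_intCast]
    · simp
  have hcount : ∀ i ∈ Z0, ∀ h : G,
      ∑ j ∈ Z0, F (φ.toFun i * (h * φ.toFun j * h⁻¹)) = ((p - 2 : ℕ) : ℂ) := by
    intro i hi h
    set y := h * φ.toFun (Q : ZMod q) * h⁻¹ with hy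
    have hox := hord i hi
    have hoy : orderOf y = p := by rw [hy, ← MulAut.conj_apply, MulEquiv.orderOf_eq, hord _ hQZ]
    set x := φ.toFun i with hx
    set H := Subgroup.closure ({x, y} : Set G) with hH
    have hxH : x ∈ H := Subgroup.subset_closure (Set.mem_insert _ _)
    have hyH : y ∈ H := Subgroup.subset_closure (Set.mem_insert_of_mem _ rfl)
    have hgen : Subgroup.closure ({⟨x, hxH⟩, ⟨y, hyH⟩} : Set H) = ⊤ := by
      apply Subgroup.map_injective H.subtype_injective
      rw [MonoidHom.map_closure, Set.image_pair, ← MonoidHom.range_eq_map, Subgroup.range_subtype]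
      rfl
    haveI : IsCyclic (P : Subgroup G) := by
      refine ⟨⟨⟨φ.toFun 1, φ.mem 1⟩, fun z => ?_⟩⟩
      obtain ⟨j, hj⟩ := φ.surj z z.2
      refine ⟨(j.val : ℤ), Subtype.ext ?_⟩
      show φ.toFun 1 ^ (j.val : ℤ) = z
      rw [zpow_natCast, ← map_natCast_mul, ZMod.natCast_zmod_val, mul_one, hj]
    have hcycH : ∀ R : Sylow p H, IsCyclic (R : Subgroup H) := fun R => by
      obtain ⟨T, hT⟩ := (R.2.map H.subtype).exists_le_sylow
      obtain ⟨c, hc'⟩ := MulAction.exists_smul_eq G T P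
      haveI : IsCyclic (T : Subgroup G) :=
        isCyclic_of_surjective (Sylow.equiv P T) (Sylow.equiv P T).surjective
      haveI : IsCyclic ((R : Subgroup H).map H.subtype) :=
        isCyclic_of_injective (Subgroup.inclusion hT) (Subgroup.inclusion_injective hT)
      exact isCyclic_of_injective ((R : Subgroup H).equivMapOfInjective H.subtype H.subtype_injective).toMonoidHom
        (MulEquiv.injective _)
    have hPS := hc x y hox hoy
    obtain ⟨⟨t0, ht0, hreg⟩, hexp⟩ := pair_cyclic (x := (⟨x, hxH⟩ : H)) (y := ⟨y, hyH⟩) (p := p)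
      (by rw [Subgroup.orderOf_mk, hox]) (by rw [Subgroup.orderOf_mk, hoy]) hgen hPS hcycH
    have habH : ∀ R : Sylow p H, IsMulCommutative (R : Subgroup H) := fun R => by
      haveI := hcycH R
      exact ⟨⟨fun a b => (IsCyclic.commGroup (α := (R : Subgroup H))).mul_comm a b⟩⟩
    have hF' : ∀ t : ℕ, F (x * y ^ t) = if ¬ p ∣ orderOf (x * y ^ t) then 0 else 1 := by
      intro t
      simp only [hF]
      by_cases hd' : p ∣ orderOf (x * y ^ t)
      · suffices hpp : ppt p (x * y ^ t) ^ p = 1 by rw [if_pos ⟨hd', hpp⟩, if_neg (not_not.2 hd')]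
        have hm : x * y ^ t ∈ H := mul_mem hxH (pow_mem hyH t)
        obtain ⟨w, hw, hcm, hk, hwr⟩ := isPPart_ppt hp.out (⟨x * y ^ t, hm⟩ : H)
        have e : ppt p (x * y ^ t) = ((ppt p (⟨x * y ^ t, hm⟩ : H) : H) : G) :=
          ppt_eq hp.out ⟨(w : G), congrArg Subtype.val hw, congrArg Subtype.val hcm,
            by simpa only [Subgroup.orderOf_coe] using hk, by rwa [Subgroup.orderOf_coe]⟩
        rw [e, ← Subgroup.coe_pow, hexp _ hk, Subgroup.coe_one]
      · rw [if_neg fun hh => hd' hh.1, if_pos hd']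
    have hbij : ∑ j ∈ Z0, F (x * (h * φ.toFun j * h⁻¹)) = ∑ t ∈ Finset.Icc 1 (p - 1), F (x * y ^ t) := by
      symm
      refine Finset.sum_bij (fun t _ => ((t : ℕ) : ZMod q) * (Q : ZMod q)) (fun t ht => ?_)
        (fun t ht t' ht' e => ?_) (fun j hj => ?_) (fun t _ => ?_)
      · have ht' := Finset.mem_Icc.1 ht
        refine Finset.mem_erase.2 ⟨fun h0 => ?_, Finset.mem_filter.2 ⟨Finset.mem_univ _, ?_⟩⟩
        · rw [← Nat.cast_mul, ZMod.natCast_eq_zero_iff] at h0
          have := Nat.le_of_dvd hp.out.pos (dvd_of_eq rfl : p ∣ p)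
          have h5 : p ∣ t := Nat.dvd_of_mul_dvd_mul_right hQ0 ((dvd_of_eq hqQ.symm).trans h0)
          have := Nat.le_of_dvd (by omega) h5
          omega
        · rw [mul_assoc, ← Nat.cast_mul, ← hqQ', ZMod.natCast_self, mul_zero]
      · have h6 := Finset.mem_Icc.1 ht
        have h7 := Finset.mem_Icc.1 ht'
        have e1 := congrArg φ.toFun e
        rw [map_natCast_mul, map_natCast_mul, pow_eq_pow_iff_modEq, hord _ hQZ] at e1
        exact e1.eq_of_lt_of_lt (by omega) (by omega)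
      · obtain ⟨hj0, hjZ⟩ := Finset.mem_erase.1 hj
        have h := (Finset.mem_filter.1 hjZ).2
        rw [← ZMod.natCast_zmod_val j, ← Nat.cast_mul, ZMod.natCast_eq_zero_iff] at h
        obtain ⟨c, hc'⟩ := Nat.dvd_of_mul_dvd_mul_right hp.out.pos ((dvd_of_eq hqQ'.symm).trans h)
        have hlt : Q * c < Q * p := hc' ▸ (ZMod.val_lt j).trans_eq hqQ'
        have hc0 : c ≠ 0 := fun h0 => hj0 (by
          rw [← ZMod.natCast_zmod_val j, hc', h0, mul_zero, Nat.cast_zero])
        refine ⟨c, Finset.mem_Icc.2 ⟨Nat.pos_of_ne_zero hc0, ?_⟩, ?_⟩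
        · have := Nat.lt_of_mul_lt_mul_left hlt
          omega
        · rw [← Nat.cast_mul, mul_comm, ← hc', ZMod.natCast_zmod_val]
      · rw [hy, map_natCast_mul, conj_pow]
    rw [hbij, Finset.sum_congr rfl fun t _ => hF' t, Finset.sum_ite, Finset.sum_const_zero, zero_add,
      Finset.sum_const, nsmul_one, Nat.cast_inj]
    have hone : (Finset.Icc 1 (p - 1)).filter (fun t => ¬ p ∣ orderOf (x * y ^ t)) = {t0} := by
      ext t
      simp only [Finset.mem_filter, Finset.mem_singleton]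
      refine ⟨fun ⟨ht, htr⟩ => ?_, fun ht => ht ▸ ⟨ht0, by rw [← Subgroup.orderOf_coe] at hreg; exact hreg⟩⟩
      have h6 := Finset.mem_Icc.1 ht
      have h7 := Finset.mem_Icc.1 ht0
      refine Nat.ModEq.eq_of_lt_of_lt (OneClass.modEq_of_regular (x := (⟨x, hxH⟩ : H))
        (y := ⟨y, hyH⟩) (p := p) (by rw [Subgroup.orderOf_mk, hox])
        (Subtype.ext (by show y ^ p = 1; rw [← hoy]; exact pow_orderOf_eq_one y)) hgen hPS habH
        (by rw [← Subgroup.orderOf_coe]; exact htr) hreg) (by omega) (by omega)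
    have h8 := Finset.card_filter_add_card_filter_not (s := Finset.Icc 1 (p - 1))
      (p := fun t => ¬ p ∣ orderOf (x * y ^ t))
    rw [hone, Finset.card_singleton, Nat.card_Icc] at h8
    omega
  -- the equation
  have heq : ∑ χ ∈ B, ((Y χ : ℤ) : ℂ) ^ 3 / (d χ : ℂ) =
      (S.card : ℂ) * q * ((p - 1 : ℕ) * (p - 2 : ℕ)) := by
    have h2 : ∀ (χ : IrrCharacter G) (i j : ZMod q),
        ∑ h : G, (χ : G → ℂ) (φ.toFun i * (h * φ.toFun j * h⁻¹)) =
          (Nat.card G : ℂ) * ((χ : G → ℂ) (φ.toFun i) * (χ : G → ℂ) (φ.toFun j) / (χ : G → ℂ) 1) := by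
      intro χ i j
      have h := sum_conj_mul χ.2 (φ.toFun i) (φ.toFun j)
      have hd' := irr_one_ne_zero χ.2
      field_simp
      linear_combination h
    have h3 : ∀ g : G, F g = ∑ χ : IrrCharacter G, classInner F (χ : G → ℂ) * (χ : G → ℂ) g :=
      fun g => by
        conv_lhs => rw [classFun_expansion hFc]
        simp [Finset.sum_apply]
    have hA : ∑ i ∈ Z0, ∑ j ∈ Z0, ∑ h : G, F (φ.toFun i * (h * φ.toFun j * h⁻¹)) =
        ((p - 1 : ℕ) : ℂ) * ((Nat.card G : ℂ) * ((p - 2 : ℕ) : ℂ)) := by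
      rw [Finset.sum_congr rfl fun i hi => ?_, Finset.sum_const, nsmul_eq_mul, hZ0c]
      rw [Finset.sum_comm, Finset.sum_congr rfl fun h _ => hcount i hi h, Finset.sum_const,
        Finset.card_univ, nsmul_eq_mul, ← Nat.card_eq_fintype_card]
    have hB' : ∑ i ∈ Z0, ∑ j ∈ Z0, ∑ h : G, F (φ.toFun i * (h * φ.toFun j * h⁻¹)) =
        ∑ χ : IrrCharacter G, (Nat.card G : ℂ) * classInner F (χ : G → ℂ) *
          (((Y χ : ℤ) : ℂ) ^ 2 / (χ : G → ℂ) 1) := by
      have e : ∀ i j : ZMod q, ∑ h : G, F (φ.toFun i * (h * φ.toFun j * h⁻¹)) =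
          ∑ χ : IrrCharacter G, (Nat.card G : ℂ) * classInner F (χ : G → ℂ) *
            ((χ : G → ℂ) (φ.toFun i) * (χ : G → ℂ) (φ.toFun j) / (χ : G → ℂ) 1) := by
        intro i j
        rw [Finset.sum_congr rfl fun h _ => h3 _, Finset.sum_comm]
        refine Finset.sum_congr rfl fun χ _ => ?_
        rw [← Finset.mul_sum, h2]
        ring
      simp only [e]
      rw [Finset.sum_congr rfl fun i _ => Finset.sum_comm, Finset.sum_comm]
      refine Finset.sum_congr rfl fun χ _ => ?_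
      simp only [← Finset.mul_sum, ← Finset.sum_div, hYsum, ← Finset.sum_mul, sq]
    rw [hA] at hB'
    have hG0 : (Nat.card G : ℂ) ≠ 0 := Nat.cast_ne_zero.2 Nat.card_pos.ne'
    apply mul_left_cancel₀ hG0
    calc (Nat.card G : ℂ) * ∑ χ ∈ B, ((Y χ : ℤ) : ℂ) ^ 3 / (d χ : ℂ)
        = (S.card : ℂ) * q * ∑ χ : IrrCharacter G, (Nat.card G : ℂ) * classInner F (χ : G → ℂ) *
            (((Y χ : ℤ) : ℂ) ^ 2 / (χ : G → ℂ) 1) := by
          rw [Finset.mul_sum, Finset.mul_sum, hB, Finset.sum_filter]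
          refine Finset.sum_congr rfl fun χ _ => ?_
          rw [show (S.card : ℂ) * q * ((Nat.card G : ℂ) * classInner F (χ : G → ℂ) *
              (((Y χ : ℤ) : ℂ) ^ 2 / (χ : G → ℂ) 1)) = (Nat.card G : ℂ) *
              ((S.card : ℂ) * q * classInner F (χ : G → ℂ)) * (((Y χ : ℤ) : ℂ) ^ 2 / (χ : G → ℂ) 1) by ring,
            hcoef χ, hd]
          split_ifs
          · ring
          · simp
      _ = _ := by rw [← hB']; ring
  have heqR : ∑ χ ∈ B, ((Y χ : ℤ) : ℝ) ^ 3 / (d χ : ℝ) =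
      (S.card : ℝ) * q * (((p - 1 : ℕ) : ℝ) * ((p - 2 : ℕ) : ℝ)) := by
    apply Complex.ofReal_injective
    push_cast
    exact heq
  -- the bound
  have hYe : Y e0 = (p : ℤ) - 1 := by
    simp only [hY, hne0, hde, Finset.sum_ite_eq']
    have h0L : (0 : ZMod q) ∈ L := Finset.mem_filter.2 ⟨Finset.mem_univ _, zero_mul _⟩
    rw [if_pos h0L]
    simp
  have hbound : ∀ χ ∈ B.erase e0, ((Y χ : ℤ) : ℝ) ^ 3 / (d χ : ℝ) ≤
      ((Y χ : ℤ) : ℝ) ^ 2 * (((p : ℝ) - 2) / 2) := by
    intro χ hχ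
    obtain ⟨hne, hχB⟩ := Finset.mem_erase.1 hχ
    have hhalf : 2 * (∑ k ∈ L, (n χ k : ℤ)) ≤ (d χ : ℤ) := by
      rw [← hsumn χ]
      refine hdata.fixed_le_half hp3 hqQ ?_ hSp hLc
        (Finset.mem_filter.2 ⟨Finset.mem_univ _, zero_mul _⟩) (fun k hk s _ => ?_) hχB hne ?_
      · rcases Nat.eq_zero_or_pos (a - 1) with h | h
        · left; rw [hQ, h, pow_zero]
        · right; exact Nat.le_self_pow h.ne' p
      · exact Finset.mem_filter.2 ⟨Finset.mem_univ _, by
          rw [mul_assoc, (Finset.mem_filter.1 hk).2, mul_zero]⟩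
      · by_contra hall
        simp only [not_exists, not_and, not_not] at hall
        have hinvn : (q : ℂ) * (χ : G → ℂ) (φ.toFun (Q : ZMod q)) = (q : ℂ) * d χ := by
          have e1 : (q : ℂ) * (χ : G → ℂ) (φ.toFun (Q : ZMod q)) =
              ∑ k : ZMod q, ((q : ℂ) * n χ k) * ZMod.stdAddChar (k * (Q : ZMod q)) := by
            simp only [← hn, Finset.sum_mul]
            rw [Finset.sum_comm, Finset.sum_eq_single (Q : ZMod q)]
            · rw [Finset.sum_congr rfl fun k _ => by rw [mul_assoc, ← AddChar.map_add_eq_mul,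
                neg_add_cancel, hψ0, mul_one], Finset.sum_const, Finset.card_univ, ZMod.card, nsmul_eq_mul]
            · intro i _ hi
              rw [Finset.sum_congr rfl fun k _ => by rw [mul_assoc, ← AddChar.map_add_eq_mul,
                show -(k * i) + k * (Q : ZMod q) = k * ((Q : ZMod q) - i) by ring], ← Finset.mul_sum,
                sum_shift, if_neg (sub_ne_zero.2 hi.symm), mul_zero]
            · exact fun h => absurd (Finset.mem_univ _) h
          rw [e1]
          have e2 : ∀ k : ZMod q, ((q : ℂ) * n χ k) * ZMod.stdAddChar (k * (Q : ZMod q)) =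
              (q : ℂ) * n χ k := fun k => by
            by_cases hk : k ∈ L
            · rw [(Finset.mem_filter.1 hk).2, hψ0, mul_one]
            · have := hall k hk
              simp only [Nat.cast_eq_zero] at this
              rw [this, Nat.cast_zero, mul_zero, zero_mul]
          rw [Finset.sum_congr rfl fun k _ => e2 k, ← Finset.mul_sum]
          congr 1
          have h := hsumn χ
          exact_mod_cast h
        refine hne (Cfsg.Agent.S1951.eq_trivial_of_value χ (ne_one φ (Finset.ne_of_mem_erase hQZ)) ?_)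
        rw [mul_left_cancel₀ hqC hinvn, hd]
    have hY2 : 2 * Y χ ≤ ((p : ℤ) - 2) * d χ := by
      simp only [hY]
      nlinarith
    have hY2R : 2 * ((Y χ : ℤ) : ℝ) ≤ ((p : ℝ) - 2) * d χ := by exact_mod_cast hY2
    have hdpos : (0 : ℝ) < d χ := by exact_mod_cast hdata.degree χ hχB
    rw [div_le_iff₀ hdpos]
    nlinarith [mul_le_mul_of_nonneg_left hY2R (sq_nonneg ((Y χ : ℤ) : ℝ))]
  have h1 := Finset.sum_le_sum hbound
  rw [← Finset.sum_mul] at h1
  rw [← Finset.add_sum_erase _ _ hdata.mem_triv, hYe, hde] at heqR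
  rw [← Finset.add_sum_erase _ _ hdata.mem_triv, hYe] at hYsq
  have hYsqR : ((p : ℝ) - 1) ^ 2 + ∑ χ ∈ B.erase e0, ((Y χ : ℤ) : ℝ) ^ 2 =
      ((p : ℝ) - 1) * S.card * q := by
    have h := congrArg (fun z : ℤ => (z : ℝ)) hYsq
    push_cast [Nat.cast_sub hp.out.one_le] at h
    exact h
  rw [Nat.cast_sub hp.out.one_le, Nat.cast_sub hp.out.two_le] at heqR
  push_cast at heqR
  have hS2 : (2 : ℝ) ≤ S.card := by exact_mod_cast hdata.two_le
  have hkey : (p : ℝ) * ((p : ℝ) - 1) < (S.card : ℝ) * q * ((p : ℝ) - 2) := by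
    have hpR : (3 : ℝ) ≤ p := by exact_mod_cast hp3
    by_cases h5 : 5 ≤ p
    · have h5R : (5 : ℝ) ≤ p := by exact_mod_cast h5
      have hqp : (p : ℝ) ≤ q := by
        rw [hqQ]; exact_mod_cast Nat.le_mul_of_pos_right p hQ0
      have h2p : 2 * (p : ℝ) ≤ (S.card : ℝ) * q := mul_le_mul hS2 hqp (by linarith) (by linarith)
      nlinarith [mul_le_mul_of_nonneg_right h2p (show (0 : ℝ) ≤ (p : ℝ) - 2 by linarith)]
    · obtain rfl : p = 3 := by
        rcases (show p = 3 ∨ p = 4 by omega) with h | h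
        · exact h
        · exfalso; have := hp.out; rw [h] at this; exact absurd this (by norm_num)
      have hq9 : (9 : ℝ) ≤ q := by
        have h2a : 2 ≤ a := by
          by_contra h
          exact hq3 (by rw [hq, show a = 1 by omega, pow_one])
        have : 3 ^ 2 ≤ q := hq ▸ Nat.pow_le_pow_right (by norm_num) h2a
        exact_mod_cast this
      push_cast
      nlinarith
  have hp1 : (0 : ℝ) < (p : ℝ) - 1 := by
    have : (3 : ℝ) ≤ p := by exact_mod_cast hp3
    linarith
  nlinarith [mul_lt_mul_of_pos_left hkey hp1]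

end Cfsg.Agent.Char.CyclicPairs
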