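import Cfsg.Agent.Lib.Char.CyclicPairsBasic
import Cfsg.Agent.Lib.Char.CyclicMultiplicities
import Cfsg.Agent.Lib.Fusion.NPC

/-!
# A cyclic Sylow subgroup as the image of `ZMod q`

The multipliers of the normalizer, their action on the exponents, and the orbit relation.
-/

set_option autoImplicit false
set_option linter.unusedSectionVars false
set_option linter.style.haveILetI false

namespace Cfsg.Agent.Char.CyclicPairs

open Cfsg
open scoped ComplexConjugate

universe u

variable {G : Type u} [Group G] [Fintype G] {p : ℕ} [hp : Fact p.Prime]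

/-- A parametrisation of a cyclic Sylow subgroup by its exponents. -/
structure Param (P : Sylow p G) (q : ℕ) where
  toFun : ZMod q → G
  map_add : ∀ i j, toFun (i + j) = toFun i * toFun j
  inj : Function.Injective toFun
  mem : ∀ i, toFun i ∈ (P : Subgroup G)
  surj : ∀ x ∈ (P : Subgroup G), ∃ i, toFun i = x
  card : Nat.card (P : Subgroup G) = q

theorem exists_param (P : Sylow p G) [IsCyclic (P : Subgroup G)] :
    Nonempty (Param P (Nat.card (P : Subgroup G))) := by
  let e := zmodCyclicMulEquiv (G := (P : Subgroup G)) inferInstance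
  exact ⟨⟨fun i => (e (Multiplicative.ofAdd i) : G), fun i j => by rw [ofAdd_add, map_mul]; rfl,
    fun i j h => Multiplicative.ofAdd.injective (e.injective (Subtype.ext h)),
    fun i => (e _).2,
    fun x hx => ⟨Multiplicative.toAdd (e.symm ⟨x, hx⟩), by simp⟩, rfl⟩⟩

variable {P : Sylow p G} {q : ℕ} (φ : Param P q)

theorem map_zero : φ.toFun 0 = 1 := by
  have h := φ.map_add 0 0
  rw [add_zero] at h
  exact left_eq_mul.1 h

theorem map_natCast_mul (t : ℕ) (i : ZMod q) : φ.toFun ((t : ZMod q) * i) = φ.toFun i ^ t := by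
  induction t with
  | zero => rw [Nat.cast_zero, zero_mul, map_zero, pow_zero]
  | succ t ih => rw [Nat.cast_succ, add_mul, one_mul, φ.map_add, ih, pow_succ]

theorem map_neg (i : ZMod q) : φ.toFun (-i) = (φ.toFun i)⁻¹ := by
  refine eq_inv_of_mul_eq_one_left ?_
  rw [← φ.map_add, neg_add_cancel, map_zero]

variable [NeZero q]

open scoped Classical in
/-- The multipliers by which the normalizer of `P` acts. -/
noncomputable def mult : Finset (ZMod q) :=
  Finset.univ.filter fun s => ∃ n ∈ Subgroup.normalizer ((P : Subgroup G) : Set G),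
    n * φ.toFun 1 * n⁻¹ = φ.toFun s

theorem conj_apply {n : G} {s : ZMod q} (hn : n * φ.toFun 1 * n⁻¹ = φ.toFun s) (i : ZMod q) :
    n * φ.toFun i * n⁻¹ = φ.toFun (s * i) := by
  have h1 : φ.toFun i = φ.toFun 1 ^ i.val := by
    rw [← map_natCast_mul, ZMod.natCast_zmod_val, mul_one]
  rw [h1, ← conj_pow, hn, ← map_natCast_mul, ZMod.natCast_zmod_val, mul_comm]

theorem mem_mult {s : ZMod q} : s ∈ mult φ ↔
    ∃ n ∈ Subgroup.normalizer ((P : Subgroup G) : Set G), n * φ.toFun 1 * n⁻¹ = φ.toFun s := by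
  classical
  rw [mult, Finset.mem_filter]
  exact ⟨fun h => h.2, fun h => ⟨Finset.mem_univ _, h⟩⟩

theorem exists_mult {n : G} (hn : n ∈ Subgroup.normalizer ((P : Subgroup G) : Set G)) :
    ∃ s ∈ mult φ, n * φ.toFun 1 * n⁻¹ = φ.toFun s := by
  obtain ⟨s, hs⟩ := φ.surj _ ((Subgroup.mem_normalizer_iff.1 hn _).1 (φ.mem 1))
  exact ⟨s, (mem_mult φ).2 ⟨n, hn, hs.symm⟩, hs.symm⟩

theorem one_mem_mult : (1 : ZMod q) ∈ mult φ :=
  (mem_mult φ).2 ⟨1, one_mem _, by simp⟩

theorem mul_mem_mult {s t : ZMod q} (hs : s ∈ mult φ) (ht : t ∈ mult φ) : s * t ∈ mult φ := by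
  obtain ⟨n, hn, hns⟩ := (mem_mult φ).1 hs
  obtain ⟨m, hm, hmt⟩ := (mem_mult φ).1 ht
  refine (mem_mult φ).2 ⟨n * m, mul_mem hn hm, ?_⟩
  rw [← conj_apply φ hns t, ← hmt]
  group

theorem exists_inv {s : ZMod q} (hs : s ∈ mult φ) : ∃ t ∈ mult φ, t * s = 1 := by
  obtain ⟨n, hn, hns⟩ := (mem_mult φ).1 hs
  obtain ⟨t, ht, hnt⟩ := exists_mult φ (inv_mem hn)
  refine ⟨t, ht, φ.inj ?_⟩
  rw [← conj_apply φ hnt s, ← hns]
  group

theorem rel_symm {k l : ZMod q} (h : Rel (mult φ) k l) : Rel (mult φ) l k := by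
  obtain ⟨s, hs, rfl⟩ := h
  obtain ⟨t, ht, hts⟩ := exists_inv φ hs
  exact ⟨t, ht, by rw [← mul_assoc, hts, one_mul]⟩

theorem rel_trans {k l m : ZMod q} (h1 : Rel (mult φ) k l) (h2 : Rel (mult φ) l m) :
    Rel (mult φ) k m := by
  obtain ⟨s, hs, rfl⟩ := h1
  obtain ⟨t, ht, rfl⟩ := h2
  exact ⟨t * s, mul_mem_mult φ ht hs, (mul_assoc _ _ _).symm⟩

/-- Fusion inside `P` is the orbit relation. -/
theorem isConj_iff_rel (i j : ZMod q) :
    IsConj (φ.toFun i) (φ.toFun j) ↔ Rel (mult φ) i j := by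
  constructor
  · intro h
    obtain ⟨c, hc⟩ := isConj_iff.1 h
    haveI : IsMulCommutative (P : Subgroup G) := ⟨⟨fun a b => by
      obtain ⟨i', hi'⟩ := φ.surj a a.2
      obtain ⟨j', hj'⟩ := φ.surj b b.2
      exact Subtype.ext (by
        show (a : G) * b = b * a
        rw [← hi', ← hj', ← φ.map_add, ← φ.map_add, add_comm])⟩⟩
    obtain ⟨n, hn, hn'⟩ := P.conj_eq_normalizer_conj_of_mem (φ.toFun i) c⁻¹ (φ.mem i) (by
      rw [inv_inv, hc]; exact φ.mem j)
    rw [inv_inv, hc] at hn'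
    obtain ⟨s, hs, hns⟩ := exists_mult φ (inv_mem hn)
    refine ⟨s, hs, φ.inj ?_⟩
    rw [← conj_apply φ hns i, hn', inv_inv]
  · rintro ⟨s, hs, rfl⟩
    obtain ⟨n, -, hns⟩ := (mem_mult φ).1 hs
    exact isConj_iff.2 ⟨n, conj_apply φ hns i⟩

/-- A multiplier is realised by an element of order prime to `p`. -/
theorem exists_coprime {s : ZMod q} (hs : s ∈ mult φ) :
    ∃ n ∈ Subgroup.normalizer ((P : Subgroup G) : Set G),
      n * φ.toFun 1 * n⁻¹ = φ.toFun s ∧ ¬ p ∣ orderOf n := by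
  obtain ⟨n, hn, hns⟩ := (mem_mult φ).1 hs
  obtain ⟨a, ha⟩ := exists_isPPart hp.out n
  obtain ⟨b, hab, hcm, ⟨k, hk⟩, hb⟩ := ha
  have hin : a ∈ Subgroup.zpowers n ∧ b ∈ Subgroup.zpowers n := by
    have hcop : (orderOf a).Coprime (orderOf b) := by
      rw [hk]; exact Nat.Coprime.pow_left k (hp.out.coprime_iff_not_dvd.2 hb)
    obtain ⟨u, v, huv⟩ := Int.isCoprime_iff_gcd_eq_one.2 (by simpa using hcop :
      Int.gcd (orderOf a : ℤ) (orderOf b : ℤ) = 1)
    have ea : n ^ (v * (orderOf b : ℤ)) = a := by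
      rw [← hab, hcm.mul_zpow, mul_comm v, zpow_mul b, zpow_natCast, pow_orderOf_eq_one, one_zpow, mul_one,
        show (orderOf b : ℤ) * v = 1 - u * (orderOf a : ℤ) by linarith, zpow_sub, zpow_one, mul_comm u,
        zpow_mul, zpow_natCast, pow_orderOf_eq_one, one_zpow, inv_one, mul_one]
    refine ⟨⟨_, ea⟩, ?_⟩
    rw [show b = a⁻¹ * n by rw [← hab]; group]
    exact mul_mem (inv_mem ⟨_, ea⟩) (Subgroup.mem_zpowers n)
  have hzn : Subgroup.zpowers n ≤ Subgroup.normalizer ((P : Subgroup G) : Set G) :=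
    Subgroup.zpowers_le.2 hn
  have haP : a ∈ (P : Subgroup G) := by
    have hap : IsPGroup p (Subgroup.zpowers a) := IsPGroup.of_card (n := k) (by rw [Nat.card_zpowers, hk])
    have hsup := hap.to_sup_of_normal_right' P.2 (Subgroup.zpowers_le.2 (hzn hin.1))
    rw [← P.is_maximal' hsup le_sup_right]
    exact Subgroup.mem_sup_left (Subgroup.mem_zpowers a)
  refine ⟨b, hzn hin.2, ?_, hb⟩
  obtain ⟨i, hi⟩ := φ.surj a haP
  rw [← hns, show n = b * a by rw [← hab]; exact hcm.eq, ← hi,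
    show b * φ.toFun i * φ.toFun 1 * (b * φ.toFun i)⁻¹ =
      b * (φ.toFun i * φ.toFun 1 * (φ.toFun i)⁻¹) * b⁻¹ by group, ← φ.map_add, ← map_neg, ← φ.map_add]
  congr 3
  ring

variable {a : ℕ} (hq : q = p ^ a)

theorem isNilpotent_of_mul_eq_zero {r i : ZMod q} (hq : q = p ^ a) (hi : i ≠ 0) (h : r * i = 0) :
    IsNilpotent r := by
  have hpd : p ∣ r.val := by
    by_contra hnd
    have hu : IsUnit (r.val : ZMod q) := (ZMod.isUnit_iff_coprime _ _).2
      ((Nat.Coprime.pow_right a ((hp.out.coprime_iff_not_dvd.2 hnd).symm)).coprime_dvd_right (dvd_of_eq hq))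
    rw [ZMod.natCast_zmod_val] at hu
    exact hi (hu.mul_right_eq_zero.1 h)
  obtain ⟨c, hc⟩ := hpd
  refine ⟨a, ?_⟩
  rw [← ZMod.natCast_zmod_val r, hc, Nat.cast_mul, mul_pow, ← Nat.cast_pow, ← hq,
    ZMod.natCast_self, zero_mul]

/-- Only the identity multiplier fixes a nonzero exponent. -/
theorem eq_one_of_fix (hq : q = p ^ a) {s i : ZMod q} (hs : s ∈ mult φ) (hi : i ≠ 0) (h : s * i = i) :
    s = 1 := by
  obtain ⟨n, -, hns, hno⟩ := exists_coprime φ hs
  have hpow : ∀ o : ℕ, n ^ o * φ.toFun 1 * (n ^ o)⁻¹ = φ.toFun (s ^ o) := by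
    intro o
    induction o with
    | zero => simp
    | succ o ih =>
      rw [pow_succ' s o, ← conj_apply φ hns (s ^ o), ← ih, pow_succ' n o]
      group
  have ho : s ^ orderOf n = 1 := by
    refine φ.inj ?_
    rw [← hpow, pow_orderOf_eq_one]
    group
  have hnil : IsNilpotent (s - 1) :=
    isNilpotent_of_mul_eq_zero hq hi (by rw [sub_mul, one_mul, h, sub_self])
  have hsum : IsUnit (∑ j ∈ Finset.range (orderOf n), s ^ j) := by
    have e : ∑ j ∈ Finset.range (orderOf n), s ^ j =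
        (orderOf n : ZMod q) + (s - 1) * ∑ j ∈ Finset.range (orderOf n), ∑ l ∈ Finset.range j, s ^ l := by
      rw [Finset.mul_sum]
      simp only [mul_geom_sum, Finset.sum_sub_distrib, Finset.sum_const, Finset.card_range, nsmul_eq_mul,
        mul_one]
      ring
    rw [e]
    refine IsNilpotent.isUnit_add_left_of_commute ?_ ?_ (Commute.all _ _)
    · exact (Commute.all _ _).isNilpotent_mul_right hnil
    · exact (ZMod.isUnit_iff_coprime _ _).2 (by
        rw [hq]; exact Nat.Coprime.pow_right _ ((hp.out.coprime_iff_not_dvd.2 hno).symm))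
  have h0 : (∑ j ∈ Finset.range (orderOf n), s ^ j) * (s - 1) = 0 := by rw [geom_sum_mul, ho, sub_self]
  exact sub_eq_zero.1 (hsum.mul_right_eq_zero.1 h0)

theorem mult_inj (hq : q = p ^ a) {k : ZMod q} (hk : k ≠ 0) {s t : ZMod q} (hs : s ∈ mult φ)
    (ht : t ∈ mult φ) (h : s * k = t * k) : s = t := by
  obtain ⟨t', ht', htt⟩ := exists_inv φ ht
  have h1 := eq_one_of_fix φ hq (mul_mem_mult φ ht' hs) hk (by rw [mul_assoc, h, ← mul_assoc, htt, one_mul])
  calc s = (t * t') * s := by rw [mul_comm t t', htt, one_mul]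
    _ = t := by rw [mul_assoc, h1, mul_one]

theorem mult_ne_zero (hq1 : 1 < q) {s k : ZMod q} (hs : s ∈ mult φ) (hk : k ≠ 0) : s * k ≠ 0 := fun h => by
  obtain ⟨t, -, hts⟩ := exists_inv φ hs
  exact hk (by rw [← one_mul k, ← hts, mul_assoc, h, mul_zero])

/-- Centralizers of nontrivial elements of `P` have normal `p`-complements. -/
theorem hnpc_centralizer (hq : q = p ^ a) {i : ZMod q} (hi : i ≠ 0) :
    HasNormalPComplement p (Subgroup.centralizer ({φ.toFun i} : Set G)) := by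
  set C := Subgroup.centralizer ({φ.toFun i} : Set G) with hC
  have hPC : (P : Subgroup G) ≤ C := fun y hy => by
    obtain ⟨j, rfl⟩ := φ.surj y hy
    refine Subgroup.mem_centralizer_singleton_iff.2 ?_
    rw [← φ.map_add, ← φ.map_add, add_comm]
  refine Fusion.hnpc_of_normalizer_le_centralizer (P.subtype hPC) fun n hn => ?_
  have hn' : (n : G) ∈ Subgroup.normalizer ((P : Subgroup G) : Set G) := by
    refine Subgroup.mem_normalizer_iff.2 fun y => ⟨fun hy => ?_, fun hy => ?_⟩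
    · exact (Subgroup.mem_normalizer_iff.1 hn ⟨y, hPC hy⟩).1 hy
    · have hyC : y ∈ C := by
        rw [show y = (n : G)⁻¹ * ((n : G) * y * (n : G)⁻¹) * n by group]
        exact mul_mem (mul_mem (inv_mem n.2) (hPC hy)) n.2
      exact (Subgroup.mem_normalizer_iff.1 hn ⟨y, hyC⟩).2 hy
  obtain ⟨s, hs, hns⟩ := exists_mult φ hn'
  have hfix : n * φ.toFun i * (n : G)⁻¹ = φ.toFun i :=
    mul_inv_eq_iff_eq_mul.2 (Subgroup.mem_centralizer_singleton_iff.1 n.2)
  rw [conj_apply φ hns] at hfix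
  have hs1 := eq_one_of_fix φ hq hs hi (φ.inj hfix)
  refine Subgroup.mem_centralizer_iff.2 fun y hy => Subtype.ext ?_
  obtain ⟨j, hj⟩ := φ.surj y hy
  have h := conj_apply φ hns j
  rw [hs1, one_mul, hj] at h
  exact (mul_inv_eq_iff_eq_mul.1 h).symm

/-- In a non-`p`-nilpotent group the normalizer acts nontrivially. -/
theorem two_le_card_mult (hnp : ¬ HasNormalPComplement p G) : 2 ≤ (mult φ).card := by
  by_contra hlt
  have hone : ∀ s ∈ mult φ, s = 1 := fun s hs =>
    Finset.card_le_one.1 (by omega) s hs 1 (one_mem_mult φ)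
  refine hnp (Fusion.hnpc_of_normalizer_le_centralizer P fun n hn => ?_)
  obtain ⟨s, hs, hns⟩ := exists_mult φ hn
  refine Subgroup.mem_centralizer_iff.2 fun y hy => ?_
  obtain ⟨j, hj⟩ := φ.surj y hy
  have h := conj_apply φ hns j
  rw [hone s hs, one_mul, hj] at h
  exact (mul_inv_eq_iff_eq_mul.1 h).symm

/-- The multiples killed by a divisor. -/
theorem card_killed {A B : ℕ} (h : q = A * B) :
    (Finset.univ.filter fun k : ZMod q => k * (B : ZMod q) = 0).card = B := by
  have hq0 : 0 < q := Nat.pos_of_ne_zero (NeZero.ne q)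
  have hA : 0 < A := Nat.pos_of_mul_pos_right (h ▸ hq0)
  have hB : 0 < B := Nat.pos_of_mul_pos_left (h ▸ hq0)
  have e : (Finset.univ.filter fun k : ZMod q => k * (B : ZMod q) = 0) =
      (Finset.range B).image fun t => ((A * t : ℕ) : ZMod q) := by
    ext k
    simp only [Finset.mem_filter, Finset.mem_univ, true_and, Finset.mem_image, Finset.mem_range]
    constructor
    · intro hk
      rw [← ZMod.natCast_zmod_val k, ← Nat.cast_mul, ZMod.natCast_eq_zero_iff] at hk
      obtain ⟨c, hc⟩ := Nat.dvd_of_mul_dvd_mul_right hB ((dvd_of_eq h.symm).trans hk)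
      refine ⟨c, ?_, by rw [← hc, ZMod.natCast_zmod_val]⟩
      have hlt : k.val < A * B := (ZMod.val_lt k).trans_eq h
      rw [hc] at hlt
      exact Nat.lt_of_mul_lt_mul_left hlt
    · rintro ⟨t, -, rfl⟩
      rw [← Nat.cast_mul, ZMod.natCast_eq_zero_iff, h]
      exact ⟨t, by ring⟩
  rw [e, Finset.card_image_of_injOn, Finset.card_range]
  intro s hs t ht hst
  have hs' := Finset.mem_range.1 (Finset.mem_coe.1 hs)
  have ht' := Finset.mem_range.1 (Finset.mem_coe.1 ht)
  have h1 := congrArg ZMod.val hst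
  simp only at h1
  rw [ZMod.val_natCast, ZMod.val_natCast,
    Nat.mod_eq_of_lt (lt_of_lt_of_eq ((Nat.mul_lt_mul_left hA).2 hs') h.symm),
    Nat.mod_eq_of_lt (lt_of_lt_of_eq ((Nat.mul_lt_mul_left hA).2 ht') h.symm)] at h1
  exact Nat.eq_of_mul_eq_mul_left hA h1

end Cfsg.Agent.Char.CyclicPairs
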