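import Cfsg.Agent.Lib.Char.CyclicStructure
import Cfsg.Agent.Lib.Char.CyclicColumns

/-!
# The two halves of a block with a cyclic defect group

Exceptional and other characters with their signs, the common columns at singular elements as combinations of
orbit sums of linear characters of the defect group, and the pairing of columns with those orbit sums.
-/

set_option autoImplicit false
set_option linter.unusedSectionVars false
set_option linter.style.haveILetI false

namespace Cfsg.Agent.Char.CyclicSides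

open Cfsg StarVectors LocalSpan

universe u v

section Aut

/-- Subgroups of the automorphisms of a cyclic `p`-group of equal order dividing `p - 1` are equal. -/
theorem aut_unique {A : Type u} [Group A] [Finite A] [IsCyclic A] {p a : ℕ} (hp : p.Prime)
    (hA : Nat.card A = p ^ a) {E E' : Subgroup (MulAut A)} (hE : Nat.card E ∣ p - 1)
    (h : Nat.card E' = Nat.card E) : E' = E := by
  classical
  by_cases hp2 : p = 2
  · have h1 : Nat.card E = 1 := Nat.dvd_one.mp (by simpa [hp2] using hE)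
    rw [Subgroup.card_eq_one.mp h1, Subgroup.card_eq_one.mp (h.trans h1)]
  haveI hcyc : IsCyclic (MulAut A) := by
    haveI : IsCyclic (ZMod (Nat.card A))ˣ := by rw [hA]; exact ZMod.isCyclic_units_of_prime_pow p hp hp2 a
    exact (IsCyclic.mulAutMulEquiv A).isCyclic.mpr inferInstance
  haveI := Fintype.ofFinite (MulAut A)
  set S := Finset.univ.filter fun x : MulAut A => x ^ Nat.card E = 1 with hS
  have key : ∀ F : Subgroup (MulAut A), Nat.card F = Nat.card E → (F : Set (MulAut A)) = (S : Set (MulAut A)) := by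
    intro F hF
    have hsub : (F : Set (MulAut A)).toFinset ⊆ S := fun x hx => Finset.mem_filter.mpr ⟨Finset.mem_univ _, by
      have h1 : (⟨x, Set.mem_toFinset.mp hx⟩ : F) ^ Nat.card F = 1 := pow_card_eq_one'
      rw [hF] at h1
      exact congrArg Subtype.val h1⟩
    have hle : S.card ≤ (F : Set (MulAut A)).toFinset.card := by
      rw [Set.toFinset_card, ← Nat.card_eq_fintype_card, SetLike.coe_sort_coe, hF]
      exact IsCyclic.card_pow_eq_one_le Nat.card_pos
    rw [← Finset.eq_of_subset_of_card_le hsub hle, Set.coe_toFinset]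
  exact SetLike.coe_injective ((key E' h).trans (key E rfl).symm)

variable {A₁ : Type u} [Group A₁] {A₂ : Type v} [Group A₂] (φ : A₂ ≃* A₁) (E : Subgroup (MulAut A₁))

/-- The automorphisms carried along an isomorphism. -/
noncomputable def pullAut : Subgroup (MulAut A₂) := E.map (MulAut.congr φ.symm).toMonoidHom

theorem card_pullAut : Nat.card (pullAut φ E) = Nat.card E :=
  Subgroup.card_map_of_injective (MulEquiv.injective _)

/-- The bijection between the two groups of automorphisms. -/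
noncomputable def pullEquiv : E ≃ pullAut φ E :=
  (Subgroup.equivMapOfInjective E _ (MulAut.congr φ.symm).injective).toEquiv

theorem pullEquiv_apply (σ : E) (z : A₂) :
    φ ((pullEquiv φ E σ : MulAut A₂) z) = (σ : MulAut A₁) (φ z) := by
  show φ ((MulAut.congr φ.symm (σ : MulAut A₁)) z) = _
  simp [MulAut.congr]

theorem isReps_pull [Finite A₁] [Fintype E] [Fintype (pullAut φ E)] {m : ℕ} {R : ℕ → (A₁ →* ℂˣ)}
    (hR : IsReps E m R) : IsReps (pullAut φ E) m fun i => (R i).comp φ.toMonoidHom := by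
  obtain ⟨h1, h2, h3, h4, h5⟩ := hR
  refine ⟨h1, by rw [card_pullAut, Nat.card_congr φ.toEquiv]; exact h2, fun i hi h => h3 i hi ?_,
    fun i hi j hj σ => ?_, fun μ hμ => ?_⟩
  · refine MonoidHom.ext fun z => ?_
    have := DFunLike.congr_fun h (φ.symm z)
    simpa using this
  · obtain ⟨τ, rfl⟩ := (pullEquiv φ E).surjective σ
    rw [show pullEquiv φ E τ = 1 ↔ τ = 1 from ?_, ← h4 i hi j hj τ]
    · constructor
      · intro h
        refine MonoidHom.ext fun z => ?_
        have := DFunLike.congr_fun h (φ.symm z)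
        simpa [pullEquiv_apply] using this
      · intro h
        refine MonoidHom.ext fun z => ?_
        have := DFunLike.congr_fun h (φ z)
        simpa [pullEquiv_apply] using this
    · have h0 : ((pullEquiv φ E τ : pullAut φ E) : MulAut A₂) = MulAut.congr φ.symm (τ : MulAut A₁) := rfl
      rw [← Subtype.coe_inj, h0, OneMemClass.coe_one, MulEquiv.map_eq_one_iff, OneMemClass.coe_eq_one]
  · have hμ' : μ.comp φ.symm.toMonoidHom ≠ 1 := fun h => hμ (MonoidHom.ext fun z => by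
      have := DFunLike.congr_fun h (φ z)
      simpa using this)
    obtain ⟨i, hi, σ, hσ⟩ := h5 _ hμ'
    refine ⟨i, hi, pullEquiv φ E σ, MonoidHom.ext fun z => ?_⟩
    have := DFunLike.congr_fun hσ (φ z)
    simpa [pullEquiv_apply] using this

end Aut

section Psi

variable {A : Type u} [Group A] [Fintype A] (E : Subgroup (MulAut A)) [Fintype E]

/-- The orbit sum of the representative. -/
noncomputable def psi {m : ℕ} (R : ℕ → (A →* ℂˣ)) (i : Fin m) (z : A) : ℂ :=
  ∑ σ : E, ((R i ((σ : MulAut A) z) : ℂˣ) : ℂ)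

theorem psi_sum (hcomm : ∀ y z : A, y * z = z * y) {m : ℕ} {R : ℕ → (A →* ℂˣ)} (hR : IsReps E m R)
    {z : A} (hz : z ≠ 1) : ∑ i : Fin m, psi E R i z = -1 := by
  classical
  obtain ⟨-, -, hR1, hRij, hRall⟩ := hR
  haveI := finite_hom_units A
  letI := Fintype.ofFinite (A →* ℂˣ)
  have h := sum_hom_apply hcomm z
  rw [if_neg hz, ← Finset.add_sum_erase _ _ (Finset.mem_univ (1 : A →* ℂˣ))] at h
  simp only [MonoidHom.one_apply, Units.val_one] at h
  refine Eq.trans ?_ (eq_neg_of_add_eq_zero_right h)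
  simp only [psi]
  rw [← Finset.sum_product']
  refine Finset.sum_bij (fun iσ _ => (R iσ.1).comp (iσ.2 : MulAut A).toMonoidHom) (fun iσ _ => ?_) ?_ ?_
    fun iσ _ => rfl
  · refine Finset.mem_erase.mpr ⟨fun h => hR1 iσ.1 iσ.1.2 (MonoidHom.ext fun w => ?_), Finset.mem_univ _⟩
    have := DFunLike.congr_fun h ((iσ.2 : MulAut A).symm w)
    simpa using this
  · rintro ⟨i, σ⟩ _ ⟨j, τ⟩ _ h
    have h' : (R j).comp ((τ * σ⁻¹ : E) : MulAut A).toMonoidHom = R i := by
      refine MonoidHom.ext fun w => ?_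
      have := DFunLike.congr_fun h ((σ : MulAut A).symm w)
      simp only [MonoidHom.comp_apply, MulEquiv.coe_toMonoidHom, MulEquiv.apply_symm_apply] at this
      exact this.symm
    obtain ⟨hij, hστ⟩ := (hRij i i.2 j j.2 _).mp h'
    exact Prod.ext (Fin.ext hij) (mul_inv_eq_one.mp hστ).symm
  · intro μ hμ
    obtain ⟨i, hi, σ, rfl⟩ := hRall μ (Finset.mem_erase.mp hμ).1
    exact ⟨(⟨i, hi⟩, σ), Finset.mem_product.mpr ⟨Finset.mem_univ _, Finset.mem_univ _⟩, rfl⟩

theorem psi_pull {A₂ : Type v} [Group A₂] (φ : A₂ ≃* A) [Fintype (pullAut φ E)] {m : ℕ}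
    (R : ℕ → (A →* ℂˣ)) (i : Fin m) (z : A₂) :
    ∑ σ : pullAut φ E, ((((R i).comp φ.toMonoidHom) ((σ : MulAut A₂) z) : ℂˣ) : ℂ) = psi E R i (φ z) :=
  (Fintype.sum_equiv (pullEquiv φ E) _ _ fun σ => by simp [pullEquiv_apply]).symm

end Psi

open scoped Classical in
/-- A block cut into `e` characters with a common column and exceptional ones. -/
structure Side {G : Type u} [Group G] [Fintype G] (M : Ideal AlgInt) (p : ℕ) (B : Set (IrrCharacter G)) (e m : ℕ)
    {A : Type v} [Group A] [Fintype A] (ψ : Fin m → A → ℂ) (y : Fin m → IrrCharacter G)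
    (δ : IrrCharacter G → ℤ) (ε : ℤ) : Prop where
  inj : Function.Injective y
  mem : ∀ i, y i ∈ B
  card_rest : Fintype.card {χ // χ ∈ B ∧ χ ∉ Set.range y} = e
  sign : ∀ χ, δ χ = 1 ∨ δ χ = -1
  sign₀ : ε = 1 ∨ ε = -1
  rel : ∀ i, ∀ g : G, ¬ p ∣ orderOf g → (ε : ℂ) * (y i : G → ℂ) g +
    ∑ χ : {χ // χ ∈ B ∧ χ ∉ Set.range y}, (δ χ.1 : ℂ) * (χ.1 : G → ℂ) g = 0
  col : ∀ g : G, p ∣ orderOf g → ∃ a : A → ℂ, (∀ z, MemLocalRing M (a z)) ∧ a 1 = 0 ∧
    (∀ χ : {χ // χ ∈ B ∧ χ ∉ Set.range y}, (δ χ.1 : ℂ) * (χ.1 : G → ℂ) g = -∑ z, a z) ∧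
    ∀ i, (ε : ℂ) * (y i : G → ℂ) g = ∑ z, a z * ψ i z
  pair : ∀ (g : G) (z : A), z ≠ 1 →
    MemLocalRing M ((∑ i, ψ i z * ((ε : ℂ) * (y i : G → ℂ) g) -
      ∑ χ : {χ // χ ∈ B ∧ χ ∉ Set.range y}, (δ χ.1 : ℂ) * (χ.1 : G → ℂ) g) /
      (Nat.card (Subgroup.centralizer ({g} : Set G)) : ℂ))

variable {G : Type u} [Group G] [Fintype G] {M : Ideal AlgInt} {p : ℕ} {B : Set (IrrCharacter G)}
  {D : Subgroup G} {c : Set (IrrCharacter (Subgroup.centralizer (D : Set G)))} {σ : G} {a : ℕ}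

/-- The group of automorphisms exists. -/
theorem exists_aut (hM : IsPModular p M) (hmax : IsMaximalBrauerPair p M B D c) (hσ : Subgroup.zpowers σ = D)
    (ha : 1 ≤ a) (hord : orderOf σ = p ^ a) {e : ℕ}
    (he : (Subgroup.centralizer (D : Set G)).relIndex (pairStab (pmod_prime hM) hmax.1.1.2) = e) :
    ∃ E : Subgroup (MulAut D), Nat.card E = e ∧ ∀ τ ∈ E, τ ≠ 1 → ∀ z, τ z = z → z = 1 := by
  have hD : D ≠ ⊥ := fun h => by
    have h1 : Nat.card D = p ^ a := by rw [← hσ, Nat.card_zpowers, hord]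
    rw [h, Subgroup.card_bot] at h1
    exact absurd (Nat.pow_eq_one.mp h1.symm) (by have := hM.1.two_le; omega)
  obtain ⟨E, -, -, hcard, hfree, -⟩ := StarFamily.exists_family hM hmax (CyclicLocal.comm_of_gen hσ)
    (CyclicRank.free_action hM hmax hσ ha hord) hD
  exact ⟨E, hcard.trans he, hfree⟩

open scoped Classical in
set_option maxHeartbeats 2000000 in
/-- A block with abelian defect group, free inertial quotient and the largest number of characters has this shape. -/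
theorem exists_side_of_card (hM : IsPModular p M) (hmax : IsMaximalBrauerPair p M B D c)
    (hab : ∀ x ∈ D, ∀ y ∈ D, x * y = y * x)
    (hfree : ∀ t ∈ pairStab (pmod_prime hM) hmax.1.1.2, ∀ x ∈ D, x ≠ 1 → t * x * t⁻¹ = x →
      t ∈ Subgroup.centralizer (D : Set G)) (hD : D ≠ ⊥) {e : ℕ}
    (he : (Subgroup.centralizer (D : Set G)).relIndex (pairStab (pmod_prime hM) hmax.1.1.2) = e)
    (hkB : Nat.card B = e + (Nat.card D - 1) / e)
    (E₀ : Subgroup (MulAut D)) [Fintype E₀] (hE₀ : Nat.card E₀ = e)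
    (huniq : ∀ E : Subgroup (MulAut D), Nat.card E = Nat.card E₀ → E = E₀) {m : ℕ} {R : ℕ → (D →* ℂˣ)}
    (hR : IsReps E₀ m R) :
    ∃ (y : Fin m → IrrCharacter G) (δ : IrrCharacter G → ℤ) (ε : ℤ), Side M p B e m (psi E₀ R) y δ ε := by
  have hp := hM.1
  haveI := Fact.mk hp
  letI : ∀ S : Subgroup G, Fintype (Subgroup.centralizer (S : Set G)) := fun S => Fintype.ofFinite _
  obtain ⟨E, iE, H, hcardE, hEfree, hext, hgal, hint, hinv, horth, hne, hreg, ι, hd, sg, hsg, hval⟩ :=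
    StarFamily.exists_family_values hM hmax hab hfree hD
  obtain rfl : E = E₀ := huniq E ((hcardE.trans he).trans hE₀.symm)
  obtain rfl : iE = ‹Fintype E› := Subsingleton.elim _ _
  have hcomm : ∀ y z : D, y * z = z * y := fun y z => Subtype.ext (hab y y.2 z z.2)
  have hD1 : ∃ z : D, z ≠ 1 := by
    obtain ⟨z, hz⟩ := D.ne_bot_iff_exists_ne_one.mp hD
    exact ⟨z, hz⟩
  obtain ⟨U, hgram, hsupp, hlin, hinvU⟩ := vectors_of_reps E hM hmax.1.1.1 hcomm hD1 hEfree H hext hgal hint hinv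
    (fun z z' hz hz' => by convert horth z z' hz hz') hne hR
  have hem := hR.2.1
  have hm1 := hR.1
  rw [hE₀] at hem
  rw [hE₀] at hgram
  have he0 : 0 < e := hE₀ ▸ Nat.card_pos
  have hk : Fintype.card {χ // χ ∈ B} = e + m := by
    rw [← Nat.card_eq_fintype_card]
    show Nat.card B = e + m
    rw [hkB, ← hem, Nat.mul_div_cancel_left _ he0]
  let u : Fin m → {χ // χ ∈ B} → ℤ := fun i χ => U i χ
  have hgram' : ∀ i j, ∑ χ, u i χ * u j χ = (e : ℤ) + if i = j then 1 else 0 := fun i j => by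
    rw [hgram i (by have := i.2; omega) j (by have := j.2; omega)]
    simp [Fin.val_inj]
  obtain ⟨y, δ, ε, hy, hδ, hε, hu⟩ := CyclicLattice.exact hm1 u hgram' (fun χ => by
    obtain ⟨i, hi, hne'⟩ := hsupp χ
    exact ⟨⟨i, by omega⟩, hne'⟩) hk
  let X := {χ : IrrCharacter G // χ ∈ B ∧ χ ∉ Set.range fun i => (y i).1}
  have hyX : ∀ χ : {χ // χ ∈ B}, χ.1 ∈ Set.range (fun i => (y i).1) ↔ χ ∈ Set.range y := fun χ =>
    ⟨fun ⟨i, hi⟩ => ⟨i, Subtype.ext hi⟩, fun ⟨i, hi⟩ => ⟨i, congrArg Subtype.val hi⟩⟩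
  have hsplit : ∀ F : {χ // χ ∈ B} → ℂ, ∑ χ, F χ = (∑ i, F (y i)) + ∑ χ : X, F ⟨χ.1, χ.2.1⟩ := by
    intro F
    rw [← Finset.sum_filter_add_sum_filter_not Finset.univ (fun χ => χ ∈ Set.range y)]
    congr 1
    · exact (Finset.sum_bij (fun i _ => y i) (fun i _ => Finset.mem_filter.mpr ⟨Finset.mem_univ _, i, rfl⟩)
        (fun i _ j _ h => hy h) (fun χ hχ => by
          obtain ⟨i, hi⟩ := (Finset.mem_filter.mp hχ).2
          exact ⟨i, Finset.mem_univ _, hi⟩) fun _ _ => rfl).symm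
    · exact (Finset.sum_bij (fun (χ : X) _ => (⟨χ.1, χ.2.1⟩ : {χ // χ ∈ B}))
        (fun χ _ => Finset.mem_filter.mpr ⟨Finset.mem_univ _, fun h => χ.2.2 ((hyX _).mpr h)⟩)
        (fun a _ b _ h => Subtype.ext (congrArg (fun x : {χ // χ ∈ B} => x.1) h)) (fun χ hχ =>
          ⟨⟨χ.1, χ.2, fun h => absurd ((hyX χ).mp h) (Finset.mem_filter.mp hχ).2⟩, Finset.mem_univ _, rfl⟩)
        fun _ _ => rfl).symm
  have huX : ∀ i (χ : X), u i ⟨χ.1, χ.2.1⟩ = δ ⟨χ.1, χ.2.1⟩ := fun i χ => by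
    rw [hu, if_neg fun h => χ.2.2 ((hyX _).mpr ⟨i, h.symm⟩), if_neg fun h => χ.2.2 ((hyX _).mpr h)]
  have huy : ∀ i j, u i (y j) = if i = j then ε i else 0 := fun i j => by
    rw [hu]
    by_cases h : i = j
    · subst h; simp
    · rw [if_neg fun e' => h (hy e').symm, if_pos ⟨j, rfl⟩, if_neg h]
  have hHX : ∀ (χ : X) (w : D), w ≠ 1 → H ⟨χ.1, χ.2.1⟩ w = -(δ ⟨χ.1, χ.2.1⟩ : ℂ) := fun χ w hw => by
    rw [hinvU _ w hw, Finset.sum_congr rfl (g := fun i : Fin m => (δ ⟨χ.1, χ.2.1⟩ : ℂ) * psi E R i w) fun i _ => by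
      rw [show U i ⟨χ.1, χ.2.1⟩ = δ ⟨χ.1, χ.2.1⟩ from huX i χ]; rfl, ← Finset.mul_sum, psi_sum E hcomm hR hw]
    ring
  have hHy : ∀ (j : Fin m) (w : D), w ≠ 1 → H (y j) w = (ε j : ℂ) * psi E R j w := fun j w hw => by
    rw [hinvU _ w hw, Finset.sum_eq_single j]
    · rw [show U j (y j) = ε j from (huy j j).trans (if_pos rfl)]; rfl
    · intro i _ hi
      rw [show U i (y j) = 0 from (huy i j).trans (if_neg hi), Int.cast_zero, zero_mul]
    · simp
  -- the relation on the regular elements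
  have hrel : ∀ i, ∀ g : G, ¬ p ∣ orderOf g →
      (ε i : ℂ) * ((y i).1 : G → ℂ) g + ∑ χ : X, (δ ⟨χ.1, χ.2.1⟩ : ℂ) * (χ.1 : G → ℂ) g = 0 := by
    intro i g hg
    have h := hlin (fun χ => (χ.1 : G → ℂ) g) (fun z hz => hreg g hg z hz) i
    rw [hsplit, Finset.sum_eq_single i (fun j _ hj => by
      rw [show U i (y j) = 0 from (huy i j).trans (if_neg (Ne.symm hj)), Int.cast_zero, mul_zero]) (by simp),
      show U i (y i) = ε i from (huy i i).trans (if_pos rfl), mul_comm,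
      Finset.sum_congr rfl fun χ _ => by rw [show U i ⟨χ.1, χ.2.1⟩ = δ ⟨χ.1, χ.2.1⟩ from huX i χ, mul_comm]] at h
    exact h
  let i₀ : Fin m := ⟨0, hm1⟩
  have hεeq : ∀ i, ε i = ε i₀ := by
    intro i
    have h1 := hrel i 1 (by simp [hp.ne_one])
    have h2 := hrel i₀ 1 (by simp [hp.ne_one])
    have h3 : (ε i : ℂ) * (deg ((y i).1 : G → ℂ) : ℂ) = (ε i₀ : ℂ) * (deg ((y i₀).1 : G → ℂ) : ℂ) := by
      rw [← char_one_eq_deg (irr_isCharacter (y i).1.2), ← char_one_eq_deg (irr_isCharacter (y i₀).1.2)]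
      linear_combination h1 - h2
    have h4 : ε i * (deg ((y i).1 : G → ℂ) : ℤ) = ε i₀ * (deg ((y i₀).1 : G → ℂ) : ℤ) := by exact_mod_cast h3
    have := deg_pos (y i).1.2
    have := deg_pos (y i₀).1.2
    rcases hε i with h | h <;> rcases hε i₀ with h' | h' <;> rw [h, h'] at h4 ⊢ <;> omega
  let δ' : IrrCharacter G → ℤ := fun χ => if h : χ ∈ B then δ ⟨χ, h⟩ else 1
  have hδ' : ∀ χ : X, δ' χ.1 = δ ⟨χ.1, χ.2.1⟩ := fun χ => dif_pos χ.2.1
  have hXcard : Fintype.card X = e := by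
    have h : ∀ F : {χ // χ ∈ B} → ℂ, ∑ χ, F χ = (∑ i, F (y i)) + ∑ χ : X, F ⟨χ.1, χ.2.1⟩ := hsplit
    have h1 := h fun _ => 1
    simp only [Finset.sum_const, Finset.card_univ, nsmul_eq_mul, mul_one, hk, Fintype.card_fin] at h1
    have h2 : e + m = m + Fintype.card X := by exact_mod_cast h1
    omega
  refine ⟨fun i => (y i).1, δ', ε i₀, ⟨Subtype.val_injective.comp hy, fun i => (y i).2, hXcard, fun χ => ?_, hε i₀,
    fun i g hg => ?_, fun g hg => ?_, fun g z hz => ?_⟩⟩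
  · simp only [δ']
    split_ifs
    exacts [hδ _, Or.inl rfl]
  · have h := hrel i g hg
    rw [hεeq i] at h
    rw [← h]
    exact congrArg _ (Finset.sum_congr rfl fun χ _ => by rw [hδ'])
  · obtain ⟨cf, hcf, hcf1, hcol⟩ := CyclicColumns.exists_col hM hmax hab hd
      hfree H sg hsg hval hg
    refine ⟨cf, hcf, hcf1, fun χ => ?_, fun i => ?_⟩
    · rw [hδ', hcol ⟨χ.1, χ.2.1⟩, Finset.mul_sum, ← Finset.sum_neg_distrib]
      refine Finset.sum_congr rfl fun z _ => ?_
      by_cases hz : z = 1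
      · simp [hz, hcf1]
      · rw [hHX χ z hz]
        rcases hδ ⟨χ.1, χ.2.1⟩ with h | h <;> simp [h]
    · show (ε i₀ : ℂ) * ((y i).1 : G → ℂ) g = _
      rw [hcol (y i), Finset.mul_sum]
      refine Finset.sum_congr rfl fun z _ => ?_
      by_cases hz : z = 1
      · simp [hz, hcf1]
      · rw [hHy i z hz, hεeq i]
        rcases hε i₀ with h | h <;> simp [h]
  · have h := CyclicColumns.pair_local hM hmax hab hd hfree H sg hsg hval g hz
    rw [hsplit] at h
    convert h using 2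
    rw [sub_eq_add_neg, ← Finset.sum_neg_distrib]
    congr 1
    · exact Finset.sum_congr rfl fun i _ => by rw [hHy i z hz, hεeq i]; ring
    · exact Finset.sum_congr rfl fun χ _ => by rw [hHX χ z hz, hδ']; ring

open scoped Classical in
/-- The block has this shape. -/
theorem exists_side (hM : IsPModular p M) (hmax : IsMaximalBrauerPair p M B D c) (hσ : Subgroup.zpowers σ = D)
    (ha : 1 ≤ a) (hord : orderOf σ = p ^ a) {e : ℕ}
    (he : (Subgroup.centralizer (D : Set G)).relIndex (pairStab (pmod_prime hM) hmax.1.1.2) = e)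
    (E₀ : Subgroup (MulAut D)) [Fintype E₀] (hE₀ : Nat.card E₀ = e) {m : ℕ} {R : ℕ → (D →* ℂˣ)}
    (hR : IsReps E₀ m R) :
    ∃ (y : Fin m → IrrCharacter G) (δ : IrrCharacter G → ℤ) (ε : ℤ), Side M p B e m (psi E₀ R) y δ ε := by
  haveI := Fact.mk hM.1
  have hq : Nat.card D = p ^ a := by rw [← hσ, Nat.card_zpowers, hord]
  haveI : IsCyclic D := hσ ▸ inferInstanceAs (IsCyclic (Subgroup.zpowers σ))
  have hD : D ≠ ⊥ := fun h => by
    rw [h, Subgroup.card_bot] at hq
    exact absurd (Nat.pow_eq_one.mp hq.symm) (by have := hM.1.two_le; omega)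
  exact exists_side_of_card hM hmax (CyclicLocal.comm_of_gen hσ) (CyclicRank.free_action hM hmax hσ ha hord) hD he
    (CyclicRank.counts hM hmax hσ ha hord he).2 E₀ hE₀
    (fun E hE => aut_unique hM.1 hq (hE₀ ▸ (he ▸ CyclicStructure.index_dvd hM hmax hσ ha hord)) hE) hR

end Cfsg.Agent.Char.CyclicSides
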