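import Cfsg.Agent.Lib.Char.CyclicDefectFacts
import Cfsg.Agent.Lib.Char.CyclicLattice
import Cfsg.Agent.Lib.Char.Osima
import Cfsg.Agent.Lib.Char.Height

/-!
# The characters of a block with a cyclic defect group
-/

set_option autoImplicit false
set_option linter.unusedSectionVars false
set_option linter.style.haveILetI false

open Cfsg
open scoped ComplexConjugate

namespace Cfsg.Agent.Char.CyclicStructure

universe u

variable {G : Type u} [Group G] [Fintype G] {M : Ideal AlgInt} {p : ℕ} {B : Set (IrrCharacter G)}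
  {D : Subgroup G} {c : Set (IrrCharacter (Subgroup.centralizer (D : Set G)))} {σ : G} {a : ℕ}

/-- The inertial index divides `p - 1`. -/
theorem index_dvd (hM : IsPModular p M) (hmax : IsMaximalBrauerPair p M B D c) (hσ : Subgroup.zpowers σ = D)
    (ha : 1 ≤ a) (hord : orderOf σ = p ^ a) :
    (Subgroup.centralizer (D : Set G)).relIndex (pairStab (pmod_prime hM) hmax.1.1.2) ∣ p - 1 := by
  have hp := hM.1
  haveI := Fact.mk hp
  set T := pairStab (pmod_prime hM) hmax.1.1.2 with hT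
  set P := Subgroup.zpowers (σ ^ p ^ (a - 1)) with hP
  have hPD : P ≤ D := Subgroup.zpowers_le.mpr (D.pow_mem (hσ ▸ Subgroup.mem_zpowers σ) _)
  have hTN : T ≤ Subgroup.normalizer (P : Set G) := fun t ht =>
    CyclicRank.stab_norm hp hσ ha hord ((mem_pairStab _ _).mp ht).1
  have hcard : Nat.card P = p := by
    rw [hP, Nat.card_zpowers, orderOf_pow_of_dvd (pow_ne_zero _ hp.ne_zero)
      (hord ▸ Nat.pow_dvd_pow p (Nat.sub_le a 1)), hord,
      Nat.pow_div (Nat.sub_le a 1) hp.pos, show a - (a - 1) = 1 by omega, pow_one]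
  haveI : IsCyclic P := isCyclic_of_prime_card hcard
  have hker : (P.normalizerMonoidHom.comp (Subgroup.inclusion hTN)).ker =
      (Subgroup.centralizer (D : Set G)).subgroupOf T := by
    ext x
    rw [MonoidHom.mem_ker, MonoidHom.comp_apply, ← MonoidHom.mem_ker, P.normalizerMonoidHom_ker]
    show (x : G) ∈ Subgroup.centralizer (P : Set G) ↔ (x : G) ∈ Subgroup.centralizer (D : Set G)
    refine ⟨fun h => CyclicLocal.free hM hmax hσ ha hord x.2 (h _ (Subgroup.mem_zpowers _)).symm, fun h u hu =>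
      h u (hPD hu)⟩
  have h1 : (Subgroup.centralizer (D : Set G)).relIndex T ∣ Nat.card (MulAut P) := by
    rw [Subgroup.relIndex, ← hker, Subgroup.index_ker]
    exact Subgroup.card_subgroup_dvd_card _
  rwa [IsCyclic.card_mulAut, hcard, Nat.totient_prime hp] at h1

/-- Two degrees congruent up to signs modulo a higher power have the same exponent. -/
theorem exponent_eq (hp : p.Prime) {n x y : ℕ} (hx : x ≠ 0) (hy : y ≠ 0) {s t : ℤ} (hs : s = 1 ∨ s = -1)
    (ht : t = 1 ∨ t = -1) (h : ((p : ℤ) ^ n) ∣ s * (x : ℤ) + t * (y : ℤ)) (hlt : x.factorization p < n) :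
    y.factorization p = x.factorization p := by
  have hiff : ∀ j, j ≤ n → (p ^ j ∣ x ↔ p ^ j ∣ y) := by
    intro j hj
    have h' : ((p : ℤ) ^ j) ∣ s * (x : ℤ) + t * (y : ℤ) := (pow_dvd_pow _ hj).trans h
    rw [← Int.natCast_dvd_natCast, ← Int.natCast_dvd_natCast (n := y), Nat.cast_pow]
    constructor
    · intro hd
      have h2 := (dvd_add_right (dvd_mul_of_dvd_right hd s)).mp h'
      rcases ht with rfl | rfl
      · simpa using h2
      · simpa using h2
    · intro hd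
      have h2 := (dvd_add_left (dvd_mul_of_dvd_right hd t)).mp h'
      rcases hs with rfl | rfl
      · simpa using h2
      · simpa using h2
  refine le_antisymm ?_ ((hp.pow_dvd_iff_le_factorization hy).mp
    ((hiff _ hlt.le).mp (Nat.ordProj_dvd x p)))
  by_contra hgt
  push Not at hgt
  have := (hp.pow_dvd_iff_le_factorization hx).mp
    ((hiff (x.factorization p + 1) (by omega)).mpr ((hp.pow_dvd_iff_le_factorization hy).mpr (by omega)))
  omega

/-- A combination of characters vanishing off the regular elements has degree divisible by the Sylow order. -/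
theorem dvd_of_vanish (hp : p.Prime) {ι : Type*} [Fintype ι] (f : ι → ℤ) (χ : ι → IrrCharacter G)
    (h : ∀ g : G, p ∣ orderOf g → ∑ i, (f i : ℂ) * (χ i : G → ℂ) g = 0) :
    ((p : ℤ) ^ (Nat.card G).factorization p) ∣ ∑ i, f i * (deg (χ i : G → ℂ) : ℤ) := by
  classical
  haveI := Fact.mk hp
  obtain ⟨S⟩ : Nonempty (Sylow p G) := inferInstance
  haveI : Fintype (S : Subgroup G) := Fintype.ofFinite _
  have hone : IsCharacter (S : Subgroup G) (fun _ => (1 : ℂ)) := irr_isCharacter isIrrCharacter_one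
  choose m hm using fun i => classInner_natCast
    (isCharacter_comp (S : Subgroup G).subtype (irr_isCharacter (χ i).2)) hone
  have hsum : ∑ s : (S : Subgroup G), ∑ i, (f i : ℂ) * (χ i : G → ℂ) s =
      ∑ i, (f i : ℂ) * (χ i : G → ℂ) 1 := by
    rw [Finset.sum_eq_single (1 : (S : Subgroup G))]
    · rfl
    · intro s _ hs
      refine h s ?_
      obtain ⟨k, hk⟩ := IsPGroup.iff_orderOf.mp S.isPGroup' s
      rw [Subgroup.orderOf_coe, hk]
      refine dvd_pow_self p fun h0 => hs ?_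
      rwa [h0, pow_zero, orderOf_eq_one_iff] at hk
    · simp
  refine ⟨∑ i, f i * (m i : ℤ), ?_⟩
  apply Int.cast_injective (α := ℂ)
  push_cast
  rw [Finset.sum_congr rfl (g := fun i => (f i : ℂ) * (χ i : G → ℂ) 1) fun i _ => by
    rw [char_one_eq_deg (irr_isCharacter (χ i).2)], ← hsum, Finset.sum_comm, Finset.mul_sum]
  refine Finset.sum_congr rfl fun i _ => ?_
  have h1 := hm i
  simp only [classInner, map_one, mul_one, Function.comp_apply, Subgroup.coe_subtype] at h1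
  rw [← h1, ← Finset.mul_sum, Sylow.card_eq_multiplicity]
  push_cast
  rw [← mul_assoc, mul_comm ((p : ℂ) ^ _), mul_assoc, mul_inv_cancel_left₀]
  exact pow_ne_zero _ (Nat.cast_ne_zero.mpr hp.ne_zero)

open scoped Classical in
set_option maxHeartbeats 2000000 in
/-- The vectors of the block: one exceptional point for each and a common sign vector. -/
theorem exists_shape (hM : IsPModular p M) (hmax : IsMaximalBrauerPair p M B D c) (hσ : Subgroup.zpowers σ = D)
    (ha : 1 ≤ a) (hord : orderOf σ = p ^ a) {e : ℕ}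
    (he : (Subgroup.centralizer (D : Set G)).relIndex (pairStab (pmod_prime hM) hmax.1.1.2) = e) :
    ∃ (N : ℕ) (y : Fin N → IrrCharacter G) (δ : IrrCharacter G → ℤ) (δ₀ : ℤ),
      1 ≤ N ∧ e * N = p ^ a - 1 ∧ Function.Injective y ∧ (∀ i, y i ∈ B) ∧
      (Finset.univ.filter fun χ => χ ∈ B ∧ χ ∉ Set.range y).card = e ∧
      (∀ χ, δ χ = 1 ∨ δ χ = -1) ∧ (δ₀ = 1 ∨ δ₀ = -1) ∧
      (∀ i, ∀ g : G, ¬ p ∣ orderOf g → (δ₀ : ℂ) * (y i : G → ℂ) g +
        ∑ χ : IrrCharacter G with χ ∈ B ∧ χ ∉ Set.range y, (δ χ : ℂ) * (χ : G → ℂ) g = 0) ∧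
      ∀ χ, χ ∈ B → χ ∉ Set.range y → ∀ χ', χ' ∈ B → χ' ∉ Set.range y → ∀ g : G, p ∣ orderOf g →
        (δ χ : ℂ) * (χ : G → ℂ) g = (δ χ' : ℂ) * (χ' : G → ℂ) g := by
  have hp := hM.1
  haveI := Fact.mk hp
  obtain ⟨hl, hkB⟩ := CyclicRank.counts hM hmax hσ ha hord he
  have hab := CyclicLocal.comm_of_gen hσ
  have hq : Nat.card D = p ^ a := by rw [← hσ, Nat.card_zpowers, hord]
  have hσ1 : σ ≠ 1 := fun h => by
    rw [h, orderOf_one] at hord
    exact absurd (Nat.pow_eq_one.mp hord.symm) (by have := hp.two_le; omega)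
  have hD : D ≠ ⊥ := fun h => hσ1 (by
    have := hσ ▸ Subgroup.mem_zpowers σ
    rw [h, Subgroup.mem_bot] at this
    exact this)
  obtain ⟨E, iE, H, hcardE, hEfree, hext, hgal, hint, hinv, horth, hne, hreg⟩ :=
    StarFamily.exists_family hM hmax hab (CyclicRank.free_action hM hmax hσ ha hord) hD
  obtain ⟨m, U, hm1, hem, hgram, hsupp, hlin⟩ := StarVectors.exists_vectors E hM hmax.1.1.1
    (fun y z => Subtype.ext (hab y y.2 z z.2))
    ⟨⟨σ, hσ ▸ Subgroup.mem_zpowers σ⟩, fun h => hσ1 (congrArg Subtype.val h)⟩ hEfree H hext hgal hint hinv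
    (fun z z' hz hz' => by convert horth z z' hz hz') hne
  rw [hcardE, he, hq] at hem
  rw [hcardE, he] at hgram
  have he0 : 0 < e := by
    rcases Nat.eq_zero_or_pos e with h | h
    · rw [h, zero_mul] at hem
      have : 2 ≤ p ^ a := hp.two_le.trans (Nat.le_self_pow (by omega) p)
      omega
    · exact h
  have hk : Fintype.card {χ // χ ∈ B} = e + m := by
    rw [← Nat.card_eq_fintype_card]
    show Nat.card B = e + m
    rw [hkB, hq, ← hem, Nat.mul_div_cancel_left _ he0]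
  let u : Fin m → {χ // χ ∈ B} → ℤ := fun i χ => U i χ
  have hgram' : ∀ i j, ∑ χ, u i χ * u j χ = (e : ℤ) + if i = j then 1 else 0 := fun i j => by
    rw [hgram i (by have := i.2; omega) j (by have := j.2; omega)]
    simp [Fin.val_inj]
  obtain ⟨y, δ, ε, hy, hδ, hε, hu⟩ := CyclicLattice.exact hm1 u hgram' (fun χ => by
    obtain ⟨i, hi, hne'⟩ := hsupp χ
    exact ⟨⟨i, by omega⟩, hne'⟩) hk
  -- the relation on the regular elements
  have hrel : ∀ i, ∀ g : G, ¬ p ∣ orderOf g → ∑ χ : {χ // χ ∈ B}, (χ.1 : G → ℂ) g * (u i χ : ℂ) = 0 :=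
    fun i g hg => hlin (fun χ => (χ.1 : G → ℂ) g) (fun z hz => hreg g hg z hz) i
  let y' : Fin m → IrrCharacter G := fun i => (y i).1
  let δ' : IrrCharacter G → ℤ := fun χ => if h : χ ∈ B then δ ⟨χ, h⟩ else 1
  set X := Finset.univ.filter fun χ => χ ∈ B ∧ χ ∉ Set.range y' with hX
  have hyX : ∀ χ : {χ // χ ∈ B}, χ.1 ∈ Set.range y' ↔ χ ∈ Set.range y := fun χ =>
    ⟨fun ⟨i, hi⟩ => ⟨i, Subtype.ext hi⟩, fun ⟨i, hi⟩ => ⟨i, congrArg Subtype.val hi⟩⟩
  have hsplit : ∀ i, ∀ F : IrrCharacter G → ℂ, ∑ χ : {χ // χ ∈ B}, F χ.1 * (u i χ : ℂ) =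
      (ε i : ℂ) * F (y' i) + ∑ χ ∈ X, (δ' χ : ℂ) * F χ := by
    intro i F
    rw [← Finset.add_sum_erase _ _ (Finset.mem_univ (y i)), hu i (y i), if_pos rfl, mul_comm]
    refine congrArg _ ?_
    rw [← Finset.sum_filter_add_sum_filter_not (Finset.univ.erase (y i)) (fun χ => χ ∈ Set.range y),
      Finset.sum_eq_zero fun χ hχ => ?_, zero_add]
    · refine Finset.sum_bij (fun χ _ => χ.1) (fun χ hχ => ?_) (fun χ _ χ' _ h => Subtype.ext h) (fun χ hχ => ?_)
        (fun χ hχ => ?_)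
      · exact Finset.mem_filter.mpr ⟨Finset.mem_univ _, χ.2, fun h =>
          (Finset.mem_filter.mp hχ).2 ((hyX χ).mp h)⟩
      · obtain ⟨hB', hn⟩ := (Finset.mem_filter.mp hχ).2
        refine ⟨⟨χ, hB'⟩, Finset.mem_filter.mpr ⟨Finset.mem_erase.mpr ⟨fun h => hn ⟨i, ?_⟩, Finset.mem_univ _⟩,
          fun h => hn ((hyX ⟨χ, hB'⟩).mpr h)⟩, rfl⟩
        exact (congrArg Subtype.val h).symm
      · obtain ⟨h1, h2⟩ := Finset.mem_filter.mp hχ
        rw [hu i χ, if_neg (Finset.mem_erase.mp h1).1, if_neg h2]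
        simp only [δ', dif_pos χ.2, Subtype.coe_eta]
        ring
    · obtain ⟨h1, h2⟩ := Finset.mem_filter.mp hχ
      rw [hu i χ, if_neg (Finset.mem_erase.mp h1).1, if_pos h2]
      simp
  let i₀ : Fin m := ⟨0, hm1⟩
  have hεeq : ∀ i, ε i = ε i₀ := by
    intro i
    have h1 := hrel i 1 (by simp [hp.ne_one])
    have h2 := hrel i₀ 1 (by simp [hp.ne_one])
    rw [hsplit i fun χ => (χ : G → ℂ) 1] at h1
    rw [hsplit i₀ fun χ => (χ : G → ℂ) 1] at h2
    have h3 : (ε i : ℂ) * (deg (y' i : G → ℂ) : ℂ) = (ε i₀ : ℂ) * (deg (y' i₀ : G → ℂ) : ℂ) := by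
      rw [← char_one_eq_deg (irr_isCharacter (y' i).2), ← char_one_eq_deg (irr_isCharacter (y' i₀).2)]
      linear_combination h1 - h2
    have h4 : ε i * (deg (y' i : G → ℂ) : ℤ) = ε i₀ * (deg (y' i₀ : G → ℂ) : ℤ) := by exact_mod_cast h3
    have := deg_pos (y' i).2
    have := deg_pos (y' i₀).2
    rcases hε i with h | h <;> rcases hε i₀ with h' | h' <;> rw [h, h'] at h4 ⊢ <;> omega
  have hXcard : X.card = e := by
    have h1 : X = (Finset.univ.filter fun χ => χ ∈ B) \ Finset.univ.image y' := by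
      ext χ; simp [hX]
    have h2 : Finset.univ.image y' ⊆ Finset.univ.filter fun χ => χ ∈ B := by
      intro χ hχ
      obtain ⟨i, -, rfl⟩ := Finset.mem_image.mp hχ
      exact Finset.mem_filter.mpr ⟨Finset.mem_univ _, (y i).2⟩
    rw [h1, Finset.card_sdiff_of_subset h2, Finset.card_image_of_injective _ (show Function.Injective y' from Subtype.val_injective.comp hy),
      ← Fintype.card_subtype, Finset.card_univ, Fintype.card_fin, hk]
    omega
  -- the singular columns lie in the span of the vectors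
  let Φ : ({χ // χ ∈ B} → ℂ) →ₗ[ℂ] (G → ℂ) :=
    ∑ χ : {χ // χ ∈ B}, (LinearMap.proj χ).smulRight (pRegularPart p (χ.1 : G → ℂ))
  have hΦ : ∀ x g, Φ x g = ∑ χ : {χ // χ ∈ B}, x χ * pRegularPart p (χ.1 : G → ℂ) g := fun x g => by simp [Φ]
  have hrange : LinearMap.range Φ =
      Submodule.span ℂ ((fun χ : IrrCharacter G => pRegularPart p (χ : G → ℂ)) '' B) := by
    refine le_antisymm ?_ (Submodule.span_le.mpr ?_)
    · rintro _ ⟨x, rfl⟩
      simp only [Φ, LinearMap.sum_apply, LinearMap.smulRight_apply, LinearMap.proj_apply]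
      exact Submodule.sum_mem _ fun χ _ => Submodule.smul_mem _ _ (Submodule.subset_span ⟨χ.1, χ.2, rfl⟩)
    · rintro _ ⟨χ, hχ, rfl⟩
      refine ⟨Pi.single ⟨χ, hχ⟩ 1, funext fun g => ?_⟩
      rw [hΦ, Finset.sum_eq_single ⟨χ, hχ⟩]
      · simp
      · intro b _ hb; simp [hb]
      · simp
  have hker : Module.finrank ℂ (LinearMap.ker Φ) = m := by
    have h := LinearMap.finrank_range_add_finrank_ker Φ
    rw [hrange, Module.finrank_pi, hk] at h
    have h' : Module.finrank ℂ ↥(Submodule.span ℂ ((fun χ : IrrCharacter G => pRegularPart p (χ : G → ℂ)) '' B)) = e :=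
      hl
    omega
  let w : Fin m → LinearMap.ker Φ := fun i => ⟨fun χ => (u i χ : ℂ), LinearMap.mem_ker.mpr (funext fun g => by
    rw [hΦ, Pi.zero_apply]
    by_cases hg : IsPRegular p g
    · rw [Finset.sum_congr rfl (g := fun χ : {χ // χ ∈ B} => (χ.1 : G → ℂ) g * (u i χ : ℂ)) fun χ _ => by
        rw [pRegularPart, if_pos hg, mul_comm]]
      exact hrel i g hg
    · exact Finset.sum_eq_zero fun χ _ => by rw [pRegularPart, if_neg hg, mul_zero])⟩
  have hwind : LinearIndependent ℂ w := by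
    rw [Fintype.linearIndependent_iff]
    intro cf h0
    have h2 : ∀ i, (e : ℂ) * ∑ j, cf j + cf i = 0 := by
      intro i
      have hg : ∀ j, ∑ χ, (u i χ : ℂ) * (u j χ : ℂ) = (e : ℂ) + if i = j then 1 else 0 := fun j => by
        have h := congrArg (fun n : ℤ => (n : ℂ)) (hgram' i j)
        push_cast at h
        exact h
      have h1 : ∀ χ, ∑ j, cf j * (u j χ : ℂ) = 0 := fun χ => by
        have := congrArg (fun x : LinearMap.ker Φ => (x : {χ // χ ∈ B} → ℂ) χ) h0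
        simpa [w] using this
      have h3 : ∑ χ, (u i χ : ℂ) * ∑ j, cf j * (u j χ : ℂ) = 0 := by simp [h1]
      simp only [Finset.mul_sum] at h3
      rw [Finset.sum_comm] at h3
      simp only [mul_left_comm _ (cf _), ← Finset.mul_sum, hg, mul_add, Finset.sum_add_distrib, mul_ite, mul_one,
        mul_zero, Finset.sum_ite_eq, Finset.mem_univ, if_true, ← Finset.sum_mul] at h3
      linear_combination h3
    have h4 : ((e : ℂ) * m + 1) * ∑ j, cf j = 0 := by
      have h := Finset.sum_congr (s₁ := (Finset.univ : Finset (Fin m))) rfl fun i _ => h2 i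
      rw [Finset.sum_const_zero, Finset.sum_add_distrib, Finset.sum_const, Finset.card_univ, Fintype.card_fin,
        nsmul_eq_mul] at h
      linear_combination h
    have h5 : ((e : ℂ) * m + 1) ≠ 0 := by exact_mod_cast Nat.succ_ne_zero (e * m)
    intro i
    have := h2 i
    rwa [(mul_eq_zero.mp h4).resolve_left h5, mul_zero, zero_add] at this
  haveI : Nonempty (Fin m) := ⟨i₀⟩
  have hspan := hwind.span_eq_top_of_card_eq_finrank (by rw [Fintype.card_fin, hker])
  refine ⟨m, y', δ', ε i₀, hm1, hem, Subtype.val_injective.comp hy, fun i => (y i).2, hXcard, fun χ => ?_,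
    hε i₀, fun i g hg => ?_, fun χ hχ hχy χ' hχ' hχy' g hg => ?_⟩
  · simp only [δ']
    split_ifs with h
    · exact hδ _
    · exact Or.inl rfl
  · have h := hrel i g hg
    rwa [hsplit i fun χ => (χ : G → ℂ) g, hεeq i] at h
  · let col : LinearMap.ker Φ := ⟨fun χ => conj ((χ.1 : G → ℂ) g), LinearMap.mem_ker.mpr (funext fun s => by
      rw [hΦ, Pi.zero_apply]
      by_cases hs : IsPRegular p s
      · have h := weak_orthogonality hM hmax.1.2.1 hs hg
        rw [finsum_mem_irr] at h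
        rw [← Finset.sum_subtype (Finset.univ.filter (· ∈ B)) (fun χ => by simp)
          (fun χ => conj ((χ : G → ℂ) g) * pRegularPart p (χ : G → ℂ) s)]
        refine Eq.trans (Finset.sum_congr ?_ fun χ _ => ?_) h
        · ext; simp
        · rw [pRegularPart, if_pos hs, mul_comm]
      · exact Finset.sum_eq_zero fun χ _ => by rw [pRegularPart, if_neg hs, mul_zero])⟩
    obtain ⟨cf, hcf⟩ := (Submodule.mem_span_range_iff_exists_fun ℂ).mp (hspan ▸ Submodule.mem_top : col ∈ _)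
    have hv : ∀ (χ : IrrCharacter G) (hB' : χ ∈ B) (hn : χ ∉ Set.range y'),
        conj ((χ : G → ℂ) g) = (δ' χ : ℂ) * ∑ j, cf j := by
      intro χ hB' hn
      have h := congrArg (fun x : LinearMap.ker Φ => (x : {χ // χ ∈ B} → ℂ) ⟨χ, hB'⟩) hcf
      simp only [AddSubmonoidClass.coe_finsetSum, Submodule.coe_smul, Finset.sum_apply, Pi.smul_apply,
        smul_eq_mul, w, col] at h
      rw [← h, Finset.mul_sum]
      refine Finset.sum_congr rfl fun j _ => ?_
      rw [hu j, if_neg fun e' => hn ⟨j, (congrArg Subtype.val e').symm⟩, if_neg fun e' => hn ((hyX _).mpr e')]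
      simp only [δ', dif_pos hB']
      ring
    have hsq : ∀ χ, (δ' χ : ℂ) * (δ' χ : ℂ) = 1 := fun χ => by
      have : δ' χ = 1 ∨ δ' χ = -1 := by
        simp only [δ']
        split_ifs
        exacts [hδ _, Or.inl rfl]
      rcases this with h | h <;> simp [h]
    have h1 := congrArg (starRingEnd ℂ) (hv χ hχ hχy)
    have h2 := congrArg (starRingEnd ℂ) (hv χ' hχ' hχy')
    rw [Complex.conj_conj, map_mul, map_intCast] at h1 h2
    rw [h1, h2, ← mul_assoc, hsq, ← mul_assoc, hsq]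

open scoped Classical in
/-- The structure of the block. -/
theorem main (hM : IsPModular p M) (hmax : IsMaximalBrauerPair p M B D c) (hσ : Subgroup.zpowers σ = D)
    (ha : 1 ≤ a) (hord : orderOf σ = p ^ a) {e : ℕ}
    (he : (Subgroup.centralizer (D : Set G)).relIndex (pairStab (pmod_prime hM) hmax.1.1.2) = e) :
    e ∣ p - 1 ∧ (∀ χ ∈ B, blockHeight p B (χ : G → ℂ) = 0) ∧
      ∃ X Y : Set (IrrCharacter G), B = X ∪ Y ∧ Disjoint X Y ∧ Nat.card X = e ∧ Nat.card Y = (p ^ a - 1) / e ∧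
        (∀ ψ ∈ Y, ∀ ψ' ∈ Y, ∀ g : G, ¬ p ∣ orderOf g → (ψ : G → ℂ) g = (ψ' : G → ℂ) g) ∧
        ∃ (δ : IrrCharacter G → ℤ) (δ₀ : ℤ), (∀ χ ∈ X, δ χ = 1 ∨ δ χ = -1) ∧ (δ₀ = 1 ∨ δ₀ = -1) ∧
          (∀ ψ ∈ Y, ∀ g : G, ¬ p ∣ orderOf g →
            (δ₀ : ℂ) * (ψ : G → ℂ) g + ∑ᶠ χ ∈ X, (δ χ : ℂ) * (χ : G → ℂ) g = 0) ∧
          (∀ χ ∈ X, ∀ χ' ∈ X, δ χ * (charDegree (χ : G → ℂ) : ℤ) ≡
            δ χ' * (charDegree (χ' : G → ℂ) : ℤ) [ZMOD (p : ℤ) ^ a]) ∧
          ∀ ψ ∈ Y, ∀ χ ∈ X, (charDegree (ψ : G → ℂ) : ℤ) ≡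
            -((e : ℤ) * δ₀ * δ χ * (charDegree (χ : G → ℂ) : ℤ)) [ZMOD (p : ℤ) ^ a] := by
  have hp := hM.1
  haveI := Fact.mk hp
  have hdvd : e ∣ p - 1 := he ▸ index_dvd hM hmax hσ ha hord
  obtain ⟨N, y, δ, δ₀, hN, hem, hy, hyB, hXcard, hδ, hδ₀, hrel, hsing⟩ := exists_shape hM hmax hσ ha hord he
  set X := Finset.univ.filter fun χ => χ ∈ B ∧ χ ∉ Set.range y with hX
  have hmX : ∀ χ, χ ∈ X ↔ χ ∈ B ∧ χ ∉ Set.range y := fun χ => by simp [hX]
  set n := (Nat.card G).factorization p with hn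
  -- the congruences modulo the order of a Sylow group
  have hXX : ∀ χ ∈ X, ∀ χ' ∈ X,
      ((p : ℤ) ^ n) ∣ δ χ * (deg (χ : G → ℂ) : ℤ) + -δ χ' * (deg (χ' : G → ℂ) : ℤ) := by
    intro χ hχ χ' hχ'
    have h := dvd_of_vanish hp ![δ χ, -δ χ'] ![χ, χ'] fun g hg => by
      simp only [Fin.sum_univ_two, Matrix.cons_val_zero, Matrix.cons_val_one]
      rw [hsing χ ((hmX χ).mp hχ).1 ((hmX χ).mp hχ).2 χ' ((hmX χ').mp hχ').1 ((hmX χ').mp hχ').2 g hg]
      push_cast; ring
    simpa only [Fin.sum_univ_two, Matrix.cons_val_zero, Matrix.cons_val_one] using h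
  have hYX : ∀ i, ∀ χ ∈ X,
      ((p : ℤ) ^ n) ∣ δ₀ * (deg (y i : G → ℂ) : ℤ) + δ χ * ((e * deg (χ : G → ℂ) : ℕ) : ℤ) := by
    intro i χ hχ
    have h1 : δ₀ * (deg (y i : G → ℂ) : ℤ) + ∑ χ' ∈ X, δ χ' * (deg (χ' : G → ℂ) : ℤ) = 0 := by
      have h := hrel i 1 (by simp [hp.ne_one])
      rw [char_one_eq_deg (irr_isCharacter (y i).2),
        Finset.sum_congr rfl fun χ' _ => by rw [char_one_eq_deg (irr_isCharacter χ'.2)]] at h
      exact_mod_cast h
    have h2 := Finset.dvd_sum fun χ' (hχ' : χ' ∈ X) => hXX χ hχ χ' hχ'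
    rw [Finset.sum_add_distrib, Finset.sum_const, hXcard, nsmul_eq_mul] at h2
    simp only [neg_mul, Finset.sum_neg_distrib] at h2
    have h3 := h2
    rw [show δ₀ * (deg (y i : G → ℂ) : ℤ) + δ χ * ((e * deg (χ : G → ℂ) : ℕ) : ℤ) =
      (e : ℤ) * (δ χ * (deg (χ : G → ℂ) : ℤ)) + -∑ χ' ∈ X, δ χ' * (deg (χ' : G → ℂ) : ℤ) by
        push_cast; linear_combination h1]
    exact h3
  have hpe : ¬ p ∣ e := fun h => by
    have := Nat.le_of_dvd (by have := hp.two_le; omega) (h.trans hdvd)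
    have := hp.two_le; omega
  have he0 : e ≠ 0 := fun h => hpe (h ▸ dvd_zero p)
  have hdexp : ∀ χ : IrrCharacter G, dexp p (χ : G → ℂ) = (deg (χ : G → ℂ)).factorization p := fun χ => rfl
  have hfe : ∀ χ : IrrCharacter G, (e * deg (χ : G → ℂ)).factorization p = (deg (χ : G → ℂ)).factorization p := by
    intro χ
    rw [Nat.factorization_mul he0 (deg_pos χ.2).ne', Finsupp.add_apply,
      Nat.factorization_eq_zero_of_not_dvd hpe, zero_add]
  -- one exponent
  obtain ⟨χ₀, hχ₀, h0⟩ := exists_height_zero (p := p) (block_nonempty (pmod_prime hM) hmax.1.2.1)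
  set v := dexp p (χ₀ : G → ℂ) with hv
  have hvn : v < n := by
    have h := dmin_add_defect (p := p) (block_nonempty (pmod_prime hM) hmax.1.2.1)
    have hdef : blockDefect p B = a := Nat.pow_right_injective hp.two_le
      ((card_defectGroup hM hmax.1.2.1 (maximal_pair_defect hM hmax)).symm.trans
        (show Nat.card D = p ^ a by rw [← hσ, Nat.card_zpowers, hord]))
    have := (blockHeight_eq_zero_iff hχ₀).mp h0
    omega
  have hXv : ∀ χ ∈ X, dexp p (χ : G → ℂ) = v := by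
    intro χ hχ
    by_cases h : χ₀ ∈ Set.range y
    · obtain ⟨i, rfl⟩ := h
      have := exponent_eq hp (deg_pos (y i).2).ne' (Nat.mul_ne_zero he0 (deg_pos χ.2).ne') hδ₀ (hδ χ) (hYX i χ hχ)
        hvn
      rw [hfe] at this
      exact this
    · exact exponent_eq hp (deg_pos χ₀.2).ne' (deg_pos χ.2).ne' (hδ χ₀) (by rcases hδ χ with h' | h' <;> simp [h'])
        (hXX χ₀ ((hmX _).mpr ⟨hχ₀, h⟩) χ hχ) hvn
  obtain ⟨χ₁, hχ₁⟩ : X.Nonempty := Finset.card_pos.mp (by omega)
  have hYv : ∀ i, dexp p (y i : G → ℂ) = v := by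
    intro i
    have h := hYX i χ₁ hχ₁
    rw [add_comm] at h
    have := exponent_eq hp (Nat.mul_ne_zero he0 (deg_pos χ₁.2).ne') (deg_pos (y i).2).ne' (hδ χ₁) hδ₀ h
      (by rw [hfe, ← hdexp, hXv χ₁ hχ₁]; exact hvn)
    rw [hfe, ← hdexp, ← hdexp, hXv χ₁ hχ₁] at this
    exact this
  have hall : ∀ χ ∈ B, dexp p (χ : G → ℂ) = v := fun χ hχ => by
    by_cases h : χ ∈ Set.range y
    · obtain ⟨i, rfl⟩ := h
      exact hYv i
    · exact hXv χ ((hmX χ).mpr ⟨hχ, h⟩)
  refine ⟨hdvd, fun χ hχ => (blockHeight_eq_zero_iff hχ).mpr ((hall χ hχ).trans ((blockHeight_eq_zero_iff hχ₀).mp h0)),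
    (X : Set (IrrCharacter G)), Set.range y, ?_, ?_, ?_, ?_, ?_, δ, δ₀, fun χ _ => hδ χ, hδ₀, ?_, ?_, ?_⟩
  · ext χ
    rw [Set.mem_union, Finset.mem_coe, hmX]
    refine ⟨fun h => ?_, fun h => h.elim (fun h' => h'.1) (fun ⟨i, hi⟩ => hi ▸ hyB i)⟩
    by_cases h' : χ ∈ Set.range y
    · exact Or.inr h'
    · exact Or.inl ⟨h, h'⟩
  · exact Set.disjoint_left.mpr fun χ hχ => ((hmX χ).mp (Finset.mem_coe.mp hχ)).2
  · rw [Nat.card_coe_set_eq, Set.ncard_coe_finset, hXcard]
  · rw [Nat.card_range_of_injective hy, Nat.card_fin, ← hem, Nat.mul_div_cancel_left _ (Nat.pos_of_ne_zero he0)]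
  · rintro _ ⟨i, rfl⟩ _ ⟨j, rfl⟩ g hg
    have h := (hrel i g hg).trans (hrel j g hg).symm
    exact mul_left_cancel₀ (by rcases hδ₀ with h' | h' <;> simp [h']) (add_right_cancel h)
  · rintro _ ⟨i, rfl⟩ g hg
    rw [finsum_mem_coe_finset]
    exact hrel i g hg
  · intro χ hχ χ' hχ'
    rw [Int.modEq_iff_dvd, charDegree_eq_deg, charDegree_eq_deg,
      show δ χ' * (deg (χ' : G → ℂ) : ℤ) - δ χ * (deg (χ : G → ℂ) : ℤ) =
        δ χ' * (deg (χ' : G → ℂ) : ℤ) + -δ χ * (deg (χ : G → ℂ) : ℤ) by ring]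
    exact (pow_dvd_pow _ (show a ≤ n by
      rw [hn, ← hp.pow_dvd_iff_le_factorization Nat.card_pos.ne', ← hord]
      exact orderOf_dvd_natCard σ)).trans (hXX χ' (Finset.mem_coe.mp hχ') χ (Finset.mem_coe.mp hχ))
  · rintro _ ⟨i, rfl⟩ χ hχ
    rw [Int.modEq_iff_dvd, charDegree_eq_deg, charDegree_eq_deg]
    have h := (pow_dvd_pow (p : ℤ) (show a ≤ n by
      rw [hn, ← hp.pow_dvd_iff_le_factorization Nat.card_pos.ne', ← hord]
      exact orderOf_dvd_natCard σ)).trans (hYX i χ (Finset.mem_coe.mp hχ))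
    refine (dvd_mul_of_dvd_right h (-δ₀)).trans (dvd_of_eq ?_)
    rcases hδ₀ with h' | h' <;> rw [h'] <;> push_cast <;> ring

end Cfsg.Agent.Char.CyclicStructure
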