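import Cfsg.Agent.Lib.Char.Ortho
import Cfsg.Agent.Lib.Char.Linear
import Cfsg.Agent.Lib.Char.Induction
import Cfsg.Agent.Lib.Char.IndValue
import Cfsg.Prelude.Def_OddOrderLocal
import Cfsg.Prelude.Def_OddOrderChar

/-!
# Cyclic subgroups with trivial-intersection middle: linear characters and basic inner products
-/

set_option autoImplicit false
set_option linter.unusedSectionVars false
set_option linter.style.haveILetI false

namespace Cfsg.Agent.Char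

open Cfsg
open scoped ComplexConjugate

universe u

variable {G : Type u} [Group G] {W₁ W₂ : Subgroup G}

/-- The virtual character `(1 - φ)(1 - ψ)`. -/
noncomputable def tiAlpha (φ ψ : ↥(W₁ ⊔ W₂) →* ℂˣ) : ↥(W₁ ⊔ W₂) → ℂ :=
  fun w => 1 - (φ w : ℂ) - (ψ w : ℂ) + (φ w : ℂ) * (ψ w : ℂ)

/-- A decomposition into commuting factors. -/
theorem ti_exists_mul (hcomm : ∀ a ∈ W₁, ∀ b ∈ W₂, a * b = b * a) {w : G} (hw : w ∈ W₁ ⊔ W₂) :
    ∃ a ∈ W₁, ∃ b ∈ W₂, w = a * b := by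
  have h : (MonoidHom.noncommCoprod W₁.subtype W₂.subtype
      (fun a b => (hcomm a a.2 b b.2 : Commute (W₁.subtype a) (W₂.subtype b)))).range = W₁ ⊔ W₂ :=
    (MonoidHom.noncommCoprod_range _ _ _).trans (by rw [Subgroup.range_subtype, Subgroup.range_subtype])
  rw [← h] at hw
  obtain ⟨⟨a, b⟩, rfl⟩ := hw
  exact ⟨a, a.2, b, b.2, rfl⟩

theorem ti_hom_ext (hcomm : ∀ a ∈ W₁, ∀ b ∈ W₂, a * b = b * a) {M : Type*} [Monoid M]
    {f g : ↥(W₁ ⊔ W₂) →* M} (h1 : ∀ w : ↥(W₁ ⊔ W₂), (w : G) ∈ W₁ → f w = g w)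
    (h2 : ∀ w : ↥(W₁ ⊔ W₂), (w : G) ∈ W₂ → f w = g w) : f = g := by
  ext w
  obtain ⟨a, ha, b, hb, e⟩ := ti_exists_mul hcomm w.2
  have : w = (⟨a, Subgroup.mem_sup_left ha⟩ : ↥(W₁ ⊔ W₂)) * ⟨b, Subgroup.mem_sup_right hb⟩ :=
    Subtype.ext e
  rw [this, map_mul, map_mul, h1 ⟨a, Subgroup.mem_sup_left ha⟩ ha,
    h2 ⟨b, Subgroup.mem_sup_right hb⟩ hb]

theorem ti_comm (hcomm : ∀ a ∈ W₁, ∀ b ∈ W₂, a * b = b * a) (hcyc₁ : ∀ a ∈ W₁, ∀ b ∈ W₁, a * b = b * a)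
    (hcyc₂ : ∀ a ∈ W₂, ∀ b ∈ W₂, a * b = b * a) (v w : ↥(W₁ ⊔ W₂)) : v * w = w * v := by
  obtain ⟨a, ha, b, hb, e⟩ := ti_exists_mul hcomm v.2
  obtain ⟨c, hc, d, hd, e'⟩ := ti_exists_mul hcomm w.2
  apply Subtype.ext
  simp only [Subgroup.coe_mul, e, e']
  calc a * b * (c * d) = a * (b * c) * d := by group
    _ = a * c * (b * d) := by rw [← hcomm c hc b hb]; group
    _ = c * a * (d * b) := by rw [hcyc₁ a ha c hc, hcyc₂ b hb d hd]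
    _ = c * (a * d) * b := by group
    _ = c * d * (a * b) := by rw [hcomm a ha d hd]; group

theorem tiAlpha_eq_zero {φ ψ : ↥(W₁ ⊔ W₂) →* ℂˣ}
    (hφ : ∀ w : ↥(W₁ ⊔ W₂), (w : G) ∈ W₂ → φ w = 1)
    (hψ : ∀ w : ↥(W₁ ⊔ W₂), (w : G) ∈ W₁ → ψ w = 1) {w : ↥(W₁ ⊔ W₂)}
    (hw : (w : G) ∈ W₁ ∨ (w : G) ∈ W₂) : tiAlpha φ ψ w = 0 := by
  rcases hw with h | h
  · simp [tiAlpha, hψ w h]
  · simp [tiAlpha, hφ w h]

/-- The projection homomorphisms. -/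
theorem ti_exists_split (hdisj : W₁ ⊓ W₂ = ⊥) (hcomm : ∀ a ∈ W₁, ∀ b ∈ W₂, a * b = b * a)
    (ω : ↥(W₁ ⊔ W₂) →* ℂˣ) : ∃ φ ψ : ↥(W₁ ⊔ W₂) →* ℂˣ,
      (∀ w : ↥(W₁ ⊔ W₂), (w : G) ∈ W₂ → φ w = 1) ∧ (∀ w : ↥(W₁ ⊔ W₂), (w : G) ∈ W₁ → ψ w = 1) ∧
      ω = φ * ψ := by
  let Φ : W₁ × W₂ →* ↥(W₁ ⊔ W₂) := MonoidHom.noncommCoprod
    (Subgroup.inclusion le_sup_left) (Subgroup.inclusion le_sup_right)
    (fun a b => Subtype.ext (hcomm a a.2 b b.2))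
  have hinj : Function.Injective Φ := by
    rw [injective_iff_map_eq_one]
    rintro ⟨a, b⟩ h
    have h' : (a : G) * b = 1 := congrArg Subtype.val h
    have ha : (a : G) ∈ W₁ ⊓ W₂ := ⟨a.2, by
      rw [eq_inv_of_mul_eq_one_left h']; exact W₂.inv_mem b.2⟩
    rw [hdisj, Subgroup.mem_bot] at ha
    rw [ha, one_mul] at h'
    exact Prod.ext (Subtype.ext ha) (Subtype.ext h')
  have hsurj : Function.Surjective Φ := fun w => by
    obtain ⟨a, ha, b, hb, e⟩ := ti_exists_mul hcomm w.2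
    exact ⟨(⟨a, ha⟩, ⟨b, hb⟩), Subtype.ext e.symm⟩
  let e := MulEquiv.ofBijective Φ ⟨hinj, hsurj⟩
  have h1 : ∀ w : ↥(W₁ ⊔ W₂), ∀ h : (w : G) ∈ W₁, e.symm w = (⟨w, h⟩, 1) := fun w h => by
    rw [MulEquiv.symm_apply_eq]
    exact Subtype.ext (mul_one (w : G)).symm
  have h2 : ∀ w : ↥(W₁ ⊔ W₂), ∀ h : (w : G) ∈ W₂, e.symm w = (1, ⟨w, h⟩) := fun w h => by
    rw [MulEquiv.symm_apply_eq]
    exact Subtype.ext (one_mul (w : G)).symm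
  refine ⟨ω.comp ((Subgroup.inclusion le_sup_left).comp ((MonoidHom.fst W₁ W₂).comp e.symm.toMonoidHom)),
    ω.comp ((Subgroup.inclusion le_sup_right).comp ((MonoidHom.snd W₁ W₂).comp e.symm.toMonoidHom)),
    fun w hw => ?_, fun w hw => ?_, ti_hom_ext hcomm (fun w hw => ?_) (fun w hw => ?_)⟩
  · simp [h2 w hw]
  · simp [h1 w hw]
  all_goals simp only [MonoidHom.mul_apply, MonoidHom.comp_apply, MulEquiv.coe_toMonoidHom,
    MonoidHom.coe_fst, MonoidHom.coe_snd]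
  · rw [h1 w hw]
    simp only [map_one, mul_one]
    rfl
  · rw [h2 w hw]
    simp only [map_one, one_mul]
    rfl

variable [Fintype ↥(W₁ ⊔ W₂)]

theorem ti_linear_inner (f g : ↥(W₁ ⊔ W₂) →* ℂˣ) [Decidable (f = g)] :
    classInner (fun w => (f w : ℂ)) (fun w => (g w : ℂ)) = if f = g then 1 else 0 := by
  classical
  rw [irr_orth (isIrrCharacter_linear f) (isIrrCharacter_linear g)]
  by_cases h : f = g
  · rw [if_pos h, if_pos (by rw [h])]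
  · rw [if_neg h, if_neg]
    intro e
    exact h (MonoidHom.ext fun w => Units.ext (congrFun e w))

open Classical in
theorem tiAlpha_inner_hom (φ ψ ω : ↥(W₁ ⊔ W₂) →* ℂˣ) :
    classInner (tiAlpha φ ψ) (fun w => (ω w : ℂ)) =
      (if 1 = ω then 1 else 0) - (if φ = ω then 1 else 0) - (if ψ = ω then 1 else 0) +
        (if φ * ψ = ω then 1 else 0) := by
  have e : tiAlpha φ ψ = (fun w => ((1 : ↥(W₁ ⊔ W₂) →* ℂˣ) w : ℂ)) - (fun w => (φ w : ℂ)) -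
      (fun w => (ψ w : ℂ)) + (fun w => ((φ * ψ) w : ℂ)) := by
    funext w
    simp [tiAlpha]
  rw [e, classInner_add_left, classInner_sub_left, classInner_sub_left, ti_linear_inner,
    ti_linear_inner, ti_linear_inner, ti_linear_inner]

/-- A nontrivial pair is not one of the degenerate characters. -/
theorem ti_pair_facts (hcomm : ∀ a ∈ W₁, ∀ b ∈ W₂, a * b = b * a)
    {φ φ' ψ ψ' : ↥(W₁ ⊔ W₂) →* ℂˣ} (hφ : ∀ w : ↥(W₁ ⊔ W₂), (w : G) ∈ W₂ → φ w = 1)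
    (hφ' : ∀ w : ↥(W₁ ⊔ W₂), (w : G) ∈ W₂ → φ' w = 1)
    (hψ : ∀ w : ↥(W₁ ⊔ W₂), (w : G) ∈ W₁ → ψ w = 1)
    (hψ' : ∀ w : ↥(W₁ ⊔ W₂), (w : G) ∈ W₁ → ψ' w = 1) (h : φ * ψ = φ' * ψ') :
    φ = φ' ∧ ψ = ψ' := by
  constructor
  · refine ti_hom_ext hcomm (fun w hw => ?_) (fun w hw => by rw [hφ w hw, hφ' w hw])
    have := DFunLike.congr_fun h w
    simpa [MonoidHom.mul_apply, hψ w hw, hψ' w hw] using this
  · refine ti_hom_ext hcomm (fun w hw => by rw [hψ w hw, hψ' w hw]) (fun w hw => ?_)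
    have := DFunLike.congr_fun h w
    simpa [MonoidHom.mul_apply, hφ w hw, hφ' w hw] using this

open Classical in
/-- Orthogonality of `(1 - φ)(1 - ψ)` against `φ' ψ'`. -/
theorem tiAlpha_inner_pair (hcomm : ∀ a ∈ W₁, ∀ b ∈ W₂, a * b = b * a)
    {φ φ' ψ ψ' : ↥(W₁ ⊔ W₂) →* ℂˣ} (hφ : ∀ w : ↥(W₁ ⊔ W₂), (w : G) ∈ W₂ → φ w = 1)
    (hφ' : ∀ w : ↥(W₁ ⊔ W₂), (w : G) ∈ W₂ → φ' w = 1)
    (hψ : ∀ w : ↥(W₁ ⊔ W₂), (w : G) ∈ W₁ → ψ w = 1)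
    (hψ' : ∀ w : ↥(W₁ ⊔ W₂), (w : G) ∈ W₁ → ψ' w = 1) (hne : φ' ≠ 1) (hne' : ψ' ≠ 1) :
    classInner (tiAlpha φ ψ) (fun w => ((φ' * ψ') w : ℂ)) =
      if φ = φ' ∧ ψ = ψ' then 1 else 0 := by
  have h1 : ∀ w : ↥(W₁ ⊔ W₂), (w : G) ∈ W₂ → (1 : ↥(W₁ ⊔ W₂) →* ℂˣ) w = 1 := fun _ _ => rfl
  have h1' : ∀ w : ↥(W₁ ⊔ W₂), (w : G) ∈ W₁ → (1 : ↥(W₁ ⊔ W₂) →* ℂˣ) w = 1 := fun _ _ => rfl
  rw [tiAlpha_inner_hom, if_neg, if_neg, if_neg]
  · by_cases h : φ = φ' ∧ ψ = ψ'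
    · rw [if_pos h, if_pos (by rw [h.1, h.2])]
      norm_num
    · rw [if_neg h, if_neg fun e => h (ti_pair_facts hcomm hφ hφ' hψ hψ' e)]
      norm_num
  · intro e
    exact hne (ti_pair_facts hcomm h1 hφ' hψ hψ' (Eq.trans (MonoidHom.ext fun _ => by simp) e)).1.symm
  · intro e
    exact hne' (ti_pair_facts hcomm hφ hφ' h1' hψ' (Eq.trans (MonoidHom.ext fun _ => by simp) e)).2.symm
  · intro e
    exact hne (ti_pair_facts hcomm h1 hφ' h1' hψ' (Eq.trans (MonoidHom.ext fun _ => by simp) e)).1.symm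

/-- A function supported off both factors and orthogonal to all `(1 - φ)(1 - ψ)` is zero there. -/
theorem ti_vanish_of_orth (hdisj : W₁ ⊓ W₂ = ⊥) (hcomm : ∀ a ∈ W₁, ∀ b ∈ W₂, a * b = b * a)
    (hab : ∀ v w : ↥(W₁ ⊔ W₂), v * w = w * v) (F : ↥(W₁ ⊔ W₂) → ℂ)
    (horth : ∀ φ ψ : ↥(W₁ ⊔ W₂) →* ℂˣ, φ ≠ 1 → ψ ≠ 1 →
      (∀ w : ↥(W₁ ⊔ W₂), (w : G) ∈ W₂ → φ w = 1) → (∀ w : ↥(W₁ ⊔ W₂), (w : G) ∈ W₁ → ψ w = 1) →
      classInner (tiAlpha φ ψ) F = 0)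
    {w : ↥(W₁ ⊔ W₂)} (hw₁ : (w : G) ∉ W₁) (hw₂ : (w : G) ∉ W₂) : F w = 0 := by
  classical
  haveI : Finite (↥(W₁ ⊔ W₂) →* ℂˣ) := Nat.finite_of_card_ne_zero
    (by rw [card_hom_units]; exact Subgroup.index_ne_zero_of_finite)
  letI := Fintype.ofFinite (↥(W₁ ⊔ W₂) →* ℂˣ)
  set P := (Finset.univ : Finset ((↥(W₁ ⊔ W₂) →* ℂˣ) × (↥(W₁ ⊔ W₂) →* ℂˣ))).filter fun p =>
    p.1 ≠ 1 ∧ p.2 ≠ 1 ∧ (∀ w : ↥(W₁ ⊔ W₂), (w : G) ∈ W₂ → p.1 w = 1) ∧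
      (∀ w : ↥(W₁ ⊔ W₂), (w : G) ∈ W₁ → p.2 w = 1) with hP
  set f : ↥(W₁ ⊔ W₂) → ℂ := fun v => if (v : G) ∈ W₁ ∨ (v : G) ∈ W₂ then 0 else F v with hf
  set g : ↥(W₁ ⊔ W₂) → ℂ := f - ∑ p ∈ P,
    classInner f (fun v => ((p.1 * p.2) v : ℂ)) • tiAlpha p.1 p.2 with hg
  have hcf : ∀ h : ↥(W₁ ⊔ W₂) → ℂ, IsClassFunction ↥(W₁ ⊔ W₂) h := fun h a b => by
    rw [hab b a, mul_inv_cancel_right]
  have hgorth : ∀ p ∈ P, classInner g (fun v => ((p.1 * p.2) v : ℂ)) = 0 := by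
    intro p hp
    obtain ⟨-, hp1, hp2, hp3, hp4⟩ := Finset.mem_filter.mp hp
    rw [hg, classInner_sub_left, classInner_sum_left, Finset.sum_eq_single p]
    · rw [classInner_smul_left, tiAlpha_inner_pair hcomm hp3 hp3 hp4 hp4 hp1 hp2,
        if_pos ⟨rfl, rfl⟩, mul_one, sub_self]
    · intro q hq hne
      obtain ⟨-, -, -, hq3, hq4⟩ := Finset.mem_filter.mp hq
      rw [classInner_smul_left, tiAlpha_inner_pair hcomm hq3 hp3 hq4 hp4 hp1 hp2,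
        if_neg fun h => hne (Prod.ext h.1 h.2), mul_zero]
    · exact fun h => absurd hp h
  have hgzero : ∀ v : ↥(W₁ ⊔ W₂), (v : G) ∈ W₁ ∨ (v : G) ∈ W₂ → g v = 0 := by
    intro v hv
    rw [hg, Pi.sub_apply, Finset.sum_apply, Finset.sum_eq_zero fun p hp => ?_, sub_zero]
    · simp only [hf, if_pos hv]
    · obtain ⟨-, -, -, hp3, hp4⟩ := Finset.mem_filter.mp hp
      rw [Pi.smul_apply, tiAlpha_eq_zero hp3 hp4 hv, smul_zero]
  have hlin : ∀ χ : IrrCharacter ↥(W₁ ⊔ W₂), ∃ l : ↥(W₁ ⊔ W₂) →* ℂˣ,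
      (χ : ↥(W₁ ⊔ W₂) → ℂ) = fun v => (l v : ℂ) := fun χ =>
    exists_hom_of_degree_one (irr_isCharacter χ.2) (forall_linear_iff_comm.mp hab χ)
  choose l hl using hlin
  have hexp : ∀ v, g v = ∑ χ : IrrCharacter ↥(W₁ ⊔ W₂),
      classInner g (χ : ↥(W₁ ⊔ W₂) → ℂ) * (l χ v : ℂ) := by
    intro v
    conv_lhs => rw [classFun_expansion (hcf g)]
    rw [Finset.sum_apply]
    exact Finset.sum_congr rfl fun χ _ => by rw [Pi.smul_apply, smul_eq_mul, hl χ]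
  have hsupp : ∀ χ : IrrCharacter ↥(W₁ ⊔ W₂), classInner g (χ : ↥(W₁ ⊔ W₂) → ℂ) ≠ 0 →
      (∀ v : ↥(W₁ ⊔ W₂), (v : G) ∈ W₁ → l χ v = 1) ∨ (∀ v : ↥(W₁ ⊔ W₂), (v : G) ∈ W₂ → l χ v = 1) := by
    intro χ hχ
    obtain ⟨φ, ψ, hφ, hψ, e⟩ := ti_exists_split hdisj hcomm (l χ)
    by_cases h1 : φ = 1
    · left
      intro v hv
      simp [e, h1, hψ v hv]
    by_cases h2 : ψ = 1
    · right
      intro v hv
      simp [e, h2, hφ v hv]
    refine absurd ?_ hχ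
    rw [hl χ, e]
    exact hgorth (φ, ψ) (Finset.mem_filter.mpr ⟨Finset.mem_univ _, h1, h2, hφ, hψ⟩)
  set S := (Finset.univ : Finset (IrrCharacter ↥(W₁ ⊔ W₂))).filter
    fun χ => ∀ v : ↥(W₁ ⊔ W₂), (v : G) ∈ W₁ → l χ v = 1 with hS
  have hsplit : ∀ a b : ↥(W₁ ⊔ W₂), (a : G) ∈ W₁ → (b : G) ∈ W₂ → g (a * b) =
      (∑ χ ∈ S, classInner g (χ : ↥(W₁ ⊔ W₂) → ℂ) * (l χ b : ℂ)) +
        ∑ χ ∈ Sᶜ, classInner g (χ : ↥(W₁ ⊔ W₂) → ℂ) * (l χ a : ℂ) := by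
    intro a b ha hb
    rw [hexp, ← Finset.sum_add_sum_compl S]
    congr 1
    · refine Finset.sum_congr rfl fun χ hχ => ?_
      rw [map_mul, (Finset.mem_filter.mp hχ).2 a ha, one_mul]
    · refine Finset.sum_congr rfl fun χ hχ => ?_
      rcases eq_or_ne (classInner g (χ : ↥(W₁ ⊔ W₂) → ℂ)) 0 with h | h
      · rw [h, zero_mul, zero_mul]
      · have hn : ∀ v : ↥(W₁ ⊔ W₂), (v : G) ∈ W₂ → l χ v = 1 :=
          (hsupp χ h).resolve_left fun h' =>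
            (Finset.mem_compl.mp hχ) (Finset.mem_filter.mpr ⟨Finset.mem_univ _, h'⟩)
        rw [map_mul, hn b hb, mul_one]
  obtain ⟨a, ha, b, hb, e⟩ := ti_exists_mul hcomm w.2
  let a' : ↥(W₁ ⊔ W₂) := ⟨a, Subgroup.mem_sup_left ha⟩
  let b' : ↥(W₁ ⊔ W₂) := ⟨b, Subgroup.mem_sup_right hb⟩
  have hw' : w = a' * b' := Subtype.ext e
  have e1 := hsplit a' 1 ha (one_mem W₂)
  have e2 := hsplit 1 b' (one_mem W₁) hb
  have e3 := hsplit 1 1 (one_mem W₁) (one_mem W₂)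
  have e4 := hsplit a' b' ha hb
  rw [mul_one, hgzero a' (Or.inl ha)] at e1
  rw [one_mul, hgzero b' (Or.inr hb)] at e2
  rw [mul_one, hgzero 1 (Or.inl (one_mem W₁))] at e3
  have hgw : g w = 0 := by
    rw [hw']
    linear_combination e4 - e1 - e2 + e3
  have hgall : g = 0 := by
    funext v
    by_cases hv : (v : G) ∈ W₁ ∨ (v : G) ∈ W₂
    · exact hgzero v hv
    · obtain ⟨a, ha, b, hb, e⟩ := ti_exists_mul hcomm v.2
      let a' : ↥(W₁ ⊔ W₂) := ⟨a, Subgroup.mem_sup_left ha⟩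
      let b' : ↥(W₁ ⊔ W₂) := ⟨b, Subgroup.mem_sup_right hb⟩
      have e1 := hsplit a' 1 ha (one_mem W₂)
      have e2 := hsplit 1 b' (one_mem W₁) hb
      have e4 := hsplit a' b' ha hb
      rw [mul_one, hgzero a' (Or.inl ha)] at e1
      rw [one_mul, hgzero b' (Or.inr hb)] at e2
      rw [show v = a' * b' from Subtype.ext e, Pi.zero_apply]
      linear_combination e4 - e1 - e2 + e3
  have hff : classInner f f = 0 := by
    have hfg : f = ∑ p ∈ P, classInner f (fun v => ((p.1 * p.2) v : ℂ)) • tiAlpha p.1 p.2 :=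
      sub_eq_zero.mp hgall
    conv_lhs => arg 1; rw [hfg]
    rw [classInner_sum_left]
    refine Finset.sum_eq_zero fun p hp => ?_
    obtain ⟨-, hp1, hp2, hp3, hp4⟩ := Finset.mem_filter.mp hp
    rw [classInner_smul_left]
    have : classInner (tiAlpha p.1 p.2) f = classInner (tiAlpha p.1 p.2) F := by
      simp only [classInner]
      congr 1
      refine Finset.sum_congr rfl fun v _ => ?_
      by_cases hv : (v : G) ∈ W₁ ∨ (v : G) ∈ W₂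
      · rw [tiAlpha_eq_zero hp3 hp4 hv, zero_mul, zero_mul]
      · simp only [hf, if_neg hv]
    rw [this, horth p.1 p.2 hp1 hp2 hp3 hp4, mul_zero]
  have := congrFun (classInner_self_eq_zero hff) w
  simpa [hf, hw₁, hw₂] using this

omit [Fintype ↥(W₁ ⊔ W₂)] in
theorem mem_of_pow_card [Finite G] {K W : Subgroup G} (hKW : K ≤ W) (hc : IsCyclic W) {x : G}
    (hx : x ∈ W) (hpow : x ^ Nat.card K = 1) : x ∈ K := by
  classical
  haveI := Fintype.ofFinite W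
  haveI := hc
  set S := (Finset.univ : Finset W).filter fun v => v ^ Nat.card K = 1
  set T : Finset W := (Finset.univ : Finset W).filter fun v : W => (v : G) ∈ K
  have hTS : T ⊆ S := fun v hv => by
    have hv' := (Finset.mem_filter.mp hv).2
    exact Finset.mem_filter.mpr ⟨Finset.mem_univ _, Subtype.ext
      (congrArg (fun k : K => (k : G)) (pow_card_eq_one' (x := (⟨(v : G), hv'⟩ : K))))⟩
  have hT : T.card = Nat.card K := by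
    rw [← Fintype.card_subtype, ← Nat.card_eq_fintype_card]
    exact Nat.card_congr
      { toFun := fun v => ⟨(v.1 : G), v.2⟩
        invFun := fun k => ⟨⟨k.1, hKW k.2⟩, k.2⟩
        left_inv := fun v => rfl
        right_inv := fun k => rfl }
  have hS : S.card ≤ Nat.card K := IsCyclic.card_pow_eq_one_le Nat.card_pos
  have hxS : (⟨x, hx⟩ : W) ∈ T := (Finset.eq_of_subset_of_card_le hTS (hT ▸ hS)) ▸
    Finset.mem_filter.mpr ⟨Finset.mem_univ _, Subtype.ext hpow⟩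
  exact (Finset.mem_filter.mp hxS).2

/-- The elements of `W₁ ⊔ W₂` outside both factors. -/
def tiV (W₁ W₂ : Subgroup G) : Set G := (↑(W₁ ⊔ W₂) : Set G) \ (↑W₁ ∪ ↑W₂)

omit [Fintype ↥(W₁ ⊔ W₂)] in
theorem tiV_normalizer (hW : IsSelfNormalizingCyclic W₁ W₂) :
    Subgroup.normalizer (tiV W₁ W₂) = W₁ ⊔ W₂ := by
  obtain ⟨h1, h2, hdisj, -, -, hN⟩ := hW
  refine hN _ (Set.Subset.refl _) ?_
  obtain ⟨a, ha, ha1⟩ := W₁.bot_or_exists_ne_one.resolve_left h1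
  obtain ⟨b, hb, hb1⟩ := W₂.bot_or_exists_ne_one.resolve_left h2
  refine ⟨a * b, Subgroup.mul_mem_sup ha hb, ?_⟩
  rintro (h | h)
  · exact hb1 (Subgroup.mem_bot.mp (hdisj ▸ ⟨(W₁.mul_mem_cancel_left ha).mp h, hb⟩ :
      b ∈ (⊥ : Subgroup G)))
  · exact ha1 (Subgroup.mem_bot.mp (hdisj ▸ ⟨ha, (W₂.mul_mem_cancel_right hb).mp h⟩ :
      a ∈ (⊥ : Subgroup G)))

omit [Fintype ↥(W₁ ⊔ W₂)] in
theorem tiV_ti [Finite G] (hW : IsSelfNormalizingCyclic W₁ W₂) {g : G}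
    (hg : g ∉ Subgroup.normalizer (tiV W₁ W₂)) {t : G} (ht : t ∈ tiV W₁ W₂)
    (hgt : g * t * g⁻¹ ∈ tiV W₁ W₂) : False := by
  have hVN := tiV_normalizer hW
  obtain ⟨-, -, -, -, hcyc, hN⟩ := hW
  have n1 := hN {t} (Set.singleton_subset_iff.mpr ht) (Set.singleton_nonempty t)
  have n2 := hN {g * t * g⁻¹} (Set.singleton_subset_iff.mpr hgt) (Set.singleton_nonempty _)
  have hmem : ∀ w : G, w ∈ W₁ ⊔ W₂ ↔ g * w * g⁻¹ ∈ W₁ ⊔ W₂ := by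
    intro w
    conv_lhs => rw [← n1]
    conv_rhs => rw [← n2]
    rw [Subgroup.normalizer_singleton, Subgroup.normalizer_singleton,
      Subgroup.mem_centralizer_singleton_iff, Subgroup.mem_centralizer_singleton_iff]
    constructor <;> intro h
    · calc g * w * g⁻¹ * (g * t * g⁻¹) = g * (w * t) * g⁻¹ := by group
        _ = g * t * g⁻¹ * (g * w * g⁻¹) := by rw [h]; group
    · calc w * t = g⁻¹ * (g * w * g⁻¹ * (g * t * g⁻¹)) * g := by group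
        _ = t * w := by rw [h]; group
  have hsub : ∀ K : Subgroup G, K ≤ W₁ ⊔ W₂ → ∀ w, w ∈ K ↔ g * w * g⁻¹ ∈ K := by
    intro K hK w
    constructor <;> intro h
    · refine mem_of_pow_card hK hcyc ((hmem w).mp (hK h)) ?_
      rw [conj_pow, show w ^ Nat.card K = 1 from
        congrArg Subtype.val (pow_card_eq_one' (x := (⟨w, h⟩ : K)))]
      group
    · refine mem_of_pow_card hK hcyc ((hmem w).mpr (hK h)) ?_
      have h2 : (g * w * g⁻¹) ^ Nat.card K = 1 :=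
        congrArg Subtype.val (pow_card_eq_one' (x := (⟨_, h⟩ : K)))
      rw [conj_pow, conj_eq_one_iff] at h2
      exact h2
  refine hg fun w => ?_
  simp only [tiV, Set.mem_diff, Set.mem_union, SetLike.mem_coe]
  rw [hmem w, hsub W₁ le_sup_left w, hsub W₂ le_sup_right w]

omit [Fintype ↥(W₁ ⊔ W₂)] in
theorem classInner_indFun_ti' [Fintype G] {T : Set G} {W : Subgroup G}
    (hNT : Subgroup.normalizer T = W)
    (hTI : ∀ g : G, g ∉ Subgroup.normalizer T → ∀ t ∈ T, g * t * g⁻¹ ∈ T → t = 1) [Fintype W]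
    (ψ θ : W → ℂ) (hψT : ∀ x : W, (x : G) ∉ T → ψ x = 0) (hθ : IsClassFunction W θ)
    (hθT : ∀ x : W, (x : G) ∉ T → θ x = 0) (hψ1 : ψ 1 = 0) :
    classInner (indFun W ψ) (indFun W θ) = classInner ψ θ := by
  subst hNT
  exact classInner_indFun_ti T hTI ψ θ hψT hθ hθT hψ1

/-- The relation between the family and the induced virtual characters. -/
theorem tiFamily_alpha_inner [Fintype G]
    {χ : (↥(W₁ ⊔ W₂) →* ℂˣ) → (G → ℂ)} (hχ : IsCyclicTIFamily W₁ W₂ χ) {θ : G → ℂ}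
    (hθ : IsClassFunction G θ) (φ ψ : ↥(W₁ ⊔ W₂) →* ℂˣ) (h1 : φ ≠ 1) (h2 : ψ ≠ 1)
    (hφ : ∀ w : ↥(W₁ ⊔ W₂), (w : G) ∈ W₂ → φ w = 1)
    (hψ : ∀ w : ↥(W₁ ⊔ W₂), (w : G) ∈ W₁ → ψ w = 1) :
    classInner θ (χ 1) - classInner θ (χ φ) - classInner θ (χ ψ) + classInner θ (χ (φ * ψ)) =
      classInner (fun w : ↥(W₁ ⊔ W₂) => θ w) (tiAlpha φ ψ) := by
  rw [← frobenius_right (W₁ ⊔ W₂) (tiAlpha φ ψ) hθ]
  have e : indFun (W₁ ⊔ W₂) (tiAlpha φ ψ) = χ 1 - χ φ - χ ψ + χ (φ * ψ) := by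
    unfold tiAlpha
    rw [hχ.induced_eq φ ψ h1 h2 hφ hψ, hχ.map_one]
    rfl
  rw [e, classInner_add_right, classInner_sub_right, classInner_sub_right]

end Cfsg.Agent.Char
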