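import Mathlib

/-!
Grids of three-element sets of signed vectors, as they occur for cyclic TI subgroups.
-/

set_option linter.unusedSectionVars false

namespace Cfsg.Agent.Char.TIGrid

variable {V : Type*} [InvolutiveNeg V]

/-- No element and its negative. -/
def NoNeg (A : Finset V) : Prop := ∀ v ∈ A, -v ∉ A

/-- Exactly one common element and no opposite ones. -/
def P (A B : Finset V) : Prop :=
  (∃ v, v ∈ A ∧ v ∈ B ∧ ∀ w ∈ A, w ∈ B → w = v) ∧ ∀ v ∈ A, -v ∉ B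

/-- Nothing in common, or one common and one opposite element. -/
def Q (A B : Finset V) : Prop :=
  (∀ v ∈ A, v ∉ B ∧ -v ∉ B) ∨ ∃ a b, a ∈ A ∧ a ∈ B ∧ b ∈ A ∧ -b ∈ B ∧
    (∀ v ∈ A, v ∈ B → v = a) ∧ ∀ v ∈ A, -v ∈ B → v = b

theorem P.symm {A B : Finset V} (h : P A B) : P B A := by
  obtain ⟨⟨v, h1, h2, h3⟩, h4⟩ := h
  exact ⟨⟨v, h2, h1, fun w hw hw' => h3 w hw' hw⟩, fun w hw hw' => h4 (-w) hw' (by rwa [neg_neg])⟩

theorem Q.symm {A B : Finset V} (h : Q A B) : Q B A := by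
  rcases h with h | ⟨a, b, h1, h2, h3, h4, h5, h6⟩
  · exact Or.inl fun v hv => ⟨fun hv' => (h v hv').1 hv, fun hv' => (h (-v) hv').2 (by rwa [neg_neg])⟩
  · refine Or.inr ⟨a, -b, h2, h1, h4, by rwa [neg_neg], fun v hv hv' => h5 v hv' hv, fun v hv hv' => ?_⟩
    rw [← h6 (-v) hv' (by rwa [neg_neg]), neg_neg]

theorem P.one {A B : Finset V} (h : P A B) {u v : V} (h1 : u ∈ A) (h2 : u ∈ B) (h3 : v ∈ A) (h4 : v ∈ B) :
    u = v := by
  obtain ⟨⟨w, -, -, h5⟩, -⟩ := h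
  rw [h5 u h1 h2, h5 v h3 h4]

theorem Q.one {A B : Finset V} (h : Q A B) {u v : V} (h1 : u ∈ A) (h2 : u ∈ B) (h3 : v ∈ A) (h4 : v ∈ B) :
    u = v := by
  rcases h with h | ⟨a, b, -, -, -, -, h5, -⟩
  · exact absurd h2 (h u h1).1
  · rw [h5 u h1 h2, h5 v h3 h4]

theorem Q.oneNeg {A B : Finset V} (h : Q A B) {u v : V} (h1 : u ∈ A) (h2 : -u ∈ B) (h3 : v ∈ A) (h4 : -v ∈ B) :
    u = v := by
  rcases h with h | ⟨a, b, -, -, -, -, -, h6⟩
  · exact absurd h2 (h u h1).2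
  · rw [h6 u h1 h2, h6 v h3 h4]

theorem Q.opp {A B : Finset V} (hB : NoNeg B) (h : Q A B) {a : V} (h1 : a ∈ A) (h2 : a ∈ B) :
    ∃ b, b ∈ A ∧ -b ∈ B ∧ b ≠ a := by
  rcases h with h | ⟨a', b, -, -, h3, h4, -, -⟩
  · exact absurd h2 (h a h1).1
  · exact ⟨b, h3, h4, fun e => hB a h2 (e ▸ h4)⟩

theorem Q.com {A B : Finset V} (hB : NoNeg B) (h : Q A B) {b : V} (h1 : b ∈ A) (h2 : -b ∈ B) :
    ∃ a, a ∈ A ∧ a ∈ B ∧ a ≠ b := by
  rcases h with h | ⟨a, b', h3, h4, -, -, -, -⟩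
  · exact absurd h2 (h b h1).2
  · exact ⟨a, h3, h4, fun e => hB a h4 (e ▸ h2)⟩

theorem exists_third [DecidableEq V] {A : Finset V} (h3 : A.card = 3) {u v : V} (hu : u ∈ A) (hv : v ∈ A)
    (huv : u ≠ v) : ∃ w, w ∈ A ∧ w ≠ u ∧ w ≠ v ∧ ∀ t ∈ A, t = u ∨ t = v ∨ t = w := by
  have h1 : ((A.erase u).erase v).card = 1 := by
    rw [Finset.card_erase_of_mem (Finset.mem_erase.2 ⟨huv.symm, hv⟩), Finset.card_erase_of_mem hu, h3]
  obtain ⟨w, hw⟩ := Finset.card_eq_one.1 h1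
  have hmem : w ∈ (A.erase u).erase v := hw ▸ Finset.mem_singleton_self w
  simp only [Finset.mem_erase] at hmem
  refine ⟨w, hmem.2.2, hmem.2.1, hmem.1, fun t ht => ?_⟩
  by_contra hcon
  push Not at hcon
  have : t ∈ (A.erase u).erase v := Finset.mem_erase.2 ⟨hcon.2.1, Finset.mem_erase.2 ⟨hcon.1, ht⟩⟩
  rw [hw, Finset.mem_singleton] at this
  exact hcon.2.2 this

theorem mem_three [DecidableEq V] {A : Finset V} (h3 : A.card = 3) {u v w : V} (hu : u ∈ A) (hv : v ∈ A) (hw : w ∈ A)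
    (h1 : u ≠ v) (h2 : u ≠ w) (h3' : v ≠ w) {t : V} (ht : t ∈ A) : t = u ∨ t = v ∨ t = w := by
  obtain ⟨w', -, -, -, h⟩ := exists_third h3 hu hv h1
  rcases h w hw with e | e | e
  · exact absurd e.symm h2
  · exact absurd e.symm h3'
  · rw [e]; exact h t ht

/-- Two orthogonal sets sharing elements, and the two corners. -/
structure Conf [DecidableEq V] (A B X Y : Finset V) (a b c d : V) : Prop where
  cA : A.card = 3
  cB : B.card = 3
  cX : X.card = 3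
  cY : Y.card = 3
  nA : NoNeg A
  nB : NoNeg B
  nX : NoNeg X
  nY : NoNeg Y
  aA : a ∈ A
  aB : a ∈ B
  bA : b ∈ A
  bB : -b ∈ B
  cmem : c ∈ A
  dmem : d ∈ B
  ab : a ≠ b
  ca : c ≠ a
  cb : c ≠ b
  da : d ≠ a
  db : d ≠ -b
  allA : ∀ t ∈ A, t = a ∨ t = b ∨ t = c
  allB : ∀ t ∈ B, t = a ∨ t = -b ∨ t = d
  qAB : Q A B
  pAX : P A X
  pBX : P B X
  pAY : P A Y
  pBY : P B Y
  qXY : Q X Y

variable [DecidableEq V] {A B X Y : Finset V} {a b c d : V}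

theorem Conf.c_ne_d (h : Conf A B X Y a b c d) : c ≠ d := fun e =>
  h.ca (h.qAB.one h.cmem (e ▸ h.dmem) h.aA h.aB)

theorem Conf.b_ne_d (h : Conf A B X Y a b c d) : b ≠ d := fun e => h.nB d h.dmem (e ▸ h.bB)

theorem Conf.swapXY (h : Conf A B X Y a b c d) : Conf A B Y X a b c d :=
  ⟨h.cA, h.cB, h.cY, h.cX, h.nA, h.nB, h.nY, h.nX, h.aA, h.aB, h.bA, h.bB, h.cmem, h.dmem, h.ab, h.ca, h.cb,
    h.da, h.db, h.allA, h.allB, h.qAB, h.pAY, h.pBY, h.pAX, h.pBX, h.qXY.symm⟩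

theorem Conf.swapAB (h : Conf A B X Y a b c d) : Conf B A Y X a (-b) d c :=
  ⟨h.cB, h.cA, h.cY, h.cX, h.nB, h.nA, h.nY, h.nX, h.aB, h.aA, h.bB, by rw [neg_neg]; exact h.bA, h.dmem, h.cmem,
    fun e => h.nB a h.aB (by have := congrArg (- ·) e; simp only [neg_neg] at this; exact absurd this.symm (fun e' => h.nA a h.aA (e' ▸ h.bA))),
    h.da, h.db, h.ca, by rw [neg_neg]; exact h.cb, h.allB, by rw [neg_neg]; exact h.allA, h.qAB.symm, h.pBY,
    h.pAY, h.pBX, h.pAX, h.qXY.symm⟩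

theorem Conf.corner (h : Conf A B X Y a b c d) : a ∈ X ∨ (c ∈ X ∧ d ∈ X ∧ a ∉ X) := by
  by_cases ha : a ∈ X
  · exact Or.inl ha
  right
  obtain ⟨u, hu, hu', -⟩ := h.pAX.1
  obtain ⟨v, hv, hv', -⟩ := h.pBX.1
  have hc : c ∈ X := by
    rcases h.allA u hu with e | e | e
    · exact absurd (e ▸ hu') ha
    · exact absurd (show -(-b) ∈ X by rw [neg_neg]; exact e ▸ hu') (h.pBX.2 _ h.bB)
    · exact e ▸ hu'
  have hd : d ∈ X := by
    rcases h.allB v hv with e | e | e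
    · exact absurd (e ▸ hv') ha
    · exact absurd (e ▸ hv') (h.pAX.2 _ h.bA)
    · exact e ▸ hv'
  exact ⟨hc, hd, ha⟩

theorem Conf.case_one (h : Conf A B X Y a b c d) (haX : a ∈ X) (hc : c ∈ Y) (hd : d ∈ Y)
    (Z W : Finset V) (hZn : NoNeg Z) (hWn : NoNeg W)
    (pAZ : P A Z) (pAW : P A W) (pXZ : P X Z) (pXW : P X W) (qBZ : Q B Z) (qBW : Q B W) (qYZ : Q Y Z) (qYW : Q Y W)
    (hZ3 : Z.card = 3) (hW3 : W.card = 3) (pZW : P Z W) : False := by
  obtain ⟨z, hz, hzc, hzd, hY⟩ := exists_third h.cY hc hd h.c_ne_d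
  have key : ∀ Z : Finset V, NoNeg Z → Z.card = 3 → P A Z → P X Z → Q B Z → Q Y Z →
      (a ∈ Z ∧ -d ∈ Z ∧ z ∈ Z) ∨ (c ∈ Z ∧ -z ∈ Z) := by
    intro Z hZn hZ3 pAZ pXZ qBZ qYZ
    by_cases ha : a ∈ Z
    · left
      obtain ⟨v, hv, hv', hva⟩ := qBZ.opp hZn h.aB ha
      have hdZ : -d ∈ Z := by
        rcases h.allB v hv with e | e | e
        · exact absurd e hva
        · rw [e, neg_neg] at hv'
          exact absurd (pAZ.one h.aA ha h.bA hv') h.ab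
        · exact e ▸ hv'
      obtain ⟨w, hw, hw', hwd⟩ := qYZ.com hZn hd hdZ
      rcases hY w hw with e | e | e
      · exact absurd (pAZ.one h.cmem (e ▸ hw') h.aA ha) h.ca
      · exact absurd e hwd
      · exact ⟨ha, hdZ, e ▸ hw'⟩
    right
    obtain ⟨u, hu, hu', -⟩ := pAZ.1
    rcases h.allA u hu with e | e | e
    · exact absurd (e ▸ hu') ha
    · -- the element `b`
      exfalso
      have hbZ : b ∈ Z := e ▸ hu'
      obtain ⟨t, ht, ht', htb⟩ := qBZ.com hZn h.bB (by rw [neg_neg]; exact hbZ)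
      have hdZ : d ∈ Z := by
        rcases h.allB t ht with e | e | e
        · exact absurd (e ▸ ht') ha
        · exact absurd e htb
        · exact e ▸ ht'
      obtain ⟨v, hv, hv', hvd⟩ := qYZ.opp hZn hd hdZ
      have hzZ : -z ∈ Z := by
        rcases hY v hv with e | e | e
        · exact absurd (e ▸ hv') (pAZ.2 _ h.cmem)
        · exact absurd e hvd
        · exact e ▸ hv'
      have n1 : b ≠ -z := fun e => h.pAY.2 _ h.bA (by rw [e, neg_neg]; exact hz)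
      have n2 : d ≠ -z := fun e => h.nY d hd (by rw [e, neg_neg]; exact hz)
      obtain ⟨w, hw, hw', -⟩ := pXZ.1
      rcases mem_three hZ3 hbZ hdZ hzZ h.b_ne_d n1 n2 hw' with e | e | e
      · exact h.ab (h.pAX.one h.aA haX h.bA (e ▸ hw))
      · exact h.da (h.pBX.one h.dmem (e ▸ hw) h.aB haX)
      · obtain ⟨t', ht1, ht2, -⟩ := h.qXY.com h.nY hw (by rw [e, neg_neg]; exact hz)
        rcases hY t' ht2 with e' | e' | e'
        · exact h.ca (h.pAX.one h.cmem (e' ▸ ht1) h.aA haX)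
        · exact h.da (h.pBX.one h.dmem (e' ▸ ht1) h.aB haX)
        · exact h.nX z (e' ▸ ht1) (e ▸ hw)
    · have hcZ : c ∈ Z := e ▸ hu'
      obtain ⟨v, hv, hv', hvc⟩ := qYZ.opp hZn hc hcZ
      rcases hY v hv with e' | e' | e'
      · exact absurd e' hvc
      · exfalso
        obtain ⟨t, ht, ht', htd⟩ := qBZ.com hZn h.dmem (e' ▸ hv')
        rcases h.allB t ht with f | f | f
        · exact ha (f ▸ ht')
        · exact pAZ.2 _ h.bA (f ▸ ht')
        · exact htd f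
      · exact ⟨hcZ, e' ▸ hv'⟩
  rcases key Z hZn hZ3 pAZ pXZ qBZ qYZ with ⟨z1, z2, z3⟩ | ⟨z1, z2⟩ <;>
    rcases key W hWn hW3 pAW pXW qBW qYW with ⟨w1, w2, w3⟩ | ⟨w1, w2⟩
  · exact h.nB d h.dmem ((pZW.one z1 w1 z2 w2) ▸ h.aB)
  · exact pZW.2 z z3 w2
  · exact pZW.2 (-z) z2 (by rw [neg_neg]; exact w3)
  · exact h.nY c hc (by rw [pZW.one z1 w1 z2 w2, neg_neg]; exact hz)

/-- The two possible exceptional shapes. -/
def BC (b c d x y y' : V) (Z : Finset V) : Prop :=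
  (b ∈ Z ∧ d ∈ Z ∧ y ∈ Z) ∨ (c ∈ Z ∧ x ∈ Z ∧ y' ∈ Z)

/-- The second case: both corners contain the common element. -/
structure Conf2 (A B X Y : Finset V) (a b c d x y y' : V) : Prop extends Conf A B X Y a b c d where
  aX : a ∈ X
  aY : a ∈ Y
  xX : x ∈ X
  xY : -x ∈ Y
  xa : x ≠ a
  yX : y ∈ X
  ya : y ≠ a
  yx : y ≠ x
  y'Y : y' ∈ Y
  y'a : y' ≠ a
  y'x : y' ≠ -x
  allX : ∀ t ∈ X, t = a ∨ t = x ∨ t = y
  allY : ∀ t ∈ Y, t = a ∨ t = -x ∨ t = y'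

variable {x y y' : V}

theorem Conf2.y_ne (h : Conf2 A B X Y a b c d x y y') : y ≠ y' := fun e =>
  h.ya (h.qXY.one h.yX (e ▸ h.y'Y) h.aX h.aY)

theorem Conf2.exists_bc (h : Conf2 A B X Y a b c d x y y') (Z W : Finset V) (hZn : NoNeg Z) (hWn : NoNeg W)
    (hZ3 : Z.card = 3) (hW3 : W.card = 3)
    (pAZ : P A Z) (pAW : P A W) (pXZ : P X Z) (pXW : P X W) (qBZ : Q B Z) (qBW : Q B W) (qYZ : Q Y Z) (qYW : Q Y W)
    (pZW : P Z W) : BC b c d x y y' Z ∨ BC b c d x y y' W := by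
  have key : ∀ Z : Finset V, NoNeg Z → Z.card = 3 → P A Z → P X Z → Q B Z → Q Y Z →
      BC b c d x y y' Z ∨ (a ∈ Z ∧ -d ∈ Z ∧ -y' ∈ Z) ∨ (c ∈ Z ∧ y ∈ Z) := by
    intro Z hZn hZ3 pAZ pXZ qBZ qYZ
    by_cases ha : a ∈ Z
    · right; left
      obtain ⟨v, hv, hv', hva⟩ := qBZ.opp hZn h.aB ha
      have hdZ : -d ∈ Z := by
        rcases h.allB v hv with e | e | e
        · exact absurd e hva
        · rw [e, neg_neg] at hv'
          exact absurd (pAZ.one h.aA ha h.bA hv') h.ab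
        · exact e ▸ hv'
      obtain ⟨v', hv1, hv2, hva'⟩ := qYZ.opp hZn h.aY ha
      rcases h.allY v' hv1 with e | e | e
      · exact absurd e hva'
      · rw [e, neg_neg] at hv2
        exact absurd (pXZ.one h.xX hv2 h.aX ha) h.xa
      · exact ⟨ha, hdZ, e ▸ hv2⟩
    have hy' : x ∈ Z → y' ∈ Z := by
      intro hxZ
      obtain ⟨t, ht, ht', htx⟩ := qYZ.com hZn h.xY (by rw [neg_neg]; exact hxZ)
      rcases h.allY t ht with e | e | e
      · exact absurd (e ▸ ht') ha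
      · exact absurd e htx
      · exact e ▸ ht'
    obtain ⟨u, hu, hu', -⟩ := pAZ.1
    obtain ⟨w, hw, hw', -⟩ := pXZ.1
    rcases h.allA u hu with e | e | e
    · exact absurd (e ▸ hu') ha
    · have hbZ : b ∈ Z := e ▸ hu'
      obtain ⟨t, ht, ht', htb⟩ := qBZ.com hZn h.bB (by rw [neg_neg]; exact hbZ)
      have hdZ : d ∈ Z := by
        rcases h.allB t ht with e | e | e
        · exact absurd (e ▸ ht') ha
        · exact absurd e htb
        · exact e ▸ ht'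
      rcases h.allX w hw with f | f | f
      · exact absurd (f ▸ hw') ha
      · exfalso
        have hxZ : x ∈ Z := f ▸ hw'
        have n1 : b ≠ x := fun g => h.ab (h.pAX.one h.aA h.aX h.bA (g ▸ h.xX))
        have n2 : d ≠ x := fun g => h.da (h.pBX.one h.dmem (g ▸ h.xX) h.aB h.aX)
        rcases mem_three hZ3 hbZ hdZ hxZ h.b_ne_d n1 n2 (hy' hxZ) with g | g | g
        · exact h.ab (h.pAY.one h.aA h.aY h.bA (g ▸ h.y'Y))
        · exact h.da (h.pBY.one h.dmem (g ▸ h.y'Y) h.aB h.aY)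
        · exact h.nY (-x) h.xY (by rw [neg_neg]; exact g ▸ h.y'Y)
      · exact Or.inl (Or.inl ⟨hbZ, hdZ, f ▸ hw'⟩)
    · have hcZ : c ∈ Z := e ▸ hu'
      rcases h.allX w hw with f | f | f
      · exact absurd (f ▸ hw') ha
      · exact Or.inl (Or.inr ⟨hcZ, f ▸ hw', hy' (f ▸ hw')⟩)
      · exact Or.inr (Or.inr ⟨hcZ, f ▸ hw'⟩)
  have hAD : ∀ Z W : Finset V, NoNeg W → Z.card = 3 → NoNeg Z → P A W → P X W → Q B W → Q Y W → P Z W →
      a ∈ Z → -d ∈ Z → -y' ∈ Z → c ∈ W → y ∈ W → False := by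
    intro Z W hWn hZ3 hZn pAW pXW qBW qYW pZW z1 z2 z3 w1 w2
    have haW : a ∉ W := fun e => h.ca (pAW.one h.cmem w1 h.aA e)
    obtain ⟨t, ht, ht', -⟩ := pZW.1
    have n1 : a ≠ -d := fun e => h.nB d h.dmem (e ▸ h.aB)
    have n2 : a ≠ -y' := fun e => h.nY y' h.y'Y (e ▸ h.aY)
    have n3 : -d ≠ -y' := fun e => h.da (h.pBY.one h.dmem (neg_inj.1 e ▸ h.y'Y) h.aB h.aY)
    rcases mem_three hZ3 z1 z2 z3 n1 n2 n3 ht with e | e | e
    · exact haW (e ▸ ht')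
    · obtain ⟨s, hs, hs', hsd⟩ := qBW.com hWn h.dmem (e ▸ ht')
      rcases h.allB s hs with f | f | f
      · exact haW (f ▸ hs')
      · exact pAW.2 _ h.bA (f ▸ hs')
      · exact hsd f
    · obtain ⟨s, hs, hs', hsd⟩ := qYW.com hWn h.y'Y (e ▸ ht')
      rcases h.allY s hs with f | f | f
      · exact haW (f ▸ hs')
      · exact pXW.2 _ h.xX (f ▸ hs')
      · exact hsd f
  rcases key Z hZn hZ3 pAZ pXZ qBZ qYZ with h1 | ⟨z1, z2, z3⟩ | ⟨z1, z2⟩
  · exact Or.inl h1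
  · rcases key W hWn hW3 pAW pXW qBW qYW with h2 | ⟨w1, w2, w3⟩ | ⟨w1, w2⟩
    · exact Or.inr h2
    · exact absurd ((pZW.one z1 w1 z2 w2) ▸ h.aB) (h.nB d h.dmem)
    · exact (hAD Z W hWn hZ3 hZn pAW pXW qBW qYW pZW z1 z2 z3 w1 w2).elim
  · rcases key W hWn hW3 pAW pXW qBW qYW with h2 | ⟨w1, w2, w3⟩ | ⟨w1, w2⟩
    · exact Or.inr h2
    · exact (hAD W Z hZn hW3 hWn pAZ pXZ qBZ qYZ pZW.symm w1 w2 w3 z1 z2).elim
    · exact absurd (pZW.one z1 w1 z2 w2) fun e => h.ca (h.pAX.one h.cmem (e ▸ h.yX) h.aA h.aX)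

theorem Conf2.false_of (h : Conf2 A B X Y a b c d x y y') (Z Z' : Finset V) (hZn' : NoNeg Z')
    (hZ3 : Z.card = 3) (hZ3' : Z'.card = 3) (hrel : P Z Z' ∨ Q Z Z') (hZ : BC b c d x y y' Z)
    (hZ' : BC (-b) d c (-x) y' y Z') : False := by
  have one : ∀ {u v : V}, u ∈ Z → u ∈ Z' → v ∈ Z → v ∈ Z' → u = v := fun h1 h2 h3 h4 =>
    hrel.elim (fun r => r.one h1 h2 h3 h4) (fun r => r.one h1 h2 h3 h4)
  have com : ∀ {v : V}, v ∈ Z → -v ∈ Z' → ∃ t, t ∈ Z ∧ t ∈ Z' := fun {v} h1 h2 =>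
    hrel.elim (fun r => absurd h2 (r.2 v h1)) (fun r => by
      obtain ⟨t, ht, ht', -⟩ := r.com hZn' h1 h2
      exact ⟨t, ht, ht'⟩)
  have e1 : b ≠ y := fun g => h.ab (h.pAX.one h.aA h.aX h.bA (g ▸ h.yX))
  have e2 : d ≠ y := fun g => h.da (h.pBX.one h.dmem (g ▸ h.yX) h.aB h.aX)
  have e3 : c ≠ y' := fun g => h.ca (h.pAY.one h.cmem (g ▸ h.y'Y) h.aA h.aY)
  have e4 : -b ≠ y' := fun g => h.nB a h.aB (by
    have := h.pBY.one h.bB (g ▸ h.y'Y) h.aB h.aY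
    exact absurd this (fun k => h.nA a h.aA (by rw [← k, neg_neg]; exact h.bA)))
  have e5 : c ≠ x := fun g => h.ca (h.pAX.one h.cmem (g ▸ h.xX) h.aA h.aX)
  have e6 : d ≠ -x := fun g => h.da (h.pBY.one h.dmem (g ▸ h.xY) h.aB h.aY)
  have e7 : b ≠ y' := fun g => h.ab (h.pAY.one h.aA h.aY h.bA (g ▸ h.y'Y))
  have e8 : d ≠ y' := fun g => h.da (h.pBY.one h.dmem (g ▸ h.y'Y) h.aB h.aY)
  have e9 : y ≠ c := fun g => h.ca (h.pAX.one h.cmem (g ▸ h.yX) h.aA h.aX)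
  have e10 : y ≠ -b := fun g => h.pAX.2 _ h.bA (g ▸ h.yX)
  rcases hZ with ⟨z1, z2, z3⟩ | ⟨z1, z2, z3⟩ <;> rcases hZ' with ⟨w1, w2, w3⟩ | ⟨w1, w2, w3⟩
  · obtain ⟨t, ht, ht'⟩ := com z1 w1
    rcases mem_three hZ3 z1 z2 z3 h.b_ne_d e1 e2 ht with rfl | rfl | rfl <;>
      rcases mem_three hZ3' w1 w2 w3 (fun g => h.nA c h.cmem (g ▸ by rw [neg_neg]; exact h.bA)) e4 e3 ht'
        with g | g | g
    · exact h.nB (-t) h.bB (by rw [neg_neg]; exact g ▸ h.bB)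
    · exact h.cb g.symm
    · exact e7 g
    · exact h.db g
    · exact h.c_ne_d g.symm
    · exact e8 g
    · exact e10 g
    · exact e9 g
    · exact h.y_ne g
  · exact e2 (one z2 w1 z3 w3)
  · exact e3 (one z1 w2 z3 w3)
  · obtain ⟨t, ht, ht'⟩ := com z2 w2
    have e11 : x ≠ y' := fun g => h.nY (-x) h.xY (by rw [neg_neg]; exact g ▸ h.y'Y)
    have e12 : -x ≠ y := fun g => h.nX x h.xX (g ▸ h.yX)
    rcases mem_three hZ3 z1 z2 z3 e5 e3 e11 ht with rfl | rfl | rfl <;>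
      rcases mem_three hZ3' w1 w2 w3 e6 e2 e12 ht' with g | g | g
    · exact h.c_ne_d g
    · exact h.pAX.2 _ h.cmem (by rw [g, neg_neg]; exact h.xX)
    · exact e9 g.symm
    · exact h.da (h.pBX.one h.dmem (g ▸ h.xX) h.aB h.aX)
    · exact h.nY (-t) h.xY (by rw [neg_neg]; exact g ▸ h.xY)
    · exact h.yx g.symm
    · exact e8 g.symm
    · exact h.y'x g
    · exact h.y_ne g.symm

/-- A grid. -/
structure Grid {I J : Type*} (f : I → J → Finset V) : Prop where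
  card : ∀ i j, (f i j).card = 3
  noNeg : ∀ i j, NoNeg (f i j)
  row : ∀ i j l, j ≠ l → P (f i j) (f i l)
  col : ∀ i k j, i ≠ k → P (f i j) (f k j)
  orth : ∀ i k j l, i ≠ k → j ≠ l → Q (f i j) (f k l)

variable {I J : Type*} {f : I → J → Finset V}

theorem Grid.transpose (h : Grid f) : Grid fun j i => f i j :=
  ⟨fun j i => h.card i j, fun j i => h.noNeg i j, fun j i k hik => h.col i k j hik,
    fun j l i hjl => h.row i j l hjl, fun j l i k hjl hik => h.orth i k j l hik hjl⟩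

theorem exists_two_others [Fintype J] [DecidableEq J] (hJ : 4 ≤ Fintype.card J) (j l : J) :
    ∃ u v : J, u ≠ v ∧ u ≠ j ∧ u ≠ l ∧ v ≠ j ∧ v ≠ l := by
  have h : 1 < (({j, l} : Finset J)ᶜ).card := by
    have h2 : ({j, l} : Finset J).card ≤ 2 := Finset.card_le_two
    rw [Finset.card_compl]
    omega
  obtain ⟨u, hu, v, hv, huv⟩ := Finset.one_lt_card.1 h
  simp only [Finset.mem_compl, Finset.mem_insert, Finset.mem_singleton, not_or] at hu hv
  exact ⟨u, v, huv, hu.1, hu.2, hv.1, hv.2⟩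

/-- Sets in different rows and different columns are disjoint. -/
theorem Grid.disjoint [Fintype J] (h : Grid f) (hJ : 4 ≤ Fintype.card J) {i k : I} {j l : J} (hik : i ≠ k)
    (hjl : j ≠ l) : ∀ v ∈ f i j, v ∉ f k l ∧ -v ∉ f k l := by
  classical
  rcases h.orth i k j l hik hjl with hd | ⟨a, b, aA, aB, bA, bB, -, -⟩
  · exact hd
  exfalso
  have hab : a ≠ b := fun e => h.noNeg k l a aB (e ▸ bB)
  have hanb : a ≠ -b := fun e => h.noNeg i j b bA (e ▸ aA)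
  obtain ⟨c, cA, hca, hcb, allA⟩ := exists_third (h.card i j) aA bA hab
  obtain ⟨d, dB, hda, hdb, allB⟩ := exists_third (h.card k l) aB bB hanb
  obtain ⟨u, v, huv, huj, hul, hvj, hvl⟩ := exists_two_others hJ j l
  have hconf : Conf (f i j) (f k l) (f i l) (f k j) a b c d :=
    ⟨h.card i j, h.card k l, h.card i l, h.card k j, h.noNeg i j, h.noNeg k l, h.noNeg i l, h.noNeg k j,
      aA, aB, bA, bB, cA, dB, hab, hca, hcb, hda, hdb, allA, allB, h.orth i k j l hik hjl,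
      h.row i j l hjl, h.col k i l hik.symm, h.col i k j hik, (h.row k j l hjl).symm, h.orth i k l j hik hjl.symm⟩
  rcases hconf.swapAB.corner with haY | ⟨hdY, hcY, -⟩
  · rcases hconf.corner with haX | ⟨hcX, hdX, -⟩
    · -- both corners contain `a`
      obtain ⟨x, hxX, hxY, hxa⟩ := hconf.qXY.opp (h.noNeg k j) haX haY
      have hxa' : a ≠ -x := fun e => h.noNeg i l x hxX (e ▸ haX)
      obtain ⟨y, hyX, hya, hyx, allX⟩ := exists_third (h.card i l) haX hxX hxa.symm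
      obtain ⟨y', hy', hy'a, hy'x, allY⟩ := exists_third (h.card k j) haY hxY hxa'
      have h2 : Conf2 (f i j) (f k l) (f i l) (f k j) a b c d x y y' :=
        ⟨hconf, haX, haY, hxX, hxY, hxa, hyX, hya, hyx, hy', hy'a, hy'x, allX, allY⟩
      have h2' : Conf2 (f k l) (f i j) (f k j) (f i l) a (-b) d c (-x) y' y :=
        ⟨hconf.swapAB, haY, haX, hxY, by rw [neg_neg]; exact hxX, hxa'.symm, hy', hy'a, hy'x, hyX, hya,
          by rw [neg_neg]; exact hyx, allY, by rw [neg_neg]; exact allX⟩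
      have r1 := h2.exists_bc (f i u) (f i v) (h.noNeg i u) (h.noNeg i v) (h.card i u) (h.card i v)
        (h.row i j u huj.symm) (h.row i j v hvj.symm) (h.row i l u hul.symm) (h.row i l v hvl.symm)
        (h.orth k i l u hik.symm hul.symm) (h.orth k i l v hik.symm hvl.symm)
        (h.orth k i j u hik.symm huj.symm) (h.orth k i j v hik.symm hvj.symm) (h.row i u v huv)
      have r2 := h2'.exists_bc (f k u) (f k v) (h.noNeg k u) (h.noNeg k v) (h.card k u) (h.card k v)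
        (h.row k l u hul.symm) (h.row k l v hvl.symm) (h.row k j u huj.symm) (h.row k j v hvj.symm)
        (h.orth i k j u hik huj.symm) (h.orth i k j v hik hvj.symm)
        (h.orth i k l u hik hul.symm) (h.orth i k l v hik hvl.symm) (h.row k u v huv)
      rcases r1 with r1 | r1 <;> rcases r2 with r2 | r2
      · exact h2.false_of _ _ (h.noNeg k u) (h.card i u) (h.card k u) (Or.inl (h.col i k u hik)) r1 r2
      · exact h2.false_of _ _ (h.noNeg k v) (h.card i u) (h.card k v) (Or.inr (h.orth i k u v hik huv)) r1 r2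
      · exact h2.false_of _ _ (h.noNeg k u) (h.card i v) (h.card k u) (Or.inr (h.orth i k v u hik huv.symm)) r1 r2
      · exact h2.false_of _ _ (h.noNeg k v) (h.card i v) (h.card k v) (Or.inl (h.col i k v hik)) r1 r2
    · -- the corner of the second row
      exact hconf.swapAB.case_one haY hdX hcX (f k u) (f k v) (h.noNeg k u) (h.noNeg k v)
        (h.row k l u hul.symm) (h.row k l v hvl.symm) (h.row k j u huj.symm) (h.row k j v hvj.symm)
        (h.orth i k j u hik huj.symm) (h.orth i k j v hik hvj.symm)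
        (h.orth i k l u hik hul.symm) (h.orth i k l v hik hvl.symm)
        (h.card k u) (h.card k v) (h.row k u v huv)
  · rcases hconf.corner with haX | ⟨hcX, hdX, -⟩
    · exact hconf.case_one haX hcY hdY (f i u) (f i v) (h.noNeg i u) (h.noNeg i v)
        (h.row i j u huj.symm) (h.row i j v hvj.symm) (h.row i l u hul.symm) (h.row i l v hvl.symm)
        (h.orth k i l u hik.symm hul.symm) (h.orth k i l v hik.symm hvl.symm)
        (h.orth k i j u hik.symm huj.symm) (h.orth k i j v hik.symm hvj.symm)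
        (h.card i u) (h.card i v) (h.row i u v huv)
    · exact hconf.c_ne_d (hconf.qXY.one hcX hcY hdX hdY)

/-- A row of at least four sets has a common element. -/
theorem Grid.row_common [Fintype J] (h : Grid f) (hJ : 4 ≤ Fintype.card J)
    (hd : ∀ i k j l, i ≠ k → j ≠ l → ∀ v ∈ f i j, v ∉ f k l ∧ -v ∉ f k l) {i k : I} (hik : i ≠ k) :
    ∃ p, ∀ j, p ∈ f i j := by
  classical
  obtain ⟨j₁, j₂, hj⟩ := Fintype.exists_pair_of_one_lt_card (show 1 < Fintype.card J by omega)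
  obtain ⟨p, hp1, hp2, -⟩ := (h.row i j₁ j₂ hj).1
  refine ⟨p, fun j₃ => ?_⟩
  by_contra hp3
  have h13 : j₁ ≠ j₃ := fun e => hp3 (e ▸ hp1)
  have h23 : j₂ ≠ j₃ := fun e => hp3 (e ▸ hp2)
  obtain ⟨q, hq1, hq3, -⟩ := (h.row i j₁ j₃ h13).1
  obtain ⟨r, hr2, hr3, -⟩ := (h.row i j₂ j₃ h23).1
  have hpq : p ≠ q := fun e => hp3 (e ▸ hq3)
  have hpr : p ≠ r := fun e => hp3 (e ▸ hr3)
  have hqr : q ≠ r := fun e => hpq ((h.row i j₁ j₂ hj).one hp1 hp2 hq1 (e ▸ hr2))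
  obtain ⟨j₄, h41, h42, h43⟩ : ∃ j₄, j₄ ≠ j₁ ∧ j₄ ≠ j₂ ∧ j₄ ≠ j₃ := by
    obtain ⟨j₄, hj4⟩ : (({j₁, j₂, j₃} : Finset J)ᶜ).Nonempty := by
      rw [← Finset.card_pos, Finset.card_compl]
      have : ({j₁, j₂, j₃} : Finset J).card ≤ 3 := Finset.card_le_three
      omega
    simp only [Finset.mem_compl, Finset.mem_insert, Finset.mem_singleton, not_or] at hj4
    exact ⟨j₄, hj4⟩
  -- the third element of each of the three sets is outside the fourth
  have third : ∀ j' p' q', p' ∈ f i j' → q' ∈ f i j' → p' ≠ q' → j₄ ≠ j' →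
      (∃ o, o ≠ j' ∧ p' ∈ f i o) → (∃ o, o ≠ j' ∧ q' ∈ f i o) → ∀ t ∈ f i j', t ∈ f i j₄ → t = p' ∨ t = q' := by
    rintro j' p' q' hp hq hne h4 ⟨o, ho, hpo⟩ ⟨o', ho', hqo⟩ t ht ht4
    obtain ⟨w, hw, hwk, -⟩ := (h.col i k j' hik).1
    have n1 : w ≠ p' := fun e => (hd i k o j' hik ho p' hpo).1 (e ▸ hwk)
    have n2 : w ≠ q' := fun e => (hd i k o' j' hik ho' q' hqo).1 (e ▸ hwk)
    rcases mem_three (h.card i j') hp hq hw hne n1.symm n2.symm ht with e | e | e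
    · exact Or.inl e
    · exact Or.inr e
    · exact absurd hwk (hd i k j₄ j' hik h4 w (e ▸ ht4)).1
  obtain ⟨s, hs1, hs4, -⟩ := (h.row i j₁ j₄ h41.symm).1
  obtain ⟨t, ht2, ht4, -⟩ := (h.row i j₂ j₄ h42.symm).1
  obtain ⟨o, ho3, ho4, -⟩ := (h.row i j₃ j₄ h43.symm).1
  have c1 := third j₁ p q hp1 hq1 hpq h41 ⟨j₂, hj.symm, hp2⟩ ⟨j₃, h13.symm, hq3⟩ s hs1 hs4
  have c2 := third j₂ p r hp2 hr2 hpr h42 ⟨j₁, hj, hp1⟩ ⟨j₃, h23.symm, hr3⟩ t ht2 ht4
  have c3 := third j₃ q r hq3 hr3 hqr h43 ⟨j₁, h13, hq1⟩ ⟨j₂, h23, hr2⟩ o ho3 ho4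
  rcases c1 with rfl | rfl <;> rcases c2 with rfl | rfl <;> rcases c3 with rfl | rfl
  · exact hpq ((h.row i j₁ j₄ h41.symm).one hs1 hs4 hq1 ho4)
  · exact hpr ((h.row i j₂ j₄ h42.symm).one hp2 hs4 hr2 ho4)
  · exact hpq ((h.row i j₁ j₄ h41.symm).one hs1 hs4 hq1 ho4)
  · exact hpr ((h.row i j₂ j₄ h42.symm).one hp2 hs4 hr2 ht4)
  · exact hpq ((h.row i j₁ j₄ h41.symm).one hp1 ht4 hq1 hs4)
  · exact hpr ((h.row i j₂ j₄ h42.symm).one hp2 ht4 hr2 ho4)
  · exact hqr ((h.row i j₃ j₄ h43.symm).one hq3 hs4 hr3 ht4)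
  · exact hqr ((h.row i j₃ j₄ h43.symm).one hq3 hs4 hr3 ht4)

/-- The structure of a grid. -/
theorem Grid.structure_of_four [Fintype I] [Fintype J] (h : Grid f) (hJ : 4 ≤ Fintype.card J)
    (hI : Fintype.card I = 2 ∨ 4 ≤ Fintype.card I) :
    ∃ (x : I → V) (y : J → V), (∀ i j, x i ∈ f i j ∧ y j ∈ f i j ∧ x i ≠ y j) ∧
      ∀ i k j l, i ≠ k → j ≠ l → ∀ v ∈ f i j, v ∉ f k l ∧ -v ∉ f k l := by
  classical
  have hd : ∀ i k j l, i ≠ k → j ≠ l → ∀ v ∈ f i j, v ∉ f k l ∧ -v ∉ f k l :=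
    fun i k j l h1 h2 => h.disjoint hJ h1 h2
  haveI : Nontrivial I := Fintype.one_lt_card_iff_nontrivial.1 (by omega)
  haveI : Nontrivial J := Fintype.one_lt_card_iff_nontrivial.1 (by omega)
  have hrow : ∀ i, ∃ p, ∀ j, p ∈ f i j := fun i => by
    obtain ⟨k, hk⟩ := exists_ne i
    exact h.row_common hJ hd hk.symm
  have hcol : ∀ j, ∃ p, ∀ i, p ∈ f i j := by
    intro j
    rcases hI with hI | hI
    · obtain ⟨a, b, hab, hu⟩ := Nat.card_eq_two_iff.1 ((Nat.card_eq_fintype_card (α := I)).trans hI)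
      obtain ⟨p, hp, hp', -⟩ := (h.col a b j hab).1
      refine ⟨p, fun i => ?_⟩
      have : i ∈ ({a, b} : Set I) := hu ▸ Set.mem_univ i
      rcases this with rfl | rfl
      · exact hp
      · exact hp'
    · obtain ⟨l, hl⟩ := exists_ne j
      exact h.transpose.row_common hI (fun a b c d h1 h2 => hd c d a b h2 h1) hl.symm
  choose x hx using hrow
  choose y hy using hcol
  refine ⟨x, y, fun i j => ⟨hx i j, hy j i, fun e => ?_⟩, hd⟩
  obtain ⟨k, hk⟩ := exists_ne i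
  obtain ⟨l, hl⟩ := exists_ne j
  exact (hd i k l j hk.symm hl (x i) (hx i l)).1 (e ▸ hy j k)

end Cfsg.Agent.Char.TIGrid
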