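import Cfsg.Agent.S1505
import Cfsg.Agent.Lib.Char.TIGrid
import Cfsg.Agent.Lib.Char.Exceptional
import Cfsg.Agent.Lib.Char.CyclicTI

/-!
# Existence of the family of signed characters attached to a cyclic TI subgroup
-/

set_option autoImplicit false
set_option linter.unusedSectionVars false
set_option linter.style.haveILetI false

namespace Cfsg.Agent.Char

open Cfsg

universe u

variable {G : Type u} [Group G]

/-- An irreducible character up to sign. -/
def IsSignedIrr (v : G → ℂ) : Prop := IsIrrCharacter G v ∨ IsIrrCharacter G (-v)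

theorem IsSignedIrr.neg {v : G → ℂ} (h : IsSignedIrr v) : IsSignedIrr (-v) := by
  rcases h with h | h
  · exact Or.inr (by rwa [neg_neg])
  · exact Or.inl h

theorem irr_apply_one_ne [Fintype G] {χ : G → ℂ} (h : IsIrrCharacter G χ) : χ 1 ≠ 0 := by
  rw [char_one_eq_deg (irr_isCharacter h)]
  exact Nat.cast_ne_zero.mpr (deg_pos h).ne'

theorem irr_ne_neg_irr [Fintype G] {χ ψ : G → ℂ} (h : IsIrrCharacter G χ) (h' : IsIrrCharacter G ψ) :
    χ ≠ -ψ := by
  intro e
  have h1 : χ 1 = -(ψ 1) := congrFun e 1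
  rw [char_one_eq_deg (irr_isCharacter h), char_one_eq_deg (irr_isCharacter h')] at h1
  have h2 : ((deg χ + deg ψ : ℕ) : ℂ) = 0 := by rw [Nat.cast_add, h1]; ring
  have h3 := deg_pos h
  rw [Nat.cast_eq_zero] at h2
  omega

theorem IsSignedIrr.apply_one_ne [Fintype G] {v : G → ℂ} (h : IsSignedIrr v) : v 1 ≠ 0 := by
  rcases h with h | h
  · exact irr_apply_one_ne h
  · exact fun e => irr_apply_one_ne h (show -(v 1) = 0 by rw [e, neg_zero])

theorem IsSignedIrr.ne_neg [Fintype G] {v : G → ℂ} (h : IsSignedIrr v) : v ≠ -v := fun e => by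
  have h1 : v 1 = -(v 1) := congrFun e 1
  exact h.apply_one_ne (by linear_combination h1 / 2)

theorem IsSignedIrr.isClassFunction [Fintype G] {v : G → ℂ} (h : IsSignedIrr v) :
    IsClassFunction G v := by
  rcases h with h | h
  · exact isClassFunction_character (irr_isCharacter h)
  · intro g k
    exact neg_injective (isClassFunction_character (irr_isCharacter h) g k)

open Classical in
/-- Inner products of irreducible characters up to sign. -/
theorem signed_inner [Fintype G] {v w : G → ℂ} (hv : IsSignedIrr v) (hw : IsSignedIrr w) :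
    classInner v w = if v = w then 1 else if v = -w then -1 else 0 := by
  have hl : ∀ a b : G → ℂ, classInner (-a) b = -classInner a b := fun a b => by
    rw [← neg_one_smul ℂ a, classInner_smul_left]; ring
  have hr : ∀ a b : G → ℂ, classInner a (-b) = -classInner a b := fun a b => by
    rw [← neg_one_smul ℂ b, classInner_smul_right]; simp
  have key : ∀ a b : G → ℂ, IsIrrCharacter G a → IsIrrCharacter G b →
      classInner a b = if a = b then 1 else if a = -b then -1 else 0 := by
    intro a b ha hb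
    rw [irr_orth ha hb]
    split_ifs with h1 h2
    · rfl
    · exact absurd h2 (irr_ne_neg_irr ha hb)
    · rfl
  rcases hv with hv | hv <;> rcases hw with hw | hw
  · exact key v w hv hw
  · have h := key v (-w) hv hw
    rw [hr] at h
    by_cases h1 : v = w
    · subst h1; exact absurd (neg_neg v).symm (irr_ne_neg_irr hv hw)
    · rw [if_neg h1]
      by_cases h2 : v = -w
      · rw [if_pos h2] at h ⊢; linear_combination -h
      · rw [if_neg h2, if_neg (by rwa [neg_neg])] at h
        rw [if_neg h2]; linear_combination -h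
  · have h := key (-v) w hv hw
    rw [hl] at h
    by_cases h1 : v = w
    · subst h1; exact absurd rfl (irr_ne_neg_irr hv hw)
    · rw [if_neg h1]
      by_cases h2 : v = -w
      · rw [if_pos h2]; rw [if_pos (by rw [h2, neg_neg])] at h; linear_combination -h
      · rw [if_neg (fun e => h2 (by rw [← e, neg_neg])), if_neg (fun e => h1 (neg_injective e))] at h
        rw [if_neg h2]; linear_combination -h
  · have h := key (-v) (-w) hv hw
    rw [hl, hr, neg_neg] at h
    simpa only [neg_inj, neg_neg, neg_eq_iff_eq_neg] using h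

open Classical in
/-- The inner product of a signed irreducible with the sum of a set of them. -/
theorem signed_inner_sum [Fintype G] {v : G → ℂ} (hv : IsSignedIrr v) {B : Finset (G → ℂ)}
    (hB : ∀ w ∈ B, IsSignedIrr w) (hn : TIGrid.NoNeg B) :
    classInner v (∑ w ∈ B, w) = (if v ∈ B then 1 else 0) - (if -v ∈ B then 1 else 0) := by
  rw [classInner_sum_right, Finset.sum_congr rfl fun w hw => signed_inner hv (hB w hw)]
  by_cases h1 : v ∈ B
  · rw [if_pos h1, if_neg (hn v h1), Finset.sum_eq_single v, if_pos rfl, sub_zero]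
    · intro w hw hne
      rw [if_neg hne.symm, if_neg]
      exact fun e => hn w hw (e ▸ h1)
    · exact fun h => absurd h1 h
  · by_cases h2 : -v ∈ B
    · rw [if_neg h1, if_pos h2, Finset.sum_eq_single (-v), if_neg hv.ne_neg,
        if_pos (neg_neg v).symm, zero_sub]
      · intro w hw hne
        rw [if_neg (fun e : v = w => h1 (e.symm ▸ hw)), if_neg]
        exact fun e => hne (by rw [e, neg_neg])
      · exact fun h => absurd h2 h
    · rw [if_neg h1, if_neg h2, sub_zero]
      refine Finset.sum_eq_zero fun w hw => ?_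
      rw [if_neg (fun e : v = w => h1 (e.symm ▸ hw)), if_neg]
      exact fun e => h2 (by rw [e, neg_neg]; exact hw)

open Classical in
theorem signed_sum_inner_sum [Fintype G] {A B : Finset (G → ℂ)} (hA : ∀ w ∈ A, IsSignedIrr w)
    (hB : ∀ w ∈ B, IsSignedIrr w) (hn : TIGrid.NoNeg B) :
    classInner (∑ v ∈ A, v) (∑ w ∈ B, w) =
      ((A.filter (· ∈ B)).card : ℂ) - ((A.filter fun v => -v ∈ B).card : ℂ) := by
  rw [classInner_sum_left, Finset.sum_congr rfl fun v hv => signed_inner_sum (hA v hv) hB hn,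
    Finset.sum_sub_distrib, Finset.sum_boole, Finset.sum_boole]

/-- A generalized character of norm three is a signed sum of three irreducible ones. -/
theorem exists_signed_set [Fintype G] {θ : G → ℂ} (h : IsGeneralizedCharacter G θ)
    (h3 : classInner θ θ = 3) :
    ∃ A : Finset (G → ℂ), A.card = 3 ∧ (∀ v ∈ A, IsSignedIrr v) ∧ TIGrid.NoNeg A ∧ θ = ∑ v ∈ A, v := by
  classical
  obtain ⟨z, hz, -⟩ := exists_int_coords h
  rw [classInner_int_combination hz] at h3
  have hsum : ∑ χ, z χ * z χ = 3 := by exact_mod_cast h3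
  have hone : ∀ χ, z χ = 0 ∨ z χ = 1 ∨ z χ = -1 := fun χ => by
    have hle : z χ * z χ ≤ 3 := hsum ▸
      Finset.single_le_sum (f := fun χ => z χ * z χ) (fun ψ _ => mul_self_nonneg _) (Finset.mem_univ χ)
    have : z χ ≤ 1 ∧ -1 ≤ z χ := by constructor <;> nlinarith
    omega
  set S := Finset.univ.filter fun χ => z χ ≠ 0 with hS
  set f : IrrCharacter G → (G → ℂ) := fun χ => (z χ : ℂ) • (χ : G → ℂ) with hf
  have hinner : ∀ χ ψ : IrrCharacter G, classInner (f χ) (ψ : G → ℂ) =
      if χ = ψ then (z χ : ℂ) else 0 := fun χ ψ => by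
    rw [hf, classInner_smul_left, irrC_orth]
    split_ifs <;> simp
  have hkey : ∀ χ ∈ S, ∀ ψ : IrrCharacter G, (f χ = f ψ ∨ f χ = -f ψ) → χ = ψ := by
    intro χ hχ ψ he
    by_contra hne
    have hz0 : z χ ≠ 0 := by simpa [hS] using hχ
    rcases he with he | he
    · have h1 := hinner χ χ
      rw [he, hinner, if_pos rfl, if_neg (Ne.symm hne)] at h1
      exact hz0 (by exact_mod_cast h1.symm)
    · have h1 := hinner χ χ
      rw [he, ← neg_one_smul ℂ (f ψ), classInner_smul_left, hinner, if_pos rfl, if_neg (Ne.symm hne),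
        mul_zero] at h1
      exact hz0 (by exact_mod_cast h1.symm)
  have hinj : Set.InjOn f S := fun χ hχ ψ _ he => hkey χ hχ ψ (Or.inl he)
  refine ⟨S.image f, ?_, ?_, ?_, ?_⟩
  · rw [Finset.card_image_of_injOn hinj]
    have h1 : ∑ χ ∈ S, z χ * z χ = (S.card : ℤ) := by
      rw [Finset.sum_congr rfl (g := fun _ => (1 : ℤ)) fun χ hχ => ?_, Finset.sum_const, nsmul_one]
      rcases hone χ with h | h | h
      · exact absurd h (by simpa [hS] using hχ)
      · simp [h]
      · simp [h]
    have h2 : ∑ χ ∈ S, z χ * z χ = 3 := by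
      rw [← hsum, hS]
      exact Finset.sum_filter_of_ne fun χ _ hne hz0 => hne (by simp [hz0])
    omega
  · intro v hv
    obtain ⟨χ, hχ, rfl⟩ := Finset.mem_image.1 hv
    rcases hone χ with h | h | h
    · exact absurd h (by simpa [hS] using hχ)
    · exact Or.inl (by simp only [hf, h, Int.cast_one, one_smul]; exact χ.2)
    · exact Or.inr (by simp only [hf, h, Int.cast_neg, Int.cast_one, neg_smul, one_smul, neg_neg]; exact χ.2)
  · intro v hv hv'
    obtain ⟨χ, hχ, rfl⟩ := Finset.mem_image.1 hv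
    obtain ⟨ψ, hψ, he⟩ := Finset.mem_image.1 hv'
    have he' : f χ = -f ψ := by rw [he, neg_neg]
    obtain rfl := hkey χ hχ ψ (Or.inr he')
    have h1 := hinner χ χ
    rw [he', ← neg_one_smul ℂ (f χ), classInner_smul_left, hinner, if_pos rfl] at h1
    have hz0 : z χ ≠ 0 := by simpa [hS] using hχ
    exact hz0 (by exact_mod_cast (show (z χ : ℂ) = 0 by linear_combination -h1 / 2))
  · rw [Finset.sum_image hinj, hz, hS]
    exact (Finset.sum_filter_of_ne (p := fun χ => z χ ≠ 0) fun χ _ hne hz0 => hne (by simp [hf, hz0])).symm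

/-- Inner product one forces exactly one common element. -/
theorem signed_P [Fintype G] {A B : Finset (G → ℂ)} (hA : ∀ w ∈ A, IsSignedIrr w)
    (hB : ∀ w ∈ B, IsSignedIrr w) (hnA : TIGrid.NoNeg A) (hnB : TIGrid.NoNeg B) (hcA : A.card = 3)
    (hcB : B.card = 3) (h : classInner (∑ v ∈ A, v) (∑ w ∈ B, w) = 1)
    (h1 : (∑ v ∈ A, v) 1 = (∑ w ∈ B, w) 1) : TIGrid.P A B := by
  classical
  rw [signed_sum_inner_sum hA hB hnB] at h
  set C := A.filter (· ∈ B) with hC
  set O := A.filter (fun v => -v ∈ B) with hO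
  have hCO : Disjoint C O := by
    rw [Finset.disjoint_left]
    intro v hv hv'
    exact hnB v (Finset.mem_filter.1 hv).2 (Finset.mem_filter.1 hv').2
  have hle : C.card + O.card ≤ 3 := by
    rw [← Finset.card_union_of_disjoint hCO, ← hcA]
    exact Finset.card_le_card (Finset.union_subset (Finset.filter_subset _ _) (Finset.filter_subset _ _))
  have heq : C.card = O.card + 1 := by
    have : (C.card : ℂ) = ((O.card + 1 : ℕ) : ℂ) := by push_cast; linear_combination h
    exact_mod_cast this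
  by_cases hO0 : O.card = 0
  · obtain ⟨v, hv⟩ := Finset.card_eq_one.1 (show C.card = 1 by omega)
    have hv' : v ∈ A ∧ v ∈ B := Finset.mem_filter.1 (show v ∈ C by rw [hv]; simp)
    refine ⟨⟨v, hv'.1, hv'.2, fun w hw hw' => ?_⟩, fun w hw hw' => ?_⟩
    · have : w ∈ C := Finset.mem_filter.2 ⟨hw, hw'⟩
      rwa [hv, Finset.mem_singleton] at this
    · have : w ∈ O := Finset.mem_filter.2 ⟨hw, hw'⟩
      rw [Finset.card_eq_zero.1 hO0] at this
      simp at this
  · exfalso
    obtain ⟨o, ho⟩ := Finset.card_eq_one.1 (show O.card = 1 by omega)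
    have ho' : o ∈ A ∧ -o ∈ B := Finset.mem_filter.1 (show o ∈ O by rw [ho]; simp)
    have hoC : -o ∉ C := fun h' => hnA o ho'.1 (Finset.mem_filter.1 h').1
    have hAeq : A = C ∪ O := (Finset.eq_of_subset_of_card_le
      (Finset.union_subset (Finset.filter_subset _ _) (Finset.filter_subset _ _))
      (by rw [hcA, Finset.card_union_of_disjoint hCO]; omega)).symm
    have hBeq : B = insert (-o) C := (Finset.eq_of_subset_of_card_le
      (Finset.insert_subset ho'.2 fun v hv => (Finset.mem_filter.1 hv).2)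
      (by rw [hcB, Finset.card_insert_of_notMem hoC]; omega)).symm
    rw [hAeq, Finset.sum_union hCO, ho, Finset.sum_singleton, hBeq, Finset.sum_insert hoC,
      Pi.add_apply, Pi.add_apply, Pi.neg_apply] at h1
    exact (hA o ho'.1).apply_one_ne (by linear_combination h1 / 2)

/-- Inner product zero. -/
theorem signed_Q [Fintype G] {A B : Finset (G → ℂ)} (hA : ∀ w ∈ A, IsSignedIrr w)
    (hB : ∀ w ∈ B, IsSignedIrr w) (hnB : TIGrid.NoNeg B) (hcA : A.card = 3)
    (h : classInner (∑ v ∈ A, v) (∑ w ∈ B, w) = 0) : TIGrid.Q A B := by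
  classical
  rw [signed_sum_inner_sum hA hB hnB] at h
  set C := A.filter (· ∈ B) with hC
  set O := A.filter (fun v => -v ∈ B) with hO
  have hCO : Disjoint C O := by
    rw [Finset.disjoint_left]
    intro v hv hv'
    exact hnB v (Finset.mem_filter.1 hv).2 (Finset.mem_filter.1 hv').2
  have hle : C.card + O.card ≤ 3 := by
    rw [← Finset.card_union_of_disjoint hCO, ← hcA]
    exact Finset.card_le_card (Finset.union_subset (Finset.filter_subset _ _) (Finset.filter_subset _ _))
  have heq : C.card = O.card := by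
    have : (C.card : ℂ) = (O.card : ℂ) := by linear_combination h
    exact_mod_cast this
  by_cases h0 : C.card = 0
  · refine Or.inl fun v hv => ⟨fun hv' => ?_, fun hv' => ?_⟩
    · have : v ∈ C := Finset.mem_filter.2 ⟨hv, hv'⟩
      rw [Finset.card_eq_zero.1 h0] at this
      simp at this
    · have : v ∈ O := Finset.mem_filter.2 ⟨hv, hv'⟩
      rw [Finset.card_eq_zero.1 (show O.card = 0 by omega)] at this
      simp at this
  · obtain ⟨a, ha⟩ := Finset.card_eq_one.1 (show C.card = 1 by omega)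
    obtain ⟨b, hb⟩ := Finset.card_eq_one.1 (show O.card = 1 by omega)
    have ha' : a ∈ A ∧ a ∈ B := Finset.mem_filter.1 (show a ∈ C by rw [ha]; simp)
    have hb' : b ∈ A ∧ -b ∈ B := Finset.mem_filter.1 (show b ∈ O by rw [hb]; simp)
    refine Or.inr ⟨a, b, ha'.1, ha'.2, hb'.1, hb'.2, fun v hv hv' => ?_, fun v hv hv' => ?_⟩
    · have : v ∈ C := Finset.mem_filter.2 ⟨hv, hv'⟩
      rwa [ha, Finset.mem_singleton] at this
    · have : v ∈ O := Finset.mem_filter.2 ⟨hv, hv'⟩
      rwa [hb, Finset.mem_singleton] at this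

/-- Counting the nontrivial characters killing one factor. -/
theorem ti_card_side [Fintype G] (W K K' : Subgroup G) (hKW : K ≤ W) [IsCyclic ↥W]
    (hext : ∀ f g : ↥W →* ℂˣ, (∀ w : ↥W, (w : G) ∈ K → f w = g w) →
      (∀ w : ↥W, (w : G) ∈ K' → f w = g w) → f = g)
    (hsplit : ∀ ω : ↥W →* ℂˣ, ∃ φ ψ : ↥W →* ℂˣ, (∀ w : ↥W, (w : G) ∈ K' → φ w = 1) ∧
      (∀ w : ↥W, (w : G) ∈ K → ψ w = 1) ∧ ω = φ * ψ) :
    Nat.card {φ : ↥W →* ℂˣ // φ ≠ 1 ∧ ∀ w : ↥W, (w : G) ∈ K' → φ w = 1} = Nat.card K - 1 := by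
  classical
  letI := IsCyclic.commGroup (α := ↥W)
  haveI : IsCyclic K := isCyclic_of_injective (Subgroup.inclusion hKW) (Subgroup.inclusion_injective hKW)
  letI := IsCyclic.commGroup (α := ↥K)
  haveI : NeZero (Monoid.exponent ↥K) := ⟨Monoid.exponent_ne_zero_of_finite⟩
  haveI : NeZero (Monoid.exponent ↥W) := ⟨Monoid.exponent_ne_zero_of_finite⟩
  have hK : Nat.card (↥K →* ℂˣ) = Nat.card K :=
    CommGroup.card_monoidHom_of_hasEnoughRootsOfUnity ↥K ℂ
  haveI : Finite (↥K →* ℂˣ) := Nat.finite_of_card_ne_zero (by rw [hK]; exact Nat.card_pos.ne')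
  let F : {φ : ↥W →* ℂˣ // φ ≠ 1 ∧ ∀ w : ↥W, (w : G) ∈ K' → φ w = 1} →
      {θ : ↥K →* ℂˣ // ¬θ = 1} := fun φ => ⟨φ.1.comp (Subgroup.inclusion hKW), fun e => φ.2.1
        (hext φ.1 1 (fun w hw => DFunLike.congr_fun e (⟨(w : G), hw⟩ : ↥K))
          (fun w hw => φ.2.2 w hw))⟩
  have hF : Function.Bijective F := by
    constructor
    · intro φ φ' e
      refine Subtype.ext (hext _ _ (fun w hw => ?_) fun w hw => by rw [φ.2.2 w hw, φ'.2.2 w hw])
      exact DFunLike.congr_fun (congrArg Subtype.val e) (⟨(w : G), hw⟩ : ↥K)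
    · intro θ
      obtain ⟨ω, hω⟩ := MonoidHom.domRestrict_surjective ℂ (K.subgroupOf W)
        (θ.1.comp (Subgroup.subgroupOfEquivOfLe hKW).toMonoidHom)
      obtain ⟨φ, ψ, hφ, hψ, rfl⟩ := hsplit ω
      have h1 : ∀ k : ↥K, φ (Subgroup.inclusion hKW k) = θ.1 k := by
        intro k
        have h2 := DFunLike.congr_fun hω (⟨Subgroup.inclusion hKW k, k.2⟩ : ↥(K.subgroupOf W))
        have h3 : (Subgroup.subgroupOfEquivOfLe hKW) (⟨Subgroup.inclusion hKW k, k.2⟩ : ↥(K.subgroupOf W)) = k :=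
          Subtype.ext rfl
        have h4 : (φ * ψ) (Subgroup.inclusion hKW k) = θ.1 k := by
          rw [← congrArg θ.1 h3]; exact h2
        rwa [MonoidHom.mul_apply, hψ _ k.2, mul_one] at h4
      refine ⟨⟨φ, fun e => θ.2 (MonoidHom.ext fun k => ?_), hφ⟩, Subtype.ext (MonoidHom.ext h1)⟩
      rw [← h1 k, e]
      rfl
  letI := Fintype.ofFinite (↥K →* ℂˣ)
  rw [Nat.card_congr (Equiv.ofBijective F hF), Nat.card_eq_fintype_card, Fintype.card_subtype_compl,
    Fintype.card_subtype_eq, ← Nat.card_eq_fintype_card, hK]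

/-- The two sides have orders at least three, not both three. -/
theorem ti_card_cases [Fintype G] {W₁ W₂ : Subgroup G} (hW : IsSelfNormalizingCyclic W₁ W₂)
    (hodd : Odd (Nat.card ↥(W₁ ⊔ W₂))) :
    (Nat.card W₁ - 1 = 2 ∨ 4 ≤ Nat.card W₁ - 1) ∧ (Nat.card W₂ - 1 = 2 ∨ 4 ≤ Nat.card W₂ - 1) ∧
      (4 ≤ Nat.card W₁ - 1 ∨ 4 ≤ Nat.card W₂ - 1) := by
  obtain ⟨h1, h2, hdisj, -, hcyc, -⟩ := hW
  have o1 := Nat.odd_iff.1 (hodd.of_dvd_nat (Subgroup.card_dvd_of_le (le_sup_left : W₁ ≤ W₁ ⊔ W₂)))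
  have o2 := Nat.odd_iff.1 (hodd.of_dvd_nat (Subgroup.card_dvd_of_le (le_sup_right : W₂ ≤ W₁ ⊔ W₂)))
  have n1 := (Subgroup.one_lt_card_iff_ne_bot W₁).2 h1
  have n2 := (Subgroup.one_lt_card_iff_ne_bot W₂).2 h2
  refine ⟨by omega, by omega, ?_⟩
  by_contra hc
  obtain ⟨b, hb, hb1⟩ := W₂.bot_or_exists_ne_one.resolve_left h2
  have he : Nat.card W₁ = Nat.card W₂ := by omega
  have hpow : b ^ Nat.card W₁ = 1 := by
    rw [he]
    exact congrArg (fun k : W₂ => (k : G)) (pow_card_eq_one' (x := (⟨b, hb⟩ : W₂)))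
  have := mem_of_pow_card (K := W₁) le_sup_left hcyc (Subgroup.mem_sup_right hb) hpow
  exact hb1 (Subgroup.mem_bot.mp (hdisj ▸ ⟨this, hb⟩ : b ∈ (⊥ : Subgroup G)))

end Cfsg.Agent.Char
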