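import Cfsg.Agent.Lib.Char.CyclicTIExist

/-!
# The family of signed characters attached to a cyclic TI subgroup exists
-/

set_option autoImplicit false
set_option linter.unusedSectionVars false
set_option linter.style.haveILetI false

namespace Cfsg.Agent.Char

open Cfsg

universe u

variable {G : Type u} [Group G]

theorem grid_structure {V : Type*} [InvolutiveNeg V] [DecidableEq V] {I J : Type*} [Fintype I] [Fintype J]
    {f : I → J → Finset V} (h : TIGrid.Grid f) (hI : Fintype.card I = 2 ∨ 4 ≤ Fintype.card I)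
    (hJ : Fintype.card J = 2 ∨ 4 ≤ Fintype.card J) (hIJ : 4 ≤ Fintype.card I ∨ 4 ≤ Fintype.card J) :
    ∃ (x : I → V) (y : J → V), (∀ i j, x i ∈ f i j ∧ y j ∈ f i j ∧ x i ≠ y j) ∧
      ∀ i k j l, i ≠ k → j ≠ l → ∀ v ∈ f i j, v ∉ f k l ∧ -v ∉ f k l := by
  rcases hIJ with h4 | h4
  · obtain ⟨y, x, h1, h2⟩ := h.transpose.structure_of_four h4 hJ
    exact ⟨x, y, fun i j => ⟨(h1 j i).2.1, (h1 j i).1, (h1 j i).2.2.symm⟩,
      fun i k j l hik hjl => h2 j l i k hjl hik⟩
  · exact h.structure_of_four h4 hI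

/-- Neither equal nor opposite. -/
def Sep (u v : G → ℂ) : Prop := u ≠ v ∧ u ≠ -v

theorem Sep.symm {u v : G → ℂ} (h : Sep u v) : Sep v u :=
  ⟨h.1.symm, fun e => h.2 (by rw [e, neg_neg])⟩

theorem Sep.neg_left {u v : G → ℂ} (h : Sep u v) : Sep (-u) v :=
  ⟨fun e => h.2 (by rw [← e, neg_neg]), fun e => h.1 (neg_injective e)⟩

theorem Sep.neg_right {u v : G → ℂ} (h : Sep u v) : Sep u (-v) := h.symm.neg_left.symm

theorem sep_of_not_mem {A : Finset (G → ℂ)} {u v : G → ℂ} (hu : u ∈ A) (h1 : v ∉ A) (h2 : -v ∉ A) :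
    Sep u v := ⟨fun e => h1 (e ▸ hu), fun e => h2 (e ▸ hu)⟩

theorem exists_cyclicTIFamily [Fintype G] (W₁ W₂ : Subgroup G) (hW : IsSelfNormalizingCyclic W₁ W₂)
    (hodd : Odd (Nat.card ↥(W₁ ⊔ W₂))) :
    ∃ χ : (↥(W₁ ⊔ W₂) →* ℂˣ) → (G → ℂ), IsCyclicTIFamily W₁ W₂ χ := by
  classical
  obtain ⟨-, -, hdisj, hcomm, hcyc, -⟩ := id hW
  haveI := hcyc
  have hab : ∀ v w : ↥(W₁ ⊔ W₂), v * w = w * v := by
    letI := IsCyclic.commGroup (α := ↥(W₁ ⊔ W₂))
    exact mul_comm
  haveI : Finite (↥(W₁ ⊔ W₂) →* ℂˣ) := Nat.finite_of_card_ne_zero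
    (by rw [card_hom_units]; exact Subgroup.index_ne_zero_of_finite)
  let I := {φ : ↥(W₁ ⊔ W₂) →* ℂˣ // φ ≠ 1 ∧ ∀ w : ↥(W₁ ⊔ W₂), (w : G) ∈ W₂ → φ w = 1}
  let J := {ψ : ↥(W₁ ⊔ W₂) →* ℂˣ // ψ ≠ 1 ∧ ∀ w : ↥(W₁ ⊔ W₂), (w : G) ∈ W₁ → ψ w = 1}
  letI : Fintype I := Fintype.ofFinite I
  letI : Fintype J := Fintype.ofFinite J
  have hcI : Fintype.card I = Nat.card W₁ - 1 := by
    rw [← Nat.card_eq_fintype_card]
    exact ti_card_side (W₁ ⊔ W₂) W₁ W₂ le_sup_left (fun f g => ti_hom_ext hcomm)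
      (ti_exists_split hdisj hcomm)
  have hcJ : Fintype.card J = Nat.card W₂ - 1 := by
    rw [← Nat.card_eq_fintype_card]
    refine ti_card_side (W₁ ⊔ W₂) W₂ W₁ le_sup_right (fun f g h1 h2 => ti_hom_ext hcomm h2 h1) fun ω => ?_
    obtain ⟨φ, ψ, h1, h2, rfl⟩ := ti_exists_split hdisj hcomm ω
    exact ⟨ψ, φ, h2, h1, mul_comm φ ψ⟩
  obtain ⟨hc1, hc2, hc3⟩ := ti_card_cases hW hodd
  rw [← hcI] at hc1 hc3
  rw [← hcJ] at hc2 hc3
  haveI : Nontrivial I := Fintype.one_lt_card_iff_nontrivial.1 (by omega)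
  haveI : Nontrivial J := Fintype.one_lt_card_iff_nontrivial.1 (by omega)
  set one : G → ℂ := fun _ => 1 with hone
  have one_irr : IsIrrCharacter G one := isIrrCharacter_one
  -- the virtual characters
  set β : I → J → (G → ℂ) := fun i j => indFun (W₁ ⊔ W₂) (tiAlpha i.1 j.1) - one with hβ
  have hip : ∀ (i k : I) (j l : J), classInner (indFun (W₁ ⊔ W₂) (tiAlpha i.1 j.1)) one = 1 ∧
      classInner (indFun (W₁ ⊔ W₂) (tiAlpha i.1 j.1)) (indFun (W₁ ⊔ W₂) (tiAlpha k.1 l.1)) =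
        1 + (if i.1 = k.1 then 1 else 0) + (if j.1 = l.1 then 1 else 0) +
          (if i.1 = k.1 then 1 else 0) * (if j.1 = l.1 then 1 else 0) :=
    fun i k j l => S1505.result W₁ W₂ hW i.1 k.1 j.1 l.1 i.2.1 k.2.1 j.2.1 l.2.1
      (fun w hw => ⟨i.2.2 w hw, k.2.2 w hw⟩) (fun w hw => ⟨j.2.2 w hw, l.2.2 w hw⟩)
  have hinner : ∀ (i k : I) (j l : J), classInner (β i j) (β k l) =
      (if i = k then 1 else 0) + (if j = l then 1 else 0) + (if i = k then 1 else 0) * (if j = l then 1 else 0) := by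
    intro i k j l
    have h1 : classInner one (indFun (W₁ ⊔ W₂) (tiAlpha k.1 l.1)) = 1 := by
      rw [← classInner_symm, (hip k k l l).1, map_one]
    simp only [hβ, classInner_sub_left, classInner_sub_right, (hip i k j l).1, (hip i k j l).2, h1,
      irr_self one_irr, Subtype.coe_inj]
    ring
  have hgen : ∀ i j, IsGeneralizedCharacter G (β i j) := fun i j => by
    refine ⟨indFun (W₁ ⊔ W₂) ((fun _ => 1) + fun w => ((i.1 * j.1) w : ℂ)),
      indFun (W₁ ⊔ W₂) ((fun w => (i.1 w : ℂ)) + fun w => (j.1 w : ℂ)) + one, ?_, ?_, ?_⟩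
    · exact isCharacter_indFun _ (isCharacter_add isCharacter_one (irr_isCharacter (isIrrCharacter_linear _)))
    · exact isCharacter_add (isCharacter_indFun _ (isCharacter_add (irr_isCharacter (isIrrCharacter_linear _))
        (irr_isCharacter (isIrrCharacter_linear _)))) (irr_isCharacter one_irr)
    · have e : tiAlpha i.1 j.1 = ((fun _ => (1 : ℂ)) + fun w => ((i.1 * j.1) w : ℂ)) -
          ((fun w => (i.1 w : ℂ)) + fun w => (j.1 w : ℂ)) := by
        funext w
        simp [tiAlpha]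
        ring
      simp only [hβ, e, indFun_sub]
      abel
  have hset : ∀ i j, ∃ A : Finset (G → ℂ), A.card = 3 ∧ (∀ v ∈ A, IsSignedIrr v) ∧ TIGrid.NoNeg A ∧
      β i j = ∑ v ∈ A, v := fun i j => exists_signed_set (hgen i j) (by
        rw [hinner, if_pos rfl, if_pos rfl]; norm_num)
  choose f fcard fsig fneg fsum using hset
  have hdeg : ∀ i j, (∑ v ∈ f i j, v) 1 = -1 := fun i j => by
    rw [← fsum, hβ]
    simp only [Pi.sub_apply, indFun_one]
    simp [tiAlpha, hone]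
  have hgrid : TIGrid.Grid f := by
    refine ⟨fcard, fneg, fun i j l hjl => ?_, fun i k j hik => ?_, fun i k j l hik hjl => ?_⟩
    · refine signed_P (fsig i j) (fsig i l) (fneg i j) (fneg i l) (fcard i j) (fcard i l) ?_
        (by rw [hdeg, hdeg])
      rw [← fsum, ← fsum, hinner, if_pos rfl, if_neg hjl]; norm_num
    · refine signed_P (fsig i j) (fsig k j) (fneg i j) (fneg k j) (fcard i j) (fcard k j) ?_
        (by rw [hdeg, hdeg])
      rw [← fsum, ← fsum, hinner, if_pos rfl, if_neg hik]; norm_num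
    · refine signed_Q (fsig i j) (fsig k l) (fneg k l) (fcard i j) ?_
      rw [← fsum, ← fsum, hinner, if_neg hjl, if_neg hik]; norm_num
  obtain ⟨x, y, hxy, hd⟩ := grid_structure hgrid hc1 hc2 hc3
  have hz : ∀ i j, ∃ z, z ∈ f i j ∧ z ≠ x i ∧ z ≠ y j ∧ f i j = {x i, y j, z} := fun i j => by
    obtain ⟨z, hz, hzx, hzy, hall⟩ := TIGrid.exists_third (fcard i j) (hxy i j).1 (hxy i j).2.1 (hxy i j).2.2
    refine ⟨z, hz, hzx, hzy, Finset.ext fun t => ⟨fun ht => by simpa using hall t ht, fun ht => ?_⟩⟩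
    simp only [Finset.mem_insert, Finset.mem_singleton] at ht
    rcases ht with rfl | rfl | rfl
    · exact (hxy i j).1
    · exact (hxy i j).2.1
    · exact hz
  choose z zmem zx zy zall using hz
  -- the principal character stays away
  have hone_out : ∀ i j, ∀ v ∈ f i j, Sep one v := by
    intro i j v hv
    have h0 : classInner one (∑ v ∈ f i j, v) = 0 := by
      rw [← fsum, ← classInner_symm, hβ]
      simp only [classInner_sub_left, (hip i i j j).1, irr_self one_irr, sub_self, map_zero]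
    rw [signed_inner_sum (Or.inl one_irr) (fsig i j) (fneg i j)] at h0
    have n1 : one ∉ f i j := fun h1 => by
      rw [if_pos h1, if_neg (fneg i j one h1)] at h0
      norm_num at h0
    have n2 : -one ∉ f i j := fun h1 => by
      rw [if_neg n1, if_pos h1] at h0
      norm_num at h0
    exact (sep_of_not_mem hv n1 n2).symm
  have sep_cross : ∀ i k j l, i ≠ k → j ≠ l → ∀ u ∈ f i j, ∀ v ∈ f k l, Sep u v := by
    intro i k j l hik hjl u hu v hv
    obtain ⟨h1, h2⟩ := hd i k j l hik hjl u hu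
    exact ⟨fun e => h1 (e ▸ hv), fun e => h2 (by rw [e, neg_neg]; exact hv)⟩
  have sep_same : ∀ i j u v, u ∈ f i j → v ∈ f i j → u ≠ v → Sep u v := fun i j u v hu hv hne =>
    ⟨hne, fun e => fneg i j v hv (e ▸ hu)⟩
  have j0 : J := Classical.arbitrary J
  have i0 : I := Classical.arbitrary I
  have sxx : ∀ i k, i ≠ k → Sep (x i) (x k) := fun i k hik => by
    obtain ⟨l, hl⟩ := exists_ne j0
    exact sep_cross i k j0 l hik hl.symm _ (hxy i j0).1 _ (hxy k l).1
  have syy : ∀ j l, j ≠ l → Sep (y j) (y l) := fun j l hjl => by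
    obtain ⟨k, hk⟩ := exists_ne i0
    exact sep_cross i0 k j l hk.symm hjl _ (hxy i0 j).2.1 _ (hxy k l).2.1
  have sxy : ∀ i j, Sep (x i) (y j) := fun i j =>
    sep_same i j _ _ (hxy i j).1 (hxy i j).2.1 (hxy i j).2.2
  have sxz : ∀ i k l, Sep (x i) (z k l) := fun i k l => by
    by_cases hik : i = k
    · subst hik
      exact sep_same i l _ _ (hxy i l).1 (zmem i l) (zx i l).symm
    · obtain ⟨j, hj⟩ := exists_ne l
      exact sep_cross i k j l hik hj _ (hxy i j).1 _ (zmem k l)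
  have syz : ∀ j k l, Sep (y j) (z k l) := fun j k l => by
    by_cases hjl : j = l
    · subst hjl
      exact sep_same k j _ _ (hxy k j).2.1 (zmem k j) (zy k j).symm
    · obtain ⟨i, hi⟩ := exists_ne k
      exact sep_cross i k j l hi hjl _ (hxy i j).2.1 _ (zmem k l)
  have szz : ∀ i j k l, ¬(i = k ∧ j = l) → Sep (z i j) (z k l) := fun i j k l hne => by
    by_cases hik : i = k
    · subst hik
      have hjl : j ≠ l := fun e => hne ⟨rfl, e⟩
      refine ⟨fun e => zx i j ((hgrid.row i j l hjl).one (zmem i j) (e.symm ▸ zmem i l) (hxy i j).1 (hxy i l).1),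
        fun e => (hgrid.row i j l hjl).2 _ (zmem i j) (by rw [e, neg_neg]; exact zmem i l)⟩
    · by_cases hjl : j = l
      · subst hjl
        refine ⟨fun e => zy i j ((hgrid.col i k j hik).one (zmem i j) (e.symm ▸ zmem k j) (hxy i j).2.1 (hxy k j).2.1),
          fun e => (hgrid.col i k j hik).2 _ (zmem i j) (by rw [e, neg_neg]; exact zmem k j)⟩
      · exact sep_cross i k j l hik hjl _ (zmem i j) _ (zmem k l)
  -- the table
  let T : Option I × Option J → (G → ℂ) := fun p =>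
    match p with
    | (none, none) => one
    | (some i, none) => -x i
    | (none, some j) => -y j
    | (some i, some j) => z i j
  have Tsig : ∀ p, IsSignedIrr (T p) := by
    rintro ⟨_ | i, _ | j⟩
    · exact Or.inl one_irr
    · exact (fsig i0 j _ (hxy i0 j).2.1).neg
    · exact (fsig i j0 _ (hxy i j0).1).neg
    · exact fsig i j _ (zmem i j)
  have Tsep : ∀ p q, p ≠ q → Sep (T p) (T q) := by
    have o1 : ∀ i, Sep one (-x i) := fun i => (hone_out i j0 _ (hxy i j0).1).neg_right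
    have o2 : ∀ j, Sep one (-y j) := fun j => (hone_out i0 j _ (hxy i0 j).2.1).neg_right
    have o3 : ∀ i j, Sep one (z i j) := fun i j => hone_out i j _ (zmem i j)
    rintro ⟨_ | i, _ | j⟩ ⟨_ | k, _ | l⟩ hne
    · exact absurd rfl hne
    · exact o2 l
    · exact o1 k
    · exact o3 k l
    · exact (o2 j).symm
    · exact (syy j l fun e => hne (by rw [e])).neg_left.neg_right
    · exact (sxy k j).symm.neg_left.neg_right
    · exact (syz j k l).neg_left
    · exact (o1 i).symm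
    · exact (sxy i l).neg_left.neg_right
    · exact (sxx i k fun e => hne (by rw [e])).neg_left.neg_right
    · exact (sxz i k l).neg_left
    · exact (o3 i j).symm
    · exact (syz l i j).symm.neg_right
    · exact (sxz k i j).symm.neg_right
    · exact szz i j k l fun e => hne (by rw [e.1, e.2])
  let valI : Option I → (↥(W₁ ⊔ W₂) →* ℂˣ) := fun o => o.elim 1 Subtype.val
  let valJ : Option J → (↥(W₁ ⊔ W₂) →* ℂˣ) := fun o => o.elim 1 Subtype.val
  have hvI : ∀ o, ∀ w : ↥(W₁ ⊔ W₂), (w : G) ∈ W₂ → valI o w = 1 := by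
    rintro (_ | i) w hw
    · rfl
    · exact i.2.2 w hw
  have hvJ : ∀ o, ∀ w : ↥(W₁ ⊔ W₂), (w : G) ∈ W₁ → valJ o w = 1 := by
    rintro (_ | j) w hw
    · rfl
    · exact j.2.2 w hw
  have hinjI : Function.Injective valI := by
    rintro (_ | i) (_ | k) e
    · rfl
    · exact absurd e.symm k.2.1
    · exact absurd e i.2.1
    · exact congrArg some (Subtype.ext e)
  have hinjJ : Function.Injective valJ := by
    rintro (_ | i) (_ | k) e
    · rfl
    · exact absurd e.symm k.2.1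
    · exact absurd e i.2.1
    · exact congrArg some (Subtype.ext e)
  let E : Option I × Option J → (↥(W₁ ⊔ W₂) →* ℂˣ) := fun p => valI p.1 * valJ p.2
  have hE : Function.Bijective E := by
    constructor
    · intro p q e
      obtain ⟨h1, h2⟩ := ti_pair_facts hcomm (hvI p.1) (hvI q.1) (hvJ p.2) (hvJ q.2) e
      exact Prod.ext (hinjI h1) (hinjJ h2)
    · intro ω
      obtain ⟨φ, ψ, hφ, hψ, rfl⟩ := ti_exists_split hdisj hcomm ω
      have h1 : ∃ o, valI o = φ := by
        by_cases h : φ = 1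
        · exact ⟨none, h.symm⟩
        · exact ⟨some ⟨φ, h, hφ⟩, rfl⟩
      have h2 : ∃ o, valJ o = ψ := by
        by_cases h : ψ = 1
        · exact ⟨none, h.symm⟩
        · exact ⟨some ⟨ψ, h, hψ⟩, rfl⟩
      obtain ⟨o, ho⟩ := h1
      obtain ⟨o', ho'⟩ := h2
      exact ⟨(o, o'), by simp only [E, ho, ho']⟩
  let e := Equiv.ofBijective E hE
  let χ : (↥(W₁ ⊔ W₂) →* ℂˣ) → (G → ℂ) := fun ω => T (e.symm ω)
  have hχ : ∀ p, χ (E p) = T p := fun p => congrArg T (e.symm_apply_apply p)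
  have horth : ∀ ω ω', classInner (χ ω) (χ ω') = if ω = ω' then 1 else 0 := fun ω ω' => by
    rw [signed_inner (Tsig _) (Tsig _)]
    by_cases h : ω = ω'
    · subst h
      rw [if_pos rfl, if_pos rfl]
    · have hs := Tsep _ _ (fun e' : e.symm ω = e.symm ω' => h (e.symm.injective e'))
      rw [if_neg h, if_neg hs.1, if_neg hs.2]
  have hφval : ∀ i : I, χ i.1 = -x i := fun i => by
    rw [show i.1 = E (some i, none) from (mul_one i.1).symm, hχ]
  have hψval : ∀ j : J, χ j.1 = -y j := fun j => by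
    rw [show j.1 = E (none, some j) from (one_mul j.1).symm, hχ]
  have hone' : χ 1 = one := by
    rw [show (1 : ↥(W₁ ⊔ W₂) →* ℂˣ) = E (none, none) from (mul_one (1 : ↥(W₁ ⊔ W₂) →* ℂˣ)).symm, hχ]
  have hind : ∀ (i : I) (j : J), indFun (W₁ ⊔ W₂) (tiAlpha i.1 j.1) =
      one - χ i.1 - χ j.1 + χ (i.1 * j.1) := by
    intro i j
    have h1 : indFun (W₁ ⊔ W₂) (tiAlpha i.1 j.1) = one + ∑ v ∈ f i j, v := by
      rw [← fsum]; simp only [hβ]; abel
    rw [h1, zall i j, Finset.sum_insert (by simp [(hxy i j).2.2, (zx i j).symm]),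
      Finset.sum_insert (by simp [(zy i j).symm]), Finset.sum_singleton, hφval, hψval,
      show i.1 * j.1 = E (some i, some j) from rfl, hχ]
    show _ = one - -x i - -y j + z i j
    abel
  refine ⟨χ, fun ω => Tsig (e.symm ω), fun ω ω' => by convert horth ω ω', hone', ?_, fun φ ψ h1 h2 h3 h4 => hind ⟨φ, h1, h3⟩ ⟨ψ, h2, h4⟩⟩
  intro ω w hw₁ hw₂
  have key := ti_vanish_of_orth hdisj hcomm hab
    ((fun v : ↥(W₁ ⊔ W₂) => χ ω v) - fun v => (ω v : ℂ)) ?_ hw₁ hw₂
  · exact sub_eq_zero.1 key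
  intro φ ψ h1 h2 h3 h4
  have hi := hind ⟨φ, h1, h3⟩ ⟨ψ, h2, h4⟩
  have hfr : classInner (tiAlpha φ ψ) (fun v : ↥(W₁ ⊔ W₂) => χ ω v) =
      classInner (indFun (W₁ ⊔ W₂) (tiAlpha φ ψ)) (χ ω) :=
    (frobenius _ _ (IsSignedIrr.isClassFunction (Tsig (e.symm ω)))).symm
  rw [classInner_sub_right, hfr, hi, tiAlpha_inner_hom, classInner_add_left, classInner_sub_left,
    classInner_sub_left, ← hone', horth, horth, horth, horth]
  simp

end Cfsg.Agent.Char
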