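import Cfsg.Agent.Lib.Char.CyclicTIFamilyExist
import Cfsg.Agent.Lib.Char.GaloisConj

/-!
# Uniqueness of the cyclic TI family and its behaviour under Galois conjugation
-/

set_option autoImplicit false
set_option linter.unusedSectionVars false
set_option linter.style.haveILetI false

namespace Cfsg.Agent.Char

open Cfsg

universe u

variable {G : Type u} [Group G] [Fintype G]

theorem signed_eq_or_neg {v u : G → ℂ} (hv : IsSignedIrr v) (hu : IsSignedIrr u)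
    (h : classInner v u ≠ 0) : v = u ∨ v = -u := by
  classical
  rw [signed_inner hv hu] at h
  by_contra hc
  rw [if_neg fun e => hc (Or.inl e), if_neg fun e => hc (Or.inr e)] at h
  exact h rfl

theorem signed_inner_cases {v u : G → ℂ} (hv : IsSignedIrr v) (hu : IsSignedIrr u) :
    (classInner v u = 1 ∧ v = u) ∨ (classInner v u = -1 ∧ v = -u) ∨ classInner v u = 0 := by
  classical
  rw [signed_inner hv hu]
  split_ifs with h1 h2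
  · exact Or.inl ⟨rfl, h1⟩
  · exact Or.inr (Or.inl ⟨rfl, h2⟩)
  · exact Or.inr (Or.inr rfl)

/-- Two relations with a common leading term determine that term. -/
theorem ti_unique_aux {ι : Type*} {v : ι → (G → ℂ)} (hsig : ∀ i, IsSignedIrr (v i))
    (horth : ∀ i k, i ≠ k → classInner (v i) (v k) = 0) {u : G → ℂ} (hu : IsSignedIrr u)
    {a b c b' c' : ι} (hab : a ≠ b) (hac : a ≠ c) (hbb' : b ≠ b') (hbc' : b ≠ c') (hcb' : c ≠ b')
    (hcc' : c ≠ c') (e : -classInner (v a) u - classInner (v b) u + classInner (v c) u = -1)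
    (e' : -classInner (v a) u - classInner (v b') u + classInner (v c') u = -1) : v a = u := by
  have excl : ∀ i k, i ≠ k → classInner (v i) u ≠ 0 → classInner (v k) u = 0 := fun i k hik h0 => by
    rcases signed_eq_or_neg (hsig i) hu h0 with h | h
    · rw [← h]; exact horth k i hik.symm
    · rw [show u = -v i by rw [h, neg_neg], ← neg_one_smul ℂ (v i), classInner_smul_right,
        horth k i hik.symm, mul_zero]
  rcases signed_inner_cases (hsig a) hu with ⟨-, h⟩ | ⟨h, -⟩ | h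
  · exact h
  · exfalso
    have h0 : classInner (v a) u ≠ 0 := by rw [h]; norm_num
    rw [excl a b hab h0, excl a c hac h0, h] at e
    norm_num at e
  · exfalso
    rw [h] at e e'
    by_cases hb : classInner (v b) u = 0
    · have hc : classInner (v c) u ≠ 0 := fun hc => by rw [hb, hc] at e; norm_num at e
      rw [excl c b' hcb' hc, excl c c' hcc' hc] at e'
      norm_num at e'
    · rw [excl b b' hbb' hb, excl b c' hbc' hb] at e'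
      norm_num at e'

theorem ti_exists_two_left {W₁ W₂ : Subgroup G} (hW : IsSelfNormalizingCyclic W₁ W₂)
    (hodd : Odd (Nat.card ↥(W₁ ⊔ W₂))) :
    (∃ φ φ' : ↥(W₁ ⊔ W₂) →* ℂˣ, φ ≠ φ' ∧ (φ ≠ 1 ∧ ∀ w : ↥(W₁ ⊔ W₂), (w : G) ∈ W₂ → φ w = 1) ∧
      (φ' ≠ 1 ∧ ∀ w : ↥(W₁ ⊔ W₂), (w : G) ∈ W₂ → φ' w = 1)) ∧
    (∃ ψ ψ' : ↥(W₁ ⊔ W₂) →* ℂˣ, ψ ≠ ψ' ∧ (ψ ≠ 1 ∧ ∀ w : ↥(W₁ ⊔ W₂), (w : G) ∈ W₁ → ψ w = 1) ∧
      (ψ' ≠ 1 ∧ ∀ w : ↥(W₁ ⊔ W₂), (w : G) ∈ W₁ → ψ' w = 1)) := by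
  obtain ⟨-, -, hdisj, hcomm, hcyc, -⟩ := id hW
  haveI := hcyc
  obtain ⟨hc1, hc2, -⟩ := ti_card_cases hW hodd
  haveI : Finite (↥(W₁ ⊔ W₂) →* ℂˣ) := Nat.finite_of_card_ne_zero
    (by rw [card_hom_units]; exact Subgroup.index_ne_zero_of_finite)
  constructor
  · have h : 1 < Nat.card {φ : ↥(W₁ ⊔ W₂) →* ℂˣ // φ ≠ 1 ∧ ∀ w : ↥(W₁ ⊔ W₂), (w : G) ∈ W₂ → φ w = 1} := by
      rw [ti_card_side (W₁ ⊔ W₂) W₁ W₂ le_sup_left (fun f g => ti_hom_ext hcomm) (ti_exists_split hdisj hcomm)]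
      omega
    obtain ⟨a, b, hab⟩ := (Finite.one_lt_card_iff_nontrivial.1 h).exists_pair_ne
    exact ⟨a.1, b.1, fun e => hab (Subtype.ext e), a.2, b.2⟩
  · have h : 1 < Nat.card {ψ : ↥(W₁ ⊔ W₂) →* ℂˣ // ψ ≠ 1 ∧ ∀ w : ↥(W₁ ⊔ W₂), (w : G) ∈ W₁ → ψ w = 1} := by
      rw [ti_card_side (W₁ ⊔ W₂) W₂ W₁ le_sup_right (fun f g h1 h2 => ti_hom_ext hcomm h2 h1) fun ω => by
        obtain ⟨φ, ψ, h1, h2, rfl⟩ := ti_exists_split hdisj hcomm ω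
        exact ⟨ψ, φ, h2, h1, mul_comm φ ψ⟩]
      omega
    obtain ⟨a, b, hab⟩ := (Finite.one_lt_card_iff_nontrivial.1 h).exists_pair_ne
    exact ⟨a.1, b.1, fun e => hab (Subtype.ext e), a.2, b.2⟩

/-- The family is unique. -/
theorem cyclicTIFamily_unique {W₁ W₂ : Subgroup G} (hW : IsSelfNormalizingCyclic W₁ W₂)
    (hodd : Odd (Nat.card ↥(W₁ ⊔ W₂))) {χ χ' : (↥(W₁ ⊔ W₂) →* ℂˣ) → (G → ℂ)}
    (h : IsCyclicTIFamily W₁ W₂ χ) (h' : IsCyclicTIFamily W₁ W₂ χ') : χ = χ' := by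
  classical
  obtain ⟨-, -, hdisj, hcomm, -, -⟩ := id hW
  obtain ⟨⟨p, p', hpp, ⟨hp1, hp2⟩, ⟨hp1', hp2'⟩⟩, q, q', hqq, ⟨hq1, hq2⟩, ⟨hq1', hq2'⟩⟩ :=
    ti_exists_two_left hW hodd
  have horth : ∀ i k, i ≠ k → classInner (χ i) (χ k) = 0 := fun i k hik => by
    rw [h.orthonormal, if_neg hik]
  have horth' : ∀ i k, i ≠ k → classInner (χ' i) (χ' k) = 0 := fun i k hik => by
    rw [h'.orthonormal, if_neg hik]
  have t1 : ∀ w : ↥(W₁ ⊔ W₂), (w : G) ∈ W₂ → (1 : ↥(W₁ ⊔ W₂) →* ℂˣ) w = 1 := fun _ _ => rfl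
  have t2 : ∀ w : ↥(W₁ ⊔ W₂), (w : G) ∈ W₁ → (1 : ↥(W₁ ⊔ W₂) →* ℂˣ) w = 1 := fun _ _ => rfl
  have pne : ∀ {φ ψ : ↥(W₁ ⊔ W₂) →* ℂˣ}, φ ≠ 1 → ψ ≠ 1 →
      (∀ w : ↥(W₁ ⊔ W₂), (w : G) ∈ W₂ → φ w = 1) → (∀ w : ↥(W₁ ⊔ W₂), (w : G) ∈ W₁ → ψ w = 1) →
      φ ≠ ψ ∧ φ ≠ φ * ψ ∧ ψ ≠ φ * ψ ∧ (1 : ↥(W₁ ⊔ W₂) →* ℂˣ) ≠ φ * ψ := by
    intro φ ψ h1 h2 h3 h4
    refine ⟨fun e => ?_, fun e => ?_, fun e => ?_, fun e => ?_⟩
    · exact h1 (ti_pair_facts hcomm h3 t1 t2 h4 ((mul_one φ).trans (e.trans (one_mul ψ).symm))).1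
    · exact h2 (ti_pair_facts hcomm h3 h3 t2 h4 ((mul_one φ).trans e)).2.symm
    · exact h1 (ti_pair_facts hcomm t1 h3 h4 h4 ((one_mul ψ).trans e)).1.symm
    · exact h1 (ti_pair_facts hcomm t1 h3 t2 h4 ((mul_one 1).trans e)).1.symm
  have heq : ∀ φ ψ : ↥(W₁ ⊔ W₂) →* ℂˣ, φ ≠ 1 → ψ ≠ 1 →
      (∀ w : ↥(W₁ ⊔ W₂), (w : G) ∈ W₂ → φ w = 1) → (∀ w : ↥(W₁ ⊔ W₂), (w : G) ∈ W₁ → ψ w = 1) →
      -χ φ - χ ψ + χ (φ * ψ) = -χ' φ - χ' ψ + χ' (φ * ψ) := by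
    intro φ ψ h1 h2 h3 h4
    funext g
    have e := congrFun ((h.induced_eq φ ψ h1 h2 h3 h4).symm.trans (h'.induced_eq φ ψ h1 h2 h3 h4)) g
    simp only [Pi.add_apply, Pi.sub_apply, Pi.neg_apply] at e ⊢
    linear_combination e
  have hinner : ∀ φ ψ : ↥(W₁ ⊔ W₂) →* ℂˣ, φ ≠ 1 → ψ ≠ 1 →
      (∀ w : ↥(W₁ ⊔ W₂), (w : G) ∈ W₂ → φ w = 1) → (∀ w : ↥(W₁ ⊔ W₂), (w : G) ∈ W₁ → ψ w = 1) →
      ∀ ω, ω = φ ∨ ω = ψ → -classInner (χ φ) (χ' ω) - classInner (χ ψ) (χ' ω) + classInner (χ (φ * ψ)) (χ' ω) = -1 := by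
    intro φ ψ h1 h2 h3 h4 ω hω
    obtain ⟨n1, n2, n3, -⟩ := pne h1 h2 h3 h4
    have e := congrArg (fun f => classInner f (χ' ω)) (heq φ ψ h1 h2 h3 h4)
    simp only [classInner_add_left, classInner_sub_left, ← neg_one_smul ℂ (χ φ), ← neg_one_smul ℂ (χ' φ),
      classInner_smul_left, neg_one_mul, h'.orthonormal] at e
    rw [e]
    rcases hω with rfl | rfl
    · rw [if_pos rfl, if_neg n1.symm, if_neg n2.symm]; ring
    · rw [if_neg n1, if_pos rfl, if_neg n3.symm]; ring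
  have hφ : ∀ φ : ↥(W₁ ⊔ W₂) →* ℂˣ, φ ≠ 1 → (∀ w : ↥(W₁ ⊔ W₂), (w : G) ∈ W₂ → φ w = 1) → χ φ = χ' φ := by
    intro φ h1 h3
    obtain ⟨n1, n2, n3, -⟩ := pne h1 hq1 h3 hq2
    obtain ⟨m1, m2, m3, -⟩ := pne h1 hq1' h3 hq2'
    refine ti_unique_aux (fun i => h.irr_or_neg i) horth (h'.irr_or_neg φ) (a := φ) (b := q) (c := φ * q)
      (b' := q') (c' := φ * q') n1 n2 hqq (fun e => ?_) (fun e => ?_) (fun e => hqq (mul_left_cancel e))
      (hinner φ q h1 hq1 h3 hq2 φ (Or.inl rfl)) (hinner φ q' h1 hq1' h3 hq2' φ (Or.inl rfl))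
    · exact h1 (ti_pair_facts hcomm t1 h3 hq2 hq2' ((one_mul q).trans e)).1.symm
    · exact h1 (ti_pair_facts hcomm h3 t1 hq2 hq2' (e.trans (one_mul q').symm)).1
  have hψ : ∀ ψ : ↥(W₁ ⊔ W₂) →* ℂˣ, ψ ≠ 1 → (∀ w : ↥(W₁ ⊔ W₂), (w : G) ∈ W₁ → ψ w = 1) → χ ψ = χ' ψ := by
    intro ψ h2 h4
    obtain ⟨n1, n2, n3, -⟩ := pne hp1 h2 hp2 h4
    obtain ⟨m1, m2, m3, -⟩ := pne hp1' h2 hp2' h4
    refine ti_unique_aux (fun i => h.irr_or_neg i) horth (h'.irr_or_neg ψ) (a := ψ) (b := p) (c := p * ψ)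
      (b' := p') (c' := p' * ψ) n1.symm n3 hpp (fun e => ?_) (fun e => ?_) (fun e => hpp (mul_right_cancel e))
      ?_ ?_
    · exact h2 (ti_pair_facts hcomm hp2 hp2' t2 h4 ((mul_one p).trans e)).2.symm
    · exact h2 (ti_pair_facts hcomm hp2 hp2' h4 t2 (e.trans (mul_one p').symm)).2
    · linear_combination hinner p ψ hp1 h2 hp2 h4 ψ (Or.inr rfl)
    · linear_combination hinner p' ψ hp1' h2 hp2' h4 ψ (Or.inr rfl)
  funext ω
  obtain ⟨φ, ψ, h3, h4, rfl⟩ := ti_exists_split hdisj hcomm ω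
  by_cases h1 : φ = 1
  · subst h1
    refine (congrArg χ (one_mul ψ)).trans (Eq.trans ?_ (congrArg χ' (one_mul ψ)).symm)
    by_cases h2 : ψ = 1
    · subst h2; rw [h.map_one, h'.map_one]
    · exact hψ ψ h2 h4
  · by_cases h2 : ψ = 1
    · subst h2
      exact (congrArg χ (mul_one φ)).trans ((hφ φ h1 h3).trans (congrArg χ' (mul_one φ)).symm)
    · have e := heq φ ψ h1 h2 h3 h4
      rw [hφ φ h1 h3, hψ ψ h2 h4] at e
      exact add_left_cancel e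

/-- Galois conjugation of the family. -/
theorem cyclicTIFamily_pow {W₁ W₂ : Subgroup G} (hW : IsSelfNormalizingCyclic W₁ W₂)
    (hodd : Odd (Nat.card ↥(W₁ ⊔ W₂))) {χ : (↥(W₁ ⊔ W₂) →* ℂˣ) → (G → ℂ)}
    (h : IsCyclicTIFamily W₁ W₂ χ) {k : ℕ} (hk : k.Coprime (Nat.card G)) (ω : ↥(W₁ ⊔ W₂) →* ℂˣ) (g : G) :
    χ ω (g ^ k) = χ (ω ^ k) g := by
  classical
  obtain ⟨l, hl⟩ : ∃ l : ℕ, k * l ≡ 1 [MOD Nat.card G] :=
    (Nat.exists_mul_mod_eq_of_coprime 1 hk Nat.card_pos.ne').imp fun l hl => hl.2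
  have hlc : l.Coprime (Nat.card G) := by
    have : (k * l).Coprime (Nat.card G) := by
      rw [Nat.coprime_iff_gcd_eq_one, hl.gcd_eq, Nat.gcd_one_left]
    exact this.coprime_mul_left
  have gpow : ∀ x : G, x ^ (k * l) = x := fun x => by
    conv_rhs => rw [← pow_one x]
    exact pow_eq_pow_iff_modEq.mpr (hl.of_dvd (orderOf_dvd_natCard x))
  have wpow : ∀ w : ↥(W₁ ⊔ W₂), w ^ (k * l) = w := fun w => Subtype.ext (gpow w)
  set χ' : (↥(W₁ ⊔ W₂) →* ℂˣ) → (G → ℂ) := fun f g => χ (f ^ l) (g ^ k) with hχ'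
  have hinj : ∀ f f' : ↥(W₁ ⊔ W₂) →* ℂˣ, f ^ l = f' ^ l → f = f' := fun f f' e => MonoidHom.ext fun w => by
    have h1 := DFunLike.congr_fun e (w ^ k)
    simp only [MonoidHom.pow_apply, ← map_pow, ← pow_mul, wpow] at h1
    exact h1
  have onel : (1 : ↥(W₁ ⊔ W₂) →* ℂˣ) ^ l = 1 := MonoidHom.ext fun w => by simp
  have mull : ∀ f f' : ↥(W₁ ⊔ W₂) →* ℂˣ, (f * f') ^ l = f ^ l * f' ^ l := fun f f' => MonoidHom.ext fun w => by
    simp [mul_pow]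
  have kl : ∀ f : ↥(W₁ ⊔ W₂) →* ℂˣ, (f ^ k) ^ l = f := fun f => MonoidHom.ext fun w => by
    rw [MonoidHom.pow_apply, MonoidHom.pow_apply, ← pow_mul, ← map_pow, wpow]
  have h' : IsCyclicTIFamily W₁ W₂ χ' := by
    refine ⟨fun f => ?_, fun f f' => ?_, ?_, fun f w hw₁ hw₂ => ?_, fun φ ψ h1 h2 h3 h4 => ?_⟩
    · rcases h.irr_or_neg (f ^ l) with hi | hi
      · exact Or.inl (isIrrCharacter_pow hi hk)
      · exact Or.inr (isIrrCharacter_pow hi hk)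
    · have e : classInner (χ' f) (χ' f') = classInner (χ (f ^ l)) (χ (f' ^ l)) := by
        simp only [classInner, hχ']
        congr 1
        exact Fintype.sum_equiv (powCoprime (Nat.Coprime.symm hk)) _ _ fun g => rfl
      rw [e, h.orthonormal]
      by_cases hff : f = f'
      · rw [if_pos hff, if_pos (by rw [hff])]
      · rw [if_neg hff, if_neg fun e' => hff (hinj f f' e')]
    · funext g
      simp only [hχ', onel, h.map_one]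
    · have hmem : ∀ K : Subgroup G, ((w ^ k : ↥(W₁ ⊔ W₂)) : G) ∈ K → (w : G) ∈ K := fun K hm => by
        have h5 := K.pow_mem hm l
        rwa [Subgroup.coe_pow, ← pow_mul, gpow] at h5
      have h6 := h.eq_on (f ^ l) (w ^ k) (fun hm => hw₁ (hmem _ hm)) (fun hm => hw₂ (hmem _ hm))
      show χ (f ^ l) ((w : G) ^ k) = _
      rw [← Subgroup.coe_pow, h6, MonoidHom.pow_apply, ← map_pow, ← pow_mul, wpow]
    · funext g
      have e := congrFun (h.induced_eq (φ ^ l) (ψ ^ l) (fun e => h1 (hinj φ 1 (e.trans onel.symm)))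
        (fun e => h2 (hinj ψ 1 (e.trans onel.symm)))
        (fun w hw => by rw [MonoidHom.pow_apply, h3 w hw, one_pow])
        (fun w hw => by rw [MonoidHom.pow_apply, h4 w hw, one_pow])) (g ^ k)
      simp only [hχ', mull]
      rw [← e]
      unfold indFun
      congr 1
      refine Finset.sum_congr rfl fun x _ => ?_
      have hc : x⁻¹ * g ^ k * x = (x⁻¹ * g * x) ^ k := by
        simpa using (conj_pow (a := x⁻¹) (b := g) (i := k)).symm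
      rw [hc]
      by_cases hm : x⁻¹ * g * x ∈ W₁ ⊔ W₂
      · rw [extendByZero_mem _ _ hm, extendByZero_mem _ _ (Subgroup.pow_mem _ hm k)]
        have hw : (⟨(x⁻¹ * g * x) ^ k, Subgroup.pow_mem _ hm k⟩ : ↥(W₁ ⊔ W₂)) = ⟨x⁻¹ * g * x, hm⟩ ^ k := rfl
        have hval : ∀ f : ↥(W₁ ⊔ W₂) →* ℂˣ,
            (f ^ l) (⟨(x⁻¹ * g * x) ^ k, Subgroup.pow_mem _ hm k⟩ : ↥(W₁ ⊔ W₂)) = f ⟨x⁻¹ * g * x, hm⟩ := fun f => by
          rw [hw, MonoidHom.pow_apply, ← map_pow, ← pow_mul, wpow]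
        simp only [hval]
      · rw [extendByZero_not_mem _ _ hm, extendByZero_not_mem]
        intro hm'
        have h5 := Subgroup.pow_mem _ hm' l
        rw [← pow_mul, gpow] at h5
        exact hm h5
  have e := congrFun (congrFun (cyclicTIFamily_unique hW hodd h h') (ω ^ k)) g
  rw [e, hχ']
  show χ ω (g ^ k) = χ ((ω ^ k) ^ l) (g ^ k)
  rw [kl]

end Cfsg.Agent.Char
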