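import Cfsg.Agent.Lib.Char.TransferLine

/-!
# Irreducible modules carrying a given irreducible module of the normalizer
-/

set_option autoImplicit false
set_option linter.unusedSectionVars false
set_option linter.style.haveILetI false

namespace Cfsg.Agent.Char.TransferLine

open Cfsg Module

universe u v

variable {k : Type v} [Field k] {G : Type u} [Group G] [Fintype G] {p : ℕ} (P : Subgroup G)

section Ind

variable {V : Type u} [AddCommGroup V] [Module k V] (ν : Subgroup.normalizer (P : Set G) →* Module.End k V)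

/-- The functions transforming by `ν` under the normalizer. -/
def indVSpace : Submodule k (G → V) where
  carrier := {f | ∀ (g : G) (n : Subgroup.normalizer (P : Set G)), f (g * n) = ν n⁻¹ (f g)}
  add_mem' ha hb := fun g n => by simp [ha g n, hb g n]
  zero_mem' := fun g n => by simp
  smul_mem' r f hf := fun g n => by simp [hf g n]

/-- The induced representation. -/
def indVRep : G →* Module.End k (indVSpace P ν) where
  toFun x :=
    { toFun := fun f => ⟨fun g => (f : G → V) (x⁻¹ * g), fun g n => by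
        simp only [← mul_assoc]; exact f.2 _ n⟩
      map_add' := fun _ _ => rfl
      map_smul' := fun _ _ => rfl }
  map_one' := LinearMap.ext fun f => Subtype.ext (funext fun g => by simp)
  map_mul' x y := LinearMap.ext fun f => Subtype.ext (funext fun g => by simp [mul_assoc])

open scoped Classical in
/-- The functions supported on the normalizer. -/
noncomputable def indInc : V →ₗ[k] indVSpace P ν where
  toFun v := ⟨fun g => if h : g ∈ Subgroup.normalizer (P : Set G) then ν (⟨g, h⟩⁻¹) v else 0, fun g n => by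
    dsimp only
    by_cases hg : g ∈ Subgroup.normalizer (P : Set G)
    · rw [dif_pos hg, dif_pos (Subgroup.mul_mem _ hg n.2), ← Module.End.mul_apply, ← map_mul]
      refine LinearMap.congr_fun (congrArg ν ?_) v
      exact Subtype.ext (by simp)
    · rw [dif_neg hg, dif_neg fun h => hg ((Subgroup.mul_mem_cancel_right _ n.2).mp h), map_zero]⟩
  map_add' v w := Subtype.ext (funext fun g => by
    by_cases h : g ∈ Subgroup.normalizer (P : Set G) <;> simp [h])
  map_smul' r v := Subtype.ext (funext fun g => by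
    by_cases h : g ∈ Subgroup.normalizer (P : Set G) <;> simp [h])

theorem indInc_norm (n : Subgroup.normalizer (P : Set G)) (v : V) :
    indVRep P ν (n : G) (indInc P ν v) = indInc P ν (ν n v) := by
  classical
  refine Subtype.ext (funext fun g => ?_)
  show (if h : (n : G)⁻¹ * g ∈ _ then _ else _) = (if h : g ∈ _ then _ else _)
  by_cases hg : g ∈ Subgroup.normalizer (P : Set G)
  · rw [dif_pos (Subgroup.mul_mem _ (inv_mem n.2) hg), dif_pos hg, ← Module.End.mul_apply, ← map_mul]
    exact LinearMap.congr_fun (congrArg ν (Subtype.ext (by simp))) v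
  · rw [dif_neg fun h => hg ((Subgroup.mul_mem_cancel_left _ (inv_mem n.2)).mp h), dif_neg hg]

variable [Fintype P] [CharP k p]

theorem indInc_not_trace (hP : Nat.card P = p)
    (htriv : ∀ y : Subgroup.normalizer (P : Set G), (y : G) ∈ P → ν y = 1) {v : V} (hv : v ≠ 0) :
    indInc P ν v ∉ LinearMap.range (trEnd (indVRep P ν) P) := by
  classical
  rintro ⟨t, ht⟩
  refine hv ?_
  have h1 := congrArg (fun f : indVSpace P ν => (f : G → V) 1) ht
  simp only [trEnd, LinearMap.sum_apply, AddSubmonoidClass.coe_finset_sum, Finset.sum_apply] at h1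
  have h2 : ((indInc P ν v : indVSpace P ν) : G → V) 1 = v := by
    show (if h : _ then _ else _) = v
    rw [dif_pos (Subgroup.one_mem _), show (⟨1, _⟩ : Subgroup.normalizer (P : Set G))⁻¹ = 1 from
      Subtype.ext (by simp), map_one]
    rfl
  rw [h2, Finset.sum_eq_card_nsmul (b := (t : G → V) 1) fun y _ => ?_, Finset.card_univ,
    ← Nat.card_eq_fintype_card, hP, ← Nat.cast_smul_eq_nsmul k, CharP.cast_eq_zero, zero_smul] at h1
  · exact h1.symm
  · show (t : G → V) ((y : G)⁻¹ * 1) = _
    have h3 := t.2 1 ⟨(y : G)⁻¹, Subgroup.le_normalizer (P.inv_mem y.2)⟩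
    rw [one_mul] at h3
    rw [mul_one, h3, htriv _ (by simp), Module.End.one_apply]

end Ind

open scoped Classical

/-- The elements of the normalizer centralizing `P`. -/
noncomputable def centF : Finset (Subgroup.normalizer (P : Set G)) :=
  Finset.univ.filter fun h => (h : G) ∈ Subgroup.centralizer (P : Set G)

/-- The representation has a copy of the module of the normalizer among its fixed classes. -/
def Carries [Fintype P] {V W : Type u} [AddCommGroup V] [Module k V] [AddCommGroup W] [Module k W]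
    (ν : Subgroup.normalizer (P : Set G) →* Module.End k V) (ρ : G →* Module.End k W) : Prop :=
  ∃ f : V →ₗ[k] W, (∀ n v, f (ν n v) = ρ (n : G) (f v)) ∧ (∀ v, ∀ y : P, ρ (y : G) (f v) = f v) ∧
    ∃ v, f v ∉ LinearMap.range (trEnd ρ P)

/-- An irreducible module of the normalizer on which a relative trace is the identity and which lies in a block. -/
structure NormData {V : Type u} [AddCommGroup V] [Module k V] (z b : G → k)
    (ν : Subgroup.normalizer (P : Set G) →* Module.End k V) : Prop where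
  simple : SimpleRep ν
  triv : ∀ y : Subgroup.normalizer (P : Set G), (y : G) ∈ P → ν y = 1
  supp : ∀ g, z g ≠ 0 → g ∈ Subgroup.centralizer (P : Set G)
  trace : ∀ v, cosetSum P (fun n => ν n (∑ h ∈ centF P, z h • ν h (ν n⁻¹ v))) = v
  block : ∀ v, (∑ h ∈ centF P, b h • ν h v) = v

variable {W : Type u} [AddCommGroup W] [Module k W] {ρ : G →* Module.End k W}
  {V : Type u} [AddCommGroup V] [Module k V] {ν : Subgroup.normalizer (P : Set G) →* Module.End k V}
  {z b : G → k}

open scoped Classical in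
theorem zOp_map (hz : ∀ g, z g ≠ 0 → g ∈ Subgroup.centralizer (P : Set G)) {f : V →ₗ[k] W}
    (hf : ∀ n v, f (ν n v) = ρ (n : G) (f v)) (v : V) :
    zOp ρ z (f v) = f (∑ h ∈ centF P, z h • ν h v) := by
  simp only [zOp, LinearMap.sum_apply, LinearMap.smul_apply, map_sum, map_smul, hf]
  rw [← Finset.sum_subset (Finset.subset_univ (Finset.univ.filter fun g => g ∈ Subgroup.centralizer (P : Set G)))
    fun g _ hg => by
      rw [show z g = 0 from by
        by_contra h
        exact hg (Finset.mem_filter.mpr ⟨Finset.mem_univ _, hz g h⟩), zero_smul]]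
  symm
  refine Finset.sum_bij (fun h _ => (h : G)) (fun h hh => Finset.mem_filter.mpr
    ⟨Finset.mem_univ _, (Finset.mem_filter.mp hh).2⟩) (fun a _ a' _ e => Subtype.ext e) (fun g hg => ?_)
    (fun h _ => rfl)
  exact ⟨⟨g, Subgroup.centralizer_le_normalizer _ (Finset.mem_filter.mp hg).2⟩,
    Finset.mem_filter.mpr ⟨Finset.mem_univ _, (Finset.mem_filter.mp hg).2⟩, rfl⟩

theorem trace_map (hd : NormData P z b ν) {f : V →ₗ[k] W} (hf : ∀ n v, f (ν n v) = ρ (n : G) (f v)) (v : V) :
    cosetSum P (fun n => ρ (n : G) (zOp ρ z (ρ (n : G)⁻¹ (f v)))) = f v := by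
  classical
  conv_rhs => rw [← hd.trace v]
  simp only [cosetSum, map_sum]
  refine Finset.sum_congr rfl fun q _ => ?_
  rw [← Subgroup.coe_inv, ← hf, zOp_map P hd.supp hf, ← hf, map_sum]
  simp only [map_sum]

variable [Fintype P] [CharP k p] [FiniteDimensional k W] (hp : p.Prime) (hP : Nat.card P = p)
include hp hP

/-- Two modules of the normalizer seen in one irreducible module are linked. -/
theorem exists_map (hρ : SimpleRep ρ) {V' : Type u} [AddCommGroup V'] [Module k V']
    {ν' : Subgroup.normalizer (P : Set G) →* Module.End k V'} {z' : G → k}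
    (hd : NormData P z b ν) {f : V →ₗ[k] W} (hf : ∀ n v, f (ν n v) = ρ (n : G) (f v))
    (hfix : ∀ v, ∀ y : P, ρ (y : G) (f v) = f v) (hne : ∃ v, f v ∉ LinearMap.range (trEnd ρ P))
    (hd' : NormData P z' b ν') {f' : V' →ₗ[k] W} (hf' : ∀ n v, f' (ν' n v) = ρ (n : G) (f' v))
    (hfix' : ∀ v, ∀ y : P, ρ (y : G) (f' v) = f' v) (hne' : ∃ v, f' v ∉ LinearMap.range (trEnd ρ P)) :
    ∃ g : V' →ₗ[k] V, (∀ n v, g (ν' n v) = ν n (g v)) ∧ ∃ v, g v ≠ 0 := by
  classical
  set R := LinearMap.range (trEnd ρ P) with hR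
  have hRinv : ∀ n ∈ Subgroup.normalizer (P : Set G), ∀ x ∈ R, ρ n x ∈ R := by
    rintro n hn _ ⟨t, rfl⟩
    exact ⟨ρ n t, by rw [← Module.End.mul_apply, ← trEnd_norm P ρ hn]; rfl⟩
  set Y := LinearMap.range f ⊔ R with hY
  have hYfix : ∀ x ∈ Y, ∀ y : P, ρ (y : G) x = x := by
    intro x hx y
    obtain ⟨_, ⟨a, rfl⟩, _, ⟨t, rfl⟩, rfl⟩ := Submodule.mem_sup.mp hx
    rw [map_add, hfix a y, trEnd_fixed]
  have hYinv : ∀ n ∈ Subgroup.normalizer (P : Set G), ∀ x ∈ Y, ρ n x ∈ Y := by
    intro n hn x hx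
    obtain ⟨_, ⟨a, rfl⟩, r, hr, rfl⟩ := Submodule.mem_sup.mp hx
    rw [map_add]
    exact Submodule.add_mem_sup ⟨ν ⟨n, hn⟩ a, hf ⟨n, hn⟩ a⟩ (hRinv n hn r hr)
  have hE : ∀ x ∈ Y, cosetSum P (fun n => ρ (n : G) (zOp ρ z (ρ (n : G)⁻¹ x))) - x ∈ R := by
    intro x hx
    obtain ⟨_, ⟨a, rfl⟩, r, hr, rfl⟩ := Submodule.mem_sup.mp hx
    have h1 : cosetSum P (fun n => ρ (n : G) (zOp ρ z (ρ (n : G)⁻¹ (f a + r)))) =
        f a + cosetSum P (fun n => ρ (n : G) (zOp ρ z (ρ (n : G)⁻¹ r))) := by
      conv_rhs => arg 1; rw [← trace_map P hd hf a]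
      simp only [cosetSum, map_add, Finset.sum_add_distrib]
    rw [h1, add_sub_add_left_eq_sub]
    refine R.sub_mem ?_ hr
    simp only [cosetSum]
    refine Submodule.sum_mem _ fun q _ => hRinv _ (Subtype.prop _) _ ?_
    obtain ⟨t, ht⟩ := hRinv _ (inv_mem (Subtype.prop _)) r hr
    refine ⟨zOp ρ z t, ?_⟩
    rw [← ht]
    have hcm : Commute (zOp ρ z) (trEnd ρ P) :=
      Commute.sum_right _ _ _ fun y _ => (zOp_comm P ρ hd.supp y.2).symm
    exact (LinearMap.congr_fun hcm.eq t).symm
  obtain ⟨v0, hv0⟩ := hne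
  have hall : ∀ v', f' v' ∈ Y := fun v' => fixed_le P ρ hp hP hρ hd.supp Y hYfix hYinv le_sup_right
    ⟨f v0, Submodule.mem_sup_left ⟨v0, rfl⟩, hv0⟩ hE (hfix' v')
  have hker : ∀ v, f v ∈ R → v = 0 := by
    intro v hv
    have hinv : InvSub ν (R.comap f) := fun n a ha => by
      show f (ν n a) ∈ R
      rw [hf]
      exact hRinv _ n.2 _ ha
    rcases hd.simple.2 (R.comap f) hinv with h | h
    · exact (Submodule.mem_bot k).mp (h ▸ hv)
    · exact absurd (show v0 ∈ R.comap f from h ▸ Submodule.mem_top) hv0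
  choose g hg using fun v' => show ∃ a, f' v' - f a ∈ R from by
    obtain ⟨_, ⟨a, rfl⟩, r, hr, e⟩ := Submodule.mem_sup.mp (hall v')
    exact ⟨a, by rw [← e, add_sub_cancel_left]; exact hr⟩
  have huniq : ∀ v' a, f' v' - f a ∈ R → a = g v' := fun v' a ha => by
    refine sub_eq_zero.mp (hker _ ?_)
    rw [map_sub, ← sub_sub_sub_cancel_left (f (g v')) (f a) (f' v')]
    exact R.sub_mem (hg v') ha
  let gl : V' →ₗ[k] V :=
    { toFun := g
      map_add' := fun a a' => (huniq _ _ (by
        rw [map_add, map_add, add_sub_add_comm]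
        exact R.add_mem (hg a) (hg a'))).symm
      map_smul' := fun r a => (huniq _ _ (by
        rw [map_smul, map_smul, RingHom.id_apply, ← smul_sub]
        exact R.smul_mem r (hg a))).symm }
  refine ⟨gl, fun n a => (huniq _ _ ?_).symm, ?_⟩
  · show f' (ν' n a) - f (ν n (g a)) ∈ R
    rw [hf, hf', ← map_sub]
    exact hRinv _ n.2 _ (hg a)
  · obtain ⟨v, hv⟩ := hne'
    refine ⟨v, fun h => hv ?_⟩
    have := hg v
    rwa [show g v = 0 from h, map_zero, sub_zero] at this

omit [FiniteDimensional k W]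

set_option maxHeartbeats 1000000 in
/-- An invariant space carrying the module of the normalizer has an irreducible subquotient carrying it. -/
theorem exists_simple_core [FiniteDimensional k V] [FiniteDimensional k W] (ρ : G →* Module.End k W)
    (hd : NormData P z b ν) (U₀ : Submodule k W) (hU₀ : InvSub ρ U₀) (f0 : V →ₗ[k] W) (hf0U : ∀ v, f0 v ∈ U₀)
    (hf0 : ∀ n v, f0 (ν n v) = ρ (n : G) (f0 v)) (hf0fix : ∀ v, ∀ y : P, ρ (y : G) (f0 v) = f0 v)
    (hf0ne : ∃ v, f0 v ∉ U₀.map (trEnd ρ P)) :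
    ∃ q : InvPair ρ, q.top ≤ U₀ ∧ SimpleRep q.rep ∧ Carries P ν q.rep := by
  let Good : Submodule k W → Prop := fun U => InvSub ρ U ∧ U ≤ U₀ ∧
    ∃ f : V →ₗ[k] W, (∀ v, f v ∈ U) ∧ (∀ n v, f (ν n v) = ρ (n : G) (f v)) ∧
      (∀ v, ∀ y : P, ρ (y : G) (f v) = f v) ∧ ∃ v, f v ∉ U.map (trEnd ρ P)
  have hGood : Good U₀ := ⟨hU₀, le_rfl, f0, hf0U, hf0, hf0fix, hf0ne⟩
  obtain ⟨U, hU, hmin⟩ := IsWellFounded.wf.has_min {U | Good U} ⟨U₀, hGood⟩
    (r := ((· < ·) : Submodule k (W) → Submodule k (W) → Prop))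
  obtain ⟨hUi, hUle, f, hfU, hf, hffix, vn, hvn⟩ := hU
  have hbot : InvSub ρ (⊥ : Submodule k (W)) := fun g y hy => by
    rw [Submodule.mem_bot] at hy ⊢; rw [hy, map_zero]
  have hUne : U ≠ ⊥ := fun e => by
    have h1 := hfU vn
    rw [e, Submodule.mem_bot] at h1
    exact hvn (h1 ▸ Submodule.zero_mem _)
  obtain ⟨U', hU', hmax⟩ := (IsWellFounded.wf
    (r := ((· > ·) : Submodule k (W) → Submodule k (W) → Prop))).has_min
    {U' | InvSub ρ U' ∧ U' < U} ⟨⊥, hbot, bot_lt_iff_ne_bot.mpr hUne⟩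
  obtain ⟨hU'i, hU'lt⟩ := hU'
  set q : InvPair ρ := ⟨U, U', hUi, hU'i⟩ with hq
  refine ⟨q, hUle, ?_, (q.bot.comap q.top.subtype).mkQ ∘ₗ f.codRestrict U hfU, fun n v => ?_, fun v y => ?_, ?_⟩
  · constructor
    · obtain ⟨y, hyU, hyU'⟩ := SetLike.exists_of_lt hU'lt
      exact ⟨Submodule.Quotient.mk ⟨y, hyU⟩, 0, fun h => hyU' (by
        rw [Submodule.Quotient.mk_eq_zero] at h
        exact h)⟩
    · intro Vs hVs
      set V' : Submodule k (W) := (Vs.comap (Submodule.mkQ _)).map U.subtype with hV'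
      have hle : U' ≤ V' := fun y hy =>
        ⟨⟨y, hU'lt.le hy⟩, by
          show Submodule.Quotient.mk _ ∈ Vs
          rw [(Submodule.Quotient.mk_eq_zero _).mpr (show (⟨y, hU'lt.le hy⟩ : ↥U) ∈ U'.comap U.subtype from hy)]
          exact Vs.zero_mem, rfl⟩
      have hV'i : InvSub ρ V' := by
        rintro g _ ⟨y, hy, rfl⟩
        exact ⟨⟨ρ g (y : W), hUi g y y.2⟩, hVs g _ hy, rfl⟩
      rcases eq_or_lt_of_le (show V' ≤ U from Submodule.map_subtype_le _ _) with e | hlt
      · refine Or.inr (eq_top_iff.mpr fun a _ => ?_)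
        obtain ⟨y, rfl⟩ := Submodule.Quotient.mk_surjective _ a
        obtain ⟨y', hy', he⟩ := (e.symm ▸ y.2 : (y : W) ∈ V')
        rw [Subtype.ext he] at hy'
        exact hy'
      · rcases eq_or_lt_of_le hle with e | hlt'
        · refine Or.inl (eq_bot_iff.mpr fun a ha => ?_)
          obtain ⟨y, rfl⟩ := Submodule.Quotient.mk_surjective _ a
          rw [Submodule.mem_bot, Submodule.Quotient.mk_eq_zero]
          show (y : W) ∈ U'
          rw [e]
          exact ⟨y, ha, rfl⟩
        · exact absurd hlt' (hmax V' ⟨hV'i, hlt⟩)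
  · exact (congrArg Submodule.Quotient.mk (Subtype.ext (hf n v))).trans (InvPair.rep_mk q (n : G) ⟨f v, hfU v⟩).symm
  · exact (InvPair.rep_mk q (y : G) ⟨f v, hfU v⟩).trans (congrArg Submodule.Quotient.mk (Subtype.ext (hffix v y)))
  · by_contra hall
    push Not at hall
    have hstep : ∀ v, ∃ w : U, f v - trEnd ρ P (w : W) ∈ U' := by
      intro v
      obtain ⟨a, ha⟩ := hall v
      obtain ⟨a, rfl⟩ := Submodule.Quotient.mk_surjective _ a
      rw [trEnd, LinearMap.sum_apply] at ha
      replace ha : Submodule.mkQ (U'.comap U.subtype)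
          (∑ y : P, (⟨ρ (y : G) (a : W), hUi _ _ a.2⟩ : ↥U)) =
          Submodule.mkQ (U'.comap U.subtype) ⟨f v, hfU v⟩ := by
        rw [map_sum]; exact ha
      rw [Submodule.mkQ_apply, Submodule.mkQ_apply, Submodule.Quotient.eq] at ha
      refine ⟨a, ?_⟩
      have h1 := ha
      simp only [Submodule.mem_comap, Submodule.subtype_apply, AddSubgroupClass.coe_sub,
        AddSubmonoidClass.coe_finset_sum] at h1
      have h2 : trEnd ρ P (a : W) - f v ∈ U' := by simpa [trEnd] using h1
      simpa using U'.neg_mem h2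
    choose w hw using hstep
    let bV := Module.finBasis k V
    let wl : V →ₗ[k] W := bV.constr k fun i => (w (bV i) : W)
    have hwlU : ∀ v, wl v ∈ U := fun v => by
      rw [← bV.sum_repr v, map_sum]
      exact Submodule.sum_mem _ fun i _ => by
        rw [map_smul, Module.Basis.constr_basis]; exact U.smul_mem _ (w (bV i)).2
    let h : V →ₗ[k] W := f - trEnd ρ P ∘ₗ wl
    have hhU : ∀ v, h v ∈ U' := fun v => by
      rw [← bV.sum_repr v, map_sum]
      refine Submodule.sum_mem _ fun i _ => ?_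
      rw [map_smul]
      refine U'.smul_mem _ ?_
      simp only [h, wl, LinearMap.sub_apply, LinearMap.comp_apply, Module.Basis.constr_basis]
      exact hw _
    have hhfix : ∀ v, ∀ y : P, ρ (y : G) (h v) = h v := fun v y => by
      simp only [h, LinearMap.sub_apply, LinearMap.comp_apply, map_sub, hffix, trEnd_fixed]
    let Zv : Module.End k V := ∑ m ∈ centF P, z (m : G) • ν m
    let H : Subgroup.normalizer (P : Set G) → (V →ₗ[k] W) := fun n => ρ (n : G) ∘ₗ h ∘ₗ Zv ∘ₗ ν n⁻¹
    have hH : ∀ n y : Subgroup.normalizer (P : Set G), (y : G) ∈ P → H (n * y) = H n := by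
      intro n y hy
      refine LinearMap.ext fun v => ?_
      simp only [H, LinearMap.comp_apply, mul_inv_rev, map_mul, Module.End.mul_apply, Subgroup.coe_mul]
      rw [hd.triv y⁻¹ (by simpa using hy), Module.End.one_apply, hhfix _ ⟨(y : G), hy⟩]
    have hH' : ∀ v, ∀ n y : Subgroup.normalizer (P : Set G), (y : G) ∈ P → H (n * y) v = H n v := fun v n y hy => by rw [hH n y hy]
    letI := Fintype.ofFinite (Subgroup.normalizer (P : Set G) ⧸ P.subgroupOf (Subgroup.normalizer (P : Set G)))
    let f' : V →ₗ[k] W := cosetSum P H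
    have hf'apply : ∀ v, f' v = cosetSum P (fun n => H n v) := fun v => by
      simp only [f', cosetSum, LinearMap.sum_apply]
    have hf'U : ∀ v, f' v ∈ U' := fun v => by
      rw [hf'apply]
      exact Submodule.sum_mem _ fun q _ => hU'i _ _ (hhU _)
    have hf'eq : ∀ n v, f' (ν n v) = ρ (n : G) (f' v) := by
      intro m v
      rw [hf'apply, hf'apply, ← cosetSum_mul P (fun n => H n (ν m v)) (hH' _) m]
      simp only [cosetSum, map_sum]
      refine Finset.sum_congr rfl fun q _ => ?_
      simp only [H, LinearMap.comp_apply, mul_inv_rev, map_mul, Module.End.mul_apply, Subgroup.coe_mul]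
      rw [← Module.End.mul_apply (ν m⁻¹), ← map_mul, inv_mul_cancel, map_one, Module.End.one_apply]
    have hf'fix : ∀ v, ∀ y : P, ρ (y : G) (f' v) = f' v := fun v y => by
      rw [hf'apply]
      simp only [cosetSum, map_sum]
      exact Finset.sum_congr rfl fun q _ => fixed_norm P ρ (Subtype.prop _) (hhfix _) y
    have hdiff : ∀ v, f v - f' v ∈ U.map (trEnd ρ P) := by
      intro v
      have e : f v = cosetSum P (fun n => ρ (n : G) (f (Zv (ν n⁻¹ v)))) := by
        conv_lhs => rw [← hd.trace v]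
        simp only [cosetSum, map_sum, LinearMap.sum_apply, hf, Zv, LinearMap.smul_apply, map_smul]
      rw [hf'apply, e]
      simp only [cosetSum, ← Finset.sum_sub_distrib, H, LinearMap.comp_apply, h, LinearMap.sub_apply, map_sub,
        sub_sub_cancel]
      refine Submodule.sum_mem _ fun q _ => ⟨ρ (q.out : G) (wl (Zv (ν (q.out)⁻¹ v))), hUi _ _ (hwlU _), ?_⟩
      rw [← Module.End.mul_apply, ← trEnd_norm P ρ (Subtype.prop _)]
      rfl
    refine hmin U' ⟨hU'i, hU'lt.le.trans hUle, f', hf'U, hf'eq, hf'fix, ?_⟩ hU'lt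
    by_contra hall'
    push Not at hall'
    refine hvn ?_
    obtain ⟨s, hs, hse⟩ := hall' vn
    obtain ⟨s', hs', hse'⟩ := hdiff vn
    refine ⟨s + s', U.add_mem (hU'lt.le hs) hs', ?_⟩
    rw [map_add, hse, hse', add_sub_cancel]


open scoped Classical in
set_option maxHeartbeats 1000000 in
/-- Every such module of the normalizer lies in the fixed classes of an irreducible module of the block. -/
theorem exists_simple [FiniteDimensional k V] (hd : NormData P z b ν) (hbc : ∀ g x, b (x * g * x⁻¹) = b g)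
    (hbi : ∀ x, ∑ g, b g * b (g⁻¹ * x) = b x) :
    ∃ q : InvPair (indVRep P ν), SimpleRep q.rep ∧ (∀ a, (∑ g, b g • q.rep g) a = a) ∧
      Carries P ν q.rep := by
  haveI := Fact.mk hp
  set ρ := indVRep P ν with hρdef
  set A : Module.End k (indVSpace P ν) := ∑ g, b g • ρ g with hA
  have hAcomm : ∀ x, ρ x * A = A * ρ x := fun x => by
    simp only [hA, Finset.mul_sum, Finset.sum_mul, mul_smul_comm, smul_mul_assoc, ← map_mul]
    refine Fintype.sum_equiv (MulAut.conj x).toEquiv _ _ fun g => ?_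
    show b g • ρ (x * g) = b (x * g * x⁻¹) • ρ (x * g * x⁻¹ * x)
    rw [hbc, inv_mul_cancel_right]
  have hAA : A * A = A := by
    simp only [hA, Finset.mul_sum, Finset.sum_mul, mul_smul_comm, smul_mul_assoc, smul_smul,
      Finset.smul_sum, ← map_mul]
    conv_lhs => enter [2, x, 2, y, 1]; rw [mul_comm]
    rw [Finset.sum_comm]
    rw [Finset.sum_congr rfl fun g _ => (Fintype.sum_equiv (Equiv.mulLeft g⁻¹)
      (fun x => (b g * b (g⁻¹ * x)) • ρ x)
      (fun h => (b g * b h) • ρ (g * h)) fun x => by simp).symm, Finset.sum_comm]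
    refine Finset.sum_congr rfl fun x _ => ?_
    rw [← Finset.sum_smul]
    exact congrArg (fun z => z • ρ x) (hbi x)
  have htrinv : ∀ v, ∀ y : P, ρ (y : G) (indInc P ν v) = indInc P ν v := fun v y => by
    rw [show (y : G) = ((⟨(y : G), Subgroup.le_normalizer y.2⟩ : Subgroup.normalizer (P : Set G)) : G) from rfl,
      hρdef, indInc_norm, hd.triv _ y.2, Module.End.one_apply]
  set f0 : V →ₗ[k] indVSpace P ν := A ∘ₗ indInc P ν with hf0def
  have hf0 : ∀ n v, f0 (ν n v) = ρ (n : G) (f0 v) := fun n v => by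
    simp only [hf0def, LinearMap.comp_apply, ← indInc_norm]
    rw [← Module.End.mul_apply, ← hAcomm]
    rfl
  have hf0fix : ∀ v, ∀ y : P, ρ (y : G) (f0 v) = f0 v := fun v y => by
    simp only [hf0def, LinearMap.comp_apply]
    rw [← Module.End.mul_apply, hAcomm, Module.End.mul_apply, htrinv]
  have hAinc : ∀ v, ∃ t, A (indInc P ν v) = indInc P ν v + trEnd ρ P t := by
    intro v
    obtain ⟨t, ht⟩ := sum_equivariant_fixed (Q := P) (α := G)
      (by rw [hP]; exact hp) (fun y g => (y : G) * g * (y : G)⁻¹) (fun g => by simp)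
      (fun y z g => by simp [mul_assoc]) (fun y => (ρ (y : G)).toAddMonoidHom)
      (fun g => b g • ρ g (indInc P ν v)) (fun y g => by
        show b _ • _ = ρ (y : G) (b g • ρ g (indInc P ν v))
        rw [hbc, map_smul, map_mul, Module.End.mul_apply, map_mul, Module.End.mul_apply,
          show ρ (y : G)⁻¹ (indInc P ν v) = indInc P ν v from htrinv v y⁻¹])
    refine ⟨t, ?_⟩
    rw [hA, LinearMap.sum_apply]
    simp only [LinearMap.smul_apply]
    rw [ht]
    refine congrArg₂ (· + ·) ?_ (by simp [trEnd])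
    conv_rhs => rw [← hd.block v, map_sum]
    symm
    refine Finset.sum_bij (fun h _ => (h : G)) (fun h hh => ?_) (fun a _ a' _ e => Subtype.ext e)
      (fun g hg => ?_) (fun h _ => ?_)
    · simp only [centF, Finset.mem_filter, Finset.mem_univ, true_and] at hh ⊢
      intro y
      rw [hh (y : G) y.2, mul_inv_cancel_right]
    · simp only [Finset.mem_filter, Finset.mem_univ, true_and] at hg
      have hgC : g ∈ Subgroup.centralizer (P : Set G) := fun y hy =>
        mul_inv_eq_iff_eq_mul.mp (hg ⟨y, hy⟩)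
      exact ⟨⟨g, Subgroup.centralizer_le_normalizer _ hgC⟩, Finset.mem_filter.mpr ⟨Finset.mem_univ _, hgC⟩, rfl⟩
    · rw [map_smul, hρdef, indInc_norm]
  haveI : FiniteDimensional k (indVSpace P ν) := inferInstance
  have hU₀ : InvSub ρ (LinearMap.range A) := fun g => by
    rintro _ ⟨x, rfl⟩
    exact ⟨ρ g x, by rw [← Module.End.mul_apply, ← hAcomm]; rfl⟩
  have hne : ∃ v, f0 v ∉ (LinearMap.range A).map (trEnd ρ P) := by
    obtain ⟨v, hv⟩ : ∃ v : V, v ≠ 0 := by
      haveI := hd.simple.1
      exact exists_ne 0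
    refine ⟨v, ?_⟩
    rintro ⟨s, -, hs⟩
    obtain ⟨t, ht⟩ := hAinc v
    refine indInc_not_trace P ν hP hd.triv hv ⟨s - t, ?_⟩
    rw [map_sub, hs, hf0def, LinearMap.comp_apply, ht, add_sub_cancel_right]
  obtain ⟨q, hqle, hqs, hqc⟩ :=
    exists_simple_core P hp hP ρ hd (LinearMap.range A) hU₀ f0 (fun v => ⟨_, rfl⟩) hf0 hf0fix hne
  refine ⟨q, hqs, fun a => ?_, hqc⟩
  obtain ⟨a, rfl⟩ := Submodule.Quotient.mk_surjective _ a
  obtain ⟨w, hw⟩ := hqle a.2
  have e : ∀ g, (b g • q.rep g) (Submodule.Quotient.mk a) =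
      Submodule.mkQ (q.bot.comap q.top.subtype)
        (b g • (⟨ρ g (a : indVSpace P ν), q.top_inv g a a.2⟩ : ↥q.top)) := fun g => by
    rw [map_smul]; rfl
  rw [LinearMap.sum_apply, Finset.sum_congr rfl fun g _ => e g, ← map_sum]
  refine congrArg _ (Subtype.ext ?_)
  have h2 : A (a : indVSpace P ν) = a := by rw [← hw, ← Module.End.mul_apply, hAA]
  rw [hA, LinearMap.sum_apply] at h2
  rw [AddSubmonoidClass.coe_finset_sum]
  exact h2

omit hp hP

/-- Endomorphisms of an irreducible module over an algebraically closed field are scalars. -/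
theorem end_scalar [IsAlgClosed k] [FiniteDimensional k W] (hρ : SimpleRep ρ) {f : Module.End k W}
    (hf : EquivMap ρ ρ f) : ∃ c : k, f = c • LinearMap.id := by
  haveI := hρ.1
  obtain ⟨c, hc⟩ := Module.End.exists_eigenvalue f
  refine ⟨c, sub_eq_zero.mp ?_⟩
  by_contra h0
  obtain ⟨x, hx, hx0⟩ := hc.exists_hasEigenvector
  obtain ⟨hinj, -⟩ := bijective_of_equivMap hρ hρ (show EquivMap ρ ρ (f - c • LinearMap.id) from fun g a => by
    simp [hf g a]) h0
  refine hx0 (hinj ?_)
  rw [map_zero, LinearMap.sub_apply, LinearMap.smul_apply, LinearMap.id_apply, sub_eq_zero]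
  exact Module.End.mem_eigenspace_iff.mp hx

end Cfsg.Agent.Char.TransferLine
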