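import Cfsg.Agent.Lib.Char.CyclicTransferSum
import Cfsg.Agent.Lib.Char.TransferSection

/-!
# Irreducible modules carrying a module of the inertia group

Modulo the multiples of `z ^ (q - 1)` the vectors killed by `z` of an irreducible module see at most one
irreducible module of the inertia group.
-/

set_option autoImplicit false
set_option linter.unusedSectionVars false
set_option linter.style.haveILetI false

namespace Cfsg.Agent.Char.CyclicTransfer

open CyclicCentre Cfsg.Agent.Char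

universe u v

open scoped Classical

variable {k : Type v} [Field k] {G : Type u} [Group G] [Fintype G] {D H N T : Subgroup G} {q : ℕ}
  [Fintype (H ⧸ D.subgroupOf H)] {b g z w : MonoidAlgebra k H}

/-- The operators of the algebra of a subgroup of the inertia group. -/
noncomputable def opT {V : Type u} [AddCommGroup V] [Module k V] (hHT : H ≤ T) (ν : T →* Module.End k V) :
    MonoidAlgebra k H →ₐ[k] Module.End k V :=
  MonoidAlgebra.lift k (Module.End k V) H (ν.comp (Subgroup.inclusion hHT))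

theorem opT_el {V : Type u} [AddCommGroup V] [Module k V] (hHT : H ≤ T) (ν : T →* Module.End k V) (h : H) :
    opT hHT ν (el h) = ν ⟨(h : G), hHT h.2⟩ := by
  simp [opT, el]
  rfl

/-- An irreducible module of the block at the inertia group. -/
structure Mod {V : Type u} [AddCommGroup V] [Module k V] (hHT : H ≤ T) (b z : MonoidAlgebra k H)
    (ν : T →* Module.End k V) : Prop where
  simple : ∀ U : Submodule k V, (∀ r, ∀ x ∈ U, opT hHT ν r x ∈ U) → U = ⊥ ∨ U = ⊤
  nontrivial : ∃ v : V, v ≠ 0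
  block : opT hHT ν b = 1
  kills : opT hHT ν z = 0

/-- The module is seen modulo the multiples of `z ^ (q - 1)`. -/
def Carries {V W : Type u} [AddCommGroup V] [Module k V] [AddCommGroup W] [Module k W]
    (b z : MonoidAlgebra k H) (q : ℕ) (ν : T →* Module.End k V) (ρ : G →* Module.End k W) : Prop :=
  ∃ f : V →ₗ[k] W, (∀ t v, f (ν t v) = ρ (t : G) (f v)) ∧
    ∃ v, f v ∉ LinearMap.range (op ρ H (z ^ (q - 1) * b))

variable (hS : Setting k D H N T q b g z w)
  {W : Type u} [AddCommGroup W] [Module k W] {ρ : G →* Module.End k W}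
  {V : Type u} [AddCommGroup V] [Module k V] {ν : T →* Module.End k V}

theorem map_opT (hHT : H ≤ T) {f : V →ₗ[k] W} (hf : ∀ t v, f (ν t v) = ρ (t : G) (f v)) (r : MonoidAlgebra k H)
    (v : V) : f (opT hHT ν r v) = op ρ H r (f v) := by
  induction r using el_induction H with
  | h0 => simp
  | hadd a c ha hc => simp only [map_add, LinearMap.add_apply, map_add, ha, hc]
  | hsm c h => rw [map_smul, map_smul, LinearMap.smul_apply, LinearMap.smul_apply, map_smul, opT_el, op_el, hf]

include hS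

theorem op_mem {U : Submodule k W} (hU : ∀ a : G, ∀ x ∈ U, ρ a x ∈ U) (r : MonoidAlgebra k H) {x : W}
    (hx : x ∈ U) : op ρ H r x ∈ U := by
  induction r using el_induction H with
  | h0 => simp
  | hadd a c ha hc => rw [map_add, LinearMap.add_apply]; exact U.add_mem ha hc
  | hsm c h => rw [map_smul, LinearMap.smul_apply, op_el]; exact U.smul_mem _ (hU _ x hx)

theorem map_inv_op {U : Submodule k W} (hU : ∀ a : G, ∀ x ∈ U, ρ a x ∈ U) (j : ℕ) (r : MonoidAlgebra k H) {x : W}
    (hx : x ∈ U.map (op ρ H (z ^ j * b))) : op ρ H r x ∈ U.map (op ρ H (z ^ j * b)) := by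
  obtain ⟨y, hy, rfl⟩ := hx
  refine ⟨op ρ H r y, op_mem hS hU r hy, ?_⟩
  rw [← Module.End.mul_apply, ← map_mul, ← Module.End.mul_apply, ← map_mul]
  congr 2
  rw [mul_assoc, hS.loc.corner.bcomm, ← mul_assoc, ((show Commute z r from hS.loc.corner.zcomm r).pow_left j).eq,
    mul_assoc]

/-- A preimage of the multiples of `z ^ j` containing a nonzero vector of the module holds all of it. -/
theorem comap_top (hν : Mod hS.ht b z ν) {f : V →ₗ[k] W} (hf : ∀ r v, f (opT hS.ht ν r v) = op ρ H r (f v))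
    {U : Submodule k W} (hU : ∀ r, ∀ x ∈ U, op ρ H r x ∈ U) {v₀ : V} (hv₀ : v₀ ≠ 0) (h0 : f v₀ ∈ U) (v : V) :
    f v ∈ U := by
  rcases hν.simple (U.comap f) (fun r x hx => by
    show f _ ∈ U
    rw [hf]
    exact hU r _ hx) with h | h
  · exact absurd ((Submodule.mem_bot k).mp (h ▸ (show v₀ ∈ U.comap f from h0))) hv₀
  · exact (show v ∈ U.comap f from h ▸ Submodule.mem_top)

set_option maxHeartbeats 1000000 in
/-- Two modules of the inertia group seen in one irreducible module are linked. -/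
theorem exists_map [IsAlgClosed k] [FiniteDimensional k W] [FiniteDimensional k V] (hρ : SimpleRep ρ)
    (hν : Mod hS.ht b z ν) {V' : Type u} [AddCommGroup V'] [Module k V'] {ν' : T →* Module.End k V'}
    (hν' : Mod hS.ht b z ν') (hc : Carries b z q ν ρ) (hc' : Carries b z q ν' ρ) :
    ∃ G' : V' →ₗ[k] V, (∀ t v, G' (ν' t v) = ν t (G' v)) ∧ ∃ v, G' v ≠ 0 := by
  obtain ⟨f, hf, vn, hvn⟩ := hc
  obtain ⟨f', hf', vn', hvn'⟩ := hc'
  set R := LinearMap.range (op ρ H (z ^ (q - 1) * b)) with hR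
  have hRmap : R = (⊤ : Submodule k W).map (op ρ H (z ^ (q - 1) * b)) := by rw [hR, Submodule.map_top]
  have hRT : ∀ t : T, ∀ x ∈ R, ρ (t : G) x ∈ R := fun t x hx => by
    rw [hRmap] at hx ⊢
    exact range_inv hS ρ _ (fun _ _ _ => Submodule.mem_top) t hx
  have hRop : ∀ r, ∀ x ∈ R, op ρ H r x ∈ R := fun r x hx => by
    rw [hRmap] at hx ⊢
    exact map_inv_op hS (fun _ _ _ => Submodule.mem_top) _ r hx
  have hfo := map_opT (ρ := ρ) hS.ht hf
  have hker : ∀ v, f v ∈ R → v = 0 := fun v hv => by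
    by_contra h
    exact hvn (comap_top hS hν hfo hRop h hv vn)
  -- a vector of the corner
  have hK := hS.loc.corner
  have hzf : ∀ v, op ρ H z (f v) = 0 := fun v => by rw [← hfo, hν.kills, LinearMap.zero_apply, map_zero]
  have hbf : ∀ v, op ρ H b (f v) = f v := fun v => by rw [← hfo, hν.block]; rfl
  obtain ⟨v₀, hv₀⟩ : ∃ v, op ρ H g (f v) ∉ R := by
    by_contra hall
    push Not at hall
    obtain ⟨m, r, s, hrs⟩ := hK.full
    refine hvn ?_
    rw [← hbf, ← hrs, map_sum, LinearMap.sum_apply]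
    refine R.sum_mem fun i _ => ?_
    rw [mul_assoc, map_mul, Module.End.mul_apply, map_mul, Module.End.mul_apply, ← hfo]
    exact hRop _ _ (hall _)
  set a := op ρ H g (f v₀) with ha
  have haV : a = f (opT hS.ht ν g v₀) := (hfo _ _).symm
  have hgg : ∀ x, op ρ H g (op ρ H g x) = op ρ H g x := fun x => by rw [← Module.End.mul_apply, ← map_mul, hK.gg]
  -- its level
  have hstop : ∀ x, op ρ H (z ^ (q - 1) * g) x ∈ R := fun x => by
    rw [← hK.bg, ← mul_assoc, map_mul, Module.End.mul_apply]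
    exact ⟨_, rfl⟩
  have hex : ∃ i, a ∉ LinearMap.range (op ρ H (z ^ i * g)) := ⟨q - 1, fun ⟨x, hx⟩ => hv₀ (hx ▸ hstop x)⟩
  obtain ⟨j, hj⟩ : ∃ j, Nat.find hex = j + 1 := by
    refine ⟨Nat.find hex - 1, (Nat.sub_add_cancel (Nat.pos_of_ne_zero fun h => ?_)).symm⟩
    have h1 := Nat.find_spec hex
    rw [h, pow_zero, one_mul] at h1
    exact h1 ⟨f v₀, rfl⟩
  have hnot : a ∉ LinearMap.range (op ρ H (z ^ (j + 1) * g)) := hj ▸ Nat.find_spec hex
  obtain ⟨tt, htt⟩ : a ∈ LinearMap.range (op ρ H (z ^ j * g)) :=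
    not_not.mp (Nat.find_min hex (show j < Nat.find hex by omega))
  obtain ⟨π₀, hπa, hπU⟩ : ∃ π₀ : W →ₗ[k] k, π₀ a = 1 ∧
      ∀ x, π₀ (op ρ H (z ^ (j + 1) * g) x) = 0 := by
    set U := LinearMap.range (op ρ H (z ^ (j + 1) * g))
    obtain ⟨π, hπ⟩ := Module.Projective.exists_dual_ne_zero k
      (x := U.mkQ a) (fun h => hnot ((Submodule.Quotient.mk_eq_zero U).mp h))
    refine ⟨(π (U.mkQ a))⁻¹ • (π ∘ₗ U.mkQ), ?_, fun x => ?_⟩
    · simp only [LinearMap.smul_apply, LinearMap.comp_apply, smul_eq_mul]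
      exact inv_mul_cancel₀ hπ
    · have : U.mkQ (op ρ H (z ^ (j + 1) * g) x) = 0 := (Submodule.Quotient.mk_eq_zero U).mpr ⟨x, rfl⟩
      simp only [LinearMap.smul_apply, LinearMap.comp_apply, this, map_zero, smul_zero]
  let ψ : W →ₗ[k] W := ∑ i ∈ Finset.range (j + 1),
    (π₀ ∘ₗ op ρ H (z ^ (j - i) * g)).smulRight (op ρ H (z ^ i * g) tt)
  have hψ : ∀ x, ψ x = ∑ i ∈ Finset.range (j + 1), π₀ (op ρ H (z ^ (j - i) * g) x) • op ρ H (z ^ i * g) tt :=
    fun x => by simp [ψ]
  have hgz : ∀ i : ℕ, g * (z ^ i * g) = z ^ i * g := fun i => by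
    rw [← mul_assoc, ← ((show Commute z g from hK.zcomm g).pow_left i).eq, mul_assoc, hK.gg]
  obtain ⟨φ, hφ, hφg, hφb₁, hφb₂⟩ := hK.extend (op ρ H) (op ρ H) ψ
    (fun x => by
      rw [hψ, map_sum]
      refine Finset.sum_congr rfl fun i _ => ?_
      rw [map_smul, ← Module.End.mul_apply (op ρ H g) (op ρ H (z ^ i * g)), ← map_mul (op ρ H) g (z ^ i * g), hgz])
    (fun x => by
      rw [hψ, hψ, map_sum, Finset.sum_range_succ', Finset.sum_range_succ]
      have e0 : π₀ (op ρ H (z ^ (j - 0) * g) (op ρ H z (op ρ H g x))) = 0 := by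
        rw [← Module.End.mul_apply, ← map_mul, ← Module.End.mul_apply, ← map_mul, Nat.sub_zero,
          show z ^ j * g * z * g = z ^ (j + 1) * g * g by rw [mul_assoc (z ^ j), ← hK.zcomm g, ← mul_assoc, pow_succ],
          map_mul, Module.End.mul_apply, hπU]
      have ej : op ρ H z (π₀ (op ρ H (z ^ (j - j) * g) (op ρ H g x)) • op ρ H (z ^ j * g) tt) = 0 := by
        rw [map_smul, htt, ha, ← Module.End.mul_apply (op ρ H z) (op ρ H g), ← map_mul (op ρ H) z g, hK.zcomm g,
          map_mul (op ρ H) g z, Module.End.mul_apply, hzf, map_zero, smul_zero]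
      rw [e0, zero_smul, add_zero, ej, add_zero]
      refine Finset.sum_congr rfl fun i hi => ?_
      rw [Finset.mem_range] at hi
      rw [map_smul, ← Module.End.mul_apply (op ρ H z) (op ρ H (z ^ i * g)), ← map_mul, ← mul_assoc, ← pow_succ',
        ← Module.End.mul_apply, ← map_mul, ← Module.End.mul_apply, ← map_mul,
        ← Module.End.mul_apply (op ρ H (z ^ (j - i) * g)), ← map_mul,
        show z ^ (j - (i + 1)) * g * z * g = z ^ (j - i) * g * g by
          rw [mul_assoc (z ^ (j - (i + 1))), ← hK.zcomm g, ← mul_assoc, ← pow_succ,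
            show j - (i + 1) + 1 = j - i by omega]])
  have hφcomm : ∀ r, Commute φ (op ρ H r) := fun r => LinearMap.ext fun x => hφ r x
  have hφb : op ρ H b * φ = φ := LinearMap.ext hφb₂
  have hψy : ∀ y, op ρ H z y = 0 → ψ y = π₀ (op ρ H g y) • a := by
    intro y hy
    rw [hψ, Finset.sum_eq_single j]
    · rw [Nat.sub_self, pow_zero, one_mul, htt]
    · intro i hi hij
      rw [Finset.mem_range] at hi
      obtain ⟨l, hl⟩ : ∃ l, j - i = l + 1 := ⟨j - i - 1, by omega⟩
      rw [hl, pow_succ, mul_assoc, hK.zcomm g, ← mul_assoc, map_mul, Module.End.mul_apply, hy, map_zero, map_zero,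
        zero_smul]
    · intro h; exact absurd (Finset.mem_range.mpr (Nat.lt_succ_self j)) h
  set F := LinearMap.range f with hF
  have hFT : ∀ t : T, ∀ x ∈ F, ρ (t : G) x ∈ F := by
    rintro t _ ⟨v, rfl⟩
    exact ⟨ν t v, hf t v⟩
  have hkill : ∀ y, op ρ H z y = 0 → op ρ H b y = y → φ y ∈ F := by
    intro y hy hby
    obtain ⟨m, r, s, hrs⟩ := hK.full
    rw [← hφb₂, ← hrs, map_sum, LinearMap.sum_apply]
    refine F.sum_mem fun i _ => ?_
    rw [mul_assoc, map_mul, Module.End.mul_apply, map_mul, Module.End.mul_apply, ← hφ, ← hφ, hφg, hψy _ (by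
      rw [← Module.End.mul_apply, ← map_mul, ← Module.End.mul_apply, ← map_mul, hK.zcomm g,
        mul_assoc g z, hK.zcomm (s i), ← mul_assoc,
        map_mul (op ρ H) (g * s i), Module.End.mul_apply, hy, map_zero]), map_smul, haV, ← hfo, ← map_smul]
    exact ⟨_, rfl⟩
  have hφf : ∀ v, φ (f v) = f v := by
    intro v
    refine sub_eq_zero.mp ((Submodule.mem_bot k).mp (comap_top hS hν (U := (⊥ : Submodule k W))
      (ρ := ρ) (f := φ ∘ₗ f - f) (fun r v => by simp [hfo, hφ]) (fun r x hx => by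
        rw [Submodule.mem_bot] at hx ⊢; rw [hx, map_zero]) (v₀ := opT hS.ht ν g v₀)
      (fun h => hv₀ (by rw [ha, ← hfo, h, map_zero]; exact R.zero_mem)) ?_ v))
    rw [Submodule.mem_bot, LinearMap.sub_apply, LinearMap.comp_apply, hfo, hφg, hψy _ (by
      rw [← hfo, hzf]), hgg, hπa, one_smul, ← ha, sub_self]
  -- the transfers
  letI := Fintype.ofFinite (G ⧸ H)
  set Φ := ∑ r : G ⧸ H, ρ r.out * φ * ρ r.out⁻¹ with hΦdef
  have hΦ : EquivMap ρ ρ Φ := by
    have hout : ∀ c : G, ρ (c : G ⧸ H).out * φ * ρ (c : G ⧸ H).out⁻¹ = ρ c * φ * ρ c⁻¹ := fun c => by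
      obtain ⟨y, hy⟩ := QuotientGroup.mk_out_eq_mul H c
      have h1 := hφcomm (el y)
      rw [op_el] at h1
      rw [hy, map_mul, mul_inv_rev, map_mul, ← mul_assoc, mul_assoc (ρ c) (ρ (y : G)), ← h1.eq, ← mul_assoc,
        mul_assoc (ρ c * φ) (ρ (y : G)), ← map_mul, mul_inv_cancel, map_one, mul_one]
    intro c x
    simp only [hΦdef, LinearMap.sum_apply, map_sum]
    refine (Fintype.sum_equiv (MulAction.toPerm c) _ _ fun r => ?_).symm
    induction r using QuotientGroup.induction_on with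
    | H d =>
      rw [MulAction.toPerm_apply, MulAction.Quotient.smul_coe, smul_eq_mul, hout, hout, map_mul, mul_inv_rev,
        map_mul]
      simp only [Module.End.mul_apply]
      rw [← Module.End.mul_apply (ρ c⁻¹), ← map_mul, inv_mul_cancel, map_one, Module.End.one_apply]
  obtain ⟨μ, hμ⟩ := TransferLine.end_scalar hρ hΦ
  set A := avg ρ H (ρ.comp T.subtype) φ with hAdef
  have hAF : ∀ y, op ρ H z y = 0 → op ρ H b y = y → A y ∈ F := by
    intro y hy hby
    rw [hAdef, avg_apply]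
    refine F.sum_mem fun r hr => hFT ⟨r.out, mem_cosetsIn.mp hr⟩ _ ?_
    rw [extZero_mem _ (T.inv_mem (mem_cosetsIn.mp hr))]
    obtain ⟨h1, h2⟩ := killed_inv hS ρ ⟨r.out⁻¹, T.inv_mem (mem_cosetsIn.mp hr)⟩ hy hby
    exact hkill _ h1 h2
  have hAf : ∀ v, A (f v) = ((H.relIndex T : ℕ) : k) • f v := by
    intro v
    rw [hAdef, avg_apply, Nat.cast_smul_eq_nsmul k, ← card_cosetsIn hS.ht, ← Finset.sum_const]
    refine Finset.sum_congr rfl fun r hr => ?_
    rw [extZero_mem _ (T.inv_mem (mem_cosetsIn.mp hr)), MonoidHom.comp_apply]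
    show ρ r.out (φ (ρ r.out⁻¹ (f v))) = f v
    rw [← hf ⟨r.out⁻¹, T.inv_mem (mem_cosetsIn.mp hr)⟩, hφf, hf, ← Module.End.mul_apply, ← map_mul,
      mul_inv_cancel, map_one, Module.End.one_apply]
  have hcongr : ∀ y, op ρ H z y = 0 → op ρ H b y = y → μ • y - A y ∈ R := by
    intro y hy hby
    have := transfer_congr hS ρ φ hφcomm hφb hy hby
    rw [← hΦdef, hμ, LinearMap.smul_apply, LinearMap.id_apply, map_smul, hby] at this
    exact this
  have hμe : μ = ((H.relIndex T : ℕ) : k) := by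
    by_contra hne
    have h1 := hcongr a (by rw [haV, hzf]) (by rw [haV, hbf])
    rw [haV, hAf, ← sub_smul, ← map_smul] at h1
    have h2 := hker _ h1
    rw [smul_eq_zero, sub_eq_zero] at h2
    exact hv₀ (by rw [haV, h2.resolve_left hne, map_zero]; exact R.zero_mem)
  have hzf' : ∀ v, op ρ H z (f' v) = 0 := fun v => by
    rw [← map_opT (ρ := ρ) hS.ht hf', hν'.kills, LinearMap.zero_apply, map_zero]
  have hbf' : ∀ v, op ρ H b (f' v) = f' v := fun v => by rw [← map_opT (ρ := ρ) hS.ht hf', hν'.block]; rfl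
  choose G' hG' using fun v' => show ∃ c, f' v' - f c ∈ R from by
    obtain ⟨c, hc⟩ := hAF _ (hzf' v') (hbf' v')
    refine ⟨μ⁻¹ • c, ?_⟩
    have hμ0 : μ ≠ 0 := hμe ▸ hS.index
    have := R.smul_mem μ⁻¹ (hcongr _ (hzf' v') (hbf' v'))
    rwa [smul_sub, inv_smul_smul₀ hμ0, ← hc, ← map_smul] at this
  have huniq : ∀ v' c, f' v' - f c ∈ R → c = G' v' := fun v' c hc => by
    refine sub_eq_zero.mp (hker _ ?_)
    rw [map_sub, ← sub_sub_sub_cancel_left (f (G' v')) (f c) (f' v')]
    exact R.sub_mem (hG' v') hc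
  let gl : V' →ₗ[k] V :=
    { toFun := G'
      map_add' := fun c c' => (huniq _ _ (by
        rw [map_add, map_add, add_sub_add_comm]
        exact R.add_mem (hG' c) (hG' c'))).symm
      map_smul' := fun r c => (huniq _ _ (by
        rw [map_smul, map_smul, RingHom.id_apply, ← smul_sub]
        exact R.smul_mem r (hG' c))).symm }
  refine ⟨gl, fun t c => (huniq _ _ ?_).symm, vn', fun h => hvn' ?_⟩
  · show f' (ν' t c) - f (ν t (G' c)) ∈ R
    rw [hf, hf', ← map_sub]
    exact hRT t _ (hG' c)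
  · have := hG' vn'
    rwa [show G' vn' = 0 from h, map_zero, sub_zero] at this

end Cfsg.Agent.Char.CyclicTransfer
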