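import Cfsg.Agent.Lib.Char.CyclicTransfer

/-!
# Every irreducible module of the inertia group is carried by an irreducible module of the block
-/

set_option autoImplicit false
set_option linter.unusedSectionVars false
set_option linter.style.haveILetI false

namespace Cfsg.Agent.Char.CyclicTransfer

open CyclicCentre Cfsg.Agent.Char

universe u v

open scoped Classical

variable {k : Type v} [Field k] {G : Type u} [Group G] [Fintype G] {D H N T : Subgroup G} {q : ℕ}
  [Fintype (H ⧸ D.subgroupOf H)] {b g z w : MonoidAlgebra k H}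

section Ind

variable {V : Type u} [AddCommGroup V] [Module k V] (ν : T →* Module.End k V)

/-- The functions transforming by `ν` under the inertia group. -/
def indSpace : Submodule k (G → V) where
  carrier := {f | ∀ (a : G) (t : T), f (a * t) = ν t⁻¹ (f a)}
  add_mem' ha hb := fun a t => by simp [ha a t, hb a t]
  zero_mem' := fun a t => by simp
  smul_mem' r f hf := fun a t => by simp [hf a t]

/-- The induced representation. -/
def indRep : G →* Module.End k (indSpace ν) where
  toFun x :=
    { toFun := fun f => ⟨fun a => (f : G → V) (x⁻¹ * a), fun a t => by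
        simp only [← mul_assoc]; exact f.2 _ t⟩
      map_add' := fun _ _ => rfl
      map_smul' := fun _ _ => rfl }
  map_one' := LinearMap.ext fun f => Subtype.ext (funext fun a => by simp)
  map_mul' x y := LinearMap.ext fun f => Subtype.ext (funext fun a => by simp [mul_assoc])

/-- The functions supported on the inertia group. -/
noncomputable def indIncT : V →ₗ[k] indSpace ν where
  toFun v := ⟨fun a => extZero ν a⁻¹ v, fun a t => by
    dsimp only
    by_cases ha : a ∈ T
    · rw [extZero_mem ν (T.inv_mem ha), extZero_mem ν (T.inv_mem (T.mul_mem ha t.2)), ← Module.End.mul_apply,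
        ← map_mul]
      refine LinearMap.congr_fun (congrArg ν ?_) v
      exact Subtype.ext (by simp)
    · rw [extZero, extZero, dif_neg fun h => ha (inv_mem_iff.mp h), dif_neg fun h => ha
        ((Subgroup.mul_mem_cancel_right _ t.2).mp (inv_mem_iff.mp h))]
      simp⟩
  map_add' v w := Subtype.ext (funext fun a => by simp)
  map_smul' r v := Subtype.ext (funext fun a => by simp)

/-- Evaluation at the identity. -/
def indEval : indSpace ν →ₗ[k] V where
  toFun f := (f : G → V) 1
  map_add' _ _ := rfl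
  map_smul' _ _ := rfl

theorem indIncT_equiv (t : T) (v : V) : indRep ν (t : G) (indIncT ν v) = indIncT ν (ν t v) := by
  refine Subtype.ext (funext fun a => ?_)
  show extZero ν ((t : G)⁻¹ * a)⁻¹ v = extZero ν a⁻¹ (ν t v)
  by_cases ha : a ∈ T
  · rw [extZero_mem ν (T.inv_mem ha), extZero_mem ν (T.inv_mem (T.mul_mem (T.inv_mem t.2) ha)),
      ← Module.End.mul_apply, ← map_mul]
    exact LinearMap.congr_fun (congrArg ν (Subtype.ext (by simp))) v
  · rw [extZero, extZero, dif_neg fun h => ha (inv_mem_iff.mp h), dif_neg fun h => ha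
      ((Subgroup.mul_mem_cancel_left _ (T.inv_mem t.2)).mp (inv_mem_iff.mp h))]
    simp

theorem indEval_op (hHT : H ≤ T) (r : MonoidAlgebra k H) (f : indSpace ν) :
    indEval ν (op (indRep ν) H r f) = opT hHT ν r (indEval ν f) := by
  induction r using el_induction H with
  | h0 => simp
  | hadd a c ha hc => simp only [map_add, LinearMap.add_apply, ha, hc]
  | hsm c h =>
    rw [map_smul, map_smul, LinearMap.smul_apply, LinearMap.smul_apply, map_smul, opT_el, op_el]
    congr 1
    show (f : G → V) ((h : G)⁻¹ * 1) = _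
    have h3 := f.2 1 ⟨(h : G)⁻¹, T.inv_mem (hHT h.2)⟩
    rw [one_mul] at h3
    rw [mul_one, h3]
    exact LinearMap.congr_fun (congrArg ν (Subtype.ext (by simp))) _

end Ind

variable (hS : Setting k D H N T q b g z w) {V : Type u} [AddCommGroup V] [Module k V] [FiniteDimensional k V]
  {ν : T →* Module.End k V}

include hS

set_option maxHeartbeats 1000000 in
/-- An invariant space carrying the module has an irreducible subquotient carrying it. -/
theorem exists_simple_core {W : Type u} [AddCommGroup W] [Module k W] [FiniteDimensional k W]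
    (ρ : G →* Module.End k W) (hν : Mod hS.ht b z ν) (U₀ : Submodule k W) (hU₀ : InvSub ρ U₀) (f0 : V →ₗ[k] W)
    (hf0U : ∀ v, f0 v ∈ U₀) (hf0 : ∀ t v, f0 (ν t v) = ρ (t : G) (f0 v))
    (hf0ne : ∃ v, f0 v ∉ U₀.map (op ρ H (z ^ (q - 1) * b))) :
    ∃ P : InvPair ρ, P.top ≤ U₀ ∧ SimpleRep P.rep ∧ Carries b z q ν P.rep := by
  let Z := op ρ H (z ^ (q - 1) * b)
  let Good : Submodule k W → Prop := fun U => InvSub ρ U ∧ U ≤ U₀ ∧
    ∃ f : V →ₗ[k] W, (∀ v, f v ∈ U) ∧ (∀ t v, f (ν t v) = ρ (t : G) (f v)) ∧ ∃ v, f v ∉ U.map Z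
  obtain ⟨U, hU, hmin⟩ := IsWellFounded.wf.has_min {U | Good U} ⟨U₀, hU₀, le_rfl, f0, hf0U, hf0, hf0ne⟩
    (r := ((· < ·) : Submodule k W → Submodule k W → Prop))
  obtain ⟨hUi, hUle, f, hfU, hf, vn, hvn⟩ := hU
  have hbot : InvSub ρ (⊥ : Submodule k W) := fun a y hy => by
    rw [Submodule.mem_bot] at hy ⊢; rw [hy, map_zero]
  have hUne : U ≠ ⊥ := fun e => by
    have h1 := hfU vn
    rw [e, Submodule.mem_bot] at h1
    exact hvn (h1 ▸ Submodule.zero_mem _)
  obtain ⟨U', hU', hmax⟩ := (IsWellFounded.wf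
    (r := ((· > ·) : Submodule k W → Submodule k W → Prop))).has_min
    {U' | InvSub ρ U' ∧ U' < U} ⟨⊥, hbot, bot_lt_iff_ne_bot.mpr hUne⟩
  obtain ⟨hU'i, hU'lt⟩ := hU'
  set P : InvPair ρ := ⟨U, U', hUi, hU'i⟩ with hP
  refine ⟨P, hUle, ?_, (P.bot.comap P.top.subtype).mkQ ∘ₗ f.codRestrict U hfU, fun t v => ?_, ?_⟩
  · constructor
    · obtain ⟨y, hyU, hyU'⟩ := SetLike.exists_of_lt hU'lt
      exact ⟨Submodule.Quotient.mk ⟨y, hyU⟩, 0, fun h => hyU' (by
        rw [Submodule.Quotient.mk_eq_zero] at h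
        exact h)⟩
    · intro Vs hVs
      set V' : Submodule k W := (Vs.comap (Submodule.mkQ _)).map U.subtype with hV'
      have hle : U' ≤ V' := fun y hy =>
        ⟨⟨y, hU'lt.le hy⟩, by
          show Submodule.Quotient.mk _ ∈ Vs
          rw [(Submodule.Quotient.mk_eq_zero _).mpr (show (⟨y, hU'lt.le hy⟩ : ↥U) ∈ U'.comap U.subtype from hy)]
          exact Vs.zero_mem, rfl⟩
      have hV'i : InvSub ρ V' := by
        rintro a _ ⟨y, hy, rfl⟩
        exact ⟨⟨ρ a (y : W), hUi a y y.2⟩, hVs a _ hy, rfl⟩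
      rcases eq_or_lt_of_le (show V' ≤ U from Submodule.map_subtype_le _ _) with e | hlt
      · refine Or.inr (eq_top_iff.mpr fun a _ => ?_)
        obtain ⟨y, rfl⟩ := Submodule.Quotient.mk_surjective _ a
        obtain ⟨y', hy', he⟩ := (e.symm ▸ y.2 : (y : W) ∈ V')
        rw [Subtype.ext he] at hy'
        exact hy'
      · rcases eq_or_lt_of_le hle with e | hlt'
        · refine Or.inl (eq_bot_iff.mpr fun a ha => ?_)
          obtain ⟨y, rfl⟩ := Submodule.Quotient.mk_surjective _ a
          rw [Submodule.mem_bot, Submodule.Quotient.mk_eq_zero]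
          show (y : W) ∈ U'
          rw [e]
          exact ⟨y, ha, rfl⟩
        · exact absurd hlt' (hmax V' ⟨hV'i, hlt⟩)
  · exact (congrArg Submodule.Quotient.mk (Subtype.ext (hf t v))).trans (InvPair.rep_mk P (t : G) ⟨f v, hfU v⟩).symm
  · by_contra hall
    push Not at hall
    -- the operators on the quotient
    have hopq : ∀ r (x : U), op P.rep H r (Submodule.Quotient.mk x) =
        Submodule.Quotient.mk (p := U'.comap U.subtype) ⟨op ρ H r (x : W), op_mem hS hUi r x.2⟩ := by
      intro r x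
      induction r using el_induction H with
      | h0 =>
        simp only [map_zero, LinearMap.zero_apply]
        exact ((Submodule.Quotient.mk_eq_zero _).mpr (Submodule.zero_mem _)).symm
      | hadd a c ha hc =>
        simp only [map_add, LinearMap.add_apply, ha, hc]
        rw [← Submodule.Quotient.mk_add]
        rfl
      | hsm c h =>
        simp only [map_smul, LinearMap.smul_apply, op_el]
        exact (congrArg (fun y => c • y) (InvPair.rep_mk P (h : G) x)).trans rfl
    have hstep : ∀ v, ∃ s : U, f v - Z (s : W) ∈ U' := by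
      intro v
      obtain ⟨a, ha⟩ := hall v
      obtain ⟨a, rfl⟩ := Submodule.Quotient.mk_surjective _ a
      rw [hopq] at ha
      have h1 := (Submodule.Quotient.eq _).mp ha
      simp only [Submodule.mem_comap, Submodule.subtype_apply, AddSubgroupClass.coe_sub] at h1
      refine ⟨a, ?_⟩
      have h2 := U'.neg_mem h1
      rw [neg_sub] at h2
      exact h2
    have hK := hS.loc.corner
    have hfo := map_opT (ρ := ρ) hS.ht hf
    obtain ⟨v₀, hv₀⟩ : ∃ v, f (opT hS.ht ν g v) ∉ U.map Z := by
      by_contra hall'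
      push Not at hall'
      obtain ⟨m, r, s, hrs⟩ := hK.full
      refine hvn ?_
      have h2 : f vn = f (opT hS.ht ν (∑ i, r i * g * s i) vn) := by rw [hrs, hν.block]; rfl
      rw [h2, map_sum, LinearMap.sum_apply, map_sum]
      refine Submodule.sum_mem _ fun i _ => ?_
      rw [mul_assoc, map_mul, Module.End.mul_apply, map_mul, Module.End.mul_apply, hfo]
      exact map_inv_op hS hUi _ _ (hall' _)
    set v₁ := opT hS.ht ν g v₀ with hv₁
    have hgv₁ : opT hS.ht ν g v₁ = v₁ := by rw [hv₁, ← Module.End.mul_apply, ← map_mul, hK.gg]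
    obtain ⟨s, hs⟩ := hstep v₁
    set m := f v₁ - Z (op ρ H g (s : W)) with hm
    have hgZ : ∀ x, op ρ H g (Z x) = Z (op ρ H g x) := fun x => by
      rw [← Module.End.mul_apply, ← map_mul, ← Module.End.mul_apply, ← map_mul]
      congr 2
      rw [mul_assoc _ b, hK.bcomm g, ← mul_assoc, ← mul_assoc,
        ((show Commute z g from hK.zcomm g).pow_left (q - 1)).eq]
    have hgm : op ρ H g m = m := by
      rw [hm, map_sub, ← hfo, hgv₁, hgZ, ← Module.End.mul_apply (op ρ H g) (op ρ H g), ← map_mul, hK.gg]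
    have hmU' : m ∈ U' := by
      have h1 := op_mem hS hU'i g hs
      rwa [map_sub, ← hfo, hgv₁, hgZ, ← hm] at h1
    have hzm : op ρ H z m = 0 := by
      rw [hm, map_sub, ← hfo, hν.kills, LinearMap.zero_apply, map_zero, ← Module.End.mul_apply (op ρ H z) Z,
        ← map_mul, ← mul_assoc, ← pow_succ', Nat.sub_add_cancel (q_pos hS), hK.zq]
      simp
    have hv₁0 : v₁ ≠ 0 := fun h => hv₀ (by rw [h, map_zero]; exact Submodule.zero_mem _)
    obtain ⟨lam, hlam⟩ : ∃ lam : V →ₗ[k] k, lam v₁ = 1 := by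
      obtain ⟨π, hπ⟩ := Module.Projective.exists_dual_ne_zero k hv₁0
      exact ⟨(π v₁)⁻¹ • π, by simp [inv_mul_cancel₀ hπ]⟩
    obtain ⟨φ, hφ, hφg, -, hφb⟩ := hK.extend (opT hS.ht ν) (op ρ H) (lam.smulRight m)
      (fun x => by simp only [LinearMap.smulRight_apply, map_smul, hgm])
      (fun x => by simp [hν.kills, hzm])
    have hφU' : ∀ v, φ v ∈ U' := by
      intro v
      obtain ⟨n, r, t, hrs⟩ := hK.full
      rw [← hφb, ← hrs, map_sum, LinearMap.sum_apply]
      refine U'.sum_mem fun i _ => ?_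
      rw [mul_assoc, map_mul, Module.End.mul_apply, map_mul, Module.End.mul_apply, ← hφ, ← hφ, hφg]
      exact op_mem hS hU'i _ (U'.smul_mem _ hmU')
    have hφv₁ : φ v₁ = m := by
      conv_lhs => rw [← hgv₁]
      rw [hφg, hgv₁, LinearMap.smulRight_apply, hlam, one_smul]
    have hdiff : ∀ v, f v - φ v ∈ U.map Z := by
      intro v
      have h1 : f v₁ - φ v₁ ∈ U.map Z := by
        rw [hφv₁, hm, sub_sub_cancel]
        exact ⟨_, op_mem hS hUi g s.2, rfl⟩
      exact comap_top hS hν (f := f - φ) (fun r x => by simp [hfo, hφ]) (fun r x hx => map_inv_op hS hUi _ r hx)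
        hv₁0 h1 v
    let e : k := ((H.relIndex T : ℕ) : k)
    set f' : V →ₗ[k] W := e⁻¹ • avg ρ H ν φ with hf'
    have hφH : ∀ (h : H) v, φ (ν ⟨(h : G), hS.ht h.2⟩ v) = ρ (h : G) (φ v) := fun h v => by
      rw [← opT_el hS.ht, hφ, op_el]
    refine hmin U' ⟨hU'i, hU'lt.le.trans hUle, f', fun v => ?_, fun t v => ?_, vn, fun hall' => hvn ?_⟩ hU'lt
    · rw [hf', LinearMap.smul_apply]
      exact U'.smul_mem _ (avg_mem ρ H ν φ (fun t x hx => hU'i _ x hx) hφU' v)
    · rw [hf', LinearMap.smul_apply, LinearMap.smul_apply, avg_equiv ρ hS.ht ν φ hφH, map_smul]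
    · have h1 : f vn - f' vn ∈ U.map Z := by
        have e1 : f vn - f' vn = e⁻¹ • avg ρ H ν (f - φ) vn := by
          have e2 : avg ρ H ν f vn = e • f vn := by
            rw [avg_apply, Nat.cast_smul_eq_nsmul k, ← card_cosetsIn hS.ht, ← Finset.sum_const]
            refine Finset.sum_congr rfl fun r hr => ?_
            rw [extZero_mem ν (T.inv_mem (mem_cosetsIn.mp hr)), hf, ← Module.End.mul_apply, ← map_mul,
              mul_inv_cancel, map_one, Module.End.one_apply]
          rw [hf', LinearMap.smul_apply, show avg ρ H ν (f - φ) vn = avg ρ H ν f vn - avg ρ H ν φ vn by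
            simp [avg_apply, Finset.sum_sub_distrib], e2, smul_sub, inv_smul_smul₀ hS.index]
        rw [e1]
        exact Submodule.smul_mem _ _ (avg_mem ρ H ν _ (fun t x hx => range_inv hS ρ _ hUi t hx) hdiff vn)
      have h2 := (U.map Z).add_mem h1 (Submodule.map_mono hU'lt.le hall')
      rwa [sub_add_cancel] at h2

set_option maxHeartbeats 1000000 in
/-- The module is carried by an irreducible module of the block. -/
theorem exists_simple {p : ℕ} [CharP k p] (hp : p.Prime) (hν : Mod hS.ht b z ν) (eG : G → k)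
    (hec : ∀ a x, eG (x * a * x⁻¹) = eG a) (hei : ∀ x, ∑ a, eG a * eG (a⁻¹ * x) = eG x)
    (heH : ∑ h : H, eG (h : G) • ν ⟨(h : G), hS.ht h.2⟩ = 1) (y₀ : T) (hy₀ : y₀ ^ p = 1) (hνy : ν y₀ = 1)
    (hfix : ∀ t : T, (t : G) ∈ H ↔ y₀ * t = t * y₀) :
    ∃ P : InvPair (indRep ν), SimpleRep P.rep ∧ (∀ a, (∑ x, eG x • P.rep x) a = a) ∧
      Carries b z q ν P.rep := by
  haveI := Fact.mk hp
  set ρ := indRep ν with hρdef
  set A : Module.End k (indSpace ν) := ∑ x, eG x • ρ x with hA
  have hAcomm : ∀ x, ρ x * A = A * ρ x := fun x => by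
    simp only [hA, Finset.mul_sum, Finset.sum_mul, mul_smul_comm, smul_mul_assoc, ← map_mul]
    refine Fintype.sum_equiv (MulAut.conj x).toEquiv _ _ fun a => ?_
    show eG a • ρ (x * a) = eG (x * a * x⁻¹) • ρ (x * a * x⁻¹ * x)
    rw [hec, inv_mul_cancel_right]
  have hAA : A * A = A := by
    simp only [hA, Finset.mul_sum, Finset.sum_mul, mul_smul_comm, smul_mul_assoc, smul_smul,
      Finset.smul_sum, ← map_mul]
    conv_lhs => enter [2, x, 2, y, 1]; rw [mul_comm]
    rw [Finset.sum_comm]
    rw [Finset.sum_congr rfl fun a _ => (Fintype.sum_equiv (Equiv.mulLeft a⁻¹)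
      (fun x => (eG a * eG (a⁻¹ * x)) • ρ x)
      (fun h => (eG a * eG h) • ρ (a * h)) fun x => by simp).symm, Finset.sum_comm]
    refine Finset.sum_congr rfl fun x _ => ?_
    rw [← Finset.sum_smul]
    exact congrArg (fun c => c • ρ x) (hei x)
  set f0 : V →ₗ[k] indSpace ν := A ∘ₗ indIncT ν with hf0def
  have hf0 : ∀ t v, f0 (ν t v) = ρ (t : G) (f0 v) := fun t v => by
    simp only [hf0def, LinearMap.comp_apply, ← indIncT_equiv]
    rw [← Module.End.mul_apply, ← hAcomm]
    rfl
  -- the inertia group sees only the centralizer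
  have hsumT : ∑ t : T, eG (t : G) • ν t = 1 := by
    have hzero : ∀ v, ∑ t ∈ Finset.univ.filter (fun t : T => (t : G) ∉ H), eG (t : G) • ν t v = 0 := by
      intro v
      refine (Module.forall_dual_apply_eq_zero_iff k _).mp fun π => ?_
      rw [map_sum]
      let P := Subgroup.zpowers y₀
      letI : MulAction P T := MulAction.compHom T
        (MonoidHom.comp (ConjAct.toConjAct : T ≃* ConjAct T).toMonoidHom P.subtype)
      have hsm : ∀ (u : P) (t : T), u • t = (u : T) * t * (u : T)⁻¹ := fun u t => rfl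
      have hPp : IsPGroup p P := by
        rintro ⟨u, i, rfl⟩
        refine ⟨1, Subtype.ext ?_⟩
        show (y₀ ^ i) ^ p ^ 1 = 1
        rw [pow_one, ← zpow_natCast, ← zpow_mul, mul_comm, zpow_mul, zpow_natCast, hy₀, one_zpow]
      have hfixed : ∀ t : T, t ∈ MulAction.fixedPoints P T ↔ (t : G) ∈ H := by
        intro t
        rw [hfix]
        constructor
        · intro h
          exact mul_inv_eq_iff_eq_mul.mp (h ⟨y₀, Subgroup.mem_zpowers _⟩)
        · rintro h ⟨u, i, rfl⟩
          exact mul_inv_eq_iff_eq_mul.mpr ((show Commute y₀ t from h).zpow_left i).eq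
      have hνu : ∀ u : P, ν (u : T) = 1 := by
        rintro ⟨u, hu⟩
        exact (Subgroup.zpowers_le.mpr (show y₀ ∈ ν.ker from hνy) hu)
      have key := sum_fixed hPp (fun t : T => if (t : G) ∈ H then 0 else π (eG (t : G) • ν t v)) fun u t => by
        have h1 : ((u • t : T) : G) ∈ H ↔ (t : G) ∈ H := by
          rw [← hfixed, ← hfixed]
          refine ⟨fun h w => ?_, fun h => ?_⟩
          · have h2 := h u⁻¹
            rw [inv_smul_smul] at h2
            rw [h2, h]
          · rw [h u]; exact h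
        simp only [h1]
        split_ifs
        · rfl
        · rw [show ((u • t : T) : G) = ((u : T) : G) * t * ((u : T) : G)⁻¹ from by rw [hsm]; rfl, hec, hsm,
            map_mul, map_mul, hνu, show ν (u : T)⁻¹ = 1 by rw [← Subgroup.coe_inv, hνu]]
          simp
      rw [Finset.sum_filter]
      rw [Finset.sum_congr rfl (g := fun t : T => if (t : G) ∈ H then 0 else π (eG (t : G) • ν t v)) fun t _ => by
        by_cases h : (t : G) ∈ H <;> simp [h], key]
      exact Finset.sum_eq_zero fun t ht => if_pos ((hfixed t).mp (Finset.mem_filter.mp ht).2)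
    refine LinearMap.ext fun v => ?_
    rw [LinearMap.sum_apply, ← Finset.sum_filter_add_sum_filter_not Finset.univ (fun t : T => (t : G) ∉ H)]
    simp only [LinearMap.smul_apply]
    rw [hzero, zero_add]
    conv_rhs => rw [← heH, LinearMap.sum_apply]
    refine Finset.sum_bij' (fun t ht => (⟨(t : G), not_not.mp (Finset.mem_filter.mp ht).2⟩ : H))
      (fun h _ => (⟨(h : G), hS.ht h.2⟩ : T)) (fun _ _ => Finset.mem_univ _)
      (fun h _ => Finset.mem_filter.mpr ⟨Finset.mem_univ _, not_not.mpr h.2⟩) (fun _ _ => rfl) (fun _ _ => rfl)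
      (fun t _ => rfl)
  have hev : ∀ v, indEval ν (f0 v) = v := by
    intro v
    conv_rhs => rw [show v = (1 : Module.End k V) v from rfl, ← hsumT, LinearMap.sum_apply]
    simp only [hf0def, hA, LinearMap.comp_apply, LinearMap.sum_apply, LinearMap.smul_apply, map_sum, map_smul]
    have e : ∀ x, indEval ν (ρ x (indIncT ν v)) = extZero ν x v := fun x => by
      show extZero ν (x⁻¹ * 1)⁻¹ v = _
      rw [mul_one, inv_inv]
    simp only [e]
    symm
    refine Fintype.sum_of_injective (fun t : T => (t : G)) Subtype.val_injective _ _ (fun x hx => ?_) fun t => ?_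
    · rw [extZero, dif_neg fun h => hx ⟨⟨x, h⟩, rfl⟩]
      simp
    · rw [extZero_mem ν t.2]
  have hU₀ : InvSub ρ (LinearMap.range A) := fun a => by
    rintro _ ⟨x, rfl⟩
    exact ⟨ρ a x, by rw [← Module.End.mul_apply, ← hAcomm]; rfl⟩
  have hne : ∃ v, f0 v ∉ (LinearMap.range A).map (op ρ H (z ^ (q - 1) * b)) := by
    obtain ⟨v, hv⟩ := hν.nontrivial
    refine ⟨v, fun ⟨s, _, hs⟩ => hv ?_⟩
    rw [← hev v, ← hs, hρdef, indEval_op ν hS.ht, map_mul, map_pow, hν.kills,
      zero_pow (by have := hS.loc.corner.two; omega), zero_mul, LinearMap.zero_apply]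
  obtain ⟨P, hPle, hPs, hPc⟩ :=
    exists_simple_core hS ρ hν (LinearMap.range A) hU₀ f0 (fun v => ⟨_, rfl⟩) hf0 hne
  refine ⟨P, hPs, fun a => ?_, hPc⟩
  obtain ⟨a, rfl⟩ := Submodule.Quotient.mk_surjective _ a
  obtain ⟨x, hx⟩ := hPle a.2
  have e : ∀ c, (eG c • P.rep c) (Submodule.Quotient.mk a) =
      Submodule.mkQ (P.bot.comap P.top.subtype)
        (eG c • (⟨ρ c (a : indSpace ν), P.top_inv c a a.2⟩ : ↥P.top)) := fun c => by
    rw [map_smul]; rfl
  rw [LinearMap.sum_apply, Finset.sum_congr rfl fun c _ => e c, ← map_sum]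
  refine congrArg _ (Subtype.ext ?_)
  have h2 : A (a : indSpace ν) = a := by rw [← hx, ← Module.End.mul_apply, hAA]
  rw [hA, LinearMap.sum_apply] at h2
  rw [AddSubmonoidClass.coe_finsetSum]
  exact h2

end Cfsg.Agent.Char.CyclicTransfer
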