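import Cfsg.Agent.Lib.Char.CyclicLocalBlock

/-!
# Transfers of endomorphisms from the centralizer of a subgroup of order `p`

An endomorphism commuting with the block of the centralizer has, on the vectors killed by `z`, the same transfer to
the whole group as to the inertia group, up to multiples of `z ^ (q - 1)`.
-/

set_option autoImplicit false
set_option linter.unusedSectionVars false
set_option linter.style.haveILetI false

namespace Cfsg.Agent.Char.CyclicTransfer

open CyclicCentre

universe u v w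

variable {k : Type v} [Field k] {G : Type u} [Group G]

section Defs

variable {W : Type w} [AddCommGroup W] [Module k W] (ρ : G →* Module.End k W) (H : Subgroup G)

/-- The operators of the algebra of a subgroup. -/
noncomputable def op : MonoidAlgebra k H →ₐ[k] Module.End k W :=
  MonoidAlgebra.lift k (Module.End k W) H (ρ.comp H.subtype)

theorem op_el (h : H) : op ρ H (el h) = ρ (h : G) := by simp [op, el]

/-- Conjugation by a normalizing element. -/
def conjHom (n : G) (hn : ∀ h ∈ H, n * h * n⁻¹ ∈ H) : H →* H :=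
  ((MulAut.conj n).toMonoidHom.comp H.subtype).codRestrict H fun h => hn h h.2

/-- Conjugation by a normalizing element on the algebra. -/
noncomputable def cjH (n : G) (hn : ∀ h ∈ H, n * h * n⁻¹ ∈ H) : MonoidAlgebra k H →ₐ[k] MonoidAlgebra k H :=
  MonoidAlgebra.mapDomainAlgHom k k (conjHom H n hn)

theorem el_induction {motive : MonoidAlgebra k H → Prop} (r : MonoidAlgebra k H) (h0 : motive 0)
    (hadd : ∀ a c, motive a → motive c → motive (a + c)) (hsm : ∀ (c : k) (h : H), motive (c • el h)) :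
    motive r := by
  induction r using MonoidAlgebra.induction_linear with
  | zero => exact h0
  | add a c ha hc => exact hadd a c ha hc
  | single h c =>
    rw [show MonoidAlgebra.single h c = c • el h by simp [el, MonoidAlgebra.smul_single']]
    exact hsm c h

theorem op_cjH (n : G) (hn : ∀ h ∈ H, n * h * n⁻¹ ∈ H) (r : MonoidAlgebra k H) :
    op ρ H (cjH H n hn r) * ρ n = ρ n * op ρ H r := by
  induction r using el_induction H with
  | h0 => simp
  | hadd a c ha hc => simp only [map_add, add_mul, mul_add, ha, hc]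
  | hsm c h =>
    rw [map_smul, map_smul, map_smul, smul_mul_assoc, mul_smul_comm,
      show cjH (k := k) H n hn (el h) = el (conjHom H n hn h) by simp [cjH, el, MonoidAlgebra.mapDomainAlgHom],
      op_el, op_el, ← map_mul, ← map_mul]
    congr 2
    simp [conjHom]

theorem commute_op {F : Module.End k W} (hF : ∀ h : H, Commute F (ρ (h : G))) (r : MonoidAlgebra k H) :
    Commute F (op ρ H r) := by
  induction r using el_induction H with
  | h0 => rw [map_zero]; exact Commute.zero_right _
  | hadd a c ha hc => rw [map_add]; exact ha.add_right hc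
  | hsm c h => rw [map_smul, op_el]; exact (hF h).smul_right c

end Defs

/-- A subgroup of order `p` seen through its normalizer, its centralizer and the inertia group of a block. -/
structure Setting (k : Type v) [Field k] {G : Type u} [Group G] (D H N T : Subgroup G) (q : ℕ)
    (b g z w : MonoidAlgebra k H) [Fintype (H ⧸ D.subgroupOf H)] : Prop where
  loc : CyclicLocal.LocalData k (D.subgroupOf H) q b g z w
  dh : D ≤ H
  ht : H ≤ T
  tn : T ≤ N
  norm : ∀ n ∈ N, ∀ h ∈ H, n * h * n⁻¹ ∈ H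
  stab : ∀ n, ∀ hn : n ∈ T, cjH H n (norm n (tn hn)) b = b
  orth : ∀ n, ∀ hn : n ∈ N, n ∉ T → cjH H n (norm n hn) b * b = 0
  outer : ∀ n ∉ N, ∀ u ∈ D, n⁻¹ * u * n ∈ D → u = 1
  index : ((H.relIndex T : ℕ) : k) ≠ 0

section Sums

open scoped Classical

variable [Fintype G]

/-- The cosets inside a subgroup. -/
noncomputable def cosetsIn (H T : Subgroup G) : Finset (G ⧸ H) :=
  letI := Fintype.ofFinite (G ⧸ H)
  Finset.univ.filter fun r => r.out ∈ T

theorem mem_cosetsIn {H T : Subgroup G} {r : G ⧸ H} : r ∈ cosetsIn H T ↔ r.out ∈ T := by simp [cosetsIn]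

theorem out_mem {H T : Subgroup G} (hHT : H ≤ T) (a : G) : (a : G ⧸ H).out ∈ T ↔ a ∈ T := by
  obtain ⟨y, hy⟩ := QuotientGroup.mk_out_eq_mul H a
  rw [hy, Subgroup.mul_mem_cancel_right _ (hHT y.2)]

theorem card_cosetsIn {H T : Subgroup G} (hHT : H ≤ T) : (cosetsIn H T).card = H.relIndex T := by
  letI := Fintype.ofFinite (G ⧸ H)
  letI := Fintype.ofFinite (T ⧸ H.subgroupOf T)
  rw [Subgroup.relIndex, Subgroup.index, Nat.card_eq_fintype_card, ← Finset.card_univ]
  refine Finset.card_bij' (fun r hr => ((⟨r.out, mem_cosetsIn.mp hr⟩ : T) : T ⧸ H.subgroupOf T))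
    (fun q _ => ((q.out : G) : G ⧸ H)) (fun _ _ => Finset.mem_univ _)
    (fun q _ => mem_cosetsIn.mpr ((out_mem hHT _).mpr q.out.2)) (fun r hr => ?_) (fun q _ => ?_)
  · obtain ⟨y, hy⟩ := QuotientGroup.mk_out_eq_mul (H.subgroupOf T) (⟨r.out, mem_cosetsIn.mp hr⟩ : T)
    rw [hy, Subgroup.coe_mul, QuotientGroup.mk_mul_of_mem _ (Subgroup.mem_subgroupOf.mp y.2)]
    exact Quotient.out_eq r
  · refine Eq.trans (QuotientGroup.eq.mpr (Subgroup.mem_subgroupOf.mpr ?_)) (Quotient.out_eq q)
    obtain ⟨y, hy⟩ := QuotientGroup.mk_out_eq_mul H (q.out : G)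
    simp [hy]

variable {W : Type w} [AddCommGroup W] [Module k W] (ρ : G →* Module.End k W)
  {V : Type w} [AddCommGroup V] [Module k V] {T : Subgroup G}

/-- The extension of a representation of a subgroup by zero. -/
noncomputable def extZero (ν : T →* Module.End k V) (a : G) : Module.End k V :=
  if h : a ∈ T then ν ⟨a, h⟩ else 0

theorem extZero_mem (ν : T →* Module.End k V) {a : G} (h : a ∈ T) : extZero ν a = ν ⟨a, h⟩ := dif_pos h

/-- The average over the cosets in a subgroup. -/
noncomputable def avg (H : Subgroup G) (ν : T →* Module.End k V) (φ : V →ₗ[k] W) : V →ₗ[k] W :=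
  ∑ r ∈ cosetsIn H T, ρ r.out ∘ₗ φ ∘ₗ extZero ν r.out⁻¹

theorem avg_apply (H : Subgroup G) (ν : T →* Module.End k V) (φ : V →ₗ[k] W) (v : V) :
    avg ρ H ν φ v = ∑ r ∈ cosetsIn H T, ρ r.out (φ (extZero ν r.out⁻¹ v)) := by
  simp [avg]

theorem avg_equiv {H : Subgroup G} (hHT : H ≤ T) (ν : T →* Module.End k V) (φ : V →ₗ[k] W)
    (hφ : ∀ (h : H) v, φ (ν ⟨(h : G), hHT h.2⟩ v) = ρ (h : G) (φ v)) (t : T) (v : V) :
    avg ρ H ν φ (ν t v) = ρ (t : G) (avg ρ H ν φ v) := by
  letI := Fintype.ofFinite (G ⧸ H)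
  rw [avg_apply, avg_apply, map_sum]
  refine Finset.sum_bij' (fun r _ => (t : G)⁻¹ • r) (fun r _ => (t : G) • r) (fun r hr => ?_) (fun r hr => ?_)
    (fun r _ => smul_inv_smul _ r) (fun r _ => inv_smul_smul _ r) (fun r hr => ?_)
  · rw [mem_cosetsIn] at hr ⊢
    rw [show (t : G)⁻¹ • r = (((t : G)⁻¹ * r.out : G) : G ⧸ H) by
      conv_lhs => rw [← QuotientGroup.out_eq' r]
      rfl, out_mem hHT]
    exact T.mul_mem (T.inv_mem t.2) hr
  · rw [mem_cosetsIn] at hr ⊢
    rw [show (t : G) • r = (((t : G) * r.out : G) : G ⧸ H) by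
      conv_lhs => rw [← QuotientGroup.out_eq' r]
      rfl, out_mem hHT]
    exact T.mul_mem t.2 hr
  · rw [mem_cosetsIn] at hr
    obtain ⟨y, hy⟩ := QuotientGroup.mk_out_eq_mul H ((t : G)⁻¹ * r.out)
    rw [show (t : G)⁻¹ • r = (((t : G)⁻¹ * r.out : G) : G ⧸ H) by
      conv_lhs => rw [← QuotientGroup.out_eq' r]
      rfl, hy]
    have hm : ((t : G)⁻¹ * r.out * y)⁻¹ ∈ T :=
      T.inv_mem (T.mul_mem (T.mul_mem (T.inv_mem t.2) hr) (hHT y.2))
    rw [extZero_mem ν (T.inv_mem hr), extZero_mem ν hm,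
      show (⟨((t : G)⁻¹ * r.out * y)⁻¹, hm⟩ : T) =
        ⟨((y⁻¹ : H) : G), hHT (y⁻¹).2⟩ * (⟨r.out⁻¹, T.inv_mem hr⟩ * t) from Subtype.ext (by simp [mul_assoc]),
      map_mul ν, Module.End.mul_apply, hφ, ← Module.End.mul_apply (ν _) (ν t), ← map_mul ν,
      ← Module.End.mul_apply (ρ _), ← map_mul ρ, ← Module.End.mul_apply (ρ _), ← map_mul ρ]
    congr 2
    simp [mul_assoc]

theorem avg_mem (H : Subgroup G) (ν : T →* Module.End k V) (φ : V →ₗ[k] W) {U : Submodule k W}
    (hU : ∀ t : T, ∀ x ∈ U, ρ (t : G) x ∈ U) (hφ : ∀ v, φ v ∈ U) (v : V) : avg ρ H ν φ v ∈ U := by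
  rw [avg_apply]
  exact U.sum_mem fun r hr => hU ⟨r.out, mem_cosetsIn.mp hr⟩ _ (hφ _)

end Sums

section Congr

open scoped Classical

variable [Fintype G] {D H N T : Subgroup G} {q : ℕ} [Fintype (H ⧸ D.subgroupOf H)]
  {b g z w : MonoidAlgebra k H} (hS : Setting k D H N T q b g z w)
  {W : Type u} [AddCommGroup W] [Module k W] (ρ : G →* Module.End k W)

include hS

omit [Fintype G] in
theorem q_pos : 1 ≤ q := le_of_lt hS.loc.corner.two

/-- The conjugate of `z` by an element of the inertia group is a multiple of `z`. -/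
theorem exists_zconj {t : G} (ht : t ∈ T) :
    ∃ r, cjH H t (hS.norm t (hS.tn ht)) z = z * r := by
  set τ := cjH (k := k) H t (hS.norm t (hS.tn ht)) with hτ
  have hsurj : Function.Surjective τ := fun r => by
    refine ⟨cjH H t⁻¹ (hS.norm _ (hS.tn (T.inv_mem ht))) r, ?_⟩
    induction r using el_induction H with
    | h0 => simp
    | hadd a c ha hc => rw [map_add, map_add, ha, hc]
    | hsm c h =>
      rw [map_smul, map_smul]
      congr 1
      have e : conjHom H t (hS.norm t (hS.tn ht)) (conjHom H t⁻¹ (hS.norm _ (hS.tn (T.inv_mem ht))) h) = h :=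
        Subtype.ext (by simp [conjHom, mul_assoc])
      simp [hτ, cjH, el, MonoidAlgebra.mapDomainAlgHom, e]
  have hcen : ∀ r, τ z * r = r * τ z := fun r => by
    obtain ⟨r', rfl⟩ := hsurj r
    rw [← map_mul, ← map_mul, hS.loc.corner.zcomm]
  have hbτ : b * τ z = τ z := by
    conv_lhs => rw [← hS.stab t ht]
    rw [← map_mul, hS.loc.corner.zb]
  obtain ⟨P, hP⟩ := hS.loc.centre _ hcen hbτ
  refine ⟨Polynomial.aeval z P.divX * b, ?_⟩
  have hP0 : P.coeff 0 = 0 := by
    obtain ⟨n, π, hn, hπb, -⟩ := hS.loc.rep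
    have h1 : (τ z) ^ q * b = 0 := by
      conv_lhs => rw [← hS.stab t ht]
      rw [← map_pow, ← map_mul, hS.loc.corner.zq, map_zero]
    have hnil : ∀ x : MonoidAlgebra k H, x ^ q * b = 0 → IsNilpotent (π x) := fun x hx =>
      ⟨q, by rw [← map_pow, ← mul_one (π (x ^ q)), ← hπb, ← map_mul, hx, map_zero]⟩
    have h3 : π (τ z) = π z * π (Polynomial.aeval z P.divX) + P.coeff 0 • (1 : Matrix (Fin n) (Fin n) k) := by
      rw [hP, map_mul, hπb, mul_one]
      conv_lhs => rw [← Polynomial.X_mul_divX_add P]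
      rw [map_add, map_mul, Polynomial.aeval_X, Polynomial.aeval_C, map_add, map_mul, AlgHom.commutes,
        Algebra.algebraMap_eq_smul_one]
    have hcomm : Commute (π z) (π (Polynomial.aeval z P.divX)) :=
      (show Commute z (Polynomial.aeval z P.divX) from hS.loc.corner.zcomm _).map π
    have hzn := hcomm.isNilpotent_mul_right (hnil z hS.loc.corner.zq)
    have h4 : IsNilpotent (P.coeff 0 • (1 : Matrix (Fin n) (Fin n) k)) := by
      rw [show P.coeff 0 • (1 : Matrix (Fin n) (Fin n) k) = π (τ z) - π z * π (Polynomial.aeval z P.divX) by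
        rw [h3, add_sub_cancel_left]]
      refine Commute.isNilpotent_sub ?_ (hnil _ h1) hzn
      rw [← map_mul]
      exact (show Commute (τ z) (z * Polynomial.aeval z P.divX) from hcen _).map π
    obtain ⟨m, hm⟩ := h4
    rw [smul_pow, one_pow] at hm
    have := congrFun (congrFun hm ⟨0, hn⟩) ⟨0, hn⟩
    simp only [Matrix.smul_apply, Matrix.one_apply_eq, Matrix.zero_apply, smul_eq_mul, mul_one] at this
    exact pow_eq_zero_iff'.mp this |>.1
  conv_lhs => rw [hP, ← Polynomial.X_mul_divX_add P, hP0, Polynomial.C_0, add_zero, map_mul, Polynomial.aeval_X]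
  rw [mul_assoc]

/-- The image of `z ^ j b` in an invariant space is invariant under the inertia group. -/
theorem range_inv (j : ℕ) {U : Submodule k W} (hU : ∀ a : G, ∀ x ∈ U, ρ a x ∈ U) (t : T) {x : W}
    (hx : x ∈ U.map (op ρ H (z ^ j * b))) : ρ (t : G) x ∈ U.map (op ρ H (z ^ j * b)) := by
  obtain ⟨y, hy, rfl⟩ := hx
  obtain ⟨r, hr⟩ := exists_zconj hS t.2
  have he : cjH H (t : G) (hS.norm _ (hS.tn t.2)) (z ^ j * b) = z ^ j * b * r ^ j := by
    rw [map_mul, map_pow, hr, hS.stab _ t.2, (show Commute z r from hS.loc.corner.zcomm r).mul_pow, mul_assoc,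
      ← hS.loc.corner.bcomm, ← mul_assoc]
  rw [← Module.End.mul_apply, ← op_cjH ρ H (t : G) (hS.norm _ (hS.tn t.2)), he,
    map_mul (op ρ H) (z ^ j * b), mul_assoc, Module.End.mul_apply]
  refine Submodule.mem_map_of_mem ?_
  rw [Module.End.mul_apply]
  have hopU : ∀ s : MonoidAlgebra k H, ∀ x ∈ U, op ρ H s x ∈ U := fun s => by
    induction s using el_induction H with
    | h0 => intro x _; simp
    | hadd a c ha hc => intro x hx; rw [map_add, LinearMap.add_apply]; exact U.add_mem (ha x hx) (hc x hx)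
    | hsm c h => intro x hx; rw [map_smul, LinearMap.smul_apply, op_el]; exact U.smul_mem _ (hU _ x hx)
  exact hopU _ _ (hU _ _ hy)

/-- The vectors of the block killed by `z` are permuted by the inertia group. -/
theorem killed_inv (t : T) {y : W} (hz : op ρ H z y = 0) (hb : op ρ H b y = y) :
    op ρ H z (ρ (t : G) y) = 0 ∧ op ρ H b (ρ (t : G) y) = ρ (t : G) y := by
  constructor
  · obtain ⟨r, hr⟩ := exists_zconj hS (T.inv_mem t.2)
    have h1 := LinearMap.congr_fun (op_cjH ρ H (t : G)⁻¹ (hS.norm _ (hS.tn (T.inv_mem t.2))) z) (ρ (t : G) y)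
    rw [hr, hS.loc.corner.zcomm, map_mul, Module.End.mul_apply, Module.End.mul_apply, Module.End.mul_apply,
      ← Module.End.mul_apply (ρ (t : G)⁻¹), ← map_mul, inv_mul_cancel, map_one, Module.End.one_apply, hz,
      map_zero] at h1
    have h2 := congrArg (ρ (t : G)) h1
    rw [map_zero, ← Module.End.mul_apply, ← map_mul, mul_inv_cancel, map_one, Module.End.one_apply] at h2
    exact h2.symm
  · have h1 := LinearMap.congr_fun (op_cjH ρ H (t : G) (hS.norm _ (hS.tn t.2)) b) y
    rw [hS.stab _ t.2, Module.End.mul_apply, Module.End.mul_apply, hb] at h1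
    exact h1

/-- A full sum of conjugates maps the killed vectors of the block to multiples of `z ^ (q - 1)`. -/
theorem sum_conj_mem [Fintype H] [FiniteDimensional k W] (χ : Module.End k W) {y : W} (hz : op ρ H z y = 0)
    (hb : op ρ H b y = y) :
    ∑ h : H, op ρ H (el h) (χ (op ρ H (el h⁻¹) y)) ∈ LinearMap.range (op ρ H (z ^ (q - 1) * b)) := by
  let B := Module.finBasis k W
  have e : ∀ h : H, op ρ H (el h) (χ (op ρ H (el h⁻¹) y)) =
      ∑ l, op ρ H (B.coord l (op ρ H (el h⁻¹) y) • el h) (χ (B l)) := by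
    intro h
    conv_lhs => rw [← B.sum_repr (op ρ H (el h⁻¹) y), map_sum, map_sum]
    simp
  rw [Finset.sum_congr rfl fun h _ => e h, Finset.sum_comm]
  refine Submodule.sum_mem _ fun l _ => ?_
  rw [← LinearMap.sum_apply, ← map_sum]
  set u : W → MonoidAlgebra k H := fun y => ∑ h : H, B.coord l (op ρ H (el h⁻¹) y) • el h with hu
  have hmul : ∀ r y, r * u y = u (op ρ H r y) := by
    intro r
    induction r using el_induction H with
    | h0 => intro y; simp [hu]
    | hadd a c ha hc => intro y; rw [add_mul, ha, hc, map_add, LinearMap.add_apply]; simp [hu, add_smul, Finset.sum_add_distrib]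
    | hsm c s =>
      intro y
      simp only [hu, Finset.mul_sum, mul_smul_comm, smul_mul_assoc]
      refine Fintype.sum_equiv (Equiv.mulLeft s) _ _ fun h => ?_
      rw [Equiv.coe_mulLeft, ← el_mul, map_smul, LinearMap.smul_apply, map_smul, map_smul, smul_eq_mul,
        smul_smul, ← Module.End.mul_apply, ← map_mul, ← el_mul, mul_inv_rev, inv_mul_cancel_right, mul_comm c]
  have h1 : z * u y = 0 := by rw [hmul, hz]; simp [hu]
  obtain ⟨r, hr⟩ := hS.loc.corner.socle h1 (by rw [hmul, hb])
  have hbu : b * u y = u y := by rw [hmul, hb]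
  show op ρ H (u y) _ ∈ _
  rw [← hbu, hr, ← mul_assoc, hS.loc.corner.bcomm (z ^ (q - 1)), map_mul (op ρ H) (z ^ (q - 1) * b)]
  exact ⟨_, rfl⟩

set_option maxHeartbeats 1000000 in
/-- The transfer to the whole group agrees with the transfer to the inertia group. -/
theorem transfer_congr [Fintype (G ⧸ H)] [FiniteDimensional k W] (φ : Module.End k W)
    (hφ : ∀ r, Commute φ (op ρ H r)) (hφb : op ρ H b * φ = φ) {y : W} (hz : op ρ H z y = 0)
    (hb : op ρ H b y = y) :
    op ρ H b ((∑ r : G ⧸ H, ρ r.out * φ * ρ r.out⁻¹) y) - avg ρ H (ρ.comp T.subtype) φ y ∈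
      LinearMap.range (op ρ H (z ^ (q - 1) * b)) := by
  haveI : Fintype H := Fintype.ofFinite _
  letI := Fintype.ofFinite (G ⧸ D)
  haveI : Fintype (D.subgroupOf H) := Fintype.ofFinite _
  haveI : Fintype D := Fintype.ofFinite _
  set R := LinearMap.range (op ρ H (z ^ (q - 1) * b)) with hR
  set ψ := op ρ H w * φ with hψdef
  let F : G → Module.End k W := fun c => ρ c * ψ * ρ c⁻¹
  have hFmul : ∀ a c, F (a * c) = ρ a * F c * ρ a⁻¹ := fun a c => by
    simp only [F, map_mul, mul_inv_rev, mul_assoc]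
  have hψD : ∀ u : G, u ∈ D → F u = ψ := by
    intro u hu
    have h1 : op ρ H (cj ⟨u, hS.dh hu⟩ w) = op ρ H w := by rw [hS.loc.fixed _ (Subgroup.mem_subgroupOf.mpr hu)]
    rw [cj_apply, map_mul, map_mul, op_el, op_el] at h1
    simp only [F, hψdef, ← mul_assoc]
    rw [mul_assoc (ρ u * op ρ H w), show φ * ρ u⁻¹ = ρ u⁻¹ * φ by
      have := hφ (el ⟨u, hS.dh hu⟩⁻¹)
      rw [op_el] at this
      exact this, ← mul_assoc]
    rw [show ρ u * op ρ H w * ρ u⁻¹ = op ρ H w from h1]
  have hFD : ∀ c u, u ∈ D → F (c * u) = F c := fun c u hu => by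
    rw [hFmul, hψD u hu]
  have hFout : ∀ c : G, F (c : G ⧸ D).out = F c := fun c => by
    obtain ⟨y, hy⟩ := QuotientGroup.mk_out_eq_mul D c
    rw [hy, hFD _ _ y.2]
  have htr : ∑ s : H ⧸ (D.subgroupOf H), F (s.out : G) = φ := by
    calc ∑ s : H ⧸ (D.subgroupOf H), F (s.out : G) = ∑ s : H ⧸ (D.subgroupOf H), op ρ H (cj s.out w) * φ := by
          refine Finset.sum_congr rfl fun s _ => ?_
          have := hφ (el (s.out)⁻¹)
          rw [op_el] at this
          simp only [F, hψdef, cj_apply, map_mul, op_el, mul_assoc]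
          rw [← Subgroup.coe_inv, this.eq]
      _ = op ρ H (trD (D.subgroupOf H) w) * φ := by rw [trD_apply, map_sum, Finset.sum_mul]
      _ = φ := by rw [hS.loc.trace, hφb]
  set S := Finset.univ.filter fun a : G ⧸ D => a.out ∉ N with hSdef
  have hDN : D ≤ N := hS.dh.trans (hS.ht.trans hS.tn)
  have hsplit : ∑ r : G ⧸ H, ρ r.out * φ * ρ r.out⁻¹ =
      (∑ r ∈ cosetsIn H N, ρ r.out * φ * ρ r.out⁻¹) + ∑ a ∈ S, F a.out := by
    have e1 : ∀ r : G ⧸ H, ρ r.out * φ * ρ r.out⁻¹ = ∑ s : H ⧸ (D.subgroupOf H), F (r.out * (s.out : G)) := fun r => by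
      conv_lhs => rw [← htr, Finset.mul_sum, Finset.sum_mul]
      exact Finset.sum_congr rfl fun s _ => (hFmul _ _).symm
    have e2 : ∀ P : G → Prop, (∀ c, ∀ h ∈ H, P (c * h) ↔ P c) →
        ∑ r : G ⧸ H with P r.out, ρ r.out * φ * ρ r.out⁻¹ = ∑ a : G ⧸ D with P a.out, F a.out := by
      intro P hP
      rw [Finset.sum_filter, Finset.sum_filter, ← (Subgroup.quotientEquivProdOfLE hS.dh).symm.sum_comp,
        Fintype.sum_prod_type]
      refine Finset.sum_congr rfl fun r _ => ?_
      have e3 : ∀ s : H ⧸ (D.subgroupOf H), (Subgroup.quotientEquivProdOfLE hS.dh).symm (r, s) =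
          ((r.out * (s.out : G) : G) : G ⧸ D) := fun s => by
        conv_lhs => rw [← QuotientGroup.out_eq' s]
        rfl
      simp only [e3, hFout]
      have hD' : ∀ c : G, P (c : G ⧸ D).out ↔ P c := fun c => by
        obtain ⟨y, hy⟩ := QuotientGroup.mk_out_eq_mul D c
        rw [hy, hP _ _ (hS.dh y.2)]
      simp only [hD', hP _ _ (Subtype.prop _)]
      split_ifs with h
      · exact e1 r
      · simp
    rw [← Finset.sum_filter_add_sum_filter_not Finset.univ (fun r : G ⧸ H => r.out ∈ N)]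
    refine congrArg₂ (· + ·) ?_ ?_
    · refine Finset.sum_congr ?_ fun _ _ => rfl
      ext r
      simp [cosetsIn]
    · refine Eq.trans ?_ ((e2 (fun c => c ∉ N) fun c h hh => by
        rw [Subgroup.mul_mem_cancel_right _ (hS.tn (hS.ht hh))]).trans ?_)
      · exact Finset.sum_congr (by ext; simp) fun _ _ => rfl
      · exact Finset.sum_congr (by ext; simp [hSdef]) fun _ _ => rfl
  -- the part in the normalizer
  have hN : op ρ H b * (∑ r ∈ cosetsIn H N, ρ r.out * φ * ρ r.out⁻¹) =
      avg ρ H (ρ.comp T.subtype) φ := by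
    rw [Finset.mul_sum, avg]
    symm
    refine Eq.trans ?_ (Finset.sum_subset (s₁ := cosetsIn H T) (fun r hr =>
      mem_cosetsIn.mpr (hS.tn (mem_cosetsIn.mp hr))) fun r hr hrT => ?_)
    · refine Finset.sum_congr rfl fun r hr => ?_
      have hrT := mem_cosetsIn.mp hr
      have h1 := op_cjH ρ H r.out (hS.norm _ (hS.tn hrT)) b
      rw [hS.stab _ hrT] at h1
      rw [extZero_mem _ (T.inv_mem hrT), ← mul_assoc, ← mul_assoc, h1, mul_assoc (ρ r.out), hφb]
      rfl
    · have hrN := mem_cosetsIn.mp hr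
      have hrT' : r.out ∉ T := fun h => hrT (mem_cosetsIn.mpr h)
      have h1 := op_cjH ρ H r.out (hS.norm _ hrN) b
      rw [← mul_assoc, ← mul_assoc, ← hφb, ← mul_assoc (op ρ H b * ρ r.out), mul_assoc (op ρ H b) (ρ r.out),
        ← h1, ← mul_assoc,
        ← map_mul, hS.loc.corner.bcomm, hS.orth _ hrN hrT', map_zero]
      simp
  -- the part outside
  have hOcomm : ∀ h : H, Commute (∑ a ∈ S, F a.out) (ρ (h : G)) := by
    intro h
    show _ * ρ (h : G) = ρ (h : G) * _
    rw [Finset.sum_mul, Finset.mul_sum]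
    refine (Finset.sum_bij' (fun a _ => (h : G) • a) (fun a _ => (h : G)⁻¹ • a) (fun a ha => ?_) (fun a ha => ?_)
      (fun a _ => inv_smul_smul _ a) (fun a _ => smul_inv_smul _ a) (fun a _ => ?_)).symm
    all_goals induction a using QuotientGroup.induction_on with | H c => ?_
    · simp only [hSdef, Finset.mem_filter, Finset.mem_univ, true_and, MulAction.Quotient.smul_coe, smul_eq_mul,
        out_mem hDN, Subgroup.mul_mem_cancel_left _ (hS.tn (hS.ht h.2))] at ha ⊢
      exact ha
    · simp only [hSdef, Finset.mem_filter, Finset.mem_univ, true_and, MulAction.Quotient.smul_coe, smul_eq_mul,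
        out_mem hDN, Subgroup.mul_mem_cancel_left _ (N.inv_mem (hS.tn (hS.ht h.2)))] at ha ⊢
      exact ha
    · rw [MulAction.Quotient.smul_coe, smul_eq_mul, hFout, hFout, hFmul, mul_assoc, ← map_mul, inv_mul_cancel,
        map_one, mul_one]
  let rep : G ⧸ D → G ⧸ D := fun a => (Quotient.mk (MulAction.orbitRel D (G ⧸ D)) a).out
  set X := ∑ a ∈ S.filter (fun a => rep a = a), F a.out with hX
  have hmemS : ∀ (u : D) a, (u : G) • a ∈ S ↔ a ∈ S := by
    intro u a
    induction a using QuotientGroup.induction_on with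
    | H c =>
      simp only [hSdef, Finset.mem_filter, Finset.mem_univ, true_and, MulAction.Quotient.smul_coe, smul_eq_mul,
        out_mem hDN, Subgroup.mul_mem_cancel_left _ (hDN u.2)]
  have horbit : ∀ a, ∃ u : D, a = (u : G) • rep a := fun a => by
    obtain ⟨u, hu⟩ : rep a ∈ MulAction.orbit D a :=
      Quotient.exact (Quotient.out_eq (Quotient.mk (MulAction.orbitRel D (G ⧸ D)) a))
    refine ⟨u⁻¹, ?_⟩
    rw [← hu]
    exact (inv_smul_smul u a).symm
  have hrep : ∀ (u : D) a, rep ((u : G) • a) = rep a := fun u a =>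
    congrArg Quotient.out (Quotient.sound (s := MulAction.orbitRel D (G ⧸ D)) ⟨u, rfl⟩)
  have hfree : ∀ (u v : D) a, a ∈ S → (u : G) • a = (v : G) • a → u = v := by
    intro u v a ha he
    induction a using QuotientGroup.induction_on with
    | H c =>
      simp only [hSdef, Finset.mem_filter, Finset.mem_univ, true_and, out_mem hDN] at ha
      rw [MulAction.Quotient.smul_coe, MulAction.Quotient.smul_coe, QuotientGroup.eq, smul_eq_mul, smul_eq_mul,
        mul_inv_rev] at he
      have h1 := hS.outer c ha ((u : G)⁻¹ * v) (D.mul_mem (D.inv_mem u.2) v.2) (by simpa [mul_assoc] using he)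
      exact Subtype.ext (inv_mul_eq_one.mp h1)
  have hO : ∑ a ∈ S, F a.out = ∑ u : D, ρ (u : G) * X * ρ (u : G)⁻¹ := by
    simp only [hX, Finset.mul_sum, Finset.sum_mul]
    rw [← Finset.sum_product']
    symm
    refine Finset.sum_bij (fun x _ => ((x.1 : D) : G) • x.2) (fun x hx => ?_) (fun x hx x' hx' e => ?_)
      (fun a ha => ?_) (fun x _ => ?_)
    · exact (hmemS _ _).mpr (Finset.mem_filter.mp (Finset.mem_product.mp hx).2).1
    · obtain ⟨hxS, hxr⟩ := Finset.mem_filter.mp (Finset.mem_product.mp hx).2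
      obtain ⟨-, hxr'⟩ := Finset.mem_filter.mp (Finset.mem_product.mp hx').2
      have h2 : x.2 = x'.2 := by
        rw [← hxr, ← hxr', ← hrep x.1 x.2, ← hrep x'.1 x'.2, e]
      rw [← h2] at e
      exact Prod.ext (hfree _ _ _ hxS e) h2
    · obtain ⟨u, hu⟩ := horbit a
      refine ⟨(u, rep a), Finset.mem_product.mpr ⟨Finset.mem_univ _, Finset.mem_filter.mpr
        ⟨(hmemS u _).mp (hu ▸ ha), congrArg Quotient.out (Quotient.out_eq _)⟩⟩, hu.symm⟩
    · obtain ⟨u, a⟩ := x
      induction a using QuotientGroup.induction_on with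
      | H c => rw [MulAction.Quotient.smul_coe, smul_eq_mul, hFout, hFout, hFmul]
  have hout : op ρ H b ((∑ a ∈ S, F a.out) y) ∈ R := by
    have e : op ρ H b * (∑ a ∈ S, F a.out) =
        ∑ h : H, op ρ H (el h) * (op ρ H w * X) * op ρ H (el h⁻¹) := by
      have e1 : op ρ H b * (∑ a ∈ S, F a.out) = ∑ s : H ⧸ (D.subgroupOf H),
          ρ (s.out : G) * op ρ H w * (∑ a ∈ S, F a.out) * ρ (s.out : G)⁻¹ := by
        rw [← hS.loc.trace, trD_apply, map_sum, Finset.sum_mul]
        refine Finset.sum_congr rfl fun s _ => ?_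
        rw [cj_apply, map_mul, map_mul, op_el, op_el, mul_assoc _ (ρ ((s.out)⁻¹ : H).1),
          ← (hOcomm (s.out)⁻¹).eq]
        simp only [mul_assoc, Subgroup.coe_inv]
      rw [e1, hO]
      let f : H → Module.End k W := fun h => op ρ H (el h) * (op ρ H w * X) * op ρ H (el h⁻¹)
      calc _ = ∑ s : H ⧸ (D.subgroupOf H), ∑ u : (D.subgroupOf H), f (s.out * u) := by
            refine Finset.sum_congr rfl fun s _ => ?_
            rw [Finset.mul_sum, Finset.sum_mul]
            symm
            refine Fintype.sum_equiv (Subgroup.subgroupOfEquivOfLe hS.dh).toEquiv _ _ fun u => ?_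
            have h1 : op ρ H (cj (u : H) w) = op ρ H w := by rw [hS.loc.fixed _ u.2]
            rw [cj_apply, map_mul, map_mul, op_el, op_el, Subgroup.coe_inv] at h1
            show op ρ H (el (s.out * (u : H))) * _ * op ρ H (el (s.out * (u : H))⁻¹) =
              ρ (s.out : G) * op ρ H w * (ρ ((u : H) : G) * X * ρ ((u : H) : G)⁻¹) * ρ (s.out : G)⁻¹
            conv_rhs => rw [← h1]
            simp only [op_el, Subgroup.coe_mul, Subgroup.coe_inv, mul_inv_rev, map_mul, mul_assoc]
            rw [← mul_assoc (ρ ((u : H) : G)⁻¹) (ρ ((u : H) : G)), ← map_mul ρ ((u : H) : G)⁻¹ ((u : H) : G),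
              inv_mul_cancel, map_one, one_mul]
        _ = ∑ h : H, f h := by
            rw [← Finset.sum_product']
            refine Finset.sum_bij' (fun x _ => (x.1.out : H) * x.2) (fun h _ => ((h : H ⧸ (D.subgroupOf H)),
              (⟨((h : H ⧸ (D.subgroupOf H)).out)⁻¹ * h, QuotientGroup.eq.mp (QuotientGroup.out_eq' _)⟩ : (D.subgroupOf H))))
              (fun _ _ => Finset.mem_univ _) (fun _ _ => Finset.mem_univ _) (fun x _ => ?_) (fun h _ => ?_)
              (fun _ _ => rfl)
            · have hm : ((x.1.out * (x.2 : H) : H) : H ⧸ (D.subgroupOf H)) = x.1 := by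
                rw [QuotientGroup.mk_mul_of_mem _ x.2.2, QuotientGroup.out_eq']
              refine Prod.ext hm (Subtype.ext ?_)
              simp only [hm, inv_mul_cancel_left]
            · exact mul_inv_cancel_left _ _
    rw [← Module.End.mul_apply, e, LinearMap.sum_apply]
    exact sum_conj_mem hS ρ _ hz hb
  rw [hsplit, LinearMap.add_apply, map_add, ← Module.End.mul_apply, hN, add_sub_cancel_left]
  exact hout

end Congr

end Cfsg.Agent.Char.CyclicTransfer
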