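import Cfsg.Agent.Lib.Char.ContributionBound
import Mathlib.RingTheory.Polynomial.Cyclotomic.Eval
import Mathlib.RingTheory.RootsOfUnity.Minpoly

/-!
# Integral combinations of roots of unity of prime power order

Divisibility in the local ring at `M` of an element of `ℤ[ω]` is divisibility of its coordinates, the squared
absolute values of the conjugates of a nonzero element add up to at least `φ(N)`, and for `p = 2` a real element
has integral average, congruent to it modulo `M`.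
-/

set_option autoImplicit false
open Cfsg Polynomial
open scoped ComplexConjugate

namespace Cfsg.Agent.Char.CycInt

variable {p k : ℕ} {ω : ℂ} (hω : IsPrimitiveRoot ω (p ^ k))

theorem pow_ne (hp : p.Prime) : p ^ k ≠ 0 := pow_ne_zero k hp.ne_zero

include hω in
theorem root_iff (hp : p.Prime) (P : ℤ[X]) : aeval ω P = 0 ↔ cyclotomic (p ^ k) ℤ ∣ P := by
  rw [cyclotomic_eq_minpoly hω (Nat.pos_of_ne_zero (pow_ne hp))]
  exact minpoly.isIntegrallyClosed_dvd_iff (hω.isIntegral (Nat.pos_of_ne_zero (pow_ne hp))) P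

include hω in
theorem root_pow (hp : p.Prime) {P : ℤ[X]} (h : aeval ω P = 0) {u : ℕ} (hu : u.Coprime (p ^ k)) :
    aeval (ω ^ u) P = 0 :=
  (root_iff (hω.pow_of_coprime u hu) hp P).2 ((root_iff hω hp P).1 h)

include hω in
theorem natDegree_red_lt (hp : p.Prime) (P : ℤ[X]) :
    (P %ₘ cyclotomic (p ^ k) ℤ).natDegree < Nat.totient (p ^ k) := by
  have h := natDegree_modByMonic_lt P (cyclotomic.monic (p ^ k) ℤ) fun e => by
    have := natDegree_cyclotomic (p ^ k) ℤ
    rw [e, natDegree_one] at this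
    exact (Nat.totient_pos.2 (Nat.pos_of_ne_zero (pow_ne hp))).ne this
  rwa [natDegree_cyclotomic] at h

include hω in
theorem aeval_red (hp : p.Prime) (P : ℤ[X]) {u : ℕ} (hu : u.Coprime (p ^ k)) :
    aeval (ω ^ u) (P %ₘ cyclotomic (p ^ k) ℤ) = aeval (ω ^ u) P := by
  have h0 : aeval (ω ^ u) (cyclotomic (p ^ k) ℤ) = 0 :=
    root_pow hω hp ((root_iff hω hp _).2 dvd_rfl) hu
  conv_rhs => rw [← modByMonic_add_div P (cyclotomic (p ^ k) ℤ)]
  rw [map_add, map_mul, h0, zero_mul, add_zero]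

include hω in
theorem eq_zero_of_root (hp : p.Prime) {R : ℤ[X]} (hR : R.natDegree < Nat.totient (p ^ k))
    (h : aeval ω R = 0) : R = 0 := by
  refine eq_zero_of_dvd_of_natDegree_lt ((root_iff hω hp R).1 h) ?_
  rwa [natDegree_cyclotomic]

theorem memLR_aeval {M : Ideal AlgInt} (hP : M.IsPrime) {z : ℂ} (hz : MemLocalRing M z) (R : ℤ[X]) :
    MemLocalRing M (aeval z R) := by
  rw [aeval_eq_sum_range]
  refine memLR_sum hP _ _ fun i _ => ?_
  rw [zsmul_eq_mul]
  exact memLR_mul hP (memLR_intCast hP _) (memLR_pow hP hz i)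

include hω in
theorem memLI_one_sub {M : Ideal AlgInt} (hM : IsPModular p M) (u : ℕ) : MemLocalIdeal M (ω ^ u - 1) :=
  root_congr_one hM (k := k) (by rw [← pow_mul, mul_comm, pow_mul, hω.pow_eq_one, one_pow])

include hω in
/-- `p` is a multiple of `(1 - ω) ^ φ(N)`. -/
theorem prime_eq_mul (hp : p.Prime) (hk : 1 ≤ k) :
    ∃ c : ℂ, IsIntegral ℤ c ∧ (p : ℂ) = (1 - ω) ^ Nat.totient (p ^ k) * c := by
  classical
  haveI : Fact p.Prime := ⟨hp⟩
  haveI : NeZero (p ^ k) := ⟨pow_ne hp⟩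
  obtain ⟨k', rfl⟩ : ∃ k', k = k' + 1 := ⟨k - 1, by omega⟩
  have h1 : eval 1 (cyclotomic (p ^ (k' + 1)) ℂ) = (p : ℂ) := eval_one_cyclotomic_prime_pow k'
  rw [cyclotomic_eq_prod_X_sub_primitiveRoots hω, eval_prod] at h1
  simp only [eval_sub, eval_X, eval_C] at h1
  have hd : ∀ μ ∈ primitiveRoots (p ^ (k' + 1)) ℂ, ∃ c : ℂ, IsIntegral ℤ c ∧ 1 - μ = (1 - ω) * c := by
    intro μ hμ
    obtain ⟨i, -, rfl⟩ := hω.eq_pow_of_pow_eq_one ((mem_primitiveRoots (Nat.pos_of_ne_zero (pow_ne hp))).1 hμ).pow_eq_one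
    refine ⟨∑ t ∈ Finset.range i, ω ^ t, IsIntegral.sum _ fun t _ => (hω.isIntegral
      (Nat.pos_of_ne_zero (pow_ne hp))).pow t, ?_⟩
    rw [mul_neg_geom_sum]
  choose! c hc1 hc2 using hd
  refine ⟨∏ μ ∈ primitiveRoots (p ^ (k' + 1)) ℂ, c μ, IsIntegral.prod _ hc1, ?_⟩
  rw [← h1, Finset.prod_congr rfl hc2, Finset.prod_mul_distrib, Finset.prod_const,
    hω.card_primitiveRoots]

include hω in
/-- Divisibility by `p` is coordinatewise. -/
theorem dvd_step {M : Ideal AlgInt} (hM : IsPModular p M) {R : ℤ[X]} (hR : R.natDegree < Nat.totient (p ^ k))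
    {w : ℂ} (hw : MemLocalRing M w) (h : aeval ω R = (p : ℂ) * w) : C (p : ℤ) ∣ R := by
  have hP := pmod_prime hM
  have hp := hM.1
  set f := Nat.totient (p ^ k)
  set ω' := 1 - ω with hω'
  set S := R.comp (1 - X) with hS
  have hSR : S.comp (1 - X) = R := by
    rw [hS, comp_assoc]; simp
  have hSd : S.natDegree < f := by
    refine lt_of_le_of_lt (natDegree_comp_le.trans ?_) hR
    have : (1 - X : ℤ[X]).natDegree ≤ 1 := by
      refine (natDegree_sub_le _ _).trans ?_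
      simp
    calc R.natDegree * (1 - X : ℤ[X]).natDegree ≤ R.natDegree * 1 := Nat.mul_le_mul_left _ this
      _ = R.natDegree := mul_one _
  have hSe : aeval ω' S = (p : ℂ) * w := by
    rw [hS, aeval_comp, ← h]; simp [hω']
  have hωLR : MemLocalRing M ω :=
    memLocalRing_of_isIntegral hP.ne_top (hω.isIntegral (Nat.pos_of_ne_zero (pow_ne hp)))
  have hπLR : MemLocalRing M ω' := memLR_sub hP (memLR_one hP) hωLR
  have hπ : MemLocalIdeal M ω' := by
    have := memLI_one_sub hω hM 1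
    rw [pow_one] at this
    simpa [hω'] using memLI_neg hP this
  suffices H : ∀ i, (p : ℤ) ∣ S.coeff i by
    obtain ⟨T, hT⟩ := (C_dvd_iff_dvd_coeff _ _).2 H
    exact ⟨T.comp (1 - X), by rw [← hSR, hT, mul_comp, C_comp]⟩
  intro i
  induction i using Nat.strong_induction_on with
  | _ i ih =>
  rcases le_or_gt f i with hi | hi
  · rw [coeff_eq_zero_of_natDegree_lt (hSd.trans_le hi)]; exact dvd_zero _
  have ih' : ∀ j, j < i → ∃ r : ℤ, S.coeff j = p * r := fun j hj => ih j hj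
  choose! r hr using ih'
  obtain ⟨e, he⟩ : ∃ e, f = i + (1 + e) := ⟨f - i - 1, by omega⟩
  rw [aeval_eq_sum_range' hSd, he, Finset.sum_range_add, Finset.sum_range_add] at hSe
  simp only [zsmul_eq_mul, Finset.range_one, Finset.sum_singleton, add_zero] at hSe
  have hlow : ∑ j ∈ Finset.range i, (S.coeff j : ℂ) * ω' ^ j =
      (p : ℂ) * ∑ j ∈ Finset.range i, (r j : ℂ) * ω' ^ j := by
    rw [Finset.mul_sum]
    refine Finset.sum_congr rfl fun j hj => ?_
    rw [hr j (Finset.mem_range.1 hj)]; push_cast; ring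
  set A := ∑ j ∈ Finset.range e, (S.coeff (i + (1 + j)) : ℂ) * ω' ^ j with hA
  have hhigh : ∑ j ∈ Finset.range e, (S.coeff (i + (1 + j)) : ℂ) * ω' ^ (i + (1 + j)) = ω' ^ i * (ω' * A) := by
    rw [hA, Finset.mul_sum, Finset.mul_sum]
    exact Finset.sum_congr rfl fun j _ => by ring
  rw [hlow, hhigh] at hSe
  set W := w - ∑ j ∈ Finset.range i, (r j : ℂ) * ω' ^ j with hW
  have key : ω' ^ i * ((S.coeff i : ℂ) + ω' * A) = (p : ℂ) * W := by
    rw [hW]; linear_combination hSe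
  have hWLR : MemLocalRing M W :=
    memLR_sub hP hw (memLR_sum hP _ _ fun j _ => memLR_mul hP (memLR_intCast hP _) (memLR_pow hP hπLR j))
  have hALR : MemLocalRing M A :=
    memLR_sum hP _ _ fun j _ => memLR_mul hP (memLR_intCast hP _) (memLR_pow hP hπLR j)
  have hmem : MemLocalIdeal M ((S.coeff i : ℂ) + ω' * A) := by
    rcases Nat.eq_zero_or_pos i with rfl | hi0
    · rw [pow_zero, one_mul] at key
      rw [key]
      exact memLI_mul_right hP (memLI_p hM) hWLR
    · have hk : 1 ≤ k := by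
        rcases Nat.eq_zero_or_pos k with rfl | hk
        · simp [f] at he; omega
        · exact hk
      obtain ⟨c, hc, hpc⟩ := prime_eq_mul hω hp hk
      have hπ0 : ω' ≠ 0 := by
        rw [hω', sub_ne_zero]
        intro h1
        have := hω.eq_orderOf
        rw [← h1, orderOf_one] at this
        exact absurd this (Nat.one_lt_pow (by omega) hp.one_lt).ne'
      have he' : (S.coeff i : ℂ) + ω' * A = ω' * (ω' ^ e * c * W) := by
        refine mul_left_cancel₀ (pow_ne_zero i hπ0) ?_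
        rw [key, hpc, show Nat.totient (p ^ k) = i + (1 + e) from he]; ring
      rw [he']
      exact memLI_mul_right hP hπ (memLR_mul hP (memLR_mul hP (memLR_pow hP hπLR e)
        (memLocalRing_of_isIntegral hP.ne_top hc)) hWLR)
  exact (memLI_intCast_iff hM _).1 (by
    simpa using memLI_sub hP hmem (memLI_mul_right hP hπ hALR))

include hω in
/-- Divisibility by a power of `p` is coordinatewise. -/
theorem dvd_of_local {M : Ideal AlgInt} (hM : IsPModular p M) : ∀ {a : ℕ} {R : ℤ[X]},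
    R.natDegree < Nat.totient (p ^ k) → ∀ {w : ℂ}, MemLocalRing M w → aeval ω R = (p : ℂ) ^ a * w →
      C ((p : ℤ) ^ a) ∣ R := by
  intro a
  induction a with
  | zero => intro R _ w _ _; simp
  | succ a ih =>
    intro R hR w hw h
    have hP := pmod_prime hM
    obtain ⟨T, rfl⟩ := dvd_step hω hM hR (w := (p : ℂ) ^ a * w)
      (memLR_mul hP (memLR_pow hP (memLR_natCast hP _) a) hw) (by rw [h]; ring)
    have hp0 : (p : ℤ) ≠ 0 := Int.natCast_ne_zero.2 hM.1.ne_zero
    rw [natDegree_C_mul hp0] at hR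
    rw [pow_succ', C_mul]
    refine mul_dvd_mul_left _ (ih hR hw ?_)
    rw [map_mul, aeval_C, pow_succ', mul_assoc] at h
    exact mul_left_cancel₀ (Nat.cast_ne_zero.2 hM.1.ne_zero : (p : ℂ) ≠ 0) (by simpa using h)

include hω in
/-- The norm of a nonzero element is at least one. -/
theorem one_le_prod_normSq (hp : p.Prime) [NeZero (p ^ k)] {P : ℤ[X]} (h : aeval ω P ≠ 0) :
    (1 : ℝ) ≤ ∏ u : (ZMod (p ^ k))ˣ, Complex.normSq (aeval (ω ^ (u : ZMod (p ^ k)).val) P) := by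
  set N := p ^ k
  have hN : N ≠ 0 := pow_ne hp
  have hne : ∀ u : (ZMod N)ˣ, aeval (ω ^ (u : ZMod N).val) P ≠ 0 := fun u e => by
    have hu := ZMod.val_coe_unit_coprime u
    refine h ((root_iff hω hp P).2 ((root_iff (hω.pow_of_coprime _ hu) hp P).1 e))
  have hint : IsIntegral ℤ ω := hω.isIntegral (Nat.pos_of_ne_zero hN)
  have hval : ∀ u : (ZMod N)ˣ, IsIntegral ℤ (aeval (ω ^ (u : ZMod N).val) P) := fun u => by
    rw [aeval_eq_sum_range]
    exact IsIntegral.sum _ fun i _ => ((hint.pow _).pow i).smul _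
  have hmem : ω ∈ cyc N := mem_cyc hω.pow_eq_one
  set zc : cyc N := ⟨ω, hmem⟩
  set X0 : cyc N := ∏ u : (ZMod N)ˣ, aeval (zc ^ (u : ZMod N).val) P
  have hmap : ∀ (φ : cyc N →ₐ[ℚ] ℂ) (z : cyc N), φ (aeval z P) = aeval (φ z) P := fun φ z =>
    (aeval_algHom_apply (φ.restrictScalars ℤ) z P).symm
  have hcoe : ∀ z : cyc N, ((aeval z P : cyc N) : ℂ) = aeval (z : ℂ) P := fun z => hmap (cyc N).val z
  have hX0 : (X0 : ℂ) = ∏ u : (ZMod N)ˣ, aeval (ω ^ (u : ZMod N).val) P := by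
    show (cyc N).val X0 = _
    rw [map_prod]
    exact Finset.prod_congr rfl fun u _ => (hcoe _).trans (by simp [zc])
  obtain ⟨r, hr⟩ := exists_rat_of_fixed hN X0.2 fun φ => by
    obtain ⟨j, hj, hφ⟩ := exists_power_of_embedding hN φ
    show φ X0 = (X0 : ℂ)
    rw [hX0, map_prod]
    refine Fintype.prod_equiv (Equiv.mulRight (ZMod.unitOfCoprime j hj)) _ _ fun u => ?_
    rw [hmap, map_pow, show φ zc = ω ^ j from hφ ω hω.pow_eq_one]
    refine congrArg (fun z => aeval z P) ?_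
    simp only [Equiv.coe_mulRight, Units.val_mul, ZMod.coe_unitOfCoprime, ZMod.val_mul, ZMod.val_natCast]
    rw [← pow_eq_pow_mod _ hω.pow_eq_one, ← pow_mul, pow_eq_pow_mod _ hω.pow_eq_one,
      pow_eq_pow_mod ((u : ZMod N).val * _) hω.pow_eq_one]
    congr 1
    rw [Nat.mul_mod_mod, mul_comm]
  rw [hX0] at hr
  obtain ⟨z, hz⟩ := isIntegral_rat_cast_imp (hr ▸ IsIntegral.prod _ fun u _ => hval u : IsIntegral ℤ (r : ℂ))
  have h1 : (1 : ℝ) ≤ ∏ u : (ZMod N)ˣ, Complex.normSq (aeval (ω ^ (u : ZMod N).val) P) := by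
    rw [← map_prod, hr, ← hz]
    push_cast
    rw [Complex.normSq_intCast]
    have hz0 : z ≠ 0 := fun e => by
      rw [← hz, e, Int.cast_zero, Rat.cast_zero, Finset.prod_eq_zero_iff] at hr
      obtain ⟨u, -, hu⟩ := hr
      exact hne u hu
    have : (1 : ℤ) ≤ z * z := by
      have := mul_self_pos.mpr hz0
      omega
    exact_mod_cast this
  exact h1

include hω in
theorem aeval_conj_ne_zero (hp : p.Prime) [NeZero (p ^ k)] {P : ℤ[X]} (h : aeval ω P ≠ 0)
    (u : (ZMod (p ^ k))ˣ) : aeval (ω ^ (u : ZMod (p ^ k)).val) P ≠ 0 := fun e => by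
  refine h ((root_iff hω hp P).2 ((root_iff (hω.pow_of_coprime _ (ZMod.val_coe_unit_coprime u)) hp P).1 e))

include hω in
/-- The arithmetic-geometric mean bound for the conjugates of a nonzero element. -/
theorem totient_le_sum_normSq (hp : p.Prime) [NeZero (p ^ k)] {P : ℤ[X]} (h : aeval ω P ≠ 0) :
    (Fintype.card (ZMod (p ^ k))ˣ : ℝ) ≤
      ∑ u : (ZMod (p ^ k))ˣ, Complex.normSq (aeval (ω ^ (u : ZMod (p ^ k)).val) P) :=
  card_le_sum_of_one_le_prod _ (fun u => Complex.normSq_pos.mpr (aeval_conj_ne_zero hω hp h u))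
    (one_le_prod_normSq hω hp h)

include hω in
/-- The bound for a nonzero totally nonnegative element. -/
theorem totient_le_sum_re (hp : p.Prime) [NeZero (p ^ k)] {P : ℤ[X]} (h : aeval ω P ≠ 0)
    (r : (ZMod (p ^ k))ˣ → ℝ) (hr : ∀ u, 0 ≤ r u)
    (hval : ∀ u : (ZMod (p ^ k))ˣ, aeval (ω ^ (u : ZMod (p ^ k)).val) P = (r u : ℂ)) :
    (Fintype.card (ZMod (p ^ k))ˣ : ℝ) ≤ ∑ u, r u := by
  have h1 := one_le_prod_normSq hω hp h
  simp only [hval, Complex.normSq_ofReal, Finset.prod_mul_distrib] at h1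
  have hpos : ∀ u, 0 < r u := fun u => lt_of_le_of_ne (hr u) fun e =>
    aeval_conj_ne_zero hω hp h u (by rw [hval, ← e]; simp)
  refine card_le_sum_of_one_le_prod _ hpos ?_
  nlinarith [Finset.prod_nonneg (s := Finset.univ) fun u _ => hr u]

include hω in
/-- Sums over units as sums over exponents prime to `p`. -/
theorem sum_units_eq (hp : p.Prime) (hk : 1 ≤ k) [NeZero (p ^ k)] (g : ℕ → ℝ) :
    ∑ u : (ZMod (p ^ k))ˣ, g (u : ZMod (p ^ k)).val =
      ∑ u ∈ (Finset.range (p ^ k)).filter (fun u => ¬ p ∣ u), g u := by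
  refine Finset.sum_bij (fun u _ => (u : ZMod (p ^ k)).val) (fun u _ => ?_) (fun u _ v _ h => ?_)
    (fun n hn => ?_) fun _ _ => rfl
  · refine Finset.mem_filter.mpr ⟨Finset.mem_range.mpr (ZMod.val_lt _), fun hd => ?_⟩
    exact (hp.coprime_iff_not_dvd.mp (((ZMod.val_coe_unit_coprime u).coprime_dvd_right
      (dvd_pow_self p (by omega))).symm)) hd
  · exact Units.ext (ZMod.val_injective _ h)
  · obtain ⟨hn1, hn2⟩ := Finset.mem_filter.mp hn
    exact ⟨ZMod.unitOfCoprime n ((hp.coprime_iff_not_dvd.mpr hn2).symm.pow_right k), Finset.mem_univ _,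
      by rw [ZMod.coe_unitOfCoprime, ZMod.val_natCast, Nat.mod_eq_of_lt (Finset.mem_range.mp hn1)]⟩

section Two

variable {ω₂ : ℂ} (hω₂ : IsPrimitiveRoot ω₂ (2 ^ k))

include hω₂ in
theorem pow_half (hk : 1 ≤ k) : ω₂ ^ (2 ^ (k - 1)) = -1 := by
  have h := hω₂.pow (Nat.pos_of_ne_zero (pow_ne Nat.prime_two))
    (show 2 ^ k = 2 ^ (k - 1) * 2 by rw [← pow_succ]; congr 1; omega)
  exact h.eq_neg_one_of_two_right

include hω₂ in
theorem sum_pow_eq_zero [NeZero (2 ^ k)] {j : ℕ} (hj0 : 0 < j) (hj : j < 2 ^ (k - 1)) :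
    ∑ u : (ZMod (2 ^ k))ˣ, (ω₂ ^ (u : ZMod (2 ^ k)).val) ^ j = 0 := by
  obtain ⟨v, o, ho, rfl⟩ := Nat.exists_eq_pow_mul_and_not_dvd hj0.ne' 2 (by norm_num)
  have ho0 : o ≠ 0 := fun e => ho (e ▸ dvd_zero 2)
  have hv : v < k - 1 := (Nat.pow_lt_pow_iff_right (by norm_num : 1 < 2)).1
    (lt_of_le_of_lt (Nat.le_mul_of_pos_right _ (Nat.pos_of_ne_zero ho0)) hj)
  set c := 1 + 2 ^ (k - 1 - v)
  have hc : c.Coprime (2 ^ k) := by
    refine Nat.Coprime.pow_right _ (Nat.coprime_two_right.2 ?_)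
    exact odd_one.add_even ((Nat.even_pow' (by omega)).2 even_two)
  have hflip : ω₂ ^ (2 ^ v * o * c) = -(ω₂ ^ (2 ^ v * o)) := by
    rw [show 2 ^ v * o * c = 2 ^ v * o + 2 ^ (k - 1) * o by
      rw [show k - 1 = v + (k - 1 - v) by omega, pow_add]; simp only [c]; ring,
      pow_add, pow_mul ω₂ (2 ^ (k - 1)), pow_half hω₂ (by omega),
      (Nat.not_even_iff_odd.1 fun e => ho (even_iff_two_dvd.1 e)).neg_one_pow, mul_neg_one]
  set S := ∑ u : (ZMod (2 ^ k))ˣ, (ω₂ ^ (u : ZMod (2 ^ k)).val) ^ (2 ^ v * o)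
  have hS : S = -S := by
    simp only [S, ← Finset.sum_neg_distrib]
    refine (Fintype.sum_equiv (Equiv.mulRight (ZMod.unitOfCoprime c hc)) _ _ fun u => ?_).symm
    rw [Equiv.coe_mulRight, Units.val_mul, ZMod.coe_unitOfCoprime, ZMod.val_mul, ZMod.val_natCast,
      ← pow_eq_pow_mod _ hω₂.pow_eq_one, ← pow_mul]
    have hodd : Odd (u : ZMod (2 ^ k)).val :=
      Nat.coprime_two_right.1 ((ZMod.val_coe_unit_coprime u).coprime_dvd_right (dvd_pow_self 2 (by omega)))
    have key : ω₂ ^ ((u : ZMod (2 ^ k)).val * (2 ^ v * o * c)) =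
        -(ω₂ ^ ((u : ZMod (2 ^ k)).val * (2 ^ v * o))) := by
      rw [mul_comm _ (2 ^ v * o * c), pow_mul, hflip, hodd.neg_pow, ← pow_mul, mul_comm]
    rw [← key, ← pow_mul, pow_eq_pow_mod _ hω₂.pow_eq_one,
      pow_eq_pow_mod ((u : ZMod (2 ^ k)).val * (c % 2 ^ k) * _) hω₂.pow_eq_one]
    congr 1
    rw [mul_assoc _ (c % 2 ^ k), mul_comm (2 ^ v * o) c]
    exact ((Nat.mod_modEq c (2 ^ k)).symm.mul_right _).mul_left _
  have : (2 : ℂ) * S = 0 := by linear_combination hS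
  exact (mul_eq_zero.1 this).resolve_left two_ne_zero

include hω₂ in
/-- A real element has an integral average, congruent to it modulo two. -/
theorem real_average [NeZero (2 ^ k)] {R : ℤ[X]} (hR : R.natDegree < Nat.totient (2 ^ k))
    (hreal : conj (aeval ω₂ R) = aeval ω₂ R) :
    ∑ u : (ZMod (2 ^ k))ˣ, aeval (ω₂ ^ (u : ZMod (2 ^ k)).val) R =
        (Fintype.card (ZMod (2 ^ k))ˣ : ℂ) * (R.coeff 0 : ℂ) ∧ R.eval 1 = R.coeff 0 := by
  rcases Nat.eq_zero_or_pos R.natDegree with h0 | h0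
  · rw [eq_C_of_natDegree_eq_zero h0]
    simp [Finset.card_univ]
  obtain ⟨k', rfl⟩ : ∃ k', k = k' + 1 := ⟨k - 1, by
    rcases Nat.eq_zero_or_pos k with rfl | h
    · simp at hR; omega
    · omega⟩
  have hf : Nat.totient (2 ^ (k' + 1)) = 2 ^ k' := by
    rw [Nat.totient_prime_pow Nat.prime_two (Nat.succ_pos _)]; simp
  set f := 2 ^ k' with hfdef
  rw [hf] at hR
  have hf0 : 0 < f := Nat.two_pow_pos k'
  have hhalf : ω₂ ^ f = -1 := pow_half hω₂ (by omega)
  have hω0 : ω₂ ≠ 0 := hω₂.ne_zero (pow_ne Nat.prime_two)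
  have hconj : conj ω₂ = ω₂⁻¹ :=
    (Complex.inv_eq_conj (Complex.norm_eq_one_of_pow_eq_one hω₂.pow_eq_one (pow_ne Nat.prime_two))).symm
  set T : ℤ[X] := C (R.coeff 0) - ∑ j ∈ Finset.Ico 1 f, C (R.coeff j) * X ^ (f - j) with hT
  have hTd : T.natDegree < f := by
    refine lt_of_le_of_lt (natDegree_sub_le _ _) (max_lt (by rw [natDegree_C]; exact hf0) ?_)
    refine lt_of_le_of_lt (natDegree_sum_le_of_forall_le _ _ (n := f - 1) fun j hj => ?_) (by omega)
    refine (natDegree_C_mul_le _ _).trans ?_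
    rw [natDegree_X_pow]
    have := (Finset.mem_Ico.1 hj).1
    omega
  have hsplit : ∀ (g : ℕ → ℂ), ∑ j ∈ Finset.range f, g j = g 0 + ∑ j ∈ Finset.Ico 1 f, g j := fun g => by
    rw [Finset.range_eq_Ico, Finset.sum_eq_sum_Ico_succ_bot hf0]
  have hTe : aeval ω₂ T = conj (aeval ω₂ R) := by
    rw [aeval_eq_sum_range' hR, hsplit, map_add, map_sum, hT, map_sub, map_sum, aeval_C, sub_eq_add_neg,
      ← Finset.sum_neg_distrib]
    congr 1
    · simp
    refine Finset.sum_congr rfl fun j hj => ?_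
    rw [map_mul, aeval_C, map_pow, aeval_X, zsmul_eq_mul, map_mul, map_pow, hconj,
      pow_sub₀ _ hω0 (Finset.mem_Ico.1 hj).2.le, hhalf, inv_pow]
    simp
  have hz : R - T = 0 := by
    refine eq_zero_of_root hω₂ Nat.prime_two ?_ (by rw [map_sub, hTe, hreal, sub_self])
    rw [hf]
    exact lt_of_le_of_lt (natDegree_sub_le _ _) (max_lt hR hTd)
  have hanti : ∀ i ∈ Finset.Ico 1 f, R.coeff i = -R.coeff (f - i) := by
    intro i hi
    obtain ⟨hi1, hi2⟩ := Finset.mem_Ico.1 hi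
    conv_lhs => rw [sub_eq_zero.1 hz]
    rw [hT, coeff_sub, coeff_C_of_ne_zero (by omega), zero_sub, finsetSum_coeff,
      Finset.sum_eq_single (f - i)]
    · rw [coeff_C_mul_X_pow, if_pos (by omega)]
    · intro b hb hbi
      obtain ⟨hb1, hb2⟩ := Finset.mem_Ico.1 hb
      rw [coeff_C_mul_X_pow, if_neg (by omega)]
    · intro h
      exact absurd (Finset.mem_Ico.2 ⟨by omega, by omega⟩) h
  have hsum0 : ∑ j ∈ Finset.Ico 1 f, R.coeff j = 0 := by
    have h1 : ∑ j ∈ Finset.Ico 1 f, R.coeff j = ∑ j ∈ Finset.Ico 1 f, -R.coeff j := by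
      refine Finset.sum_bij' (fun j _ => f - j) (fun j _ => f - j) ?_ ?_ ?_ ?_ ?_
      all_goals intro a ha; obtain ⟨ha1, ha2⟩ := Finset.mem_Ico.1 ha
      · exact Finset.mem_Ico.2 ⟨by omega, by omega⟩
      · exact Finset.mem_Ico.2 ⟨by omega, by omega⟩
      · omega
      · omega
      · exact hanti a ha
    rw [Finset.sum_neg_distrib] at h1
    omega
  refine ⟨?_, ?_⟩
  · simp only [aeval_eq_sum_range' hR, zsmul_eq_mul]
    rw [Finset.sum_comm, hsplit]
    rw [Finset.sum_eq_zero (s := Finset.Ico 1 f) fun j hj => by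
      rw [← Finset.mul_sum, sum_pow_eq_zero hω₂ (Finset.mem_Ico.1 hj).1 (Finset.mem_Ico.1 hj).2, mul_zero]]
    simp [Finset.card_univ]
  · rw [eval_eq_sum_range' hR]
    simp only [one_pow, mul_one]
    rw [Finset.range_eq_Ico, Finset.sum_eq_sum_Ico_succ_bot hf0, hsum0, add_zero]

end Two

end Cfsg.Agent.Char.CycInt
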