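import Cfsg.Agent.Lib.Char.CentralAverage

/-!
# Averages of integral forms over conjugates

Over the conjugates of a root of unity of order `p * m`, the average squared length of `∑ y_s ω ^ s` is a sum
over pairs of positions congruent modulo `m` of squared differences; a nonzero value forces `p - 1` pairs.
-/

set_option autoImplicit false

open Cfsg

namespace Cfsg.Agent.Char.CycPairs

/-- Sums over exponents prime to `p`. -/
theorem sum_filter_not_dvd {p m : ℕ} (hp : 0 < p) (g : ℕ → ℝ) :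
    ∑ u ∈ (Finset.range (p * m)).filter (fun u => ¬ p ∣ u), g u =
      ∑ u ∈ Finset.range (p * m), g u - ∑ u ∈ Finset.range m, g (p * u) := by
  have h1 : (Finset.range (p * m)).filter (fun u => p ∣ u) = (Finset.range m).image (p * ·) := by
    ext u
    simp only [Finset.mem_filter, Finset.mem_range, Finset.mem_image]
    constructor
    · rintro ⟨hu, t, rfl⟩
      exact ⟨t, Nat.lt_of_mul_lt_mul_left hu, rfl⟩
    · rintro ⟨t, ht, rfl⟩
      exact ⟨Nat.mul_lt_mul_of_pos_left ht hp, dvd_mul_right p t⟩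
  rw [eq_sub_iff_add_eq, ← Finset.sum_filter_not_add_sum_filter (Finset.range (p * m)) (fun u => p ∣ u) g, h1,
    Finset.sum_image fun u _ v _ h => Nat.eq_of_mul_eq_mul_left hp h]

theorem card_filter_not_dvd {p m : ℕ} (hp : 0 < p) :
    (((Finset.range (p * m)).filter (fun u => ¬ p ∣ u)).card : ℝ) = (m : ℝ) * ((p : ℝ) - 1) := by
  have := sum_filter_not_dvd (m := m) hp fun _ => 1
  simp only [Finset.sum_const, Finset.card_range, nsmul_eq_mul, mul_one] at this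
  rw [this]; push_cast; ring

/-- Grouping exponents by residue and quotient. -/
theorem sum_range_mul {β : Type*} [AddCommMonoid β] {p m : ℕ} (hm : 0 < m) (f : ℕ → β) :
    ∑ s ∈ Finset.range (p * m), f s = ∑ q : Fin p × Fin m, f (q.2 + m * q.1) := by
  rw [← Fin.sum_univ_eq_sum_range, ← Equiv.sum_comp finProdFinEquiv]
  rfl

/-- The average of the squared length. -/
theorem sum_normSq_eq {p m : ℕ} (hp : 0 < p) (hm : 0 < m) {ω : ℂ} (hω : IsPrimitiveRoot ω (p * m))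
    (y : ℕ → ℤ) :
    ∑ u ∈ (Finset.range (p * m)).filter (fun u => ¬ p ∣ u),
        Complex.normSq (∑ s ∈ Finset.range (p * m), (y s : ℂ) * (ω ^ u) ^ s) =
      (m : ℝ) / 2 * ∑ σ : Fin m, ∑ i : Fin p, ∑ i' : Fin p,
        ((y (σ + m * i) : ℝ) - (y (σ + m * i') : ℝ)) ^ 2 := by
  have hN : 0 < p * m := Nat.mul_pos hp hm
  have hinj : Function.Injective fun q : Fin p × Fin m => (q.2 : ℕ) + m * q.1 := by
    intro q q' h
    have h1 := congrArg (· % m) h
    have h2 := congrArg (· / m) h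
    simp only [Nat.add_mul_mod_self_left, Nat.mod_eq_of_lt q.2.2, Nat.mod_eq_of_lt q'.2.2] at h1
    simp only [Nat.add_mul_div_left _ _ hm, Nat.div_eq_of_lt q.2.2, Nat.div_eq_of_lt q'.2.2, zero_add] at h2
    exact Prod.ext (Fin.ext h2) (Fin.ext h1)
  have hA := CentralClass.sum_range_normSq hN hω (fun q : Fin p × Fin m => (q.2 : ℕ) + m * q.1)
    (fun q => by have := q.2.2; have := q.1.2; nlinarith) hinj (fun q => y (q.2 + m * q.1))
  have hB := CentralClass.sum_range_normSq hm (hω.pow hN rfl) (fun σ : Fin m => (σ : ℕ)) (fun σ => σ.2)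
    Fin.val_injective (fun σ => ∑ i : Fin p, y (σ + m * i))
  simp only [sum_range_mul hm]
  have e1 : ∀ u : ℕ, ∑ q : Fin p × Fin m, (y (q.2 + m * q.1) : ℂ) * (ω ^ (p * u)) ^ ((q.2 : ℕ) + m * q.1) =
      ∑ σ : Fin m, ((∑ i : Fin p, y (σ + m * i) : ℤ) : ℂ) * ((ω ^ p) ^ u) ^ (σ : ℕ) := by
    intro u
    rw [Fintype.sum_prod_type, Finset.sum_comm]
    refine Finset.sum_congr rfl fun σ _ => ?_
    rw [Int.cast_sum, Finset.sum_mul]
    refine Finset.sum_congr rfl fun i _ => ?_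
    congr 1
    rw [pow_add, ← pow_mul ω p u, pow_mul (ω ^ (p * u)) m, ← pow_mul ω (p * u) m,
      show p * u * m = p * m * u by ring, pow_mul ω (p * m) u, hω.pow_eq_one, one_pow, one_pow, mul_one]
  rw [sum_filter_not_dvd hp]
  simp only [e1]
  rw [hA, hB, Fintype.sum_prod_type, Finset.sum_comm, Finset.mul_sum, Finset.mul_sum, Finset.mul_sum,
    ← Finset.sum_sub_distrib]
  refine Finset.sum_congr rfl fun σ _ => ?_
  push_cast
  simp only [sub_sq, Finset.sum_add_distrib, Finset.sum_sub_distrib, Finset.sum_const, Finset.card_univ,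
    Fintype.card_fin, nsmul_eq_mul, mul_assoc, ← Finset.mul_sum, ← Finset.sum_mul]
  ring

/-- A nonzero value gives the whole lower bound. -/
theorem card_mul_le {p m : ℕ} (hp : p.Prime) (hm : 0 < m) {ω : ℂ} (hω : IsPrimitiveRoot ω (p * m))
    {Θ : Type*} (S : Finset Θ) (y : Θ → ℕ → ℤ) {L : ℝ}
    (hL : ∀ s s', s < p * m → s' < p * m → (∃ θ ∈ S, y θ s ≠ y θ s') →
      L ≤ ∑ θ ∈ S, ((y θ s : ℝ) - (y θ s' : ℝ)) ^ 2)
    (hne : ∃ θ ∈ S, ∑ s ∈ Finset.range (p * m), (y θ s : ℂ) * ω ^ s ≠ 0) :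
    (((Finset.range (p * m)).filter (fun u => ¬ p ∣ u)).card : ℝ) * L ≤
      ∑ u ∈ (Finset.range (p * m)).filter (fun u => ¬ p ∣ u),
        ∑ θ ∈ S, Complex.normSq (∑ s ∈ Finset.range (p * m), (y θ s : ℂ) * (ω ^ u) ^ s) := by
  classical
  set F := fun (σ : Fin m) (i i' : Fin p) =>
    ∑ θ ∈ S, ((y θ (σ + m * i) : ℝ) - (y θ (σ + m * i') : ℝ)) ^ 2 with hF
  have hFnn : ∀ σ i i', 0 ≤ F σ i i' := fun σ i i' => Finset.sum_nonneg fun _ _ => sq_nonneg _
  have hFsymm : ∀ σ i i', F σ i i' = F σ i' i := fun σ i i' => Finset.sum_congr rfl fun _ _ => by ring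
  have hlt : ∀ (σ : Fin m) (i : Fin p), (σ : ℕ) + m * i < p * m := fun σ i => by
    have := σ.2; have := i.2; nlinarith
  obtain ⟨σ, i₀, i₁, hex⟩ : ∃ σ : Fin m, ∃ i₀ i₁ : Fin p, ∃ θ ∈ S, y θ (σ + m * i₀) ≠ y θ (σ + m * i₁) := by
    by_contra hno
    push Not at hno
    obtain ⟨θ, hθ, hne⟩ := hne
    refine hne ?_
    rw [sum_range_mul hm, Fintype.sum_prod_type, Finset.sum_comm]
    refine Finset.sum_eq_zero fun σ _ => ?_
    rw [Finset.sum_congr rfl fun i _ => by rw [hno σ i ⟨0, hp.pos⟩ θ hθ, pow_add, ← mul_assoc, pow_mul]]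
    dsimp only
    rw [← Finset.mul_sum, Fin.sum_univ_eq_sum_range (fun i => (ω ^ m) ^ i),
      (hω.pow (Nat.mul_pos hp.pos hm) (mul_comm p m)).geom_sum_eq_zero hp.one_lt, mul_zero]
  have h01 : i₀ ≠ i₁ := fun h => by obtain ⟨θ, -, hne'⟩ := hex; exact hne' (by rw [h])
  have hor : ∀ i, (∃ θ ∈ S, y θ (σ + m * i) ≠ y θ (σ + m * i₀)) ∨
      ∃ θ ∈ S, y θ (σ + m * i) ≠ y θ (σ + m * i₁) := by
    intro i
    obtain ⟨θ, hθ, hne'⟩ := hex
    by_cases h : y θ (σ + m * i) = y θ (σ + m * i₀)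
    · exact Or.inr ⟨θ, hθ, fun h' => hne' (h ▸ h')⟩
    · exact Or.inl ⟨θ, hθ, h⟩
  have hb : L ≤ F σ i₀ i₁ := hL _ _ (hlt σ i₀) (hlt σ i₁) hex
  have hpc := CentralClass.pair_count (F σ) (hFnn σ) h01 hb (hFsymm σ i₀ i₁ ▸ hb) (fun i _ _ => by
    rw [hFsymm σ i₀ i, hFsymm σ i₁ i]
    have := hFnn σ i i₀
    have := hFnn σ i i₁
    rcases hor i with h | h <;> have := hL _ _ (hlt σ i) (hlt σ _) h <;> constructor <;> linarith)
  have hle : ∑ i, ∑ i', F σ i i' ≤ ∑ σ : Fin m, ∑ i, ∑ i', F σ i i' :=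
    Finset.single_le_sum (f := fun σ => ∑ i, ∑ i', F σ i i')
      (fun σ _ => Finset.sum_nonneg fun i _ => Finset.sum_nonneg fun i' _ => hFnn σ i i') (Finset.mem_univ σ)
  rw [Finset.sum_comm, Finset.sum_congr rfl fun θ _ => sum_normSq_eq hp.pos hm hω (y θ), ← Finset.mul_sum,
    Finset.sum_comm]
  have e2 : ∑ σ : Fin m, ∑ θ ∈ S, ∑ i : Fin p, ∑ i' : Fin p,
      ((y θ (σ + m * i) : ℝ) - (y θ (σ + m * i') : ℝ)) ^ 2 = ∑ σ : Fin m, ∑ i, ∑ i', F σ i i' :=
    Finset.sum_congr rfl fun σ _ => by rw [Finset.sum_comm]; exact Finset.sum_congr rfl fun i _ => Finset.sum_comm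
  rw [e2, card_filter_not_dvd hp.pos]
  calc (m : ℝ) * ((p : ℝ) - 1) * L = (m : ℝ) / 2 * (2 * ((p : ℝ) - 1) * L) := by ring
    _ ≤ _ := mul_le_mul_of_nonneg_left (hpc.trans hle) (by positivity)

end Cfsg.Agent.Char.CycPairs
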