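import Cfsg.Agent.Lib.Char.Ortho
import Cfsg.Agent.Lib.Char.Basic
import Cfsg.Prelude.Def_OddOrderChar

/-!
# The Dade isometry
-/

set_option autoImplicit false
set_option linter.unusedSectionVars false
set_option linter.style.haveILetI false

namespace Cfsg.Agent.Char

open Cfsg
open scoped ComplexConjugate Pointwise

universe u

variable {G : Type u} [Group G] {A : Set G} {L : Subgroup G} {H : G → Subgroup G}

local notation "C[" a "]" => Subgroup.centralizer ({a} : Set _)

/-- The support of the Dade map. -/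
def dadeSet (A : Set G) (H : G → Subgroup G) : Set G :=
  {g : G | ∃ a ∈ A, ∃ u ∈ H a, ∃ x : G, x * g * x⁻¹ = a * u}

theorem dade_commute (hD : DadeHypothesis A L H) {a u : G} (ha : a ∈ A) (hu : u ∈ H a) :
    Commute a u :=
  (Subgroup.mem_centralizer_singleton_iff.mp (hD.le_centralizer a ha hu)).symm

theorem dade_self_mem (hD : DadeHypothesis A L H) {a : G} (ha : a ∈ A) :
    a ∈ L ⊓ C[a] :=
  ⟨hD.subset ha, Subgroup.mem_centralizer_singleton_iff.mpr rfl⟩

variable [Finite G]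

theorem dade_coprime_order (hD : DadeHypothesis A L H) {a b : G} (ha : a ∈ A) (hb : b ∈ A) :
    Nat.Coprime (Nat.card (H b)) (orderOf a) :=
  (hD.coprime b hb a ha).coprime_dvd_right (by
    rw [← Subgroup.orderOf_mk _ (dade_self_mem hD ha)]
    exact orderOf_dvd_natCard _)

/-- The conjugating element of two elements of the cosets conjugates the base points. -/
theorem dade_conj_base (hD : DadeHypothesis A L H) {a b u v g : G} (ha : a ∈ A) (hb : b ∈ A)
    (hu : u ∈ H a) (hv : v ∈ H b) (h : g * (a * u) * g⁻¹ = b * v) : g * a * g⁻¹ = b := by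
  have hcop : (Nat.card (H a) * Nat.card (H b)).Coprime (orderOf a * orderOf b) :=
    Nat.Coprime.mul_left
      (Nat.Coprime.mul_right (dade_coprime_order hD ha ha) (dade_coprime_order hD hb ha))
      (Nat.Coprime.mul_right (dade_coprime_order hD ha hb) (dade_coprime_order hD hb hb))
  obtain ⟨k, hk1, hk2⟩ := Nat.chineseRemainder hcop 0 1
  have key : ∀ c w : G, c ∈ A → w ∈ H c → orderOf c ∣ orderOf a * orderOf b →
      Nat.card (H c) ∣ Nat.card (H a) * Nat.card (H b) → (c * w) ^ k = c := by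
    intro c w hc hw ho hn
    rw [(dade_commute hD hc hw).mul_pow]
    have e1 : c ^ k = c := by
      conv_rhs => rw [← pow_one c]
      exact pow_eq_pow_iff_modEq.mpr (hk2.of_dvd ho)
    have e2 : w ^ k = 1 := by
      apply orderOf_dvd_iff_pow_eq_one.mp
      have : orderOf w ∣ Nat.card (H c) := by
        rw [← Subgroup.orderOf_mk w hw]
        exact orderOf_dvd_natCard _
      exact (this.trans hn).trans (Nat.modEq_zero_iff_dvd.mp hk1)
    rw [e1, e2, mul_one]
  have h2 := congrArg (· ^ k) h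
  simp only [conj_pow, key a u ha hu (dvd_mul_right _ _) (dvd_mul_right _ _),
    key b v hb hv (dvd_mul_left _ _) (dvd_mul_left _ _)] at h2
  exact h2

theorem dade_conj_in_L (hD : DadeHypothesis A L H) {a b u v g : G} (ha : a ∈ A) (hb : b ∈ A)
    (hu : u ∈ H a) (hv : v ∈ H b) (h : g * (a * u) * g⁻¹ = b * v) :
    ∃ x ∈ L, x * a * x⁻¹ = b := by
  have e := dade_conj_base hD ha hb hu hv h
  obtain ⟨x, hx, hxe⟩ := hD.fusion a ha g (e ▸ hb)
  exact ⟨x, hx, hxe.trans e⟩

theorem dade_card_mul (hD : DadeHypothesis A L H) {a : G} (ha : a ∈ A) :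
    Nat.card (H a) * Nat.card ↥(L ⊓ C[a]) = Nat.card C[a] := by
  have hnorm : L ⊓ C[a] ≤ Subgroup.normalizer ((H a : Subgroup G) : Set G) := by
    intro c hc u
    refine ⟨fun hu => hD.conj_mem_H a ha c hc.2 u hu, fun hu => ?_⟩
    have := hD.conj_mem_H a ha c⁻¹ (inv_mem hc.2) _ hu
    rwa [show c⁻¹ * (c * u * c⁻¹) * c⁻¹⁻¹ = u by group] at this
  rw [← Nat.card_prod]
  refine Nat.card_congr (Equiv.ofBijective
    (fun w : H a × ↥(L ⊓ C[a]) => (⟨(w.1 : G) * (w.2 : G), mul_mem (hD.le_centralizer a ha w.1.2)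
      w.2.2.2⟩ : C[a])) ⟨?_, ?_⟩)
  · rintro ⟨h₁, n₁⟩ ⟨h₂, n₂⟩ e
    have e' : (h₁ : G) * n₁ = h₂ * n₂ := congrArg Subtype.val e
    have hbot : (h₂ : G)⁻¹ * h₁ ∈ H a ⊓ (L ⊓ C[a]) := by
      refine ⟨(H a).mul_mem ((H a).inv_mem h₂.2) h₁.2, ?_⟩
      have : (h₂ : G)⁻¹ * h₁ = n₂ * (n₁ : G)⁻¹ := by
        rw [eq_mul_inv_iff_mul_eq, mul_assoc, e', ← mul_assoc, inv_mul_cancel, one_mul]
      rw [this]
      exact (L ⊓ C[a]).mul_mem n₂.2 ((L ⊓ C[a]).inv_mem n₁.2)
    rw [hD.inf_eq_bot a ha, Subgroup.mem_bot, inv_mul_eq_one] at hbot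
    rw [hbot] at e'
    exact Prod.ext (Subtype.ext hbot.symm) (Subtype.ext (mul_left_cancel e'))
  · rintro ⟨c, hc⟩
    rw [← hD.sup_eq a ha] at hc
    have hset := Subgroup.coe_mul_of_right_le_normalizer_left (H a) (L ⊓ C[a]) hnorm
    have hc' : c ∈ ((H a : Set G) * ((L ⊓ C[a] : Subgroup G) : Set G) : Set G) := hset ▸ (hc : c ∈ ((H a ⊔ (L ⊓ C[a]) : Subgroup G) : Set G))
    obtain ⟨u, hu, n, hn, rfl⟩ := hc'
    exact ⟨(⟨u, hu⟩, ⟨n, hn⟩), rfl⟩

/-- `H a` is the set of elements of order dividing `|H a|` of the centralizer of `a`. -/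
theorem dade_mem_H_iff (hD : DadeHypothesis A L H) {a : G} (ha : a ∈ A) (c : G) :
    c ∈ H a ↔ c ∈ C[a] ∧ c ^ Nat.card (H a) = 1 := by
  constructor
  · intro hc
    refine ⟨hD.le_centralizer a ha hc, ?_⟩
    have := pow_card_eq_one' (x := (⟨c, hc⟩ : H a))
    exact congrArg Subtype.val this
  · rintro ⟨hc, hpow⟩
    have hnorm : L ⊓ C[a] ≤ Subgroup.normalizer ((H a : Subgroup G) : Set G) := by
      intro c hc u
      refine ⟨fun hu => hD.conj_mem_H a ha c hc.2 u hu, fun hu => ?_⟩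
      have := hD.conj_mem_H a ha c⁻¹ (inv_mem hc.2) _ hu
      rwa [show c⁻¹ * (c * u * c⁻¹) * c⁻¹⁻¹ = u by group] at this
    rw [← hD.sup_eq a ha] at hc
    have hset := Subgroup.coe_mul_of_right_le_normalizer_left (H a) (L ⊓ C[a]) hnorm
    have hc' : c ∈ ((H a : Set G) * ((L ⊓ C[a] : Subgroup G) : Set G) : Set G) := hset ▸ (hc : c ∈ ((H a ⊔ (L ⊓ C[a]) : Subgroup G) : Set G))
    obtain ⟨u, hu, n, hn, rfl⟩ := hc'
    have hk : ∀ k : ℕ, ∃ w ∈ H a, (u * n) ^ k = w * n ^ k := by
      intro k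
      induction k with
      | zero => exact ⟨1, one_mem _, by simp⟩
      | succ k ih =>
        obtain ⟨w, hw, e⟩ := ih
        refine ⟨w * (n ^ k * u * (n ^ k)⁻¹), mul_mem hw
          (hD.conj_mem_H a ha _ (pow_mem hn.2 k) u hu), ?_⟩
        rw [pow_succ, e, pow_succ]
        group
    obtain ⟨w, hw, e⟩ := hk (Nat.card (H a))
    rw [hpow] at e
    have h1 : n ^ Nat.card (H a) = 1 := by
      have hmem : n ^ Nat.card (H a) ∈ H a ⊓ (L ⊓ C[a]) :=
        ⟨by rw [← inv_mul_cancel_left w (n ^ Nat.card (H a)), ← e, mul_one]; exact (H a).inv_mem hw,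
          pow_mem hn _⟩
      rwa [hD.inf_eq_bot a ha, Subgroup.mem_bot] at hmem
    have h2 : n ^ Nat.card ↥(L ⊓ C[a]) = 1 :=
      congrArg Subtype.val (pow_card_eq_one' (x := (⟨n, hn⟩ : ↥(L ⊓ C[a]))))
    have h3 : n = 1 := by
      have := Nat.dvd_gcd (orderOf_dvd_of_pow_eq_one h1) (orderOf_dvd_of_pow_eq_one h2)
      rwa [(hD.coprime a ha a ha).gcd_eq_one, Nat.dvd_one, orderOf_eq_one_iff] at this
    simpa [h3] using hu

/-- The complements are permuted by `L`. -/
theorem dade_card_conj (hD : DadeHypothesis A L H) {a l : G} (ha : a ∈ A) (hl : l ∈ L) :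
    Nat.card (H (l * a * l⁻¹)) = Nat.card (H a) := by
  have hb := hD.conj_mem l hl a ha
  have hC : C[l * a * l⁻¹] = C[a].map (MulAut.conj l).toMonoidHom := by
    ext c
    rw [Subgroup.mem_map_equiv, Subgroup.mem_centralizer_singleton_iff,
      Subgroup.mem_centralizer_singleton_iff, MulAut.conj_symm_apply]
    constructor <;> intro h
    · calc l⁻¹ * c * l * a = l⁻¹ * (c * (l * a * l⁻¹)) * l := by group
        _ = a * (l⁻¹ * c * l) := by rw [h]; group
    · calc c * (l * a * l⁻¹) = l * (l⁻¹ * c * l * a) * l⁻¹ := by group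
        _ = l * a * l⁻¹ * c := by rw [h]; group
  have hL : L = L.map (MulAut.conj l).toMonoidHom := by
    ext c
    rw [Subgroup.mem_map_equiv, MulAut.conj_symm_apply]
    refine ⟨fun h => mul_mem (mul_mem (inv_mem hl) h) hl, fun h => ?_⟩
    have := mul_mem (mul_mem hl h) (inv_mem hl)
    rwa [show l * (l⁻¹ * c * l) * l⁻¹ = c by group] at this
  have h1 := dade_card_mul hD hb
  rw [hC] at h1
  conv_lhs at h1 => rw [hL, ← Subgroup.map_inf _ _ _ (MulAut.conj l).injective]
  rw [Subgroup.card_map_of_injective (MulAut.conj l).injective,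
    Subgroup.card_map_of_injective (MulAut.conj l).injective, ← dade_card_mul hD ha] at h1
  exact Nat.eq_of_mul_eq_mul_right Nat.card_pos h1

/-- A conjugate of a point of `A` lying in `A` carries `H` to `H`. -/
theorem dade_mem_H_conj (hD : DadeHypothesis A L H) {a g u : G} (ha : a ∈ A)
    (hg : g * a * g⁻¹ ∈ A) (hu : u ∈ H a) : g * u * g⁻¹ ∈ H (g * a * g⁻¹) := by
  obtain ⟨l, hl, hle⟩ := hD.fusion a ha g hg
  obtain ⟨hc, hpow⟩ := (dade_mem_H_iff hD ha u).mp hu
  refine (dade_mem_H_iff hD hg _).mpr ⟨?_, ?_⟩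
  · rw [Subgroup.mem_centralizer_singleton_iff] at hc ⊢
    calc g * u * g⁻¹ * (g * a * g⁻¹) = g * (u * a) * g⁻¹ := by group
      _ = g * a * g⁻¹ * (g * u * g⁻¹) := by rw [hc]; group
  · rw [← hle, dade_card_conj hD ha hl, conj_pow, hpow]
    group

/-- The normalizer of a coset `a H(a)`. -/
theorem dade_normalizer_coset (hD : DadeHypothesis A L H) {a : G} (ha : a ∈ A) :
    Subgroup.normalizer ((fun u : G => a * u) '' (H a : Set G)) = C[a] := by
  ext g
  constructor
  · intro hg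
    obtain ⟨v, hv, e⟩ := (hg (a * 1)).mp ⟨1, one_mem _, rfl⟩
    have := dade_conj_base hD ha ha (one_mem _) hv e.symm
    rw [Subgroup.mem_centralizer_singleton_iff]
    calc g * a = g * a * g⁻¹ * g := by group
      _ = a * g := by rw [this]
  · intro hg
    have key : ∀ c ∈ C[a], ∀ y ∈ (fun u : G => a * u) '' (H a : Set G),
        c * y * c⁻¹ ∈ (fun u : G => a * u) '' (H a : Set G) := by
      rintro c hc _ ⟨u, hu, rfl⟩
      refine ⟨c * u * c⁻¹, hD.conj_mem_H a ha c hc u hu, ?_⟩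
      calc a * (c * u * c⁻¹) = (a * c) * u * c⁻¹ := by group
        _ = c * (a * u) * c⁻¹ := by
          rw [← Subgroup.mem_centralizer_singleton_iff.mp hc]
          group
    refine fun y => ⟨key g hg y, fun hy => ?_⟩
    have := key g⁻¹ (inv_mem hg) _ hy
    rwa [show g⁻¹ * (g * y * g⁻¹) * g⁻¹⁻¹ = y by group] at this

/-- The number of conjugators carrying a given point back into `A`. -/
theorem dade_card_conjugators (hD : DadeHypothesis A L H) {a : G} (ha : a ∈ A) :
    Nat.card {x : G // x⁻¹ * a * x ∈ A} = Nat.card (H a) * Nat.card L := by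
  refine Nat.eq_of_mul_eq_mul_right (Nat.card_pos (α := ↥(L ⊓ C[a]))) ?_
  rw [mul_right_comm, dade_card_mul hD ha, ← Nat.card_prod, ← Nat.card_prod]
  have hdec : ∀ x : {x : G // x⁻¹ * a * x ∈ A}, ∃ c : C[a], ∃ l : L, (c : G) * l = x.1 := by
    rintro ⟨x, hx⟩
    obtain ⟨l, hl, e⟩ := hD.fusion a ha x⁻¹ (by rwa [inv_inv])
    rw [inv_inv] at e
    refine ⟨⟨x * l, ?_⟩, ⟨l⁻¹, inv_mem hl⟩, mul_inv_cancel_right x l⟩
    rw [Subgroup.mem_centralizer_singleton_iff]
    calc x * l * a = x * (l * a * l⁻¹) * l := by group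
      _ = a * (x * l) := by rw [e]; group
  choose c l hcl using hdec
  have hset : ∀ (c : C[a]) (l : L), ((c : G) * l)⁻¹ * a * ((c : G) * l) ∈ A := fun c l => by
    have h := Subgroup.mem_centralizer_singleton_iff.mp c.2
    have e : ((c : G) * l)⁻¹ * a * ((c : G) * l) = (l : G)⁻¹ * a * (l : G)⁻¹⁻¹ := by
      calc ((c : G) * l)⁻¹ * a * ((c : G) * l) = (l : G)⁻¹ * ((c : G)⁻¹ * (a * c)) * l := by group
        _ = (l : G)⁻¹ * a * (l : G)⁻¹⁻¹ := by rw [← h]; group
    rw [e]
    exact hD.conj_mem _ (inv_mem l.2) a ha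
  refine Nat.card_congr
    { toFun := fun w => (⟨(c w.1 : G) * w.2, mul_mem (c w.1).2 w.2.2.2⟩,
        ⟨(w.2 : G)⁻¹ * (l w.1), mul_mem (inv_mem w.2.2.1) (l w.1).2⟩)
      invFun := fun v => (⟨(v.1 : G) * v.2, hset v.1 v.2⟩,
        ⟨(c ⟨(v.1 : G) * v.2, hset v.1 v.2⟩ : G)⁻¹ * v.1, ?_, (Subgroup.centralizer ({a} : Set G)).mul_mem ((Subgroup.centralizer ({a} : Set G)).inv_mem (c _).2) v.1.2⟩)
      left_inv := fun w => ?_
      right_inv := fun v => ?_ }
  · have h := hcl ⟨(v.1 : G) * v.2, hset v.1 v.2⟩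
    have e : (c ⟨(v.1 : G) * v.2, hset v.1 v.2⟩ : G)⁻¹ * v.1 =
        (l ⟨(v.1 : G) * v.2, hset v.1 v.2⟩ : G) * (v.2 : G)⁻¹ := by
      rw [eq_mul_inv_iff_mul_eq, mul_assoc, inv_mul_eq_iff_eq_mul, h]
    rw [e]
    exact L.mul_mem (l _).2 (L.inv_mem v.2.2)
  · have e : (⟨(c w.1 : G) * w.2 * ((w.2 : G)⁻¹ * l w.1), hset ⟨_, mul_mem (c w.1).2 w.2.2.2⟩
        ⟨_, mul_mem (inv_mem w.2.2.1) (l w.1).2⟩⟩ : {x : G // x⁻¹ * a * x ∈ A}) = w.1 := by
      apply Subtype.ext
      rw [← hcl w.1]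
      group
    refine Prod.ext e (Subtype.ext ?_)
    show (c _ : G)⁻¹ * _ = _
    rw [e, inv_mul_cancel_left]
  · refine Prod.ext (Subtype.ext (mul_inv_cancel_left _ _)) (Subtype.ext ?_)
    show ((c _ : G)⁻¹ * v.1)⁻¹ * _ = _
    rw [mul_inv_rev, inv_inv, mul_assoc, hcl, inv_mul_cancel_left]

/-- The value of the Dade map on the conjugates of a coset. -/
theorem dadeIsometry_apply (hD : DadeHypothesis A L H) {α : L → ℂ} (hα : IsClassFunction L α)
    {g x a u : G} (ha : a ∈ A) (hu : u ∈ H a) (h : x * g * x⁻¹ = a * u) :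
    dadeIsometry A L H α g = α ⟨a, hD.subset ha⟩ := by
  have hex : ∃ b : L, (b : G) ∈ A ∧ ∃ y : G, ∃ v ∈ H (b : G), y * g * y⁻¹ = (b : G) * v :=
    ⟨⟨a, hD.subset ha⟩, ha, x, u, hu, h⟩
  rw [dadeIsometry, dif_pos hex]
  obtain ⟨hb, y, v, hv, he⟩ := Classical.choose_spec hex
  have e : y * x⁻¹ * (a * u) * (y * x⁻¹)⁻¹ = ((Classical.choose hex : L) : G) * v := by
    rw [← he, ← h]
    group
  obtain ⟨l, hl, hle⟩ := dade_conj_in_L hD ha hb hu hv e
  rw [show Classical.choose hex = ⟨l, hl⟩ * (⟨a, hD.subset ha⟩ : L) * ⟨l, hl⟩⁻¹ from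
    Subtype.ext (by simpa using hle.symm)]
  exact hα _ _

theorem dadeIsometry_eq_zero {α : L → ℂ} (hD : DadeHypothesis A L H) {g : G}
    (h : g ∉ dadeSet A H) : dadeIsometry A L H α g = 0 :=
  dif_neg fun ⟨a, ha, x, u, hu, e⟩ => h ⟨a, ha, u, hu, x, e⟩

theorem isClassFunction_dadeIsometry (hD : DadeHypothesis A L H) {α : L → ℂ}
    (hα : IsClassFunction L α) : IsClassFunction G (dadeIsometry A L H α) := by
  intro g k
  by_cases h : g ∈ dadeSet A H
  · obtain ⟨a, ha, u, hu, x, e⟩ := h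
    rw [dadeIsometry_apply hD hα ha hu e, dadeIsometry_apply hD hα (x := x * k⁻¹) ha hu]
    rw [← e]
    group
  · rw [dadeIsometry_eq_zero hD h, dadeIsometry_eq_zero hD]
    rintro ⟨a, ha, u, hu, x, e⟩
    exact h ⟨a, ha, u, hu, x * k, by rw [← e]; group⟩

open Classical in
/-- The weighted count of the conjugators into the cosets. -/
theorem dade_weight_eq (hD : DadeHypothesis A L H) [Fintype G] {a : G} (ha : a ∈ A) {u : G}
    (hu : u ∈ H a) :
    (∑ x : G, ∑ b : G with b ∈ A, (Nat.card (H b) : ℂ)⁻¹ *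
      ((Finset.univ.filter fun v : G => v ∈ H b ∧ x * (b * v) * x⁻¹ = a * u).card : ℂ)) =
      (Nat.card L : ℂ) := by
  classical
  have hx : ∀ x : G, (∑ b : G with b ∈ A, (Nat.card (H b) : ℂ)⁻¹ *
      ((Finset.univ.filter fun v : G => v ∈ H b ∧ x * (b * v) * x⁻¹ = a * u).card : ℂ)) =
      if x⁻¹ * a * x ∈ A then (Nat.card (H a) : ℂ)⁻¹ else 0 := by
    intro x
    by_cases hxA : x⁻¹ * a * x ∈ A
    · rw [if_pos hxA, Finset.sum_eq_single (x⁻¹ * a * x)]
      · have hxa : x⁻¹ * a * x⁻¹⁻¹ ∈ A := by rwa [inv_inv]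
        have hmem := dade_mem_H_conj hD ha hxa hu
        rw [inv_inv] at hmem
        obtain ⟨l, hl, hle⟩ := hD.fusion a ha x⁻¹ hxa
        rw [inv_inv] at hle
        have h1 : (Finset.univ.filter fun v : G => v ∈ H (x⁻¹ * a * x) ∧
            x * (x⁻¹ * a * x * v) * x⁻¹ = a * u) = {x⁻¹ * u * x} := by
          ext v
          simp only [Finset.mem_filter, Finset.mem_univ, true_and, Finset.mem_singleton]
          constructor
          · rintro ⟨-, e⟩
            have e2 : u = x * v * x⁻¹ := by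
              apply mul_left_cancel (a := a)
              rw [← e]
              group
            rw [e2]
            group
          · rintro rfl
            exact ⟨hmem, by group⟩
        rw [h1, Finset.card_singleton, Nat.cast_one, mul_one, ← hle, dade_card_conj hD ha hl]
      · intro b hb hne
        rw [Finset.filter_false_of_mem, Finset.card_empty, Nat.cast_zero, mul_zero]
        rintro v - ⟨hv, e⟩
        refine hne ?_
        rw [← dade_conj_base hD (Finset.mem_filter.mp hb).2 ha hv hu e]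
        group
      · intro h
        exact absurd (Finset.mem_filter.mpr ⟨Finset.mem_univ _, hxA⟩) h
    · rw [if_neg hxA]
      refine Finset.sum_eq_zero fun b hb => ?_
      rw [Finset.filter_false_of_mem, Finset.card_empty, Nat.cast_zero, mul_zero]
      rintro v - ⟨hv, e⟩
      refine hxA ?_
      rw [← dade_conj_base hD (Finset.mem_filter.mp hb).2 ha hv hu e,
        show x⁻¹ * (x * b * x⁻¹) * x = b by group]
      exact (Finset.mem_filter.mp hb).2
  rw [Finset.sum_congr rfl fun x _ => hx x, ← Finset.sum_filter, Finset.sum_const, nsmul_eq_mul,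
    ← Fintype.card_subtype, ← Nat.card_eq_fintype_card, dade_card_conjugators hD ha, Nat.cast_mul,
    mul_comm (Nat.card (H a) : ℂ), mul_assoc,
    mul_inv_cancel₀ (Nat.cast_ne_zero.mpr Nat.card_pos.ne'), mul_one]

open Classical in
/-- The fundamental summation formula over the Dade support. -/
theorem dade_sum (hD : DadeHypothesis A L H) [Fintype G]
    {f : G → ℂ} (hf : IsClassFunction G f) :
    (Nat.card L : ℂ) * ∑ g : G with g ∈ dadeSet A H, f g =
      (Nat.card G : ℂ) * ∑ a : G with a ∈ A,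
        (Nat.card (H a) : ℂ)⁻¹ * ∑ u : G with u ∈ H a, f (a * u) := by
  classical
  set S : G → G → Finset G := fun x b => Finset.univ.filter fun v : G => v ∈ H b
  have h1 : (Nat.card G : ℂ) * ∑ a : G with a ∈ A,
      (Nat.card (H a) : ℂ)⁻¹ * ∑ u : G with u ∈ H a, f (a * u) =
      ∑ x : G, ∑ b : G with b ∈ A, (Nat.card (H b) : ℂ)⁻¹ *
        ∑ v : G with v ∈ H b, f (x * (b * v) * x⁻¹) := by
    simp only [hf _ _, Finset.sum_const, Finset.card_univ, nsmul_eq_mul,
      Nat.card_eq_fintype_card]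
  have h2 : ∀ x b : G, b ∈ A → ∑ v : G with v ∈ H b, f (x * (b * v) * x⁻¹) =
      ∑ g : G with g ∈ dadeSet A H,
        ((Finset.univ.filter fun v : G => v ∈ H b ∧ x * (b * v) * x⁻¹ = g).card : ℂ) * f g := by
    intro x b hb
    rw [← Finset.sum_fiberwise_of_maps_to (g := fun v => x * (b * v) * x⁻¹)
      (t := Finset.univ.filter (· ∈ dadeSet A H)) ?_]
    · refine Finset.sum_congr rfl fun g _ => ?_
      rw [Finset.filter_filter, Finset.sum_congr rfl (g := fun _ => f g), Finset.sum_const,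
        nsmul_eq_mul]
      intro v hv
      rw [(Finset.mem_filter.mp hv).2.2]
    · intro v hv
      exact Finset.mem_filter.mpr ⟨Finset.mem_univ _, b, hb, v, (Finset.mem_filter.mp hv).2, x⁻¹,
        by group⟩
  rw [h1, Finset.mul_sum, Finset.sum_congr rfl fun x _ => Finset.sum_congr rfl fun b hb => by
    rw [h2 x b (Finset.mem_filter.mp hb).2, Finset.mul_sum]]
  rw [Finset.sum_congr rfl fun x _ => Finset.sum_comm, Finset.sum_comm]
  refine Finset.sum_congr rfl fun g hg => ?_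
  obtain ⟨a, ha, u, hu, y, e⟩ := (Finset.mem_filter.mp hg).2
  rw [← dade_weight_eq hD ha hu, Finset.sum_mul]
  refine Fintype.sum_equiv (Equiv.mulLeft y⁻¹) _ _ fun x => ?_
  rw [Finset.sum_mul, Equiv.coe_mulLeft]
  refine Finset.sum_congr rfl fun b _ => ?_
  rw [mul_assoc]
  congr 2
  refine congrArg (fun s : Finset G => (s.card : ℂ)) ?_
  ext v
  simp only [Finset.mem_filter, Finset.mem_univ, true_and, and_congr_right_iff]
  intro _
  constructor <;> intro h
  · calc y⁻¹ * x * (b * v) * (y⁻¹ * x)⁻¹ = y⁻¹ * (x * (b * v) * x⁻¹) * y := by group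
      _ = g := by rw [h, ← e]; group
  · calc x * (b * v) * x⁻¹ = y * (y⁻¹ * x * (b * v) * (y⁻¹ * x)⁻¹) * y⁻¹ := by group
      _ = a * u := by rw [h, e]

/-- Inner products with the Dade map. -/
theorem classInner_dade (hD : DadeHypothesis A L H) [Fintype G] [Fintype L] {α : L → ℂ}
    (hα : IsClassFunction L α) (hαA : ∀ x : L, (x : G) ∉ A → α x = 0) {χ : G → ℂ}
    (hχ : IsClassFunction G χ) {ψ : L → ℂ}
    (hψ : ∀ a : L, (a : G) ∈ A → ψ a = (Nat.card (H a) : ℂ)⁻¹ * ∑ᶠ u ∈ (H a : Set G), χ (a * u)) :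
    classInner (dadeIsometry A L H α) χ = classInner α ψ := by
  classical
  have hf : IsClassFunction G fun g => dadeIsometry A L H α g * conj (χ g) := fun g k => by
    simp only [isClassFunction_dadeIsometry hD hα g k, hχ g k]
  have h := dade_sum hD hf
  rw [Finset.sum_filter_of_ne (fun g _ hne => ?_)] at h
  swap
  · by_contra hg
    exact hne (by rw [dadeIsometry_eq_zero hD hg, zero_mul])
  have e : ∑ a : L, α a * conj (ψ a) = ∑ a : G with a ∈ A,
      (Nat.card (H a) : ℂ)⁻¹ * ∑ u : G with u ∈ H a,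
        dadeIsometry A L H α (a * u) * conj (χ (a * u)) := by
    refine Finset.sum_bij_ne_zero (fun (a : L) _ _ => (a : G)) (fun a _ hne => ?_)
      (fun a _ _ b _ _ h => Subtype.ext h) (fun a ha _ => ?_) (fun a _ hne => ?_)
    · refine Finset.mem_filter.mpr ⟨Finset.mem_univ _, ?_⟩
      by_contra hA
      exact hne (by rw [hαA a hA, zero_mul])
    · refine ⟨⟨a, hD.subset (Finset.mem_filter.mp ha).2⟩, Finset.mem_univ _, ?_, rfl⟩
      intro h0
      have hA := (Finset.mem_filter.mp ha).2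
      rename_i hne'
      refine hne' ?_
      rw [Finset.sum_congr rfl fun u hu => by
        rw [dadeIsometry_apply hD hα (x := 1) hA (Finset.mem_filter.mp hu).2 (by group)],
        ← Finset.mul_sum, ← map_sum, ← mul_assoc, mul_comm _ (α _), mul_assoc]
      rw [hψ _ hA, map_mul, map_inv₀, map_natCast,
        finsum_mem_eq_finite_toFinset_sum _ (Set.toFinite _),
        show (Set.toFinite (H a : Set G)).toFinset = Finset.univ.filter (· ∈ H a) by ext; simp] at h0
      exact h0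
    · have hA : (a : G) ∈ A := by
        by_contra hA
        exact hne (by rw [hαA a hA, zero_mul])
      rw [Finset.sum_congr rfl fun u hu => by
        rw [dadeIsometry_apply hD hα (x := 1) hA (Finset.mem_filter.mp hu).2 (by group)],
        ← Finset.mul_sum, ← map_sum, ← mul_assoc, mul_comm _ (α _), mul_assoc]
      rw [hψ _ hA, map_mul, map_inv₀, map_natCast,
        finsum_mem_eq_finite_toFinset_sum _ (Set.toFinite _),
        show (Set.toFinite (H (a : G) : Set G)).toFinset = Finset.univ.filter (· ∈ H (a : G)) by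
          ext; simp]
  rw [← e] at h
  rw [classInner, classInner]
  have hG : (Nat.card G : ℂ) ≠ 0 := Nat.cast_ne_zero.mpr Nat.card_pos.ne'
  have hL : (Nat.card L : ℂ) ≠ 0 := Nat.cast_ne_zero.mpr Nat.card_pos.ne'
  field_simp
  linear_combination h

/-- The Dade map is an isometry. -/
theorem classInner_dade_dade (hD : DadeHypothesis A L H) [Fintype G] [Fintype L] {α β : L → ℂ}
    (hα : IsClassFunction L α) (hαA : ∀ x : L, (x : G) ∉ A → α x = 0)
    (hβ : IsClassFunction L β) :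
    classInner (dadeIsometry A L H α) (dadeIsometry A L H β) = classInner α β := by
  classical
  refine classInner_dade hD hα hαA (isClassFunction_dadeIsometry hD hβ) fun a ha => ?_
  rw [finsum_mem_eq_finite_toFinset_sum _ (Set.toFinite _),
    Finset.sum_congr rfl fun u hu => dadeIsometry_apply hD hβ (x := 1) ha
      ((Set.Finite.mem_toFinset _).mp hu) (by group),
    Finset.sum_const, nsmul_eq_mul, ← Set.ncard_eq_toFinset_card, ← Nat.card_coe_set_eq]
  simp only [SetLike.coe_sort_coe]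
  rw [← mul_assoc, inv_mul_cancel₀ (Nat.cast_ne_zero.mpr Nat.card_pos.ne'), one_mul]

end Cfsg.Agent.Char
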