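import Cfsg.Agent.Lib.Char.IdemAlg
import Cfsg.Agent.Lib.Char.FreeTrace
import Cfsg.Agent.Lib.Char.SectionPart

/-!
# Traces of a `p`-element times an idempotent

An idempotent commuting with a `p`-element `z` and vanishing modulo `M` on the centralizer of `z` has zero trace
against `z`, so the trace of `z` times an idempotent only depends on the restriction to that centralizer. An
idempotent has vanishing class sums on singular elements, so its trace depends only on regular values; its traces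
against the elements of a subgroup commuting with it form a character.
-/

set_option autoImplicit false
set_option linter.unusedSectionVars false

namespace Cfsg.Agent.Char.IdemTrace

open Cfsg Module Polynomial IdemAlg
open scoped ComplexConjugate

universe u

variable {G : Type u} [Group G] [Fintype G] {M : Ideal AlgInt} {p : ℕ} {hP : M.IsPrime}

theorem hom_pow {n : ℕ} (ρ : G →* Module.End ℂ (Fin n → ℂ)) (g : G) (j : ℕ) :
    ρ (g ^ j) = ρ g ^ j := map_pow ρ g j

/-- Green's vanishing for an idempotent that is a relative trace. -/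
theorem trace_eq_zero (hM : IsPModular p M) {n : ℕ} (ρ : G →* Module.End ℂ (Fin n → ℂ)) (z : G)
    (x φ : OA hP G) (hx : x * x = x) (hxz : Commute (gen hP z) x) (hφx : Commute x φ)
    (hφz : Commute (gen hP (z ^ p)) φ)
    (hsum : ∑ j ∈ Finset.range p, gen hP (z ^ j) * φ * gen hP (z ^ j)⁻¹ = x) :
    LinearMap.trace ℂ _ (ev ρ (gen hP z * x)) = 0 := by
  classical
  have hp := hM.1
  obtain ⟨V, hV, hpV⟩ := exists_valuation hM
  set T := ev ρ x with hT
  set Φ := ev ρ φ with hΦ
  have hTT : T * T = T := by rw [hT, ← map_mul, hx]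
  have hTh : ρ z * T = T * ρ z := by
    rw [hT, ← ev_gen (hP := hP) ρ z, ← map_mul, hxz.eq, map_mul]
  have hTΦ : T * Φ = Φ * T := by rw [hT, hΦ, ← map_mul, hφx.eq, map_mul]
  set Q : Module.End ℂ (Fin n → ℂ) := ρ (z ^ p) with hQ
  have hQΦ : Q * Φ = Φ * Q := by
    rw [hQ, hΦ, ← ev_gen (hP := hP) ρ (z ^ p), ← map_mul, hφz.eq, map_mul]
  have hQT : Q * T = T * Q := by
    rw [hQ, map_pow]
    exact ((show Commute (ρ z) T from hTh).pow_left p).eq
  have hsumΦ : ∑ j ∈ Finset.range p, ρ (z ^ j) * Φ * ρ (z ^ j)⁻¹ = T := by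
    rw [hT, hΦ, ← hsum, map_sum]
    exact Finset.sum_congr rfl fun j _ => by rw [map_mul, map_mul, ev_gen, ev_gen]
  set N := Nat.card G with hNdef
  have hN0 : N ≠ 0 := Nat.card_pos.ne'
  have hQN : Q ^ N = 1 := by rw [hQ, ← map_pow, hNdef, pow_card_eq_one', map_one]
  have hζ := Complex.isPrimitiveRoot_exp (p * N) (Nat.mul_ne_zero hp.ne_zero hN0)
  set ζ := Complex.exp (2 * Real.pi * Complex.I / ((p * N : ℕ) : ℂ))
  set ω := ζ ^ p with hω
  have hωp : IsPrimitiveRoot ω N := hζ.pow (Nat.mul_pos hp.pos Nat.card_pos) rfl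
  have hω0 : ω ≠ 0 := hωp.ne_zero hN0
  let pr : ℕ → Module.End ℂ (Fin n → ℂ) := fun i =>
    (N : ℂ)⁻¹ • ∑ k ∈ Finset.range N, (ω⁻¹ ^ i) ^ k • Q ^ k
  have hprc : ∀ i (F : Module.End ℂ (Fin n → ℂ)), Q * F = F * Q → pr i * F = F * pr i := by
    intro i F hF
    simp only [pr, smul_mul_assoc, mul_smul_comm, Finset.sum_mul, Finset.mul_sum]
    congr 1
    exact Finset.sum_congr rfl fun k _ => by rw [((show Commute Q F from hF).pow_left k).eq]
  have hprQ : ∀ i, Q * pr i = ω ^ i • pr i := by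
    intro i
    simp only [pr, mul_smul_comm, Finset.mul_sum]
    rw [smul_comm (ω ^ i)]
    congr 1
    rw [Finset.smul_sum]
    set a := ω⁻¹ ^ i with ha
    have haN : a ^ N = 1 := by
      rw [ha, ← pow_mul, mul_comm, pow_mul, inv_pow, hωp.pow_eq_one, inv_one, one_pow]
    have hai : ω ^ i * a = 1 := by rw [ha, ← mul_pow, mul_inv_cancel₀ hω0, one_pow]
    set F : ℕ → Module.End ℂ (Fin n → ℂ) := fun k => ω ^ i • a ^ k • Q ^ k with hF
    have e1 : ∀ k, a ^ k • (Q * Q ^ k) = F (k + 1) := fun k => by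
      simp only [hF]
      rw [← pow_succ', smul_smul, pow_succ' a, ← mul_assoc, hai, one_mul]
    rw [Finset.sum_congr rfl fun k _ => e1 k]
    have e2 : F N = F 0 := by simp only [hF, haN, hQN, pow_zero]
    have := (Finset.sum_range_succ' F N).symm.trans (Finset.sum_range_succ F N)
    rw [e2] at this
    exact add_right_cancel this
  have hidem : ∀ i, pr i * pr i = pr i := by
    intro i
    have e : ∀ k : ℕ, Q ^ k * pr i = (ω ^ i) ^ k • pr i := by
      intro k
      induction k with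
      | zero => simp
      | succ k ih =>
        rw [pow_succ Q, mul_assoc, hprQ, mul_smul_comm, ih, smul_smul, pow_succ (ω ^ i), mul_comm]
    conv_lhs => arg 1; simp only [pr]
    rw [smul_mul_assoc, Finset.sum_mul]
    simp only [smul_mul_assoc, e, smul_smul, ← mul_pow, inv_mul_cancel₀ hω0, one_pow, one_smul]
    rw [Finset.sum_const, Finset.card_range, ← Nat.cast_smul_eq_nsmul ℂ, smul_smul,
      inv_mul_cancel₀ (Nat.cast_ne_zero.mpr hN0), one_smul]
  have hsum1 : ∑ i ∈ Finset.range N, pr i = 1 := by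
    simp only [pr, ← Finset.smul_sum]
    rw [Finset.sum_comm]
    simp only [← Finset.sum_smul]
    rw [Finset.sum_eq_single 0]
    · simp only [pow_zero, Finset.sum_const, Finset.card_range, nsmul_eq_mul, mul_one, smul_smul]
      rw [inv_mul_cancel₀ (Nat.cast_ne_zero.mpr hN0), one_smul]
    · intro k hk hk0
      have hne1 : ω⁻¹ ^ k ≠ 1 := fun e => hk0 (by
        rw [inv_pow, inv_eq_one] at e
        exact Nat.eq_zero_of_dvd_of_lt (hωp.dvd_of_pow_eq_one k e) (Finset.mem_range.mp hk))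
      have hgz : ∑ i ∈ Finset.range N, (ω⁻¹ ^ i) ^ k = 0 := by
        have e1 : (∑ i ∈ Finset.range N, (ω⁻¹ ^ k) ^ i) * (ω⁻¹ ^ k - 1) = 0 := by
          rw [geom_sum_mul, ← pow_mul, mul_comm, pow_mul, inv_pow, hωp.pow_eq_one, inv_one, one_pow,
            sub_self]
        rw [Finset.sum_congr rfl fun i _ => by rw [← pow_mul, mul_comm, pow_mul]]
        exact (mul_eq_zero.mp e1).resolve_right (sub_ne_zero.mpr hne1)
      rw [hgz, zero_smul]
    · intro h0; exact absurd (Finset.mem_range.mpr (Nat.pos_of_ne_zero hN0)) h0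
  -- the lattice
  let gn : G × Fin n → (Fin n → ℂ) := fun x => ρ x.1 (Pi.single x.2 1)
  let Λ : Submodule V (Fin n → ℂ) := Submodule.span V (Set.range gn)
  have hfg : Λ.FG := Submodule.fg_span (Set.finite_range gn)
  have hspan : Submodule.span ℂ (Λ : Set (Fin n → ℂ)) = ⊤ := by
    rw [eq_top_iff, ← (Pi.basisFun ℂ (Fin n)).span_eq, Submodule.span_le]
    rintro _ ⟨i, rfl⟩
    exact Submodule.subset_span (Submodule.subset_span ⟨(1, i), by simp [gn]⟩)
  have hstabρ : ∀ g : G, Stab Λ (ρ g) := by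
    intro g x hx
    induction hx using Submodule.span_induction with
    | mem x hx =>
      obtain ⟨⟨g', i⟩, rfl⟩ := hx
      exact Submodule.subset_span ⟨(g * g', i), by simp [gn]⟩
    | zero => simp
    | add x y _ _ hx hy => rw [map_add]; exact Submodule.add_mem _ hx hy
    | smul a x _ hx =>
      rw [show (a • x : Fin n → ℂ) = (a : ℂ) • x from rfl, map_smul]
      exact Λ.smul_mem a hx
  have hstabΦ : Stab Λ Φ := by
    intro v hv
    rw [hΦ, ev_apply, opSum, LinearMap.sum_apply]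
    exact Submodule.sum_mem _ fun k _ => Λ.smul_mem ⟨co φ k, hV _ (memLR_co φ k)⟩ (hstabρ k v hv)
  have hzero : ∀ i, LinearMap.trace ℂ _ (pr i * T * ρ z) = 0 := by
    intro i
    set c := ζ ^ i with hc
    have hcp : c ^ p = ω ^ i := by rw [hc, hω, ← pow_mul, ← pow_mul, mul_comm]
    have hζ0 : ζ ≠ 0 := hζ.ne_zero (Nat.mul_ne_zero hp.ne_zero hN0)
    have hc0 : c ≠ 0 := pow_ne_zero _ hζ0
    have hcV : c⁻¹ ∈ V := mem_of_pow_eq_one V (Nat.mul_ne_zero hp.ne_zero hN0)
      (show c⁻¹ ^ (p * N) = 1 by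
        rw [inv_pow, hc, ← pow_mul, mul_comm, pow_mul, hζ.pow_eq_one, one_pow, inv_one])
    have hhQ : Q * ρ z = ρ z * Q := by
      rw [hQ, ← map_mul, ← map_mul, ← pow_succ, ← pow_succ']
    have hprT : pr i * T = T * pr i := hprc i T hQT
    refine trace_range_eq_zero hp hpV Λ hfg hspan (pr i * T) (ρ z) Φ hc0 hcV ?_ ?_ ?_ ?_ ?_
      (hstabρ _) hstabΦ
    · calc pr i * T * (pr i * T) = pr i * (T * pr i) * T := by simp only [mul_assoc]
        _ = pr i * pr i * (T * T) := by rw [← hprT]; simp only [mul_assoc]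
        _ = _ := by rw [hidem, hTT]
    · rw [mul_assoc, ← hTh, ← mul_assoc, hprc i _ hhQ, mul_assoc]
    · rw [mul_assoc, hTΦ, ← mul_assoc, hprc i _ hQΦ, mul_assoc]
    · rw [← map_pow, ← hQ, ← mul_assoc, hprQ, hcp, smul_mul_assoc]
    · rw [← Finset.smul_sum, smul_mul_assoc]
      have e : ∀ j ∈ Finset.range p, ρ z ^ j * Φ * ρ z ^ (p - j) =
          ρ (z ^ j) * Φ * ρ (z ^ j)⁻¹ * Q := by
        intro j hj
        rw [← map_pow, ← map_pow, mul_assoc (ρ (z ^ j) * Φ), hQ, ← map_mul]
        congr 2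
        rw [pow_sub _ (Finset.mem_range.mp hj).le]
        exact (((Commute.refl z).pow_pow p j).inv_right).eq
      rw [Finset.sum_congr rfl e, ← Finset.sum_mul, hsumΦ, inv_pow, hcp,
        mul_assoc, ← mul_assoc Q, hprQ, smul_mul_assoc, mul_smul_comm, ← mul_assoc, ← hprT,
        mul_assoc, hTT, smul_smul, inv_mul_cancel₀ (pow_ne_zero _ hω0), one_smul]
  have htr : LinearMap.trace ℂ _ (T * ρ z) = 0 := by
    rw [← one_mul T, ← hsum1, Finset.sum_mul, Finset.sum_mul, map_sum]
    exact Finset.sum_eq_zero fun i _ => hzero i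
  rw [map_mul, ev_gen]
  exact (LinearMap.trace_mul_comm ℂ _ _).trans htr

/-- The elements commuting with `z` that vanish modulo `M` on its centralizer. -/
noncomputable def kerBr (hM : IsPModular p M) (z : G) (hz : ∃ k : ℕ, orderOf z = p ^ k) :
    Submodule (locRing (pmod_prime hM)) (OA (pmod_prime hM) G) where
  carrier := {j | Commute (gen (pmod_prime hM) z) j ∧ ∀ g, Commute z g → MemLocalIdeal M (co j g)}
  add_mem' := fun {a b} ha hb => ⟨ha.1.add_right hb.1, fun g hg => by
    rw [co_add]; exact memLI_add (pmod_prime hM) (ha.2 g hg) (hb.2 g hg)⟩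
  zero_mem' := ⟨Commute.zero_right _, fun g _ => by rw [co_zero]; exact memLI_zero (pmod_prime hM)⟩
  smul_mem' := fun c j hj => ⟨hj.1.smul_right c, fun g hg => by
    rw [co_smul]; exact memLI_mul_left (pmod_prime hM) c.2 (hj.2 g hg)⟩

theorem commute_gen_zpowers {z : G} {x : OA hP G} (hx : Commute (gen hP z) x) :
    ∀ u ∈ Subgroup.zpowers z, Commute (gen hP u) x := by
  intro u hu
  obtain ⟨j, rfl⟩ := (isOfFinOrder_of_finite z).mem_powers_iff_mem_zpowers.mpr hu
  show Commute (gen hP (z ^ j)) x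
  rw [show gen hP (z ^ j) = gen hP z ^ j by
    rw [gen, gen, MonoidAlgebra.single_pow, one_pow]]
  exact hx.pow_left j

theorem mem_centralizer_zpowers_iff {z g : G} :
    g ∈ Subgroup.centralizer (Subgroup.zpowers z : Set G) ↔ Commute z g := by
  rw [centralizer_zpowers_eq, Subgroup.mem_centralizer_singleton_iff]
  exact ⟨fun h => h.symm, fun h => h.symm⟩

theorem kerBr_mul (hM : IsPModular p M) (z : G) (hz : ∃ k : ℕ, orderOf z = p ^ k)
    {x j : OA (pmod_prime hM) G} (hx : Commute (gen _ z) x) (hj : j ∈ kerBr hM z hz) :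
    x * j ∈ kerBr hM z hz ∧ j * x ∈ kerBr hM z hz := by
  classical
  have hP := pmod_prime hM
  have hS := isPGroup_zpowers hM.1 hz
  have key : ∀ a b : OA hP G, Commute (gen hP z) a → Commute (gen hP z) b → ∀ g, Commute z g →
      (∀ w, Commute z w → MemLocalIdeal M (co a w * co b (w⁻¹ * g))) →
      MemLocalIdeal M (co (a * b) g) := by
    intro a b ha hb g hg h
    refine memLI_congr hP (mul_congr hM hS (commute_gen_zpowers ha) (commute_gen_zpowers hb)
      (mem_centralizer_zpowers_iff.mpr hg)) (memLI_sum hP _ _ fun w hw => h w ?_)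
    exact mem_centralizer_zpowers_iff.mp (Finset.mem_filter.mp hw).2
  refine ⟨⟨hx.mul_right hj.1, fun g hg => key x j hx hj.1 g hg fun w hw =>
    memLI_mul_left hP (memLR_co x w) (hj.2 _ (hw.inv_right.mul_right hg))⟩,
    ⟨hj.1.mul_right hx, fun g hg => key j x hj.1 hx g hg fun w hw =>
      memLI_mul_right hP (hj.2 w hw) (memLR_co x _)⟩⟩

/-- Zero trace for an idempotent vanishing modulo `M` on the centralizer. -/
theorem trC_eq_zero (hM : IsPModular p M) (z : G) (hz : ∃ k : ℕ, orderOf z = p ^ k)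
    {ε : OA (pmod_prime hM) G} (hε : IsIdempotentElem ε) (hεJ : ε ∈ kerBr hM z hz)
    {χ : G → ℂ} (hχ : IsCharacter G χ) : trC χ (gen (pmod_prime hM) z * ε) = 0 := by
  classical
  have hP := pmod_prime hM
  obtain ⟨n, ρ, rfl⟩ := hχ
  have hppart : IsPPart p z z := ⟨1, mul_one z, Commute.one_right z, hz, by simp [hM.1.ne_one]⟩
  set C := Subgroup.centralizer ({z} : Set G) with hC
  have hCmem : ∀ g, g ∈ C ↔ Commute z g := fun g => by
    rw [hC, Subgroup.mem_centralizer_singleton_iff]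
    exact ⟨fun h => h.symm, fun h => h.symm⟩
  obtain ⟨A, hAH, hAp, hA1⟩ := exists_section hM.1 z ((hCmem z).mpr (Commute.refl z)) hppart
    (Subgroup.mem_zpowers z) (le_refl C)
  have hinv : ∀ (j : ℕ) (g : G), co ε ((z ^ j)⁻¹ * g * z ^ j) = co ε g := fun j g => by
    have hc : Commute (gen hP (z ^ j)) ε :=
      commute_gen_zpowers hεJ.1 _ ((Subgroup.zpowers z).pow_mem (Subgroup.mem_zpowers z) j)
    rw [← (commute_gen_iff _ ε).mp hc ((z ^ j)⁻¹ * g * z ^ j)]
    congr 1
    group
  set a := ofFun hP (fun g => if g ∈ A then co ε g else 0)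
    (fun g => by split_ifs; exacts [memLR_co ε g, memLR_zero hP]) with ha
  set m := ofFun hP (fun g => if g ∈ C then co ε g else 0)
    (fun g => by split_ifs; exacts [memLR_co ε g, memLR_zero hP]) with hm
  have hconj : ∑ j ∈ Finset.range p, gen hP (z ^ j) * a * gen hP (z ^ j)⁻¹ = ε - m := by
    refine ext_co fun g => ?_
    simp only [co_sum, Finset.sum_apply, co_conj, co_sub, Pi.sub_apply, ha, hm, co_ofFun]
    by_cases hg : g ∈ C
    · rw [if_pos hg, sub_self]
      refine Finset.sum_eq_zero fun j _ => if_neg fun hA => hAH _ hA ?_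
      have hzj : z ^ j ∈ C := C.pow_mem ((hCmem z).mpr (Commute.refl z)) j
      exact C.mul_mem (C.mul_mem (C.inv_mem hzj) hg) hzj
    · rw [if_neg hg, sub_zero]
      obtain ⟨j0, ⟨hj0, hj0A⟩, huniq⟩ := hA1 g hg
      rw [Finset.sum_eq_single j0]
      · rw [if_pos hj0A, hinv]
      · exact fun j hj hne => if_neg fun hA => hne (huniq j ⟨Finset.mem_range.mp hj, hA⟩)
      · exact fun hn => absurd (Finset.mem_range.mpr hj0) hn
  have hmI : ∀ g, MemLocalIdeal M (co m g) := fun g => by
    simp only [hm, co_ofFun]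
    split_ifs with hg
    exacts [hεJ.2 g ((hCmem g).mp hg), memLI_zero hP]
  have hmz : Commute (gen hP z) m := by
    refine (commute_gen_iff z m).mpr fun g => ?_
    simp only [hm, co_ofFun]
    have hzC : z ∈ C := (hCmem z).mpr (Commute.refl z)
    rw [(commute_gen_iff z ε).mp hεJ.1 g]
    refine if_congr ⟨fun h => ?_, fun h => C.mul_mem (C.mul_mem hzC h) (C.inv_mem hzC)⟩ rfl rfl
    simpa [mul_assoc] using C.mul_mem (C.mul_mem (C.inv_mem hzC) h) hzC
  have haz : Commute (gen hP (z ^ p)) a := by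
    refine (commute_gen_iff _ a).mpr fun g => ?_
    simp only [ha, co_ofFun]
    rw [(commute_gen_iff (z ^ p) ε).mp (commute_gen_zpowers hεJ.1 _
      ((Subgroup.zpowers z).pow_mem (Subgroup.mem_zpowers z) p)) g]
    exact if_congr (hAp g) rfl rfl
  set m' := ε * m * ε with hm'
  have hm'I : ∀ g, MemLocalIdeal M (co m' g) := fun g => by
    rw [hm', co_mul, co_mul]
    exact memLI_sum hP _ _ fun y _ => memLI_mul_right hP
      (memLI_sum hP _ _ fun w _ => memLI_mul_left hP (memLR_co ε _) (hmI _)) (memLR_co ε _)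
  obtain ⟨f, hf⟩ := exists_inv_one_sub m' hm'I
  set v := aeval m' f with hv
  have hεz : Commute (gen hP z) ε := hεJ.1
  have hvz : Commute (gen hP (z ^ p)) v := by
    have h1 : Commute (gen hP (z ^ p)) m' :=
      commute_gen_zpowers (x := m') ((hεz.mul_right hmz).mul_right hεz) _
        ((Subgroup.zpowers z).pow_mem (Subgroup.mem_zpowers z) p)
    rw [hv, aeval_eq_sum_range]
    exact Commute.sum_right _ _ _ fun i _ => (h1.pow_right i).smul_right _
  have hm'ε : m' * ε = m' := by rw [hm', mul_assoc _ ε ε, hε.eq]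
  have hεm' : ε * m' = m' := by rw [hm', ← mul_assoc, ← mul_assoc, hε.eq]
  have hvε : Commute v ε := by
    rw [hv, aeval_eq_sum_range]
    exact Commute.sum_left _ _ _ fun i _ =>
      ((show Commute m' ε from hm'ε.trans hεm'.symm).pow_left i).smul_left _
  set φ := ε * v * (ε * a * ε) with hφ
  have hεp : Commute (gen hP (z ^ p)) ε :=
    commute_gen_zpowers hεz _ ((Subgroup.zpowers z).pow_mem (Subgroup.mem_zpowers z) p)
  have hφz : Commute (gen hP (z ^ p)) φ :=
    (hεp.mul_right hvz).mul_right ((hεp.mul_right haz).mul_right hεp)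
  have hεφ : ε * φ = φ := by
    rw [hφ, ← mul_assoc, ← mul_assoc ε ε v, hε.eq]
  have hφε : φ * ε = φ := by
    rw [hφ, mul_assoc (ε * v), mul_assoc (ε * a) ε ε, hε.eq]
  have hvz1 : Commute (gen hP z) v := by
    rw [hv, aeval_eq_sum_range]
    exact Commute.sum_right _ _ _ fun i _ =>
      ((((hεz.mul_right hmz).mul_right hεz)).pow_right i).smul_right _
  have hsum : ∑ j ∈ Finset.range p, gen hP (z ^ j) * φ * gen hP (z ^ j)⁻¹ = ε := by
    have e1 : ∀ j, gen hP (z ^ j) * φ * gen hP (z ^ j)⁻¹ =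
        ε * v * (ε * (gen hP (z ^ j) * a * gen hP (z ^ j)⁻¹) * ε) := by
      intro j
      have hj : ∀ w, Commute (gen hP z) w → Commute (gen hP (z ^ j)) w ∧ Commute (gen hP (z ^ j)⁻¹) w :=
        fun w hw => ⟨commute_gen_zpowers hw _ ((Subgroup.zpowers z).pow_mem (Subgroup.mem_zpowers z) j),
          commute_gen_zpowers hw _ ((Subgroup.zpowers z).inv_mem
            ((Subgroup.zpowers z).pow_mem (Subgroup.mem_zpowers z) j))⟩
      obtain ⟨hεj, hεj'⟩ := hj ε hεz
      obtain ⟨hvj, -⟩ := hj v hvz1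
      calc gen hP (z ^ j) * φ * gen hP (z ^ j)⁻¹
          = (gen hP (z ^ j) * (ε * v)) * (ε * a * (ε * gen hP (z ^ j)⁻¹)) := by
            rw [hφ]; simp only [mul_assoc]
        _ = (ε * v) * gen hP (z ^ j) * (ε * a * (gen hP (z ^ j)⁻¹ * ε)) := by
            rw [(hεj.mul_right hvj).eq, hεj'.eq]
        _ = ε * v * ((gen hP (z ^ j) * ε) * a * gen hP (z ^ j)⁻¹ * ε) := by simp only [mul_assoc]
        _ = _ := by rw [hεj.eq]; simp only [mul_assoc]
    simp only [e1]
    rw [← Finset.mul_sum, ← Finset.sum_mul, ← Finset.mul_sum, hconj, mul_sub, hε.eq, sub_mul, hε.eq]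
    have e3 : ε - ε * m * ε = (1 - m') * ε := by rw [sub_mul, one_mul, hm'ε]
    rw [e3, mul_assoc, ← mul_assoc v, hf, one_mul, hε.eq]
  rw [trC_eq_trace]
  exact trace_eq_zero hM ρ z ε φ hε hεz (hεφ.trans hφε.symm) hφz hsum

/-- The trace against `z` of an idempotent only depends on its restriction to the centralizer of `z`. -/
theorem trC_eq_of_congr (hM : IsPModular p M) (z : G) (hz : ∃ k : ℕ, orderOf z = p ^ k)
    {ι κ : OA (pmod_prime hM) G} (hι : IsIdempotentElem ι) (hκ : IsIdempotentElem κ)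
    (hιz : Commute (gen _ z) ι) (hκz : Commute (gen _ z) κ)
    (h : ∀ g, Commute z g → MemLocalIdeal M (co ι g - co κ g)) {χ : G → ℂ} (hχ : IsCharacter G χ) :
    trC χ (gen (pmod_prime hM) z * ι) = trC χ (gen (pmod_prime hM) z * κ) := by
  have hP := pmod_prime hM
  set J := kerBr hM z hz with hJ
  have hd : ι - κ ∈ J := ⟨hιz.sub_right hκz, fun g hg => by
    rw [co_sub]; exact h g hg⟩
  set x := ι * κ * ι with hx
  set y := κ * ι * κ with hy
  have hxz : Commute (gen hP z) x := (hιz.mul_right hκz).mul_right hιz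
  have hyz : Commute (gen hP z) y := (hκz.mul_right hιz).mul_right hκz
  have hxι : x - ι ∈ J := by
    have e : x - ι = ι * (κ - ι) * ι := by rw [mul_sub, sub_mul, hι.eq, hι.eq]
    rw [e]
    have h1 : κ - ι ∈ J := by simpa using J.neg_mem hd
    exact (kerBr_mul hM z hz hιz (kerBr_mul hM z hz hιz h1).1).2
  have hyκ : y - κ ∈ J := by
    have e : y - κ = κ * (ι - κ) * κ := by rw [mul_sub, sub_mul, hκ.eq, hκ.eq]
    rw [e]
    exact (kerBr_mul hM z hz hκz (kerBr_mul hM z hz hκz hd).1).2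
  obtain ⟨P1, hP1, hP1x⟩ := exists_monic x
  obtain ⟨P2, hP2, hP2y⟩ := exists_monic y
  obtain ⟨g, hg0, hgd, hg1⟩ := IdemLift.exists_separator hP (hP1.mul hP2)
  have hxP : aeval x (P1 * P2) = 0 := by rw [map_mul, hP1x, zero_mul]
  have hyP : aeval y (P1 * P2) = 0 := by rw [map_mul, hP2y, mul_zero]
  have key : ∀ (a w : OA hP G), IsIdempotentElem a → Commute (gen hP z) a → Commute (gen hP z) w →
      w - a ∈ J → a * w = w → w * a = w → aeval w (P1 * P2) = 0 →
      trC χ (gen hP z * a) = trC χ (gen hP z * aeval w g) := by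
    intro a w ha haz hwz hwa haw hwa' hwP
    have hwJ : w * w - w ∈ J := by
      have e : w * w - w = (w * (w - a)) + (w * a - w) := by rw [mul_sub]; abel
      rw [e, hwa', sub_self, add_zero]
      exact (kerBr_mul hM z hz hwz hwa).1
    have hgw : aeval w g - w ∈ J := IdemLift.aeval_sub_mem hg0 hg1 hwP J
      (fun j hj => (kerBr_mul hM z hz hwz hj).1)
      (fun c hc => ⟨hwz.smul_right c, fun k _ => by
        rw [co_smul]; exact memLI_mul_right hP hc (memLR_co w k)⟩) hwJ
    obtain ⟨f, rfl⟩ : X ∣ g := X_dvd_iff.mpr (by rw [coeff_zero_eq_eval_zero, hg0])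
    have hgi := IdemLift.idem_of_dvd hgd hwP
    set q := aeval w (X * f) with hq
    have haq : a * q = q := by rw [hq, map_mul, aeval_X, ← mul_assoc, haw]
    have hqa : q * a = q := by rw [hq, mul_comm X f, map_mul, aeval_X, mul_assoc, hwa']
    have hε : IsIdempotentElem (a - q) := by
      show (a - q) * (a - q) = a - q
      rw [sub_mul, mul_sub, mul_sub, ha.eq, haq, hqa, hgi.eq, sub_self, sub_zero]
    have hεJ : a - q ∈ J := by
      have e : a - q = -(w - a) - (q - w) := by abel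
      rw [e]
      exact J.sub_mem (J.neg_mem hwa) hgw
    have h0 := trC_eq_zero hM z hz hε hεJ hχ
    rwa [mul_sub, trC_sub, sub_eq_zero] at h0
  rw [key ι x hι hιz hxz hxι (by rw [hx, ← mul_assoc, ← mul_assoc, hι.eq])
      (by rw [hx, mul_assoc _ ι ι, hι.eq]) hxP,
    key κ y hκ hκz hyz hyκ (by rw [hy, ← mul_assoc, ← mul_assoc, hκ.eq])
      (by rw [hy, mul_assoc _ κ κ, hκ.eq]) hyP]
  obtain ⟨f, rfl⟩ : X ∣ g := X_dvd_iff.mpr (by rw [coeff_zero_eq_eval_zero, hg0])
  clear key hgd hg0 hg1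
  -- powers of `ικι` and `κικ` have the same trace against `z`
  set w := ι * κ with hw
  have hwz : Commute (gen hP z) w := hιz.mul_right hκz
  have hxpow : ∀ i : ℕ, x ^ (i + 1) = w ^ (i + 1) * ι := by
    intro i
    induction i with
    | zero => rw [pow_one, pow_one]
    | succ i ih =>
      rw [pow_succ, ih, pow_succ w (i + 1), hx, hw]
      simp only [mul_assoc]
      rw [← mul_assoc ι ι, hι.eq]
  have hwκ : ∀ i : ℕ, w ^ (i + 1) * κ = w ^ (i + 1) := fun i => by
    rw [pow_succ, mul_assoc, hw, mul_assoc ι κ κ, hκ.eq]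
  have hιw : ∀ i : ℕ, ι * w ^ (i + 1) = w ^ (i + 1) := fun i => by
    rw [pow_succ', ← mul_assoc, hw, ← mul_assoc ι ι κ, hι.eq]
  have hypow : ∀ i : ℕ, y ^ (i + 1) = κ * w ^ (i + 1) := by
    intro i
    induction i with
    | zero => rw [pow_one, pow_one, hy, hw, mul_assoc]
    | succ i ih =>
      rw [pow_succ, ih, hy, mul_assoc κ ι κ, ← mul_assoc (κ * w ^ (i + 1)), mul_assoc κ (w ^ (i + 1)) κ,
        hwκ, ← hw, mul_assoc, ← pow_succ]
  have hterm : ∀ i : ℕ, trC χ (gen hP z * x ^ (i + 1)) = trC χ (gen hP z * y ^ (i + 1)) := fun i => by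
    have e1 : trC χ (gen hP z * (w ^ (i + 1) * ι)) = trC χ (gen hP z * w ^ (i + 1)) := by
      rw [← mul_assoc, trC_mul_comm hχ, ← mul_assoc, ← hιz.eq, mul_assoc, hιw]
    have e2 : trC χ (gen hP z * (κ * w ^ (i + 1))) = trC χ (gen hP z * w ^ (i + 1)) := by
      rw [← mul_assoc, hκz.eq, mul_assoc, trC_mul_comm hχ, mul_assoc, hwκ]
    rw [hxpow, hypow, e1, e2]
  simp only [map_mul, aeval_X]
  induction f using Polynomial.induction_on' with
  | add f f' h1 h2 => simp only [map_add, mul_add, trC_add, h1, h2]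
  | monomial i c =>
    simp only [aeval_monomial, ← Algebra.smul_def, mul_smul_comm, trC_smul, ← pow_succ', hterm]

/-- Class sums of an idempotent vanish on singular elements. -/
theorem sum_conj_eq_zero (hM : IsPModular p M) {κ : OA hP G} (hκ : IsIdempotentElem κ) {y : G}
    (hy : p ∣ orderOf y) : ∑ i : G, co κ (i * y * i⁻¹) = 0 := by
  classical
  have hp := hM.1
  have hy' : p ∣ orderOf y⁻¹ := by rwa [orderOf_inv]
  obtain ⟨⟨w, -, -, ⟨k, hk⟩, -⟩, hsreg, hcomm⟩ := preg_spec hp y⁻¹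
  set s := preg p y⁻¹ with hs
  set v := y⁻¹ * s⁻¹ with hv
  have hvs : v * s = y⁻¹ := by rw [hv, inv_mul_cancel_right]
  have hvne : v ≠ 1 := fun h => hsreg (by rw [h, one_mul] at hvs; rwa [hvs])
  have hcvs : Commute v s := by
    rw [hv]
    exact (hcomm.symm.mul_left (Commute.refl s).inv_left)
  let H := Subgroup.zpowers v
  let σ : H →* Equiv.Perm G :=
    { toFun := fun h => Equiv.mulRight (h : G)⁻¹
      map_one' := by ext; simp
      map_mul' := fun a b => by ext i; simp [mul_assoc] }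
  let K := Subgroup.zpowers s
  let τ : K →* Equiv.Perm G :=
    { toFun := fun a => Equiv.mulRight (a : G)⁻¹
      map_one' := by ext; simp
      map_mul' := fun a b => by ext i; simp [mul_assoc] }
  let F : Matrix G G ℂ := Matrix.of fun i j => co κ (i * j⁻¹)
  have hF : F * F = F := by
    ext i j
    rw [Matrix.mul_apply]
    simp only [F, Matrix.of_apply]
    conv_rhs => rw [← hκ.eq, co_mul]
    refine Fintype.sum_equiv ((Equiv.inv G).trans (Equiv.mulLeft i)) _ _ fun l => ?_
    simp [mul_assoc]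
  have hKcard : ¬ p ∣ Nat.card K := by rwa [Nat.card_zpowers]
  have hz := twistedFreeTrace_eq_zero (ι := G) (H := H) (K := K) hM
    ⟨k, by rw [Nat.card_zpowers]; exact hk⟩
    (fun a b => by
      obtain ⟨i, hi⟩ := Subgroup.mem_zpowers_iff.mp a.2
      obtain ⟨j, hj⟩ := Subgroup.mem_zpowers_iff.mp b.2
      exact Subtype.ext (by simp [← hi, ← hj, ← zpow_add, add_comm]))
    σ (fun h i hi => by
      have : i * (h : G)⁻¹ = i := hi
      exact Subtype.ext (by simpa using this))
    hKcard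
    (fun a b => by
      obtain ⟨i, hi⟩ := Subgroup.mem_zpowers_iff.mp a.2
      obtain ⟨j, hj⟩ := Subgroup.mem_zpowers_iff.mp b.2
      exact Subtype.ext (by simp [← hi, ← hj, ← zpow_add, add_comm]))
    τ (fun a h i => by
      obtain ⟨n, hn⟩ := Subgroup.mem_zpowers_iff.mp a.2
      obtain ⟨m, hm⟩ := Subgroup.mem_zpowers_iff.mp h.2
      show i * (h : G)⁻¹ * (a : G)⁻¹ = i * (a : G)⁻¹ * (h : G)⁻¹
      rw [← hn, ← hm, mul_assoc, mul_assoc, ((hcvs.zpow_zpow m n).inv_inv).eq])
    F hF (fun i j => memLR_co κ _)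
    (fun h i j => by
      show co κ (i * (h : G)⁻¹ * (j * (h : G)⁻¹)⁻¹) = co κ (i * j⁻¹)
      congr 1; group)
    (fun a i j => by
      show co κ (i * (a : G)⁻¹ * (j * (a : G)⁻¹)⁻¹) = co κ (i * j⁻¹)
      congr 1; group)
    (h0 := ⟨v⁻¹, inv_mem (Subgroup.mem_zpowers v)⟩)
    (fun h => hvne (inv_eq_one.mp (congrArg Subtype.val h)))
    ⟨s, Subgroup.mem_zpowers s⟩
  refine Eq.trans (Finset.sum_congr rfl fun i _ => ?_) hz
  show co κ (i * y * i⁻¹) = co κ (i * s⁻¹ * (i * v⁻¹⁻¹)⁻¹)
  congr 1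
  rw [inv_inv, show i * s⁻¹ * (i * v)⁻¹ = i * (v * s)⁻¹ * i⁻¹ by group, hvs, inv_inv]

/-- The trace of an idempotent only sees the regular elements. -/
theorem trC_eq_of_regular (hM : IsPModular p M) {κ : OA hP G} (hκ : IsIdempotentElem κ) {f f' : G → ℂ}
    (hf : IsClassFunction G f) (hf' : IsClassFunction G f')
    (h : ∀ g, ¬ p ∣ orderOf g → f g = f' g) : trC f κ = trC f' κ := by
  classical
  have key : ∀ f : G → ℂ, IsClassFunction G f →
      (Nat.card G : ℂ) * trC f κ = ∑ g : G, f g * ∑ i : G, co κ (i * g * i⁻¹) := by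
    intro f hf
    calc (Nat.card G : ℂ) * trC f κ = ∑ _i : G, ∑ g, co κ g * f g := by
          rw [Finset.sum_const, Finset.card_univ, nsmul_eq_mul, Nat.card_eq_fintype_card, trC]
      _ = ∑ i : G, ∑ g, co κ (i * g * i⁻¹) * f g := Finset.sum_congr rfl fun i _ => by
          refine (Fintype.sum_equiv (MulAut.conj i).toEquiv _ _ fun g => ?_).symm
          show co κ (i * g * i⁻¹) * f g = co κ (i * g * i⁻¹) * f (i * g * i⁻¹)
          rw [hf g i]
      _ = _ := by
          rw [Finset.sum_comm]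
          exact Finset.sum_congr rfl fun g _ => by rw [mul_comm, Finset.sum_mul]
  refine mul_left_cancel₀ (Nat.cast_ne_zero.mpr (Nat.card_pos (α := G)).ne') ?_
  rw [key f hf, key f' hf']
  refine Finset.sum_congr rfl fun g _ => ?_
  by_cases hg : p ∣ orderOf g
  · rw [sum_conj_eq_zero hM hκ hg, mul_zero, mul_zero]
  · rw [h g hg]

/-- Traces of a commuting idempotent against the elements of a subgroup form a character. -/
theorem isCharacter_trC {χ : G → ℂ} (hχ : IsCharacter G χ) {e : OA hP G} (he : IsIdempotentElem e)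
    (H : Subgroup G) (hH : ∀ h ∈ H, Commute (gen hP h) e) :
    IsCharacter H fun h => trC χ (gen hP (h : G) * e) := by
  have : Fintype H := Fintype.ofFinite H
  obtain ⟨n, ρ, rfl⟩ := hχ
  set E := ev (hP := hP) (ρ : G →* Module.End ℂ (Fin n → ℂ)) e with hE
  have hEE : E * E = E := by rw [hE, ← map_mul, he.eq]
  have hc : ∀ h ∈ H, ρ h * E = E * ρ h := fun h hh => by
    rw [hE, ← ev_gen (hP := hP) (ρ : G →* Module.End ℂ (Fin n → ℂ)) h, ← map_mul, (hH h hh).eq, map_mul]
  set W := LinearMap.range E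
  have hmem : ∀ (h : H), ∀ x ∈ W, ρ (h : G) x ∈ W := by
    rintro h _ ⟨v, rfl⟩
    exact ⟨ρ (h : G) v, (LinearMap.congr_fun (hc h h.2) v).symm⟩
  let π : Representation ℂ H W :=
    { toFun := fun h => (ρ (h : G)).restrict (hmem h)
      map_one' := by ext x; simp [LinearMap.restrict_apply]
      map_mul' := fun a b => by ext x; simp [LinearMap.restrict_apply] }
  obtain ⟨m, σ, hσ⟩ := kreal_of_rep (RingHom.id ℂ) π
  refine ⟨m, σ, ?_⟩
  funext h
  have h1 := congrFun hσ h
  simp only [RingHom.id_apply] at h1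
  rw [← h1, trC_eq_trace, map_mul, ev_gen]
  show LinearMap.trace ℂ W ((ρ (h : G)).restrict (hmem h)) = LinearMap.trace ℂ _ (ρ (h : G) * E)
  have hall : ∀ x, (ρ (h : G) * E) x ∈ W := fun x => by
    rw [hc h h.2]
    exact ⟨_, rfl⟩
  rw [← LinearMap.trace_restrict_eq_of_forall_mem W (ρ (h : G) * E) hall]
  congr 1
  refine LinearMap.ext fun x => Subtype.ext ?_
  obtain ⟨v, hv⟩ := x.2
  show ρ (h : G) (x : Fin n → ℂ) = ρ (h : G) (E x)
  rw [← hv]
  exact congrArg _ (LinearMap.congr_fun hEE v).symm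

end Cfsg.Agent.Char.IdemTrace
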