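import Cfsg.Agent.Lib.Char.PParts
import Mathlib

/-!
# Trace functions of irreducible representations over a field of prime characteristic
-/

set_option autoImplicit false
set_option linter.unusedSectionVars false

namespace Cfsg.Agent.Char

open Cfsg Module

universe u v w

variable {k : Type v} [Field k] {G : Type u} [Group G]

/-- Invariance of a subspace. -/
def InvSub {W : Type w} [AddCommGroup W] [Module k W] (ρ : G →* Module.End k W)
    (U : Submodule k W) : Prop :=
  ∀ (g : G), ∀ x ∈ U, ρ g x ∈ U

/-- Irreducibility: there are exactly two invariant subspaces. -/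
def SimpleRep {W : Type w} [AddCommGroup W] [Module k W] (ρ : G →* Module.End k W) : Prop :=
  Nontrivial W ∧ ∀ U : Submodule k W, InvSub ρ U → U = ⊥ ∨ U = ⊤

/-- Intertwining linear maps. -/
def EquivMap {W : Type w} [AddCommGroup W] [Module k W] {W' : Type w} [AddCommGroup W']
    [Module k W'] (ρ : G →* Module.End k W) (ρ' : G →* Module.End k W') (f : W →ₗ[k] W') : Prop :=
  ∀ g x, f (ρ g x) = ρ' g (f x)

theorem bijective_of_equivMap {W : Type w} [AddCommGroup W] [Module k W] {W' : Type w}
    [AddCommGroup W'] [Module k W'] {ρ : G →* Module.End k W} {ρ' : G →* Module.End k W'}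
    (hρ : SimpleRep ρ) (hρ' : SimpleRep ρ') {f : W →ₗ[k] W'} (hf : EquivMap ρ ρ' f)
    (h0 : f ≠ 0) : Function.Bijective f := by
  refine ⟨?_, ?_⟩
  · rcases hρ.2 (LinearMap.ker f) (fun g x hx => by
      rw [LinearMap.mem_ker] at hx ⊢; rw [hf, hx, map_zero]) with e | e
    · exact LinearMap.ker_eq_bot.mp e
    · exact absurd (LinearMap.ker_eq_top.mp e) h0
  · rcases hρ'.2 (LinearMap.range f) (fun g x hx => by
      obtain ⟨y, rfl⟩ := hx; exact ⟨ρ g y, hf g y⟩) with e | e
    · exact absurd (LinearMap.range_eq_bot.mp e) h0
    · exact LinearMap.range_eq_top.mp e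

theorem trace_conj_rep {W : Type w} [AddCommGroup W] [Module k W] [FiniteDimensional k W]
    (ρ : G →* Module.End k W) (g h : G) :
    LinearMap.trace k W (ρ (h * g * h⁻¹)) = LinearMap.trace k W (ρ g) := by
  rw [map_mul, LinearMap.trace_mul_comm, ← map_mul, ← mul_assoc, inv_mul_cancel, one_mul]

/-- In characteristic `p` a trace only depends on the regular part. -/
theorem trace_eq_preg [Finite G] {p : ℕ} [CharP k p] (hp : p.Prime) {W : Type w} [AddCommGroup W]
    [Module k W] [FiniteDimensional k W] (ρ : G →* Module.End k W) (g : G) :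
    LinearMap.trace k W (ρ g) = LinearMap.trace k W (ρ (preg p g)) := by
  rcases subsingleton_or_nontrivial W with hW | hW
  · rw [show ρ g = ρ (preg p g) from LinearMap.ext fun x => Subsingleton.elim _ _]
  obtain ⟨hpp, -, hc⟩ := preg_spec hp g
  obtain ⟨y, -, -, ⟨a, ha⟩, -⟩ := hpp
  set u := g * (preg p g)⁻¹ with hu
  set s := preg p g with hs
  have hg : g = u * s := by rw [hu, inv_mul_cancel_right]
  haveI := Fact.mk hp
  haveI : CharP (Module.End k W) p :=
    charP_of_injective_algebraMap (RingHom.injective (algebraMap k (Module.End k W))) p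
  have hnil : IsNilpotent (ρ u - 1) := by
    refine ⟨p ^ a, ?_⟩
    rw [sub_pow_char_pow_of_commute p (n := a) (Commute.one_right (ρ u)), ← map_pow, ← ha,
      pow_orderOf_eq_one, map_one, one_pow, sub_self]
  have hcus : Commute u s := by
    rw [hu]
    exact (hc.symm.mul_left ((Commute.refl s).inv_left))
  have hcomm : Commute (ρ u - 1) (ρ s) :=
    ((hcus.map ρ).sub_left (Commute.one_left _))
  have h0 := (LinearMap.isNilpotent_trace_of_isNilpotent
    (hcomm.isNilpotent_mul_right hnil)).eq_zero
  rw [sub_mul, one_mul, map_sub, sub_eq_zero, ← map_mul, ← hg] at h0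
  exact h0

section Indep

variable {e : ℕ} (W : Fin e → Type w) [∀ j, AddCommGroup (W j)] [∀ j, Module k (W j)]
  [∀ j, FiniteDimensional k (W j)] (ρ : ∀ j, G →* Module.End k (W j))

/-- Trace functions of pairwise non-isomorphic absolutely irreducible representations are
linearly independent. -/
theorem trace_family_independent (hs : ∀ j, SimpleRep (ρ j))
    (hend : ∀ j, ∀ f : W j →ₗ[k] W j, EquivMap (ρ j) (ρ j) f → ∃ c : k, f = c • LinearMap.id)
    (hhom : ∀ i j, i ≠ j → ∀ f : W i →ₗ[k] W j, EquivMap (ρ i) (ρ j) f → f = 0)
    {c : Fin e → k} (hc : ∀ g, ∑ j, c j * LinearMap.trace k (W j) (ρ j g) = 0) (j : Fin e) :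
    c j = 0 := by
  classical
  let b := fun j => Module.finBasis k (W j)
  -- the coordinate embeddings into functions on the group
  let ι : (a : Σ j, Fin (Module.finrank k (W j))) → (W a.1 →ₗ[k] (G → k)) := fun a =>
    LinearMap.pi fun g => ((b a.1).coord a.2).comp (ρ a.1 g)
  have hι : ∀ a x g, ι a x g = (b a.1).coord a.2 (ρ a.1 g x) := fun a x g => rfl
  let I := Σ j, Fin (Module.finrank k (W j))
  have key : ∀ s : Finset (Σ j, Fin (Module.finrank k (W j))), ∀ w : ∀ q : I, W q.1,
      ∑ a ∈ s, ι a (w a) = 0 → ∀ a ∈ s, w a = 0 := by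
    intro s
    induction s using Finset.induction_on with
    | empty => simp
    | insert a s ha ih =>
      intro w hw
      rw [Finset.sum_insert ha] at hw
      -- vectors whose image lies in the sum of the other images
      let U : Submodule k (W a.1) :=
        { carrier := {x | ∃ u : ∀ q : I, W q.1, ι a x + ∑ b ∈ s, ι b (u b) = 0}
          add_mem' := fun {x y} ⟨u, hu⟩ ⟨u', hu'⟩ => ⟨fun q : I => u q + u' q, by
            simp only [map_add, Finset.sum_add_distrib]
            rw [add_add_add_comm, hu, hu', add_zero]⟩
          zero_mem' := ⟨fun q : I => 0, by simp⟩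
          smul_mem' := fun r x ⟨u, hu⟩ => ⟨fun q : I => r • u q, by
            simp only [map_smul, ← Finset.smul_sum, ← smul_add, hu, smul_zero]⟩ }
      have hUinv : InvSub (ρ a.1) U := by
        rintro g x ⟨u, hu⟩
        refine ⟨fun q : I => ρ q.1 g (u q), funext fun h => ?_⟩
        have h1 := congrFun hu (h * g)
        simp only [Pi.add_apply, Finset.sum_apply, hι, map_mul, Module.End.mul_apply,
          Pi.zero_apply] at h1 ⊢
        exact h1
      rcases (hs a.1).2 U hUinv with hU | hU
      · have hwa : w a ∈ U := ⟨w, hw⟩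
        rw [hU, Submodule.mem_bot] at hwa
        rw [hwa, map_zero, zero_add] at hw
        intro b hb
        rcases Finset.mem_insert.mp hb with rfl | hb'
        · exact hwa
        · exact ih w hw b hb'
      · -- then the new embedding would be a combination of the old ones
        exfalso
        have hall : ∀ x : W a.1, ∃ u : ∀ q : I, W q.1, ι a x + ∑ b ∈ s, ι b (u b) = 0 := fun x => by
          have : x ∈ U := hU ▸ Submodule.mem_top
          exact this
        choose u hu using hall
        have huniq : ∀ x (u' : ∀ q : I, W q.1), ι a x + ∑ b ∈ s, ι b (u' b) = 0 →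
            ∀ q ∈ s, u' q = u x q := by
          intro x u' h' q hb
          refine sub_eq_zero.mp (ih (fun q : I => u' q - u x q) ?_ q hb)
          simp only [map_sub, Finset.sum_sub_distrib]
          rw [eq_neg_of_add_eq_zero_right h', eq_neg_of_add_eq_zero_right (hu x), sub_self]
        have hlin : ∀ q (hq : q ∈ s), ∃ f : W a.1 →ₗ[k] W q.1,
            EquivMap (ρ a.1) (ρ q.1) f ∧ ∀ x, f x = u x q := by
          intro q hq
          refine ⟨⟨⟨fun x => u x q, fun x y => ?_⟩, fun r x => ?_⟩, fun g x => ?_, fun x => rfl⟩
          · refine (huniq (x + y) (fun q : I => u x q + u y q) ?_ q hq).symm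
            simp only [map_add, Finset.sum_add_distrib]
            rw [add_add_add_comm, hu, hu, add_zero]
          · refine (huniq (r • x) (fun q : I => r • u x q) ?_ q hq).symm
            simp only [map_smul, ← Finset.smul_sum, ← smul_add, hu, smul_zero]
          · refine (huniq _ (fun q : I => ρ q.1 g (u x q)) (funext fun h => ?_) q hq).symm
            have h1 := congrFun (hu x) (h * g)
            simp only [Pi.add_apply, Finset.sum_apply, hι, map_mul, Module.End.mul_apply,
              Pi.zero_apply] at h1 ⊢
            exact h1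
        -- evaluate at the identity
        obtain ⟨i, l⟩ := a
        have h1 := congrFun (hu (b i l)) 1
        simp only [Pi.add_apply, Finset.sum_apply, hι, map_one, Module.End.one_apply,
          Pi.zero_apply, Basis.coord_apply, Basis.repr_self, Finsupp.single_eq_same] at h1
        rw [Finset.sum_eq_zero fun q hq => ?_, add_zero] at h1
        · exact one_ne_zero h1
        · obtain ⟨f, hfE, hf⟩ := hlin q hq
          obtain ⟨i', l'⟩ := q
          rw [← hf]
          by_cases hii : i = i'
          · subst hii
            obtain ⟨c, rfl⟩ := hend i f hfE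
            have hll : l ≠ l' := fun e => ha (e ▸ hq)
            simp [hll]
          · rw [hhom i i' hii f hfE]
            simp
  have hzero : ∀ a ∈ (Finset.univ : Finset (Σ j, Fin (Module.finrank k (W j)))),
      c a.1 • b a.1 a.2 = 0 := by
    refine key Finset.univ (fun a => c a.1 • b a.1 a.2) (funext fun g => ?_)
    rw [Finset.sum_apply, Fintype.sum_sigma, Pi.zero_apply, ← hc g]
    refine Finset.sum_congr rfl fun i _ => ?_
    rw [LinearMap.trace_eq_matrix_trace k (b i), Matrix.trace, Finset.mul_sum]
    refine Finset.sum_congr rfl fun l _ => ?_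
    simp [hι, LinearMap.toMatrix_apply]
  haveI := (hs j).1
  obtain ⟨l⟩ : Nonempty (Fin (Module.finrank k (W j))) :=
    ⟨⟨0, Module.finrank_pos⟩⟩
  exact (smul_eq_zero.mp (hzero ⟨j, l⟩ (Finset.mem_univ _))).resolve_right ((b j).ne_zero l)

end Indep

end Cfsg.Agent.Char
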