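import Cfsg.Agent.Lib.Char.PrimeDegrees
import Cfsg.Agent.Lib.Char.TwoDegreesPrime
import Cfsg.Agent.Lib.Char.RelFixLayer
import Cfsg.Agent.Lib.Char.DegreeDvd
import Cfsg.Agent.Lib.Char.CoprimeMcKay
import Cfsg.Prelude.Def_DegreeGraph

/-!
# Groups whose nonlinear irreducible degrees are primes have at most three degrees
-/

set_option autoImplicit false
set_option linter.unusedSectionVars false
set_option linter.style.haveILetI false

namespace Cfsg.Agent.Char.PrimeDegrees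

open Cfsg
open scoped ComplexConjugate commutatorElement

universe u

variable {G : Type u} [Group G] [Fintype G]

theorem deg_eq_one_of_comm_ker (χ : IrrCharacter G)
    (h : ∀ x y : G, x * y * x⁻¹ * y⁻¹ ∈ TwoDeg.kerC χ) : deg (χ : G → ℂ) = 1 := by
  have hz : TwoDeg.cz χ = ⊤ := eq_top_iff.2 fun g _ => (TwoDeg.mem_cz_iff_comm χ g).2 (h g)
  have h1 := TwoDeg.card_cz_mul_sq_le χ
  rw [hz, Subgroup.card_top] at h1
  have h2 : deg (χ : G → ℂ) ^ 2 ≤ 1 :=
    Nat.le_of_mul_le_mul_left (h1.trans (mul_one _).ge) Nat.card_pos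
  have := deg_pos χ.2
  nlinarith

/-- The prime divisors of a minimal nonabelian solvable group with prime degrees. -/
theorem primes_of_minimal (h : PrimeDeg G) [Group.IsSolvable G]
    (hna : ¬ ∀ a b : G, a * b = b * a)
    (hmin : ∀ N : Subgroup G, N.Normal → N ≠ ⊥ → ∀ x y : G, x * y * x⁻¹ * y⁻¹ ∈ N) :
    ∃ f q : ℕ, f.Prime ∧ (∃ χ : IrrCharacter G, deg (χ : G → ℂ) = f) ∧
      ∀ s : ℕ, s.Prime → s ∣ Nat.card G → s = f ∨ s = q := by
  classical
  set L : Subgroup G := commutator G with hL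
  have hLmem : ∀ x y : G, x * y * x⁻¹ * y⁻¹ ∈ L := fun x y =>
    Subgroup.commutator_mem_commutator (Subgroup.mem_top x) (Subgroup.mem_top y)
  have hLmin : ∀ N : Subgroup G, N.Normal → N ≠ ⊥ → L ≤ N := fun N hN hN0 => by
    rw [hL, commutator_def, Subgroup.commutator_le]
    intro x _ y _
    exact hmin N hN hN0 x y
  have hL0 : L ≠ ⊥ := fun e => hna fun a b => by
    have := hLmem a b
    rw [e, Subgroup.mem_bot, mul_inv_eq_one, mul_inv_eq_iff_eq_mul] at this
    exact this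
  have hL2 : ⁅L, L⁆ = ⊥ := by
    by_contra h0
    have hperf : ⁅L, L⁆ = L :=
      le_antisymm (Subgroup.commutator_le_self L) (hLmin _ inferInstance h0)
    have hder : ∀ n, L ≤ derivedSeries G n := by
      intro n
      induction n with
      | zero => rw [derivedSeries_zero]; exact le_top
      | succ n ih => rw [derivedSeries_succ]; exact hperf.ge.trans (Subgroup.commutator_mono ih ih)
    obtain ⟨n, hn⟩ := (Group.isSolvable_def G).1 inferInstance
    exact hL0 (le_bot_iff.1 (hn ▸ hder n))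
  have hLab : ∀ a ∈ L, ∀ b ∈ L, a * b = b * a := fun a ha b hb =>
    commutatorElement_eq_one_iff_mul_comm.1
      (Subgroup.mem_bot.1 (hL2 ▸ Subgroup.commutator_mem_commutator ha hb))
  obtain ⟨q, hq, hqd⟩ := Nat.exists_prime_and_dvd (fun e => hL0 (Subgroup.card_eq_one.1 e))
  haveI := Fact.mk hq
  -- the subgroup of elements of exponent `q`
  let Ω : Subgroup G :=
    { carrier := {x | x ∈ L ∧ x ^ q = 1}
      one_mem' := ⟨L.one_mem, one_pow q⟩
      mul_mem' := fun {a b} ha hb => ⟨L.mul_mem ha.1 hb.1, by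
        rw [(show Commute a b from hLab a ha.1 b hb.1).mul_pow, ha.2, hb.2, one_mul]⟩
      inv_mem' := fun {a} ha => ⟨L.inv_mem ha.1, by rw [inv_pow, ha.2, inv_one]⟩ }
  have hΩn : Ω.Normal := ⟨fun x hx g => ⟨(inferInstance : L.Normal).conj_mem x hx.1 g, by
    rw [conj_pow, hx.2, mul_one, mul_inv_cancel]⟩⟩
  have hΩ0 : Ω ≠ ⊥ := by
    obtain ⟨y, hy⟩ := exists_prime_orderOf_dvd_card' q hqd
    intro e
    have hmem : (y : G) ∈ Ω := ⟨y.2, by
      rw [← Subgroup.coe_pow, ← hy, pow_orderOf_eq_one, Subgroup.coe_one]⟩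
    rw [e, Subgroup.mem_bot] at hmem
    have : y = 1 := Subtype.ext hmem
    rw [this, orderOf_one] at hy
    exact hq.ne_one hy.symm
  have hexp : ∀ x ∈ L, x ^ q = 1 := fun x hx => ((hLmin Ω hΩn hΩ0) hx).2
  obtain ⟨χf, hχf⟩ : ∃ χ : IrrCharacter G, deg (χ : G → ℂ) ≠ 1 := by
    by_contra hno
    push Not at hno
    exact hna fun a b => TwoDeg.comm_of_forall fun χ => TwoDeg.kerC_top_of_linear χ (hno χ) a b
  set f := deg (χf : G → ℂ) with hf
  have hfp : f.Prime := (h χf).resolve_left hχf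
  refine ⟨f, q, hfp, ⟨χf, rfl⟩, fun s hs hsd => ?_⟩
  by_contra hne
  push Not at hne
  haveI := Fact.mk hs
  obtain ⟨t, ht⟩ := exists_prime_orderOf_dvd_card' s hsd
  have hcop : ∀ x ∈ L, x ^ s = 1 → x = 1 := fun x hx hxs => by
    have h1 := pow_gcd_eq_one.2 ⟨hxs, hexp x hx⟩
    rwa [(Nat.coprime_primes hs hq).2 hne.2, pow_one] at h1
  -- `t` does not centralize `L`
  obtain ⟨l, hl, hlt⟩ : ∃ l ∈ L, l * t ≠ t * l := by
    by_contra hno
    push Not at hno
    have hcen : ∀ x : G, x * t = t * x := fun x => by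
      have hm := hLmem x t
      have hc : Commute (x * t * x⁻¹ * t⁻¹) t := hno _ hm
      have h1 : (x * t * x⁻¹ * t⁻¹) ^ s = 1 := by
        have h2 : ((x * t * x⁻¹ * t⁻¹) * t) ^ s = 1 := by
          rw [inv_mul_cancel_right, conj_pow, ← ht, pow_orderOf_eq_one, mul_one, mul_inv_cancel]
        rwa [hc.mul_pow, ← ht, pow_orderOf_eq_one, mul_one, ht] at h2
      have h3 := hcop _ hm h1
      rwa [mul_inv_eq_one, mul_inv_eq_iff_eq_mul] at h3
    have hZn : (Subgroup.zpowers t).Normal := ⟨fun z hz g => by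
      obtain ⟨i, rfl⟩ := Subgroup.mem_zpowers_iff.1 hz
      have : Commute g (t ^ i) := (show Commute g t from hcen g).zpow_right i
      rw [this.eq, mul_inv_cancel_right]
      exact Subgroup.zpow_mem _ (Subgroup.mem_zpowers t) i⟩
    have hZ0 : Subgroup.zpowers t ≠ ⊥ := fun e => by
      rw [Subgroup.zpowers_eq_bot] at e
      rw [e, orderOf_one] at ht
      exact hs.ne_one ht.symm
    refine hL0 ((Subgroup.eq_bot_iff_forall _).2 fun x hx => hcop x hx ?_)
    obtain ⟨i, rfl⟩ := Subgroup.mem_zpowers_iff.1 (hLmin _ hZn hZ0 hx)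
    rw [← zpow_natCast, ← zpow_mul, mul_comm, zpow_mul, zpow_natCast, ← ht, pow_orderOf_eq_one,
      one_zpow]
  let H : Subgroup G := Subgroup.zpowers t ⊔ L
  haveI hHn : H.Normal := ⟨fun x hx g => by
    have h1 : g * x * g⁻¹ = (g * x * g⁻¹ * x⁻¹) * x := by rw [inv_mul_cancel_right]
    rw [h1]
    exact H.mul_mem (le_sup_right (a := Subgroup.zpowers t) (hLmem g x)) hx⟩
  haveI := Fintype.ofFinite H
  have htH : t ∈ H := le_sup_left (b := L) (Subgroup.mem_zpowers t)
  have hlH : l ∈ H := le_sup_right (a := Subgroup.zpowers t) hl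
  haveI : (L.subgroupOf H).Normal := (inferInstance : L.Normal).comap _
  have hidx : (L.subgroupOf H).index ∣ s := by
    rw [← Subgroup.relIndex, show H = Subgroup.zpowers t ⊔ L from rfl, Subgroup.relIndex_sup_right]
    exact (Subgroup.index_dvd_card _).trans (dvd_of_eq (by rw [Nat.card_zpowers, ht]))
  set c : H := ⁅(⟨l, hlH⟩ : H), ⟨t, htH⟩⁆ with hc
  have hv : (χf : G → ℂ) (c : G) = (χf : G → ℂ) 1 := by
    refine SolvDiv.value_of_constituents χf H fun θ hθ => ?_
    have h1 : deg (θ : H → ℂ) ∣ f := deg_dvd_of_constituent H hθ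
    have h2 : deg (θ : H → ℂ) ∣ s := (deg_dvd_index_abelian_normal θ.2 (L.subgroupOf H)
      (fun a b => Subtype.ext (Subtype.ext (hLab _ a.2 _ b.2)))).trans hidx
    have h3 : deg (θ : H → ℂ) = 1 :=
      Nat.eq_one_of_dvd_coprimes ((Nat.coprime_primes hfp hs).2 (Ne.symm hne.1)) h1 h2
    obtain ⟨m, hm⟩ := exists_hom_of_degree_one (irr_isCharacter θ.2)
      (by rw [char_one_eq_deg (irr_isCharacter θ.2), h3, Nat.cast_one])
    have h4 : m c = 1 := by
      rw [hc, map_commutatorElement, commutatorElement_eq_one_iff_mul_comm, mul_comm]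
    rw [hm]
    show ((m c : ℂˣ) : ℂ) = ((m 1 : ℂˣ) : ℂ)
    rw [h4, map_one]
  have hc1 : (c : G) ≠ 1 := fun e => by
    have e' : c = 1 := Subtype.ext e
    rw [hc, commutatorElement_eq_one_iff_mul_comm] at e'
    exact hlt (congrArg Subtype.val e')
  have hker : TwoDeg.kerC χf ≠ ⊥ := fun e => hc1 (by
    have := TwoDeg.mem_kerC_of_eq χf hv
    rwa [e, Subgroup.mem_bot] at this)
  exact hχf (deg_eq_one_of_comm_ker χf (hmin _ (TwoDeg.kerC_normal χf) hker))

/-- A character of degree prime to the index stays irreducible. -/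
theorem restrict_irr_of_coprime (K : Subgroup G) [K.Normal] [Fintype K] (χ : IrrCharacter G)
    (hd : (deg (χ : G → ℂ)).Prime) (hco : ¬ deg (χ : G → ℂ) ∣ K.index) :
    ∃ θ : IrrCharacter K, ∀ n : K, (χ : G → ℂ) n = (θ : K → ℂ) n := by
  classical
  obtain ⟨m, hm⟩ := exists_decomposition (isCharacter_comp K.subtype (irr_isCharacter χ.2))
  obtain ⟨θ, hθ⟩ : ∃ θ : IrrCharacter K,
      classInner (fun n : K => (χ : G → ℂ) n) (θ : K → ℂ) ≠ 0 := by
    by_contra hno
    push Not at hno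
    refine irr_one_ne_zero χ.2 ?_
    have h1 := congrFun hm 1
    rw [Function.comp_apply, map_one, Finset.sum_apply, Finset.sum_eq_zero fun η _ => by
      have : (m η : ℂ) = 0 := (decomposition_coeff m hm η).symm.trans (hno η)
      rw [Nat.cast_eq_zero.1 this, zero_smul]; rfl] at h1
    exact h1
  obtain ⟨k, hk⟩ := classInner_natCast (isCharacter_comp K.subtype (irr_isCharacter χ.2))
    (irr_isCharacter θ.2)
  have hk' : classInner (fun n : K => (χ : G → ℂ) n) (θ : K → ℂ) = k := hk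
  have h1 := congrFun (clifford_restrict χ θ hθ) 1
  rw [hk', OneMemClass.coe_one, Pi.smul_apply, Finset.sum_apply, smul_eq_mul,
    char_one_eq_deg (irr_isCharacter χ.2),
    Finset.sum_congr rfl (g := fun _ => (deg (θ : K → ℂ) : ℂ)) fun ψ hψ => by
      obtain ⟨g, rfl⟩ := mem_cliffOrbit.mp hψ
      rw [← char_one_eq_deg (irr_isCharacter θ.2)]
      simp,
    Finset.sum_const, nsmul_eq_mul] at h1
  have hmul : deg (χ : G → ℂ) = k * ((cliffOrbit K θ).card * deg (θ : K → ℂ)) := by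
    exact_mod_cast h1
  have hcard : (cliffOrbit K θ).card = 1 := by
    have hdv : (cliffOrbit K θ).card ∣ deg (χ : G → ℂ) := ⟨k * deg (θ : K → ℂ), by rw [hmul]; ring⟩
    rcases (Nat.dvd_prime hd).1 hdv with e | e
    · exact e
    · exact absurd (e ▸ card_cliffOrbit_dvd_index K θ) hco
  obtain ⟨ψ, hψ⟩ := Finset.card_eq_one.1 hcard
  have hψθ : ψ = θ := (Finset.mem_singleton.1 (hψ ▸ mem_cliffOrbit.mpr
    ⟨1, irrComp_conj_one θ⟩)).symm
  subst hψθ
  have hres : ∀ n : K, (χ : G → ℂ) n = (k : ℂ) * (ψ : K → ℂ) n := fun n => by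
    have := congrFun (clifford_restrict χ ψ hθ) n
    rwa [hk', hψ, Finset.sum_singleton, Pi.smul_apply, smul_eq_mul] at this
  rw [hcard, one_mul] at hmul
  rcases (Nat.dvd_prime hd).1 ⟨_, hmul⟩ with e | e
  · exact ⟨ψ, fun n => by rw [hres, e, Nat.cast_one, one_mul]⟩
  exfalso
  have hθ1 : deg (ψ : K → ℂ) = 1 := by
    have h2 := hd.pos
    rw [e] at hmul
    exact Nat.eq_of_mul_eq_mul_left h2 (by rw [← hmul, mul_one])
  obtain ⟨l, hl⟩ := exists_hom_of_degree_one (irr_isCharacter ψ.2)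
    (by rw [char_one_eq_deg (irr_isCharacter ψ.2), hθ1, Nat.cast_one])
  have hKz : K ≤ TwoDeg.cz χ := fun g hg => by
    rw [TwoDeg.mem_cz_iff, hres ⟨g, hg⟩, hl, norm_mul, Complex.norm_natCast, e]
    have hfin : IsOfFinOrder (l ⟨g, hg⟩) := l.isOfFinOrder (isOfFinOrder_of_finite _)
    have : ‖((l ⟨g, hg⟩ : ℂˣ) : ℂ)‖ = 1 :=
      Complex.norm_eq_one_of_pow_eq_one (n := orderOf (l ⟨g, hg⟩)) (by
        rw [← Units.val_pow_eq_pow_val, pow_orderOf_eq_one, Units.val_one]) hfin.orderOf_pos.ne'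
    rw [this, mul_one]
  haveI : Fintype (G ⧸ TwoDeg.kerC χ) := Fintype.ofFinite _
  obtain ⟨χ', hχ'⟩ := exists_deflate (TwoDeg.kerC χ) χ.2 (fun n hn => by
    have := hn 1
    rwa [mul_one] at this)
  have hdeg' : deg (χ' : G ⧸ TwoDeg.kerC χ → ℂ) = deg (χ : G → ℂ) := by
    rw [deg, deg, ← hχ' 1, QuotientGroup.mk_one]
  have h2 := deg_dvd_index_central χ'.2 (K.map (QuotientGroup.mk' (TwoDeg.kerC χ)))
    (Subgroup.map_le_iff_le_comap.2 hKz)
  rw [hdeg'] at h2
  exact hco (h2.trans (Subgroup.index_map_dvd _ (QuotientGroup.mk'_surjective _)))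

/-- At most three degrees. -/
theorem exists_two_primes (h : PrimeDeg G) :
    ∃ f q : ℕ, ∀ χ : IrrCharacter G,
      deg (χ : G → ℂ) = 1 ∨ deg (χ : G → ℂ) = f ∨ deg (χ : G → ℂ) = q := by
  classical
  haveI := isSolvable _ G rfl h
  by_cases hab : ∀ a b : G, a * b = b * a
  · refine ⟨1, 1, fun χ => Or.inl ?_⟩
    have h1 := (forall_linear_iff_comm.1 hab) χ
    rw [char_one_eq_deg (irr_isCharacter χ.2), Nat.cast_eq_one] at h1
    exact h1
  obtain ⟨K, ⟨hK, hKna⟩, hKmax⟩ := Set.Finite.exists_maximal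
    (s := {K : Subgroup G | K.Normal ∧ ¬ ∀ x y : G, x * y * x⁻¹ * y⁻¹ ∈ K}) (Set.toFinite _)
    ⟨⊥, inferInstance, fun hc => hab fun a b => by
      have := hc a b
      rwa [Subgroup.mem_bot, mul_inv_eq_one, mul_inv_eq_iff_eq_mul] at this⟩
  haveI := hK
  haveI := Fintype.ofFinite K
  haveI : Fintype (G ⧸ K) := Fintype.ofFinite _
  haveI : Group.IsSolvable (G ⧸ K) :=
    Group.isSolvable_of_surjective (QuotientGroup.mk'_surjective K)
  have hmk : ∀ x y : G, (x : G ⧸ K) * y * (x : G ⧸ K)⁻¹ * (y : G ⧸ K)⁻¹ =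
      ((x * y * x⁻¹ * y⁻¹ : G) : G ⧸ K) := fun x y => rfl
  obtain ⟨f, q, hfp, ⟨ψ, hψ⟩, hpr⟩ := primes_of_minimal (primeDeg_quotient h K)
    (fun hc => hKna fun x y => (QuotientGroup.eq_one_iff _).1 (by
      rw [← hmk, mul_inv_eq_one, mul_inv_eq_iff_eq_mul]; exact hc _ _))
    (fun N hN hN0 a b => by
      obtain ⟨x, rfl⟩ := QuotientGroup.mk_surjective a
      obtain ⟨y, rfl⟩ := QuotientGroup.mk_surjective b
      by_contra hxy
      have hle : K ≤ N.comap (QuotientGroup.mk' K) := fun k hk => by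
        rw [Subgroup.mem_comap, QuotientGroup.mk'_apply, (QuotientGroup.eq_one_iff k).2 hk]
        exact N.one_mem
      have hge := hKmax (y := N.comap (QuotientGroup.mk' K))
        ⟨hN.comap _, fun hc => hxy (hc x y)⟩ hle
      refine hN0 (eq_bot_iff.2 fun z hz => ?_)
      obtain ⟨w, rfl⟩ := QuotientGroup.mk_surjective z
      exact Subgroup.mem_bot.2 ((QuotientGroup.eq_one_iff w).2 (hge hz)))
  refine ⟨f, q, fun χ => ?_⟩
  by_contra hne
  push Not at hne
  obtain ⟨h1, hnf, hnq⟩ := hne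
  have hp := (h χ).resolve_left h1
  have hco : ¬ deg (χ : G → ℂ) ∣ K.index := fun hd => by
    rcases hpr _ hp hd with e | e
    · exact hnf e
    · exact hnq e
  obtain ⟨θ, hθ⟩ := restrict_irr_of_coprime K χ hp hco
  have hgal := gallagher_one K θ (irr_isCharacter χ.2) hθ
  let β := (inflateEquiv K ψ).1
  have hβ1 : (β : G → ℂ) 1 = (f : ℂ) := by
    rw [inflateEquiv_apply, QuotientGroup.mk_one, char_one_eq_deg (irr_isCharacter ψ.2), hψ]
  have hmem : IsIrrCharacter G ((β : G → ℂ) * (χ : G → ℂ)) :=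
    (hgal.mapsTo (x := (β : G → ℂ)) ⟨β.2, fun n => by
      rw [inflateEquiv_apply, inflateEquiv_apply, (QuotientGroup.eq_one_iff (n : G)).2 n.2,
        QuotientGroup.mk_one]⟩).1
  have hprod : deg ((⟨_, hmem⟩ : IrrCharacter G) : G → ℂ) = f * deg (χ : G → ℂ) :=
    Nat.cast_injective (R := ℂ) (by
      rw [← char_one_eq_deg (irr_isCharacter hmem)]
      push_cast
      rw [Pi.mul_apply, hβ1, char_one_eq_deg (irr_isCharacter χ.2)])
  rcases h ⟨_, hmem⟩ with e | e <;> rw [hprod] at e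
  · exact hfp.ne_one (Nat.eq_one_of_mul_eq_one_right e)
  · exact Nat.not_prime_mul hfp.ne_one hp.ne_one e

theorem ncard_degrees_le (h : PrimeDeg G) : Nat.card ↥(charDegrees G) ≤ 3 := by
  classical
  obtain ⟨f, q, hfq⟩ := exists_two_primes h
  have hsub : charDegrees G ⊆ ↑({1, f, q} : Finset ℕ) := by
    rintro d ⟨χ, rfl⟩
    rcases hfq χ with e | e | e <;> simp [charDegree_eq_deg, e]
  rw [Nat.card_coe_set_eq]
  exact (Set.ncard_le_ncard hsub (Finset.finite_toSet _)).trans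
    ((Set.ncard_coe_finset _).trans_le Finset.card_le_three)

end Cfsg.Agent.Char.PrimeDegrees
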