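import Cfsg.Agent.Lib.Char.IdemClasses
import Cfsg.Agent.Lib.Char.IdemTrace
import Cfsg.Agent.Lib.Char.ModTrace
import Cfsg.Agent.Lib.Char.FrobSylowLift
import Cfsg.Agent.Lib.Char.IndSpan
import Cfsg.Agent.Lib.Char.MonomialNilp
import Cfsg.Agent.Lib.Char.PrimeDegreesThree

/-!
# Decomposition numbers from idempotents of the group algebra over the local ring

Rank one idempotents of the residue algebra give a family of natural numbers `dec j χ` with linearly independent
columns; the values of the irreducible characters on regular elements are combinations of the Brauer functions,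
which are integral combinations of the irreducible characters.
-/

set_option autoImplicit false
set_option linter.unusedSectionVars false
set_option linter.style.haveILetI false

namespace Cfsg.Agent.Char.DecompLattice

open Cfsg Matrix IdemAlg IdemTrace
open scoped ComplexConjugate

universe u

variable {G : Type u} [Group G] [Fintype G] {M : Ideal AlgInt} {p : ℕ}

/-- The Wedderburn data of the residue algebra. -/
structure Data (hM : IsPModular p M) (G : Type u) [Group G] [Fintype G] where
  m : ℕ
  d : Fin m → ℕ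
  hd : ∀ j, 0 < d j
  π : OA (pmod_prime hM) G →+* ∀ j, Matrix (Fin (d j)) (Fin (d j)) (Res (pmod_prime hM))
  good : IdemClass.Good π
  smul : ∀ (c : locRing (pmod_prime hM)) (x : OA (pmod_prime hM) G),
    π (c • x) = redHom (pmod_prime hM) c • π x
  f : Fin m → OA (pmod_prime hM) G
  hf : ∀ j, IsIdempotentElem (f j) ∧
    π (f j) = Pi.single j (single (⟨0, hd j⟩ : Fin (d j)) ⟨0, hd j⟩ (1 : Res (pmod_prime hM)))

theorem exists_data (hM : IsPModular p M) : Nonempty (Data hM G) := by
  classical
  set hP := pmod_prime hM with hPdef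
  obtain ⟨m, d, P, hd, hPs, I, K, hIK, hPI⟩ :=
    exists_pi_matrix (k := Res hP) (R := MonoidAlgebra (Res hP) G)
  let rd : OA hP G →+* MonoidAlgebra (Res hP) G := MonoidAlgebra.mapRingHom G (redHom hP)
  let π := P.toRingHom.comp rd
  have hrd : ∀ (x : OA hP G) (g : G), (rd x).coeff g = red hP (co x g) := fun x g => by
    rw [co, ← redHom_apply]
    simp [rd]
  have hrds : Function.Surjective rd := fun r => by
    choose s hs using fun g => Ideal.Quotient.mk_surjective (I := resIdeal hP) (r.coeff g)
    refine ⟨ofFun hP (fun g => ((s g : locRing hP) : ℂ)) (fun g => (s g).2),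
      MonoidAlgebra.coeff_injective (Finsupp.ext fun g => ?_)⟩
    rw [hrd, show co (ofFun hP (fun g => ((s g : locRing hP) : ℂ)) fun g => (s g).2) g =
      ((s g : locRing hP) : ℂ) from congrFun (co_ofFun _ _) g, ← redHom_apply]
    exact hs g
  have hsmul : ∀ (c : locRing hP) (x : OA hP G), π (c • x) = redHom hP c • π x := fun c x => by
    have e : rd (c • x) = redHom hP c • rd x := MonoidAlgebra.coeff_injective (Finsupp.ext fun g => by
      simp [rd])
    show P (rd (c • x)) = redHom hP c • P (rd x)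
    rw [e, map_smul]
  have hunit : ∀ a, π a = 0 → IsUnit (1 - a) := by
    intro a ha
    have hn : IsNilpotent (rd a) := ⟨K, by
      have h1 := Ideal.pow_mem_pow (hPI _ ha) K
      rwa [hIK, Ideal.mem_bot] at h1⟩
    obtain ⟨v, hv⟩ := hn.isUnit_one_sub
    obtain ⟨b, hb⟩ := hrds (v⁻¹ : (MonoidAlgebra (Res hP) G)ˣ)
    have hu : ∀ w : OA hP G, rd w = 1 → IsUnit w := fun w hw => by
      have hm : ∀ g, MemLocalIdeal M (co (1 - w) g) := fun g => by
        refine (red_eq_zero_iff hP (memLR_co _ g)).1 ?_
        rw [← hrd, map_sub, map_one, hw, sub_self]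
        simp
      obtain ⟨F, hF⟩ := exists_inv_one_sub (1 - w) hm
      have hc : Commute (Polynomial.aeval (1 - w) F) (1 - w) := by
        have := (Commute.all F Polynomial.X).map (Polynomial.aeval (R := locRing hP) (1 - w))
        rwa [Polynomial.aeval_X] at this
      rw [sub_sub_cancel] at hF
      refine ⟨⟨w, Polynomial.aeval (1 - w) F, ?_, hF⟩, rfl⟩
      have := (Commute.one_right (Polynomial.aeval (1 - w) F)).sub_right hc
      rw [sub_sub_cancel] at this
      rw [← this.eq, hF]
    obtain ⟨x1, hx1⟩ := (hu ((1 - a) * b) (by rw [map_mul, map_sub, map_one, ← hv, hb, Units.mul_inv])).exists_right_inv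
    obtain ⟨x2, hx2⟩ := (hu (b * (1 - a)) (by rw [map_mul, map_sub, map_one, ← hv, hb, Units.inv_mul])).exists_left_inv
    exact isUnit_iff_exists.2 ⟨b * x1, by rw [← mul_assoc, hx1], by
      have e : x2 * b = b * x1 := left_inv_eq_right_inv (a := 1 - a)
        (by rw [mul_assoc, hx2]) (by rw [← mul_assoc, hx1])
      rw [← e, mul_assoc, hx2]⟩
  have hlift : ∀ e x : OA hP G, IsIdempotentElem e → e * x = x → x * e = x → IsIdempotentElem (π x) →
      ∃ f, IsIdempotentElem f ∧ e * f = f ∧ f * e = f ∧ π f = π x := by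
    intro e x _ hex hxe hx
    obtain ⟨Q, hQm, hQx⟩ := exists_monic x
    obtain ⟨g, hg0, hgd, hg1⟩ := IdemLift.exists_separator hP hQm
    let J : Submodule (locRing hP) (OA hP G) :=
      { carrier := {y | π y = 0}
        add_mem' := fun {a b} ha hb => by
          show π (a + b) = 0
          rw [map_add, show π a = 0 from ha, show π b = 0 from hb, add_zero]
        zero_mem' := map_zero π
        smul_mem' := fun c y hy => by
          show π (c • y) = 0
          rw [hsmul, show π y = 0 from hy, smul_zero] }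
    have hJ := IdemLift.aeval_sub_mem hg0 hg1 hQx J
      (fun y hy => by show π (x * y) = 0; rw [map_mul, show π y = 0 from hy, mul_zero])
      (fun c hc => by
        show π (c • x) = 0
        rw [hsmul, redHom_apply, (red_eq_zero_iff hP c.2).2 hc, zero_smul])
      (by show π (x * x - x) = 0; rw [map_sub, map_mul, hx.eq, sub_self])
    obtain ⟨q, rfl⟩ : Polynomial.X ∣ g :=
      Polynomial.X_dvd_iff.mpr (by rw [Polynomial.coeff_zero_eq_eval_zero, hg0])
    refine ⟨_, IdemLift.idem_of_dvd hgd hQx, ?_, ?_, sub_eq_zero.1 ((map_sub π _ _).symm.trans hJ)⟩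
    · rw [map_mul, Polynomial.aeval_X, ← mul_assoc, hex]
    · rw [mul_comm Polynomial.X q, map_mul, Polynomial.aeval_X, mul_assoc, hxe]
  have hgood : IdemClass.Good π := ⟨hPs.comp hrds, hunit, hlift⟩
  obtain ⟨f, hf⟩ := IdemClass.exists_rank_one hgood hd
  exact ⟨⟨m, d, hd, π, hgood, hsmul, f, hf⟩⟩

variable {hM : IsPModular p M} (D : Data hM G)

theorem exists_dec (χ : IrrCharacter G) (j : Fin D.m) :
    ∃ n : ℕ, trC (χ : G → ℂ) (D.f j) = n :=
  exists_nat_trC (irr_isCharacter χ.2) (D.hf j).1

/-- The decomposition numbers. -/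
noncomputable def dec (j : Fin D.m) (χ : IrrCharacter G) : ℕ := (exists_dec D χ j).choose

theorem dec_spec (j : Fin D.m) (χ : IrrCharacter G) : trC (χ : G → ℂ) (D.f j) = dec D j χ :=
  (exists_dec D χ j).choose_spec

/-- The trace of an idempotent in terms of the decomposition numbers. -/
theorem trC_idem {e : OA (pmod_prime hM) G} (he : IsIdempotentElem e) (χ : IrrCharacter G) :
    trC (χ : G → ℂ) e = ∑ j, ((D.π e j).rank : ℂ) * dec D j χ := by
  have h := IdemClass.value_eq D.good
    (AddMonoidHom.mk' (fun x => trC (χ : G → ℂ) x) (fun x y => trC_add _ x y))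
    (fun x y => trC_mul_comm (irr_isCharacter χ.2) x y) D.hd D.hf he
  simp only [AddMonoidHom.mk'_apply, nsmul_eq_mul, dec_spec] at h
  exact h

theorem exists_lamIdem {Q : Subgroup G} (hQ : ¬ p ∣ Nat.card Q) (lam : Q →* ℂˣ) :
    ∃ e : OA (pmod_prime hM) G, IsIdempotentElem e ∧ ∀ f : G → ℂ,
      trC f e = (Nat.card Q : ℂ)⁻¹ * ∑ q : G, extendByZero Q (fun x => ((lam x)⁻¹ : ℂˣ)) q * f q := by
  classical
  haveI := Fintype.ofFinite Q
  set F : G → ℂ := fun g => (Nat.card Q : ℂ)⁻¹ * extendByZero Q (fun x => ((lam x)⁻¹ : ℂˣ)) g with hF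
  have hQ0 : (Nat.card Q : ℂ) ≠ 0 := Nat.cast_ne_zero.mpr Nat.card_pos.ne'
  have hFR : ∀ g, MemLocalRing M (F g) := fun g => by
    refine memLR_mul (pmod_prime hM) (memLR_inv_natCast hM hQ) ?_
    by_cases hg : g ∈ Q
    · rw [extendByZero_mem Q _ hg]
      refine memLocalRing_of_isIntegral (pmod_prime hM).ne_top ?_
      refine root_of_unity_isIntegral (N := Nat.card Q) Nat.card_pos.ne' ?_
      rw [← Units.val_pow_eq_pow_val, inv_pow, ← map_pow, pow_card_eq_one', map_one, inv_one,
        Units.val_one]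
    · rw [extendByZero_not_mem Q _ hg]; exact memLR_zero (pmod_prime hM)
  refine ⟨ofFun _ F hFR, ext_co fun g => ?_, fun f => ?_⟩
  · rw [co_mul, co_ofFun]
    show ∑ y : G, F y * F (y⁻¹ * g) = F g
    simp only [hF, mul_assoc, ← Finset.mul_sum]
    rw [sum_extendByZero_mul Q]
    by_cases hg : g ∈ Q
    · rw [Finset.sum_congr rfl (g := fun y : Q =>
        (Nat.card Q : ℂ)⁻¹ * (((lam ⟨g, hg⟩)⁻¹ : ℂˣ) : ℂ)) fun y _ => ?_,
        Finset.sum_const, Finset.card_univ, nsmul_eq_mul, ← Nat.card_eq_fintype_card,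
        extendByZero_mem Q _ hg]
      · field_simp
      · rw [extendByZero_mem Q _ (Q.mul_mem (Q.inv_mem y.2) hg), mul_left_comm]
        congr 1
        rw [← Units.val_mul, ← _root_.mul_inv_rev, ← map_mul]
        congr 2
        rw [map_mul, mul_comm, ← map_mul]
        exact congrArg lam (Subtype.ext (mul_inv_cancel_left _ _))
    · rw [Finset.sum_eq_zero fun y _ => ?_, mul_zero, extendByZero_not_mem Q _ hg, mul_zero]
      rw [extendByZero_not_mem Q _ fun h => hg ?_, mul_zero, mul_zero]
      simpa using Q.mul_mem y.2 h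
  · simp only [trC, co_ofFun, hF, Finset.mul_sum, mul_assoc]

/-- The values at a regular element lie in the span of the columns, with integral coefficients. -/
theorem exists_brauer {x : G} (hx : ¬ p ∣ orderOf x) :
    ∃ b : Fin D.m → ℂ, (∀ j, IsIntegral ℤ (b j)) ∧
      ∀ χ : IrrCharacter G, (χ : G → ℂ) x = ∑ j, b j * dec D j χ := by
  classical
  let Q := Subgroup.zpowers x
  haveI := Fintype.ofFinite Q
  have hQ : ¬ p ∣ Nat.card Q := by rwa [Nat.card_zpowers]
  have hlin : ∀ ψ : IrrCharacter Q, ∃ l : Q →* ℂˣ, (ψ : Q → ℂ) = fun q => (l q : ℂ) := fun ψ => by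
    refine exists_hom_of_degree_one (irr_isCharacter ψ.2) ?_
    rw [char_one_eq_deg (irr_isCharacter ψ.2), PrimeDegrees.deg_eq_one_of_comm_ker ψ fun a b => ?_, Nat.cast_one]
    have hab : a * b = b * a := by
      obtain ⟨i, hi⟩ := Subgroup.mem_zpowers_iff.1 a.2
      obtain ⟨j, hj⟩ := Subgroup.mem_zpowers_iff.1 b.2
      exact Subtype.ext (by simp [← hi, ← hj, ← _root_.zpow_add, add_comm])
    rw [hab, mul_assoc, mul_assoc, ← mul_assoc a a⁻¹, mul_inv_cancel, one_mul, mul_inv_cancel]
    exact Subgroup.one_mem _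
  choose l hl using hlin
  choose e he htr using fun ψ : IrrCharacter Q => exists_lamIdem (hM := hM) hQ (l ψ)
  let x' : Q := ⟨x, Subgroup.mem_zpowers x⟩
  refine ⟨fun j => ∑ ψ : IrrCharacter Q, (ψ : Q → ℂ) x' * ((D.π (e ψ) j).rank : ℂ),
    fun j => IsIntegral.sum _ fun ψ _ =>
      (char_isIntegral (irr_isCharacter ψ.2) x').mul (isIntegral_algebraMap (R := ℤ) (A := ℂ) (x := ((D.π (e ψ) j).rank : ℤ))),
    fun χ => ?_⟩
  have hc : IsClassFunction Q (fun q : Q => (χ : G → ℂ) q) :=
    isClassFunction_character (isCharacter_comp Q.subtype (irr_isCharacter χ.2))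
  have h1 := congrFun (classFun_expansion hc) x'
  simp only [Finset.sum_apply, Pi.smul_apply, smul_eq_mul] at h1
  rw [h1]
  simp only [Finset.sum_mul]
  rw [Finset.sum_comm]
  refine Finset.sum_congr rfl fun ψ _ => ?_
  have h2 : classInner (fun q : Q => (χ : G → ℂ) q) (ψ : Q → ℂ) = trC (χ : G → ℂ) (e ψ) := by
    rw [htr ψ, classInner, sum_extendByZero_mul Q]
    congr 1
    refine Finset.sum_congr rfl fun q _ => ?_
    rw [← char_inv (irr_isCharacter ψ.2), hl ψ, mul_comm]
    simp
  rw [h2, trC_idem D (he ψ), Finset.sum_mul]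
  exact Finset.sum_congr rfl fun j _ => by ring

/-- Trace functions of the simple components separate. -/
theorem traces_independent (s : Fin D.m → Res (pmod_prime hM))
    (h : ∀ g : G, ¬ p ∣ orderOf g → ∑ j, s j * (D.π (gen _ g) j).trace = 0) : s = 0 := by
  classical
  haveI := charP_res (pmod_prime hM) hM
  have hall : ∀ g : G, ∑ j, s j * (D.π (gen _ g) j).trace = 0 := fun g => by
    have hr := (preg_spec hM.1 g).2.1
    refine Eq.trans (Finset.sum_congr rfl fun j _ => ?_) (h (preg p g) hr)
    let ρ : G →* Module.End (Res (pmod_prime hM)) (Fin (D.d j) → Res (pmod_prime hM)) :=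
      { toFun := fun g => Matrix.toLin' (D.π (gen _ g) j)
        map_one' := by rw [gen_one, map_one, Pi.one_apply, Matrix.toLin'_one]; rfl
        map_mul' := fun a b => by rw [gen_mul, map_mul, Pi.mul_apply, Matrix.toLin'_mul]; rfl }
    have e := trace_eq_preg hM.1 ρ g
    simp only [ρ, MonoidHom.coe_mk, OneHom.coe_mk, Matrix.trace_toLin'_eq] at e
    rw [e]
  funext j
  obtain ⟨a, ha⟩ := D.good.surj (Pi.single j (single ⟨0, D.hd j⟩ ⟨0, D.hd j⟩ 1))
  have hlin : ∀ x : OA (pmod_prime hM) G, ∑ i, s i * (D.π x i).trace = 0 := by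
    intro x
    induction x using MonoidAlgebra.induction_linear with
    | zero => simp
    | add y z hy hz =>
      simp only [map_add, Pi.add_apply, Matrix.trace_add, mul_add, Finset.sum_add_distrib, hy, hz,
        add_zero]
    | single g c =>
      rw [show MonoidAlgebra.single g c = c • gen (pmod_prime hM) g by simp [gen], D.smul]
      simp only [Pi.smul_apply, Matrix.trace_smul, smul_eq_mul, mul_left_comm (s _), ← Finset.mul_sum,
        hall g, mul_zero]
  have h2 := hlin a
  rw [ha, Finset.sum_eq_single j (fun i _ hi => by rw [Pi.single_eq_of_ne hi, Matrix.trace_zero, mul_zero])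
    (fun hn => absurd (Finset.mem_univ j) hn), Pi.single_eq_same, Matrix.trace_single_eq_same, mul_one] at h2
  exact h2

/-- The Brauer functions. -/
theorem exists_brauer_fun : ∃ β : G → Fin D.m → ℂ,
    ∀ x, ¬ p ∣ orderOf x → ∀ χ : IrrCharacter G, (χ : G → ℂ) x = ∑ j, β x j * dec D j χ := by
  classical
  choose β hβi hβ using fun x : {x : G // ¬ p ∣ orderOf x} => exists_brauer D x.2
  exact ⟨fun x => if hx : ¬ p ∣ orderOf x then β ⟨x, hx⟩ else 0, fun x hx χ => by
    simp only [dif_pos hx]; exact hβ ⟨x, hx⟩ χ⟩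

/-- The columns of decomposition numbers and the Brauer functions are linearly independent. -/
theorem independent {β : G → Fin D.m → ℂ}
    (hβ' : ∀ x, ¬ p ∣ orderOf x → ∀ χ : IrrCharacter G, (χ : G → ℂ) x = ∑ j, β x j * dec D j χ) :
    (∀ b : Fin D.m → ℂ, (∀ χ : IrrCharacter G, ∑ j, b j * dec D j χ = 0) → b = 0) ∧
      ∀ t : Fin D.m → ℂ, (∀ x, ¬ p ∣ orderOf x → ∑ j, t j * β x j = 0) → t = 0 := by
  classical
  let RC := {C : ConjClasses G // ¬ p ∣ orderOf C.out}
  haveI : Fintype RC := Fintype.ofFinite _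
  have hout : ∀ {g : G}, IsConj (ConjClasses.mk g).out g := fun {g} =>
    ConjClasses.mk_eq_mk_iff_isConj.1 (Quotient.out_eq _)
  have hord : ∀ {a b : G}, IsConj a b → orderOf a = orderOf b := fun hab => by
    obtain ⟨c, hc⟩ := isConj_iff.1 hab
    rw [← hc, ← MulAut.conj_apply, MulEquiv.orderOf_eq]
  -- at most as many components as regular classes
  let T : (Fin D.m → Res (pmod_prime hM)) →ₗ[Res (pmod_prime hM)] (RC → Res (pmod_prime hM)) :=
    { toFun := fun s C => ∑ j, s j * (D.π (gen _ C.1.out) j).trace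
      map_add' := fun s t => by funext C; simp [add_mul, Finset.sum_add_distrib]
      map_smul' := fun c s => by funext C; simp [Finset.mul_sum, mul_assoc] }
  have hT : Function.Injective T := by
    rw [injective_iff_map_eq_zero]
    intro s hs
    refine traces_independent D s fun g hg => ?_
    have hC : ¬ p ∣ orderOf (ConjClasses.mk g).out := by rwa [hord hout]
    obtain ⟨c, hc⟩ := isConj_iff.1 (hout (g := g))
    refine Eq.trans (Finset.sum_congr rfl fun j _ => ?_) (congrFun hs ⟨_, hC⟩)
    show s j * _ = s j * (D.π (gen _ (ConjClasses.mk g).out) j).trace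
    conv_lhs => rw [← hc]
    simp only [gen_mul, map_mul, Pi.mul_apply]
    rw [Matrix.trace_mul_comm, ← mul_assoc, ← Pi.mul_apply, ← map_mul, ← gen_mul, inv_mul_cancel,
      gen_one, map_one, Pi.one_apply, one_mul]
  have hle : D.m ≤ Fintype.card RC := by
    have := LinearMap.finrank_le_finrank_of_injective hT
    simpa using this
  -- the values factor through the columns
  have hβ : ∀ (C : RC) (χ : IrrCharacter G), (χ : G → ℂ) C.1.out = ∑ j, β C.1.out j * dec D j χ := fun C χ =>
    hβ' _ C.2 χ
  let T1 : (IrrCharacter G → ℂ) →ₗ[ℂ] (Fin D.m → ℂ) :=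
    { toFun := fun s j => ∑ χ, s χ * dec D j χ
      map_add' := fun s t => by funext j; simp [add_mul, Finset.sum_add_distrib]
      map_smul' := fun c s => by funext j; simp [Finset.mul_sum, mul_assoc] }
  let Bm : (Fin D.m → ℂ) →ₗ[ℂ] (RC → ℂ) :=
    { toFun := fun t C => ∑ j, t j * β C.1.out j
      map_add' := fun s t => by funext C; simp [add_mul, Finset.sum_add_distrib]
      map_smul' := fun c s => by funext C; simp [Finset.mul_sum, mul_assoc] }
  have hS : ∀ v : RC → ℂ, ∃ s, Bm (T1 s) = v := by
    intro v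
    set F : G → ℂ := fun g => if hC : ¬ p ∣ orderOf (ConjClasses.mk g).out then v ⟨_, hC⟩ else 0 with hF
    have hcF : IsClassFunction G F := fun g k => by
      simp only [hF]
      rw [show ConjClasses.mk (k * g * k⁻¹) = ConjClasses.mk g from
        ConjClasses.mk_eq_mk_iff_isConj.2 (IsConj.symm (isConj_iff.2 ⟨k, rfl⟩))]
    refine ⟨fun χ => classInner F (χ : G → ℂ), funext fun C => ?_⟩
    have hC : ConjClasses.mk C.1.out = C.1 := Quotient.out_eq _
    calc ∑ j, (∑ χ : IrrCharacter G, classInner F (χ : G → ℂ) * dec D j χ) * β C.1.out j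
        = ∑ χ : IrrCharacter G, classInner F (χ : G → ℂ) * (χ : G → ℂ) C.1.out := by
          simp only [Finset.sum_mul, hβ C, Finset.mul_sum]
          rw [Finset.sum_comm]
          exact Finset.sum_congr rfl fun χ _ => Finset.sum_congr rfl fun j _ => by ring
      _ = F C.1.out := by
          have h1 := congrFun (classFun_expansion hcF) C.1.out
          simp only [Finset.sum_apply, Pi.smul_apply, smul_eq_mul] at h1
          exact h1.symm
      _ = v C := by
          simp only [hF, hC]
          rw [dif_pos C.2]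
  have hBs : Function.Surjective Bm := fun v => by
    obtain ⟨s, hs⟩ := hS v
    exact ⟨_, hs⟩
  have hdim : Module.finrank ℂ (Fin D.m → ℂ) = Module.finrank ℂ (RC → ℂ) := by
    refine le_antisymm (by simpa using hle) ?_
    have := LinearMap.finrank_le_finrank_of_surjective hBs
    exact this
  have hBi : Function.Injective Bm :=
    (LinearMap.injective_iff_surjective_of_finrank_eq_finrank hdim).2 hBs
  refine ⟨fun b h => ?_, fun t ht => hBi ((funext fun C : RC => ht _ C.2).trans (map_zero Bm).symm)⟩
  funext j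
  obtain ⟨s, hs⟩ := hS (Bm (Pi.single j 1))
  have h1 := hBi hs
  calc b j = ∑ i, b i * (Pi.single j (1 : ℂ) : Fin D.m → ℂ) i := by
        simp [Pi.single_apply]
    _ = ∑ i, b i * ∑ χ, s χ * dec D i χ := by rw [← h1]; rfl
    _ = ∑ χ, s χ * ∑ i, b i * dec D i χ := by
        simp only [Finset.mul_sum]
        rw [Finset.sum_comm]
        exact Finset.sum_congr rfl fun χ _ => Finset.sum_congr rfl fun i _ => by ring
    _ = 0 := by simp [h]

theorem dec_independent (b : Fin D.m → ℂ)
    (h : ∀ χ : IrrCharacter G, ∑ j, b j * dec D j χ = 0) : b = 0 := by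
  obtain ⟨β, hβ⟩ := exists_brauer_fun D
  exact (independent D hβ).1 b h

/-- The Brauer functions are linearly independent on the regular elements. -/
theorem brauer_functions_independent {β : G → Fin D.m → ℂ}
    (hβ : ∀ x, ¬ p ∣ orderOf x → ∀ χ : IrrCharacter G, (χ : G → ℂ) x = ∑ j, β x j * dec D j χ)
    (s : Fin D.m → ℂ) (h : ∀ x, ¬ p ∣ orderOf x → ∑ i, s i * β x i = 0) (i : Fin D.m) : s i = 0 :=
  congrFun ((independent D hβ).2 s h) i

theorem brauer_unique {β β' : Fin D.m → ℂ}
    (h : ∀ χ : IrrCharacter G, ∑ j, β j * dec D j χ = ∑ j, β' j * dec D j χ) : β = β' :=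
  sub_eq_zero.1 (dec_independent D (β - β') fun χ => by
    simp [sub_mul, Finset.sum_sub_distrib, h χ])

/-- The Brauer functions composed with the regular part are generalized characters. -/
theorem isGenChar_brauer {β : G → Fin D.m → ℂ}
    (hβ : ∀ x, ¬ p ∣ orderOf x → ∀ χ : IrrCharacter G, (χ : G → ℂ) x = ∑ j, β x j * dec D j χ)
    (j : Fin D.m) : IsGeneralizedCharacter G (fun x => β (preg p x) j) := by
  classical
  have hp := hM.1
  haveI := Fact.mk hp
  have hc : IsClassFunction G (fun x => β (preg p x) j) := fun x k => by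
    show β (preg p (k * x * k⁻¹)) j = β (preg p x) j
    refine congrFun (brauer_unique D fun χ => ?_) j
    rw [← hβ _ (preg_spec hp _).2.1 χ, ← hβ _ (preg_spec hp _).2.1 χ, preg_conj hp,
      isClassFunction_character (irr_isCharacter χ.2)]
  refine brauer_characterization hc fun E ℓ hℓ hE => ?_
  haveI : Group.IsNilpotent E := isNilpotent_of_isElementary hℓ hE
  haveI := Fintype.ofFinite E
  have hcE : IsClassFunction E (fun e : E => β (preg p (e : G)) j) :=
    isClassFunction_restrict (H := E) hc
  rw [classFun_expansion hcE]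
  have hz : ∀ ψ : IrrCharacter E, ∃ z : ℤ,
      classInner (fun e : E => β (preg p (e : G)) j) (ψ : E → ℂ) = z := by
    intro ψ
    obtain ⟨H, lam, hlam⟩ := monomial_of_nilpotent _ E rfl _ ψ.2
    haveI := Fintype.ofFinite H
    rw [hlam, frobenius_right H _ hcE]
    have hEH := isElementary_subgroup hℓ hE H
    let φ : H →* H := MonoidHom.mk' (fun a => ppt p a) (ppt_mul_of_elementary hℓ hp hEH)
    have hsplit : ∀ a : H, φ a * preg p a = a := fun a => ppt_mul_preg a
    let Q : Subgroup H := φ.ker
    have hregmem : ∀ a : H, preg p a ∈ Q := fun a => by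
      have h1 := congrArg φ (hsplit a)
      rw [map_mul] at h1
      have h2 : φ (φ a) = φ a := by
        show ppt p (ppt p a) = ppt p a
        obtain ⟨i, hi⟩ := ppt_ppower hp a
        simpa using ppt_mul hp (Commute.one_right (ppt p a)) ⟨i, hi⟩ (by simp [hp.ne_one])
      rw [h2, mul_eq_left] at h1
      exact h1
    have hQreg : ∀ q : Q, preg p (q : H) = q := fun q => by
      have := hsplit q
      rwa [show φ q = 1 from q.2, one_mul] at this
    haveI := Fintype.ofFinite Q
    haveI := Fintype.ofFinite φ.range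
    let eqv : H ≃ φ.range × Q :=
      { toFun := fun a => (⟨φ a, a, rfl⟩, ⟨preg p a, hregmem a⟩)
        invFun := fun z => (z.1 : H) * z.2
        left_inv := fun a => hsplit a
        right_inv := fun z => by
          obtain ⟨⟨_, a, rfl⟩, q⟩ := z
          have h2 : φ (φ a) = φ a := by
            have := congrArg φ (hsplit a)
            rwa [map_mul, show φ (preg p a) = 1 from hregmem a, mul_one] at this
          have e1 : φ (φ a * q) = φ a := by rw [map_mul, h2, show φ q = 1 from q.2, mul_one]
          refine Prod.ext (Subtype.ext e1) (Subtype.ext ?_)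
          have := hsplit (φ a * q)
          rw [e1] at this
          exact mul_left_cancel this }
    have hval : ∀ a : H, preg p ((a : E) : G) = ((preg p a : H) : E) := fun a => by
      have h1 : ∀ {A : Type u} [Group A] [Finite A] (f : H →* A), Function.Injective f →
          preg p (f a) = f (preg p a) := fun {A} _ _ f hfi => by
        obtain ⟨i, hi⟩ := ppt_ppower hp a
        conv_lhs => rw [← ppt_mul_preg (p := p) a, map_mul]
        refine preg_of_mul hp ?_ ⟨i, by rw [orderOf_injective f hfi, hi]⟩ ?_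
        · have hcm : Commute (preg p a) (ppt p a) := by
            rw [ppt]
            exact ((preg_spec hp a).2.2).mul_right (Commute.refl _).inv_right
          exact hcm.symm.map f
        · rw [orderOf_injective f hfi]; exact (preg_spec hp a).2.1
      exact h1 (E.subtype.comp H.subtype) (E.subtype_injective.comp H.subtype_injective)
    let ι : Q →* G := (E.subtype.comp H.subtype).comp Q.subtype
    let Q' : Subgroup G := ι.range
    let ee : Q ≃* Q' := MonoidHom.ofInjective (f := ι)
      ((E.subtype_injective.comp H.subtype_injective).comp Q.subtype_injective)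
    have hQ' : ¬ p ∣ Nat.card Q' := fun hd => by
      rw [← Nat.card_congr ee.toEquiv] at hd
      obtain ⟨q, hq⟩ := exists_prime_orderOf_dvd_card' p hd
      have := (preg_spec hp (q : H)).2.1
      rw [hQreg, Subgroup.orderOf_coe, hq] at this
      exact this dvd_rfl
    haveI := Fintype.ofFinite Q'
    obtain ⟨e, he, htr⟩ := exists_lamIdem (hM := hM) hQ' ((lam.comp Q.subtype).comp ee.symm.toMonoidHom)
    have hav : ∀ i, (Nat.card Q : ℂ)⁻¹ * ∑ q : Q, β (ι q) i * conj (lam (q : H) : ℂ) =
        ((D.π e i).rank : ℂ) := by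
      refine fun i => congrFun (brauer_unique D (β := fun i => (Nat.card Q : ℂ)⁻¹ *
        ∑ q : Q, β (ι q) i * conj (lam (q : H) : ℂ))
        (β' := fun i => ((D.π e i).rank : ℂ)) fun χ => ?_) i
      rw [← trC_idem D he χ, htr, sum_extendByZero_mul Q',
        ← Fintype.sum_equiv ee.toEquiv (fun q : Q => (((lam (q : H))⁻¹ : ℂˣ) : ℂ) * (χ : G → ℂ) (ι q)) _
          (fun q => by simp [ee, MonoidHom.comp_apply]; rfl), ← Nat.card_congr ee.toEquiv]
      simp only [Finset.mul_sum, Finset.sum_mul]
      rw [Finset.sum_comm]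
      refine Finset.sum_congr rfl fun q _ => ?_
      have hreg : ¬ p ∣ orderOf (ι q) := by
        rw [orderOf_injective ι ((E.subtype_injective.comp H.subtype_injective).comp Q.subtype_injective)]
        intro hd
        have := (preg_spec hp (q : H)).2.1
        rw [hQreg, Subgroup.orderOf_coe] at this
        exact this hd
      have hconj : (((lam (q : H))⁻¹ : ℂˣ) : ℂ) = conj (lam (q : H) : ℂ) := by
        rw [← char_inv (isCharacter_linear lam) (q : H), map_inv]
      rw [hconj, hβ _ hreg χ, Finset.mul_sum, Finset.mul_sum]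
      exact Finset.sum_congr rfl fun i _ => by ring
    rw [classInner, ← Fintype.sum_equiv eqv.symm (fun z : φ.range × Q =>
      β (ι z.2) j * conj (lam (z.2 : H) : ℂ) * conj (lam (z.1 : H) : ℂ)) _ (fun z => ?_),
      Fintype.sum_prod_type, Finset.sum_comm]
    · simp only [← Finset.mul_sum, ← Finset.sum_mul]
      by_cases htriv : ∀ a : φ.range, lam (a : H) = 1
      · refine ⟨((D.π e j).rank : ℤ), ?_⟩
        rw [Finset.sum_congr rfl (g := fun _ : φ.range => (1 : ℂ)) fun a _ => by rw [htriv a]; simp,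
          Finset.sum_const, Finset.card_univ, nsmul_eq_mul, mul_one, ← Nat.card_eq_fintype_card,
          show Nat.card H = Nat.card φ.range * Nat.card Q by
            rw [← Nat.card_prod]; exact Nat.card_congr eqv]
        have h1 : (Nat.card φ.range : ℂ) ≠ 0 := Nat.cast_ne_zero.mpr Nat.card_pos.ne'
        rw [Int.cast_natCast, ← hav j]
        push_cast
        field_simp
      · refine ⟨0, ?_⟩
        have h0 : ∑ a : φ.range, (lam (a : H) : ℂ) = 0 := by
          push Not at htriv
          obtain ⟨a, ha⟩ := htriv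
          exact sum_hom_units_eq_zero ((Units.coeHom ℂ).comp (lam.comp φ.range.subtype)) fun hh =>
            ha (Units.ext (DFunLike.congr_fun hh a))
        rw [← map_sum, h0, map_zero, mul_zero, mul_zero, Int.cast_zero]
    · have hz' : preg p ((z.1 : H) * z.2) = z.2 :=
        congrArg (fun w : φ.range × Q => (w.2 : H)) (eqv.apply_symm_apply z)
      show _ = β (preg p ((((z.1 : H) * z.2 : H) : E) : G)) j * conj (lam ((z.1 : H) * z.2) : ℂ)
      rw [hval, hz', map_mul, Units.val_mul, map_mul]
      simp only [ι, MonoidHom.comp_apply, Subgroup.coe_subtype]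
      ring
  choose z hz using hz
  simp only [hz]
  exact isGeneralizedCharacter_of_int z

theorem exists_block_support {B : Set (IrrCharacter G)} (hB : IsPBlock M B) :
    ∃ J : Finset (Fin D.m), (∀ j ∈ J, ∀ χ, χ ∉ B → dec D j χ = 0) ∧
      ∀ j ∉ J, ∀ χ, χ ∈ B → dec D j χ = 0 := by
  classical
  have hcl := isClassFunction_blockCoeff B
  set e := ofFun (pmod_prime hM) (blockCoeff B) (memLR_blockCoeff hM hB) with he
  have hei : IsIdempotentElem e := ext_co fun g => by
    rw [co_mul, co_ofFun, conv_blockCoeff]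
  have hec : ∀ x, e * x = x * e := fun x => ext_co fun g => by
    rw [co_mul, co_mul, co_ofFun, conv_comm (co x) hcl]
  have hcomp : ∀ j, D.π e j = 0 ∨ D.π e j = 1 := fun j => by
    refine central_idem_matrix (D.hd j) (congrFun (hei.map D.π).eq j) fun b => ?_
    obtain ⟨r, hr⟩ := D.good.surj (Pi.single j b)
    have := congrFun (congrArg D.π (hec r)) j
    rwa [map_mul, map_mul, Pi.mul_apply, Pi.mul_apply, hr, Pi.single_eq_same] at this
  have hfe : ∀ j, IsIdempotentElem (D.f j * e) := fun j =>
    IsIdempotentElem.mul_of_commute (hec (D.f j)).symm (D.hf j).1 hei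
  have htrace : ∀ j (χ : IrrCharacter G),
      trC (χ : G → ℂ) (D.f j * e) = (if χ ∈ B then 1 else 0) * dec D j χ := by
    intro j χ
    obtain ⟨n, ρ, hρ, hρc⟩ := id χ.2
    haveI := hρ
    have hev : ev (hP := pmod_prime hM) (ρ : G →* Module.End ℂ (Fin n → ℂ)) e =
        (if χ ∈ B then (1 : ℂ) else 0) • LinearMap.id := by
      rw [ev_apply, he, co_ofFun, opSum]
      refine (rep_sum_eq_lam ρ hcl).trans ?_
      rw [hρc, lam_blockCoeff]
    rw [← dec_spec D j χ, ← hρc, trC_eq_trace, trC_eq_trace, map_mul (ev (hP := pmod_prime hM) _), hev,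
      ← Module.End.one_eq_id, mul_smul_comm, mul_one, map_smul, smul_eq_mul]
  refine ⟨Finset.univ.filter fun j => D.π e j = 1, fun j hj χ hχ => ?_, fun j hj χ hχ => ?_⟩
  · have h1 : D.π e j = 1 := (Finset.mem_filter.1 hj).2
    have e1 : trC (χ : G → ℂ) (D.f j * e) = trC (χ : G → ℂ) (D.f j) := by
      refine IdemClass.eq_of_image_eq D.good
        (AddMonoidHom.mk' (fun x => trC (χ : G → ℂ) x) (fun x y => trC_add _ x y))
        (fun x y => trC_mul_comm (irr_isCharacter χ.2) x y) (hfe j) (D.hf j).1 ?_
      funext i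
      rw [map_mul, Pi.mul_apply, (D.hf j).2]
      by_cases hi : i = j
      · subst hi; rw [h1, mul_one]
      · rw [Pi.single_eq_of_ne hi, zero_mul]
    rw [htrace, if_neg hχ, zero_mul, dec_spec] at e1
    exact_mod_cast e1.symm
  · have h1 : D.π e j = 0 := (hcomp j).resolve_right fun h => hj (by simp [h])
    have e1 : trC (χ : G → ℂ) (D.f j * e) = trC (χ : G → ℂ) (0 : OA (pmod_prime hM) G) := by
      refine IdemClass.eq_of_image_eq D.good
        (AddMonoidHom.mk' (fun x => trC (χ : G → ℂ) x) (fun x y => trC_add _ x y))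
        (fun x y => trC_mul_comm (irr_isCharacter χ.2) x y) (hfe j) IsIdempotentElem.zero ?_
      funext i
      rw [map_mul, map_zero, Pi.mul_apply, (D.hf j).2, Pi.zero_apply]
      by_cases hi : i = j
      · subst hi; rw [h1, mul_zero]
      · rw [Pi.single_eq_of_ne hi, zero_mul]
    rw [htrace, if_pos hχ, one_mul, trC_zero] at e1
    exact_mod_cast e1

/-- The degree of a projective character is a positive multiple of the `p`-part of the order. -/
theorem proj_deg (j : Fin D.m) :
    ∃ N : ℕ, 0 < N ∧ p ^ (Nat.card G).factorization p ∣ N ∧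
      (N : ℂ) = ∑ χ : IrrCharacter G, (dec D j χ : ℂ) * (χ : G → ℂ) 1 := by
  classical
  have hP := pmod_prime hM
  obtain ⟨n, hn, hn0⟩ := exists_rank (D.hf j).1
  refine ⟨n, Nat.pos_of_ne_zero fun h => ?_, ?_, ?_⟩
  · have hne := (D.hf j).2
    rw [hn0 h, map_zero] at hne
    have := congrFun (congrFun (congrFun hne j) ⟨0, D.hd j⟩) ⟨0, D.hd j⟩
    simp at this
  · obtain ⟨g', -, hcard⟩ := card_eq_pow_mul (G := G) hM.1
    have hu : MemLocalRing M ((g' : ℂ) * co (D.f j) 1) :=
      memLR_mul hP (memLR_natCast hP _) (memLR_co _ _)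
    have := int_dvd_of_local hM hu (k := (Nat.card G).factorization p) (n := (n : ℤ)) (by
      rw [Int.cast_natCast, ← hn]
      conv_rhs => rw [hcard]
      push_cast
      ring)
    exact_mod_cast this
  · rw [← hn]
    simp only [← dec_spec, trC, Finset.sum_mul]
    rw [Finset.sum_comm]
    have horth : ∀ g : G, ∑ χ : IrrCharacter G, co (D.f j) g * (χ : G → ℂ) g * (χ : G → ℂ) 1 =
        co (D.f j) g * if IsConj g 1 then ((Nat.card G : ℂ) / Nat.card {x : G // IsConj 1 x}) else 0 := by
      intro g
      rw [← second_orth g 1, Finset.mul_sum]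
      refine Finset.sum_congr rfl fun χ _ => ?_
      rw [char_one_eq_deg (irr_isCharacter χ.2), map_natCast]
      ring
    simp only [horth]
    rw [Finset.sum_eq_single (1 : G) (fun g _ hg => by
      rw [if_neg (fun h => hg (isConj_one_left.1 h)), mul_zero]) (fun h => absurd (Finset.mem_univ _) h),
      if_pos (IsConj.refl 1)]
    have h1 : Nat.card {x : G // IsConj 1 x} = 1 := by
      rw [Nat.card_eq_one_iff_unique]
      exact ⟨⟨fun a b => Subtype.ext ((isConj_one_right.1 a.2).trans (isConj_one_right.1 b.2).symm)⟩,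
        ⟨⟨1, IsConj.refl 1⟩⟩⟩
    rw [h1, Nat.cast_one, div_one, mul_comm]

/-- The rank of a block is at most its number of columns. -/
theorem blockRank_le_card {B : Set (IrrCharacter G)} {J : Finset (Fin D.m)}
    (hJ2 : ∀ j ∉ J, ∀ χ, χ ∈ B → dec D j χ = 0) : blockRank p B ≤ J.card := by
  classical
  obtain ⟨β, hβ⟩ := exists_brauer_fun D
  have hsupp : ∀ (F : Fin D.m → ℂ) (χ : IrrCharacter G), χ ∈ B →
      ∑ j, F j * dec D j χ = ∑ j ∈ J, F j * dec D j χ := fun F χ hχ =>
    (Finset.sum_subset (Finset.subset_univ J) fun j _ hj => by rw [hJ2 j hj χ hχ]; simp).symm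
  set W : Fin D.m → G → ℂ := fun j x => if IsPRegular p x then β x j else 0 with hW
  refine le_trans (Submodule.finrank_mono (show _ ≤ Submodule.span ℂ (Set.range fun j : J => W j) from
    Submodule.span_le.2 ?_)) ?_
  · rintro _ ⟨χ, hχ, rfl⟩
    have e : pRegularPart p (χ : G → ℂ) = ∑ j : J, (dec D j χ : ℂ) • W j := by
      funext x
      rw [Finset.sum_apply]
      by_cases hx : IsPRegular p x
      · simp only [pRegularPart, hW, if_pos hx, Pi.smul_apply, smul_eq_mul, hβ x hx χ]
        rw [hsupp _ χ hχ, ← Finset.sum_coe_sort J]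
        exact Finset.sum_congr rfl fun j _ => mul_comm _ _
      · simp [pRegularPart, hW, if_neg hx]
    show pRegularPart p (χ : G → ℂ) ∈ Submodule.span ℂ _
    rw [e]
    exact Submodule.sum_mem _ fun j _ => Submodule.smul_mem _ _ (Submodule.subset_span ⟨j, rfl⟩)
  · refine (finrank_range_le_card _).trans ?_
    simp

/-- Decomposition data of a block: Brauer degrees divisible by the common divisors of the degrees,
projective degrees divisible by the `p`-part, and at least rank many columns. -/
theorem exists_block_lattice (hM : IsPModular p M) {B : Set (IrrCharacter G)} (hB : IsPBlock M B) :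
    ∃ (m : ℕ) (dc : Fin m → IrrCharacter G → ℕ) (n : Fin m → ℕ) (J : Finset (Fin m)),
      blockRank p B ≤ J.card ∧
      (∀ χ ∈ B, deg (χ : G → ℂ) = ∑ j ∈ J, dc j χ * n j) ∧
      (∀ g : ℕ, (∀ χ ∈ B, g ∣ deg (χ : G → ℂ)) → ∀ j ∈ J, g ∣ n j) ∧ (∀ j ∈ J, 0 < n j) ∧
      ∀ j ∈ J, 0 < ∑ χ ∈ bset B, dc j χ * deg (χ : G → ℂ) ∧
        p ^ (Nat.card G).factorization p ∣ ∑ χ ∈ bset B, dc j χ * deg (χ : G → ℂ) := by
  classical
  obtain ⟨D⟩ := exists_data (G := G) hM
  have hp := hM.1
  obtain ⟨J, hJ1, hJ2⟩ := exists_block_support D hB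
  obtain ⟨β, hβ⟩ := exists_brauer_fun D
  have h1r : ¬ p ∣ orderOf (1 : G) := by simp [hp.ne_one]
  set n : Fin D.m → ℕ := fun j => (D.π 1 j).rank with hn
  have hdeg : ∀ χ : IrrCharacter G, (deg (χ : G → ℂ) : ℂ) = ∑ j, (n j : ℂ) * dec D j χ := fun χ => by
    rw [← char_one_eq_deg (irr_isCharacter χ.2), ← trC_idem D IsIdempotentElem.one χ, ← gen_one, trC_gen]
  have hβ1 : β 1 = fun j => (n j : ℂ) := brauer_unique D fun χ => by
    rw [← hβ 1 h1r χ, char_one_eq_deg (irr_isCharacter χ.2), hdeg]
  have hsupp : ∀ (F : Fin D.m → ℂ) (χ : IrrCharacter G), χ ∈ B →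
      ∑ j, F j * dec D j χ = ∑ j ∈ J, F j * dec D j χ := fun F χ hχ =>
    (Finset.sum_subset (Finset.subset_univ J) fun j _ hj => by rw [hJ2 j hj χ hχ]; simp).symm
  refine ⟨D.m, dec D, n, J, ?_, fun χ hχ => ?_, fun g hg j hj => ?_, fun j hj => ?_, fun j hj => ?_⟩
  · exact blockRank_le_card D hJ2
  · have h := hdeg χ
    rw [hsupp _ χ hχ] at h
    rw [Finset.sum_congr rfl fun j _ => mul_comm _ _]
    exact_mod_cast h
  · obtain ⟨a, b, ha, hb, hab⟩ := isGenChar_brauer D hβ j
    obtain ⟨ma, hma⟩ := exists_decomposition ha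
    obtain ⟨mb, hmb⟩ := exists_decomposition hb
    set z : IrrCharacter G → ℤ := fun χ => (ma χ : ℤ) - mb χ with hz
    have hx : ∀ x, ¬ p ∣ orderOf x → β x j = ∑ χ, (z χ : ℂ) * (χ : G → ℂ) x := fun x hx => by
      have h := congrFun hab x
      rw [preg_of_isPRegular hp hx, Pi.sub_apply, hma, hmb, Finset.sum_apply, Finset.sum_apply,
        ← Finset.sum_sub_distrib] at h
      rw [h]
      refine Finset.sum_congr rfl fun χ _ => ?_
      simp [hz, sub_mul]
    -- the coefficients invert the decomposition numbers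
    let RC := {x : G // ¬ p ∣ orderOf x}
    have horth : ∀ i, ∑ χ, (z χ : ℂ) * dec D i χ = if i = j then 1 else 0 := by
      set s : Fin D.m → ℂ := fun i => (∑ χ, (z χ : ℂ) * dec D i χ) - if i = j then 1 else 0 with hs
      have h0 : ∀ x : RC, ∑ i, s i * β x.1 i = 0 := fun x => by
        simp only [hs, sub_mul, Finset.sum_sub_distrib, ite_mul, one_mul, zero_mul,
          Finset.sum_ite_eq', Finset.mem_univ, if_true]
        rw [hx x.1 x.2, sub_eq_zero]
        simp only [Finset.sum_mul, hβ x.1 x.2, Finset.mul_sum]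
        rw [Finset.sum_comm]
        exact Finset.sum_congr rfl fun χ _ => Finset.sum_congr rfl fun i _ => by ring
      intro i
      have hsi : s i = 0 := brauer_functions_independent D hβ s (fun x hx => h0 ⟨x, hx⟩) i
      exact sub_eq_zero.1 hsi
    have key : (n j : ℤ) = ∑ χ ∈ bset B, z χ * deg (χ : G → ℂ) := by
      have : (n j : ℂ) = ∑ χ ∈ bset B, (z χ : ℂ) * deg (χ : G → ℂ) := by
        calc (n j : ℂ) = ∑ i ∈ J, (n i : ℂ) * if i = j then 1 else 0 := by simp [hj]
          _ = ∑ i ∈ J, (n i : ℂ) * ∑ χ ∈ bset B, (z χ : ℂ) * dec D i χ := by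
              refine Finset.sum_congr rfl fun i hi => ?_
              rw [← horth i, Finset.sum_subset (Finset.subset_univ (bset B)) fun χ _ hχ => by
                rw [hJ1 i hi χ (fun h => hχ (mem_bset.2 h))]; simp]
          _ = _ := by
              simp only [Finset.mul_sum]
              rw [Finset.sum_comm]
              refine Finset.sum_congr rfl fun χ hχ => ?_
              rw [hdeg, hsupp _ χ (mem_bset.1 hχ), Finset.mul_sum]
              exact Finset.sum_congr rfl fun i _ => by ring
      exact_mod_cast this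
    have hd : (g : ℤ) ∣ (n j : ℤ) := key ▸ Finset.dvd_sum fun χ hχ =>
      Dvd.dvd.mul_left (by exact_mod_cast hg χ (mem_bset.1 hχ)) _
    exact_mod_cast hd
  · refine Nat.pos_of_ne_zero fun h => ?_
    have hnz : (1 : Matrix (Fin (D.d j)) (Fin (D.d j)) (Res (pmod_prime hM))).rank = 0 := by
      rw [← h, hn]; simp only [map_one, Pi.one_apply]
    rw [Matrix.rank_one, Fintype.card_fin] at hnz
    exact (D.hd j).ne' hnz
  · obtain ⟨N, hN, hdvd, hNs⟩ := proj_deg D j
    have e : N = ∑ χ ∈ bset B, dec D j χ * deg (χ : G → ℂ) := by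
      have : (N : ℂ) = ∑ χ ∈ bset B, (dec D j χ : ℂ) * deg (χ : G → ℂ) := by
        rw [hNs, ← Finset.sum_subset (Finset.subset_univ (bset B)) fun χ _ hχ => by
          rw [hJ1 j hj χ (fun h => hχ (mem_bset.2 h))]; simp]
        exact Finset.sum_congr rfl fun χ _ => by rw [char_one_eq_deg (irr_isCharacter χ.2)]
      exact_mod_cast this
    exact e ▸ ⟨hN, hdvd⟩

end Cfsg.Agent.Char.DecompLattice
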