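import Cfsg.Agent.Lib.Char.GaloisOrbit
import Cfsg.Agent.Lib.Char.SectionPart

/-!
# The p-part of the size of a class of p-conjugate characters
-/

set_option autoImplicit false
open Cfsg
open scoped ComplexConjugate

namespace Cfsg.Agent.Char.PConj

universe u

/-- A geometric sum of roots of unity. -/
theorem geom_int {N : ℕ} {β : ℂ} (h : β ^ N = 1) :
    ∃ k : ℤ, ∑ i ∈ Finset.range N, β ^ i = (N : ℂ) * k := by
  rcases eq_or_ne β 1 with rfl | hne
  · exact ⟨1, by simp⟩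
  · exact ⟨0, by rw [geom_sum_eq hne, h, sub_self, zero_div, Int.cast_zero, mul_zero]⟩

theorem sum_units_pow {p a : ℕ} [Fact p.Prime] (ha : 1 ≤ a) {β : ℂ} (h : β ^ p ^ a = 1) :
    ∃ k : ℤ, ∑ b : (ZMod (p ^ a))ˣ, β ^ (b : ZMod (p ^ a)).val = ((p ^ (a - 1) : ℕ) : ℂ) * k := by
  classical
  have hp := (Fact.out : p.Prime)
  haveI : NeZero (p ^ a) := ⟨pow_ne_zero _ hp.ne_zero⟩
  have hN : p ^ a = p * p ^ (a - 1) := by rw [← pow_succ']; congr 1; omega
  have h1 : ∑ b : (ZMod (p ^ a))ˣ, β ^ (b : ZMod (p ^ a)).val =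
      ∑ i ∈ (Finset.range (p ^ a)).filter (fun i => ¬ p ∣ i), β ^ i := by
    refine Finset.sum_bij (fun b _ => (b : ZMod (p ^ a)).val) (fun b _ => ?_)
      (fun b _ c _ hbc => Units.ext (ZMod.val_injective _ hbc)) (fun i hi => ?_) (fun _ _ => rfl)
    · refine Finset.mem_filter.2 ⟨Finset.mem_range.2 (ZMod.val_lt _), fun hd => ?_⟩
      exact hp.ne_one (Nat.dvd_one.1 ((val_coprime b) ▸ Nat.dvd_gcd hd (dvd_pow_self p (by omega))))
    · obtain ⟨hi1, hi2⟩ := Finset.mem_filter.1 hi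
      exact ⟨ZMod.unitOfCoprime i (((hp.coprime_iff_not_dvd.2 hi2).symm).pow_right a), Finset.mem_univ _,
        by rw [ZMod.coe_unitOfCoprime, ZMod.val_cast_of_lt (Finset.mem_range.1 hi1)]⟩
  have h2 : ∑ i ∈ (Finset.range (p ^ a)).filter (fun i => p ∣ i), β ^ i =
      ∑ j ∈ Finset.range (p ^ (a - 1)), (β ^ p) ^ j := by
    refine (Finset.sum_bij (fun j _ => p * j) (fun j hj => ?_)
      (fun j _ k _ hjk => Nat.eq_of_mul_eq_mul_left hp.pos hjk) (fun i hi => ?_)
      (fun j _ => (pow_mul _ _ _).symm)).symm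
    · refine Finset.mem_filter.2 ⟨Finset.mem_range.2 ?_, dvd_mul_right _ _⟩
      rw [hN]; exact Nat.mul_lt_mul_of_pos_left (Finset.mem_range.1 hj) hp.pos
    · obtain ⟨hi1, j, rfl⟩ := Finset.mem_filter.1 hi
      exact ⟨j, Finset.mem_range.2 (Nat.lt_of_mul_lt_mul_left (hN ▸ Finset.mem_range.1 hi1)), rfl⟩
  obtain ⟨k1, hk1⟩ := geom_int h
  obtain ⟨k2, hk2⟩ := geom_int (show (β ^ p) ^ p ^ (a - 1) = 1 by rw [← pow_mul, ← hN, h])
  refine ⟨p * k1 - k2, ?_⟩
  have h3 := Finset.sum_filter_add_sum_filter_not (Finset.range (p ^ a)) (fun i => p ∣ i) (fun i => β ^ i)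
  rw [h2, hk1, hk2, ← h1] at h3
  have hN' : ((p ^ a : ℕ) : ℂ) = (p : ℂ) * ((p ^ (a - 1) : ℕ) : ℂ) := by rw [hN, Nat.cast_mul]
  rw [hN'] at h3
  rw [Int.cast_sub, Int.cast_mul, Int.cast_natCast]
  linear_combination h3

variable {G : Type u} [Group G] [Fintype G] {p : ℕ} [Fact p.Prime]

/-- Data: the order of the group is `p ^ a * m`. -/
structure Setup (G : Type u) [Group G] (p : ℕ) where
  a : ℕ
  m : ℕ
  cop : (p ^ a).Coprime m
  card : Nat.card G = p ^ a * m
  ndvd : ¬ p ∣ m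

theorem Setup.dvd (S : Setup G p) : S.m ∣ p ^ S.a * S.m := dvd_mul_left _ _

theorem Setup.hexp (S : Setup G p) (g : G) : g ^ (p ^ S.a * S.m) = 1 := S.card ▸ pow_card_eq_one'

omit [Fact p.Prime] in
theorem Setup.m_ne (S : Setup G p) : S.m ≠ 0 := fun h => S.ndvd (by rw [h]; exact dvd_zero p)

theorem Setup.neZero (S : Setup G p) : NeZero (p ^ S.a * S.m) := ⟨by rw [← S.card]; exact Nat.card_pos.ne'⟩

variable (S : Setup G p)

/-- The units congruent to one modulo the prime-to-p part. -/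
def Setup.U : Subgroup (ZMod (p ^ S.a * S.m))ˣ := (ZMod.unitsMap S.dvd).ker

noncomputable instance Setup.fintypeU : Fintype S.U :=
  haveI := S.neZero
  Fintype.ofFinite _

theorem Setup.card_U : Nat.card S.U = (p ^ S.a).totient := by
  haveI := S.neZero
  haveI : NeZero S.m := ⟨S.m_ne⟩
  have h1 := S.U.card_mul_index
  rw [Setup.U, Subgroup.index_ker, MonoidHom.range_eq_top.2 (ZMod.unitsMap_surjective S.dvd), Subgroup.card_top,
    Nat.card_eq_fintype_card (α := (ZMod (p ^ S.a * S.m))ˣ), Nat.card_eq_fintype_card (α := (ZMod S.m)ˣ),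
    ZMod.card_units_eq_totient, ZMod.card_units_eq_totient, Nat.totient_mul S.cop] at h1
  exact Nat.eq_of_mul_eq_mul_right (Nat.totient_pos.2 (Nat.pos_of_ne_zero S.m_ne)) h1

theorem Setup.modEq_one {u : (ZMod (p ^ S.a * S.m))ˣ} (hu : u ∈ S.U) :
    (u : ZMod (p ^ S.a * S.m)).val ≡ 1 [MOD S.m] := by
  haveI := S.neZero
  rw [Setup.U, MonoidHom.mem_ker] at hu
  have h1 := congrArg (fun w : (ZMod S.m)ˣ => (w : ZMod S.m)) hu
  simp only [ZMod.unitsMap_val, Units.val_one] at h1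
  rw [← ZMod.natCast_eq_natCast_iff, Nat.cast_one, ZMod.natCast_val]
  exact h1

theorem Setup.sum_pow (ha : 1 ≤ S.a) {ζ : ℂ} (hζ : ζ ^ (p ^ S.a * S.m) = 1) :
    ∃ z : ℂ, IsIntegral ℤ z ∧
      ∑ u : S.U, ζ ^ ((u : (ZMod (p ^ S.a * S.m))ˣ) : ZMod (p ^ S.a * S.m)).val =
        ((p ^ (S.a - 1) : ℕ) : ℂ) * z := by
  classical
  haveI := S.neZero
  haveI : NeZero (p ^ S.a) := ⟨pow_ne_zero _ (Fact.out : p.Prime).ne_zero⟩
  obtain ⟨A, hA1, hA2⟩ := Nat.chineseRemainder S.cop 0 1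
  obtain ⟨B, hB1, hB2⟩ := Nat.chineseRemainder S.cop 1 0
  have hsplit : ∀ u : S.U, ζ ^ ((u : (ZMod (p ^ S.a * S.m))ˣ) : ZMod (p ^ S.a * S.m)).val =
      ζ ^ A * (ζ ^ B) ^ ((ZMod.unitsMap (dvd_mul_right (p ^ S.a) S.m) (u : (ZMod (p ^ S.a * S.m))ˣ) :
        (ZMod (p ^ S.a))ˣ) : ZMod (p ^ S.a)).val := by
    intro u
    set w := ((ZMod.unitsMap (dvd_mul_right (p ^ S.a) S.m) (u : (ZMod (p ^ S.a * S.m))ˣ) :
        (ZMod (p ^ S.a))ˣ) : ZMod (p ^ S.a)).val with hw
    set v := ((u : (ZMod (p ^ S.a * S.m))ˣ) : ZMod (p ^ S.a * S.m)).val with hv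
    have hwv : w ≡ v [MOD p ^ S.a] := by
      rw [← ZMod.natCast_eq_natCast_iff, hw, hv, ZMod.natCast_zmod_val, ZMod.natCast_val, ZMod.unitsMap_val]
    have h1 : v ≡ A + B * w [MOD p ^ S.a * S.m] := by
      rw [← Nat.modEq_and_modEq_iff_modEq_mul S.cop]
      constructor
      · calc v ≡ w [MOD p ^ S.a] := hwv.symm
          _ = 0 + 1 * w := by ring
          _ ≡ A + B * w [MOD p ^ S.a] := hA1.symm.add (hB1.symm.mul_right w)
      · calc v ≡ 1 [MOD S.m] := S.modEq_one u.2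
          _ = 1 + 0 * w := by ring
          _ ≡ A + B * w [MOD S.m] := hA2.symm.add (hB2.symm.mul_right w)
    rw [← pow_mul, ← pow_add, pow_eq_pow_mod v hζ, pow_eq_pow_mod (A + B * w) hζ]
    exact congrArg (ζ ^ ·) h1
  have hβ : (ζ ^ B) ^ p ^ S.a = 1 := by
    obtain ⟨c, hc⟩ := Nat.modEq_zero_iff_dvd.1 hB2
    rw [← pow_mul, hc, show S.m * c * p ^ S.a = p ^ S.a * S.m * c by ring, pow_mul, hζ, one_pow]
  obtain ⟨k, hk⟩ := sum_units_pow ha hβ
  refine ⟨ζ ^ A * k, IsIntegral.mul ((root_of_unity_isIntegral (NeZero.ne _) hζ).pow A)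
    (isIntegral_algebraMap (R := ℤ) (A := ℂ) (x := k)), ?_⟩
  simp only [hsplit]
  rw [← Finset.mul_sum, mul_left_comm]
  congr 1
  rw [← hk]
  have hinj : Function.Injective fun u : S.U =>
      ZMod.unitsMap (dvd_mul_right (p ^ S.a) S.m) (u : (ZMod (p ^ S.a * S.m))ˣ) := by
    intro u v huv
    refine Subtype.ext (Units.ext (ZMod.val_injective _ ?_))
    have h1 : ((u : (ZMod (p ^ S.a * S.m))ˣ) : ZMod (p ^ S.a * S.m)).val ≡
        ((v : (ZMod (p ^ S.a * S.m))ˣ) : ZMod (p ^ S.a * S.m)).val [MOD p ^ S.a * S.m] := by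
      rw [← Nat.modEq_and_modEq_iff_modEq_mul S.cop]
      refine ⟨?_, (S.modEq_one u.2).trans (S.modEq_one v.2).symm⟩
      rw [← ZMod.natCast_eq_natCast_iff, ZMod.natCast_val, ZMod.natCast_val]
      have h2 := congrArg (fun w : (ZMod (p ^ S.a))ˣ => (w : ZMod (p ^ S.a))) huv
      simp only [ZMod.unitsMap_val] at h2
      exact h2
    exact h1.eq_of_lt_of_lt (ZMod.val_lt _) (ZMod.val_lt _)
  refine Fintype.sum_bijective _ ((Fintype.bijective_iff_injective_and_card _).2 ⟨hinj, ?_⟩) _ _ fun u => rfl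
  rw [← Nat.card_eq_fintype_card, S.card_U, ZMod.card_units_eq_totient]

open scoped Classical in
/-- The characters p-conjugate to a character. -/
noncomputable def Setup.orb (χ : IrrCharacter G) : Finset (IrrCharacter G) :=
  Finset.univ.filter fun ψ => ∃ u ∈ S.U, (ψ : G → ℂ) = gal u (χ : G → ℂ)

/-- The sum of the characters p-conjugate to a character. -/
noncomputable def Setup.osum (χ : IrrCharacter G) (g : G) : ℂ := ∑ ψ ∈ S.orb χ, (ψ : G → ℂ) g

theorem Setup.mem_orb {χ ψ : IrrCharacter G} :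
    ψ ∈ S.orb χ ↔ ∃ u ∈ S.U, (ψ : G → ℂ) = gal u (χ : G → ℂ) := by
  simp [Setup.orb]

theorem Setup.deg_orb {χ ψ : IrrCharacter G} (h : ψ ∈ S.orb χ) : (ψ : G → ℂ) 1 = (χ : G → ℂ) 1 := by
  obtain ⟨u, -, hu⟩ := S.mem_orb.1 h
  rw [hu]; simp [gal]

theorem Setup.self_mem (χ : IrrCharacter G) : χ ∈ S.orb χ := by
  classical
  exact S.mem_orb.2 ⟨1, one_mem _, (gal_one S.hexp _).symm⟩

theorem Setup.fiber_count (χ : IrrCharacter G) :
    ∃ c : ℕ, (S.orb χ).card * c = (p ^ S.a).totient ∧ ∀ (ψ : IrrCharacter G) (g : G),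
      (ψ ∈ S.orb χ) → (∑ u : S.U, (ψ : G → ℂ) (g ^ ((u : (ZMod (p ^ S.a * S.m))ˣ) :
        ZMod (p ^ S.a * S.m)).val)) = (c : ℂ) * S.osum χ g := by
  classical
  haveI := S.neZero
  let f : S.U → IrrCharacter G := fun u => ⟨gal (u : (ZMod (p ^ S.a * S.m))ˣ) (χ : G → ℂ), isIrr_gal S.hexp _ χ.2⟩
  set T := Finset.univ.filter fun u : S.U => f u = χ with hT
  have hmem : ∀ u : S.U, f u ∈ S.orb χ := fun u =>
    S.mem_orb.2 ⟨u, u.2, rfl⟩
  have hfib : ∀ ψ ∈ S.orb χ, (Finset.univ.filter fun u : S.U => f u = ψ).card = T.card := by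
    intro ψ hψ
    obtain ⟨w, hw, hψw⟩ := S.mem_orb.1 hψ
    refine Finset.card_bij' (fun u _ => ⟨w, hw⟩⁻¹ * u) (fun u _ => ⟨w, hw⟩ * u) (fun u hu => ?_) (fun u hu => ?_)
      (fun u _ => mul_inv_cancel_left _ _) (fun u _ => inv_mul_cancel_left _ _)
    · rw [Finset.mem_filter] at hu ⊢
      refine ⟨Finset.mem_univ _, Subtype.ext ?_⟩
      show gal (w⁻¹ * (u : (ZMod (p ^ S.a * S.m))ˣ)) (χ : G → ℂ) = _
      rw [gal_mul S.hexp, show gal (u : (ZMod (p ^ S.a * S.m))ˣ) (χ : G → ℂ) = (ψ : G → ℂ) from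
        congrArg Subtype.val hu.2, hψw, ← gal_mul S.hexp, inv_mul_cancel, gal_one S.hexp]
    · rw [Finset.mem_filter] at hu ⊢
      refine ⟨Finset.mem_univ _, Subtype.ext ?_⟩
      show gal (w * (u : (ZMod (p ^ S.a * S.m))ˣ)) (χ : G → ℂ) = _
      rw [gal_mul S.hexp, show gal (u : (ZMod (p ^ S.a * S.m))ˣ) (χ : G → ℂ) = (χ : G → ℂ) from
        congrArg Subtype.val hu.2, hψw]
  refine ⟨T.card, ?_, fun ψ g hψ => ?_⟩
  · rw [← S.card_U, Nat.card_eq_fintype_card, ← Finset.card_univ,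
      Finset.card_eq_sum_card_fiberwise (s := (Finset.univ : Finset S.U)) (f := f) (t := S.orb χ) (fun u _ => hmem u),
      Finset.sum_congr rfl hfib, Finset.sum_const, smul_eq_mul]
  · obtain ⟨w, hw, hψw⟩ := S.mem_orb.1 hψ
    have h1 : ∀ u : S.U, (ψ : G → ℂ) (g ^ ((u : (ZMod (p ^ S.a * S.m))ˣ) : ZMod (p ^ S.a * S.m)).val) =
        (f (⟨w, hw⟩ * u) : G → ℂ) g := fun u => by
      show _ = gal (w * (u : (ZMod (p ^ S.a * S.m))ˣ)) (χ : G → ℂ) g
      rw [mul_comm w, gal_mul S.hexp, ← hψw]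
      rfl
    rw [Finset.sum_congr rfl (fun u _ => h1 u),
      show (∑ u : S.U, (f (⟨w, hw⟩ * u) : G → ℂ) g) = ∑ u : S.U, (f u : G → ℂ) g from
        Equiv.sum_comp (Equiv.mulLeft (⟨w, hw⟩ : S.U)) (fun u => (f u : G → ℂ) g),
      ← Finset.sum_fiberwise_of_maps_to (g := f) (t := S.orb χ) (fun u _ => hmem u), Setup.osum,
      Finset.mul_sum]
    refine Finset.sum_congr rfl fun φ hφ => ?_
    rw [Finset.sum_congr rfl (g := fun _ => (φ : G → ℂ) g) (fun u hu => by rw [(Finset.mem_filter.1 hu).2]),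
      Finset.sum_const, nsmul_eq_mul]
    congr 2
    convert hfib φ hφ

theorem Setup.osum_eq (χ : IrrCharacter G) (ha : 1 ≤ S.a) :
    ∃ t : ℕ, ¬ p ∣ t ∧ ∀ g : G, ∃ z : ℂ, IsIntegral ℤ z ∧
      (t : ℂ) * S.osum χ g = ((p ^ ((S.orb χ).card).factorization p : ℕ) : ℂ) * z := by
  classical
  have hp := (Fact.out : p.Prime)
  haveI := S.neZero
  obtain ⟨c, hc, hsum⟩ := S.fiber_count χ
  have hφ : (p ^ S.a).totient ≠ 0 := (Nat.totient_pos.2 (pow_pos hp.pos _)).ne'
  have hc0 : c ≠ 0 := by rintro rfl; rw [mul_zero] at hc; exact hφ hc.symm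
  have hr0 : (S.orb χ).card ≠ 0 := by intro h; rw [h, zero_mul] at hc; exact hφ hc.symm
  set s := ((S.orb χ).card).factorization p
  have hv : s + c.factorization p = S.a - 1 := by
    have h1 := congrArg (fun k => k.factorization p) hc
    simp only [Nat.factorization_mul hr0 hc0, Finsupp.add_apply, Nat.totient_prime_pow hp ha] at h1
    rw [h1, Nat.factorization_mul (pow_ne_zero _ hp.ne_zero) (by have := hp.two_le; omega), Finsupp.add_apply,
      hp.factorization_pow, Finsupp.single_eq_same,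
      Nat.factorization_eq_zero_of_lt (show p - 1 < p by have := hp.two_le; omega), add_zero]
  refine ⟨c / p ^ c.factorization p, Nat.not_dvd_ordCompl hp hc0, fun g => ?_⟩
  obtain ⟨n, ρ, -, hρ⟩ := χ.2
  obtain ⟨μ, hμ, htr, -⟩ := exists_eigenvalues ρ g
  have hμn : ∀ i, μ i ^ (p ^ S.a * S.m) = 1 := fun i => by
    obtain ⟨d, hd⟩ := orderOf_dvd_of_pow_eq_one (S.hexp g)
    rw [hd, pow_mul, hμ i, one_pow]
  choose z hz hzsum using fun i => S.sum_pow ha (hμn i)
  refine ⟨∑ i, z i, IsIntegral.sum _ fun i _ => hz i, ?_⟩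
  have h1 : (c : ℂ) * S.osum χ g = ((p ^ (S.a - 1) : ℕ) : ℂ) * ∑ i, z i := by
    rw [← hsum χ g (S.self_mem χ), Finset.mul_sum]
    simp only [← hρ, htr]
    rw [Finset.sum_comm]
    exact Finset.sum_congr rfl fun i _ => hzsum i
  have h2 : (c : ℂ) = ((p ^ c.factorization p : ℕ) : ℂ) * ((c / p ^ c.factorization p : ℕ) : ℂ) := by
    rw [← Nat.cast_mul, Nat.ordProj_mul_ordCompl_eq_self]
  rw [h2, ← hv, pow_add, Nat.cast_mul, mul_comm ((p ^ s : ℕ) : ℂ), mul_assoc, mul_assoc] at h1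
  exact mul_left_cancel₀ (Nat.cast_ne_zero.2 (pow_ne_zero _ hp.ne_zero)) h1

variable {M : Ideal AlgInt}

theorem Setup.isClassFunction_osum (χ : IrrCharacter G) : IsClassFunction G (S.osum χ) := fun g k => by
  simp only [Setup.osum, isClassFunction_character (irr_isCharacter (Subtype.prop _)) g k]

theorem Setup.memLR_osum_div (hM : IsPModular p M) (χ : IrrCharacter G) (ha : 1 ≤ S.a) (g : G) :
    MemLocalRing M (conj (S.osum χ g) / ((p ^ ((S.orb χ).card).factorization p : ℕ) : ℂ)) := by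
  have hp := (Fact.out : p.Prime)
  obtain ⟨t, ht, hz⟩ := S.osum_eq χ ha
  obtain ⟨z, hzi, hzg⟩ := hz g⁻¹
  have h1 : S.osum χ g⁻¹ = conj (S.osum χ g) := by
    rw [Setup.osum, Setup.osum, map_sum]
    exact Finset.sum_congr rfl fun ψ _ => char_inv (irr_isCharacter ψ.2) g
  have ht0 : (t : ℂ) ≠ 0 := Nat.cast_ne_zero.2 fun h => ht (by rw [h]; exact dvd_zero p)
  have hps : ((p ^ ((S.orb χ).card).factorization p : ℕ) : ℂ) ≠ 0 :=
    Nat.cast_ne_zero.2 (pow_ne_zero _ hp.ne_zero)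
  rw [← h1, show S.osum χ g⁻¹ / ((p ^ ((S.orb χ).card).factorization p : ℕ) : ℂ) = (t : ℂ)⁻¹ * z by
    field_simp
    linear_combination hzg]
  exact memLR_mul (pmod_prime hM) (memLR_inv_natCast hM ht)
    (memLocalRing_of_isIntegral (pmod_prime hM).ne_top hzi)

theorem Setup.sum_osum_mul (χ : IrrCharacter G) :
    ∑ g : G, conj (S.osum χ g) * (χ : G → ℂ) g = (Nat.card G : ℂ) := by
  classical
  have h1 : classInner (χ : G → ℂ) (S.osum χ) = 1 := by
    rw [show S.osum χ = ∑ ψ ∈ S.orb χ, (ψ : G → ℂ) from funext fun g => (Finset.sum_apply g _ _).symm,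
      classInner_sum_right]
    simp only [irrC_orth]
    rw [Finset.sum_ite_eq, if_pos (S.self_mem χ)]
  simp only [classInner] at h1
  rw [inv_mul_eq_one₀ (Nat.cast_ne_zero.2 Nat.card_pos.ne')] at h1
  rw [h1]
  exact Finset.sum_congr rfl fun g _ => mul_comm _ _

theorem Setup.factorization_le (hM : IsPModular p M) (χ : IrrCharacter G) (ha : 1 ≤ S.a) :
    ((S.orb χ).card).factorization p + (deg (χ : G → ℂ)).factorization p ≤ S.a := by
  classical
  have hp := (Fact.out : p.Prime)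
  set s := ((S.orb χ).card).factorization p
  set f := deg (χ : G → ℂ)
  have hf : f ≠ 0 := fun h => irr_one_ne_zero χ.2 (by rw [char_one_eq_deg (irr_isCharacter χ.2), show
    deg (χ : G → ℂ) = 0 from h, Nat.cast_zero])
  have h1 := memLR_lam (pmod_prime hM) χ.2
    (f := fun g => conj (S.osum χ g) / ((p ^ s : ℕ) : ℂ))
    (fun g k => by simp only [S.isClassFunction_osum χ g k]) (S.memLR_osum_div hM χ ha)
  have h2 : lam (χ : G → ℂ) (fun g => conj (S.osum χ g) / ((p ^ s : ℕ) : ℂ)) =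
      (((Nat.card G : ℚ) / ((f * p ^ s : ℕ) : ℚ) : ℚ) : ℂ) := by
    rw [lam, char_one_eq_deg (irr_isCharacter χ.2)]
    simp only [div_mul_eq_mul_div, ← Finset.sum_div, S.sum_osum_mul]
    push_cast
    rw [div_div, mul_comm]
  rw [h2] at h1
  have hden := rat_den_not_dvd hM h1
  set q : ℚ := (Nat.card G : ℚ) / ((f * p ^ s : ℕ) : ℚ) with hq
  have hfp : f * p ^ s ≠ 0 := mul_ne_zero hf (pow_ne_zero _ hp.ne_zero)
  have h3 : (f * p ^ s : ℤ) * q.num = (Nat.card G : ℤ) * q.den := by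
    have h4 : ((f * p ^ s : ℕ) : ℚ) * q = Nat.card G := by
      rw [hq]; field_simp
    have h5 := Rat.num_div_den q
    have h6 : ((f * p ^ s : ℕ) : ℚ) * q.num = (Nat.card G : ℚ) * q.den := by
      rw [← h4, mul_assoc]
      congr 1
      exact (Rat.mul_den_eq_num q).symm
    exact_mod_cast h6
  have h4 : p ^ (f.factorization p + s) ∣ Nat.card G * q.den := by
    have h5 : (f * p ^ s : ℕ) ∣ Nat.card G * q.den := by
      have h6 : ((f * p ^ s : ℕ) : ℤ) ∣ ((Nat.card G * q.den : ℕ) : ℤ) := ⟨q.num, by push_cast; exact h3.symm⟩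
      exact_mod_cast h6
    refine dvd_trans ?_ h5
    rw [pow_add]
    exact Nat.mul_dvd_mul_right (Nat.ordProj_dvd f p) _
  have h5 : p ^ (f.factorization p + s) ∣ p ^ S.a := by
    have h6 := ((hp.coprime_iff_not_dvd.2 hden).pow_left _).dvd_of_dvd_mul_right h4
    rw [S.card] at h6
    exact ((hp.coprime_iff_not_dvd.2 S.ndvd).pow_left _).dvd_of_dvd_mul_right h6
  have := (Nat.pow_dvd_pow_iff_le_right hp.one_lt).1 h5
  omega

/-- If equality holds, the orbit is a union of blocks. -/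
theorem Setup.block_subset (hM : IsPModular p M) (χ : IrrCharacter G) (ha : 1 ≤ S.a)
    (heq : ((S.orb χ).card).factorization p + (deg (χ : G → ℂ)).factorization p = S.a)
    (θ : IrrCharacter G) (hθ : SameBlock M (χ : G → ℂ) (θ : G → ℂ)) : θ ∈ S.orb χ := by
  classical
  have hp := (Fact.out : p.Prime)
  have hP := pmod_prime hM
  set s := ((S.orb χ).card).factorization p
  set f := deg (χ : G → ℂ)
  let e : G → ℂ := ∑ ψ ∈ S.orb χ, idem (ψ : G → ℂ)
  have he : ∀ φ : IrrCharacter G, lam (φ : G → ℂ) e = if φ ∈ S.orb χ then 1 else 0 := fun φ => by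
    simp only [e, lam_sum, lam_idem, Finset.sum_ite_eq]
  have hev : ∀ g, e g = (((p ^ f.factorization p : ℕ) : ℂ) * ((p ^ s : ℕ) : ℂ) / ((p ^ S.a : ℕ) : ℂ)) *
      (((f / p ^ f.factorization p : ℕ) : ℂ) * (S.m : ℂ)⁻¹) * (conj (S.osum χ g) / ((p ^ s : ℕ) : ℂ)) := by
    intro g
    have hps : ((p ^ s : ℕ) : ℂ) ≠ 0 := Nat.cast_ne_zero.2 (pow_ne_zero _ hp.ne_zero)
    have hpa : ((p ^ S.a : ℕ) : ℂ) ≠ 0 := Nat.cast_ne_zero.2 (pow_ne_zero _ hp.ne_zero)
    have hm : (S.m : ℂ) ≠ 0 := Nat.cast_ne_zero.2 S.m_ne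
    have hfe : (f : ℂ) = ((p ^ f.factorization p : ℕ) : ℂ) * ((f / p ^ f.factorization p : ℕ) : ℂ) := by
      rw [← Nat.cast_mul, Nat.ordProj_mul_ordCompl_eq_self]
    simp only [e, Finset.sum_apply, idem]
    rw [← Finset.mul_sum, Finset.sum_congr rfl (g := fun ψ : IrrCharacter G => (f : ℂ) * conj ((ψ : G → ℂ) g))
      (fun ψ hψ => by rw [S.deg_orb hψ, char_one_eq_deg (irr_isCharacter χ.2)]), ← Finset.mul_sum, ← map_sum,
      S.card, Nat.cast_mul, show (∑ x ∈ S.orb χ, (x : G → ℂ) g) = S.osum χ g from rfl, hfe]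
    field_simp
  have hint : IsIntClassFun M e := by
    refine ⟨fun g k => by simp only [e, Finset.sum_apply, isClassFunction_idem (irr_isCharacter (Subtype.prop _)) g k],
      fun g => ?_⟩
    rw [hev g, ← Nat.cast_mul, ← pow_add, add_comm, heq,
      div_self (Nat.cast_ne_zero.2 (pow_ne_zero _ hp.ne_zero)), one_mul]
    exact memLR_mul hP (memLR_mul hP (memLR_natCast hP _) (memLR_inv_natCast hM S.ndvd))
      (S.memLR_osum_div hM χ ha g)
  by_contra hno
  have h1 := lam_congr hP χ.2 θ.2 hθ hint.1 hint.2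
  rw [he, he, if_pos (S.self_mem χ), if_neg hno, sub_zero] at h1
  exact memLI_one_iff hP h1

open scoped Classical in
/-- A character restricted to the section of `x`. -/
noncomputable def secPart (p : ℕ) (x : G) (χ : G → ℂ) : G → ℂ := fun g =>
  if ∀ z, IsPPart p g z → IsConj x z then χ g else 0

theorem isPPart_conj {g z k : G} (h : IsPPart p g z) : IsPPart p (k * g * k⁻¹) (k * z * k⁻¹) := by
  obtain ⟨y, rfl, hc, ⟨i, hi⟩, hy⟩ := h
  refine ⟨k * y * k⁻¹, by group, ?_, ⟨i, ?_⟩, ?_⟩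
  · show k * z * k⁻¹ * (k * y * k⁻¹) = k * y * k⁻¹ * (k * z * k⁻¹)
    rw [show k * z * k⁻¹ * (k * y * k⁻¹) = k * (z * y) * k⁻¹ by group, hc.eq]; group
  · rw [← hi, ← MulAut.conj_apply, MulEquiv.orderOf_eq]
  · rwa [← MulAut.conj_apply, MulEquiv.orderOf_eq]

theorem isClassFunction_secPart (x : G) {χ : G → ℂ} (hχ : IsClassFunction G χ) :
    IsClassFunction G (secPart p x χ) := by
  intro g k
  simp only [secPart]
  have hiff : (∀ z, IsPPart p (k * g * k⁻¹) z → IsConj x z) ↔ ∀ z, IsPPart p g z → IsConj x z := by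
    constructor
    · intro h z hz
      exact (h _ (isPPart_conj hz)).trans (isConj_iff.2 ⟨k⁻¹, by group⟩)
    · intro h z hz
      have h1 := isPPart_conj (k := k⁻¹) hz
      rw [show k⁻¹ * (k * g * k⁻¹) * k⁻¹⁻¹ = g by group] at h1
      exact (h _ h1).trans (isConj_iff.2 ⟨k, by group⟩)
  by_cases hg : ∀ z, IsPPart p g z → IsConj x z
  · rw [if_pos hg, if_pos (hiff.2 hg), hχ]
  · rw [if_neg hg, if_neg fun h => hg (hiff.1 h)]

theorem classInner_secPart_eq_zero (hM : IsPModular p M) {x : G} (hx : ∃ k : ℕ, orderOf x = p ^ k)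
    (χ ψ : IrrCharacter G) (h : ¬ SameBlock M (χ : G → ℂ) (ψ : G → ℂ)) :
    classInner (secPart p x (χ : G → ℂ)) (ψ : G → ℂ) = 0 := by
  classical
  have hP := pmod_prime hM
  set θ := secPart p x (χ : G → ℂ) with hθ
  have hcl := isClassFunction_character (irr_isCharacter χ.2)
  have hθc : IsClassFunction G θ := isClassFunction_secPart x hcl
  set B := blockOf M (ψ : G → ℂ)
  have hB : IsPBlock M B := isPBlock_blockOf M ψ
  have hχB : χ ∉ B := fun hmem => h (sameBlock_symm hP hmem)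
  have hzero : ∀ g, blockPart B θ g = 0 := by
    intro g
    obtain ⟨z, hz⟩ := exists_isPPart hM.1 g
    by_cases hxz : IsConj x z
    · have h1 := blockPart_eq_zero_of_isPPart hM hx (ϑ := fun y => θ y - (χ : G → ℂ) y)
        (fun a k => by simp only [hθc a k, hcl a k]) (fun u w hu hxw => by
          simp only [hθ, secPart]
          rw [if_pos fun w' hw' => (isPPart_unique hM.1 hu hw') ▸ hxw, sub_self]) hB hz hxz
      rw [blockPart_eq] at h1 ⊢
      rw [← h1]
      refine Finset.sum_congr rfl fun η hη => ?_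
      congr 1
      have h2 : classInner (χ : G → ℂ) (η : G → ℂ) = 0 := by
        rw [irrC_orth, if_neg]; rintro rfl; exact hχB (Finset.mem_filter.1 hη).2
      simp only [classInner] at h2 ⊢
      simp only [sub_mul, Finset.sum_sub_distrib, mul_sub, h2, sub_zero]
    · refine blockPart_eq_zero_of_isPPart hM (x := z) ?_ hθc (fun u w hu hzw => ?_) hB hz (IsConj.refl z)
      · obtain ⟨y, -, -, hk, -⟩ := hz
        exact hk
      · simp only [hθ, secPart]
        rw [if_neg fun hall => hxz ((hall w hu).trans hzw.symm)]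
  have h1 : classInner (blockPart B θ) (ψ : G → ℂ) = classInner θ (ψ : G → ℂ) := by
    rw [show blockPart B θ = ∑ η : IrrCharacter G with η ∈ B, classInner θ (η : G → ℂ) • (η : G → ℂ) from
      funext fun y => by rw [blockPart_eq, Finset.sum_apply]; rfl, classInner_sum_left]
    simp only [classInner_smul_left, irrC_orth, mul_ite, mul_one, mul_zero]
    rw [Finset.sum_ite_eq', if_pos (Finset.mem_filter.2 ⟨Finset.mem_univ _, self_mem_blockOf hP ψ⟩)]
  rw [← h1, show blockPart B θ = 0 from funext hzero]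
  simp [classInner]

theorem Setup.vanish_on_pElement (hM : IsPModular p M) (χ : IrrCharacter G) (ha : 1 ≤ S.a)
    (heq : ((S.orb χ).card).factorization p + (deg (χ : G → ℂ)).factorization p = S.a)
    {x : G} (hx : ∃ k : ℕ, orderOf x = p ^ k) (hx1 : x ≠ 1) : (χ : G → ℂ) x = 0 := by
  classical
  have hp := (Fact.out : p.Prime)
  haveI := S.neZero
  obtain ⟨c, hc, hsum⟩ := S.fiber_count χ
  have hcl := isClassFunction_character (irr_isCharacter χ.2)
  -- sums of translates of a section part are multiples of the orbit sum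
  have key : ∀ y : G, (∃ k : ℕ, orderOf y = p ^ k) → ∃ d : ℂ, ∀ g : G,
      ∑ u : S.U, secPart p y (χ : G → ℂ) (g ^ ((u : (ZMod (p ^ S.a * S.m))ˣ) : ZMod (p ^ S.a * S.m)).val) =
        d * S.osum χ g := by
    intro y hy
    refine ⟨∑ ψ ∈ S.orb χ, classInner (secPart p y (χ : G → ℂ)) (ψ : G → ℂ) * c, fun g => ?_⟩
    have hexp := classFun_expansion (isClassFunction_secPart (p := p) y hcl)
    rw [Finset.sum_mul]
    have hstep : ∀ g' : G, secPart p y (χ : G → ℂ) g' =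
        ∑ ψ ∈ S.orb χ, classInner (secPart p y (χ : G → ℂ)) (ψ : G → ℂ) * (ψ : G → ℂ) g' := fun g' => by
      conv_lhs => rw [hexp]
      rw [Finset.sum_apply]
      refine (Finset.sum_subset (Finset.subset_univ _) fun ψ _ hψ => ?_).symm
      rw [Pi.smul_apply, smul_eq_mul, classInner_secPart_eq_zero hM hy χ ψ
        (fun hs => hψ (S.block_subset hM χ ha heq ψ hs)), zero_mul]
    simp only [fun u : S.U => hstep (g ^ ((u : (ZMod (p ^ S.a * S.m))ˣ) : ZMod (p ^ S.a * S.m)).val)]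
    rw [Finset.sum_comm]
    refine Finset.sum_congr rfl fun ψ hψ => ?_
    rw [← Finset.mul_sum, hsum ψ g hψ, mul_assoc]
  have hpow : ∀ u : S.U, (((u : (ZMod (p ^ S.a * S.m))ˣ) : ZMod (p ^ S.a * S.m)).val).Coprime (orderOf x) :=
    fun u => (val_coprime (u : (ZMod (p ^ S.a * S.m))ˣ)).coprime_dvd_right (orderOf_dvd_of_pow_eq_one (S.hexp x))
  have hppart : ∀ u : S.U, IsPPart p (x ^ ((u : (ZMod (p ^ S.a * S.m))ˣ) : ZMod (p ^ S.a * S.m)).val)
      (x ^ ((u : (ZMod (p ^ S.a * S.m))ˣ) : ZMod (p ^ S.a * S.m)).val) := fun u => by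
    refine ⟨1, mul_one _, Commute.one_right _, ?_, by rw [orderOf_one]; exact hp.not_dvd_one⟩
    obtain ⟨k, hk⟩ := hx
    exact ⟨k, by rw [(hpow u).symm.orderOf_pow, hk]⟩
  have hone1 : ∀ z : G, IsPPart p 1 z → z = 1 := fun z hz => isPPart_unique hp hz
    ⟨1, mul_one _, Commute.one_right _, ⟨0, by simp⟩, by rw [orderOf_one]; exact hp.not_dvd_one⟩
  obtain ⟨d, hd⟩ := key 1 ⟨0, by simp⟩
  have hd0 : d ≠ 0 := by
    intro h0
    have h1 := hd 1
    rw [h0, zero_mul] at h1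
    simp only [one_pow, secPart] at h1
    rw [Finset.sum_congr rfl (g := fun _ => (χ : G → ℂ) 1)
      (fun u _ => by rw [if_pos fun z hz => by rw [hone1 z hz]]), Finset.sum_const, nsmul_eq_mul] at h1
    exact irr_one_ne_zero χ.2 ((mul_eq_zero.1 h1).resolve_left
      (Nat.cast_ne_zero.2 (Finset.card_ne_zero.2 Finset.univ_nonempty)))
  have hosum : S.osum χ x = 0 := by
    have h1 := hd x
    rw [Finset.sum_eq_zero fun u _ => ?_] at h1
    · exact (mul_eq_zero.1 h1.symm).resolve_left hd0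
    · simp only [secPart]
      rw [if_neg fun h => ?_]
      have h2 := isConj_one_right.1 (h _ (hppart u))
      refine hx1 ?_
      rw [← orderOf_eq_one_iff, ← (hpow u).symm.orderOf_pow, h2, orderOf_one]
  obtain ⟨e, he⟩ := key x hx
  have h1 := he x
  rw [hosum, mul_zero] at h1
  have hterm : ∀ u : S.U, secPart p x (χ : G → ℂ) (x ^ ((u : (ZMod (p ^ S.a * S.m))ˣ) : ZMod (p ^ S.a * S.m)).val) =
      if IsConj x (x ^ ((u : (ZMod (p ^ S.a * S.m))ˣ) : ZMod (p ^ S.a * S.m)).val) then (χ : G → ℂ) x else 0 := by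
    intro u
    simp only [secPart]
    by_cases hcj : IsConj x (x ^ ((u : (ZMod (p ^ S.a * S.m))ˣ) : ZMod (p ^ S.a * S.m)).val)
    · rw [if_pos fun z hz => (isPPart_unique hp (hppart u) hz) ▸ hcj, if_pos hcj]
      obtain ⟨k, hk⟩ := isConj_iff.1 hcj
      rw [← hk, hcl]
    · rw [if_neg fun h => hcj (h _ (hppart u)), if_neg hcj]
  simp only [hterm, Finset.sum_ite, Finset.sum_const_zero, add_zero, Finset.sum_const, nsmul_eq_mul] at h1
  refine (mul_eq_zero.1 h1).resolve_left (Nat.cast_ne_zero.2 (Finset.card_ne_zero.2 ⟨1, ?_⟩))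
  refine Finset.mem_filter.2 ⟨Finset.mem_univ _, ?_⟩
  rw [Subgroup.coe_one, pow_val_one S.hexp]

/-- If the p-part of `r * f` is full then so is that of `f`. -/
theorem Setup.full_of_eq (hM : IsPModular p M) (χ : IrrCharacter G) (ha : 1 ≤ S.a)
    (heq : ((S.orb χ).card).factorization p + (deg (χ : G → ℂ)).factorization p = S.a) :
    p ^ S.a ∣ deg (χ : G → ℂ) := by
  classical
  have hp := (Fact.out : p.Prime)
  obtain P : Sylow p G := default
  haveI := Fintype.ofFinite (P : Subgroup G)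
  obtain ⟨N, hN⟩ := classInner_natCast (isCharacter_comp (P : Subgroup G).subtype (irr_isCharacter χ.2))
    (irr_isCharacter (isIrrCharacter_one (G := (P : Subgroup G))))
  have hcard : Nat.card (P : Subgroup G) = p ^ S.a := by
    rw [P.card_eq_multiplicity, S.card, Nat.factorization_mul (pow_ne_zero _ hp.ne_zero) S.m_ne,
      Finsupp.add_apply, hp.factorization_pow, Finsupp.single_eq_same,
      Nat.factorization_eq_zero_of_not_dvd S.ndvd, add_zero]
  refine ⟨N, ?_⟩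
  have h1 : classInner ((χ : G → ℂ) ∘ (P : Subgroup G).subtype) (fun _ => 1) =
      (Nat.card (P : Subgroup G) : ℂ)⁻¹ * (χ : G → ℂ) 1 := by
    simp only [classInner, map_one, mul_one, Function.comp_apply]
    congr 1
    rw [Finset.sum_eq_single (1 : (P : Subgroup G)) (fun y _ hy => ?_) (fun h => absurd (Finset.mem_univ _) h)]
    · simp
    · obtain ⟨k, hk⟩ := IsPGroup.iff_orderOf.1 P.isPGroup' y
      exact S.vanish_on_pElement hM χ ha heq (x := (y : G)) ⟨k, by rw [Subgroup.orderOf_coe, hk]⟩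
        (fun h => hy (Subtype.ext h))
  rw [h1, hcard, char_one_eq_deg (irr_isCharacter χ.2),
    inv_mul_eq_iff_eq_mul₀ (Nat.cast_ne_zero.2 (pow_ne_zero _ hp.ne_zero))] at hN
  exact_mod_cast hN

end Cfsg.Agent.Char.PConj
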