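import Cfsg.Agent.Lib.Char.DefectOneValues
import Cfsg.Agent.Lib.Char.GaloisPPart

/-!
# The p-conjugate classes in a block with a Sylow defect group of order `p`

The exceptional characters form one class and every other character is fixed.
-/

set_option autoImplicit false
set_option linter.unusedSectionVars false
set_option linter.style.haveILetI false

open Cfsg
open scoped ComplexConjugate

namespace Cfsg.Agent.Char.DefectOne

universe u

variable {G : Type u} [Group G] [Fintype G] {M : Ideal AlgInt} {p : ℕ} [Fact p.Prime]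
  (S : PConj.Setup G p)

/-- The exponent of a unit. -/
def uexp (u : S.U) : ℕ := ((u : (ZMod (p ^ S.a * S.m))ˣ) : ZMod (p ^ S.a * S.m)).val

/-- A p-conjugate of a character. -/
noncomputable def act (u : S.U) (χ : IrrCharacter G) : IrrCharacter G :=
  ⟨gal (u : (ZMod (p ^ S.a * S.m))ˣ) (χ : G → ℂ), by haveI := S.neZero; exact isIrr_gal S.hexp _ χ.2⟩

theorem act_apply (u : S.U) (χ : IrrCharacter G) (g : G) :
    (act S u χ : G → ℂ) g = (χ : G → ℂ) (g ^ uexp S u) := rfl

theorem act_injective (u : S.U) : Function.Injective (act S u) := fun χ χ' h => by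
  have h1 := congrArg (gal ((u⁻¹ : S.U) : (ZMod (p ^ S.a * S.m))ˣ)) (congrArg Subtype.val h)
  simp only [act] at h1
  rw [← gal_mul S.hexp, ← gal_mul S.hexp, ← Subgroup.coe_mul, inv_mul_cancel, Subgroup.coe_one, gal_one S.hexp,
    gal_one S.hexp] at h1
  exact Subtype.ext h1

theorem mem_orb_iff {χ ψ : IrrCharacter G} : ψ ∈ S.orb χ ↔ ∃ u : S.U, ψ = act S u χ := by
  rw [S.mem_orb]
  exact ⟨fun ⟨u, hu, h⟩ => ⟨⟨u, hu⟩, Subtype.ext h⟩, fun ⟨u, h⟩ => ⟨u, u.2, by rw [h]; rfl⟩⟩

/-- A set of characters closed under p-conjugacy. -/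
def Closed (O : Finset (IrrCharacter G)) : Prop := ∀ (u : S.U), ∀ χ ∈ O, act S u χ ∈ O

theorem closed_orb (χ : IrrCharacter G) : Closed S (S.orb χ) := by
  intro u ψ hψ
  obtain ⟨w, rfl⟩ := (mem_orb_iff S).mp hψ
  refine (mem_orb_iff S).mpr ⟨u * w, Subtype.ext ?_⟩
  show gal _ (gal _ _) = gal _ _
  rw [← gal_mul S.hexp]
  rfl

open scoped Classical in
theorem Closed.sdiff {O O' : Finset (IrrCharacter G)} (h : Closed S O) (h' : Closed S O') : Closed S (O \ O') := by
  intro u χ hχ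
  rw [Finset.mem_sdiff] at hχ ⊢
  refine ⟨h u χ hχ.1, fun hmem => hχ.2 ?_⟩
  have hbij : O'.image (act S u) = O' :=
    Finset.eq_of_subset_of_card_le (fun ψ hψ => by
      obtain ⟨χ', hχ', rfl⟩ := Finset.mem_image.mp hψ
      exact h' u χ' hχ') (le_of_eq (Finset.card_image_of_injective _ (act_injective S u)).symm)
  rw [← hbij] at hmem
  obtain ⟨χ', hχ', he⟩ := Finset.mem_image.mp hmem
  exact act_injective S u he ▸ hχ'

theorem orb_subset {O : Finset (IrrCharacter G)} (h : Closed S O) {χ : IrrCharacter G} (hχ : χ ∈ O) :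
    S.orb χ ⊆ O := fun ψ hψ => by
  obtain ⟨u, rfl⟩ := (mem_orb_iff S).mp hψ
  exact h u χ hχ

theorem orb_eq_singleton {χ : IrrCharacter G} (h : ∀ u, act S u χ = χ) : S.orb χ = {χ} := by
  refine Finset.eq_singleton_iff_unique_mem.mpr ⟨S.self_mem χ, fun ψ hψ => ?_⟩
  obtain ⟨u, rfl⟩ := (mem_orb_iff S).mp hψ
  exact h u

/-- The action is trivial on the regular elements. -/
theorem pow_uexp (u : S.U) {g : G} (hg : ¬ p ∣ orderOf g) : g ^ uexp S u = g := by
  have h1 : orderOf g ∣ S.m := by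
    refine Nat.Coprime.dvd_of_dvd_mul_left ?_ (S.card ▸ orderOf_dvd_natCard g)
    exact (((Fact.out : p.Prime).coprime_iff_not_dvd.mpr hg).symm.pow_right _)
  conv_rhs => rw [← pow_one g]
  exact pow_eq_pow_iff_modEq.mpr (Nat.ModEq.of_dvd h1 (S.modEq_one u.2))

theorem act_regular (u : S.U) (χ : IrrCharacter G) {g : G} (hg : ¬ p ∣ orderOf g) :
    (act S u χ : G → ℂ) g = (χ : G → ℂ) g := by rw [act_apply, pow_uexp S u hg]

theorem act_deg (u : S.U) (χ : IrrCharacter G) : deg (act S u χ : G → ℂ) = deg (χ : G → ℂ) := by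
  have h := act_regular S u χ (g := (1 : G)) (by simp [(Fact.out : p.Prime).ne_one])
  rw [char_one_eq_deg (irr_isCharacter (act S u χ).2), char_one_eq_deg (irr_isCharacter χ.2)] at h
  exact_mod_cast h

theorem act_mem (hM : IsPModular p M) {B : Set (IrrCharacter G)} (hB : IsPBlock M B) (u : S.U) {χ : IrrCharacter G}
    (hχ : χ ∈ B) : act S u χ ∈ B := by
  have hP := pmod_prime hM
  have h1 : einner p (act S u χ : G → ℂ) (χ : G → ℂ) = einner p (χ : G → ℂ) (χ : G → ℂ) := by
    simp only [einner, classInner, Pi.mul_apply]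
    refine congrArg _ (Finset.sum_congr rfl fun g _ => ?_)
    by_cases hg : p ∣ orderOf g
    · simp [regInd, hg]
    · rw [act_regular S u χ hg]
  rw [block_eq_blockOf hP hB hχ]
  by_contra h
  refine einner_ne_zero_self hM.1 χ.2 ?_
  rw [← h1]
  refine einner_eq_zero_of_not_sameBlock hM _ _ fun hs => h ?_
  rw [← blockOf_eq_of_sameBlock hP hs]
  exact self_mem_blockOf hP _

section Weights

variable {B : Set (IrrCharacter G)} {P : Subgroup G} {b : Set (IrrCharacter (Subgroup.centralizer (P : Set G)))}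
  [Fintype (Subgroup.centralizer (P : Set G))] (hM : IsPModular p M) (hmax : IsMaximalBrauerPair p M B P b)
  (hcard : Nat.card P = p) (hSyl : ¬ p ^ 2 ∣ Nat.card G)
  {θ : IrrCharacter (Subgroup.centralizer (P : Set G))} (hθ : θ ∈ b)

include hM hmax hcard hSyl hθ

open scoped Classical in
theorem wgt_act (u : S.U) (χ : IrrCharacter G) (v : P) :
    wgt b (act S u χ) (incl hM hcard v) = wgt b χ (incl hM hcard (v ^ uexp S u)) := by
  have hk : (Nat.card (Subgroup.centralizer (P : Set G)) : ℂ) / p ≠ 0 :=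
    div_ne_zero (Nat.cast_ne_zero.mpr Nat.card_pos.ne') (Nat.cast_ne_zero.mpr hM.1.ne_zero)
  refine mul_left_cancel₀ hk ?_
  rw [← wgt_eq hM hmax hcard hSyl hθ, ← wgt_eq hM hmax hcard hSyl hθ]
  refine Finset.sum_congr rfl fun x hx => ?_
  rw [act_apply, (show Commute (v : G) (x : G) from x.2 (v : G) v.2).mul_pow,
    pow_uexp S u (g := (x : G)) (by rw [Subgroup.orderOf_coe]; exact (Finset.mem_filter.mp hx).2)]
  rfl

omit hmax hSyl hθ in
/-- The conjugacy is transitive on the nontrivial elements of `P`. -/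
theorem exists_exp {v v' : P} (hv : v ≠ 1) (hv' : v' ≠ 1) : ∃ u : S.U, v ^ uexp S u = v' := by
  have hp := hM.1
  haveI := S.neZero
  haveI := Fact.mk hp
  have hord : orderOf v = p := orderOf_eq_prime (pow_p hM hcard v) hv
  have hgen : v' ∈ Submonoid.powers v := mem_powers_of_prime_card hcard hv
  obtain ⟨j, rfl⟩ := hgen
  have hj : ¬ p ∣ j := fun h => hv' (orderOf_dvd_iff_pow_eq_one.mp (hord ▸ h))
  have ha : S.a ≠ 0 := fun h => by
    have h1 : p ∣ Nat.card G := hcard ▸ Subgroup.card_subgroup_dvd_card P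
    rw [S.card, h, pow_zero, one_mul] at h1
    exact S.ndvd h1
  obtain ⟨k, hk1, hk2⟩ := Nat.chineseRemainder S.cop j 1
  have hkc : k.Coprime (p ^ S.a * S.m) := by
    refine Nat.Coprime.mul_right ((hp.coprime_iff_not_dvd.mpr fun h => hj ?_).symm.pow_right _) ?_
    · exact ((hk1.of_dvd (dvd_pow_self p ha)).dvd_iff (dvd_refl p)).mp h
    · rw [Nat.Coprime, hk2.gcd_eq, Nat.gcd_one_left]
  refine ⟨⟨ZMod.unitOfCoprime k hkc, ?_⟩, ?_⟩
  · rw [PConj.Setup.U, MonoidHom.mem_ker]
    refine Units.ext ?_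
    rw [ZMod.unitsMap_val, ZMod.coe_unitOfCoprime, Units.val_one, ZMod.cast_natCast S.dvd, ← Nat.cast_one,
      ZMod.natCast_eq_natCast_iff]
    exact hk2
  · refine pow_eq_pow_iff_modEq.mpr ?_
    rw [hord, uexp, ZMod.coe_unitOfCoprime, ZMod.val_natCast]
    exact ((Nat.mod_modEq k _).of_dvd ((dvd_pow_self p ha).trans (dvd_mul_right _ _))).trans
      (hk1.of_dvd (dvd_pow_self p ha))

open scoped Classical in
/-- A closed set has one integral weight outside the identity. -/
theorem closed_value (hθP : ∀ x : Subgroup.centralizer (P : Set G), (x : G) ∈ P →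
      (θ : Subgroup.centralizer (P : Set G) → ℂ) x = (θ : Subgroup.centralizer (P : Set G) → ℂ) 1)
    {O : Finset (IrrCharacter G)} (hO : Closed S O) (s : IrrCharacter G → ℤ)
    (hs : ∀ u, ∀ χ ∈ O, s (act S u χ) = s χ) :
    ∃ a : ℤ, (∀ v : P, v ≠ 1 → ∑ χ ∈ O, (s χ : ℂ) * wgt b χ (incl hM hcard v) = (a : ℂ)) ∧
      a ≡ ∑ χ ∈ O, s χ * ((∑ ψ : IrrCharacter (Subgroup.centralizer (P : Set G)) with ψ ∈ b, mult χ ψ : ℕ) : ℤ)
        [ZMOD p] := by
  have hp := hM.1
  set f : P → ℂ := fun v => ∑ χ ∈ O, (s χ : ℂ) * wgt b χ (incl hM hcard v) with hf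
  have hinv : ∀ (u : S.U) (v : P), f (v ^ uexp S u) = f v := by
    intro u v
    simp only [hf, ← wgt_act S hM hmax hcard hSyl hθ]
    refine Finset.sum_bij (fun χ _ => act S u χ) (fun χ hχ => hO u χ hχ)
      (fun a _ c _ h => act_injective S u h) (fun χ' hχ' => ?_) (fun χ hχ => by rw [hs u χ hχ])
    have hbij : O.image (act S u) = O :=
      Finset.eq_of_subset_of_card_le (fun ψ hψ => by
        obtain ⟨χ, hχ, rfl⟩ := Finset.mem_image.mp hψ
        exact hO u χ hχ) (le_of_eq (Finset.card_image_of_injective _ (act_injective S u)).symm)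
    rw [← hbij] at hχ'
    obtain ⟨χ, hχ, he⟩ := Finset.mem_image.mp hχ'
    exact ⟨χ, hχ, he⟩
  haveI : Nontrivial P := Finite.one_lt_card_iff_nontrivial.mp (hcard.symm ▸ hp.one_lt)
  obtain ⟨v0, hv0⟩ := exists_ne (1 : P)
  have hconst : ∀ v : P, v ≠ 1 → f v = f v0 := fun v hv => by
    obtain ⟨u, rfl⟩ := exists_exp S hM hcard hv0 hv
    exact hinv u v0
  -- a root other than the trivial one
  obtain ⟨ψ0, hψ0, hne⟩ : ∃ ψ0 ∈ b, ψ0 ≠ θ := by
    have h1 := card_local hM hmax hcard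
    rw [Nat.card_coe_set_eq] at h1
    exact Set.exists_ne_of_one_lt_ncard (h1.symm ▸ hp.one_lt) θ
  let n : IrrCharacter G → ℕ := fun χ => ∑ ψ : IrrCharacter (Subgroup.centralizer (P : Set G)) with ψ ∈ b, mult χ ψ
  let A : ℤ := ∑ χ ∈ O, s χ * (mult χ ψ0 : ℤ)
  refine ⟨∑ χ ∈ O, s χ * (n χ : ℤ) - p * A, fun v hv => ?_, ?_⟩
  swap
  · rw [Int.modEq_iff_dvd]
    exact ⟨A, by ring⟩
  show f v = _
  rw [hconst v hv]
  set z : P → ℂ := fun w => (ψ0 : Subgroup.centralizer (P : Set G) → ℂ) (incl hM hcard w) /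
    (ψ0 : Subgroup.centralizer (P : Set G) → ℂ) 1 with hz
  have h1 : (θ : Subgroup.centralizer (P : Set G) → ℂ) 1 ≠ 0 := by
    rw [char_one_eq_deg (irr_isCharacter θ.2)]
    exact Nat.cast_ne_zero.mpr (deg_pos θ.2).ne'
  have hzsum : ∑ w, conj (z w) = 0 := by
    have h := root_orth hM hmax hcard hSyl hθ hψ0
    rw [if_neg (fun e => hne e.symm)] at h
    rw [← h]
    refine Finset.sum_congr rfl fun w _ => ?_
    rw [hθP _ w.2, div_self h1, one_mul]
  have hz1 : z 1 = 1 := by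
    simp only [hz, show incl hM hcard (1 : P) = 1 from Subtype.ext rfl]
    rw [div_self]
    rw [char_one_eq_deg (irr_isCharacter ψ0.2)]
    exact Nat.cast_ne_zero.mpr (deg_pos ψ0.2).ne'
  have hfz : ∑ w, f w * conj (z w) = (p : ℂ) * (A : ℂ) := by
    simp only [hf, Finset.sum_mul, A, Int.cast_sum, Finset.mul_sum]
    rw [Finset.sum_comm]
    refine Finset.sum_congr rfl fun χ _ => ?_
    rw [Int.cast_mul, Int.cast_natCast]
    simp only [wgt, Finset.mul_sum, Finset.sum_mul]
    rw [Finset.sum_comm, Finset.sum_eq_single ψ0]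
    · rw [Finset.sum_congr rfl fun w _ => (by ring : _ = (s χ : ℂ) * (mult χ ψ0 : ℂ) *
        ((ψ0 : Subgroup.centralizer (P : Set G) → ℂ) (incl hM hcard w) /
          (ψ0 : Subgroup.centralizer (P : Set G) → ℂ) 1 * conj (z w))), ← Finset.mul_sum,
        root_orth hM hmax hcard hSyl hψ0 hψ0, if_pos rfl]
      ring
    · intro φ hφ hφne
      rw [Finset.sum_congr rfl fun w _ => (by ring : _ = (s χ : ℂ) * (mult χ φ : ℂ) *
        ((φ : Subgroup.centralizer (P : Set G) → ℂ) (incl hM hcard w) /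
          (φ : Subgroup.centralizer (P : Set G) → ℂ) 1 * conj (z w))), ← Finset.mul_sum,
        root_orth hM hmax hcard hSyl (Finset.mem_filter.mp hφ).2 hψ0, if_neg hφne, mul_zero]
    · exact fun h => absurd (Finset.mem_filter.mpr ⟨Finset.mem_univ _, hψ0⟩) h
  have hf1 : f 1 = ((∑ χ ∈ O, s χ * (n χ : ℤ) : ℤ) : ℂ) := by
    simp only [hf, show incl hM hcard (1 : P) = 1 from Subtype.ext rfl, wgt_one hM hcard, Int.cast_sum,
      Int.cast_mul, Int.cast_natCast]
    rfl
  rw [← Finset.add_sum_erase _ _ (Finset.mem_univ (1 : P)), hz1, map_one, mul_one,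
    Finset.sum_congr rfl fun w hw => by rw [hconst w (Finset.mem_erase.mp hw).1], ← Finset.mul_sum] at hfz
  rw [← Finset.add_sum_erase _ _ (Finset.mem_univ (1 : P)), hz1, map_one] at hzsum
  rw [Int.cast_sub, Int.cast_mul, Int.cast_natCast, ← hf1]
  linear_combination (f v0) * hzsum - hfz

open scoped Classical in
/-- The bound on a vector orthogonal to nothing. -/
theorem weight_bound (hθP : ∀ x : Subgroup.centralizer (P : Set G), (x : G) ∈ P →
      (θ : Subgroup.centralizer (P : Set G) → ℂ) x = (θ : Subgroup.centralizer (P : Set G) → ℂ) 1)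
    {e : ℕ} (he : (Subgroup.centralizer (P : Set G)).relIndex (pairStab (pmod_prime hM) hmax.1.1.2) = e)
    (x : IrrCharacter G → ℝ) {a : ℝ}
    (hx : ∀ v : P, v ≠ 1 → ∑ χ, (x χ : ℂ) * wgt b χ (incl hM hcard v) = (a : ℂ)) :
    ((p : ℝ) - 1) * a ^ 2 ≤ (p : ℝ) * e * ∑ χ, x χ ^ 2 := by
  have hp := hM.1
  have hP := pmod_prime hM
  set T := pairStab hP hmax.1.1.2 with hT
  have he0 : 0 < e := Nat.pos_of_ne_zero fun h => Subgroup.index_ne_zero_of_finite (he.trans h)
  have hcardT : Nat.card T = Nat.card (Subgroup.centralizer (P : Set G)) * e := by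
    rw [card_eq_inf_mul_relIndex (Subgroup.centralizer (P : Set G)) T,
      inf_eq_left.mpr (stabCtx_pairStab hM hmax.1.1.1 hmax.1.1.2).cent, he]
  set P1 := (Finset.univ : Finset P).erase 1 with hP1
  have hP1card : (P1.card : ℂ) = (p : ℂ) - 1 := by
    rw [hP1, Finset.card_erase_of_mem (Finset.mem_univ _), Finset.card_univ, ← Nat.card_eq_fintype_card, hcard,
      Nat.cast_sub hp.one_le, Nat.cast_one]
  set w : IrrCharacter G → ℂ := fun χ => ∑ v ∈ P1, wgt b χ (incl hM hcard v) with hw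
  have hzw : ∑ χ, (x χ : ℂ) * w χ = ((p : ℂ) - 1) * a := by
    simp only [hw, Finset.mul_sum]
    rw [Finset.sum_comm, Finset.sum_congr rfl fun v hv => hx v (Finset.mem_erase.mp hv).1, Finset.sum_const,
      nsmul_eq_mul, hP1card]
  have hzw' : ∑ χ, (x χ : ℂ) * conj (w χ) = ((p : ℂ) - 1) * a := by
    have h := congrArg conj hzw
    simp only [map_sum, map_mul, map_sub, map_natCast, map_one, Complex.conj_ofReal] at h
    exact h
  have hww : ∑ χ, w χ * conj (w χ) = (p : ℂ) * e * ((p : ℂ) - 1) := by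
    simp only [hw, map_sum, Finset.sum_mul_sum]
    rw [Finset.sum_comm, Finset.sum_congr rfl fun v _ => Finset.sum_comm]
    have hv : ∀ v ∈ P1, ∑ v' ∈ P1, ∑ χ : IrrCharacter G,
        wgt b χ (incl hM hcard v) * conj (wgt b χ (incl hM hcard v')) = (p : ℂ) * e := by
      intro v hv
      have hv1 := (Finset.mem_erase.mp hv).1
      rw [Finset.sum_congr rfl fun v' _ => wgt_orth hM hmax hcard hSyl hθ hθP v v' hv1, ← Finset.mul_sum,
        ← Nat.cast_sum, ← Finset.card_biUnion]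
      · rw [show (P1.biUnion fun v' : P => Finset.univ.filter fun g : G => g ∈ T ∧ g * (v : G) * g⁻¹ = v') =
            Finset.univ.filter fun g : G => g ∈ T by
          ext g
          simp only [Finset.mem_biUnion, Finset.mem_filter, Finset.mem_univ, true_and]
          refine ⟨fun ⟨_, _, h, _⟩ => h, fun hg => ?_⟩
          have hgN := ((mem_pairStab hP _).mp hg).1
          refine ⟨⟨g * (v : G) * g⁻¹, (Subgroup.mem_normalizer_iff.mp hgN _).mp v.2⟩,
            Finset.mem_erase.mpr ⟨fun h => hv1 (Subtype.ext (conj_eq_one_iff.mp (congrArg Subtype.val h))),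
              Finset.mem_univ _⟩, hg, rfl⟩,
          show (Finset.univ.filter fun g : G => g ∈ T).card = Nat.card T by
            rw [Nat.card_eq_fintype_card, Fintype.card_subtype], hcardT]
        have hC0 : (Nat.card (Subgroup.centralizer (P : Set G)) : ℂ) ≠ 0 := Nat.cast_ne_zero.mpr Nat.card_pos.ne'
        push_cast
        field_simp
      · intro i _ j _ hij
        refine Finset.disjoint_left.mpr fun g hg hg' => hij (Subtype.ext ?_)
        exact (Finset.mem_filter.mp hg).2.2.symm.trans (Finset.mem_filter.mp hg').2.2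
    rw [Finset.sum_congr rfl hv, Finset.sum_const, nsmul_eq_mul, hP1card]
    ring
  -- completing the square
  have h0 : 0 ≤ (∑ χ, ((p * e : ℝ) * (x χ : ℂ) - (a : ℂ) * w χ) *
      conj ((p * e : ℝ) * (x χ : ℂ) - (a : ℂ) * w χ)).re := by
    rw [Complex.re_sum]
    exact Finset.sum_nonneg fun χ _ => by rw [Complex.mul_conj, Complex.ofReal_re]; exact Complex.normSq_nonneg _
  have hexp : ∑ χ, ((p * e : ℝ) * (x χ : ℂ) - (a : ℂ) * w χ) * conj ((p * e : ℝ) * (x χ : ℂ) - (a : ℂ) * w χ) =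
      (((p * e : ℝ) * ((p * e : ℝ) * ∑ χ, x χ ^ 2 - ((p : ℝ) - 1) * a ^ 2) : ℝ) : ℂ) := by
    simp only [map_sub, map_mul, Complex.conj_ofReal]
    rw [Finset.sum_congr rfl (g := fun χ => ((p * e : ℝ) : ℂ) * (p * e : ℝ) * (x χ ^ 2 : ℝ) -
      ((p * e : ℝ) : ℂ) * a * ((x χ : ℂ) * w χ) - ((p * e : ℝ) : ℂ) * a * ((x χ : ℂ) * conj (w χ)) +
      (a : ℂ) * a * (w χ * conj (w χ))) fun χ _ => by push_cast; ring]
    rw [Finset.sum_add_distrib, Finset.sum_sub_distrib, Finset.sum_sub_distrib, ← Finset.mul_sum, ← Finset.mul_sum,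
      ← Finset.mul_sum, ← Finset.mul_sum, hzw, hzw', hww]
    push_cast
    ring
  rw [hexp, Complex.ofReal_re] at h0
  have := nonneg_of_mul_nonneg_right h0 (mul_pos (Nat.cast_pos.mpr hp.pos) (Nat.cast_pos.mpr he0))
  linarith

end Weights

theorem not_dvd_of_sign {q : ℕ} (hq : q.Prime) (hq2 : q ≠ 2) {t t' : ℤ} (ht : t = 1 ∨ t = -1)
    (ht' : t' = 1 ∨ t' = -1) (h : (q : ℤ) ∣ t - t') : t = t' := by
  have h2 : ¬ (q : ℤ) ∣ 2 := fun h => hq2 ((Nat.prime_dvd_prime_iff_eq hq Nat.prime_two).mp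
    (Int.natCast_dvd_natCast.mp h))
  rcases ht with rfl | rfl <;> rcases ht' with rfl | rfl
  · rfl
  · exact absurd h h2
  · exact absurd (dvd_neg.mp h) h2
  · rfl

theorem abs_ge_of_dvd {q : ℕ} {t : ℕ} (ht : 2 * t + 1 ≤ q) {a η : ℤ} (hη : η = 1 ∨ η = -1)
    (h : (q : ℤ) ∣ η * t - a) : (t : ℤ) ≤ |a| := by
  obtain ⟨k, hk⟩ := h
  by_contra hlt
  push Not at hlt
  obtain ⟨h1, h2⟩ := abs_lt.mp hlt
  rcases lt_trichotomy k 0 with h0 | h0 | h0
  · have : (q : ℤ) * k ≤ -(q : ℤ) := by nlinarith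
    rcases hη with h' | h' <;> rw [h'] at hk <;> omega
  · subst h0
    rcases hη with h' | h' <;> rw [h'] at hk <;> omega
  · have : (q : ℤ) ≤ (q : ℤ) * k := by nlinarith
    rcases hη with h' | h' <;> rw [h'] at hk <;> omega

open scoped Classical in
set_option maxHeartbeats 1000000 in
/-- The same, with the common value of the fixed characters on the singular elements. -/
theorem galois_main_values {B : Set (IrrCharacter G)} {P : Subgroup G}
    {b : Set (IrrCharacter (Subgroup.centralizer (P : Set G)))} [Fintype (Subgroup.centralizer (P : Set G))]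
    (hM : IsPModular p M) (hmax : IsMaximalBrauerPair p M B P b) (hcard : Nat.card P = p)
    (hSyl : ¬ p ^ 2 ∣ Nat.card G) {θ : IrrCharacter (Subgroup.centralizer (P : Set G))} (hθ : θ ∈ b)
    (hθP : ∀ x : Subgroup.centralizer (P : Set G), (x : G) ∈ P →
      (θ : Subgroup.centralizer (P : Set G) → ℂ) x = (θ : Subgroup.centralizer (P : Set G) → ℂ) 1) {e : ℕ}
    (he : (Subgroup.centralizer (P : Set G)).relIndex (pairStab (pmod_prime hM) hmax.1.1.2) = e) :
    ∃ (N : ℕ) (Y : Finset (IrrCharacter G)) (δ : IrrCharacter G → ℤ),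
      1 ≤ N ∧ e * N = p - 1 ∧ (∀ χ ∈ Y, χ ∈ B) ∧ Y.card = N ∧ Nat.card B = e + N ∧
      (∀ χ ∈ Y, S.orb χ = Y) ∧ (∀ χ ∈ B, χ ∉ Y → S.orb χ = {χ}) ∧ (∀ χ, δ χ = 1 ∨ δ χ = -1) ∧
      (∀ χ, χ ∈ B → χ ∉ Y → ∀ χ', χ' ∈ B → χ' ∉ Y → ∀ g : G, p ∣ orderOf g →
        (δ χ : ℂ) * (χ : G → ℂ) g = (δ χ' : ℂ) * (χ' : G → ℂ) g) ∧
      ∀ g : G, ¬ p ∣ orderOf g → ∀ χ' ∈ Y,
        ∑ χ : IrrCharacter G with χ ∈ B ∧ χ ∉ Y, (δ χ : ℂ) * (χ : G → ℂ) g + (δ χ' : ℂ) * (χ' : G → ℂ) g = 0 := by
  have hp := hM.1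
  have hP := pmod_prime hM
  obtain ⟨N, y, δ, δ₀, η, hN, hem, hy, hyB, hXcard, hδ, hδ₀, hη, hrel, hXd, hYd, hsing⟩ :=
    exists_degrees hM hmax hcard hSyl hθ hθP he rfl
  set d := (pairStab hP hmax.1.1.2).relIndex (Subgroup.normalizer (P : Set G)) *
    deg (θ : Subgroup.centralizer (P : Set G) → ℂ) with hd
  set X := Finset.univ.filter fun χ => χ ∈ B ∧ χ ∉ Set.range y with hX
  have hmX : ∀ χ, χ ∈ X ↔ χ ∈ B ∧ χ ∉ Set.range y := fun χ => by simp [hX]
  set Y := Finset.univ.image y with hY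
  have hmY : ∀ χ, χ ∈ Y ↔ χ ∈ Set.range y := fun χ => by simp [hY]
  have hYcard : Y.card = N := by rw [hY, Finset.card_image_of_injective _ hy, Finset.card_univ, Fintype.card_fin]
  set Bf := Finset.univ.filter fun χ : IrrCharacter G => χ ∈ B with hBf
  have hBXY : Bf = X ∪ Y := by
    ext χ
    simp only [hBf, Finset.mem_filter, Finset.mem_univ, true_and, Finset.mem_union, hmX, hmY]
    refine ⟨fun h => ?_, fun h => h.elim (·.1) fun ⟨i, hi⟩ => hi ▸ hyB i⟩
    by_cases h' : χ ∈ Set.range y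
    · exact Or.inr h'
    · exact Or.inl ⟨h, h'⟩
  have hdisj : Disjoint X Y := Finset.disjoint_left.mpr fun χ h h' => ((hmX χ).mp h).2 ((hmY χ).mp h')
  have hBcard : Bf.card = e + N := by rw [hBXY, Finset.card_union_of_disjoint hdisj, hXcard, hYcard]
  have hBnat : Nat.card B = e + N := by
    rw [← hBcard, hBf, ← Fintype.card_subtype, Nat.card_eq_fintype_card]
  have he0 : 0 < e := Nat.pos_of_ne_zero fun h => by
    rw [h, zero_mul] at hem; have := hp.two_le; omega
  have heq : e * N + 1 = p := by have := hp.two_le; omega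
  have hBclosed : Closed S Bf := fun u χ hχ =>
    Finset.mem_filter.mpr ⟨Finset.mem_univ _, act_mem S hM hmax.1.2.1 u (Finset.mem_filter.mp hχ).2⟩
  -- the degrees
  haveI : Nontrivial P := Finite.one_lt_card_iff_nontrivial.mp (hcard.symm ▸ hp.one_lt)
  obtain ⟨v0, hv0⟩ := exists_ne (1 : P)
  have hfac : (Nat.card G).factorization p = 1 := by
    refine le_antisymm (not_lt.mp fun h => hSyl ((hp.pow_dvd_iff_le_factorization Nat.card_pos.ne').mpr h)) ?_
    exact (hp.dvd_iff_one_le_factorization Nat.card_pos.ne').mp (hcard ▸ Subgroup.card_subgroup_dvd_card P)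
  have hdef : ∀ χ ∈ B, ¬ p ∣ deg (χ : G → ℂ) := by
    intro χ hχ hdvd
    have hord : orderOf (v0 : G) = p ^ 1 := by
      rw [Subgroup.orderOf_coe, pow_one]
      exact orderOf_eq_prime (pow_p hM hcard v0) hv0
    have hσ : Subgroup.zpowers (v0 : G) = P :=
      Subgroup.eq_of_le_of_card_ge (Subgroup.zpowers_le.mpr v0.2) (by rw [Nat.card_zpowers, hord, hcard, pow_one])
    have h0 := (CyclicStructure.main hM hmax hσ le_rfl hord he).2.1 χ hχ
    have h1 := (blockHeight_eq_zero_iff hχ).mp h0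
    have h2 := dmin_add_defect (p := p) ⟨χ, hχ⟩
    rw [defect_one hM hmax hcard, hfac] at h2
    have h4 := (hp.dvd_iff_one_le_factorization (deg_pos χ.2).ne').mp hdvd
    have h5 : dexp p (χ : G → ℂ) = (deg (χ : G → ℂ)).factorization p := rfl
    omega
  let n : IrrCharacter G → ℕ := fun χ => ∑ ψ : IrrCharacter (Subgroup.centralizer (P : Set G)) with ψ ∈ b, mult χ ψ
  have hdn : ∀ χ ∈ B, (deg (χ : G → ℂ) : ℤ) ≡ (d : ℤ) * (n χ : ℤ) [ZMOD p] := by
    intro χ hχ
    have h := deg_congr hM hmax hcard hSyl hθ hθP hχ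
    push_cast at h ⊢
    simpa [n, hd] using h
  obtain ⟨χ1, hχ1⟩ : X.Nonempty := Finset.card_pos.mp (by rw [hXcard]; exact he0)
  have hd0 : ¬ (p : ℤ) ∣ (d : ℤ) := fun h => hdef χ1 ((hmX χ1).mp hχ1).1 (Int.natCast_dvd_natCast.mp
    ((Int.ModEq.dvd_iff (hdn χ1 ((hmX χ1).mp hχ1).1)).mpr (h.mul_right _)))
  -- the signs
  set s : IrrCharacter G → ℤ := fun χ => if χ ∈ X then δ χ else -δ₀ with hsdef
  have hsX : ∀ χ ∈ X, s χ = δ χ := fun χ h => if_pos h
  have hsY : ∀ χ ∈ Y, s χ = -δ₀ := fun χ h => if_neg fun h' => Finset.disjoint_left.mp hdisj h' h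
  have hs : ∀ χ, s χ = 1 ∨ s χ = -1 := fun χ => by
    simp only [hsdef]
    split_ifs
    · exact hδ χ
    · rcases hδ₀ with h | h <;> simp [h]
  have hsdX : ∀ χ ∈ X, s χ * (deg (χ : G → ℂ) : ℤ) ≡ η * (d : ℤ) [ZMOD p] := fun χ h => by
    rw [hsX χ h]; exact hXd χ ((hmX χ).mp h).1 ((hmX χ).mp h).2
  have hsdY : ∀ χ ∈ Y, s χ * (deg (χ : G → ℂ) : ℤ) ≡ η * e * (d : ℤ) [ZMOD p] := fun χ h => by
    obtain ⟨i, rfl⟩ := (hmY χ).mp h
    rw [hsY _ h, neg_mul]
    refine ((hYd i).neg).trans ?_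
    push_cast
    rw [neg_neg, mul_assoc]
  have hsn : ∀ χ ∈ B, ∀ k : ℤ, s χ * (deg (χ : G → ℂ) : ℤ) ≡ k * (d : ℤ) [ZMOD p] →
      s χ * (n χ : ℤ) ≡ k [ZMOD p] := by
    intro χ hχ k hk
    have h1 : (d : ℤ) * (s χ * (n χ : ℤ)) ≡ (d : ℤ) * k [ZMOD p] := by
      rw [mul_comm (d : ℤ) k, mul_left_comm]
      exact ((hdn χ hχ).symm.mul_left _).trans hk
    rw [Int.modEq_iff_dvd, ← mul_sub] at h1
    exact Int.modEq_iff_dvd.mpr (((Nat.prime_iff_prime_int.mp hp).dvd_or_dvd h1).resolve_left hd0)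
  -- the exceptional characters add up on the singular elements
  have hYsing : ∀ g : G, p ∣ orderOf g → ∀ χ ∈ X,
      (δ₀ : ℂ) * ∑ i, (y i : G → ℂ) g = (δ χ : ℂ) * (χ : G → ℂ) g := by
    intro g hg χ hχ
    set D := ∑ χ ∈ X, (δ χ : ℂ) * (χ : G → ℂ) 1 with hD
    have hdy : ∀ i, (δ₀ : ℂ) * (y i : G → ℂ) 1 = -D := fun i =>
      eq_neg_of_add_eq_zero_left (hrel i 1 (by simp [hp.ne_one]))
    have hd00 : (δ₀ : ℂ) * (δ₀ : ℂ) = 1 := by rcases hδ₀ with h | h <;> simp [h]
    have hD0 : D ≠ 0 := fun h => by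
      have h1 := hdy ⟨0, hN⟩
      rw [h, neg_zero, mul_eq_zero, char_one_eq_deg (irr_isCharacter (y _).2)] at h1
      rcases h1 with h1 | h1
      · rw [h1, mul_zero] at hd00; exact zero_ne_one hd00
      · exact (deg_pos (y ⟨0, hN⟩).2).ne' (Nat.cast_eq_zero.mp h1)
    have hsq : ∀ χ, (δ χ : ℂ) * (δ χ : ℂ) = 1 := fun χ => by rcases hδ χ with h | h <;> simp [h]
    have hw := weak_orthogonality hM hmax.1.2.1 (x := (1 : G)) (y := g⁻¹) (by simp [hp.ne_one])
      (by rwa [orderOf_inv])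
    rw [finsum_mem_irr, Finset.sum_congr rfl (g := fun χ : IrrCharacter G => (χ : G → ℂ) 1 * (χ : G → ℂ) g)
      fun χ _ => by rw [char_inv (irr_isCharacter χ.2), Complex.conj_conj], ← hBf, hBXY,
      Finset.sum_union hdisj, hY, Finset.sum_image hy.injOn] at hw
    have h1 : ∑ χ' ∈ X, (χ' : G → ℂ) 1 * (χ' : G → ℂ) g = D * ((δ χ : ℂ) * (χ : G → ℂ) g) := by
      rw [hD, Finset.sum_mul]
      refine Finset.sum_congr rfl fun χ' hχ' => ?_
      rw [← hsing χ' ((hmX χ').mp hχ').1 ((hmX χ').mp hχ').2 χ ((hmX χ).mp hχ).1 ((hmX χ).mp hχ).2 g hg]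
      linear_combination (-((χ' : G → ℂ) 1 * (χ' : G → ℂ) g)) * hsq χ'
    have h2 : ∑ i, (y i : G → ℂ) 1 * (y i : G → ℂ) g = -D * ((δ₀ : ℂ) * ∑ i, (y i : G → ℂ) g) := by
      rw [Finset.mul_sum, Finset.mul_sum]
      refine Finset.sum_congr rfl fun i _ => ?_
      linear_combination ((δ₀ : ℂ) * (y i : G → ℂ) g) * hdy i - ((y i : G → ℂ) 1 * (y i : G → ℂ) g) * hd00
    rw [h1, h2] at hw
    exact mul_left_cancel₀ hD0 (by linear_combination -hw)
  by_cases hA : 2 ≤ e ∨ N = 1
  · -- the other characters are fixed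
    have hfix : ∀ χ ∈ X, ∀ u, act S u χ = χ := by
      intro χ hχ u
      by_cases hp2 : p = 2
      · have h1 : Nat.card S.U = 1 := by
          have ha : S.a = 1 := by
            rw [← hfac, S.card, Nat.factorization_mul (pow_ne_zero _ hp.ne_zero) S.m_ne, Finsupp.add_apply,
              hp.factorization_pow, Finsupp.single_eq_same, Nat.factorization_eq_zero_of_not_dvd S.ndvd, add_zero]
          rw [S.card_U, ha, pow_one, hp2, Nat.totient_two]
        haveI := (Nat.card_eq_one_iff_unique.mp h1).1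
        rw [Subsingleton.elim u 1]
        exact Subtype.ext (gal_one S.hexp _)
      set χ' := act S u χ with hχ'
      have hB' : χ' ∈ Bf := hBclosed u χ (hBXY ▸ Finset.mem_union_left _ hχ)
      have hdeg : (deg (χ' : G → ℂ) : ℤ) = deg (χ : G → ℂ) := by rw [hχ', act_deg]
      have hχB := ((hmX χ).mp hχ).1
      have halign : ∀ t : ℤ, (t = 1 ∨ t = -1) → t * (deg (χ' : G → ℂ) : ℤ) ≡ η * (d : ℤ) [ZMOD p] →
          (∀ g : G, p ∣ orderOf g → (t : ℂ) * (χ' : G → ℂ) g = (δ χ : ℂ) * (χ : G → ℂ) g) → χ' = χ := by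
        intro t ht htd htg
        have h1 := htd.trans (hXd χ hχB ((hmX χ).mp hχ).2).symm
        rw [hdeg, Int.modEq_iff_dvd, ← sub_mul] at h1
        have h2 : δ χ = t := not_dvd_of_sign hp hp2 (hδ χ) ht
          (((Nat.prime_iff_prime_int.mp hp).dvd_or_dvd h1).resolve_right fun h =>
            hdef χ hχB (Int.natCast_dvd_natCast.mp h))
        refine Subtype.ext (funext fun g => ?_)
        by_cases hg : p ∣ orderOf g
        · have h3 := htg g hg
          rw [h2] at h3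
          exact mul_left_cancel₀ (by rcases ht with h | h <;> simp [h]) h3
        · exact act_regular S u χ hg
      rcases Finset.mem_union.mp (hBXY ▸ hB') with h | h
      · exact halign (δ χ') (hδ χ') (hXd χ' ((hmX χ').mp h).1 ((hmX χ').mp h).2) fun g hg =>
          hsing χ' ((hmX χ').mp h).1 ((hmX χ').mp h).2 χ hχB ((hmX χ).mp hχ).2 g hg
      · exfalso
        obtain ⟨i, hi⟩ := (hmY χ').mp h
        have h1 := hsdY χ' h
        rw [hsY χ' h, hdeg, mul_right_comm] at h1
        have h2 := (hXd χ hχB ((hmX χ).mp hχ).2).mul_right (e : ℤ)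
        have h4 := h1.trans h2.symm
        rw [Int.modEq_iff_dvd, show δ χ * (deg (χ : G → ℂ) : ℤ) * e - -δ₀ * (deg (χ : G → ℂ) : ℤ) =
          (δ χ * e + δ₀) * (deg (χ : G → ℂ) : ℤ) by ring] at h4
        have h5 := ((Nat.prime_iff_prime_int.mp hp).dvd_or_dvd h4).resolve_right fun h =>
            hdef χ hχB (Int.natCast_dvd_natCast.mp h)
        -- here `e` is `p - 1`
        have hN1 : N = 1 := by
          rcases hA with hA | hA
          · by_contra hne
            have h6 : 2 * e ≤ e * N := by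
              rw [mul_comm 2 e]; exact Nat.mul_le_mul_left e (by omega)
            have h7 : (δ χ * (e : ℤ) + δ₀) ≠ 0 := by rcases hδ χ with a | a <;> rcases hδ₀ with c | c <;> rw [a, c] <;> omega
            have h8 := Int.le_of_dvd (abs_pos.mpr h7) ((dvd_abs _ _).mpr h5)
            rcases hδ χ with a | a <;> rcases hδ₀ with c | c <;> rw [a, c] at h8 <;>
              rcases abs_cases (((δ χ : ℤ) * e + δ₀)) with ⟨hab, -⟩ | ⟨hab, -⟩ <;> rw [a, c] at hab <;>
              rw [hab] at h8 <;> omega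
          · exact hA
        subst hN1
        have hi0 : i = 0 := Subsingleton.elim _ _
        subst hi0
        have he1 : (e : ℤ) = (p : ℤ) - 1 := by omega
        have h6 : δ₀ = δ χ := by
          rw [he1, show δ χ * ((p : ℤ) - 1) + δ₀ = δ χ * p + (δ₀ - δ χ) by ring] at h5
          exact not_dvd_of_sign hp hp2 hδ₀ (hδ χ) ((dvd_add_right (Dvd.intro_left _ rfl)).mp h5)
        have h7 := halign δ₀ hδ₀ (by rw [h6, hdeg]; exact hXd χ hχB ((hmX χ).mp hχ).2) fun g hg => by
          rw [← hYsing g hg χ hχ, Fin.sum_univ_one, hi]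
        exact Finset.disjoint_left.mp hdisj hχ (h7 ▸ h)
    have hXclosed : Closed S X := fun u χ hχ => by rw [hfix χ hχ u]; exact hχ
    have hYclosed : Closed S Y := by
      have : Bf \ X = Y := by rw [hBXY, Finset.union_sdiff_left]; exact Finset.sdiff_eq_self_of_disjoint hdisj.symm
      exact this ▸ hBclosed.sdiff S hXclosed
    have hwhole : ∀ O ⊆ Y, Closed S O → O.Nonempty → 2 * O.card ≤ N → False := by
      intro O hOY hO hne hO2
      have he2 : 2 ≤ e := by
        rcases hA with h | h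
        · exact h
        · exfalso
          have := Finset.card_pos.mpr hne
          omega
      obtain ⟨a, ha, hac⟩ := closed_value S hM hmax hcard hSyl hθ hθP hO (fun _ => -δ₀) (fun _ _ _ => rfl)
      have hac' : a ≡ η * e * (O.card : ℤ) [ZMOD p] := by
        refine hac.trans ?_
        refine (Int.ModEq.sum (g := fun _ => η * (e : ℤ)) fun χ hχ => ?_).trans ?_
        · have h1 := hsn χ (Finset.mem_filter.mp (hBXY ▸ Finset.mem_union_right _ (hOY hχ) : χ ∈ Bf)).2 _
            (hsdY χ (hOY hχ))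
          rwa [hsY χ (hOY hχ)] at h1
        · rw [Finset.sum_const, nsmul_eq_mul, mul_comm]
      have hb := weight_bound hM hmax hcard hSyl hθ hθP he
        (fun χ => if χ ∈ O then (-δ₀ : ℝ) else 0) (a := (a : ℝ)) fun v hv => by
          rw [Complex.ofReal_intCast, ← ha v hv, ← Finset.sum_subset (Finset.subset_univ O) fun χ _ hχ => by
            simp [hχ]]
          exact Finset.sum_congr rfl fun χ hχ => by simp [hχ]
      have hsq : ∑ χ : IrrCharacter G, (if χ ∈ O then (-δ₀ : ℝ) else 0) ^ 2 = O.card := by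
        rw [← Finset.sum_subset (Finset.subset_univ O) fun χ _ hχ => by simp [hχ],
          Finset.sum_congr rfl (g := fun _ => (1 : ℝ)) fun χ hχ => by
            rw [if_pos hχ]; rcases hδ₀ with h | h <;> simp [h]]
        simp
      rw [hsq] at hb
      have hb' : ((p : ℤ) - 1) * a ^ 2 ≤ (p : ℤ) * e * O.card := by exact_mod_cast hb
      obtain ⟨t, ht⟩ : ∃ t, t = e * O.card := ⟨_, rfl⟩
      have htp : 2 * t + 1 ≤ p := by
        have := Nat.mul_le_mul_left e hO2
        rw [← mul_assoc, mul_comm e 2, mul_assoc] at this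
        omega
      have ht2 : 2 ≤ t := ht ▸ he2.trans (Nat.le_mul_of_pos_right _ (Finset.card_pos.mpr hne))
      have hat : (t : ℤ) ≤ |a| := by
        have h1 : η * e * (O.card : ℤ) = η * (t : ℤ) := by rw [ht]; push_cast; ring
        exact abs_ge_of_dvd htp hη (h1 ▸ Int.modEq_iff_dvd.mp hac')
      have h2 : (t : ℤ) ^ 2 ≤ a ^ 2 := by
        rw [← sq_abs a]; exact pow_le_pow_left₀ (Int.natCast_nonneg t) hat 2
      have h3 : ((p : ℤ) - 1) * (t : ℤ) ^ 2 ≤ (p : ℤ) * t := by
        have h4 : (p : ℤ) * e * O.card = (p : ℤ) * t := by rw [ht]; push_cast; ring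
        rw [h4] at hb'
        exact (mul_le_mul_of_nonneg_left h2 (by omega)).trans hb'
      have h5 : ((p : ℤ) - 1) * t ≤ p := le_of_mul_le_mul_right (by nlinarith) (show (0 : ℤ) < t by omega)
      nlinarith [mul_le_mul_of_nonneg_left (show (2 : ℤ) ≤ t by omega) (show (0 : ℤ) ≤ (p : ℤ) - 1 by omega)]
    refine ⟨N, Y, fun χ => if χ ∈ Y then δ₀ else δ χ, hN, hem, fun χ hχ => ?_, hYcard, hBnat, fun χ hχ => ?_,
      fun χ hχ hχY => ?_, fun χ => ?_, fun χ hχ hχY χ' hχ' hχY' g hg => ?_, fun g hg χ' hχ' => ?_⟩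
    · exact (Finset.mem_filter.mp (hBXY ▸ Finset.mem_union_right _ hχ : χ ∈ Bf)).2
    · refine Finset.eq_of_subset_of_card_le (orb_subset S hYclosed hχ) (not_lt.mp fun hlt => ?_)
      set O := S.orb χ
      by_cases h2 : 2 * O.card ≤ N
      · exact hwhole O (orb_subset S hYclosed hχ) (closed_orb S χ) ⟨χ, S.self_mem χ⟩ h2
      · have h3 : (Y \ O).card = Y.card - O.card := Finset.card_sdiff_of_subset (orb_subset S hYclosed hχ)
        refine hwhole (Y \ O) Finset.sdiff_subset (hYclosed.sdiff S (closed_orb S χ)) ?_ (by omega)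
        exact Finset.card_pos.mp (by omega)
    · exact orb_eq_singleton S (hfix χ ((hmX χ).mpr ⟨hχ, fun h => hχY ((hmY χ).mpr h)⟩))
    · simp only; split_ifs
      · exact hδ₀
      · exact hδ χ
    · simp only [if_neg hχY, if_neg hχY']
      exact hsing χ hχ (fun h => hχY ((hmY χ).mpr h)) χ' hχ' (fun h => hχY' ((hmY χ').mpr h)) g hg
    · obtain ⟨i, rfl⟩ := (hmY χ').mp hχ'
      simp only [if_pos hχ']
      rw [add_comm, ← hrel i g hg]
      refine congrArg _ (Finset.sum_congr ?_ fun χ hχ => ?_)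
      · ext χ; simp [hX, hmY]
      · rw [if_neg (Finset.disjoint_left.mp hdisj hχ)]
  · -- the inertial index is one
    push Not at hA
    have he1 : e = 1 := by omega
    have hNp : N + 1 = p := by rw [← heq, he1, one_mul]
    have hp2 : p ≠ 2 := by omega
    have hsd : ∀ χ ∈ B, s χ * (deg (χ : G → ℂ) : ℤ) ≡ η * (d : ℤ) [ZMOD p] := fun χ hχ => by
      rcases Finset.mem_union.mp (hBXY ▸ Finset.mem_filter.mpr ⟨Finset.mem_univ _, hχ⟩ : χ ∈ X ∪ Y) with h | h
      · exact hsdX χ h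
      · have := hsdY χ h; rwa [he1, Nat.cast_one, mul_one] at this
    have hX1 : X = {χ1} := (Finset.card_eq_one.mp (hXcard.trans he1)).elim fun z hz => by
      rw [hz, Finset.mem_singleton.mp (hz ▸ hχ1 : χ1 ∈ ({z} : Finset _))]
    have hsreg : ∀ χ ∈ B, ∀ g : G, ¬ p ∣ orderOf g → (s χ : ℂ) * (χ : G → ℂ) g = (δ χ1 : ℂ) * (χ1 : G → ℂ) g := by
      intro χ hχ g hg
      rcases Finset.mem_union.mp (hBXY ▸ Finset.mem_filter.mpr ⟨Finset.mem_univ _, hχ⟩ : χ ∈ X ∪ Y) with h | h
      · rw [hsX χ h, Finset.mem_singleton.mp (hX1 ▸ h : χ ∈ ({χ1} : Finset _))]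
      · obtain ⟨i, rfl⟩ := (hmY χ).mp h
        have h1 := hrel i g hg
        rw [hX1, Finset.sum_singleton] at h1
        rw [hsY _ h, Int.cast_neg]
        linear_combination -h1
    have hsact : ∀ u, ∀ χ ∈ B, s (act S u χ) = s χ := by
      intro u χ hχ
      have h1 := (hsd _ (act_mem S hM hmax.1.2.1 u hχ)).trans (hsd χ hχ).symm
      rw [act_deg, Int.modEq_iff_dvd, ← sub_mul] at h1
      exact (not_dvd_of_sign hp hp2 (hs _) (hs _)
        (((Nat.prime_iff_prime_int.mp hp).dvd_or_dvd h1).resolve_right fun h =>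
          hdef χ hχ (Int.natCast_dvd_natCast.mp h))).symm
    have hmBf : ∀ χ, χ ∈ Bf ↔ χ ∈ B := fun χ => by simp [hBf]
    have hsum0 : ∀ v : P, v ≠ 1 → ∑ χ ∈ Bf, (s χ : ℂ) * wgt b χ (incl hM hcard v) = 0 := by
      intro v hv
      have hk : (Nat.card (Subgroup.centralizer (P : Set G)) : ℂ) / p ≠ 0 :=
        div_ne_zero (Nat.cast_ne_zero.mpr Nat.card_pos.ne') (Nat.cast_ne_zero.mpr hp.ne_zero)
      refine (mul_eq_zero.mp ?_).resolve_left hk
      rw [Finset.mul_sum, Finset.sum_congr rfl fun χ _ => by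
        rw [mul_left_comm, ← wgt_eq hM hmax hcard hSyl hθ χ v, Finset.mul_sum], Finset.sum_comm]
      refine Finset.sum_eq_zero fun x hx => ?_
      have hxr : ¬ p ∣ orderOf (x : G) := by rw [Subgroup.orderOf_coe]; exact (Finset.mem_filter.mp hx).2
      have hvo : orderOf (v : G) = p := (Subgroup.orderOf_coe v).trans (orderOf_eq_prime (pow_p hM hcard v) hv)
      have hsingx : p ∣ orderOf ((v : G) * x) := by
        rw [Commute.orderOf_mul_eq_mul_orderOf_of_coprime (x.2 (v : G) v.2) (by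
          rw [hvo]; exact hp.coprime_iff_not_dvd.mpr hxr), hvo]
        exact dvd_mul_right p _
      simp only [← mul_assoc, ← Finset.sum_mul]
      refine mul_eq_zero_of_left ?_ _
      rw [hBXY, Finset.sum_union hdisj, hX1, Finset.sum_singleton, hsX χ1 hχ1,
        Finset.sum_congr rfl fun χ hχ => by rw [hsY χ hχ]]
      rw [hY, Finset.sum_image hy.injOn, ← hYsing _ hsingx χ1 hχ1]
      simp only [Int.cast_neg, neg_mul, Finset.sum_neg_distrib, ← Finset.mul_sum]
      ring
    -- the bound for a closed set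
    have hbound : ∀ O ⊆ Bf, Closed S O → ∃ a : ℤ,
        (∑ χ ∈ O, (s χ : ℂ) * wgt b χ (incl hM hcard v0) = (a : ℂ)) ∧
        a ≡ η * (O.card : ℤ) [ZMOD p] ∧ ((p : ℤ) - 1) * a ^ 2 ≤ (O.card : ℤ) * ((p : ℤ) - O.card) := by
      intro O hOB hO
      obtain ⟨a, ha, hac⟩ := closed_value S hM hmax hcard hSyl hθ hθP hO s
        (fun u χ hχ => hsact u χ ((hmBf χ).mp (hOB hχ)))
      refine ⟨a, ha v0 hv0, hac.trans ?_, ?_⟩
      · refine (Int.ModEq.sum (g := fun _ => η) fun χ hχ =>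
          hsn χ ((hmBf χ).mp (hOB hχ)) _ (hsd χ ((hmBf χ).mp (hOB hχ)))).trans ?_
        rw [Finset.sum_const, nsmul_eq_mul, mul_comm]
      set x : IrrCharacter G → ℝ := fun χ =>
        if χ ∈ Bf then (s χ : ℝ) * ((if χ ∈ O then 1 else 0) - (O.card : ℝ) / p) else 0 with hx
      have hb := weight_bound hM hmax hcard hSyl hθ hθP he x (a := (a : ℝ)) fun v hv => by
        rw [Complex.ofReal_intCast, ← Finset.sum_subset (Finset.subset_univ Bf) fun χ _ hχ => by simp [hx, hχ],
          Finset.sum_congr rfl (g := fun χ => (if χ ∈ O then (s χ : ℂ) * wgt b χ (incl hM hcard v) else 0) -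
            (O.card : ℂ) / p * ((s χ : ℂ) * wgt b χ (incl hM hcard v))) fun χ hχ => by
              simp only [hx, if_pos hχ]; split_ifs <;> push_cast <;> ring,
          Finset.sum_sub_distrib, ← Finset.mul_sum, hsum0 v hv, mul_zero, sub_zero, Finset.sum_ite_mem,
          Finset.inter_eq_right.mpr hOB, ha v hv]
      have hp0 : (p : ℝ) ≠ 0 := Nat.cast_ne_zero.mpr hp.ne_zero
      have hx2 : ∑ χ, x χ ^ 2 = (O.card : ℝ) * ((p : ℝ) - O.card) / p := by
        rw [← Finset.sum_subset (Finset.subset_univ Bf) fun χ _ hχ => by simp [hx, hχ],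
          Finset.sum_congr rfl (g := fun χ => (if χ ∈ O then 1 - 2 * ((O.card : ℝ) / p) else 0) +
            ((O.card : ℝ) / p) ^ 2) fun χ hχ => by
              have : (s χ : ℝ) ^ 2 = 1 := by rcases hs χ with h | h <;> simp [h]
              simp only [hx, if_pos hχ, mul_pow, this]; split_ifs <;> ring,
          Finset.sum_add_distrib, Finset.sum_ite_mem, Finset.inter_eq_right.mpr hOB, Finset.sum_const,
          Finset.sum_const, hBcard, he1, add_comm 1 N, hNp, nsmul_eq_mul, nsmul_eq_mul]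
        field_simp
        ring
      rw [hx2, he1, Nat.cast_one, mul_one, mul_div_cancel₀ _ hp0] at hb
      exact_mod_cast hb
    have hη2 : η ^ 2 = 1 := by rcases hη with h | h <;> simp [h]
    -- orbits
    have horb : ∀ χ ∈ Bf, (S.orb χ).card = 1 ∨ (S.orb χ).card = p - 1 := by
      intro χ hχ
      obtain ⟨c, hc, -⟩ := S.fiber_count χ
      have ha : S.a = 1 := by
        rw [← hfac, S.card, Nat.factorization_mul (pow_ne_zero _ hp.ne_zero) S.m_ne, Finsupp.add_apply,
          hp.factorization_pow, Finsupp.single_eq_same, Nat.factorization_eq_zero_of_not_dvd S.ndvd, add_zero]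
      rw [ha, pow_one, Nat.totient_prime hp] at hc
      by_contra h
      push Not at h
      set o := (S.orb χ).card with ho
      have hc2 : 2 ≤ c := by
        by_contra hc2
        interval_cases c <;> omega
      have ho2 : 2 ≤ o := by
        have : 0 < o := Finset.card_pos.mpr ⟨χ, S.self_mem χ⟩
        omega
      have hop : 2 * o + 1 ≤ p := by
        have := Nat.mul_le_mul_left o hc2
        omega
      obtain ⟨a, -, hac, hab⟩ := hbound _ (orb_subset S hBclosed hχ) (closed_orb S χ)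
      rw [← ho] at hac hab
      have hat : (o : ℤ) ≤ |a| := abs_ge_of_dvd hop hη (Int.modEq_iff_dvd.mp hac)
      have h2 : (o : ℤ) ^ 2 ≤ a ^ 2 := by
        rw [← sq_abs a]; exact pow_le_pow_left₀ (Int.natCast_nonneg o) hat 2
      have h3 := (mul_le_mul_of_nonneg_left h2 (show (0 : ℤ) ≤ (p : ℤ) - 1 by omega)).trans hab
      have h5 : ((p : ℤ) - 1) * o ≤ (p : ℤ) - o := le_of_mul_le_mul_right (by nlinarith) (show (0 : ℤ) < o by omega)
      nlinarith [mul_le_mul_of_nonneg_left (show (2 : ℤ) ≤ o by omega) (show (0 : ℤ) ≤ (p : ℤ) - 1 by omega)]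
    have hsingle : ∀ χ ∈ Bf, S.orb χ = {χ} → ∃ a : ℤ, a ≡ η [ZMOD p] ∧ a ^ 2 ≤ 1 ∧
        (s χ : ℂ) * wgt b χ (incl hM hcard v0) = (a : ℂ) := by
      intro χ hχ ho
      obtain ⟨a, ha, hac, hab⟩ := hbound {χ} (Finset.singleton_subset_iff.mpr hχ) (ho ▸ closed_orb S χ)
      rw [Finset.sum_singleton] at ha
      rw [Finset.card_singleton, Nat.cast_one, mul_one] at hac
      rw [Finset.card_singleton, Nat.cast_one, one_mul] at hab
      exact ⟨a, hac, by nlinarith, ha⟩
    have heta : ∀ a : ℤ, a ≡ η [ZMOD p] → a ^ 2 ≤ 1 → a = η := by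
      intro a h1 h2
      have h3 : -1 ≤ a ∧ a ≤ 1 := ⟨by nlinarith, by nlinarith⟩
      obtain ⟨k, hk⟩ := Int.modEq_iff_dvd.mp h1
      rcases lt_trichotomy k 0 with h0 | h0 | h0
      · have : (p : ℤ) * k ≤ -(p : ℤ) := by nlinarith
        rcases hη with h | h <;> omega
      · subst h0; omega
      · have : (p : ℤ) ≤ (p : ℤ) * k := by nlinarith
        rcases hη with h | h <;> omega
    have hfixex : ∃ χ ∈ Bf, (S.orb χ).card = 1 := by
      have hmem : χ1 ∈ Bf := hBXY ▸ Finset.mem_union_left _ hχ1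
      rcases horb χ1 hmem with h | h
      · exact ⟨χ1, hmem, h⟩
      have hsub : (Bf \ S.orb χ1).card = 1 := by
        rw [Finset.card_sdiff_of_subset (orb_subset S hBclosed hmem), hBcard, h]; omega
      obtain ⟨z, hz⟩ := Finset.card_eq_one.mp hsub
      have hzB : z ∈ Bf := (Finset.mem_sdiff.mp (hz ▸ Finset.mem_singleton_self z)).1
      refine ⟨z, hzB, ?_⟩
      have hzc : Closed S ({z} : Finset _) := hz ▸ hBclosed.sdiff S (closed_orb S χ1)
      have := Finset.card_le_card (orb_subset S hzc (Finset.mem_singleton_self z))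
      have := Finset.card_pos.mpr ⟨z, S.self_mem z⟩
      rw [Finset.card_singleton] at *
      omega
    obtain ⟨z, hzB, hz1⟩ := hfixex
    have hzo : S.orb z = {z} := by
      obtain ⟨w, hw⟩ := Finset.card_eq_one.mp hz1
      rw [hw, Finset.mem_singleton.mp (hw ▸ S.self_mem z : z ∈ ({w} : Finset _))]
    set Y' := Bf.erase z with hY'
    have hY'card : Y'.card = N := by rw [hY', Finset.card_erase_of_mem hzB, hBcard]; omega
    have hzc : Closed S ({z} : Finset _) := hzo ▸ closed_orb S z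
    have hY'closed : Closed S Y' := by
      rw [hY', ← Finset.sdiff_singleton_eq_erase]
      exact hBclosed.sdiff S hzc
    have horbY : ∀ χ ∈ Y', S.orb χ = Y' := by
      intro χ hχ
      refine Finset.eq_of_subset_of_card_le (orb_subset S hY'closed hχ) ?_
      have hχB := Finset.mem_of_mem_erase hχ
      rcases horb χ hχB with h | h
      · exfalso
        obtain ⟨w, hw⟩ := Finset.card_eq_one.mp h
        have hχo : S.orb χ = {χ} := by rw [hw, Finset.mem_singleton.mp (hw ▸ S.self_mem χ : χ ∈ ({w} : Finset _))]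
        have hne : χ ≠ z := (Finset.mem_erase.mp hχ).1
        obtain ⟨a1, h11, h12, h13⟩ := hsingle χ hχB hχo
        obtain ⟨a2, h21, h22, h23⟩ := hsingle z hzB hzo
        obtain ⟨a, ha, -, hab⟩ := hbound {χ, z} (Finset.insert_subset hχB (Finset.singleton_subset_iff.mpr hzB))
          (fun u ψ hψ => by
            rcases Finset.mem_insert.mp hψ with rfl | hψ
            · exact Finset.mem_insert.mpr (Or.inl (Finset.mem_singleton.mp (hχo ▸ closed_orb S ψ u ψ (S.self_mem ψ))))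
            · exact Finset.mem_insert_of_mem (hzc u ψ hψ))
        rw [Finset.sum_pair hne, h13, h23, heta a1 h11 h12, heta a2 h21 h22] at ha
        have ha' : a = η + η := by exact_mod_cast ha.symm
        rw [Finset.card_pair hne, ha'] at hab
        push_cast at hab
        nlinarith
      · omega
    refine ⟨N, Y', fun χ => if χ ∈ Y' then -s χ else s χ, hN, hem, fun χ hχ =>
      (hmBf χ).mp (Finset.mem_of_mem_erase hχ), hY'card, hBnat, horbY, fun χ hχ hχY => ?_, fun χ => ?_,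
      fun χ hχ hχY χ' hχ' hχY' g hg => ?_, fun g hg χ' hχ' => ?_⟩
    · have : χ = z := by
        by_contra hne
        exact hχY (Finset.mem_erase.mpr ⟨hne, (hmBf χ).mpr hχ⟩)
      rw [this]; exact hzo
    · simp only
      rcases hs χ with h | h <;> split_ifs <;> simp [h]
    · have hz : ∀ ψ, ψ ∈ B → ψ ∉ Y' → ψ = z := fun ψ h1 h2 => by
        by_contra hne
        exact h2 (Finset.mem_erase.mpr ⟨hne, (hmBf ψ).mpr h1⟩)
      rw [hz χ hχ hχY, hz χ' hχ' hχY']
    · simp only [if_pos hχ']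
      have hfil : (Finset.univ.filter fun χ => χ ∈ B ∧ χ ∉ Y') = {z} := by
        ext χ
        simp only [Finset.mem_filter, Finset.mem_univ, true_and, Finset.mem_singleton]
        refine ⟨fun ⟨h1, h2⟩ => ?_, fun h => h ▸ ⟨(hmBf z).mp hzB, Finset.notMem_erase z Bf⟩⟩
        by_contra hne
        exact h2 (Finset.mem_erase.mpr ⟨hne, (hmBf χ).mpr h1⟩)
      rw [hfil, Finset.sum_singleton, if_neg (Finset.notMem_erase z Bf), hsreg z ((hmBf z).mp hzB) g hg,
        Int.cast_neg, neg_mul, hsreg χ' ((hmBf χ').mp (Finset.mem_of_mem_erase hχ')) g hg, add_neg_cancel]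

open scoped Classical in
/-- One class of p-conjugate exceptional characters, the others fixed. -/
theorem galois_main {B : Set (IrrCharacter G)} {P : Subgroup G}
    {b : Set (IrrCharacter (Subgroup.centralizer (P : Set G)))} [Fintype (Subgroup.centralizer (P : Set G))]
    (hM : IsPModular p M) (hmax : IsMaximalBrauerPair p M B P b) (hcard : Nat.card P = p)
    (hSyl : ¬ p ^ 2 ∣ Nat.card G) {θ : IrrCharacter (Subgroup.centralizer (P : Set G))} (hθ : θ ∈ b)
    (hθP : ∀ x : Subgroup.centralizer (P : Set G), (x : G) ∈ P →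
      (θ : Subgroup.centralizer (P : Set G) → ℂ) x = (θ : Subgroup.centralizer (P : Set G) → ℂ) 1) {e : ℕ}
    (he : (Subgroup.centralizer (P : Set G)).relIndex (pairStab (pmod_prime hM) hmax.1.1.2) = e) :
    ∃ (N : ℕ) (Y : Finset (IrrCharacter G)) (δ : IrrCharacter G → ℤ),
      1 ≤ N ∧ e * N = p - 1 ∧ (∀ χ ∈ Y, χ ∈ B) ∧ Y.card = N ∧ Nat.card B = e + N ∧
      (∀ χ ∈ Y, S.orb χ = Y) ∧ (∀ χ ∈ B, χ ∉ Y → S.orb χ = {χ}) ∧ (∀ χ, δ χ = 1 ∨ δ χ = -1) ∧
      ∀ g : G, ¬ p ∣ orderOf g → ∀ χ' ∈ Y,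
        ∑ χ : IrrCharacter G with χ ∈ B ∧ χ ∉ Y, (δ χ : ℂ) * (χ : G → ℂ) g + (δ χ' : ℂ) * (χ' : G → ℂ) g = 0 := by
  obtain ⟨N, Y, δ, h1, h2, h3, h4, h5, h6, h7, h8, -, h9⟩ := galois_main_values S hM hmax hcard hSyl hθ hθP he
  exact ⟨N, Y, δ, h1, h2, h3, h4, h5, h6, h7, h8, h9⟩

open scoped Classical in
/-- The block of `C(P)` has a character trivial on `P`. -/
theorem exists_trivial {B : Set (IrrCharacter G)} {P : Subgroup G}
    {b : Set (IrrCharacter (Subgroup.centralizer (P : Set G)))} [Fintype (Subgroup.centralizer (P : Set G))]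
    (hM : IsPModular p M) (hmax : IsMaximalBrauerPair p M B P b) (hcard : Nat.card P = p)
    (hSyl : ¬ p ^ 2 ∣ Nat.card G) :
    ∃ θ ∈ b, ∀ x : Subgroup.centralizer (P : Set G), (x : G) ∈ P →
      (θ : Subgroup.centralizer (P : Set G) → ℂ) x = (θ : Subgroup.centralizer (P : Set G) → ℂ) 1 := by
  have hp := hM.1
  haveI : Nontrivial P := Finite.one_lt_card_iff_nontrivial.mp (hcard.symm ▸ hp.one_lt)
  obtain ⟨s, hs⟩ := exists_ne (1 : P)
  set z : IrrCharacter (Subgroup.centralizer (P : Set G)) → ℂ := fun ψ =>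
    (ψ : Subgroup.centralizer (P : Set G) → ℂ) (incl hM hcard s) /
      (ψ : Subgroup.centralizer (P : Set G) → ℂ) 1 with hz
  have hdeg : ∀ ψ : IrrCharacter (Subgroup.centralizer (P : Set G)),
      (ψ : Subgroup.centralizer (P : Set G) → ℂ) 1 ≠ 0 := fun ψ => by
    rw [char_one_eq_deg (irr_isCharacter ψ.2)]
    exact Nat.cast_ne_zero.mpr (deg_pos ψ.2).ne'
  have hpw : ∀ ψ : IrrCharacter (Subgroup.centralizer (P : Set G)), ∀ j : ℕ,
      (ψ : Subgroup.centralizer (P : Set G) → ℂ) (incl hM hcard (s ^ j)) /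
        (ψ : Subgroup.centralizer (P : Set G) → ℂ) 1 = z ψ ^ j := by
    intro ψ j
    induction j with
    | zero =>
      rw [pow_zero, pow_zero, show incl hM hcard (1 : P) = 1 from Subtype.ext rfl, div_self (hdeg ψ)]
    | succ j ih =>
      rw [pow_succ', show incl hM hcard (s * s ^ j) = incl hM hcard s * incl hM hcard (s ^ j) from rfl,
        (root hM hcard ψ s).2 _, mul_div_assoc, ih, pow_succ']
  have hgen : ∀ v : P, v ∈ Submonoid.powers s := fun v => by
    haveI := Fact.mk hp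
    exact mem_powers_of_prime_card hcard hs
  set Jb := Finset.univ.filter fun ψ : IrrCharacter (Subgroup.centralizer (P : Set G)) => ψ ∈ b with hJb
  have hinj : Set.InjOn z Jb := by
    intro ψ hψ φ hφ h
    by_contra hne
    have h1 := root_orth hM hmax hcard hSyl (Finset.mem_filter.mp hψ).2 (Finset.mem_filter.mp hφ).2
    have h2 := root_orth hM hmax hcard hSyl (Finset.mem_filter.mp hψ).2 (Finset.mem_filter.mp hψ).2
    rw [if_neg hne] at h1
    rw [if_pos rfl] at h2
    refine Nat.cast_ne_zero.mpr hp.ne_zero (h2.symm.trans (Eq.trans (Finset.sum_congr rfl fun v _ => ?_) h1))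
    obtain ⟨j, rfl⟩ := hgen v
    simp only [hpw, h]
  have hcardb : Jb.card = p := by
    rw [hJb, ← Fintype.card_subtype, ← Nat.card_eq_fintype_card]
    exact card_local hM hmax hcard
  have himg : Jb.image z = Polynomial.nthRootsFinset p (1 : ℂ) := by
    refine Finset.eq_of_subset_of_card_le (fun w hw => ?_) ?_
    · obtain ⟨ψ, -, rfl⟩ := Finset.mem_image.mp hw
      exact (Polynomial.mem_nthRootsFinset hp.pos _).mpr (root hM hcard ψ s).1
    · rw [Finset.card_image_of_injOn hinj, hcardb,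
        (Complex.isPrimitiveRoot_exp p hp.ne_zero).card_nthRootsFinset]
  have h1 : (1 : ℂ) ∈ Jb.image z := by
    rw [himg]; exact (Polynomial.mem_nthRootsFinset hp.pos _).mpr (one_pow _)
  obtain ⟨θ, hθ, hθ1⟩ := Finset.mem_image.mp h1
  refine ⟨θ, (Finset.mem_filter.mp hθ).2, fun x hx => ?_⟩
  obtain ⟨j, hj⟩ := hgen ⟨(x : G), hx⟩
  rw [show x = incl hM hcard (s ^ j) from Subtype.ext (congrArg (fun v : P => (v : G)) hj).symm]
  have := hpw θ j
  rw [hθ1, one_pow, div_eq_one_iff_eq (hdeg θ)] at this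
  exact this

end Cfsg.Agent.Char.DefectOne
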