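import Cfsg.Agent.Lib.Char.DefectOneGalois

/-!
# The values of a block of defect one on the sections of the defect group

A closed set of characters of the block has, on the section of a nontrivial element of the defect group, one
integral multiple of the sum of the conjugates of the canonical character of the centralizer, and the integer is
bounded by the inertial index.
-/

set_option autoImplicit false
set_option linter.unusedSectionVars false
set_option linter.style.haveILetI false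

open Cfsg
open scoped ComplexConjugate

namespace Cfsg.Agent.Char.DefectOne

universe u

variable {G : Type u} [Group G] [Fintype G] {M : Ideal AlgInt} {p : ℕ} [Fact p.Prime]
  {B : Set (IrrCharacter G)} {P : Subgroup G} {b : Set (IrrCharacter (Subgroup.centralizer (P : Set G)))}
  [Fintype (Subgroup.centralizer (P : Set G))] (hM : IsPModular p M)
  (hmax : IsMaximalBrauerPair p M B P b) (hcard : Nat.card P = p) (hSyl : ¬ p ^ 2 ∣ Nat.card G)
  {θ : IrrCharacter (Subgroup.centralizer (P : Set G))} (hθ : θ ∈ b)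

include hM hmax hcard hSyl hθ

open scoped Classical in
/-- The part of a pair on a section of the defect group. -/
theorem pc_mul (χ : IrrCharacter G) (v : P) (s : Subgroup.centralizer (P : Set G)) (hs : ¬ p ∣ orderOf s) :
    Star.pc (χ : G → ℂ) ((v : G) * (s : G)) ⟨P, b⟩ =
      (θ : Subgroup.centralizer (P : Set G) → ℂ) s * wgt b χ (incl hM hcard v) := by
  set f : Subgroup.centralizer (P : Set G) → ℂ := fun c => (χ : G → ℂ) ((v : G) * c) with hf
  have hexp : f = ∑ ψ : IrrCharacter (Subgroup.centralizer (P : Set G)),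
      ((mult χ ψ : ℂ) * ((ψ : Subgroup.centralizer (P : Set G) → ℂ) (incl hM hcard v) /
        (ψ : Subgroup.centralizer (P : Set G) → ℂ) 1)) • (ψ : Subgroup.centralizer (P : Set G) → ℂ) := by
    funext c
    have hcls : IsClassFunction (Subgroup.centralizer (P : Set G))
        ((χ : G → ℂ) ∘ (Subgroup.centralizer (P : Set G)).subtype) :=
      isClassFunction_character (isCharacter_comp _ (irr_isCharacter χ.2))
    have h1 := congrFun (classFun_expansion hcls) (incl hM hcard v * c)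
    simp only [Finset.sum_apply, Pi.smul_apply, smul_eq_mul, mult_spec] at h1 ⊢
    refine h1.trans (Finset.sum_congr rfl fun ψ _ => ?_)
    rw [(root hM hcard ψ v).2 c]
    ring
  have hcl : IsClassFunction (Subgroup.centralizer (P : Set G)) f := by
    intro a k
    show (χ : G → ℂ) ((v : G) * ((k : G) * a * (k : G)⁻¹)) = (χ : G → ℂ) ((v : G) * (a : G))
    rw [show (v : G) * ((k : G) * a * (k : G)⁻¹) = (k : G) * ((v : G) * a) * (k : G)⁻¹ by
      rw [← mul_assoc, ← mul_assoc, k.2 (v : G) v.2]; group, isClassFunction_character (irr_isCharacter χ.2)]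
  rw [Star.pc, subgroupBlockCoeff_eq, sum_extendByZero_mul, wgt, Finset.mul_sum]
  refine Eq.trans (Finset.sum_congr rfl fun k _ => ?_) ((sum_blockCoeff_shift b hcl s).trans ?_)
  · show _ = blockCoeff b k * (χ : G → ℂ) ((v : G) * ((k * s : Subgroup.centralizer (P : Set G)) : G))
    rw [Subgroup.coe_mul, ← mul_assoc, ← mul_assoc, k.2 (v : G) v.2]
  rw [blockPart_eq]
  refine Finset.sum_congr rfl fun ψ hψ => ?_
  rw [hexp, classInner_sum_left, Finset.sum_eq_single ψ, classInner_smul_left, irr_orth ψ.2 ψ.2, if_pos rfl,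
    mul_one, regular hM hmax hcard (Finset.mem_filter.mp hψ).2 hθ hs]
  · ring
  · intro φ _ hne
    rw [classInner_smul_left, irr_orth φ.2 ψ.2, if_neg fun e => hne (Subtype.ext e), mul_zero]
  · simp

variable (S : PConj.Setup G p)
  (hθP : ∀ x : Subgroup.centralizer (P : Set G), (x : G) ∈ P →
    (θ : Subgroup.centralizer (P : Set G) → ℂ) x = (θ : Subgroup.centralizer (P : Set G) → ℂ) 1)

include hθP

open scoped Classical in
/-- A closed set of characters of the block on the section of the defect group: an integer, bounded by the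
inertial index, times the sum of the conjugates of the canonical character. -/
theorem section_values {e : ℕ}
    (he : (Subgroup.centralizer (P : Set G)).relIndex (pairStab (pmod_prime hM) hmax.1.1.2) = e)
    {O : Finset (IrrCharacter G)} (hO : Closed S O) (hOB : ∀ χ ∈ O, χ ∈ B) :
    ∃ (a : ℤ) (W : Finset G), ((p : ℤ) - 1) * a ^ 2 ≤ (p : ℤ) * e * O.card ∧
      W.card * e = (Subgroup.centralizer (P : Set G)).relIndex (Subgroup.normalizer (P : Set G)) ∧
      (∀ w ∈ W, ∀ s ∈ Subgroup.centralizer (P : Set G), w⁻¹ * s * w ∈ Subgroup.centralizer (P : Set G)) ∧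
      ∀ (v : P), v ≠ 1 → ∀ s ∈ Subgroup.centralizer (P : Set G), ¬ p ∣ orderOf s →
        ∑ χ ∈ O, (χ : G → ℂ) ((v : G) * s) = (a : ℂ) * ∑ w ∈ W,
          if h : w⁻¹ * s * w ∈ Subgroup.centralizer (P : Set G) then
            (θ : Subgroup.centralizer (P : Set G) → ℂ) ⟨w⁻¹ * s * w, h⟩ else 0 := by
  have hp := hM.1
  have hP := pmod_prime hM
  obtain ⟨a, ha, -⟩ := closed_value S hM hmax hcard hSyl hθ hθP hO (fun _ => 1) (fun _ _ _ => rfl)
  simp only [Int.cast_one, one_mul] at ha
  have hb := weight_bound hM hmax hcard hSyl hθ hθP he (fun χ => if χ ∈ O then (1 : ℝ) else 0) (a := (a : ℝ))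
    fun v hv => by
      rw [Complex.ofReal_intCast, ← ha v hv, ← Finset.sum_subset (Finset.subset_univ O) fun χ _ hχ => by
        simp [hχ]]
      exact Finset.sum_congr rfl fun χ hχ => by simp [hχ]
  rw [← Finset.sum_subset (Finset.subset_univ O) (fun χ _ hχ => by simp [hχ]),
    Finset.sum_congr rfl (g := fun _ => (1 : ℝ)) fun χ hχ => by simp [hχ], Finset.sum_const, nsmul_eq_mul,
    mul_one] at hb
  set N := Subgroup.normalizer (P : Set G) with hN
  set T := pairStab hP hmax.1.1.2 with hT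
  set Sp := (Finset.univ.filter fun w : G => w ∈ N).image fun w => conjIdx w (⟨P, b⟩ : BrauerPairIdx G) with hSp
  -- as many pairs as cosets of the stabiliser
  have hScard : Sp.card = T.relIndex N := by
    rw [Subgroup.relIndex, Subgroup.index]
    have hmem : ∀ w : N, conjIdx (w : G) (⟨P, b⟩ : BrauerPairIdx G) ∈ Sp := fun w =>
      Finset.mem_image.mpr ⟨w, Finset.mem_filter.mpr ⟨Finset.mem_univ _, w.2⟩, rfl⟩
    let F : N ⧸ T.subgroupOf N → Sp := Quotient.lift (fun w => ⟨_, hmem w⟩) fun w w' hww => by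
      have h1 : ((w : G)⁻¹ * (w' : G)) ∈ T := (QuotientGroup.leftRel_apply.mp hww : w⁻¹ * w' ∈ T.subgroupOf N)
      refine Subtype.ext ?_
      show conjIdx (w : G) _ = conjIdx (w' : G) _
      rw [show conjIdx (w' : G) (⟨P, b⟩ : BrauerPairIdx G) =
        conjIdx (w : G) (conjIdx ((w : G)⁻¹ * (w' : G)) ⟨P, b⟩) by
          rw [conjIdx_mul hP _ _ _ hmax.1.1.2, mul_inv_cancel_left],
        show conjIdx ((w : G)⁻¹ * (w' : G)) (⟨P, b⟩ : BrauerPairIdx G) = ⟨P, b⟩ from h1]
    rw [← Nat.card_eq_finsetCard, eq_comm]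
    refine Nat.card_eq_of_bijective F ⟨?_, ?_⟩
    · rintro ⟨w⟩ ⟨w'⟩ h
      refine Quotient.sound (QuotientGroup.leftRel_apply.mpr ?_)
      have h1 : conjIdx (w : G) (⟨P, b⟩ : BrauerPairIdx G) = conjIdx (w' : G) ⟨P, b⟩ := congrArg Subtype.val h
      show conjIdx ((w : G)⁻¹ * (w' : G)) _ = _
      rw [← conjIdx_mul hP _ _ _ hmax.1.1.2, ← h1, conjIdx_mul hP _ _ _ hmax.1.1.2, inv_mul_cancel,
        conjIdx_one hP _ hmax.1.1.2]
    · rintro ⟨x, hx⟩
      obtain ⟨w, hw, rfl⟩ := Finset.mem_image.mp hx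
      exact ⟨QuotientGroup.mk ⟨w, (Finset.mem_filter.mp hw).2⟩, rfl⟩
  -- one element for each pair
  have hex : ∀ x ∈ Sp, ∃ w ∈ N, conjIdx w (⟨P, b⟩ : BrauerPairIdx G) = x := fun x hx => by
    obtain ⟨w, hw, rfl⟩ := Finset.mem_image.mp hx
    exact ⟨w, (Finset.mem_filter.mp hw).2, rfl⟩
  choose rep hrepN hrep using hex
  set f : BrauerPairIdx G → G := fun x => if h : x ∈ Sp then rep x h else 1 with hf
  have hfx : ∀ x ∈ Sp, f x ∈ N ∧ conjIdx (f x) (⟨P, b⟩ : BrauerPairIdx G) = x := fun x hx => by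
    simp only [hf, dif_pos hx]; exact ⟨hrepN x hx, hrep x hx⟩
  have hinj : Set.InjOn f Sp := fun x hx y hy h => by rw [← (hfx x hx).2, ← (hfx y hy).2, h]
  have hcent : ∀ w ∈ N, ∀ s ∈ Subgroup.centralizer (P : Set G),
      w⁻¹ * s * w ∈ Subgroup.centralizer (P : Set G) := fun w hw s hsC u hu => by
    have h := hsC (w * u * w⁻¹) ((Subgroup.mem_normalizer_iff.mp hw u).mp hu)
    calc u * (w⁻¹ * s * w) = w⁻¹ * (w * u * w⁻¹ * s) * w := by group
      _ = w⁻¹ * (s * (w * u * w⁻¹)) * w := by rw [h]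
      _ = w⁻¹ * s * w * u := by group
  refine ⟨a, Sp.image f, by exact_mod_cast hb, ?_, fun w hw => ?_, fun v hv s hsC hs => ?_⟩
  · rw [Finset.card_image_of_injOn hinj, hScard, mul_comm, ← he]
    exact Subgroup.relIndex_mul_relIndex _ _ _ (stabCtx_pairStab hM hmax.1.1.1 hmax.1.1.2).cent
      fun g hg => ((mem_pairStab hP _).mp hg).1
  · obtain ⟨x, hx, rfl⟩ := Finset.mem_image.mp hw
    exact hcent _ (hfx x hx).1
  have hcomm : Commute (v : G) s := hsC (v : G) v.2
  have hv' : (v : G) ≠ 1 := fun h => hv (Subtype.ext h)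
  have hord : orderOf (v : G) = p := by
    rw [Subgroup.orderOf_coe]; exact orderOf_eq_prime (pow_p hM hcard v) hv
  have hgen : Subgroup.zpowers (v : G) = P :=
    Subgroup.eq_of_le_of_card_ge (Subgroup.zpowers_le.mpr v.2) (by rw [Nat.card_zpowers, hord, hcard])
  have hvp : ∃ k : ℕ, orderOf (v : G) = p ^ k := ⟨1, by rw [hord, pow_one]⟩
  have hprs : Star.prs p M B (v : G) = Sp := by
    ext x
    rw [Star.mem_prs, hSp, Finset.mem_image, hgen]
    constructor
    · rintro ⟨hx, hpair⟩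
      obtain ⟨y, hy⟩ := pairs_conj_into_maximal hM hmax hpair
      have h1 := eq_of_rel_card hM (a := (conjIdx y x : BrauerPairIdx G)) (b := ⟨P, b⟩) hy
        (by rw [card_conjIdx, hx])
      have hyN : y ∈ N := Subgroup.mem_normalizer_iff_map_conj_eq.mpr (by
        have h2 : (conjIdx y x).1 = P := congrArg (fun c : BrauerPairIdx G => c.1) h1
        rw [← hx] at h2 ⊢
        exact h2)
      refine ⟨y⁻¹, Finset.mem_filter.mpr ⟨Finset.mem_univ _, inv_mem hyN⟩, ?_⟩
      rw [← h1, conjIdx_mul hP _ _ _ hpair.1.2, inv_mul_cancel, conjIdx_one hP _ hpair.1.2]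
    · rintro ⟨w, hw, rfl⟩
      exact ⟨Subgroup.mem_normalizer_iff_map_conj_eq.mp (Finset.mem_filter.mp hw).2,
        brauerPairOf_conj w hmax.1⟩
  have hval : ∀ χ ∈ O, (χ : G → ℂ) ((v : G) * s) = ∑ x ∈ Sp, Star.pc (χ : G → ℂ) ((v : G) * s) x := by
    intro χ hχ
    have h := Star.sum_pc hM (isClassFunction_character (irr_isCharacter χ.2)) (u := (v : G)) hcomm
    rw [← h, ← hprs]
    refine (Finset.sum_subset (Star.prs_subset_blk _) fun x hx hnx => ?_).symm
    exact Star.pc_of_not_pair hM hmax.1.2.1 (hOB χ hχ) hvp hx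
      (fun hpq => hnx (Star.mem_prs.mpr ⟨(Star.mem_blk.mp hx).1, hpq⟩)) (Star.mem_regC.mpr ⟨hcomm, hs⟩)
  rw [Finset.sum_congr rfl hval, Finset.sum_comm, Finset.sum_image hinj, Finset.mul_sum]
  refine Finset.sum_congr rfl fun x hx => ?_
  obtain ⟨hw, hwx⟩ := hfx x hx
  generalize f x = w at hw hwx
  subst hwx
  have hv1 : w⁻¹ * (v : G) * w ∈ P := by
    simpa using (Subgroup.mem_normalizer_iff.mp (inv_mem hw) _).mp v.2
  have hs1 := hcent w hw s hsC
  have hne : (⟨w⁻¹ * (v : G) * w, hv1⟩ : P) ≠ 1 := fun h => hv' (by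
    have h' : w⁻¹ * (v : G) * w = 1 := congrArg Subtype.val h
    calc (v : G) = w * (w⁻¹ * (v : G) * w) * w⁻¹ := by group
      _ = 1 := by rw [h']; group)
  have hreg : ¬ p ∣ orderOf (⟨w⁻¹ * s * w, hs1⟩ : Subgroup.centralizer (P : Set G)) := by
    rw [Subgroup.orderOf_mk, show w⁻¹ * s * w = MulAut.conj w⁻¹ s by simp, MulEquiv.orderOf_eq]
    exact hs
  rw [dif_pos hs1, Finset.sum_congr rfl (g := fun χ : IrrCharacter G =>
      (θ : Subgroup.centralizer (P : Set G) → ℂ) ⟨w⁻¹ * s * w, hs1⟩ *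
        wgt b χ (incl hM hcard ⟨w⁻¹ * (v : G) * w, hv1⟩)) fun χ hχ => by
    have h2 := Star.pc_conj (isClassFunction_character (irr_isCharacter χ.2)) w
      ((w⁻¹ * (v : G) * w) * (w⁻¹ * s * w)) (⟨P, b⟩ : BrauerPairIdx G)
    rw [show w * (w⁻¹ * (v : G) * w * (w⁻¹ * s * w)) * w⁻¹ = (v : G) * s by group] at h2
    rw [h2, pc_mul hM hmax hcard hSyl hθ χ ⟨_, hv1⟩ ⟨_, hs1⟩ hreg], ← Finset.mul_sum, ha _ hne, mul_comm]

end Cfsg.Agent.Char.DefectOne
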