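import Cfsg.Agent.Lib.Char.StarLocal
import Cfsg.Agent.Lib.Char.SubsectionOrbits
import Cfsg.Agent.Lib.Char.BrauerChar
import Cfsg.Agent.Lib.Char.Contribution

/-!
# Products of characters of a block with stable functions on its defect group

The values on each section are the parts in the local blocks, weighted by the function. Inner products are sums
over the subsections, and the product is a local-integral, and finally an integral, combination of the characters
of the block.
-/

set_option autoImplicit false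
set_option linter.unusedSectionVars false
set_option linter.style.haveILetI false

namespace Cfsg.Agent.Char.Star

open Cfsg Module Relation IdemAlg IdemSub Fixed
open scoped ComplexConjugate

universe u

variable {G : Type u} [Group G] [Fintype G] {M : Ideal AlgInt} {p : ℕ} {B : Set (IrrCharacter G)}
  {P : Subgroup G} {e : Set (IrrCharacter (Subgroup.centralizer (P : Set G)))}

theorem centralizer_zp (u : G) :
    Subgroup.centralizer (Subgroup.zpowers u : Set G) = Subgroup.centralizer ({u} : Set G) :=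
  centralizer_zpowers_eq

theorem mem_czp {u g : G} : g ∈ Subgroup.centralizer (Subgroup.zpowers u : Set G) ↔ Commute u g :=
  IdemTrace.mem_centralizer_zpowers_iff

theorem class_mul_comm {χ : G → ℂ} (hχ : IsClassFunction G χ) (a b : G) : χ (a * b) = χ (b * a) := by
  have := hχ (a * b) a⁻¹
  rw [inv_inv, inv_mul_cancel_left] at this
  exact this.symm

theorem conj_root {z : ℂ} {n : ℕ} (hn : n ≠ 0) (h : z ^ n = 1) : conj z = z⁻¹ :=
  (Complex.inv_eq_conj (Complex.norm_eq_one_of_pow_eq_one h hn)).symm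

/-! ### Values of block parts -/

/-- The sum of a function against the coefficients of a block of a centralizer. -/
noncomputable def pc (χ : G → ℂ) (g : G) (a : BrauerPairIdx G) : ℂ :=
  ∑ k : G, subgroupBlockCoeff (Subgroup.centralizer (a.1 : Set G)) a.2 k * χ (k * g)

/-- The shift of a function to the centralizer of an element. -/
def shift (χ : G → ℂ) (v u : G) : Subgroup.centralizer (Subgroup.zpowers u : Set G) → ℂ :=
  fun c => χ (v * (c : G))

theorem isClassFunction_shift {χ : G → ℂ} (hχ : IsClassFunction G χ) {u v : G} (hv : v ∈ Subgroup.zpowers u) :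
    IsClassFunction _ (shift χ v u) := fun a k => by
  show χ (v * ((k : G) * a * (k : G)⁻¹)) = χ (v * (a : G))
  rw [show v * ((k : G) * a * (k : G)⁻¹) = (k : G) * (v * a) * (k : G)⁻¹ by
    rw [← mul_assoc, ← mul_assoc, k.2 v hv]; group, hχ]

theorem pc_eq_blockPart {χ : G → ℂ} (hχ : IsClassFunction G χ) {u v : G} (hv : v ∈ Subgroup.zpowers u)
    [Fintype (Subgroup.centralizer (Subgroup.zpowers u : Set G))]
    (f : Set (IrrCharacter (Subgroup.centralizer (Subgroup.zpowers u : Set G))))
    (s : Subgroup.centralizer (Subgroup.zpowers u : Set G)) :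
    pc χ (v * (s : G)) ⟨Subgroup.zpowers u, f⟩ = blockPart f (shift χ v u) s := by
  rw [pc, subgroupBlockCoeff_eq, sum_extendByZero_mul, ← sum_blockCoeff_shift f (isClassFunction_shift hχ hv) s]
  refine Finset.sum_congr rfl fun k _ => ?_
  congr 1
  show χ ((k : G) * (v * (s : G))) = χ (v * ((k * s : Subgroup.centralizer (Subgroup.zpowers u : Set G)) : G))
  rw [Subgroup.coe_mul, ← mul_assoc, ← mul_assoc, k.2 v hv]

theorem pc_conj {χ : G → ℂ} (hχ : IsClassFunction G χ) (w g : G) (a : BrauerPairIdx G) :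
    pc χ (w * g * w⁻¹) (conjIdx w a) = pc χ g a := by
  refine (Fintype.sum_equiv (MulAut.conj w).toEquiv _ _ fun k => ?_).symm
  show _ = subgroupBlockCoeff (Subgroup.centralizer ((conjIdx w a).1 : Set G)) (conjIdx w a).2 (w * k * w⁻¹) *
    χ (w * k * w⁻¹ * (w * g * w⁻¹))
  rw [show w * k * w⁻¹ * (w * g * w⁻¹) = w * (k * g) * w⁻¹ by group, hχ,
    show subgroupBlockCoeff (Subgroup.centralizer ((conjIdx w a).1 : Set G)) (conjIdx w a).2 (w * k * w⁻¹) =
      subgroupBlockCoeff (Subgroup.centralizer (a.1 : Set G)) a.2 k from subgroupBlockCoeff_conj a.1 w a.2 k]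

open scoped Classical in
/-- The parts of a character are combinations with natural multiplicities and roots of unity. -/
theorem exists_expand {χ : G → ℂ} (hχ : IsCharacter G χ) (u : G)
    [Fintype (Subgroup.centralizer (Subgroup.zpowers u : Set G))] :
    ∃ (m : IrrCharacter (Subgroup.centralizer (Subgroup.zpowers u : Set G)) → ℕ)
      (ζ : IrrCharacter (Subgroup.centralizer (Subgroup.zpowers u : Set G)) → ℂ),
      (∀ η, ζ η ^ orderOf u = 1) ∧
      ∀ (i : ℕ) (f : Set (IrrCharacter (Subgroup.centralizer (Subgroup.zpowers u : Set G))))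
        (s : Subgroup.centralizer (Subgroup.zpowers u : Set G)),
        pc χ (u ^ i * (s : G)) ⟨Subgroup.zpowers u, f⟩ =
          ∑ η : IrrCharacter (Subgroup.centralizer (Subgroup.zpowers u : Set G)) with η ∈ f,
            (m η : ℂ) * ζ η ^ i * (η : _ → ℂ) s := by
  obtain ⟨m, hm⟩ := exists_decomposition
    (isCharacter_comp (Subgroup.centralizer (Subgroup.zpowers u : Set G)).subtype hχ)
  set uc : Subgroup.centralizer (Subgroup.zpowers u : Set G) := ⟨u, mem_czp.mpr (Commute.refl u)⟩ with huc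
  have hcent : ∀ c : Subgroup.centralizer (Subgroup.zpowers u : Set G), uc * c = c * uc := fun c =>
    Subtype.ext (mem_czp.mp c.2).eq
  choose ζ hζ1 hζ using fun η => exists_central_root hcent η
  have hpow : ∀ (η : IrrCharacter _) (i : ℕ) (c), (η : _ → ℂ) (uc ^ i * c) = ζ η ^ i * (η : _ → ℂ) c := by
    intro η i
    induction i with
    | zero => intro c; simp
    | succ i ih => intro c; rw [pow_succ, mul_assoc, ih, hζ, pow_succ, mul_assoc]
  refine ⟨m, ζ, fun η => by rw [← Subgroup.orderOf_mk u (mem_czp.mpr (Commute.refl u))]; exact hζ1 η,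
    fun i f s => ?_⟩
  rw [pc_eq_blockPart (isClassFunction_character hχ) (pow_mem (Subgroup.mem_zpowers u) i), blockPart_eq]
  refine Finset.sum_congr rfl fun η _ => ?_
  congr 1
  have e : shift χ (u ^ i) u = ∑ θ : IrrCharacter (Subgroup.centralizer (Subgroup.zpowers u : Set G)),
      ((m θ : ℂ) * ζ θ ^ i) • (θ : _ → ℂ) := by
    funext c
    have h := congrFun hm (uc ^ i * c)
    simp only [Function.comp_apply, Subgroup.coe_subtype, Subgroup.coe_mul, SubgroupClass.coe_pow,
      Finset.sum_apply, Pi.smul_apply, nsmul_eq_mul, Pi.mul_apply, Pi.natCast_apply, hpow] at h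
    rw [shift, h, Finset.sum_apply]
    exact Finset.sum_congr rfl fun θ _ => by rw [Pi.smul_apply, smul_eq_mul, mul_assoc]
  rw [e, classInner_sum_left, Finset.sum_eq_single η]
  · rw [classInner_smul_left, irr_orth η.2 η.2, if_pos rfl, mul_one]
  · intro θ _ hne
    rw [classInner_smul_left, irr_orth θ.2 η.2, if_neg (fun h => hne (Subtype.ext h)), mul_zero]
  · exact fun h => absurd (Finset.mem_univ _) h

variable (p) in
/-- The regular elements commuting with `u`. -/
noncomputable def regC (u : G) : Finset G := (Set.toFinite {s | Commute u s ∧ ¬ p ∣ orderOf s}).toFinset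

theorem mem_regC {u s : G} : s ∈ regC p u ↔ Commute u s ∧ ¬ p ∣ orderOf s := by simp [regC]

theorem self_eq (g : G) : ppt p g * preg p g = g := ppt_mul_preg g

theorem preg_mem_regC (hp : p.Prime) (g : G) : preg p g ∈ regC p (ppt p g) :=
  mem_regC.mpr ⟨((preg_spec hp g).2.2.symm.mul_left ((Commute.refl (preg p g)).inv_left)),
    (preg_spec hp g).2.1⟩

open scoped Classical in
theorem sum_regC (u : G) [Fintype (Subgroup.centralizer (Subgroup.zpowers u : Set G))] (F : G → ℂ) :
    ∑ s ∈ regC p u, F s =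
      ∑ s : Subgroup.centralizer (Subgroup.zpowers u : Set G) with ¬ p ∣ orderOf s, F (s : G) := by
  symm
  refine Finset.sum_bij (fun s _ => (s : G)) (fun s hs => ?_) (fun a _ b _ h => Subtype.ext h)
    (fun s hs => ?_) fun _ _ => rfl
  · exact mem_regC.mpr ⟨mem_czp.mp s.2, by
      rw [Subgroup.orderOf_coe]; exact (Finset.mem_filter.mp hs).2⟩
  · obtain ⟨h1, h2⟩ := mem_regC.mp hs
    exact ⟨⟨s, mem_czp.mpr h1⟩, Finset.mem_filter.mpr ⟨Finset.mem_univ _, by rwa [Subgroup.orderOf_mk]⟩, rfl⟩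

/-- The blocks of the centralizer of `u`, as pairs. -/
noncomputable def blk (M : Ideal AlgInt) (u : G) : Finset (BrauerPairIdx G) :=
  (Set.toFinite {a : BrauerPairIdx G | a.1 = Subgroup.zpowers u ∧ IsPBlock M a.2}).toFinset

theorem mem_blk {u : G} {a : BrauerPairIdx G} :
    a ∈ blk M u ↔ a.1 = Subgroup.zpowers u ∧ IsPBlock M a.2 := by
  simp [blk]

theorem prs_subset_blk (u : G) : prs p M B u ⊆ blk M u := fun _ ha =>
  mem_blk.mpr ⟨(mem_prs.mp ha).1, (mem_prs.mp ha).2.1.2⟩

open scoped Classical in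
theorem sum_pc (hM : IsPModular p M) {χ : G → ℂ} (hχ : IsClassFunction G χ) {u s : G} (hs : Commute u s) :
    ∑ a ∈ blk M u, pc χ (u * s) a = χ (u * s) := by
  haveI := Fintype.ofFinite (Subgroup.centralizer (Subgroup.zpowers u : Set G))
  have h := eq_sum_blockPart (pmod_prime hM) (isClassFunction_shift hχ (Subgroup.mem_zpowers u)) ⟨s, mem_czp.mpr hs⟩
  refine Eq.trans (Eq.symm ?_) h.symm
  refine Finset.sum_bij (fun f _ => (⟨Subgroup.zpowers u, f⟩ : BrauerPairIdx G)) (fun f hf => ?_)
    (fun f _ f' _ h => eq_of_heq (Sigma.mk.inj_iff.mp h).2) (fun a ha => ?_) fun f _ => ?_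
  · obtain ⟨η, -, rfl⟩ := Finset.mem_image.mp hf
    exact mem_blk.mpr ⟨rfl, isPBlock_blockOf M η⟩
  · obtain ⟨h1, h2⟩ := mem_blk.mp ha
    obtain ⟨Q, f⟩ := a
    dsimp only at h1
    subst h1
    obtain ⟨η, hη⟩ := id h2
    exact ⟨f, Finset.mem_image.mpr ⟨η, Finset.mem_univ _, hη.symm⟩, rfl⟩
  · exact (pc_eq_blockPart hχ (Subgroup.mem_zpowers u) f ⟨s, mem_czp.mpr hs⟩).symm

/-- Second main theorem: only the pairs of the block of a character contribute. -/
theorem pc_of_not_pair (hM : IsPModular p M) {χ : IrrCharacter G} (hB : IsPBlock M B) (hχ : χ ∈ B) {u : G}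
    (hu : ∃ k : ℕ, orderOf u = p ^ k) {a : BrauerPairIdx G} (ha : a ∈ blk M u)
    (hnot : ¬ IsBrauerPairOf p M B a.1 a.2) {s : G} (hs : s ∈ regC p u) :
    pc (χ : G → ℂ) (u * s) a = 0 := by
  classical
  have hP := pmod_prime hM
  obtain ⟨h1, h2⟩ := mem_blk.mp ha
  obtain ⟨Q, f⟩ := a
  dsimp only at h1
  subst h1
  obtain ⟨hus, hsr⟩ := mem_regC.mp hs
  haveI := Fintype.ofFinite (Subgroup.centralizer (Subgroup.zpowers u : Set G))
  have hS := isPGroup_zpowers hM.1 hu
  have hSle : Subgroup.zpowers u ≤ Subgroup.centralizer (Subgroup.zpowers u : Set G) :=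
    Subgroup.zpowers_le.mpr (mem_czp.mpr (Commute.refl u))
  obtain ⟨B', hB'⟩ := inducedBlockDefined_of_local hM hS hSle le_rfl (centralizer_le_norm _) h2
  have hne : χ ∉ B' := fun h => hnot (by
    rw [block_eq_blockOf hP hB hχ, ← block_eq_blockOf hP hB'.2.1 h]
    exact SubsectionOrbits.pair_of_induced hM hS hB')
  rw [pc, subgroupBlockCoeff_eq, sum_extendByZero_mul]
  exact second_main_induced hM hB' ⟨u * s, mul_mem (mem_czp.mpr (Commute.refl u)) (mem_czp.mpr hus)⟩ (z := u)
    ⟨s, rfl, hus, hu, hsr⟩ (centralizer_zp u).ge χ hne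

theorem pc_of_other (hM : IsPModular p M) {χ : IrrCharacter G} (hB : IsPBlock M B) (hχ : χ ∉ B) {u : G}
    (hu : ∃ k : ℕ, orderOf u = p ^ k) {a : BrauerPairIdx G} (ha : a ∈ prs p M B u) {s : G}
    (hs : s ∈ regC p u) : pc (χ : G → ℂ) (u * s) a = 0 := by
  have hP := pmod_prime hM
  refine pc_of_not_pair hM (isPBlock_blockOf M χ) (self_mem_blockOf hP χ) hu (prs_subset_blk u ha) (fun h => hχ ?_) hs
  rw [pairOf_unique hM (mem_prs.mp ha).2 h]
  exact self_mem_blockOf hP χ

/-- The product over one subsection. -/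
noncomputable def sct (p : ℕ) (χ φ : G → ℂ) (u : G) (a : BrauerPairIdx G) : ℂ :=
  ∑ s ∈ regC p u, pc χ (u * s) a * conj (pc φ (u * s) a)

open scoped Classical in
theorem sum_pc_mul_conj {χ φ : G → ℂ} (hχ : IsCharacter G χ) (hφ : IsCharacter G φ) (u : G)
    [Fintype (Subgroup.centralizer (Subgroup.zpowers u : Set G))] :
    ∃ (m n : IrrCharacter (Subgroup.centralizer (Subgroup.zpowers u : Set G)) → ℕ)
      (ζ ξ : IrrCharacter (Subgroup.centralizer (Subgroup.zpowers u : Set G)) → ℂ),
      (∀ η, ζ η ^ orderOf u = 1) ∧ (∀ η, ξ η ^ orderOf u = 1) ∧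
      ∀ (i : ℕ) (f f' : Set (IrrCharacter (Subgroup.centralizer (Subgroup.zpowers u : Set G)))),
        ∑ s ∈ regC p u, pc χ (u ^ i * s) ⟨Subgroup.zpowers u, f⟩ * conj (pc φ (u ^ i * s) ⟨Subgroup.zpowers u, f'⟩) =
          (Nat.card (Subgroup.centralizer (Subgroup.zpowers u : Set G)) : ℂ) *
            ∑ η : IrrCharacter (Subgroup.centralizer (Subgroup.zpowers u : Set G)) with η ∈ f,
              ∑ θ : IrrCharacter (Subgroup.centralizer (Subgroup.zpowers u : Set G)) with θ ∈ f',
                (m η : ℂ) * (n θ : ℂ) * (ζ η ^ i * conj (ξ θ ^ i)) *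
                  einner p (η : Subgroup.centralizer (Subgroup.zpowers u : Set G) → ℂ) (θ : _ → ℂ) := by
  obtain ⟨m, ζ, hζ1, hm⟩ := exists_expand hχ u
  obtain ⟨n, ξ, hξ1, hn⟩ := exists_expand hφ u
  refine ⟨m, n, ζ, ξ, hζ1, hξ1, fun i f f' => ?_⟩
  rw [sum_regC]
  have h1 : ∀ s : Subgroup.centralizer (Subgroup.zpowers u : Set G),
      pc χ (u ^ i * (s : G)) ⟨Subgroup.zpowers u, f⟩ =
        ∑ η : IrrCharacter (Subgroup.centralizer (Subgroup.zpowers u : Set G)) with η ∈ f,
          (m η : ℂ) * ζ η ^ i * (η : _ → ℂ) s := fun s => hm i f s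
  have h2 : ∀ s : Subgroup.centralizer (Subgroup.zpowers u : Set G),
      pc φ (u ^ i * (s : G)) ⟨Subgroup.zpowers u, f'⟩ =
        ∑ η : IrrCharacter (Subgroup.centralizer (Subgroup.zpowers u : Set G)) with η ∈ f',
          (n η : ℂ) * ξ η ^ i * (η : _ → ℂ) s := fun s => hn i f' s
  simp only [h1, h2, map_sum, map_mul, map_natCast, Finset.sum_mul, Finset.mul_sum]
  rw [Finset.sum_comm]
  conv_lhs => enter [2, θ]; rw [Finset.sum_comm]
  rw [Finset.sum_comm]
  refine Finset.sum_congr rfl fun η _ => Finset.sum_congr rfl fun θ _ => ?_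
  rw [MajorSubEinner η θ]
  simp only [Finset.mul_sum]
  rw [Finset.sum_congr rfl fun s _ => ?_]
  have hne : (Nat.card (Subgroup.centralizer (Subgroup.zpowers u : Set G)) : ℂ) ≠ 0 :=
    Nat.cast_ne_zero.mpr Nat.card_pos.ne'
  field_simp
where
  MajorSubEinner {H : Type u} [Group H] [Fintype H] [DecidablePred fun s : H => ¬ p ∣ orderOf s]
      (η θ : IrrCharacter H) : einner p (η : H → ℂ) (θ : H → ℂ) = (Nat.card H : ℂ)⁻¹ *
        ∑ s : H with ¬ p ∣ orderOf s, (η : H → ℂ) s * conj ((θ : H → ℂ) s) := by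
    rw [einner, classInner, Finset.sum_filter]
    congr 1
    refine Finset.sum_congr rfl fun s _ => ?_
    simp only [Pi.mul_apply, regInd]
    split_ifs <;> simp_all

theorem cross_zero (hM : IsPModular p M) {χ φ : G → ℂ} (hχ : IsCharacter G χ) (hφ : IsCharacter G φ) {u : G}
    {a b : BrauerPairIdx G} (ha : a ∈ blk M u) (hb : b ∈ blk M u) (hne : a ≠ b) :
    ∑ s ∈ regC p u, pc χ (u * s) a * conj (pc φ (u * s) b) = 0 := by
  classical
  have hP := pmod_prime hM
  haveI := Fintype.ofFinite (Subgroup.centralizer (Subgroup.zpowers u : Set G))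
  obtain ⟨h1, h2⟩ := mem_blk.mp ha
  obtain ⟨h3, h4⟩ := mem_blk.mp hb
  obtain ⟨Q, f⟩ := a
  obtain ⟨Q', f'⟩ := b
  dsimp only at h1 h2 h3 h4
  subst h1; subst h3
  obtain ⟨m, n, ζ, ξ, -, -, h⟩ := sum_pc_mul_conj (p := p) hχ hφ u
  have h1 := h 1 f f'
  simp only [pow_one] at h1
  rw [h1]
  refine mul_eq_zero_of_right _ (Finset.sum_eq_zero fun η hη => Finset.sum_eq_zero fun θ hθ => ?_)
  rw [einner_eq_zero_of_not_sameBlock hM η θ fun hs => hne ?_, mul_zero]
  have h5 := (Finset.mem_filter.mp hη).2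
  have h6 : θ ∈ f := (mem_block_iff hP h2 h5 θ).mpr hs
  exact congrArg (fun r => (⟨Subgroup.zpowers u, r⟩ : BrauerPairIdx G))
    (block_disjoint hP h2 h4 h6 (Finset.mem_filter.mp hθ).2)

open scoped Classical in
/-- The integral value of the product over one subsection. -/
theorem sct_integral (hp : p.Prime) {χ φ : G → ℂ} (hχ : IsCharacter G χ) (hφ : IsCharacter G φ) {u : G}
    {a : BrauerPairIdx G} (ha : a.1 = Subgroup.zpowers u) :
    ∃ z : ℂ, IsIntegral ℤ z ∧ (p : ℂ) ^ (Nat.card G).factorization p * sct p χ φ u a =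
      (Nat.card (Subgroup.centralizer ({u} : Set G)) : ℂ) * z := by
  haveI := Fintype.ofFinite (Subgroup.centralizer (Subgroup.zpowers u : Set G))
  obtain ⟨Q, f⟩ := a
  dsimp only at ha
  subst ha
  obtain ⟨m, n, ζ, ξ, hζ, hξ, h⟩ := sum_pc_mul_conj (p := p) hχ hφ u
  obtain ⟨d, hd⟩ := Nat.exists_eq_add_of_le
    ((Nat.factorization_le_iff_dvd Nat.card_pos.ne' Nat.card_pos.ne').mpr
      (Subgroup.card_subgroup_dvd_card (Subgroup.centralizer (Subgroup.zpowers u : Set G))) p)
  refine ⟨∑ η : IrrCharacter (Subgroup.centralizer (Subgroup.zpowers u : Set G)) with η ∈ f,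
    ∑ θ : IrrCharacter (Subgroup.centralizer (Subgroup.zpowers u : Set G)) with θ ∈ f,
      (m η : ℂ) * (n θ : ℂ) * (ζ η * (ξ θ) ^ (orderOf u - 1)) * ((p : ℂ) ^ d * (zI p η θ : ℂ)),
    IsIntegral.sum _ fun η _ => IsIntegral.sum _ fun θ _ => ((isIntegral_algebraMap.mul isIntegral_algebraMap).mul
      ((root_of_unity_isIntegral (orderOf_pos u).ne' (hζ η)).mul
        ((root_of_unity_isIntegral (orderOf_pos u).ne' (hξ θ)).pow _))).mul
      ((isIntegral_algebraMap.pow _).mul isIntegral_algebraMap), ?_⟩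
  have h1 := h 1 f f
  simp only [pow_one] at h1
  rw [sct, h1, Nat.card_congr (MulEquiv.subgroupCongr (centralizer_zp u)).toEquiv, mul_left_comm]
  congr 1
  simp only [Finset.mul_sum]
  refine Finset.sum_congr rfl fun η _ => Finset.sum_congr rfl fun θ _ => ?_
  rw [zI_spec hp, hd, pow_add, conj_root (orderOf_pos u).ne' (hξ θ)]
  have e : (ξ θ)⁻¹ = ξ θ ^ (orderOf u - 1) := inv_eq_of_mul_eq_one_right (by
    rw [← pow_succ', Nat.sub_add_cancel (orderOf_pos u), hξ θ])
  rw [e]
  ring

/-- Weighted by a function, the parts form the product. -/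
noncomputable def theta (p : ℕ) (M : Ideal AlgInt) (B : Set (IrrCharacter G)) (P : Subgroup G)
    (e : Set (IrrCharacter (Subgroup.centralizer (P : Set G)))) (lam χ : G → ℂ) (g : G) : ℂ :=
  ∑ a ∈ prs p M B (ppt p g), wt p M P e lam (ppt p g) a * pc χ g a

theorem theta_mul (hp : p.Prime) (lam χ : G → ℂ) {u s : G} (hu : ∃ k : ℕ, orderOf u = p ^ k)
    (hs : s ∈ regC p u) :
    theta p M B P e lam χ (u * s) = ∑ a ∈ prs p M B u, wt p M P e lam u a * pc χ (u * s) a := by
  rw [theta, ppt_mul hp (mem_regC.mp hs).1 hu (mem_regC.mp hs).2]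

theorem isClassFunction_theta (hM : IsPModular p M) {lam : G → ℂ} (hlam : Stable p M P e lam) {χ : G → ℂ}
    (hχ : IsClassFunction G χ) : IsClassFunction G (theta p M B P e lam χ) := fun g w => by
  rw [theta, theta, ppt_conj hM.1, sum_prs_conj (pmod_prime hM)]
  refine Finset.sum_congr rfl fun a ha => ?_
  rw [wt_conj hM hlam (mem_prs.mp ha).1 (mem_prs.mp ha).2.1.2, pc_conj hχ]

/-- The elements of `p`-power order. -/
noncomputable def pels (G : Type u) [Group G] [Fintype G] (p : ℕ) : Finset G :=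
  (Set.toFinite {u : G | ∃ k : ℕ, orderOf u = p ^ k}).toFinset

theorem mem_pels {u : G} : u ∈ pels G p ↔ ∃ k : ℕ, orderOf u = p ^ k := by simp [pels]

open scoped Classical in
theorem sum_sections (hp : p.Prime) (F : G → ℂ) :
    ∑ g : G, F g = ∑ u ∈ pels G p, ∑ s ∈ regC p u, F (u * s) := by
  rw [← Finset.sum_fiberwise_of_maps_to (t := pels G p) (g := ppt p) fun g _ =>
    mem_pels.mpr (ppt_ppower hp g)]
  refine Finset.sum_congr rfl fun u hu => ?_
  symm
  refine Finset.sum_bij (fun s _ => u * s) (fun s hs => ?_) (fun a _ b _ h => mul_left_cancel h)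
    (fun g hg => ?_) fun _ _ => rfl
  · exact Finset.mem_filter.mpr ⟨Finset.mem_univ _,
      ppt_mul hp (mem_regC.mp hs).1 (mem_pels.mp hu) (mem_regC.mp hs).2⟩
  · obtain rfl := (Finset.mem_filter.mp hg).2
    exact ⟨preg p g, preg_mem_regC hp g, self_eq g⟩

/-! ### Inner products -/

theorem inner_theta (hM : IsPModular p M) (lam mu : G → ℂ) {χ φ : G → ℂ} (hχ : IsCharacter G χ)
    (hφ : IsCharacter G φ) :
    classInner (theta p M B P e lam χ) (theta p M B P e mu φ) =
      (Nat.card G : ℂ)⁻¹ * ∑ u ∈ pels G p, ∑ a ∈ prs p M B u,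
        wt p M P e lam u a * conj (wt p M P e mu u a) * sct p χ φ u a := by
  classical
  rw [classInner, sum_sections hM.1]
  congr 1
  refine Finset.sum_congr rfl fun u hu => ?_
  have hu' := mem_pels.mp hu
  rw [Finset.sum_congr rfl fun s hs => by
    rw [theta_mul hM.1 lam χ hu' hs, theta_mul hM.1 mu φ hu' hs, map_sum, Finset.sum_mul_sum],
    Finset.sum_comm]
  refine Finset.sum_congr rfl fun a ha => ?_
  rw [Finset.sum_comm, Finset.sum_eq_single a]
  · rw [sct, Finset.mul_sum]
    refine Finset.sum_congr rfl fun s _ => ?_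
    rw [map_mul]; ring
  · intro b hb hne
    rw [Finset.sum_congr rfl (g := fun s => wt p M P e lam u a * conj (wt p M P e mu u b) *
        (pc χ (u * s) a * conj (pc φ (u * s) b))) fun s _ => by rw [map_mul]; ring, ← Finset.mul_sum,
      cross_zero hM hχ hφ (prs_subset_blk u ha) (prs_subset_blk u hb) hne.symm, mul_zero]
  · exact fun h => absurd ha h

theorem stable_one : Stable p M P e (fun _ => (1 : ℂ)) := fun _ _ _ _ _ _ => rfl

theorem wt_one (hM : IsPModular p M) (hmax : IsMaximalBrauerPair p M B P e) {u : G} {a : BrauerPairIdx G}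
    (ha : a ∈ prs p M B u) : wt p M P e (fun _ => (1 : ℂ)) u a = 1 := by
  obtain ⟨g, hg⟩ := pairs_conj_into_maximal hM hmax (mem_prs.mp ha).2
  rw [wt_eq hM stable_one (mem_prs.mp ha).1 (mem_prs.mp ha).2.1.2 (g := g) hg]

theorem theta_one (hM : IsPModular p M) (hmax : IsMaximalBrauerPair p M B P e) {χ : IrrCharacter G}
    (hχ : χ ∈ B) : theta p M B P e (fun _ => (1 : ℂ)) (χ : G → ℂ) = (χ : G → ℂ) := by
  classical
  funext g
  have hu := ppt_ppower hM.1 g
  have hs := preg_mem_regC hM.1 g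
  conv_rhs => rw [← self_eq (p := p) g, ← sum_pc hM (isClassFunction_character (irr_isCharacter χ.2))
    (mem_regC.mp hs).1]
  rw [theta, ← Finset.sum_subset (prs_subset_blk (B := B) (ppt p g)) fun a ha hn =>
    pc_of_not_pair hM hmax.1.2.1 hχ hu ha (fun h => hn (mem_prs.mpr ⟨(mem_blk.mp ha).1, h⟩)) hs, self_eq]
  exact Finset.sum_congr rfl fun a ha => by rw [wt_one hM hmax ha, one_mul]

/-- Inner products with the characters of the block. -/
theorem inner_theta_irr (hM : IsPModular p M) (hmax : IsMaximalBrauerPair p M B P e) (lam : G → ℂ) {χ : G → ℂ}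
    (hχ : IsCharacter G χ) {φ : IrrCharacter G} (hφ : φ ∈ B) :
    classInner (theta p M B P e lam χ) (φ : G → ℂ) =
      (Nat.card G : ℂ)⁻¹ * ∑ u ∈ pels G p, ∑ a ∈ prs p M B u,
        wt p M P e lam u a * sct p χ (φ : G → ℂ) u a := by
  have h := inner_theta (B := B) (P := P) (e := e) hM lam (fun _ => (1 : ℂ)) hχ (irr_isCharacter φ.2)
  rw [theta_one hM hmax hφ] at h
  rw [h]
  congr 1
  refine Finset.sum_congr rfl fun u _ => Finset.sum_congr rfl fun a ha => ?_
  rw [wt_one hM hmax ha, map_one, mul_one]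

/-- The product is orthogonal to the other blocks. -/
theorem inner_theta_not_mem (hM : IsPModular p M) (hB : IsPBlock M B) (lam : G → ℂ) {χ : G → ℂ}
    (hχ : IsCharacter G χ) {φ : IrrCharacter G} (hφ : φ ∉ B) :
    classInner (theta p M B P e lam χ) (φ : G → ℂ) = 0 := by
  classical
  rw [classInner, sum_sections hM.1]
  refine mul_eq_zero_of_right _ (Finset.sum_eq_zero fun u hu => ?_)
  have hu' := mem_pels.mp hu
  rw [Finset.sum_congr rfl fun s hs => by
    rw [theta_mul hM.1 lam χ hu' hs, ← sum_pc hM (isClassFunction_character (irr_isCharacter φ.2))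
      (mem_regC.mp hs).1, map_sum, Finset.sum_mul_sum], Finset.sum_comm]
  refine Finset.sum_eq_zero fun a ha => ?_
  rw [Finset.sum_comm]
  refine Finset.sum_eq_zero fun b hb => ?_
  rw [Finset.sum_congr rfl fun s _ => mul_assoc _ _ _, ← Finset.mul_sum]
  by_cases hab : a = b
  · subst hab
    refine mul_eq_zero_of_right _ (Finset.sum_eq_zero fun s hs => ?_)
    rw [pc_of_other hM hB hφ hu' ha hs, map_zero, mul_zero]
  · rw [cross_zero hM hχ (irr_isCharacter φ.2) (prs_subset_blk u ha) hb hab, mul_zero]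

theorem theta_regular (hM : IsPModular p M) (hmax : IsMaximalBrauerPair p M B P e) {lam : G → ℂ}
    (hlam : Stable p M P e lam) {χ : IrrCharacter G} (hχ : χ ∈ B) {s : G} (hs : ¬ p ∣ orderOf s) :
    theta p M B P e lam (χ : G → ℂ) s = lam 1 * (χ : G → ℂ) s := by
  conv_rhs => rw [← theta_one hM hmax hχ]
  rw [theta, theta, Finset.mul_sum, (ppt_eq_one_iff hM.1 s).mpr hs]
  refine Finset.sum_congr rfl fun a ha => ?_
  obtain ⟨g, hg⟩ := pairs_conj_into_maximal hM hmax (mem_prs.mp ha).2
  rw [wt_eq hM hlam (mem_prs.mp ha).1 (mem_prs.mp ha).2.1.2 (g := g) hg, wt_one hM hmax ha, mul_one,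
    mul_inv_cancel, one_mul]

theorem theta_degree (hM : IsPModular p M) (hmax : IsMaximalBrauerPair p M B P e) {lam : G → ℂ}
    (hlam : Stable p M P e lam) {χ : IrrCharacter G} (hχ : χ ∈ B) :
    theta p M B P e lam (χ : G → ℂ) 1 = lam 1 * (χ : G → ℂ) 1 :=
  theta_regular hM hmax hlam hχ (by rw [orderOf_one]; exact hM.1.not_dvd_one)

theorem wt_mul (lam mu : G → ℂ) (u : G) (a : BrauerPairIdx G) :
    wt p M P e (lam * mu) u a = wt p M P e lam u a * wt p M P e mu u a := by
  classical
  unfold wt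
  split_ifs
  · rfl
  · rw [mul_zero]

/-- Inside a pair the product multiplies by the weight. -/
theorem pc_theta (hM : IsPModular p M) {mu : G → ℂ} (hmu : Stable p M P e mu) {χ : G → ℂ}
    (hχ : IsClassFunction G χ) {u : G} (hu : ∃ k : ℕ, orderOf u = p ^ k) {a : BrauerPairIdx G}
    (ha : a ∈ prs p M B u) {s : G} (hs : s ∈ regC p u) :
    pc (theta p M B P e mu χ) (u * s) a = wt p M P e mu u a * pc χ (u * s) a := by
  classical
  have hP := pmod_prime hM
  obtain ⟨h1, h2⟩ := mem_prs.mp ha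
  obtain ⟨Q, f⟩ := a
  dsimp only at h1
  subst h1
  obtain ⟨hus, hsr⟩ := mem_regC.mp hs
  haveI := Fintype.ofFinite (Subgroup.centralizer (Subgroup.zpowers u : Set G))
  set s' : (Subgroup.centralizer (Subgroup.zpowers u : Set G)) := ⟨s, mem_czp.mpr hus⟩
  have hs' : ¬ p ∣ orderOf s' := by rwa [Subgroup.orderOf_mk]
  have hth := isClassFunction_theta (B := B) hM hmu hχ
  rw [show u * s = u * (s' : G) from rfl, pc_eq_blockPart hth (Subgroup.mem_zpowers u) f s',
    pc_eq_blockPart hχ (Subgroup.mem_zpowers u) f s']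
  set F := shift χ u u with hF
  let F' : (Subgroup.centralizer (Subgroup.zpowers u : Set G)) → ℂ := fun c => ∑ b ∈ prs p M B u, wt p M P e mu u b * pc χ (u * (c : G)) b
  rw [blockPart_regular_congr hM (show IsPBlock M f from h2.1.2)
    (f := shift (theta p M B P e mu χ) u u) (f' := F') (fun c hc => theta_mul hM.1 mu χ hu
    (mem_regC.mpr ⟨mem_czp.mp c.2, by rwa [Subgroup.orderOf_coe]⟩)) hs']
  have hF' : ∀ η : IrrCharacter (Subgroup.centralizer (Subgroup.zpowers u : Set G)), η ∈ f → classInner F' (η : (Subgroup.centralizer (Subgroup.zpowers u : Set G)) → ℂ) =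
      wt p M P e mu u ⟨Subgroup.zpowers u, f⟩ * classInner F (η : (Subgroup.centralizer (Subgroup.zpowers u : Set G)) → ℂ) := by
    intro η hη
    have eF : F' = ∑ b ∈ prs p M B u, fun c : (Subgroup.centralizer (Subgroup.zpowers u : Set G)) => wt p M P e mu u b * pc χ (u * (c : G)) b := by
      funext c; rw [Finset.sum_apply]
    rw [eF, classInner_sum_left]
    have key : ∀ b ∈ prs p M B u,
        classInner (fun c : (Subgroup.centralizer (Subgroup.zpowers u : Set G)) => wt p M P e mu u b * pc χ (u * (c : G)) b) (η : (Subgroup.centralizer (Subgroup.zpowers u : Set G)) → ℂ) =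
          if b = ⟨Subgroup.zpowers u, f⟩ then wt p M P e mu u b * classInner F (η : (Subgroup.centralizer (Subgroup.zpowers u : Set G)) → ℂ) else 0 := by
      intro b hb
      obtain ⟨h3, h4⟩ := mem_prs.mp hb
      obtain ⟨Q', f'⟩ := b
      dsimp only at h3
      subst h3
      have e2 : (fun c : (Subgroup.centralizer (Subgroup.zpowers u : Set G)) => wt p M P e mu u ⟨Subgroup.zpowers u, f'⟩ * pc χ (u * (c : G)) ⟨Subgroup.zpowers u, f'⟩) =
          wt p M P e mu u ⟨Subgroup.zpowers u, f'⟩ •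
            ∑ ξ : IrrCharacter (Subgroup.centralizer (Subgroup.zpowers u : Set G)) with ξ ∈ f', classInner F (ξ : (Subgroup.centralizer (Subgroup.zpowers u : Set G)) → ℂ) • (ξ : (Subgroup.centralizer (Subgroup.zpowers u : Set G)) → ℂ) := by
        funext c
        rw [pc_eq_blockPart hχ (Subgroup.mem_zpowers u) f' c, blockPart_eq]
        simp [hF]
      rw [e2, classInner_smul_left, classInner_sum_left]
      simp only [classInner_smul_left, irr_orth (Subtype.prop _) η.2]
      by_cases hff : f' = f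
      · subst hff
        rw [if_pos rfl]
        congr 1
        rw [Finset.sum_eq_single η]
        · rw [if_pos rfl, mul_one]
        · exact fun ξ _ hne => by rw [if_neg fun h => hne (Subtype.ext h), mul_zero]
        · exact fun h => absurd (Finset.mem_filter.mpr ⟨Finset.mem_univ _, hη⟩) h
      · rw [if_neg fun h : (⟨Subgroup.zpowers u, f'⟩ : BrauerPairIdx G) = ⟨Subgroup.zpowers u, f⟩ => hff (eq_of_heq (Sigma.mk.inj_iff.mp h).2), Finset.sum_eq_zero, mul_zero]
        intro ξ hξ
        rw [if_neg fun h => hff ?_, mul_zero]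
        exact block_disjoint hP h4.1.2 h2.1.2 (Finset.mem_filter.mp hξ).2 (by rwa [Subtype.ext h])
    rw [Finset.sum_congr rfl key, Finset.sum_ite_eq' _ _ _, if_pos ha]
  simp only [blockPart_eq, Finset.mul_sum]
  refine Finset.sum_congr rfl fun η hη => ?_
  rw [hF' η (Finset.mem_filter.mp hη).2, mul_assoc]

/-- The products compose. -/
theorem theta_theta (hM : IsPModular p M) (lam : G → ℂ) {mu : G → ℂ} (hmu : Stable p M P e mu) {χ : G → ℂ}
    (hχ : IsClassFunction G χ) :
    theta p M B P e lam (theta p M B P e mu χ) = theta p M B P e (lam * mu) χ := by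
  funext g
  rw [theta, theta]
  refine Finset.sum_congr rfl fun a ha => ?_
  have h := pc_theta hM hmu hχ (ppt_ppower hM.1 g) ha (preg_mem_regC hM.1 g)
  rw [self_eq] at h
  rw [h, wt_mul]
  ring

end Cfsg.Agent.Char.Star
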