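import Cfsg.Agent.Lib.Char.CyclicStructure
import Cfsg.Agent.Lib.Char.StarValues
import Cfsg.Agent.Lib.Char.DegreesBelowPrime

/-!
# Values of the characters of a block whose defect group is a Sylow subgroup of order `p`

For `v` in the defect group `P` the weight `W χ v` collects the constituents of `χ` in the block `b` of
`C(P)`, each counted with its root of unity at `v`.
-/

set_option autoImplicit false
set_option linter.unusedSectionVars false
set_option linter.style.haveILetI false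

open Cfsg
open scoped ComplexConjugate

namespace Cfsg.Agent.Char.DefectOne

universe u

/-- A family of `p` integers with prime-to-`p` sum and small variance has sum `±1` modulo `p`. -/
theorem sum_congr_one {ι : Type*} [Fintype ι] {p : ℕ} (hp : p.Prime) (hι : Fintype.card ι = p) (a : ι → ℤ)
    (hn : ¬ (p : ℤ) ∣ ∑ i, a i) (hS : (p : ℤ) * ∑ i, a i ^ 2 - (∑ i, a i) ^ 2 ≤ (p : ℤ) - 1) :
    (p : ℤ) ∣ ∑ i, a i - 1 ∨ (p : ℤ) ∣ ∑ i, a i + 1 := by
  have hp0 : (0 : ℤ) < p := by exact_mod_cast hp.pos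
  set n := ∑ i, a i with hndef
  set q := n / (p : ℤ) with hq
  set r := n % (p : ℤ) with hr
  have hnr : n = p * q + r := by rw [hq, hr]; exact (Int.mul_ediv_add_emod n p).symm
  have hr0 : 1 ≤ r := by
    rcases (Int.emod_nonneg n hp0.ne').lt_or_eq with h | h
    · exact h
    · exact absurd (Int.dvd_of_emod_eq_zero h.symm) hn
  have hrp : r ≤ (p : ℤ) - 1 := by have := Int.emod_lt_of_pos n hp0; omega
  have hsum : ∑ i, (a i - q) = r := by
    rw [Finset.sum_sub_distrib, Finset.sum_const, Finset.card_univ, hι, ← hndef, nsmul_eq_mul]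
    linear_combination hnr
  have hsq : ∑ i, a i ^ 2 = ∑ i, (a i - q) ^ 2 + 2 * q * r + p * q ^ 2 := by
    simp only [sub_sq, Finset.sum_add_distrib, Finset.sum_sub_distrib, Finset.sum_const, Finset.card_univ, hι,
      nsmul_eq_mul, ← Finset.sum_mul, ← Finset.mul_sum, ← hndef]
    linear_combination (2 * q) * hnr
  have hle : r ≤ ∑ i, (a i - q) ^ 2 := hsum ▸ Finset.sum_le_sum fun i _ => Int.le_self_sq _
  have h1 : r * ((p : ℤ) - r) ≤ (p : ℤ) - 1 := by
    have := mul_le_mul_of_nonneg_left hle hp0.le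
    rw [hsq, hnr] at hS
    nlinarith
  by_cases h : r = 1
  · exact Or.inl ⟨q, by omega⟩
  · refine Or.inr ⟨q + 1, ?_⟩
    have : r = (p : ℤ) - 1 := by
      by_contra h'
      nlinarith [mul_pos (show 0 < r - 1 by omega) (show 0 < (p : ℤ) - 1 - r by omega)]
    linear_combination hnr + this

variable {G : Type u} [Group G] [Fintype G] {M : Ideal AlgInt} {p : ℕ} {B : Set (IrrCharacter G)}
  {P : Subgroup G} {b : Set (IrrCharacter (Subgroup.centralizer (P : Set G)))}

/-- The multiplicity of `ψ` in the restriction of `χ` to `C(P)`. -/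
noncomputable def mult [Fintype (Subgroup.centralizer (P : Set G))] (χ : IrrCharacter G)
    (ψ : IrrCharacter (Subgroup.centralizer (P : Set G))) : ℕ :=
  (classInner_natCast (isCharacter_comp (Subgroup.centralizer (P : Set G)).subtype (irr_isCharacter χ.2))
    (irr_isCharacter ψ.2)).choose

theorem mult_spec [Fintype (Subgroup.centralizer (P : Set G))] (χ : IrrCharacter G)
    (ψ : IrrCharacter (Subgroup.centralizer (P : Set G))) :
    classInner ((χ : G → ℂ) ∘ (Subgroup.centralizer (P : Set G)).subtype)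
      (ψ : Subgroup.centralizer (P : Set G) → ℂ) = mult χ ψ :=
  (classInner_natCast (isCharacter_comp (Subgroup.centralizer (P : Set G)).subtype (irr_isCharacter χ.2))
    (irr_isCharacter ψ.2)).choose_spec

open scoped Classical in
/-- The weight of `χ` at `v`. -/
noncomputable def wgt [Fintype (Subgroup.centralizer (P : Set G))]
    (b : Set (IrrCharacter (Subgroup.centralizer (P : Set G)))) (χ : IrrCharacter G)
    (v : Subgroup.centralizer (P : Set G)) : ℂ :=
  ∑ ψ : IrrCharacter (Subgroup.centralizer (P : Set G)) with ψ ∈ b,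
    (mult χ ψ : ℂ) * ((ψ : Subgroup.centralizer (P : Set G) → ℂ) v / (ψ : Subgroup.centralizer (P : Set G) → ℂ) 1)

section Local

variable [Fintype (Subgroup.centralizer (P : Set G))] (hM : IsPModular p M) (hcard : Nat.card P = p)

include hM hcard

theorem le_cent : P ≤ Subgroup.centralizer (P : Set G) := by
  haveI := Fact.mk hM.1
  haveI := isCyclic_of_prime_card hcard
  intro x hx y hy
  exact congrArg Subtype.val (IsCyclic.commutative.is_comm.comm (⟨y, hy⟩ : P) ⟨x, hx⟩)

/-- An element of `P` seen in `C(P)`. -/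
abbrev incl (v : P) : Subgroup.centralizer (P : Set G) := ⟨(v : G), le_cent hM hcard v.2⟩

theorem incl_central (v : P) (c : Subgroup.centralizer (P : Set G)) :
    incl hM hcard v * c = c * incl hM hcard v :=
  Subtype.ext (c.2 (v : G) v.2)

theorem pow_p (v : P) : v ^ p = 1 := by rw [← hcard]; exact pow_card_eq_one'

/-- The elements of `p`-power order of `C(P)` lie in `P`. -/
theorem mem_of_ppower (hSyl : ¬ p ^ 2 ∣ Nat.card G) {c : G} (hc : c ∈ Subgroup.centralizer (P : Set G))
    (hk : ∃ k : ℕ, orderOf c = p ^ k) : c ∈ P := by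
  haveI := Fact.mk hM.1
  have hpg : IsPGroup p (P ⊔ Subgroup.zpowers c : Subgroup G) := by
    refine IsPGroup.to_sup_of_normal_left' (IsPGroup.of_card (n := 1) (by rw [hcard, pow_one]))
      (isPGroup_zpowers hM.1 hk) (Subgroup.zpowers_le.mpr (centralizer_le_norm P hc))
  obtain ⟨n, hn⟩ := IsPGroup.iff_card.mp hpg
  have hn1 : n ≤ 1 := by
    by_contra h
    exact hSyl ((pow_dvd_pow p (by omega : 2 ≤ n)).trans (hn ▸ Subgroup.card_subgroup_dvd_card _))
  have hle : P ⊔ Subgroup.zpowers c = P := by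
    refine (Subgroup.eq_of_le_of_card_ge le_sup_left ?_).symm
    rw [hn, hcard]
    exact (Nat.pow_le_pow_right hM.1.pos hn1).trans (pow_one p).le
  exact hle ▸ (le_sup_right : Subgroup.zpowers c ≤ _) (Subgroup.mem_zpowers c)

open scoped Classical in
/-- Sums over `C(P)` split over `P` and the regular elements. -/
theorem sum_split (hSyl : ¬ p ^ 2 ∣ Nat.card G) (F : Subgroup.centralizer (P : Set G) → ℂ) :
    ∑ c, F c = ∑ v : P, ∑ x : Subgroup.centralizer (P : Set G) with ¬ p ∣ orderOf x, F (incl hM hcard v * x) := by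
  have hp := hM.1
  haveI := Fact.mk hp
  have hpo : ∀ v : P, ∃ k : ℕ, orderOf (incl hM hcard v) = p ^ k := fun v => by
    obtain ⟨k, -, hk⟩ := (Nat.dvd_prime_pow hp).mp
      (show orderOf v ∣ p ^ 1 by rw [pow_one]; exact orderOf_dvd_of_pow_eq_one (pow_p hM hcard v))
    exact ⟨k, by rw [← Subgroup.orderOf_coe]; exact (Subgroup.orderOf_coe v).trans hk⟩
  rw [← Finset.sum_product']
  symm
  refine Finset.sum_bij (fun vx _ => incl hM hcard vx.1 * vx.2) (fun _ _ => Finset.mem_univ _) ?_ ?_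
    fun _ _ => rfl
  · rintro ⟨v, x⟩ hx ⟨w, y⟩ hy h
    have h1 := preg_of_mul hp (incl_central hM hcard v x) (hpo v) (Finset.mem_filter.mp (Finset.mem_product.mp hx).2).2
    have h2 := preg_of_mul hp (incl_central hM hcard w y) (hpo w) (Finset.mem_filter.mp (Finset.mem_product.mp hy).2).2
    simp only at h
    rw [h] at h1
    obtain rfl : x = y := h1.symm.trans h2
    have hv := mul_right_cancel h
    exact Prod.ext (Subtype.ext (congrArg (fun c : Subgroup.centralizer (P : Set G) => (c : G)) hv :)) rfl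
  · intro c _
    obtain ⟨h1, h2, -⟩ := preg_spec hp c
    obtain ⟨y, -, -, hk, -⟩ := h1
    refine ⟨(⟨((c * (preg p c)⁻¹ : Subgroup.centralizer (P : Set G)) : G),
      mem_of_ppower hM hcard hSyl (SetLike.coe_mem _) ?_⟩, preg p c),
      Finset.mem_product.mpr ⟨Finset.mem_univ _, Finset.mem_filter.mpr ⟨Finset.mem_univ _, h2⟩⟩, ?_⟩
    · rw [Subgroup.orderOf_coe]; exact hk
    · exact Subtype.ext (inv_mul_cancel_right (c : G) _)

/-- The root of unity of `ψ` at `v`. -/
theorem root (ψ : IrrCharacter (Subgroup.centralizer (P : Set G))) (v : P) :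
    ((ψ : Subgroup.centralizer (P : Set G) → ℂ) (incl hM hcard v) /
        (ψ : Subgroup.centralizer (P : Set G) → ℂ) 1) ^ p = 1 ∧
      ∀ c, (ψ : Subgroup.centralizer (P : Set G) → ℂ) (incl hM hcard v * c) =
        (ψ : Subgroup.centralizer (P : Set G) → ℂ) (incl hM hcard v) /
          (ψ : Subgroup.centralizer (P : Set G) → ℂ) 1 * (ψ : Subgroup.centralizer (P : Set G) → ℂ) c := by
  obtain ⟨ζ, hζ, h⟩ := exists_central_root (incl_central hM hcard v) ψ
  have h1 : (ψ : Subgroup.centralizer (P : Set G) → ℂ) 1 ≠ 0 := by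
    rw [char_one_eq_deg (irr_isCharacter ψ.2)]
    exact Nat.cast_ne_zero.mpr (deg_pos ψ.2).ne'
  have h2 : (ψ : Subgroup.centralizer (P : Set G) → ℂ) (incl hM hcard v) /
      (ψ : Subgroup.centralizer (P : Set G) → ℂ) 1 = ζ := by
    have h3 := h 1
    rw [mul_one] at h3
    rw [h3, mul_div_cancel_right₀ _ h1]
  refine ⟨?_, fun c => by rw [h2, h c]⟩
  rw [h2]
  refine orderOf_dvd_iff_pow_eq_one.mp (dvd_trans (orderOf_dvd_of_pow_eq_one hζ) ?_)
  exact orderOf_dvd_of_pow_eq_one (Subtype.ext (by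
    have := congrArg (fun w : P => (w : G)) (pow_p hM hcard v)
    simpa using this))

/-- The weights are congruent modulo the prime. -/
theorem wgt_congr (χ : IrrCharacter G) (v : P) :
    MemLocalIdeal M (wgt b χ (incl hM hcard v) - wgt b χ 1) := by
  have hP := pmod_prime hM
  simp only [wgt, ← Finset.sum_sub_distrib]
  refine memLI_sum hP _ _ fun ψ _ => ?_
  rw [← mul_sub]
  refine memLI_mul_left hP (memLR_natCast hP _) ?_
  have h1 : (ψ : Subgroup.centralizer (P : Set G) → ℂ) 1 ≠ 0 := by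
    rw [char_one_eq_deg (irr_isCharacter ψ.2)]
    exact Nat.cast_ne_zero.mpr (deg_pos ψ.2).ne'
  rw [div_self h1]
  exact root_congr_one hM (k := 1) (by rw [pow_one]; exact (root hM hcard ψ v).1)

open scoped Classical in
theorem wgt_one (χ : IrrCharacter G) :
    wgt b χ 1 = ((∑ ψ : IrrCharacter (Subgroup.centralizer (P : Set G)) with ψ ∈ b, mult χ ψ : ℕ) : ℂ) := by
  simp only [wgt, Nat.cast_sum]
  refine Finset.sum_congr (by congr) fun ψ _ => ?_
  rw [div_self, mul_one]
  rw [char_one_eq_deg (irr_isCharacter ψ.2)]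
  exact Nat.cast_ne_zero.mpr (deg_pos ψ.2).ne'

end Local

section Block

variable [Fintype (Subgroup.centralizer (P : Set G))] (hM : IsPModular p M)
  (hmax : IsMaximalBrauerPair p M B P b) (hcard : Nat.card P = p) (hSyl : ¬ p ^ 2 ∣ Nat.card G)

include hM hmax hcard

theorem defect_one : blockDefect p B = 1 := Nat.pow_right_injective hM.1.two_le
  (((card_defectGroup hM hmax.1.2.1 (maximal_pair_defect hM hmax)).symm.trans hcard).trans (pow_one p).symm)

theorem comm : ∀ x ∈ P, ∀ y ∈ P, x * y = y * x := fun _ hx _ hy => le_cent hM hcard hy _ hx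

theorem self_pair : IsNormalSubpair p M P b P b := by
  obtain ⟨f, hf⟩ := BelowData.exists_below hM hmax (comm hM hmax hcard) (le_refl P)
  have h1 := eq_of_rel_card hM (a := (⟨P, f⟩ : BrauerPairIdx G)) (b := ⟨P, b⟩) (Relation.ReflTransGen.single hf)
    le_rfl
  obtain rfl : f = b := eq_of_heq (Sigma.mk.inj_iff.mp h1).2
  exact hf

theorem regular {ψ φ : IrrCharacter (Subgroup.centralizer (P : Set G))} (hψ : ψ ∈ b) (hφ : φ ∈ b)
    {x : Subgroup.centralizer (P : Set G)} (hx : ¬ p ∣ orderOf x) :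
    (ψ : Subgroup.centralizer (P : Set G) → ℂ) x = (φ : Subgroup.centralizer (P : Set G) → ℂ) x :=
  BelowData.regular hM hmax (comm hM hmax hcard) (self_pair hM hmax hcard) (fun _ _ h u hu => (h u hu).symm) hψ hφ hx

theorem card_local : Nat.card b = p := by
  have := BelowData.counts hM hmax (comm hM hmax hcard) (self_pair hM hmax hcard) (fun _ _ h u hu => (h u hu).symm)
  rwa [defect_one hM hmax hcard, pow_one] at this

theorem deg_local {ψ φ : IrrCharacter (Subgroup.centralizer (P : Set G))} (hψ : ψ ∈ b) (hφ : φ ∈ b) :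
    (ψ : Subgroup.centralizer (P : Set G) → ℂ) 1 = (φ : Subgroup.centralizer (P : Set G) → ℂ) 1 :=
  regular hM hmax hcard hψ hφ (by simp [hM.1.ne_one])

include hSyl

open scoped Classical in
/-- The roots of unity of distinct characters of the block are orthogonal. -/
theorem root_orth {ψ φ : IrrCharacter (Subgroup.centralizer (P : Set G))} (hψ : ψ ∈ b) (hφ : φ ∈ b) :
    ∑ v : P, (ψ : Subgroup.centralizer (P : Set G) → ℂ) (incl hM hcard v) /
        (ψ : Subgroup.centralizer (P : Set G) → ℂ) 1 *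
      conj ((φ : Subgroup.centralizer (P : Set G) → ℂ) (incl hM hcard v) /
        (φ : Subgroup.centralizer (P : Set G) → ℂ) 1) = if ψ = φ then (p : ℂ) else 0 := by
  have hcls : ∀ ψ' φ' : IrrCharacter (Subgroup.centralizer (P : Set G)), ψ' ∈ b → φ' ∈ b →
      classInner (ψ' : Subgroup.centralizer (P : Set G) → ℂ) (φ' : Subgroup.centralizer (P : Set G) → ℂ) =
      (∑ v : P, (ψ' : Subgroup.centralizer (P : Set G) → ℂ) (incl hM hcard v) /
          (ψ' : Subgroup.centralizer (P : Set G) → ℂ) 1 *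
        conj ((φ' : Subgroup.centralizer (P : Set G) → ℂ) (incl hM hcard v) /
          (φ' : Subgroup.centralizer (P : Set G) → ℂ) 1)) *
        ((Nat.card (Subgroup.centralizer (P : Set G)) : ℂ)⁻¹ *
          ∑ x : Subgroup.centralizer (P : Set G) with ¬ p ∣ orderOf x,
            (ψ : Subgroup.centralizer (P : Set G) → ℂ) x * conj ((ψ : Subgroup.centralizer (P : Set G) → ℂ) x)) := by
    intro ψ' φ' hψ' hφ'
    rw [classInner, sum_split hM hcard hSyl, mul_left_comm, Finset.sum_mul]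
    congr 1
    refine Finset.sum_congr rfl fun v _ => ?_
    rw [Finset.mul_sum]
    refine Finset.sum_congr rfl fun x hx => ?_
    have hx' := (Finset.mem_filter.mp hx).2
    rw [(root hM hcard ψ' v).2 x, (root hM hcard φ' v).2 x, map_mul, regular hM hmax hcard hψ' hψ hx',
      regular hM hmax hcard hφ' hψ hx']
    ring
  have h1 := hcls ψ ψ hψ hψ
  rw [irr_orth ψ.2 ψ.2, if_pos rfl] at h1
  have hself : ∑ v : P, (ψ : Subgroup.centralizer (P : Set G) → ℂ) (incl hM hcard v) /
        (ψ : Subgroup.centralizer (P : Set G) → ℂ) 1 *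
      conj ((ψ : Subgroup.centralizer (P : Set G) → ℂ) (incl hM hcard v) /
        (ψ : Subgroup.centralizer (P : Set G) → ℂ) 1) = (p : ℂ) := by
    rw [Finset.sum_congr rfl (g := fun _ => (1 : ℂ)) fun v _ => by
      rw [Complex.mul_conj', Complex.norm_eq_one_of_pow_eq_one (root hM hcard ψ v).1 hM.1.ne_zero]
      simp]
    simp [← Nat.card_eq_fintype_card, hcard]
  split_ifs with h
  · rw [← h]; exact hself
  · have h2 := hcls ψ φ hψ hφ
    rw [irr_orth ψ.2 φ.2, if_neg fun e => h (Subtype.ext e)] at h2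
    exact (mul_eq_zero.mp h2.symm).resolve_right fun e => by rw [e, mul_zero] at h1; exact one_ne_zero h1

open scoped Classical in
/-- The product of a character of `C(P)` with the one of the block on the regular elements. -/
theorem sum_regular_mul {θ : IrrCharacter (Subgroup.centralizer (P : Set G))} (hθ : θ ∈ b)
    (ψ : IrrCharacter (Subgroup.centralizer (P : Set G))) :
    ∑ x : Subgroup.centralizer (P : Set G) with ¬ p ∣ orderOf x,
      (ψ : Subgroup.centralizer (P : Set G) → ℂ) x * conj ((θ : Subgroup.centralizer (P : Set G) → ℂ) x) =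
      if ψ ∈ b then (Nat.card (Subgroup.centralizer (P : Set G)) : ℂ) / p else 0 := by
  have hP := pmod_prime hM
  have hC : (Nat.card (Subgroup.centralizer (P : Set G)) : ℂ) ≠ 0 := Nat.cast_ne_zero.mpr Nat.card_pos.ne'
  split_ifs with h
  · have h1 : classInner (θ : Subgroup.centralizer (P : Set G) → ℂ) (θ : Subgroup.centralizer (P : Set G) → ℂ) = 1 := by
      rw [irr_orth θ.2 θ.2, if_pos rfl]
    have hsplit : ∀ v : P, ∑ x : Subgroup.centralizer (P : Set G) with ¬ p ∣ orderOf x,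
        (θ : Subgroup.centralizer (P : Set G) → ℂ) (incl hM hcard v * x) *
          conj ((θ : Subgroup.centralizer (P : Set G) → ℂ) (incl hM hcard v * x)) =
        ∑ x : Subgroup.centralizer (P : Set G) with ¬ p ∣ orderOf x,
          (θ : Subgroup.centralizer (P : Set G) → ℂ) x * conj ((θ : Subgroup.centralizer (P : Set G) → ℂ) x) := by
      intro v
      refine Finset.sum_congr rfl fun x _ => ?_
      have hu : (θ : Subgroup.centralizer (P : Set G) → ℂ) (incl hM hcard v) /
          (θ : Subgroup.centralizer (P : Set G) → ℂ) 1 *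
          conj ((θ : Subgroup.centralizer (P : Set G) → ℂ) (incl hM hcard v) /
            (θ : Subgroup.centralizer (P : Set G) → ℂ) 1) = 1 := by
        rw [Complex.mul_conj', Complex.norm_eq_one_of_pow_eq_one (root hM hcard θ v).1 hM.1.ne_zero]
        simp
      rw [(root hM hcard θ v).2 x, map_mul]
      linear_combination ((θ : Subgroup.centralizer (P : Set G) → ℂ) x *
        conj ((θ : Subgroup.centralizer (P : Set G) → ℂ) x)) * hu
    rw [classInner, sum_split hM hcard hSyl, Finset.sum_congr rfl fun v _ => hsplit v, Finset.sum_const,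
      Finset.card_univ, ← Nat.card_eq_fintype_card, hcard, nsmul_eq_mul, inv_mul_eq_iff_eq_mul₀ hC, mul_one] at h1
    rw [Finset.sum_congr rfl fun x hx => by rw [regular hM hmax hcard h hθ (Finset.mem_filter.mp hx).2],
      eq_div_iff (Nat.cast_ne_zero.mpr hM.1.ne_zero), mul_comm]
    exact h1
  · have h0 : einner p (ψ : Subgroup.centralizer (P : Set G) → ℂ) (θ : Subgroup.centralizer (P : Set G) → ℂ) = 0 := by
      refine einner_eq_zero_of_not_sameBlock hM ψ θ fun hs => h ?_
      rw [block_eq_blockOf hP hmax.1.1.2 hθ, ← blockOf_eq_of_sameBlock hP hs]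
      exact self_mem_blockOf hP ψ
    rw [einner, classInner, mul_eq_zero, or_iff_right (inv_ne_zero hC)] at h0
    rw [← h0, Finset.sum_filter]
    refine Finset.sum_congr rfl fun x _ => ?_
    rw [Pi.mul_apply, regInd]
    split_ifs <;> simp

open scoped Classical in
theorem wgt_eq {θ : IrrCharacter (Subgroup.centralizer (P : Set G))} (hθ : θ ∈ b) (χ : IrrCharacter G)
    (v : P) :
    ∑ x : Subgroup.centralizer (P : Set G) with ¬ p ∣ orderOf x,
      (χ : G → ℂ) ((v : G) * x) * conj ((θ : Subgroup.centralizer (P : Set G) → ℂ) x) =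
      (Nat.card (Subgroup.centralizer (P : Set G)) : ℂ) / p * wgt b χ (incl hM hcard v) := by
  classical
  have hcls : IsClassFunction (Subgroup.centralizer (P : Set G))
      ((χ : G → ℂ) ∘ (Subgroup.centralizer (P : Set G)).subtype) :=
    isClassFunction_character (isCharacter_comp _ (irr_isCharacter χ.2))
  have hexp : ∀ c : Subgroup.centralizer (P : Set G), (χ : G → ℂ) (c : G) =
      ∑ ψ : IrrCharacter (Subgroup.centralizer (P : Set G)),
        (mult χ ψ : ℂ) * (ψ : Subgroup.centralizer (P : Set G) → ℂ) c := fun c => by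
    have := congrFun (classFun_expansion hcls) c
    simp only [Finset.sum_apply, Pi.smul_apply, smul_eq_mul, mult_spec] at this
    exact this
  rw [Finset.sum_congr rfl fun x _ => by
    rw [show (v : G) * (x : G) = ((incl hM hcard v * x : Subgroup.centralizer (P : Set G)) : G) from rfl, hexp,
      Finset.sum_mul], Finset.sum_comm]
  rw [wgt, Finset.mul_sum, Finset.sum_filter]
  refine Finset.sum_congr rfl fun ψ _ => ?_
  rw [Finset.sum_congr rfl fun x _ => by rw [(root hM hcard ψ v).2 x, ← mul_assoc, mul_assoc (_ * _)],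
    ← Finset.mul_sum]
  rw [sum_regular_mul hM hmax hcard hSyl hθ ψ]
  split_ifs <;> ring

open scoped Classical in
/-- The squares of the weights over `P`. -/
theorem wgt_sq (χ : IrrCharacter G) :
    ∑ v : P, wgt b χ (incl hM hcard v) * conj (wgt b χ (incl hM hcard v)) =
      ((p * ∑ ψ : IrrCharacter (Subgroup.centralizer (P : Set G)) with ψ ∈ b, mult χ ψ ^ 2 : ℕ) : ℂ) := by
  simp only [wgt, map_sum, map_mul, map_natCast, Finset.sum_mul_sum, Nat.cast_mul, Nat.cast_sum, Nat.cast_pow]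
  rw [Finset.sum_comm, Finset.mul_sum]
  refine Finset.sum_congr rfl fun ψ hψ => ?_
  rw [Finset.sum_comm, Finset.sum_eq_single ψ]
  · rw [Finset.sum_congr rfl fun v _ => mul_mul_mul_comm _ _ _ _, ← Finset.mul_sum,
      root_orth hM hmax hcard hSyl (Finset.mem_filter.mp hψ).2 (Finset.mem_filter.mp hψ).2, if_pos rfl]
    ring
  · intro φ hφ hne
    rw [Finset.sum_congr rfl fun v _ => mul_mul_mul_comm _ _ _ _, ← Finset.mul_sum,
      root_orth hM hmax hcard hSyl (Finset.mem_filter.mp hψ).2 (Finset.mem_filter.mp hφ).2, if_neg hne.symm, mul_zero]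
  · exact fun h => absurd hψ h

end Block

open scoped Classical in
/-- The column relation as a number of conjugating elements. -/
theorem sum_char_conj (g h : G) : ∑ χ : IrrCharacter G, (χ : G → ℂ) g * conj ((χ : G → ℂ) h) =
    ((Finset.univ.filter fun k : G => k * g * k⁻¹ = h).card : ℂ) := by
  rw [second_orth g h]
  split_ifs with hgh
  · rw [← DegBelow.card_centralizer_mul h, Nat.cast_mul,
      mul_div_cancel_left₀ _ (Nat.cast_ne_zero.mpr (card_conjClass_ne_zero h))]
    obtain ⟨k0, hk0⟩ := isConj_iff.mp hgh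
    rw [Nat.card_eq_fintype_card, Nat.cast_inj, Fintype.card, eq_comm]
    refine Finset.card_bij (fun k hk => ⟨k * k0⁻¹, ?_⟩) (fun _ _ => Finset.mem_univ _)
      (fun a _ b _ hab => mul_right_cancel (congrArg Subtype.val hab)) fun c _ => ⟨(c : G) * k0, ?_, ?_⟩
    · rw [Subgroup.mem_centralizer_singleton_iff]
      have h1 := (Finset.mem_filter.mp hk).2
      calc k * k0⁻¹ * h = k * k0⁻¹ * (k0 * g * k0⁻¹) := by rw [hk0]
        _ = (k * g * k⁻¹) * (k * k0⁻¹) := by group
        _ = h * (k * k0⁻¹) := by rw [h1]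
    · refine Finset.mem_filter.mpr ⟨Finset.mem_univ _, ?_⟩
      have h1 := Subgroup.mem_centralizer_singleton_iff.mp c.2
      calc (c : G) * k0 * g * ((c : G) * k0)⁻¹ = (c : G) * (k0 * g * k0⁻¹) * (c : G)⁻¹ := by group
        _ = (c : G) * h * (c : G)⁻¹ := by rw [hk0]
        _ = h := by rw [h1]; group
    · exact Subtype.ext (mul_inv_cancel_right _ _)
  · rw [eq_comm, Nat.cast_eq_zero, Finset.card_eq_zero, Finset.filter_eq_empty_iff]
    exact fun k _ hk => hgh (isConj_iff.mpr ⟨k, hk⟩)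

/-- The elements of `N(P)` moving `θ` to itself form the stabilizer of the block. -/
theorem stab_iff [Fintype (Subgroup.centralizer (P : Set G))] (hM : IsPModular p M)
    (hmax : IsMaximalBrauerPair p M B P b) (hcard : Nat.card P = p) (hSyl : ¬ p ^ 2 ∣ Nat.card G)
    {θ : IrrCharacter (Subgroup.centralizer (P : Set G))} (hθ : θ ∈ b)
    (hθP : ∀ x : Subgroup.centralizer (P : Set G), (x : G) ∈ P →
      (θ : Subgroup.centralizer (P : Set G) → ℂ) x = (θ : Subgroup.centralizer (P : Set G) → ℂ) 1)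
    {g : G} (hg : g ∈ Subgroup.normalizer (P : Set G)) :
    g ∈ pairStab (pmod_prime hM) hmax.1.1.2 ↔
      irrTransport (conjC P ⟨g⁻¹, inv_mem hg⟩) θ = θ := by
  classical
  have hP := pmod_prime hM
  have h1 : (θ : Subgroup.centralizer (P : Set G) → ℂ) 1 ≠ 0 := by
    rw [char_one_eq_deg (irr_isCharacter θ.2)]
    exact Nat.cast_ne_zero.mpr (deg_pos θ.2).ne'
  set α := conjC P ⟨g⁻¹, inv_mem hg⟩ with hα
  have hαc : ∀ k k' : Subgroup.centralizer (P : Set G), (k' : G) = g * k * g⁻¹ → α k' = k := fun k k' hk =>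
    Subtype.ext (by rw [hα, conjC_apply, hk]; group)
  have hN : g ∈ Subgroup.normalizer (Subgroup.centralizer (P : Set G) : Set G) :=
    Subgroup.mem_normalizer_iff.mpr fun x => ⟨fun hx => conj_mem_centralizer hg hx, fun hx => by
      simpa [mul_assoc] using conj_mem_centralizer (inv_mem hg) hx⟩
  rw [mem_pairStab]
  constructor
  · rintro ⟨-, -, hst⟩
    obtain ⟨χ', hχ', hc⟩ := hst θ hθ
    have e : irrTransport α θ = χ' := Subtype.ext (funext fun k' => by
      rw [irrTransport_apply]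
      have hk : (k' : G) = g * (α k' : G) * g⁻¹ := by rw [hα, conjC_apply]; group
      exact (hc (α k') k' hk).symm)
    by_contra hne
    have hχ1 : ∀ v : P, (χ' : Subgroup.centralizer (P : Set G) → ℂ) (incl hM hcard v) /
        (χ' : Subgroup.centralizer (P : Set G) → ℂ) 1 = 1 := fun v => by
      rw [← e, irrTransport_apply, irrTransport_apply, map_one, hθP _ ?_, div_self h1]
      rw [hα, conjC_apply]
      exact (Subgroup.mem_normalizer_iff.mp (inv_mem hg) _).mp v.2
    have h := root_orth hM hmax hcard hSyl hχ' hθ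
    rw [if_neg (fun e' => hne (e.trans e')), Finset.sum_congr rfl (g := fun _ => (1 : ℂ)) fun v _ => by
      rw [hχ1 v, hθP _ v.2, div_self h1, map_one, one_mul]] at h
    simp only [Finset.sum_const, Finset.card_univ, nsmul_eq_mul, mul_one, Nat.cast_eq_zero] at h
    exact Fintype.card_ne_zero h
  · intro h
    refine ⟨hg, hN, fun χ hχ => ⟨irrTransport α χ, ?_, fun k k' hk => ?_⟩⟩
    · have h2 : irrTransport α '' b = b := by
        have hb' := isPBlock_transport α hmax.1.1.2
        rw [block_eq_blockOf hP hb' (χ := θ) ⟨θ, hθ, h⟩, ← block_eq_blockOf hP hmax.1.1.2 hθ]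
      exact h2 ▸ ⟨χ, hχ, rfl⟩
    · rw [irrTransport_apply, hαc k k' hk]

section Global

variable [Fintype (Subgroup.centralizer (P : Set G))] (hM : IsPModular p M)
  (hmax : IsMaximalBrauerPair p M B P b) (hcard : Nat.card P = p) (hSyl : ¬ p ^ 2 ∣ Nat.card G)
  {θ : IrrCharacter (Subgroup.centralizer (P : Set G))} (hθ : θ ∈ b)
  (hθP : ∀ x : Subgroup.centralizer (P : Set G), (x : G) ∈ P →
    (θ : Subgroup.centralizer (P : Set G) → ℂ) x = (θ : Subgroup.centralizer (P : Set G) → ℂ) 1)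

include hM hmax hcard hSyl hθ

theorem pc_eq_wgt (χ : IrrCharacter G) (v : P) :
    Star.pc (χ : G → ℂ) (v : G) ⟨P, b⟩ =
      (θ : Subgroup.centralizer (P : Set G) → ℂ) 1 * wgt b χ (incl hM hcard v) := by
  classical
  set f : Subgroup.centralizer (P : Set G) → ℂ := fun c => (χ : G → ℂ) ((v : G) * c) with hf
  have hexp : f = ∑ ψ : IrrCharacter (Subgroup.centralizer (P : Set G)),
      ((mult χ ψ : ℂ) * ((ψ : Subgroup.centralizer (P : Set G) → ℂ) (incl hM hcard v) /
        (ψ : Subgroup.centralizer (P : Set G) → ℂ) 1)) • (ψ : Subgroup.centralizer (P : Set G) → ℂ) := by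
    funext c
    have hcls : IsClassFunction (Subgroup.centralizer (P : Set G))
        ((χ : G → ℂ) ∘ (Subgroup.centralizer (P : Set G)).subtype) :=
      isClassFunction_character (isCharacter_comp _ (irr_isCharacter χ.2))
    have h1 := congrFun (classFun_expansion hcls) (incl hM hcard v * c)
    simp only [Finset.sum_apply, Pi.smul_apply, smul_eq_mul, mult_spec] at h1 ⊢
    refine h1.trans (Finset.sum_congr rfl fun ψ _ => ?_)
    rw [(root hM hcard ψ v).2 c]
    ring
  have hcl : IsClassFunction (Subgroup.centralizer (P : Set G)) f := by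
    intro a k
    show (χ : G → ℂ) ((v : G) * ((k : G) * a * (k : G)⁻¹)) = (χ : G → ℂ) ((v : G) * (a : G))
    rw [show (v : G) * ((k : G) * a * (k : G)⁻¹) = (k : G) * ((v : G) * a) * (k : G)⁻¹ by
      rw [← mul_assoc, ← mul_assoc, k.2 (v : G) v.2]; group, isClassFunction_character (irr_isCharacter χ.2)]
  rw [Star.pc, subgroupBlockCoeff_eq, sum_extendByZero_mul, wgt, Finset.mul_sum]
  refine Eq.trans (Finset.sum_congr rfl fun k _ => ?_) ((sum_blockCoeff_shift b hcl 1).trans ?_)
  · show _ = blockCoeff b k * f (k * 1)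
    rw [mul_one, hf]
    exact congrArg _ (congrArg _ (k.2 (v : G) v.2).symm)
  rw [blockPart_eq]
  refine Finset.sum_congr rfl fun ψ hψ => ?_
  rw [hexp, classInner_sum_left, Finset.sum_eq_single ψ, classInner_smul_left, irr_orth ψ.2 ψ.2, if_pos rfl, mul_one,
    deg_local hM hmax hcard (Finset.mem_filter.mp hψ).2 hθ]
  · ring
  · intro φ _ hne
    rw [classInner_smul_left, irr_orth φ.2 ψ.2, if_neg fun e => hne (Subtype.ext e), mul_zero]
  · simp

include hθP

open scoped Classical in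
/-- The degree of a character of the block modulo `p`. -/
theorem deg_congr {χ : IrrCharacter G} (hχ : χ ∈ B) :
    (deg (χ : G → ℂ) : ℤ) ≡ (((pairStab (pmod_prime hM) hmax.1.1.2).relIndex (Subgroup.normalizer (P : Set G)) *
      deg (θ : Subgroup.centralizer (P : Set G) → ℂ) *
      ∑ ψ : IrrCharacter (Subgroup.centralizer (P : Set G)) with ψ ∈ b, mult χ ψ : ℕ) : ℤ) [ZMOD p] := by
  have hP := pmod_prime hM
  haveI := Fact.mk hM.1
  haveI : Nontrivial P := Finite.one_lt_card_iff_nontrivial.mp (hcard.symm ▸ hM.1.one_lt)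
  obtain ⟨v0, hv0⟩ := exists_ne (1 : P)
  have hv0' : (v0 : G) ≠ 1 := fun h => hv0 (Subtype.ext h)
  have hord : orderOf (v0 : G) = p := by
    rw [Subgroup.orderOf_coe]
    exact orderOf_eq_prime (pow_p hM hcard v0) hv0
  have hgen : Subgroup.zpowers (v0 : G) = P :=
    Subgroup.eq_of_le_of_card_ge (Subgroup.zpowers_le.mpr v0.2) (by rw [Nat.card_zpowers, hord, hcard])
  have hv : ∃ k : ℕ, orderOf (v0 : G) = p ^ k := ⟨1, by rw [hord, pow_one]⟩
  set N := Subgroup.normalizer (P : Set G) with hN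
  set T := pairStab hP hmax.1.1.2 with hT
  set S := (Finset.univ.filter fun w : G => w ∈ N).image fun w => conjIdx w (⟨P, b⟩ : BrauerPairIdx G) with hS
  have hSprs : Star.prs p M B (v0 : G) = S := by
    ext a
    rw [Star.mem_prs, hS, Finset.mem_image, hgen]
    constructor
    · rintro ⟨ha, hpair⟩
      obtain ⟨x, hx⟩ := pairs_conj_into_maximal hM hmax hpair
      have h1 := eq_of_rel_card hM (a := (conjIdx x a : BrauerPairIdx G)) (b := ⟨P, b⟩) hx
        (by rw [card_conjIdx, ha])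
      have hxN : x ∈ N := Subgroup.mem_normalizer_iff_map_conj_eq.mpr (by
        have h2 : (conjIdx x a).1 = P := congrArg (fun c : BrauerPairIdx G => c.1) h1
        rw [← ha] at h2 ⊢
        exact h2)
      refine ⟨x⁻¹, Finset.mem_filter.mpr ⟨Finset.mem_univ _, inv_mem hxN⟩, ?_⟩
      rw [← h1, conjIdx_mul hP _ _ _ hpair.1.2, inv_mul_cancel, conjIdx_one hP _ hpair.1.2]
    · rintro ⟨w, hw, rfl⟩
      exact ⟨Subgroup.mem_normalizer_iff_map_conj_eq.mp (Finset.mem_filter.mp hw).2,
        brauerPairOf_conj w hmax.1⟩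
  have hScard : S.card = T.relIndex N := by
    rw [Subgroup.relIndex, Subgroup.index]
    have hmem : ∀ w : N, conjIdx (w : G) (⟨P, b⟩ : BrauerPairIdx G) ∈ S := fun w =>
      Finset.mem_image.mpr ⟨w, Finset.mem_filter.mpr ⟨Finset.mem_univ _, w.2⟩, rfl⟩
    let F : N ⧸ T.subgroupOf N → S := Quotient.lift (fun w => ⟨_, hmem w⟩) fun w w' hww => by
      have h1 : ((w : G)⁻¹ * (w' : G)) ∈ T := (QuotientGroup.leftRel_apply.mp hww : w⁻¹ * w' ∈ T.subgroupOf N)
      refine Subtype.ext ?_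
      show conjIdx (w : G) _ = conjIdx (w' : G) _
      rw [show conjIdx (w' : G) (⟨P, b⟩ : BrauerPairIdx G) =
        conjIdx (w : G) (conjIdx ((w : G)⁻¹ * (w' : G)) ⟨P, b⟩) by
          rw [conjIdx_mul hP _ _ _ hmax.1.1.2, mul_inv_cancel_left],
        show conjIdx ((w : G)⁻¹ * (w' : G)) (⟨P, b⟩ : BrauerPairIdx G) = ⟨P, b⟩ from h1]
    rw [← Nat.card_eq_finsetCard, eq_comm]
    refine Nat.card_eq_of_bijective F ⟨?_, ?_⟩
    · rintro ⟨w⟩ ⟨w'⟩ h
      refine Quotient.sound (QuotientGroup.leftRel_apply.mpr ?_)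
      have h1 : conjIdx (w : G) (⟨P, b⟩ : BrauerPairIdx G) = conjIdx (w' : G) ⟨P, b⟩ := congrArg Subtype.val h
      show conjIdx ((w : G)⁻¹ * (w' : G)) _ = _
      rw [← conjIdx_mul hP _ _ _ hmax.1.1.2, ← h1, conjIdx_mul hP _ _ _ hmax.1.1.2, inv_mul_cancel,
        conjIdx_one hP _ hmax.1.1.2]
    · rintro ⟨a, ha⟩
      obtain ⟨w, hw, rfl⟩ := Finset.mem_image.mp ha
      exact ⟨QuotientGroup.mk ⟨w, (Finset.mem_filter.mp hw).2⟩, rfl⟩
  have hterm : ∀ a ∈ S, MemLocalIdeal M (Star.pc (χ : G → ℂ) (v0 : G) a -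
      (θ : Subgroup.centralizer (P : Set G) → ℂ) 1 * wgt b χ 1) := by
    intro a ha
    obtain ⟨w, hw, rfl⟩ := Finset.mem_image.mp ha
    have hv' : w⁻¹ * (v0 : G) * w ∈ P := by
      simpa using (Subgroup.mem_normalizer_iff.mp (inv_mem (Finset.mem_filter.mp hw).2) _).mp v0.2
    have h2 := Star.pc_conj (isClassFunction_character (irr_isCharacter χ.2)) w (w⁻¹ * (v0 : G) * w)
      (⟨P, b⟩ : BrauerPairIdx G)
    rw [show w * (w⁻¹ * (v0 : G) * w) * w⁻¹ = (v0 : G) by group] at h2
    rw [h2, pc_eq_wgt hM hmax hcard hSyl hθ χ ⟨_, hv'⟩, ← mul_sub]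
    exact memLI_mul_left hP (char_one_eq_deg (irr_isCharacter θ.2) ▸ memLR_natCast hP _) (wgt_congr hM hcard χ _)
  have hval : (χ : G → ℂ) (v0 : G) = ∑ a ∈ S, Star.pc (χ : G → ℂ) (v0 : G) a := by
    have h := Star.sum_pc hM (isClassFunction_character (irr_isCharacter χ.2)) (u := (v0 : G)) (s := 1)
      (Commute.one_right _)
    simp only [mul_one] at h
    rw [← h, ← hSprs]
    refine (Finset.sum_subset (Star.prs_subset_blk _) fun a ha hna => ?_).symm
    have := Star.pc_of_not_pair hM hmax.1.2.1 hχ hv ha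
      (fun hp => hna (Star.mem_prs.mpr ⟨(Star.mem_blk.mp ha).1, hp⟩)) (s := 1)
      (Star.mem_regC.mpr ⟨Commute.one_right _, by simp [hM.1.ne_one]⟩)
    rwa [mul_one] at this
  rw [Int.modEq_iff_dvd, ← memLI_intCast_iff hM]
  have h3 := memLI_sum hP _ _ hterm
  rw [Finset.sum_sub_distrib, ← hval, Finset.sum_const, hScard, nsmul_eq_mul, wgt_one hM hcard,
    char_one_eq_deg (irr_isCharacter θ.2)] at h3
  have h4 := char_congr_deg hM (irr_isCharacter χ.2) hv
  rw [char_one_eq_deg (irr_isCharacter χ.2)] at h4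
  have h5 := memLI_trans hP (memLI_symm hP h4) h3
  have h6 := memLI_symm hP h5
  push_cast at h6 ⊢
  rw [← mul_assoc] at h6
  exact h6

open scoped Classical in
/-- The weights are orthogonal outside one orbit. -/
theorem wgt_orth (v v' : P) (hv1 : v ≠ 1) :
    ∑ χ : IrrCharacter G, wgt b χ (incl hM hcard v) * conj (wgt b χ (incl hM hcard v')) =
      (p : ℂ) / Nat.card (Subgroup.centralizer (P : Set G)) *
        ((Finset.univ.filter fun g : G => g ∈ pairStab (pmod_prime hM) hmax.1.1.2 ∧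
          g * (v : G) * g⁻¹ = v').card : ℂ) := by
  have hp := hM.1
  haveI := Fact.mk hp
  have hC : (Nat.card (Subgroup.centralizer (P : Set G)) : ℂ) ≠ 0 := Nat.cast_ne_zero.mpr Nat.card_pos.ne'
  have hp0 : (p : ℂ) ≠ 0 := Nat.cast_ne_zero.mpr hp.ne_zero
  set k : ℂ := (Nat.card (Subgroup.centralizer (P : Set G)) : ℂ) / p with hk
  have hk0 : k ≠ 0 := div_ne_zero hC hp0
  set R := Finset.univ.filter fun x : Subgroup.centralizer (P : Set G) => ¬ p ∣ orderOf x with hR
  have hw : ∀ χ (u : P), wgt b χ (incl hM hcard u) =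
      k⁻¹ * ∑ x ∈ R, (χ : G → ℂ) ((u : G) * x) * conj ((θ : Subgroup.centralizer (P : Set G) → ℂ) x) := by
    intro χ u
    rw [wgt_eq hM hmax hcard hSyl hθ χ u, ← hk, inv_mul_cancel_left₀ hk0]
  have hpo : ∀ u : P, ∃ j : ℕ, orderOf (u : G) = p ^ j := fun u => by
    obtain ⟨j, -, hj⟩ := (Nat.dvd_prime_pow hp).mp
      (show orderOf u ∣ p ^ 1 by rw [pow_one]; exact orderOf_dvd_of_pow_eq_one (pow_p hM hcard u))
    exact ⟨j, (Subgroup.orderOf_coe u).trans hj⟩
  -- the conjugating elements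
  have hcount : ∀ x ∈ R, ∀ y ∈ R, ∀ g : G, g * ((v : G) * x) * g⁻¹ = (v' : G) * y ↔
      g * (v : G) * g⁻¹ = v' ∧ g * (x : G) * g⁻¹ = y := by
    intro x hx y hy g
    refine ⟨fun h => ?_, fun ⟨h1, h2⟩ => by rw [← h1, ← h2]; group⟩
    have hxr : ¬ p ∣ orderOf (x : G) := by rw [Subgroup.orderOf_coe]; exact (Finset.mem_filter.mp hx).2
    have hyr : ¬ p ∣ orderOf (y : G) := by rw [Subgroup.orderOf_coe]; exact (Finset.mem_filter.mp hy).2
    have e1 : preg p ((v : G) * x) = (x : G) := preg_of_mul hp (x.2 _ v.2) (hpo v) hxr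
    have e2 : preg p ((v' : G) * y) = (y : G) := preg_of_mul hp (y.2 _ v'.2) (hpo v') hyr
    have e3 : g * (x : G) * g⁻¹ = y := by rw [← e1, ← preg_conj hp, h, e2]
    exact ⟨mul_right_cancel (b := (y : G)) (by rw [← h, ← e3]; group), e3⟩
  simp only [hw, map_mul, map_sum, map_inv₀, Complex.conj_conj, Finset.mul_sum, Finset.sum_mul]
  rw [Finset.sum_comm, Finset.sum_congr rfl fun x _ => Finset.sum_comm]
  have hin : ∀ x ∈ R, ∀ y ∈ R, ∑ χ : IrrCharacter G,
      k⁻¹ * ((χ : G → ℂ) ((v : G) * x) * conj ((θ : Subgroup.centralizer (P : Set G) → ℂ) x)) *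
        ((conj k)⁻¹ * (conj ((χ : G → ℂ) ((v' : G) * y)) * (θ : Subgroup.centralizer (P : Set G) → ℂ) y)) =
      k⁻¹ * (conj k)⁻¹ * ∑ g : G, if g * (v : G) * g⁻¹ = v' ∧ g * (x : G) * g⁻¹ = y then
        conj ((θ : Subgroup.centralizer (P : Set G) → ℂ) x) * (θ : Subgroup.centralizer (P : Set G) → ℂ) y else 0 := by
    intro x hx y hy
    rw [← Finset.sum_filter, Finset.sum_const, nsmul_eq_mul,
      show (Finset.univ.filter fun g : G => g * (v : G) * g⁻¹ = v' ∧ g * (x : G) * g⁻¹ = y) =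
        Finset.univ.filter fun g : G => g * ((v : G) * x) * g⁻¹ = (v' : G) * y from
          Finset.filter_congr fun g _ => (hcount x hx y hy g).symm, ← sum_char_conj, Finset.sum_mul, Finset.mul_sum]
    exact Finset.sum_congr rfl fun χ _ => by ring
  rw [Finset.sum_comm, Finset.sum_congr rfl fun x hx => Finset.sum_congr rfl (hin x hx)]
  simp only [← Finset.mul_sum]
  rw [Finset.sum_congr rfl fun x _ => Finset.sum_comm, Finset.sum_comm]
  have hg : ∀ g : G, (∑ x ∈ R, ∑ y ∈ R, if g * (v : G) * g⁻¹ = v' ∧ g * (x : G) * g⁻¹ = y then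
      conj ((θ : Subgroup.centralizer (P : Set G) → ℂ) x) * (θ : Subgroup.centralizer (P : Set G) → ℂ) y else 0) =
      if g * (v : G) * g⁻¹ = v' then (if g ∈ Subgroup.normalizer (P : Set G) then
        (if g ∈ pairStab (pmod_prime hM) hmax.1.1.2 then k else 0) else
        (∑ x ∈ R, ∑ y ∈ R, if g * (x : G) * g⁻¹ = y then
          conj ((θ : Subgroup.centralizer (P : Set G) → ℂ) x) * (θ : Subgroup.centralizer (P : Set G) → ℂ) y else 0))
        else 0 := by
    intro g
    by_cases hgv : g * (v : G) * g⁻¹ = v'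
    · simp only [hgv, true_and, if_true]
      split_ifs with hgN hgT
      all_goals try rfl
      all_goals
        set α := conjC P ⟨g, hgN⟩ with hα
        rw [Finset.sum_congr rfl fun x hx => Finset.sum_eq_single (α x)
          (fun y _ hne => if_neg fun e => hne (Subtype.ext (by rw [hα, conjC_apply]; exact e.symm)))
          (fun h => absurd (Finset.mem_filter.mpr ⟨Finset.mem_univ _,
            (MulEquiv.orderOf_eq α x).symm ▸ (Finset.mem_filter.mp hx).2⟩) h)]
        rw [Finset.sum_congr rfl fun x _ => by rw [if_pos (by rw [hα, conjC_apply]), mul_comm,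
          ← irrTransport_apply α θ x], hR, sum_regular_mul hM hmax hcard hSyl hθ]
      · rw [if_pos]
        have h := (stab_iff hM hmax hcard hSyl hθ hθP (inv_mem hgN)).mp (inv_mem hgT)
        simp only [inv_inv] at h
        rw [h]; exact hθ
      · rw [if_neg]
        intro hb
        refine hgT (inv_mem_iff.mp ((stab_iff hM hmax hcard hSyl hθ hθP (inv_mem hgN)).mpr ?_))
        simp only [inv_inv]
        by_contra hne
        have h := root_orth hM hmax hcard hSyl hb hθ
        have h1 : (θ : Subgroup.centralizer (P : Set G) → ℂ) 1 ≠ 0 := by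
          rw [char_one_eq_deg (irr_isCharacter θ.2)]
          exact Nat.cast_ne_zero.mpr (deg_pos θ.2).ne'
        rw [if_neg hne, Finset.sum_congr rfl (g := fun _ => (1 : ℂ)) fun u _ => by
          rw [irrTransport_apply, irrTransport_apply, map_one, hθP _ (by
            rw [conjC_apply]; exact (Subgroup.mem_normalizer_iff.mp hgN _).mp u.2), hθP (incl hM hcard u) u.2, div_self h1, map_one,
            one_mul]] at h
        simp only [Finset.sum_const, Finset.card_univ, nsmul_eq_mul, mul_one, Nat.cast_eq_zero] at h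
        exact Fintype.card_ne_zero h
    · simp [hgv]
  rw [Finset.sum_congr rfl fun g _ => hg g]
  have hck : conj k = k := by rw [hk, map_div₀, map_natCast, map_natCast]
  rw [Finset.sum_congr rfl (g := fun g => if g ∈ pairStab (pmod_prime hM) hmax.1.1.2 ∧ g * (v : G) * g⁻¹ = v' then k
    else 0) fun g _ => ?_, ← Finset.sum_filter, Finset.sum_const, nsmul_eq_mul, hck]
  · rw [hk, inv_div]
    field_simp
  · by_cases hgv : g * (v : G) * g⁻¹ = v'
    · have hgen : ∀ w : P, w ≠ 1 → Subgroup.zpowers (w : G) = P := fun w hw => by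
        refine Subgroup.eq_of_le_of_card_ge (Subgroup.zpowers_le.mpr w.2) ?_
        rw [Nat.card_zpowers, Subgroup.orderOf_coe, orderOf_eq_prime (pow_p hM hcard w) hw, hcard]
      have hv'1 : v' ≠ 1 := fun h => hv1 (Subtype.ext (by
        rw [h] at hgv; exact conj_eq_one_iff.mp hgv))
      have hgN : g ∈ Subgroup.normalizer (P : Set G) := by
        refine Subgroup.mem_normalizer_iff_map_conj_eq.mpr ?_
        refine ((congrArg (Subgroup.map _) (hgen v hv1).symm).trans (MonoidHom.map_zpowers _ _)).trans ?_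
        exact (congrArg Subgroup.zpowers hgv).trans (hgen v' hv'1)
      simp [hgv, hgN]
    · simp [hgv]

open scoped Classical in
set_option maxHeartbeats 1000000 in
/-- The structure of the block with the degrees modulo `p`. -/
theorem exists_degrees {e d : ℕ}
    (he : (Subgroup.centralizer (P : Set G)).relIndex (pairStab (pmod_prime hM) hmax.1.1.2) = e)
    (hd : (pairStab (pmod_prime hM) hmax.1.1.2).relIndex (Subgroup.normalizer (P : Set G)) *
      deg (θ : Subgroup.centralizer (P : Set G) → ℂ) = d) :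
    ∃ (N : ℕ) (y : Fin N → IrrCharacter G) (δ : IrrCharacter G → ℤ) (δ₀ η : ℤ),
      1 ≤ N ∧ e * N = p - 1 ∧ Function.Injective y ∧ (∀ i, y i ∈ B) ∧
      (Finset.univ.filter fun χ => χ ∈ B ∧ χ ∉ Set.range y).card = e ∧
      (∀ χ, δ χ = 1 ∨ δ χ = -1) ∧ (δ₀ = 1 ∨ δ₀ = -1) ∧ (η = 1 ∨ η = -1) ∧
      (∀ i, ∀ g : G, ¬ p ∣ orderOf g → (δ₀ : ℂ) * (y i : G → ℂ) g +
        ∑ χ : IrrCharacter G with χ ∈ B ∧ χ ∉ Set.range y, (δ χ : ℂ) * (χ : G → ℂ) g = 0) ∧
      (∀ χ, χ ∈ B → χ ∉ Set.range y → δ χ * (deg (χ : G → ℂ) : ℤ) ≡ η * (d : ℤ) [ZMOD p]) ∧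
      (∀ i, δ₀ * (deg (y i : G → ℂ) : ℤ) ≡ -(η * ((e * d : ℕ) : ℤ)) [ZMOD p]) ∧
      ∀ χ, χ ∈ B → χ ∉ Set.range y → ∀ χ', χ' ∈ B → χ' ∉ Set.range y → ∀ g : G, p ∣ orderOf g →
        (δ χ : ℂ) * (χ : G → ℂ) g = (δ χ' : ℂ) * (χ' : G → ℂ) g := by
  have hp := hM.1
  haveI := Fact.mk hp
  have hP := pmod_prime hM
  haveI : Nontrivial P := Finite.one_lt_card_iff_nontrivial.mp (hcard.symm ▸ hp.one_lt)
  obtain ⟨s, hs1⟩ := exists_ne (1 : P)
  have hord : orderOf (s : G) = p ^ 1 := by
    rw [Subgroup.orderOf_coe, pow_one]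
    exact orderOf_eq_prime (pow_p hM hcard s) hs1
  have hσ : Subgroup.zpowers (s : G) = P :=
    Subgroup.eq_of_le_of_card_ge (Subgroup.zpowers_le.mpr s.2) (by rw [Nat.card_zpowers, hord, hcard, pow_one])
  obtain ⟨N, y, δ, δ₀, hN, hem, hy, hyB, hXcard, hδ, hδ₀, hrel, hsing⟩ :=
    CyclicStructure.exists_shape hM hmax hσ le_rfl hord he
  rw [pow_one] at hem
  set X := Finset.univ.filter fun χ => χ ∈ B ∧ χ ∉ Set.range y with hX
  have hmX : ∀ χ, χ ∈ X ↔ χ ∈ B ∧ χ ∉ Set.range y := fun χ => by simp [hX]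
  have he0 : 0 < e := Nat.pos_of_ne_zero fun h => by
    rw [h, zero_mul] at hem
    have := hp.two_le
    omega
  obtain ⟨χ1, hχ1⟩ : X.Nonempty := Finset.card_pos.mp (by rw [hXcard]; exact he0)
  have hsq : ∀ χ, (δ χ : ℂ) * (δ χ : ℂ) = 1 := fun χ => by rcases hδ χ with h | h <;> simp [h]
  set n : IrrCharacter G → ℕ := fun χ => ∑ ψ : IrrCharacter (Subgroup.centralizer (P : Set G)) with ψ ∈ b, mult χ ψ
    with hn
  -- one weight on the non-exceptional characters
  have hcommon : ∀ χ ∈ X, ∀ v : P, v ≠ 1 →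
      (δ χ : ℂ) * wgt b χ (incl hM hcard v) = (δ χ1 : ℂ) * wgt b χ1 (incl hM hcard v) := by
    intro χ hχ v hv
    have hk : (Nat.card (Subgroup.centralizer (P : Set G)) : ℂ) / p ≠ 0 :=
      div_ne_zero (Nat.cast_ne_zero.mpr Nat.card_pos.ne') (Nat.cast_ne_zero.mpr hp.ne_zero)
    refine mul_left_cancel₀ hk ?_
    rw [mul_left_comm, ← wgt_eq hM hmax hcard hSyl hθ χ v, mul_left_comm,
      ← wgt_eq hM hmax hcard hSyl hθ χ1 v, Finset.mul_sum, Finset.mul_sum]
    refine Finset.sum_congr rfl fun x hx => ?_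
    rw [← mul_assoc, ← mul_assoc]
    congr 1
    refine hsing χ ((hmX χ).mp hχ).1 ((hmX χ).mp hχ).2 χ1 ((hmX χ1).mp hχ1).1 ((hmX χ1).mp hχ1).2 _ ?_
    have hxr : ¬ p ∣ orderOf (x : G) := by rw [Subgroup.orderOf_coe]; exact (Finset.mem_filter.mp hx).2
    have hvo : orderOf (v : G) = p := (Subgroup.orderOf_coe v).trans (orderOf_eq_prime (pow_p hM hcard v) hv)
    rw [Commute.orderOf_mul_eq_mul_orderOf_of_coprime (x.2 (v : G) v.2) (by
      rw [hvo]; exact hp.coprime_iff_not_dvd.mpr hxr), hvo]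
    exact dvd_mul_right p _
  -- the degree relation
  have hdy : ∀ i, (δ₀ : ℂ) * (deg (y i : G → ℂ) : ℂ) = -∑ χ ∈ X, (δ χ : ℂ) * (deg (χ : G → ℂ) : ℂ) := by
    intro i
    have h := hrel i 1 (by simp [hp.ne_one])
    rw [char_one_eq_deg (irr_isCharacter (y i).2),
      Finset.sum_congr rfl fun χ _ => by rw [char_one_eq_deg (irr_isCharacter χ.2)]] at h
    exact eq_neg_of_add_eq_zero_left h
  have hd0 : (δ₀ : ℂ) * (δ₀ : ℂ) = 1 := by rcases hδ₀ with h | h <;> simp [h]
  set D := ∑ χ ∈ X, (δ χ : ℂ) * (deg (χ : G → ℂ) : ℂ) with hD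
  have hD0 : D ≠ 0 := fun h => by
    have h1 := hdy ⟨0, hN⟩
    rw [h, neg_zero, mul_eq_zero] at h1
    rcases h1 with h1 | h1
    · rw [h1, mul_zero] at hd0; exact zero_ne_one hd0
    · exact (deg_pos (y ⟨0, hN⟩).2).ne' (Nat.cast_eq_zero.mp h1)
  have hBsplit : ∀ F : IrrCharacter G → ℂ,
      ∑ χ : IrrCharacter G with χ ∈ B, F χ = ∑ χ ∈ X, F χ + ∑ i, F (y i) := by
    intro F
    rw [← Finset.sum_image (f := F) (g := y) hy.injOn, ← Finset.sum_union]
    · refine Finset.sum_congr ?_ fun _ _ => rfl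
      ext χ
      simp only [Finset.mem_filter, Finset.mem_univ, true_and, Finset.mem_union, hmX, Finset.mem_image]
      refine ⟨fun h => ?_, fun h => h.elim (·.1) fun ⟨i, hi⟩ => hi ▸ hyB i⟩
      by_cases h' : χ ∈ Set.range y
      · exact Or.inr h'
      · exact Or.inl ⟨h, h'⟩
    · refine Finset.disjoint_left.mpr fun χ hχ h' => ((hmX χ).mp hχ).2 ?_
      obtain ⟨i, -, hi⟩ := Finset.mem_image.mp h'
      exact ⟨i, hi⟩
  set c : P → ℂ := fun v => (δ χ1 : ℂ) * wgt b χ1 (incl hM hcard v) with hc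
  -- the exceptional weights add up to the common one
  have hYsum : ∀ v : P, v ≠ 1 → (δ₀ : ℂ) * ∑ i, wgt b (y i) (incl hM hcard v) = c v := by
    intro v hv
    have h0 : ∑ χ : IrrCharacter G with χ ∈ B, (deg (χ : G → ℂ) : ℂ) * wgt b χ (incl hM hcard v) = 0 := by
      have hk : (Nat.card (Subgroup.centralizer (P : Set G)) : ℂ) / p ≠ 0 :=
        div_ne_zero (Nat.cast_ne_zero.mpr Nat.card_pos.ne') (Nat.cast_ne_zero.mpr hp.ne_zero)
      refine (mul_eq_zero.mp ?_).resolve_left hk
      rw [Finset.mul_sum, Finset.sum_congr rfl fun χ _ => by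
        rw [mul_left_comm, ← wgt_eq hM hmax hcard hSyl hθ χ v, Finset.mul_sum], Finset.sum_comm]
      refine Finset.sum_eq_zero fun x hx => ?_
      have hxr : ¬ p ∣ orderOf (x : G) := by rw [Subgroup.orderOf_coe]; exact (Finset.mem_filter.mp hx).2
      have hvo : orderOf (v : G) = p := (Subgroup.orderOf_coe v).trans (orderOf_eq_prime (pow_p hM hcard v) hv)
      have hsingx : p ∣ orderOf ((v : G) * x)⁻¹ := by
        rw [orderOf_inv, Commute.orderOf_mul_eq_mul_orderOf_of_coprime (x.2 (v : G) v.2) (by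
          rw [hvo]; exact hp.coprime_iff_not_dvd.mpr hxr), hvo]
        exact dvd_mul_right p _
      have hw := weak_orthogonality hM hmax.1.2.1 (x := (1 : G)) (y := ((v : G) * x)⁻¹) (by simp [hp.ne_one]) hsingx
      rw [finsum_mem_irr] at hw
      rw [Finset.sum_congr rfl (g := fun χ : IrrCharacter G => (χ : G → ℂ) 1 * conj ((χ : G → ℂ) ((v : G) * x)⁻¹) *
        conj ((θ : Subgroup.centralizer (P : Set G) → ℂ) x)) fun χ _ => by
          rw [char_inv (irr_isCharacter χ.2), Complex.conj_conj, char_one_eq_deg (irr_isCharacter χ.2)]; ring,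
        ← Finset.sum_mul, hw, zero_mul]
    rw [hBsplit] at h0
    have h1 : ∑ χ ∈ X, (deg (χ : G → ℂ) : ℂ) * wgt b χ (incl hM hcard v) = D * c v := by
      rw [hD, Finset.sum_mul]
      refine Finset.sum_congr rfl fun χ hχ => ?_
      show _ = _ * ((δ χ1 : ℂ) * wgt b χ1 (incl hM hcard v))
      rw [← hcommon χ hχ v hv]
      linear_combination (-((deg (χ : G → ℂ) : ℂ) * wgt b χ (incl hM hcard v))) * hsq χ
    have h2 : ∑ i, (deg (y i : G → ℂ) : ℂ) * wgt b (y i) (incl hM hcard v) =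
        -D * ((δ₀ : ℂ) * ∑ i, wgt b (y i) (incl hM hcard v)) := by
      rw [Finset.mul_sum, Finset.mul_sum]
      refine Finset.sum_congr rfl fun i _ => ?_
      linear_combination ((δ₀ : ℂ) * wgt b (y i) (incl hM hcard v)) * hdy i -
        ((deg (y i : G → ℂ) : ℂ) * wgt b (y i) (incl hM hcard v)) * hd0
    rw [h1, h2] at h0
    refine mul_left_cancel₀ hD0 ?_
    linear_combination -h0
  -- the vector of all relations
  set z : IrrCharacter G → ℂ := fun χ =>
    if χ ∈ X then (N : ℂ) * (δ χ : ℂ) else if χ ∈ Finset.univ.image y then (δ₀ : ℂ) else 0 with hz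
  have hzsum : ∀ F : IrrCharacter G → ℂ,
      ∑ χ, z χ * F χ = (N : ℂ) * ∑ χ ∈ X, (δ χ : ℂ) * F χ + (δ₀ : ℂ) * ∑ i, F (y i) := by
    intro F
    rw [Finset.mul_sum, Finset.mul_sum, ← Finset.sum_subset (Finset.subset_univ (X ∪ Finset.univ.image y)),
      Finset.sum_union, Finset.sum_image hy.injOn]
    · refine congrArg₂ _ (Finset.sum_congr rfl fun χ hχ => ?_) (Finset.sum_congr rfl fun i _ => ?_)
      · rw [hz]; simp only [if_pos hχ]; ring
      · rw [hz]
        simp only [if_neg (show y i ∉ X from fun h => ((hmX _).mp h).2 ⟨i, rfl⟩),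
          if_pos (Finset.mem_image.mpr ⟨i, Finset.mem_univ i, rfl⟩)]
    · refine Finset.disjoint_left.mpr fun χ hχ h' => ((hmX χ).mp hχ).2 ?_
      obtain ⟨i, -, hi⟩ := Finset.mem_image.mp h'
      exact ⟨i, hi⟩
    · intro χ _ hχ
      rw [Finset.mem_union, not_or] at hχ
      rw [hz]
      simp only [if_neg hχ.1, if_neg hχ.2, zero_mul]
  have hpC : (e : ℂ) * (N : ℂ) + 1 = (p : ℂ) := by
    have : e * N + 1 = p := by have := hp.two_le; omega
    exact_mod_cast this
  have hzW : ∀ v : P, v ≠ 1 → ∑ χ, z χ * wgt b χ (incl hM hcard v) = (p : ℂ) * c v := by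
    intro v hv
    rw [hzsum, hYsum v hv, Finset.sum_congr rfl fun χ hχ => hcommon χ hχ v hv, Finset.sum_const, hXcard,
      nsmul_eq_mul]
    show (N : ℂ) * ((e : ℂ) * c v) + c v = _
    linear_combination (c v) * hpC
  have hzz : ∑ χ, z χ * z χ = (N : ℂ) * p := by
    have h1 : ∀ χ ∈ X, (δ χ : ℂ) * z χ = (N : ℂ) := fun χ hχ => by
      rw [hz]; simp only [if_pos hχ]; linear_combination (N : ℂ) * hsq χ
    have h2 : ∀ i, z (y i) = (δ₀ : ℂ) := fun i => by
      rw [hz]
      simp only [if_neg (show y i ∉ X from fun h => ((hmX _).mp h).2 ⟨i, rfl⟩),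
        if_pos (Finset.mem_image.mpr ⟨i, Finset.mem_univ i, rfl⟩)]
    rw [hzsum, Finset.sum_congr rfl h1, Finset.sum_congr rfl (fun i _ => h2 i),
      Finset.sum_const, Finset.sum_const, hXcard, Finset.card_univ, Fintype.card_fin, nsmul_eq_mul, nsmul_eq_mul]
    linear_combination (N : ℂ) * hd0 + (N : ℂ) * hpC
  -- the bound
  set T := pairStab hP hmax.1.1.2 with hT
  have hCT : (Subgroup.centralizer (P : Set G)) ≤ T := (stabCtx_pairStab hM hmax.1.1.1 hmax.1.1.2).cent
  have hcardT : Nat.card T = Nat.card (Subgroup.centralizer (P : Set G)) * e := by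
    rw [card_eq_inf_mul_relIndex (Subgroup.centralizer (P : Set G)) T, inf_eq_left.mpr hCT, he]
  set P1 := (Finset.univ : Finset P).erase 1 with hP1
  set S := ∑ v ∈ P1, c v * conj (c v) with hS
  set w : IrrCharacter G → ℂ := fun χ => ∑ v ∈ P1, conj (c v) * wgt b χ (incl hM hcard v) with hw
  have hzw : ∑ χ, z χ * w χ = (p : ℂ) * S := by
    simp only [hw, Finset.mul_sum, hS]
    rw [Finset.sum_comm]
    refine Finset.sum_congr rfl fun v hv => ?_
    rw [Finset.sum_congr rfl fun χ _ => mul_left_comm _ (conj (c v)) _, ← Finset.mul_sum,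
      hzW v (Finset.mem_erase.mp hv).1]
    ring
  have hww : ∑ χ, w χ * conj (w χ) = (p : ℂ) * e * S := by
    simp only [hw, map_sum, map_mul, Complex.conj_conj, Finset.sum_mul_sum]
    rw [Finset.sum_comm, Finset.sum_congr rfl fun v _ => Finset.sum_comm, hS, Finset.mul_sum]
    refine Finset.sum_congr rfl fun v hv => ?_
    have hv1 := (Finset.mem_erase.mp hv).1
    rw [Finset.sum_congr rfl fun v' _ => Finset.sum_congr rfl fun χ _ => mul_mul_mul_comm _ _ _ _]
    rw [Finset.sum_congr rfl fun v' _ => by rw [← Finset.mul_sum, wgt_orth hM hmax hcard hSyl hθ hθP v v' hv1]]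
    simp only [Finset.card_filter, Nat.cast_sum,
      Nat.cast_ite, Nat.cast_one, Nat.cast_zero, Finset.mul_sum, mul_ite, mul_one, mul_zero]
    rw [Finset.sum_comm]
    have hg : ∀ g : G, (∑ v' ∈ P1, if g ∈ T ∧ g * (v : G) * g⁻¹ = v' then
        conj (c v) * c v' * ((p : ℂ) / Nat.card (Subgroup.centralizer (P : Set G))) else 0) =
        if g ∈ T then conj (c v) * c v * ((p : ℂ) / Nat.card (Subgroup.centralizer (P : Set G))) else 0 := by
      intro g
      by_cases hgT : g ∈ T
      · have hgN := ((mem_pairStab hP _).mp hgT).1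
        set v1 : P := ⟨g * (v : G) * g⁻¹, (Subgroup.mem_normalizer_iff.mp hgN _).mp v.2⟩ with hv1def
        have hv11 : v1 ≠ 1 := fun h => hv1 (Subtype.ext (conj_eq_one_iff.mp (congrArg Subtype.val h)))
        rw [if_pos hgT, Finset.sum_eq_single v1]
        · rw [if_pos ⟨hgT, rfl⟩]
          congr 2
          have hinv : wgt b χ1 (incl hM hcard v1) = wgt b χ1 (incl hM hcard v) := by
            have h1 : conjIdx g (⟨P, b⟩ : BrauerPairIdx G) = ⟨P, b⟩ := hgT
            have h2 := Star.pc_conj (isClassFunction_character (irr_isCharacter χ1.2)) g (v : G)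
              (⟨P, b⟩ : BrauerPairIdx G)
            rw [h1, pc_eq_wgt hM hmax hcard hSyl hθ χ1 v,
              show g * (v : G) * g⁻¹ = (v1 : G) from rfl, pc_eq_wgt hM hmax hcard hSyl hθ χ1 v1] at h2
            refine mul_left_cancel₀ ?_ h2
            rw [char_one_eq_deg (irr_isCharacter θ.2)]
            exact Nat.cast_ne_zero.mpr (deg_pos θ.2).ne'
          show (δ χ1 : ℂ) * _ = (δ χ1 : ℂ) * _
          rw [hinv]
        · exact fun v' _ hne => if_neg fun h => hne (Subtype.ext h.2.symm)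
        · exact fun h => absurd (Finset.mem_erase.mpr ⟨hv11, Finset.mem_univ _⟩) h
      · simp [hgT]
    rw [Finset.sum_congr rfl fun g _ => hg g, ← Finset.sum_filter, Finset.sum_const, nsmul_eq_mul,
      show (Finset.univ.filter fun g : G => g ∈ T).card = Nat.card T by
        rw [Nat.card_eq_fintype_card, Fintype.card_subtype], hcardT]
    have hC0 : (Nat.card (Subgroup.centralizer (P : Set G)) : ℂ) ≠ 0 := Nat.cast_ne_zero.mpr Nat.card_pos.ne'
    push_cast
    field_simp
  have hSr : (S.re : ℂ) = S := by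
    rw [hS, Complex.re_sum, Complex.ofReal_sum]
    exact Finset.sum_congr rfl fun v _ => by rw [Complex.mul_conj, Complex.ofReal_re]
  have hS0 : 0 ≤ S.re := by
    rw [hS, Complex.re_sum]
    exact Finset.sum_nonneg fun v _ => by rw [Complex.mul_conj, Complex.ofReal_re]; exact Complex.normSq_nonneg _
  have hSle : S.re ≤ (p : ℝ) - 1 := by
    have hzc : ∀ χ, conj (z χ) = z χ := fun χ => by
      simp only [hz]; split_ifs <;> simp
    have h0 : 0 ≤ (∑ χ, ((e : ℂ) * z χ - conj (w χ)) * conj ((e : ℂ) * z χ - conj (w χ))).re := by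
      rw [Complex.re_sum]
      exact Finset.sum_nonneg fun χ _ => by rw [Complex.mul_conj, Complex.ofReal_re]; exact Complex.normSq_nonneg _
    have hwc : ∑ χ, z χ * conj (w χ) = (p : ℂ) * S := by
      have h := congrArg conj hzw
      simp only [map_sum, map_mul, hzc, map_natCast] at h
      rw [h, ← hSr, Complex.conj_ofReal]
    have hexp : ∑ χ, ((e : ℂ) * z χ - conj (w χ)) * conj ((e : ℂ) * z χ - conj (w χ)) =
        (e : ℂ) * (p : ℂ) * ((e : ℂ) * N - S) := by
      simp only [map_sub, map_mul, map_natCast, hzc, Complex.conj_conj]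
      rw [Finset.sum_congr rfl (g := fun χ => (e : ℂ) * e * (z χ * z χ) - (e : ℂ) * (z χ * w χ) -
        (e : ℂ) * (z χ * conj (w χ)) + w χ * conj (w χ)) fun χ _ => by ring]
      rw [Finset.sum_add_distrib, Finset.sum_sub_distrib, Finset.sum_sub_distrib, ← Finset.mul_sum, ← Finset.mul_sum,
        ← Finset.mul_sum, hzz, hzw, hwc, hww]
      ring
    rw [hexp, ← hSr] at h0
    have h1 : (e : ℂ) * (p : ℂ) * ((e : ℂ) * N - (S.re : ℂ)) = (((e : ℝ) * p * ((e : ℝ) * N - S.re) : ℝ) : ℂ) := by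
      push_cast; ring
    rw [h1, Complex.ofReal_re] at h0
    have h2 : 0 ≤ (e : ℝ) * N - S.re :=
      nonneg_of_mul_nonneg_right h0 (mul_pos (Nat.cast_pos.mpr he0) (Nat.cast_pos.mpr hp.pos))
    have h3 : (e : ℝ) * N = (p : ℝ) - 1 := by
      have : e * N + 1 = p := by have := hp.two_le; omega
      rw [← this]; push_cast; ring
    linarith
  -- the multiplicities
  set J := Finset.univ.filter fun ψ : IrrCharacter (Subgroup.centralizer (P : Set G)) => ψ ∈ b with hJ
  have hJcard : Fintype.card J = p := by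
    rw [Fintype.card_coe, hJ, ← Fintype.card_subtype, ← Nat.card_eq_fintype_card]
    exact card_local hM hmax hcard
  have hdef : ∀ χ ∈ B, ¬ p ∣ deg (χ : G → ℂ) := by
    intro χ hχ hdvd
    have h0 := (CyclicStructure.main hM hmax hσ le_rfl hord he).2.1 χ hχ
    have h1 := (blockHeight_eq_zero_iff hχ).mp h0
    have h2 := dmin_add_defect (p := p) ⟨χ, hχ⟩
    rw [defect_one hM hmax hcard] at h2
    have h3 : (Nat.card G).factorization p ≤ 1 := by
      by_contra h
      exact hSyl ((hp.pow_dvd_iff_le_factorization Nat.card_pos.ne').mpr (by omega))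
    have h4 := (hp.dvd_iff_one_le_factorization (deg_pos χ.2).ne').mp hdvd
    have h5 : dexp p (χ : G → ℂ) = (deg (χ : G → ℂ)).factorization p := rfl
    omega
  have hdn : ∀ χ ∈ B, (deg (χ : G → ℂ) : ℤ) ≡ (d : ℤ) * (n χ : ℤ) [ZMOD p] := by
    intro χ hχ
    have h := deg_congr hM hmax hcard hSyl hθ hθP hχ
    rw [hd] at h
    push_cast at h
    simpa [hn] using h
  have hn1 : ¬ (p : ℤ) ∣ (n χ1 : ℤ) := fun h => hdef χ1 ((hmX χ1).mp hχ1).1 (Int.natCast_dvd_natCast.mp
    ((Int.ModEq.dvd_iff (hdn χ1 ((hmX χ1).mp hχ1).1)).mpr (h.mul_left _)))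
  have hvar : (p : ℤ) * ∑ ψ : J, (mult χ1 ψ.1 : ℤ) ^ 2 - (∑ ψ : J, (mult χ1 ψ.1 : ℤ)) ^ 2 ≤ (p : ℤ) - 1 := by
    have hfull := wgt_sq hM hmax hcard hSyl χ1
    rw [← Finset.add_sum_erase _ _ (Finset.mem_univ (1 : P)), ← hP1,
      show incl hM hcard (1 : P) = 1 from Subtype.ext rfl, wgt_one hM hcard, map_natCast,
      Finset.sum_congr rfl (g := fun v => c v * conj (c v)) fun v _ => by
        simp only [hc, map_mul, map_intCast]
        linear_combination (-(wgt b χ1 (incl hM hcard v) * conj (wgt b χ1 (incl hM hcard v)))) * hsq χ1, ← hS,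
      ← hSr] at hfull
    have hr := congrArg Complex.re hfull
    simp only [Complex.add_re, Complex.ofReal_re, ← Nat.cast_mul, Complex.natCast_re] at hr
    have h3 : ((((p * ∑ ψ ∈ J, mult χ1 ψ ^ 2 : ℕ) : ℤ) - ((n χ1 * n χ1 : ℕ) : ℤ) : ℤ) : ℝ) ≤
        (((p : ℤ) - 1 : ℤ) : ℝ) := by
      push_cast at hr ⊢
      simp only [hn, Nat.cast_sum]
      linarith
    have h4 := Int.cast_le.mp h3
    have h5 : (n χ1 : ℤ) = ∑ ψ ∈ J, (mult χ1 ψ : ℤ) := by simp [hn, hJ]
    push_cast at h4
    rw [h5] at h4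
    rw [Finset.sum_coe_sort J (fun ψ => (mult χ1 ψ : ℤ) ^ 2), Finset.sum_coe_sort J (fun ψ => (mult χ1 ψ : ℤ)),
      pow_two (∑ ψ ∈ J, (mult χ1 ψ : ℤ))]
    exact h4
  have hsum : (∑ ψ : J, (mult χ1 ψ.1 : ℤ)) = (n χ1 : ℤ) := by
    rw [Finset.sum_coe_sort J (fun ψ => (mult χ1 ψ : ℤ))]; simp [hn, hJ]
  obtain ⟨η1, hη1, hη1c⟩ : ∃ η1 : ℤ, (η1 = 1 ∨ η1 = -1) ∧ (n χ1 : ℤ) ≡ η1 [ZMOD p] := by
    rcases sum_congr_one hp hJcard (fun ψ : J => (mult χ1 ψ.1 : ℤ)) (by rw [hsum]; exact hn1) hvar with h | h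
    · exact ⟨1, Or.inl rfl, (Int.modEq_iff_dvd.mpr (by rw [← hsum]; exact h)).symm⟩
    · exact ⟨-1, Or.inr rfl, (Int.modEq_iff_dvd.mpr (by rw [sub_neg_eq_add, ← hsum]; exact h)).symm⟩
  have hη : δ χ1 * η1 = 1 ∨ δ χ1 * η1 = -1 := by
    rcases hδ χ1 with h | h <;> rcases hη1 with h' | h' <;> simp [h, h']
  have hXd : ∀ χ ∈ X, δ χ * (deg (χ : G → ℂ) : ℤ) ≡ δ χ1 * η1 * (d : ℤ) [ZMOD p] := by
    intro χ hχ
    have hnn : δ χ * (n χ : ℤ) ≡ δ χ1 * (n χ1 : ℤ) [ZMOD p] := by
      rw [Int.modEq_iff_dvd, ← memLI_intCast_iff hM]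
      have h1 : ∀ χ', MemLocalIdeal M ((δ χ' : ℂ) * wgt b χ' (incl hM hcard s) - (δ χ' : ℂ) * (n χ' : ℂ)) :=
        fun χ' => by
          have := memLI_mul_left hP (memLR_intCast (M := M) hP (δ χ')) (wgt_congr hM hcard (b := b) χ' s)
          rwa [mul_sub, wgt_one hM hcard] at this
      have h2 := h1 χ
      rw [hcommon χ hχ s hs1] at h2
      have h3 := memLI_trans hP (memLI_symm hP (h1 χ1)) h2
      push_cast
      exact h3
    calc δ χ * (deg (χ : G → ℂ) : ℤ) ≡ δ χ * ((d : ℤ) * (n χ : ℤ)) [ZMOD p] := (hdn χ ((hmX χ).mp hχ).1).mul_left _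
      _ = (d : ℤ) * (δ χ * (n χ : ℤ)) := by ring
      _ ≡ (d : ℤ) * (δ χ1 * (n χ1 : ℤ)) [ZMOD p] := hnn.mul_left _
      _ ≡ (d : ℤ) * (δ χ1 * η1) [ZMOD p] := (hη1c.mul_left _).mul_left _
      _ = δ χ1 * η1 * (d : ℤ) := by ring
  refine ⟨N, y, δ, δ₀, δ χ1 * η1, hN, hem, hy, hyB, hXcard, hδ, hδ₀, hη, hrel,
    fun χ h1 h2 => hXd χ ((hmX χ).mpr ⟨h1, h2⟩), fun i => ?_, hsing⟩
  have h1 : δ₀ * (deg (y i : G → ℂ) : ℤ) = -∑ χ ∈ X, δ χ * (deg (χ : G → ℂ) : ℤ) := by
    have := hdy i
    rw [hD] at this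
    exact_mod_cast this
  rw [h1]
  refine Int.ModEq.neg ?_
  refine (Int.ModEq.sum hXd).trans ?_
  rw [Finset.sum_const, hXcard, nsmul_eq_mul]
  push_cast
  rw [mul_left_comm]

end Global

end Cfsg.Agent.Char.DefectOne
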