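import Cfsg.Agent.Lib.Char.ResField
import Cfsg.Agent.Lib.Char.GroupAlg
import Cfsg.Agent.Lib.Char.PParts
import Cfsg.Agent.Lib.Char.BlockBasic

/-!
# Classes of elements of order three and characters of `2`-defect zero
-/

set_option autoImplicit false
set_option linter.unusedSectionVars false
set_option linter.style.haveILetI false

namespace Cfsg.Agent.Char

open Cfsg Module
open scoped ComplexConjugate

universe u

variable {G : Type u} [Group G]

/-- An element of order three normalizing no nontrivial `2`-subgroup. -/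
def FreeThree (g : G) : Prop :=
  orderOf g = 3 ∧ ∀ Q : Subgroup G, IsPGroup 2 ↥Q → g ∈ Subgroup.normalizer (Q : Set G) → Q = ⊥

theorem freeThree_conj {g : G} (h : FreeThree g) (t : G) : FreeThree (t * g * t⁻¹) := by
  refine ⟨by rw [← MulAut.conj_apply, MulEquiv.orderOf_eq, h.1], fun Q hQ hg => ?_⟩
  let e : G →* G := (MulAut.conj t⁻¹).toMonoidHom
  have h1 : Q.map e = ⊥ := h.2 _ (hQ.map e) (by
    rw [Subgroup.mem_normalizer_iff]
    intro x
    simp only [Subgroup.mem_map, MulEquiv.coe_toMonoidHom, e, MulAut.conj_apply, inv_inv]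
    constructor
    · rintro ⟨q, hq, rfl⟩
      exact ⟨_, (Subgroup.mem_normalizer_iff.1 hg q).1 hq, by group⟩
    · rintro ⟨q, hq, he⟩
      refine ⟨t * x * t⁻¹, (Subgroup.mem_normalizer_iff.1 hg _).2 ?_, by group⟩
      have e2 : q = t * (g * x * g⁻¹) * t⁻¹ := by rw [← he]; group
      rw [show t * g * t⁻¹ * (t * x * t⁻¹) * (t * g * t⁻¹)⁻¹ = t * (g * x * g⁻¹) * t⁻¹ by group,
        ← e2]
      exact hq)
  exact (Subgroup.map_eq_bot_iff_of_injective _ (MulAut.conj t⁻¹).injective).1 h1

theorem freeThree_inv {g : G} (h : FreeThree g) : FreeThree g⁻¹ :=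
  ⟨by rw [orderOf_inv, h.1], fun Q hQ hg => h.2 Q hQ (by
    simpa using Subgroup.inv_mem _ hg)⟩

/-- The only symmetric factorisation of an element of order three. -/
theorem freeThree_factor {u v z : G} (hu : FreeThree u) (hv : v ^ 3 = 1) (hz : z ^ 3 = 1)
    (huv : u * v = z) (hfix : z * u * z⁻¹ = v) : v = u := by
  subst huv
  obtain ⟨a, rfl⟩ : ∃ a, v = a * u := ⟨v * u⁻¹, by simp⟩
  have hu3 : u ^ 3 = 1 := hu.1 ▸ pow_orderOf_eq_one u
  have hconj : ∀ x : G, u * (u * (u * x * u⁻¹) * u⁻¹) * u⁻¹ = x := fun x => by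
    calc u * (u * (u * x * u⁻¹) * u⁻¹) * u⁻¹ = (u * (u * u)) * x * (u * (u * u))⁻¹ := by group
      _ = x := by rw [← pow_three, hu3]; simp
  set a' := u * a * u⁻¹ with ha'
  set a'' := u * a' * u⁻¹ with ha''
  have e3 : u * a'' * u⁻¹ = a := hconj a
  have h1 : a * a' * a'' = 1 := by
    calc a * a' * a'' = (a * u) ^ 3 * (u ^ 3)⁻¹ := by
          rw [ha'', ha', pow_three, pow_three]; group
      _ = 1 := by rw [hv, hu3]; simp
  have h2 : a'' * a' = a⁻¹ := by
    have : u⁻¹ * (u * (a * u)) ^ 3 * u = a * a'' * a' := by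
      rw [hz]
      have h3 : u⁻¹ * (u * (a * u)) ^ 3 * u = a * u * u * a * u * u * a * u * u := by
        rw [pow_three]; group
      rw [hz] at h3
      rw [h3]
      have e : u * u = u⁻¹ := by
        refine eq_inv_of_mul_eq_one_left ?_
        rw [mul_assoc, ← pow_three]; exact hu3
      calc a * u * u * a * u * u * a * u * u = a * (u * u) * a * (u * u) * a * (u * u) := by group
        _ = a * u⁻¹ * a * u⁻¹ * a * u⁻¹ := by rw [e]
        _ = a * a'' * a' := by
          have e4 : u⁻¹ * a * u = a'' := by
            conv_lhs => rw [← e3]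
            group
          have e5 : a' = u⁻¹ * a'' * u := by rw [ha'']; group
          rw [e5, ← e4]
          calc a * u⁻¹ * a * u⁻¹ * a * u⁻¹ = a * (u⁻¹ * a * u) * (u⁻¹ * u⁻¹ * a * u * u) * (u ^ 3)⁻¹ := by
                rw [pow_three]; group
            _ = _ := by rw [hu3]; group
    rw [hz] at this
    have h4 : a * a'' * a' = 1 := by rw [← this]; simp
    exact eq_inv_of_mul_eq_one_right (by rw [← mul_assoc]; exact h4)
  have h1' : a' * a'' = a⁻¹ := eq_inv_of_mul_eq_one_right (by rw [← mul_assoc]; exact h1)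
  have hc : Commute a' a'' := h1'.trans h2.symm
  have h5 : a = a' * a''⁻¹ := by
    have e : u * (a * u) * u * (u * (a * u))⁻¹ = a' * a''⁻¹ * u := by
      rw [ha'', ha']; group
    rw [hfix] at e
    exact mul_right_cancel e
  have hsq : a' * a' = 1 := by
    have h6 : (a' * a''⁻¹) * (a' * a'') = 1 := by rw [← h5, h1', mul_inv_cancel]
    calc a' * a' = (a' * a''⁻¹) * (a' * a'') := by
          rw [mul_assoc a', ← mul_assoc a''⁻¹, (hc.symm.inv_left).eq, mul_assoc a', inv_mul_cancel,
            mul_one]
      _ = 1 := h6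
  have hsq'' : a'' * a'' = 1 := by
    calc a'' * a'' = u * (a' * a') * u⁻¹ := by rw [ha'']; group
      _ = 1 := by rw [hsq]; simp
  have hsqa : a * a = 1 := by
    calc a * a = u⁻¹ * (a' * a') * u := by rw [ha']; group
      _ = 1 := by rw [hsq]; simp
  have ha : a = a' * a'' := by
    rw [h5, inv_eq_of_mul_eq_one_right hsq'']
  let gens : Set G := {a', a''}
  have hcl : ∀ x ∈ Subgroup.closure gens, x * x = 1 ∧ Commute x a' ∧ Commute x a'' := by
    intro x hx
    induction hx using Subgroup.closure_induction with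
    | mem x hx =>
      rcases hx with rfl | rfl
      · exact ⟨hsq, Commute.refl _, hc⟩
      · exact ⟨hsq'', hc.symm, Commute.refl _⟩
    | one => exact ⟨one_mul 1, Commute.one_left _, Commute.one_left _⟩
    | mul x y hx hy ihx ihy =>
      have hxy : Commute y x := by
        have hle : Subgroup.closure gens ≤ Subgroup.centralizer {y} := by
          rw [Subgroup.closure_le]
          intro w hw
          rw [SetLike.mem_coe, Subgroup.mem_centralizer_singleton_iff]
          rcases hw with rfl | rfl
          · exact ihy.2.1.symm.eq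
          · exact ihy.2.2.symm.eq
        exact (Subgroup.mem_centralizer_singleton_iff.1 (hle hx)).symm
      exact ⟨by rw [mul_assoc, ← mul_assoc y, hxy.eq, mul_assoc x, ihy.1, mul_one, ihx.1],
        ihx.2.1.mul_left ihy.2.1, ihx.2.2.mul_left ihy.2.2⟩
    | inv x hx ih =>
      exact ⟨by rw [← mul_inv_rev, ih.1, inv_one], ih.2.1.inv_left, ih.2.2.inv_left⟩
  have hP : IsPGroup 2 (Subgroup.closure gens) := fun x =>
    ⟨1, Subtype.ext (by rw [SubgroupClass.coe_pow, pow_one, pow_two]; exact (hcl x x.2).1)⟩
  have hn : u ∈ Subgroup.normalizer (Subgroup.closure gens : Set G) := by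
    have hmap : ∀ x ∈ Subgroup.closure gens, u * x * u⁻¹ ∈ Subgroup.closure gens := by
      intro x hx
      have hle : (Subgroup.closure gens).map (MulAut.conj u).toMonoidHom ≤ Subgroup.closure gens := by
        rw [MonoidHom.map_closure, Subgroup.closure_le]
        rintro _ ⟨w, hw, rfl⟩
        rcases hw with rfl | rfl
        · exact Subgroup.subset_closure (Or.inr rfl)
        · show u * a'' * u⁻¹ ∈ Subgroup.closure gens
          rw [e3, ha]
          exact mul_mem (Subgroup.subset_closure (Or.inl rfl)) (Subgroup.subset_closure (Or.inr rfl))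
      exact hle ⟨x, hx, rfl⟩
    refine Subgroup.mem_normalizer_iff.2 fun x => ⟨hmap x, fun hx => ?_⟩
    have := hmap _ (hmap _ hx)
    rwa [hconj] at this
  have hbot := hu.2 _ hP hn
  have ha1 : a' = 1 := Subgroup.mem_bot.1 (hbot ▸ Subgroup.subset_closure (Or.inl rfl))
  have ha2 : a'' = 1 := Subgroup.mem_bot.1 (hbot ▸ Subgroup.subset_closure (Or.inr rfl))
  rw [ha, ha1, ha2, one_mul, one_mul]

theorem freeThree_centralizer_odd [Finite G] {g : G} (h : FreeThree g) :
    ¬ 2 ∣ Nat.card (Subgroup.centralizer ({g} : Set G)) := by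
  intro hd
  obtain ⟨t, ht⟩ := exists_prime_orderOf_dvd_card' (G := Subgroup.centralizer ({g} : Set G)) 2 hd
  have hc : g * (t : G) = (t : G) * g := (Subgroup.mem_centralizer_singleton_iff.1 t.2).symm
  have hord : orderOf (t : G) = 2 := by rw [Subgroup.orderOf_coe, ht]
  have hP : IsPGroup 2 (Subgroup.zpowers (t : G)) :=
    IsPGroup.of_card (n := 1) (by rw [Nat.card_zpowers, hord, pow_one])
  have hn : g ∈ Subgroup.normalizer (Subgroup.zpowers (t : G) : Set G) :=
    Subgroup.centralizer_le_normalizer _ (Subgroup.mem_centralizer_iff.2 fun x hx => by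
      obtain ⟨k, rfl⟩ := Subgroup.mem_zpowers_iff.1 hx
      exact ((show Commute g (t : G) from hc).zpow_right k).symm.eq)
  have hb := Subgroup.mem_bot.1 (h.2 _ hP hn ▸ Subgroup.mem_zpowers (t : G))
  rw [hb, orderOf_one] at hord
  omega

variable [Fintype G]

theorem card_freeThree_le {M : Ideal AlgInt} (hM : IsPModular 2 M) :
    Nat.card {C : ConjClasses G // ∃ g ∈ C.carrier, FreeThree g} ≤
      Nat.card {χ : IrrCharacter G //
        (charDegree (χ : G → ℂ)).factorization 2 = (Nat.card G).factorization 2} := by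
  classical
  have hP := pmod_prime hM
  let D0 := {χ : IrrCharacter G //
    (charDegree (χ : G → ℂ)).factorization 2 = (Nat.card G).factorization 2}
  let CP := {C : ConjClasses G // ∃ g ∈ C.carrier, FreeThree g}
  haveI : Fintype CP := Fintype.ofFinite _
  haveI : Fintype D0 := Fintype.ofFinite _
  let w : ConjClasses G → IrrCharacter G → ℂ := fun C χ => omega (χ : G → ℂ) (Quotient.out C)
  have hwR : ∀ C χ, MemLocalRing M (w C χ) := fun C χ => memLR_omega hP χ.2 _
  let L : (CP → Res hP) →ₗ[Res hP] (D0 → Res hP) :=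
    { toFun := fun a χ => ∑ C : CP, a C * red hP (w C.1 χ.1)
      map_add' := fun a b => funext fun χ => by simp [add_mul, Finset.sum_add_distrib]
      map_smul' := fun r a => funext fun χ => by simp [Finset.mul_sum, mul_assoc] }
  have hL : Function.Injective L := by
    refine (injective_iff_map_eq_zero L).2 fun a ha => ?_
    have hlift : ∀ C : CP, ∃ z : ℂ, MemLocalRing M z ∧ red hP z = a C := fun C => by
      obtain ⟨z, hz⟩ := Ideal.Quotient.mk_surjective (a C)
      exact ⟨z, z.2, by rw [red_of_memLR hP z.2, ← hz]⟩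
    choose A hAR hA using hlift
    let Fc : ConjClasses G → ℂ := fun C => if h : ∃ x ∈ C.carrier, FreeThree x then A ⟨C, h⟩ else 0
    let F : G → ℂ := fun g => Fc (ConjClasses.mk g)
    have hFc : IsClassFunction G F := fun g k =>
      congrArg Fc (ConjClasses.mk_eq_mk_iff_isConj.2 (isConj_iff.2 ⟨k, rfl⟩).symm)
    have hFR : ∀ g, MemLocalRing M (F g) := fun g => by
      simp only [F, Fc]
      split_ifs
      exacts [hAR _, memLR_zero hP]
    have hsupp : ∀ g, F g ≠ 0 → FreeThree g := fun g hg => by
      simp only [F, Fc] at hg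
      split_ifs at hg with h
      · obtain ⟨x, hx, hx3⟩ := h
        obtain ⟨t, ht⟩ := isConj_iff.1 (ConjClasses.mk_eq_mk_iff_isConj.1
          (ConjClasses.mem_carrier_iff_mk_eq.1 hx))
        exact ht ▸ freeThree_conj hx3 t
      · exact absurd rfl hg
    -- the value of the central characters
    have hlam : ∀ χ : IrrCharacter G, lam (χ : G → ℂ) F = ∑ C : CP, A C * w C.1 χ := by
      intro χ
      rw [lam, ← Finset.sum_fiberwise Finset.univ (fun g : G => ConjClasses.mk g), Finset.sum_div]
      refine Eq.trans (b := ∑ C : ConjClasses G, Fc C * w C χ) ?_ ?_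
      · refine Finset.sum_congr rfl fun C _ => ?_
        obtain ⟨g, rfl⟩ := ConjClasses.exists_rep C
        have hval : ∀ x ∈ Finset.univ.filter (fun x : G => ConjClasses.mk x = ConjClasses.mk g),
            F x * (χ : G → ℂ) x = F g * (χ : G → ℂ) g := fun x hx => by
          obtain ⟨t, rfl⟩ := isConj_iff.1 (ConjClasses.mk_eq_mk_iff_isConj.1 (Finset.mem_filter.1 hx).2).symm
          rw [hFc, isClassFunction_character (irr_isCharacter χ.2)]
        rw [Finset.sum_congr rfl hval, Finset.sum_const, nsmul_eq_mul]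
        obtain ⟨t, ht⟩ := isConj_iff.1 (ConjClasses.mk_eq_mk_iff_isConj.1
          (Quotient.out_eq (ConjClasses.mk g) : ConjClasses.mk (Quotient.out (ConjClasses.mk g)) = _)).symm
        have hc : (Finset.univ.filter (fun x : G => ConjClasses.mk x = ConjClasses.mk g)).card =
            Nat.card {x : G // IsConj (Quotient.out (ConjClasses.mk g)) x} := by
          rw [Nat.card_eq_fintype_card, Fintype.card_subtype]
          congr 1
          ext x
          simp only [Finset.mem_filter, Finset.mem_univ, true_and, ConjClasses.mk_eq_mk_iff_isConj]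
          exact ⟨fun h => (isConj_iff.2 ⟨t, ht⟩).symm.trans h.symm,
            fun h => ((isConj_iff.2 ⟨t, ht⟩).trans h).symm⟩
        simp only [F, w]
        rw [omega, hc, ← ht, isClassFunction_character (irr_isCharacter χ.2)]
        ring
      · rw [← Finset.sum_filter_of_ne (p := fun C : ConjClasses G => ∃ x ∈ C.carrier, FreeThree x)
          (fun C _ hC => by
            by_contra hn
            exact hC (by simp only [Fc, dif_neg hn, zero_mul])),
          Finset.sum_subtype _ (p := fun C : ConjClasses G => ∃ x ∈ C.carrier, FreeThree x)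
            (fun C => by simp)]
        refine Fintype.sum_congr _ _ fun C => ?_
        show Fc C.1 * _ = _
        simp only [Fc, dif_pos C.2]
    have hlamI : ∀ χ : IrrCharacter G, MemLocalIdeal M (lam (χ : G → ℂ) F) := by
      intro χ
      rw [hlam χ]
      by_cases hχ : (charDegree (χ : G → ℂ)).factorization 2 = (Nat.card G).factorization 2
      · have h1 := congrFun ha ⟨χ, hχ⟩
        have hm := memLR_sum hP Finset.univ (fun C : CP => A C * w C.1 χ)
          fun C _ => memLR_mul hP (hAR C) (hwR _ _)
        rw [← red_eq_zero_iff hP hm, red_sum hP _ _ fun C _ => memLR_mul hP (hAR C) (hwR _ _)]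
        refine Eq.trans (Finset.sum_congr rfl fun C _ => ?_) h1
        rw [red_mul hP (hAR C) (hwR _ _), hA]
      · refine memLI_sum hP _ _ fun C _ => memLI_mul_left hP (hAR C) ?_
        obtain ⟨x, hx, hx3⟩ := C.2
        have hg3 : FreeThree (Quotient.out C.1) := by
          obtain ⟨t, ht⟩ := isConj_iff.1 (ConjClasses.mk_eq_mk_iff_isConj.1
            ((ConjClasses.mem_carrier_iff_mk_eq.1 hx).trans (Quotient.out_eq C.1).symm))
          exact ht ▸ freeThree_conj hx3 t
        obtain ⟨k, hk⟩ := deg_dvd_card χ.2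
        have hk2 : 2 ∣ k := by
          by_contra hk2
          refine hχ ?_
          rw [charDegree_eq_deg, hk, Nat.factorization_mul (deg_pos χ.2).ne'
            (fun h => Nat.card_pos.ne' (by rw [hk, h, mul_zero]))]
          simp [Nat.factorization_eq_zero_of_not_dvd hk2]
        obtain ⟨k', rfl⟩ := hk2
        have hcl := card_conjClass_mul_centralizer (Quotient.out C.1)
        have e : w C.1 χ = (2 : ℂ) * (k' : ℂ) *
            ((Nat.card (Subgroup.centralizer ({Quotient.out C.1} : Set G)) : ℂ))⁻¹ *
            (χ : G → ℂ) (Quotient.out C.1) := by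
          have h2 : (Nat.card {x : G // IsConj (Quotient.out C.1) x} : ℂ) *
              Nat.card (Subgroup.centralizer ({Quotient.out C.1} : Set G)) =
              (deg (χ : G → ℂ) : ℂ) * (2 * k') := by exact_mod_cast hcl.trans hk
          have hd : (deg (χ : G → ℂ) : ℂ) ≠ 0 := Nat.cast_ne_zero.2 (deg_pos χ.2).ne'
          have hc0 : (Nat.card (Subgroup.centralizer ({Quotient.out C.1} : Set G)) : ℂ) ≠ 0 :=
            Nat.cast_ne_zero.2 Nat.card_pos.ne'
          simp only [w, omega]
          rw [char_one_eq_deg (irr_isCharacter χ.2)]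
          field_simp
          linear_combination ((χ : G → ℂ) (Quotient.out C.1)) * h2
        rw [e]
        exact memLI_mul_right hP (memLI_mul_right hP (memLI_mul_right hP (memLI_p hM)
          (memLR_natCast hP k')) (memLR_inv_natCast hM (freeThree_centralizer_odd hg3)))
          (memLR_char hP (irr_isCharacter χ.2) _)
    -- the squares
    have hsq : ∀ z, MemLocalIdeal M (conv F F z) := by
      intro z
      rw [classFun_eq_sum_idem (isClassFunction_conv hFc hFc), Finset.sum_apply]
      refine memLI_sum hP _ _ fun χ _ => ?_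
      rw [Pi.smul_apply, smul_eq_mul, lam_conv χ.2 hFc hFc, mul_assoc]
      refine memLI_mul_right hP (hlamI χ) ?_
      have e : lam (χ : G → ℂ) F * idem (χ : G → ℂ) z =
          ((Nat.card G : ℂ)⁻¹ * ∑ x : G, F x * (χ : G → ℂ) x) * conj ((χ : G → ℂ) z) := by
        rw [lam, idem]
        field_simp [irr_one_ne_zero χ.2]
      rw [e, ← char_inv (irr_isCharacter χ.2)]
      refine memLR_mul hP ?_ (memLR_char hP (irr_isCharacter χ.2) _)
      rw [← Finset.sum_fiberwise Finset.univ (fun g : G => ConjClasses.mk g), Finset.mul_sum]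
      refine memLR_sum hP _ _ fun C _ => ?_
      obtain ⟨g, rfl⟩ := ConjClasses.exists_rep C
      rw [Finset.sum_congr rfl (g := fun _ => F g * (χ : G → ℂ) g) fun x hx => by
        obtain ⟨t, rfl⟩ := isConj_iff.1 (ConjClasses.mk_eq_mk_iff_isConj.1 (Finset.mem_filter.1 hx).2).symm
        rw [hFc, isClassFunction_character (irr_isCharacter χ.2)],
        Finset.sum_const, nsmul_eq_mul]
      by_cases hg : F g = 0
      · rw [hg, zero_mul, mul_zero, mul_zero]
        exact memLR_zero hP
      have hc : (Finset.univ.filter (fun x : G => ConjClasses.mk x = ConjClasses.mk g)).card =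
          Nat.card {x : G // IsConj g x} := by
        rw [Nat.card_eq_fintype_card, Fintype.card_subtype]
        congr 1
        ext x
        simp only [Finset.mem_filter, Finset.mem_univ, true_and, ConjClasses.mk_eq_mk_iff_isConj]
        exact ⟨fun h => h.symm, fun h => h.symm⟩
      have hcl : (Nat.card {x : G // IsConj g x} : ℂ) *
          Nat.card (Subgroup.centralizer ({g} : Set G)) = Nat.card G := by
        exact_mod_cast card_conjClass_mul_centralizer g
      have hne : (Nat.card G : ℂ) ≠ 0 := Nat.cast_ne_zero.2 Nat.card_pos.ne'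
      rw [hc, ← mul_assoc, show (Nat.card G : ℂ)⁻¹ * (Nat.card {x : G // IsConj g x} : ℂ) =
        (Nat.card (Subgroup.centralizer ({g} : Set G)) : ℂ)⁻¹ by
          have hc0 : (Nat.card (Subgroup.centralizer ({g} : Set G)) : ℂ) ≠ 0 :=
            Nat.cast_ne_zero.2 Nat.card_pos.ne'
          field_simp
          linear_combination hcl]
      exact memLR_mul hP (memLR_inv_natCast hM (freeThree_centralizer_odd (hsupp g hg)))
        (memLR_mul hP (hFR g) (memLR_char hP (irr_isCharacter χ.2) g))
    -- an involution on the factorisations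
    funext C
    obtain ⟨x, hx, hx3⟩ := C.2
    have hxC : ConjClasses.mk x = C.1 := ConjClasses.mem_carrier_iff_mk_eq.1 hx
    have hFx : F x = A C := by
      simp only [F, Fc]
      rw [dif_pos (show ∃ y ∈ (ConjClasses.mk x).carrier, FreeThree y from
        ⟨x, ConjClasses.mem_carrier_mk, hx3⟩)]
      exact congrArg A (Subtype.ext hxC)
    let z := x⁻¹
    have hz3 : z ^ 3 = 1 := by
      have := hx3.1 ▸ pow_orderOf_eq_one x
      rw [inv_pow, this, inv_one]
    let τ : G → G := fun u => z⁻¹ * u⁻¹ * z * z
    have hτ : ∀ u, τ (τ u) = u := fun u => by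
      calc τ (τ u) = (z ^ 3)⁻¹ * u * z ^ 3 := by
            simp only [τ, pow_three]; group
        _ = u := by rw [hz3]; simp
    let h : G → ℂ := fun u => F u * F (u⁻¹ * z)
    have hhR : ∀ u, MemLocalRing M (h u) := fun u => memLR_mul hP (hFR _) (hFR _)
    have hhτ : ∀ u, h (τ u) = h u := fun u => by
      simp only [h, τ]
      rw [show z⁻¹ * u⁻¹ * z * z = z⁻¹ * (u⁻¹ * z) * z⁻¹⁻¹ by group, hFc,
        show (z⁻¹ * (u⁻¹ * z) * z⁻¹⁻¹)⁻¹ * z = (z⁻¹ * z⁻¹) * u * (z⁻¹ * z⁻¹)⁻¹ by
          simp only [mul_inv_rev, inv_inv, mul_assoc], hFc]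
      exact mul_comm _ _
    have h0 : red hP (conv F F z) = 0 := (red_eq_zero_iff hP (memLI_memLR (hsq z))).2 (hsq z)
    have hconv : conv F F z = ∑ u : G, h u := rfl
    rw [hconv, red_sum hP _ _ fun u _ => hhR u,
      ← Finset.add_sum_erase _ _ (Finset.mem_univ x)] at h0
    have h2 : (2 : Res hP) = 0 := by
      have := charP_res hP hM
      exact_mod_cast CharP.cast_eq_zero (Res hP) 2
    have hrest : ∑ u ∈ Finset.univ.erase x, red hP (h u) = 0 := by
      have hτx : τ x = x := by
        simp only [τ, z]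
        calc x⁻¹⁻¹ * x⁻¹ * x⁻¹ * x⁻¹ = (x ^ 3)⁻¹ * x := by rw [pow_three]; group
          _ = x := by rw [show x ^ 3 = 1 from hx3.1 ▸ pow_orderOf_eq_one x]; simp
      refine Finset.sum_involution (fun u _ => τ u) (fun u _ => ?_) (fun u hu hne he => ?_)
        (fun u hu => ?_) fun u _ => hτ u
      · rw [hhτ, ← two_mul, h2, zero_mul]
      · refine hne ?_
        by_cases hh : h u = 0
        · rw [hh, red_zero]
        exfalso
        obtain ⟨hu1, hu2⟩ := ne_zero_and_ne_zero_of_mul hh
        have hfu := hsupp _ hu1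
        have hfv := hsupp _ hu2
        have e := freeThree_factor (v := u⁻¹ * z) hfu (hfv.1 ▸ pow_orderOf_eq_one _) hz3
          (by group) (by
            conv_lhs => rw [← he]
            simp only [τ]; group)
        have hzu : z = u * u := (inv_mul_eq_iff_eq_mul.1 e)
        refine (Finset.mem_erase.1 hu).1 ?_
        show u = x
        rw [← inv_inv x, show x⁻¹ = u * u from hzu]
        refine eq_inv_of_mul_eq_one_left ?_
        rw [← pow_three]
        exact hfu.1 ▸ pow_orderOf_eq_one u
      · refine Finset.mem_erase.2 ⟨fun e => (Finset.mem_erase.1 hu).1 ?_, Finset.mem_univ _⟩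
        rw [← hτ u, e, hτx]
    rw [hrest, add_zero] at h0
    have e : h x = F x * F x := by
      simp only [h, z]
      congr 2
      calc x⁻¹ * x⁻¹ = (x ^ 3)⁻¹ * x := by rw [pow_three]; group
        _ = x := by rw [show x ^ 3 = 1 from hx3.1 ▸ pow_orderOf_eq_one x]; simp
    rw [e, red_mul hP (hFR x) (hFR x), hFx, hA] at h0
    exact mul_self_eq_zero.1 h0
  have := LinearMap.finrank_le_finrank_of_injective hL
  rw [Module.finrank_pi, Module.finrank_pi] at this
  rwa [Nat.card_eq_fintype_card, Nat.card_eq_fintype_card]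

end Cfsg.Agent.Char
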