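import Cfsg.Agent.Lib.Char.OneBlock
import Cfsg.Agent.Lib.Fusion.Cores
import Cfsg.Agent.Lib.Solv.Coprime
import Cfsg.Agent.Lib.Solv.PSolvHall

/-!
# When does a Sylow `p`-subgroup normalize a Sylow `q`-subgroup
-/

set_option autoImplicit false
set_option linter.unusedSectionVars false
set_option linter.style.haveILetI false

namespace Cfsg.Agent.Char

open Cfsg
open scoped Pointwise
open Cfsg.Agent.Solv (IsSylIn)

universe u

variable {G : Type u} [Group G] [Finite G] {p q : ℕ} [hp : Fact p.Prime] [hq : Fact q.Prime]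

theorem coprime_of_pGroups (hpq : p ≠ q) {G' : Type*} [Group G'] [Finite G'] {A B : Subgroup G'}
    (hA : IsPGroup p A) (hB : IsPGroup q B) : (Nat.card A).Coprime (Nat.card B) :=
  IsPGroup.coprime_card_of_ne p q hpq A B hA hB

/-- A subgroup whose index is prime to `p` contains a Sylow subgroup. -/
theorem exists_sylow_le {H : Subgroup G} (hH : ¬ p ∣ H.index) :
    ∃ P : Sylow p G, (P : Subgroup G) ≤ H := by
  obtain ⟨S⟩ := (inferInstance : Nonempty (Sylow p H))
  have hi : ¬ p ∣ ((S : Subgroup H).map H.subtype).index := fun hd => by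
    rw [Subgroup.index_map_subtype] at hd
    rcases hp.out.dvd_mul.mp hd with h | h
    · exact S.not_dvd_index h
    · exact hH h
  refine ⟨(S.isPGroup'.map H.subtype).toSylow hi, ?_⟩
  rw [IsPGroup.toSylow_coe]
  exact Subgroup.map_subtype_le _

/-- Frattini: a Sylow `q`-subgroup inside a normal `p'`-subgroup is normalized by a Sylow `p`. -/
theorem exists_normalizing_of_le {K : Subgroup G} [K.Normal] (hK : (Nat.card K).Coprime p)
    (Q : Sylow q G) (hQ : (Q : Subgroup G) ≤ K) :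
    ∃ P : Sylow p G, (P : Subgroup G) ≤ Subgroup.normalizer ((Q : Subgroup G) : Set G) := by
  refine exists_sylow_le fun hd => ?_
  set N := Subgroup.normalizer ((Q : Subgroup G) : Set G) with hN
  have hmap : ((Q.subtype hQ : Sylow q K) : Subgroup K).map K.subtype = (Q : Subgroup G) := by
    rw [Sylow.coe_subtype, Subgroup.map_subgroupOf_eq_of_le hQ]
  have htop : N ⊔ K = ⊤ := by
    have h := Sylow.normalizer_sup_eq_top (Q.subtype hQ)
    rwa [hmap] at h
  have hmapN : N.map (QuotientGroup.mk' K) = ⊤ := by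
    rw [← Subgroup.comap_injective (QuotientGroup.mk'_surjective K) |>.eq_iff,
      Subgroup.comap_map_eq, QuotientGroup.ker_mk', htop, Subgroup.comap_top]
  have h1 : Nat.card (G ⧸ K) ∣ Nat.card N := by
    have h := Subgroup.card_map_dvd N (QuotientGroup.mk' K)
    rwa [hmapN, Subgroup.card_top] at h
  have h2 : N.index ∣ Nat.card K := by
    obtain ⟨c, hc⟩ := h1
    refine ⟨c, Nat.eq_of_mul_eq_mul_left (Nat.card_pos (α := G ⧸ K)) ?_⟩
    calc Nat.card (G ⧸ K) * Nat.card K = Nat.card G := by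
            rw [← Subgroup.index_eq_card, Subgroup.index_mul_card]
      _ = N.index * Nat.card N := (Subgroup.index_mul_card N).symm
      _ = _ := by rw [hc]; ring
  exact hp.out.ne_one (Nat.eq_one_of_dvd_coprimes hK (hd.trans h2) dvd_rfl)

/-- A `q`-element centralizing `O_p` modulo the core lies in the core. -/
theorem mem_core_of_mk_centralizes (hG : IsPSolvable p G) (hpq : p ≠ q) {y : G}
    (hy : ∃ k, orderOf y = q ^ k)
    (h : ∀ r ∈ pCore p (G ⧸ pPrimeCore p G),
      r * QuotientGroup.mk y = QuotientGroup.mk y * r) : y ∈ pPrimeCore p G := by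
  have hc := centralizer_pCore_le_of_pSolvable
    (Cfsg.Agent.Solv.isPSolvable_map hp.out hG _ (QuotientGroup.mk'_surjective (pPrimeCore p G)))
    (Cfsg.Agent.Fusion.pPrimeCore_quotient_eq_bot)
  have hm : (QuotientGroup.mk y : G ⧸ pPrimeCore p G) ∈ pCore p (G ⧸ pPrimeCore p G) :=
    hc (Subgroup.mem_centralizer_iff.mpr h)
  rw [← QuotientGroup.eq_one_iff, ← orderOf_eq_one_iff]
  obtain ⟨a, ha⟩ := (Cfsg.Agent.Fusion.isPGroup_pCore p (G ⧸ pPrimeCore p G)).exists_card_eq
  obtain ⟨k, hk⟩ := hy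
  refine Nat.eq_one_of_dvd_coprimes (Nat.coprime_pow_primes a k hp.out hq.out hpq)
    (ha ▸ Subgroup.orderOf_dvd_natCard _ hm) ?_
  rw [← hk]
  exact orderOf_map_dvd (QuotientGroup.mk' _) y

/-- If a Sylow `p` normalizes a Sylow `q`, the latter lies in the `p'`-core. -/
theorem le_core_of_normalizes (hG : IsPSolvable p G) (hpq : p ≠ q) (P : Sylow p G) (Q : Sylow q G)
    (h : (P : Subgroup G) ≤ Subgroup.normalizer ((Q : Subgroup G) : Set G)) :
    (Q : Subgroup G) ≤ pPrimeCore p G := by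
  set π := QuotientGroup.mk' (pPrimeCore p G) with hπ
  intro y hy
  have hyo : ∃ k, orderOf y = q ^ k := by
    obtain ⟨k, hk⟩ := IsPGroup.iff_orderOf.mp Q.isPGroup' ⟨y, hy⟩
    exact ⟨k, by rw [← hk, ← Subgroup.orderOf_coe]⟩
  refine mem_core_of_mk_centralizes hG hpq hyo fun r hr => ?_
  haveI : (pCore p (G ⧸ pPrimeCore p G)).Normal := Cfsg.Agent.Solv.pCore_normal p
  have hRP := Cfsg.Agent.Fusion.pCore_le_sylow (P.mapSurjective (QuotientGroup.mk'_surjective (pPrimeCore p G)))
  obtain ⟨x, hx, hxr⟩ := Subgroup.mem_map.mp (show r ∈ (P : Subgroup G).map π from hRP hr)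
  have h1 : r * π y * r⁻¹ * (π y)⁻¹ ∈ (Q : Subgroup G).map π := by
    rw [← hxr, ← map_inv, ← map_inv, ← map_mul, ← map_mul, ← map_mul]
    exact Subgroup.mem_map_of_mem π
      (mul_mem ((Subgroup.mem_normalizer_iff.mp (h hx) y).mp hy) (inv_mem hy))
  have h2 : r * π y * r⁻¹ * (π y)⁻¹ ∈ pCore p (G ⧸ pPrimeCore p G) := by
    rw [show r * π y * r⁻¹ * (π y)⁻¹ = r * (π y * r⁻¹ * (π y)⁻¹) by group]
    exact mul_mem hr (Subgroup.Normal.conj_mem inferInstance _ (inv_mem hr) _)
  have h3 := Cfsg.Agent.Solv.coprime_inf (coprime_of_pGroups hpq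
    (Cfsg.Agent.Fusion.isPGroup_pCore p (G ⧸ pPrimeCore p G)) (Q.isPGroup'.map π))
  have h4 : r * π y * r⁻¹ * (π y)⁻¹ = 1 := Subgroup.mem_bot.mp (h3 ▸ ⟨h2, h1⟩)
  have h5 : r * π y * r⁻¹ = π y := mul_inv_eq_one.mp h4
  exact mul_inv_eq_iff_eq_mul.mp h5

theorem exists_normalizing_iff (hG : IsPSolvable p G) (hpq : p ≠ q) :
    (∃ (P : Sylow p G) (Q : Sylow q G),
      (P : Subgroup G) ≤ Subgroup.normalizer ((Q : Subgroup G) : Set G)) ↔
      ¬ q ∣ (pPrimeCore p G).index := by
  haveI : (pPrimeCore p G).Normal := Cfsg.Agent.Solv.pPrimeCore_normal p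
  constructor
  · rintro ⟨P, Q, h⟩ hd
    exact Q.not_dvd_index (hd.trans (Subgroup.index_dvd_of_le (le_core_of_normalizes hG hpq P Q h)))
  · intro hn
    obtain ⟨Q, hQ⟩ := exists_sylow_le (p := q) hn
    obtain ⟨P, hP⟩ := exists_normalizing_of_le (Cfsg.Agent.Fusion.card_pPrimeCore_coprime p G) Q hQ
    exact ⟨P, Q, hP⟩

/-- `p`-solvable case: every `q`-element centralized by a Sylow `p`. -/
theorem le_core_of_class_sizes (hG : IsPSolvable p G) (hpq : p ≠ q)
    (h : ∀ y : G, (∃ k, orderOf y = q ^ k) →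
      ¬ p ∣ (Subgroup.centralizer ({y} : Set G)).index) (Q : Sylow q G) :
    (Q : Subgroup G) ≤ pPrimeCore p G := by
  intro y hy
  have hyo : ∃ k, orderOf y = q ^ k := by
    obtain ⟨k, hk⟩ := IsPGroup.iff_orderOf.mp Q.isPGroup' ⟨y, hy⟩
    exact ⟨k, by rw [← hk, ← Subgroup.orderOf_coe]⟩
  refine mem_core_of_mk_centralizes hG hpq hyo fun r hr => ?_
  obtain ⟨P, hP⟩ := exists_sylow_le (h y hyo)
  have hRP := Cfsg.Agent.Fusion.pCore_le_sylow
    (P.mapSurjective (QuotientGroup.mk'_surjective (pPrimeCore p G)))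
  obtain ⟨x, hx, rfl⟩ := Subgroup.mem_map.mp
    (show r ∈ (P : Subgroup G).map (QuotientGroup.mk' (pPrimeCore p G)) from hRP hr)
  have := Subgroup.mem_centralizer_singleton_iff.mp (hP hx)
  simp only [QuotientGroup.mk'_apply, ← QuotientGroup.mk_mul, this]

theorem relIndex_dvd_index (C N : Subgroup G) [N.Normal] : C.relIndex N ∣ C.index := by
  have h1 := Cfsg.Agent.Solv.card_sup_mul_card_inf' N C
    (by rw [Subgroup.normalizer_eq_top_iff.mpr ‹N.Normal›]; exact le_top)
  have h2 := Subgroup.relIndex_mul_relIndex ⊥ C (N ⊔ C) bot_le le_sup_right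
  have h3 := Subgroup.relIndex_mul_relIndex ⊥ (N ⊓ C) N bot_le inf_le_left
  rw [Subgroup.relIndex_bot_left, Subgroup.relIndex_bot_left] at h2 h3
  rw [Subgroup.inf_relIndex_left] at h3
  rw [← h2, ← h3] at h1
  have h4 : C.relIndex (N ⊔ C) = C.relIndex N :=
    Nat.eq_of_mul_eq_mul_left (mul_pos (Nat.card_pos (α := C))
      (Nat.card_pos (α := (N ⊓ C : Subgroup G)))) (by linarith)
  rw [← h4]
  exact ⟨_, (Subgroup.relIndex_mul_index le_sup_right).symm⟩

/-- A `q`-group centralizes a Sylow `p` of a `q'`-group when each element does. -/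
theorem exists_centralized_sylow (N : Subgroup G) [N.Normal] (Q : Subgroup G) (hQ : IsPGroup q Q)
    (hN : (Nat.card N).Coprime q)
    (h : ∀ y ∈ Q, ¬ p ∣ (N ⊓ Subgroup.centralizer ({y} : Set G)).relIndex N) :
    ∃ P₀ : Subgroup G, IsSylIn p P₀ N ∧ P₀ ≤ Subgroup.centralizer (Q : Set G) := by
  have hnorm : ∀ A : Subgroup G, A ≤ Subgroup.normalizer (N : Set G) := fun A => by
    rw [Subgroup.normalizer_eq_top_iff.mpr ‹N.Normal›]; exact le_top
  obtain ⟨a, ha⟩ := hQ.exists_card_eq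
  have hco : (Nat.card Q).Coprime (Nat.card N) := ha ▸ (hN.symm.pow_left a)
  haveI := hQ.isNilpotent
  obtain ⟨P₀, hP₀, hQP₀⟩ := Cfsg.Agent.Solv.exists_invariant_sylow (A := Q) (K := N) (hnorm Q) hco
    (Or.inl inferInstance) p
  refine ⟨P₀, hP₀, fun x hx => Subgroup.mem_centralizer_iff.mpr fun y hy => ?_⟩
  set A := Subgroup.zpowers y with hA
  have hAQ : A ≤ Q := Subgroup.zpowers_le.mpr hy
  obtain ⟨P₁, hP₁⟩ := Cfsg.Agent.Solv.exists_isSylIn p (N ⊓ Subgroup.centralizer ({y} : Set G))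
  have hP₁N : IsSylIn p P₁ N := by
    refine ⟨hP₁.1.trans inf_le_left, ?_⟩
    rw [hP₁.2]
    congr 1
    have hm := Subgroup.relIndex_mul_relIndex ⊥ (N ⊓ Subgroup.centralizer ({y} : Set G)) N bot_le
      inf_le_left
    rw [Subgroup.relIndex_bot_left, Subgroup.relIndex_bot_left] at hm
    have h0 : (N ⊓ Subgroup.centralizer ({y} : Set G)).relIndex N ≠ 0 := fun h0 =>
      h y hy (h0 ▸ dvd_zero p)
    rw [← hm, Nat.factorization_mul Nat.card_pos.ne' h0, Finsupp.add_apply,
      Nat.factorization_eq_zero_of_not_dvd (h y hy), add_zero]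
  have hP₁A : A ≤ Subgroup.normalizer (P₁ : Set G) := by
    rw [hA, Subgroup.zpowers_le, Subgroup.mem_normalizer_iff]
    intro z
    constructor
    · intro hz
      have := Subgroup.mem_centralizer_singleton_iff.mp (hP₁.1 hz).2
      rwa [← this, mul_inv_cancel_right]
    · intro hz
      have := Subgroup.mem_centralizer_singleton_iff.mp (hP₁.1 hz).2
      rw [inv_mul_cancel_right] at this
      rw [mul_left_cancel this]
      exact hz
  obtain ⟨c, hc, hcP⟩ := Cfsg.Agent.Solv.invariant_sylow_conj (A := A) (K := N) (hnorm A)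
    (hco.coprime_dvd_left (Subgroup.card_dvd_of_le hAQ))
    (Or.inl inferInstance) hP₁N hP₀ hP₁A (hAQ.trans hQP₀)
  rw [← hcP, Cfsg.Agent.Solv.mem_conj_smul] at hx
  have h1 := Subgroup.mem_centralizer_singleton_iff.mp (hP₁.1 hx).2
  have h2 : y * c = c * y := Subgroup.mem_centralizer_iff.mp hc.2 y (Subgroup.mem_zpowers y)
  have h3 : Commute c y := h2.symm
  have h4 : Commute (c⁻¹ * x * c) y := h1
  have h5 := (h3.mul_left h4).mul_left h3.inv_left
  rw [show c * (c⁻¹ * x * c) * c⁻¹ = x by group] at h5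
  exact h5.eq.symm

/-- `q`-solvable case: some Sylow `p` normalizes some Sylow `q`. -/
theorem exists_normalizing_of_class_sizes (hpq : p ≠ q) :
    ∀ (k : ℕ) {G : Type u} [Group G] [Finite G], Nat.card G = k → IsPSolvable q G →
      (∀ y : G, (∃ k, orderOf y = q ^ k) → ¬ p ∣ (Subgroup.centralizer ({y} : Set G)).index) →
      ∃ (P : Sylow p G) (Q : Sylow q G),
        (P : Subgroup G) ≤ Subgroup.normalizer ((Q : Subgroup G) : Set G) := by
  intro k
  induction k using Nat.strong_induction_on with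
  | _ k ih =>
  intro G _ _ hk hsolv h
  rcases subsingleton_or_nontrivial G with hs | hnt
  · obtain ⟨P⟩ := (inferInstance : Nonempty (Sylow p G))
    obtain ⟨Q⟩ := (inferInstance : Nonempty (Sylow q G))
    exact ⟨P, Q, fun x _ => by rw [Subsingleton.elim x 1]; exact one_mem _⟩
  obtain ⟨N, hNn, hN0, hNtype⟩ := Cfsg.Agent.Solv.exists_normal_pgroup_or_coprime hsolv
  haveI := hNn
  set π := QuotientGroup.mk' N with hπ
  have hπs : Function.Surjective π := QuotientGroup.mk'_surjective N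
  have hlt : Nat.card (G ⧸ N) < k := by
    rw [← hk, ← Subgroup.index_eq_card, ← N.index_mul_card]
    exact lt_mul_of_one_lt_right (Nat.pos_of_ne_zero Subgroup.index_ne_zero_of_finite)
      (by rwa [Subgroup.one_lt_card_iff_ne_bot])
  obtain ⟨P', Q', hP'Q'⟩ := ih _ hlt rfl (Cfsg.Agent.Solv.isPSolvable_map hq.out hsolv π hπs)
    fun yb hyb => by
      obtain ⟨T, hT⟩ : ∃ T : Sylow q (G ⧸ N), yb ∈ (T : Subgroup (G ⧸ N)) := by
        obtain ⟨k, hk⟩ := hyb
        obtain ⟨T, hT⟩ := (IsPGroup.of_card (n := k)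
          ((Nat.card_zpowers yb).trans hk) : IsPGroup q (Subgroup.zpowers yb)).exists_le_sylow
        exact ⟨T, hT (Subgroup.mem_zpowers yb)⟩
      obtain ⟨S, rfl⟩ := Sylow.mapSurjective_surjective hπs q T
      obtain ⟨y, hy, rfl⟩ := Subgroup.mem_map.mp hT
      have hyo : ∃ k, orderOf y = q ^ k := by
        obtain ⟨k, hk⟩ := IsPGroup.iff_orderOf.mp S.isPGroup' ⟨y, hy⟩
        exact ⟨k, by rw [← hk, ← Subgroup.orderOf_coe]⟩
      intro hd
      refine h y hyo (hd.trans (dvd_trans ?_ (Subgroup.index_map_dvd _ hπs)))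
      refine Subgroup.index_dvd_of_le ?_
      rintro _ ⟨c, hc, rfl⟩
      rw [Subgroup.mem_centralizer_singleton_iff, ← map_mul, ← map_mul,
        Subgroup.mem_centralizer_singleton_iff.mp hc]
  obtain ⟨P, rfl⟩ := Sylow.mapSurjective_surjective hπs p P'
  obtain ⟨Q, rfl⟩ := Sylow.mapSurjective_surjective hπs q Q'
  have hPQ : ∀ x ∈ (P : Subgroup G), ∀ y ∈ (Q : Subgroup G),
      x * y * x⁻¹ ∈ (Q : Subgroup G) ⊔ N := fun x hx y hy => by
    have h1 := (Subgroup.mem_normalizer_iff.mp (hP'Q' (Subgroup.mem_map_of_mem π hx)) (π y)).mp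
      (Subgroup.mem_map_of_mem π hy)
    rw [← map_inv, ← map_mul, ← map_mul] at h1
    have h2 : x * y * x⁻¹ ∈ ((Q : Subgroup G).map π).comap π := h1
    rwa [Subgroup.comap_map_eq, hπ, QuotientGroup.ker_mk'] at h2
  rcases hNtype with hNq | hNc
  · have hsup : (Q : Subgroup G) ⊔ N = Q := sup_eq_left.mpr (hNq.le_sylow_of_normal Q)
    refine ⟨P, Q, fun x hx => Subgroup.mem_normalizer_iff.mpr fun y => ⟨fun hy => ?_, fun hy => ?_⟩⟩
    · have := hPQ x hx y hy; rwa [hsup] at this
    · have := hPQ x⁻¹ (inv_mem hx) _ hy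
      rwa [hsup, inv_inv, show x⁻¹ * (x * y * x⁻¹) * x = y by group] at this
  · obtain ⟨P₀, hP₀, hP₀c⟩ := exists_centralized_sylow (p := p) N (Q : Subgroup G) Q.isPGroup' hNc
      fun y hy hd => by
        have hyo : ∃ k, orderOf y = q ^ k := by
          obtain ⟨k, hk⟩ := IsPGroup.iff_orderOf.mp Q.isPGroup' ⟨y, hy⟩
          exact ⟨k, by rw [← hk, ← Subgroup.orderOf_coe]⟩
        rw [Subgroup.inf_relIndex_left] at hd
        exact h y hyo (hd.trans
          (relIndex_dvd_index (Subgroup.centralizer ({y} : Set G)) N))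
    set NQ := Subgroup.normalizer ((Q : Subgroup G) : Set G) with hNQ
    have hQsyl : IsSylIn q (Q : Subgroup G) ((Q : Subgroup G) ⊔ N) := by
      refine ⟨le_sup_left, ?_⟩
      rw [Sylow.card_eq_multiplicity]
      congr 1
      refine le_antisymm ?_
        ((Nat.factorization_le_iff_dvd Nat.card_pos.ne' Nat.card_pos.ne').mpr
          (Subgroup.card_subgroup_dvd_card _) q)
      exact (hq.out.pow_dvd_iff_le_factorization Nat.card_pos.ne').mp
        (Sylow.card_eq_multiplicity Q ▸ Subgroup.card_dvd_of_le le_sup_left)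
    have hPNQ : (P : Subgroup G).map π ≤ NQ.map π := by
      rintro _ ⟨x, hx, rfl⟩
      obtain ⟨l, hl, hlQ⟩ := hQsyl.exists_conj (Q := MulAut.conj x • (Q : Subgroup G))
        ⟨fun z hz => by
            rw [Cfsg.Agent.Solv.mem_conj_smul] at hz
            have := hPQ x hx _ hz
            rwa [show x * (x⁻¹ * z * x) * x⁻¹ = z by group] at this,
          by rw [Cfsg.Agent.Solv.card_conj_smul]; exact hQsyl.2⟩
      rw [sup_comm, ← SetLike.mem_coe, Subgroup.normal_mul] at hl
      obtain ⟨n, hn, u, hu, rfl⟩ := hl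
      refine ⟨n⁻¹ * x, Cfsg.Agent.Solv.mem_normalizer_of_conj_smul ?_, ?_⟩
      · rw [← Cfsg.Agent.Solv.conj_smul_conj, ← hlQ, Cfsg.Agent.Solv.conj_smul_conj,
          inv_mul_cancel_left, Subgroup.conj_smul_eq_self_of_mem hu]
      · rw [map_mul, map_inv, show π n = 1 from (QuotientGroup.eq_one_iff n).mpr hn, inv_one,
          one_mul]
    have hcard : Nat.card ↥(N ⊓ NQ : Subgroup G) * Nat.card (NQ.map π) = Nat.card NQ := by
      have h1 := Subgroup.relIndex_ker (f := π) (K := NQ)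
      rw [hπ, QuotientGroup.ker_mk'] at h1
      have h2 := Subgroup.relIndex_mul_relIndex ⊥ (N ⊓ NQ) NQ bot_le inf_le_right
      rw [Subgroup.relIndex_bot_left, Subgroup.relIndex_bot_left, Subgroup.inf_relIndex_right] at h2
      rw [← h2, hπ, ← h1]
    have hd1 : p ^ (Nat.card N).factorization p ∣ Nat.card ↥(N ⊓ NQ : Subgroup G) :=
      hP₀.2 ▸ Subgroup.card_dvd_of_le (le_inf hP₀.1
        (hP₀c.trans (Subgroup.centralizer_le_normalizer _)))
    have hd2 : p ^ (Nat.card (G ⧸ N)).factorization p ∣ Nat.card (NQ.map π) := by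
      rw [← Sylow.card_eq_multiplicity (P.mapSurjective hπs)]
      exact Subgroup.card_dvd_of_le hPNQ
    have hd : p ^ (Nat.card G).factorization p ∣ Nat.card NQ := by
      rw [← Subgroup.index_mul_card N, Subgroup.index_eq_card, Nat.factorization_mul
        Nat.card_pos.ne' Nat.card_pos.ne', Finsupp.add_apply, pow_add, ← hcard, mul_comm]
      exact mul_dvd_mul hd1 hd2
    obtain ⟨R, hR⟩ := exists_sylow_le (p := p) (H := NQ) fun hi => by
      have : p ^ ((Nat.card G).factorization p + 1) ∣ Nat.card G := by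
        rw [pow_succ']
        exact (mul_dvd_mul hi hd).trans (dvd_of_eq (Subgroup.index_mul_card NQ))
      exact Nat.pow_succ_factorization_not_dvd Nat.card_pos.ne' hp.out this
    exact ⟨R, Q, hR⟩

end Cfsg.Agent.Char
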