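import Cfsg.Agent.Lib.Char.Convolution
import Cfsg.Agent.Lib.Char.Central
import Cfsg.Agent.Lib.Char.SylowNormalizes
import Mathlib.RingTheory.IntegralClosure.IsIntegral.Basic

/-!
# Products of two conjugates and characters of `p`-defect zero
-/

set_option autoImplicit false
set_option linter.unusedSectionVars false
set_option linter.style.haveILetI false

namespace Cfsg.Agent.Char

open Cfsg
open scoped ComplexConjugate Pointwise

universe u

variable {G : Type u} [Group G] [Fintype G] {p q : ℕ} [hp : Fact p.Prime] [hq : Fact q.Prime]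

theorem isIntegral_natC (n : ℕ) : IsIntegral ℤ (n : ℂ) := by
  simpa using isIntegral_algebraMap (R := ℤ) (A := ℂ) (x := (n : ℤ))

theorem sum_irr_eq_zero_of_no_product (z u : G)
    (h : ∀ t : G, ¬ IsConj (z * (t * z⁻¹ * t⁻¹)) u) :
    ∑ χ : IrrCharacter G, (χ : G → ℂ) z * (χ : G → ℂ) z⁻¹ * conj ((χ : G → ℂ) u) /
      (χ : G → ℂ) 1 = 0 := by
  have hG : (Nat.card G : ℂ) ≠ 0 := Nat.cast_ne_zero.mpr Nat.card_pos.ne'
  refine (mul_eq_zero.mp ?_).resolve_left hG
  rw [Finset.mul_sum]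
  calc ∑ χ : IrrCharacter G, (Nat.card G : ℂ) * ((χ : G → ℂ) z * (χ : G → ℂ) z⁻¹ *
        conj ((χ : G → ℂ) u) / (χ : G → ℂ) 1)
      = ∑ χ : IrrCharacter G, (∑ t : G, (χ : G → ℂ) (z * (t * z⁻¹ * t⁻¹))) *
          conj ((χ : G → ℂ) u) := Finset.sum_congr rfl fun χ _ => by
        have h1 := sum_conj_mul χ.2 z z⁻¹
        have h2 := irr_one_ne_zero χ.2
        field_simp
        linear_combination (-(conj ((χ : G → ℂ) u))) * h1
    _ = ∑ t : G, ∑ χ : IrrCharacter G,
          (χ : G → ℂ) (z * (t * z⁻¹ * t⁻¹)) * conj ((χ : G → ℂ) u) := by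
        simp only [Finset.sum_mul]
        exact Finset.sum_comm
    _ = 0 := Finset.sum_eq_zero fun t _ => by rw [second_orth, if_neg (h t)]

/-- Either a character of `p`-defect zero exists, or every element with `p'`-centralizer gives a
nontrivial `p`-element as a product of a conjugate and an inverse conjugate. -/
theorem defect_zero_or_product (z : G) (hz : ¬ p ∣ Nat.card (Subgroup.centralizer ({z} : Set G)))
    (P : Sylow p G) :
    (∃ χ : IrrCharacter G,
      (charDegree (χ : G → ℂ)).factorization p = (Nat.card G).factorization p) ∨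
    ∃ u ∈ (P : Subgroup G), u ≠ 1 ∧ ∃ g h : G, IsConj z g ∧ IsConj z h ∧ g * h⁻¹ = u := by
  classical
  by_contra hno
  obtain ⟨hdz, hprod⟩ := not_or.mp hno
  haveI := Fintype.ofFinite (P : Subgroup G)
  have hzero : ∀ u : (P : Subgroup G), u ≠ 1 → ∀ t : G, ¬ IsConj (z * (t * z⁻¹ * t⁻¹)) (u : G) :=
    fun u hu t hc => by
      obtain ⟨c, hc⟩ := isConj_iff.mp hc
      refine hprod ⟨u, u.2, fun h => hu (Subtype.ext h), c * z * c⁻¹, (c * t) * z * (c * t)⁻¹,
        isConj_iff.mpr ⟨c, rfl⟩, isConj_iff.mpr ⟨c * t, rfl⟩, ?_⟩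
      rw [← hc]; group
  have hP : IsPGroup p (P : Subgroup G) := P.isPGroup'
  choose m hm using fun χ : IrrCharacter G => classInner_natCast
    (irr_isCharacter (isIrrCharacter_one (G := (P : Subgroup G))))
    (isCharacter_comp (P : Subgroup G).subtype (irr_isCharacter χ.2))
  have hmS : ∀ χ : IrrCharacter G,
      ∑ u : (P : Subgroup G), conj ((χ : G → ℂ) u) = (Nat.card (P : Subgroup G) : ℂ) * (m χ : ℂ) :=
    fun χ => by
      have h := hm χ
      simp only [classInner, one_mul, Function.comp_apply, Subgroup.coe_subtype] at h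
      rw [← h, ← mul_assoc, mul_inv_cancel₀ (Nat.cast_ne_zero.mpr Nat.card_pos.ne'), one_mul]
  have hCz : ∑ χ : IrrCharacter G, (χ : G → ℂ) z * (χ : G → ℂ) z⁻¹ =
      (Nat.card (Subgroup.centralizer ({z} : Set G)) : ℂ) := by
    rw [Finset.sum_congr rfl fun χ _ => by rw [char_inv (irr_isCharacter χ.2)], second_orth,
      if_pos (IsConj.refl z), div_eq_iff (Nat.cast_ne_zero.mpr (card_conjClass_ne_zero z)),
      ← Nat.cast_mul, mul_comm, card_conjClass_mul_centralizer]
  have hsum : (Nat.card (P : Subgroup G) : ℂ) * ∑ χ : IrrCharacter G,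
      (χ : G → ℂ) z * (χ : G → ℂ) z⁻¹ * (m χ : ℂ) / (χ : G → ℂ) 1 =
      (Nat.card (Subgroup.centralizer ({z} : Set G)) : ℂ) := by
    rw [Finset.mul_sum]
    calc _ = ∑ u : (P : Subgroup G), ∑ χ : IrrCharacter G,
          (χ : G → ℂ) z * (χ : G → ℂ) z⁻¹ * conj ((χ : G → ℂ) u) / (χ : G → ℂ) 1 := by
          rw [Finset.sum_comm]
          refine Finset.sum_congr rfl fun χ _ => ?_
          rw [← Finset.sum_div, ← Finset.mul_sum, hmS]
          ring
      _ = _ := by
          rw [Finset.sum_eq_single (1 : (P : Subgroup G))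
            (fun u _ hu => sum_irr_eq_zero_of_no_product z u (hzero u hu)) (by simp), ← hCz]
          refine Finset.sum_congr rfl fun χ _ => ?_
          rw [OneMemClass.coe_one, conj_char_one (irr_isCharacter χ.2),
            mul_div_cancel_right₀ _ (irr_one_ne_zero χ.2)]
  have he : ∀ χ : IrrCharacter G, ∃ e : ℕ, deg (χ : G → ℂ) * (p * e) = Nat.card G := fun χ => by
    obtain ⟨c, hc⟩ := deg_dvd_card χ.2
    have hc0 : c ≠ 0 := fun h0 => Nat.card_pos.ne' (by rw [hc, h0, mul_zero])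
    obtain ⟨e, rfl⟩ : p ∣ c := by
      by_contra hd
      exact hdz ⟨χ, by
        show (deg (χ : G → ℂ)).factorization p = _
        rw [hc, Nat.factorization_mul (deg_pos χ.2).ne' hc0, Finsupp.add_apply,
          Nat.factorization_eq_zero_of_not_dvd hd, add_zero]⟩
    exact ⟨e, hc.symm⟩
  choose e he using he
  set β := ∑ χ : IrrCharacter G, (χ : G → ℂ) z * (χ : G → ℂ) z⁻¹ * (m χ : ℂ) * (e χ : ℂ) with hβ
  have hβi : IsIntegral ℤ β := IsIntegral.sum _ fun χ _ =>
    (((char_isIntegral (irr_isCharacter χ.2) _).mul (char_isIntegral (irr_isCharacter χ.2) _)).mul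
      (isIntegral_natC _)).mul (isIntegral_natC _)
  have hkey : (Nat.card (P : Subgroup G) : ℂ) * ((p : ℂ) * β) =
      (Nat.card (Subgroup.centralizer ({z} : Set G)) : ℂ) * (Nat.card G : ℂ) := by
    rw [← hsum, mul_assoc, Finset.sum_mul, hβ, Finset.mul_sum]
    congr 1
    refine Finset.sum_congr rfl fun χ _ => ?_
    rw [← he χ, char_one_eq_deg (irr_isCharacter χ.2)]
    push_cast
    have : (deg (χ : G → ℂ) : ℂ) ≠ 0 := Nat.cast_ne_zero.mpr (deg_pos χ.2).ne'
    field_simp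
  set a := Nat.card (Subgroup.centralizer ({z} : Set G)) * (P : Subgroup G).index with ha
  have hβr : ((a : ℚ) / p : ℚ) = β := by
    have h1 : (p : ℂ) ≠ 0 := Nat.cast_ne_zero.mpr hp.out.ne_zero
    have h2 : (Nat.card (P : Subgroup G) : ℂ) ≠ 0 := Nat.cast_ne_zero.mpr Nat.card_pos.ne'
    rw [← (P : Subgroup G).index_mul_card, Nat.cast_mul] at hkey
    rw [ha]; push_cast
    field_simp
    refine mul_right_cancel₀ h2 ?_
    linear_combination -hkey
  obtain ⟨b, hb⟩ := isIntegral_rat_cast_imp (hβr ▸ hβi)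
  have hbz : (a : ℤ) = b * p := by
    have : (a : ℚ) = (b : ℚ) * p := by
      rw [hb, div_mul_cancel₀ _ (Nat.cast_ne_zero.mpr hp.out.ne_zero)]
    exact_mod_cast this
  have hdvd : p ∣ a := Int.natCast_dvd_natCast.mp ⟨b, by rw [hbz, mul_comm]⟩
  rcases hp.out.dvd_mul.mp hdvd with h | h
  · exact hz h
  · exact P.not_dvd_index h

theorem not_dvd_centralizer (hC : ∀ g : G, g ≠ 1 → (∃ k : ℕ, orderOf g = p ^ k) →
      ¬ q ∣ Nat.card (Subgroup.centralizer ({g} : Set G))) {z : G} (hz1 : z ≠ 1)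
    (hz : ∃ k : ℕ, orderOf z = q ^ k) : ¬ p ∣ Nat.card (Subgroup.centralizer ({z} : Set G)) := by
  intro hd
  obtain ⟨u, hu⟩ := exists_prime_orderOf_dvd_card' p hd
  rw [← Subgroup.orderOf_coe] at hu
  have hu1 : (u : G) ≠ 1 := fun h => by rw [h, orderOf_one] at hu; exact hp.out.ne_one hu.symm
  refine hC u hu1 ⟨1, by rw [hu, pow_one]⟩ ?_
  obtain ⟨k, hk⟩ := hz
  have hk0 : k ≠ 0 := fun h => hz1 (orderOf_eq_one_iff.mp (by rw [hk, h, pow_zero]))
  refine (dvd_pow_self q hk0).trans ?_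
  rw [← hk]
  refine Subgroup.orderOf_dvd_natCard _ ?_
  rw [Subgroup.mem_centralizer_singleton_iff]
  exact (Subgroup.mem_centralizer_singleton_iff.mp u.2).symm

theorem pq_dichotomy (hC : ∀ g : G, g ≠ 1 → (∃ k : ℕ, orderOf g = p ^ k) →
      ¬ q ∣ Nat.card (Subgroup.centralizer ({g} : Set G))) :
    (∃ χ : IrrCharacter G,
      (charDegree (χ : G → ℂ)).factorization p = (Nat.card G).factorization p) ∨
    ∀ z : G, z ≠ 1 → (∃ k : ℕ, orderOf z = q ^ k) → ∃ g h : G, IsConj z g ∧ IsConj z h ∧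
      g * h⁻¹ ≠ 1 ∧ ∃ k : ℕ, orderOf (g * h⁻¹) = p ^ k := by
  refine or_iff_not_imp_left.mpr fun hdz z hz1 hz => ?_
  obtain ⟨P⟩ := (inferInstance : Nonempty (Sylow p G))
  obtain ⟨u, hu, hu1, g, h, hg, hh, he⟩ :=
    (defect_zero_or_product z (not_dvd_centralizer hC hz1 hz) P).resolve_left hdz
  obtain ⟨k, hk⟩ := IsPGroup.iff_orderOf.mp P.isPGroup' ⟨u, hu⟩
  exact ⟨g, h, hg, hh, he ▸ hu1, k, by rw [he, ← hk, ← Subgroup.orderOf_coe]⟩

/-- In the `p`-solvable case one of the two primes has a defect zero character. -/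
theorem defect_zero_of_pSolvable (hpq : p ≠ q) (hsolv : IsPSolvable p G) (hpG : p ∣ Nat.card G)
    (hC : ∀ g : G, g ≠ 1 → (∃ k : ℕ, orderOf g = p ^ k) →
      ¬ q ∣ Nat.card (Subgroup.centralizer ({g} : Set G))) :
    (∃ χ : IrrCharacter G,
      (charDegree (χ : G → ℂ)).factorization p = (Nat.card G).factorization p) ∨
    (∃ χ : IrrCharacter G,
      (charDegree (χ : G → ℂ)).factorization q = (Nat.card G).factorization q) := by
  by_contra hno
  obtain ⟨hp0, hq0⟩ := not_or.mp hno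
  have hC' : ∀ g : G, g ≠ 1 → (∃ k : ℕ, orderOf g = q ^ k) →
      ¬ p ∣ Nat.card (Subgroup.centralizer ({g} : Set G)) := fun g h1 h2 =>
    not_dvd_centralizer hC h1 h2
  have hA := (pq_dichotomy (p := p) (q := q) hC).resolve_left hp0
  have hB := (pq_dichotomy (p := q) (q := p) hC').resolve_left hq0
  haveI : (pPrimeCore p G).Normal := Cfsg.Agent.Solv.pPrimeCore_normal p
  set K := pPrimeCore p G with hK
  set π := QuotientGroup.mk' K with hπ
  haveI : (pCore p (G ⧸ K)).Normal := Cfsg.Agent.Solv.pCore_normal p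
  have hqK : ∀ w : G, w ∈ K → w ≠ 1 → ∀ k, orderOf w ≠ q ^ k := fun w hw hw1 k hk => by
    obtain ⟨g, h, hg, hh, hne, j, hj⟩ := hA w hw1 ⟨k, hk⟩
    obtain ⟨a, rfl⟩ := isConj_iff.mp hg
    obtain ⟨b, rfl⟩ := isConj_iff.mp hh
    have hmem := mul_mem (Subgroup.Normal.conj_mem ‹K.Normal› _ hw a)
      (inv_mem (Subgroup.Normal.conj_mem ‹K.Normal› _ hw b))
    refine hne (orderOf_eq_one_iff.mp (Nat.eq_one_of_dvd_coprimes
      ((Cfsg.Agent.Fusion.card_pPrimeCore_coprime p G).pow_right j)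
      (Subgroup.orderOf_dvd_natCard K hmem) (dvd_of_eq hj)))
  have hR : pCore p (G ⧸ K) ≠ ⊥ := fun h0 => by
    have hc := centralizer_pCore_le_of_pSolvable
      (Cfsg.Agent.Solv.isPSolvable_map hp.out hsolv π (QuotientGroup.mk'_surjective K))
      (Cfsg.Agent.Fusion.pPrimeCore_quotient_eq_bot)
    rw [h0] at hc
    have htop : K = ⊤ := by
      rw [eq_top_iff]
      intro x _
      rw [← QuotientGroup.eq_one_iff, ← Subgroup.mem_bot]
      exact hc (Subgroup.mem_centralizer_iff.mpr fun y hy => by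
        rw [Subgroup.mem_bot.mp hy, one_mul, mul_one])
    have h1 := Cfsg.Agent.Fusion.card_pPrimeCore_coprime p G
    rw [← hK, htop, Subgroup.card_top] at h1
    exact hp.out.ne_one (Nat.eq_one_of_dvd_coprimes h1 hpG dvd_rfl)
  obtain ⟨r, hr, hr1⟩ : ∃ r ∈ pCore p (G ⧸ K), r ≠ 1 := by
    by_contra h
    push Not at h
    exact hR ((Subgroup.eq_bot_iff_forall _).mpr h)
  obtain ⟨P⟩ := (inferInstance : Nonempty (Sylow p G))
  obtain ⟨x, hx, rfl⟩ := Subgroup.mem_map.mp (show r ∈ (P : Subgroup G).map π from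
    Cfsg.Agent.Fusion.pCore_le_sylow (P.mapSurjective (QuotientGroup.mk'_surjective K)) hr)
  have hx1 : x ≠ 1 := fun h => hr1 (by rw [h, map_one])
  obtain ⟨j, hj⟩ := IsPGroup.iff_orderOf.mp P.isPGroup' ⟨x, hx⟩
  rw [← Subgroup.orderOf_coe] at hj
  obtain ⟨g, h, hg, hh, hne, k, hk⟩ := hB x hx1 ⟨j, hj⟩
  obtain ⟨a, rfl⟩ := isConj_iff.mp hg
  obtain ⟨b, rfl⟩ := isConj_iff.mp hh
  have hmem : π (a * x * a⁻¹ * (b * x * b⁻¹)⁻¹) ∈ pCore p (G ⧸ K) := by
    simp only [map_mul, map_inv]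
    exact mul_mem (Subgroup.Normal.conj_mem inferInstance _ hr _)
      (inv_mem (Subgroup.Normal.conj_mem inferInstance _ hr _))
  obtain ⟨c, hc⟩ := (Cfsg.Agent.Fusion.isPGroup_pCore p (G ⧸ K)).exists_card_eq
  have hone := Nat.eq_one_of_dvd_coprimes (Nat.coprime_pow_primes c k hp.out hq.out hpq)
    (hc ▸ Subgroup.orderOf_dvd_natCard _ hmem) (hk ▸ orderOf_map_dvd π _)
  exact hqK _ ((QuotientGroup.eq_one_iff _).mp (orderOf_eq_one_iff.mp hone)) hne k hk

/-- An automorphism of order two without fixed points inverts. -/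
theorem inverts_of_fpf {R : Subgroup G} {t : G} (ht : t * t = 1)
    (htR : t ∈ Subgroup.normalizer (R : Set G)) (hfix : ∀ r ∈ R, t * r = r * t → r = 1) :
    ∀ y ∈ R, t * y * t⁻¹ = y⁻¹ := by
  classical
  have hmem : ∀ r : R, (r : G)⁻¹ * (t * r * t⁻¹) ∈ R := fun r =>
    mul_mem (inv_mem r.2) ((Subgroup.mem_normalizer_iff.mp htR _).mp r.2)
  have hinj : Function.Injective fun r : R => (⟨_, hmem r⟩ : R) := fun a b hab => by
    have h : (a : G)⁻¹ * (t * a * t⁻¹) = (b : G)⁻¹ * (t * b * t⁻¹) := congrArg Subtype.val hab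
    have h1 : (b : G) * (a : G)⁻¹ = 1 := hfix _ (mul_mem b.2 (inv_mem a.2)) (by
      have h2 : (b : G) * (a : G)⁻¹ = t * b * t⁻¹ * (t * a * t⁻¹)⁻¹ := by
        calc (b : G) * (a : G)⁻¹ = b * ((a : G)⁻¹ * (t * a * t⁻¹)) * (t * a * t⁻¹)⁻¹ := by group
          _ = b * ((b : G)⁻¹ * (t * b * t⁻¹)) * (t * a * t⁻¹)⁻¹ := by rw [h]
          _ = _ := by group
      conv_rhs => rw [h2]
      group)
    exact Subtype.ext (mul_inv_eq_one.mp h1).symm
  intro y hy
  obtain ⟨r, hr⟩ := (Finite.injective_iff_surjective.mp hinj) ⟨y, hy⟩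
  have hy' : (r : G)⁻¹ * (t * r * t⁻¹) = y := congrArg Subtype.val hr
  have hti : t⁻¹ = t := inv_eq_of_mul_eq_one_right ht
  rw [← hy', hti]
  calc t * ((r : G)⁻¹ * (t * r * t)) * t = t * (r : G)⁻¹ * t * r * (t * t) := by group
    _ = ((r : G)⁻¹ * (t * r * t))⁻¹ := by
      rw [ht, mul_one]
      simp only [mul_inv_rev, inv_inv, hti]
      group

/-- With odd centralizers of `p`-elements, an inverted element forces abelian Sylow subgroups. -/
theorem abelian_sylow_of_inverted (hp2 : p ≠ 2)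
    (hC : ∀ g : G, g ≠ 1 → (∃ k : ℕ, orderOf g = p ^ k) →
      Odd (Nat.card (Subgroup.centralizer ({g} : Set G))))
    {u t₀ : G} (hu1 : u ≠ 1) (hu : ∃ k, orderOf u = p ^ k) (ht₀ : orderOf t₀ = 2)
    (htu : t₀ * u * t₀⁻¹ = u⁻¹) :
    ∀ P : Sylow p G, Even (Nat.card (Subgroup.normalizer ((P : Subgroup G) : Set G))) ∧
      IsMulCommutative (P : Subgroup G) := by
  classical
  have hstart : ∃ R : Subgroup G, IsPGroup p R ∧ R ≠ ⊥ ∧
      ∃ t, orderOf t = 2 ∧ t ∈ Subgroup.normalizer (R : Set G) := by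
    obtain ⟨k, hk⟩ := hu
    refine ⟨Subgroup.zpowers u, IsPGroup.of_card (n := k) ((Nat.card_zpowers u).trans hk),
      fun h => hu1 (Subgroup.zpowers_eq_bot.mp h), t₀, ht₀, ?_⟩
    refine Cfsg.Agent.Solv.mem_normalizer_of_conj_smul ?_
    rw [Cfsg.Agent.Solv.conj_smul_eq_map, MonoidHom.map_zpowers]
    show Subgroup.zpowers (t₀ * u * t₀⁻¹) = _
    rw [htu, Subgroup.zpowers_inv]
  obtain ⟨R₀, hR₀⟩ := hstart
  obtain ⟨R, -, hmax⟩ := Finite.exists_le_maximal
    (p := fun R : Subgroup G => IsPGroup p R ∧ R ≠ ⊥ ∧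
      ∃ t, orderOf t = 2 ∧ t ∈ Subgroup.normalizer (R : Set G)) (a := R₀) hR₀
  obtain ⟨hRp, hR0, t, ht, htR⟩ := hmax.1
  have hRmax := hmax.2
  have ht2 : t * t = 1 := by rw [← pow_two, ← ht, pow_orderOf_eq_one]
  have hCodd : Odd (Nat.card (Subgroup.centralizer (R : Set G))) := by
    obtain ⟨r, hr, hr1⟩ : ∃ r ∈ R, r ≠ 1 := by
      by_contra h
      push Not at h
      exact hR0 ((Subgroup.eq_bot_iff_forall _).mpr h)
    obtain ⟨k, hk⟩ := IsPGroup.iff_orderOf.mp hRp ⟨r, hr⟩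
    exact (hC r hr1 ⟨k, by rw [← hk, ← Subgroup.orderOf_coe]⟩).of_dvd_nat
      (Subgroup.card_dvd_of_le (Subgroup.centralizer_le (Set.singleton_subset_iff.mpr hr)))
  have hinv : ∀ y ∈ R, t * y * t⁻¹ = y⁻¹ := inverts_of_fpf ht2 htR fun r hr htr => by
    by_contra hr1
    obtain ⟨k, hk⟩ := IsPGroup.iff_orderOf.mp hRp ⟨r, hr⟩
    have h1 := (hC r hr1 ⟨k, by rw [← hk, ← Subgroup.orderOf_coe]⟩).of_dvd_nat
      (ht ▸ Subgroup.orderOf_dvd_natCard _ (Subgroup.mem_centralizer_singleton_iff.mpr htr))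
    exact absurd h1 (by decide)
  have hRc : ∀ a ∈ R, ∀ b ∈ R, a * b = b * a := fun a ha b hb => by
    have h1 : t * (a * b) * t⁻¹ = (t * a * t⁻¹) * (t * b * t⁻¹) := by group
    rw [hinv _ (mul_mem ha hb), hinv a ha, hinv b hb, ← mul_inv_rev] at h1
    exact inv_injective h1
  have hRsyl : ¬ p ∣ R.index := by
    intro hd
    obtain ⟨n, hn⟩ := hRp.exists_card_eq
    have hdvd : p ^ (n + 1) ∣ Nat.card G := by
      rw [← R.index_mul_card, hn, pow_succ']
      exact mul_dvd_mul hd dvd_rfl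
    obtain ⟨K, hKc, hRK⟩ := Sylow.exists_subgroup_card_pow_succ hdvd hn
    have hKp : IsPGroup p K := IsPGroup.of_card hKc
    haveI : (R.subgroupOf K).Normal := by
      refine Subgroup.normal_of_index_eq_minFac_card ?_
      rw [hKc, Nat.pow_minFac n.succ_ne_zero, hp.out.minFac_eq]
      have h := (R.subgroupOf K).index_mul_card
      rw [Cfsg.Agent.Solv.card_subgroupOf hRK, hn, hKc, pow_succ'] at h
      exact Nat.eq_of_mul_eq_mul_right (pow_pos hp.out.pos n) h
    have hKN : K ≤ Subgroup.normalizer (R : Set G) :=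
      (Subgroup.normal_subgroupOf_iff_le_normalizer hRK).mp inferInstance
    set C := Subgroup.centralizer (R : Set G) with hCdef
    have hCN : ∀ x ∈ Subgroup.normalizer (R : Set G), x ∈ Subgroup.normalizer (C : Set G) :=
      fun x hx => Cfsg.Agent.Solv.mem_normalizer_of_conj_smul (by
        refine le_antisymm ?_ ?_ <;>
        · intro y hy
          first
          | rw [Cfsg.Agent.Solv.mem_conj_smul]
          | rw [Cfsg.Agent.Solv.mem_conj_smul] at hy
          rw [hCdef, Subgroup.mem_centralizer_iff] at hy ⊢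
          intro r hr
          first
          | have := hy _ ((Subgroup.mem_normalizer_iff.mp hx r).mp hr)
            calc r * (x⁻¹ * y * x) = x⁻¹ * ((x * r * x⁻¹) * y) * x := by group
              _ = x⁻¹ * y * x * r := by rw [this]; group
          | have := hy _ ((Subgroup.mem_normalizer_iff''.mp hx r).mp hr)
            calc r * y = x * ((x⁻¹ * r * x) * (x⁻¹ * y * x)) * x⁻¹ := by group
              _ = y * r := by rw [this]; group)
    set M := C ⊔ K with hM
    have htC : t ∈ Subgroup.normalizer (C : Set G) := hCN t htR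
    have hcomm : ∀ s ∈ K, t * s * t⁻¹ * s⁻¹ ∈ C := fun s hs => by
      rw [hCdef, Subgroup.mem_centralizer_iff]
      intro r hr
      have h1 := (Subgroup.mem_normalizer_iff''.mp (hKN hs) r).mp hr
      have h2 := hinv _ hr
      have h3 := hinv _ h1
      have hkey : t * s * t⁻¹ * (s⁻¹ * r * s) * (t * s * t⁻¹)⁻¹ = r := by
        calc t * s * t⁻¹ * (s⁻¹ * r * s) * (t * s * t⁻¹)⁻¹
            = t * s * (t * (s⁻¹ * r * s) * t⁻¹) * s⁻¹ * t⁻¹ := by
              rw [show t⁻¹ = t from inv_eq_of_mul_eq_one_right ht2]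
              simp only [mul_inv_rev, show t⁻¹ = t from inv_eq_of_mul_eq_one_right ht2]
              group
          _ = t * r⁻¹ * t⁻¹ := by rw [h3]; group
          _ = r := by rw [hinv _ (inv_mem hr), inv_inv]
      calc r * (t * s * t⁻¹ * s⁻¹)
          = (t * s * t⁻¹ * (s⁻¹ * r * s) * (t * s * t⁻¹)⁻¹) * (t * s * t⁻¹ * s⁻¹) := by rw [hkey]
        _ = _ := by group
    have htM : t ∈ Subgroup.normalizer (M : Set G) := by
      refine Cfsg.Agent.Solv.mem_normalizer_of_conj_smul ?_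
      refine Subgroup.eq_of_le_of_card_ge ?_ (Cfsg.Agent.Solv.card_conj_smul _ _).ge
      rw [hM, Subgroup.smul_sup, sup_le_iff, Cfsg.Agent.Solv.conj_smul_of_mem_normalizer htC]
      refine ⟨le_sup_left, fun y hy => ?_⟩
      rw [Cfsg.Agent.Solv.mem_conj_smul] at hy
      have h1 := mul_mem (Subgroup.mem_sup_left (hcomm _ hy) : _ ∈ C ⊔ K)
        (Subgroup.mem_sup_right hy)
      rwa [show t * (t⁻¹ * y * t) * t⁻¹ * (t⁻¹ * y * t)⁻¹ * (t⁻¹ * y * t) = y by group] at h1
    have hModd : Odd (Nat.card M) := by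
      have h := Cfsg.Agent.Solv.card_sup_mul_card_inf' C K (fun x hx => hCN x (hKN hx))
      refine (hCodd.mul (show Odd (Nat.card K) from hKc ▸ (hp.out.odd_of_ne_two hp2).pow)).of_dvd_nat
        ⟨_, h.symm⟩
    have hA : Subgroup.zpowers t ≤ Subgroup.normalizer (M : Set G) := Subgroup.zpowers_le.mpr htM
    obtain ⟨S, hS, hSt⟩ := Cfsg.Agent.Solv.exists_invariant_sylow (A := Subgroup.zpowers t) (K := M)
      hA (by rw [Nat.card_zpowers, ht]; exact Nat.coprime_two_left.mpr hModd)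
      (Or.inl inferInstance) p
    have hMN : M ≤ Subgroup.normalizer (R : Set G) :=
      sup_le (Subgroup.centralizer_le_normalizer _) hKN
    have hRM : R ≤ M := hRK.trans le_sup_right
    have hRS : R ≤ S := by
      obtain ⟨S', hS'⟩ := hS.exists_sylow
      haveI : (R.comap M.subtype).Normal := Subgroup.normal_subgroupOf_of_le_normalizer hMN
      have h1 := (hRp.comap_of_injective M.subtype M.subtype_injective).le_sylow_of_normal S'
      rw [← hS', ← Subgroup.map_subgroupOf_eq_of_le hRM]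
      exact Subgroup.map_mono h1
    have hle : Nat.card K ≤ Nat.card S := by
      rw [hS.2, hKc]
      refine Nat.pow_le_pow_right hp.out.pos ?_
      exact (hp.out.pow_dvd_iff_le_factorization Nat.card_pos.ne').mp
        (hKc ▸ Subgroup.card_dvd_of_le le_sup_right)
    have hSR := hRmax (y := S) ⟨hS.isPGroup, fun h => hR0 (le_bot_iff.mp (h ▸ hRS)), t, ht,
      hSt (Subgroup.mem_zpowers t)⟩ hRS
    have hlt : Nat.card R < Nat.card K := by
      rw [hn, hKc]; exact Nat.pow_lt_pow_right hp.out.one_lt n.lt_succ_self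
    have := Subgroup.card_le_of_le hSR
    omega
  intro P
  set R' : Sylow p G := hRp.toSylow hRsyl
  obtain ⟨g, rfl⟩ := MulAction.exists_smul_eq G R' P
  have hR' : (R' : Subgroup G) = R := IsPGroup.toSylow_coe hRp hRsyl
  constructor
  · have he : Nat.card (Subgroup.normalizer (((g • R' : Sylow p G) : Subgroup G) : Set G)) =
        Nat.card (Subgroup.normalizer ((R' : Subgroup G) : Set G)) := by
      conv_rhs => rw [← Cfsg.Agent.Solv.card_conj_smul g (Subgroup.normalizer _)]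
      rw [Sylow.coe_subgroup_smul]
      congr 1
      congr 1
      ext x
      rw [Cfsg.Agent.Solv.mem_conj_smul, Subgroup.mem_normalizer_iff, Subgroup.mem_normalizer_iff]
      constructor
      · intro h y
        have := h (g * y * g⁻¹)
        simp only [Cfsg.Agent.Solv.mem_conj_smul] at this
        group at this ⊢
        exact this
      · intro h y
        simp only [Cfsg.Agent.Solv.mem_conj_smul]
        have := h (g⁻¹ * y * g)
        group at this ⊢
        exact this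
    rw [he, hR']
    exact (dvd_of_eq ht.symm).trans (Subgroup.orderOf_dvd_natCard _ htR) |> even_iff_two_dvd.mpr
  · refine ⟨⟨fun a b => Subtype.ext ?_⟩⟩
    have ha : g⁻¹ * (a : G) * g ∈ R := hR' ▸ Cfsg.Agent.Solv.mem_conj_smul.mp a.2
    have hb : g⁻¹ * (b : G) * g ∈ R := hR' ▸ Cfsg.Agent.Solv.mem_conj_smul.mp b.2
    have := hRc _ ha _ hb
    show (a : G) * b = b * a
    calc (a : G) * b = g * ((g⁻¹ * a * g) * (g⁻¹ * b * g)) * g⁻¹ := by group
      _ = g * ((g⁻¹ * b * g) * (g⁻¹ * a * g)) * g⁻¹ := by rw [this]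
      _ = b * a := by group

end Cfsg.Agent.Char
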