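import Cfsg.Agent.Lib.Char.KerPPrime
import Cfsg.Agent.Lib.Char.GlaubermanCount
import Cfsg.Agent.Lib.Char.FongReynolds
import Cfsg.Agent.Lib.Char.Inflate
import Cfsg.Agent.Lib.Char.OverBlock
import Cfsg.Agent.Lib.Char.PSolvHeight
import Cfsg.Agent.Lib.Solv.PSolvHall
import Cfsg.Agent.Lib.Solv.Parts
import Cfsg.Agent.Lib.Solv.Cores
import Cfsg.Agent.Lib.Lie.SupSolvable
import Cfsg.Agent.Lib.Fusion.NPC
import Cfsg.Agent.Lib.Fusion.Cores
import Cfsg.Agent.S0867

/-!
# Characters of degree prime to `p` having degree prime to `q`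

In a `p`-solvable, `q`-solvable group with this property a Sylow `p`-subgroup normalizes a Sylow
`q`-subgroup, which lies in every subgroup of index prime to `q` containing the former.
-/

set_option autoImplicit false
set_option linter.unusedSectionVars false
set_option linter.style.haveILetI false

namespace Cfsg.Agent.Char.DegNorm

open Cfsg Cfsg.Agent Cfsg.Agent.Char
open scoped Pointwise commutatorElement

universe u

variable {X : Type u} [Group X] [Fintype X] {p q : ℕ}

theorem restrict_ne_zero {H N : Subgroup X} [Fintype H] [Fintype N] (hNH : N ≤ H)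
    (χ : IrrCharacter X) {η : IrrCharacter H} {θ : IrrCharacter N}
    (hres : ∀ n : N, (η : H → ℂ) ⟨(n : X), hNH n.2⟩ = (θ : N → ℂ) n)
    (hcon : classInner (fun h : H => (χ : X → ℂ) h) (η : H → ℂ) ≠ 0) :
    classInner (fun n : N => (χ : X → ℂ) n) (θ : N → ℂ) ≠ 0 := by
  classical
  obtain ⟨m, hm⟩ := exists_decomposition
    (isCharacter_comp H.subtype (irr_isCharacter χ.2))
  let ι : N →* H := Subgroup.inclusion hNH
  have hk : ∀ ζ : IrrCharacter H, ∃ k : ℕ,
      classInner (fun n : N => (ζ : H → ℂ) (ι n)) (θ : N → ℂ) = k := fun ζ =>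
    classInner_natCast (isCharacter_comp ι (irr_isCharacter ζ.2)) (irr_isCharacter θ.2)
  choose k hk using hk
  have e : (fun n : N => (χ : X → ℂ) n) =
      ∑ ζ : IrrCharacter H, (m ζ : ℂ) • (fun n : N => (ζ : H → ℂ) (ι n)) := by
    funext n
    have := congrFun hm (ι n)
    simp only [Finset.sum_apply, Pi.smul_apply, nsmul_eq_mul, smul_eq_mul, Pi.mul_apply,
      Pi.natCast_apply] at this ⊢
    exact this
  rw [e, classInner_sum_left]
  simp only [classInner_smul_left, hk]
  rw [← Finset.sum_congr rfl fun ζ _ => Nat.cast_mul (m ζ) (k ζ), ← Nat.cast_sum, Nat.cast_ne_zero]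
  intro h0
  have h1 := Finset.sum_eq_zero_iff.mp h0 η (Finset.mem_univ _)
  have hk1 : k η = 1 := Nat.cast_injective (R := ℂ) (by
    rw [← hk, show (fun n : N => (η : H → ℂ) (ι n)) = (θ : N → ℂ) from funext hres, irr_self θ.2,
      Nat.cast_one])
  rw [hk1, mul_one] at h1
  refine hcon ?_
  have h2 := decomposition_coeff m hm η
  rw [h1, Nat.cast_zero] at h2
  exact h2

/-- An invariant character extending to a character of degree prime to `p` of `H ⊇ P` is fixed by
a subgroup of index prime to `q` containing `P` and `N`. -/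
theorem exists_fixing (hp : p.Prime)
    (hyp : ∀ χ : IrrCharacter X, ¬ p ∣ charDegree (χ : X → ℂ) → ¬ q ∣ charDegree (χ : X → ℂ))
    {N H : Subgroup X} [N.Normal] [Fintype N] [Fintype H] (hNH : N ≤ H) (hHi : ¬ p ∣ H.index)
    (θ : IrrCharacter N) (η : IrrCharacter H)
    (hres : ∀ n : N, (η : H → ℂ) ⟨(n : X), hNH n.2⟩ = (θ : N → ℂ) n)
    (hη : ¬ p ∣ charDegree (η : H → ℂ)) :
    ∃ I : Subgroup X, ¬ q ∣ I.index ∧ H ≤ I ∧
      ∀ g ∈ I, ∀ n : N, (θ : N → ℂ) (MulAut.conjNormal g n) = (θ : N → ℂ) n := by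
  classical
  obtain ⟨χ, hχ, hcon⟩ := exists_pPrime_over hp H η hHi hη
  have hθ := restrict_ne_zero hNH χ hres hcon
  let I : Subgroup X :=
    { carrier := {g | irrComp (MulAut.conjNormal g) θ = θ}
      one_mem' := by
        show irrComp (MulAut.conjNormal (1 : X)) θ = θ
        exact irrComp_conj_one θ
      mul_mem' := fun {a b} (ha : _ = θ) (hb : _ = θ) => by
        show irrComp (MulAut.conjNormal (a * b)) θ = θ
        rw [← irrComp_conj_mul, ha, hb]
      inv_mem' := fun {a} (ha : _ = θ) => by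
        show irrComp (MulAut.conjNormal a⁻¹) θ = θ
        conv_rhs => rw [← irrComp_conj_one θ, ← mul_inv_cancel a, ← irrComp_conj_mul, ha] }
  refine ⟨I, ?_, fun g hg => ?_, fun g hg n => ?_⟩
  · have hmul := card_cliffOrbit_mul θ
    rw [show Nat.card {g // irrComp (MulAut.conjNormal g) θ = θ} = Nat.card I from rfl] at hmul
    have hidx : (cliffOrbit N θ).card = I.index := by
      rw [← Subgroup.index_mul_card I] at hmul
      exact Nat.eq_of_mul_eq_mul_right Nat.card_pos hmul
    obtain ⟨m, hm⟩ := exists_decomposition (isCharacter_comp N.subtype (irr_isCharacter χ.2))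
    have h1 := congrFun (clifford_restrict χ θ hθ) 1
    have hco : classInner (fun n : N => (χ : X → ℂ) n) (θ : N → ℂ) = m θ :=
      decomposition_coeff m hm θ
    have hall : ∀ ψ ∈ cliffOrbit N θ, (ψ : N → ℂ) 1 = (θ : N → ℂ) 1 := by
      intro ψ hψ
      obtain ⟨g, rfl⟩ := mem_cliffOrbit.mp hψ
      rw [irrComp_apply, map_one]
    rw [Pi.smul_apply, Finset.sum_apply, Finset.sum_congr rfl hall, Finset.sum_const, smul_eq_mul,
      nsmul_eq_mul, hco, Subgroup.coe_one, char_one_eq_deg (irr_isCharacter χ.2),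
      char_one_eq_deg (irr_isCharacter θ.2), hidx] at h1
    have hd : I.index ∣ deg (χ : X → ℂ) := ⟨m θ * deg (θ : N → ℂ), by
      apply Nat.cast_injective (R := ℂ)
      push_cast
      linear_combination h1⟩
    rw [← charDegree_eq_deg] at hd
    exact fun hq => hyp χ hχ (hq.trans hd)
  · show irrComp (MulAut.conjNormal g) θ = θ
    refine Subtype.ext (funext fun n => ?_)
    rw [irrComp_apply, ← hres, ← hres,
      show (⟨((MulAut.conjNormal g n : N) : X), hNH (MulAut.conjNormal g n).2⟩ : H) =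
        ⟨g, hg⟩ * ⟨(n : X), hNH n.2⟩ * (⟨g, hg⟩ : H)⁻¹ from
        Subtype.ext (MulAut.conjNormal_apply g n)]
    exact isClassFunction_character (irr_isCharacter η.2) _ _
  · exact congrFun (congrArg Subtype.val (hg : irrComp (MulAut.conjNormal g) θ = θ)) n

/-- The conclusion. -/
def Good (p q : ℕ) (X : Type u) [Group X] : Prop :=
  ∀ P : Sylow p X, ∃ Q : Sylow q X, (P : Subgroup X) ≤ Subgroup.normalizer ((Q : Subgroup X) : Set X) ∧
    ∀ Y : Subgroup X, (P : Subgroup X) ≤ Y → ¬ q ∣ Y.index → (Q : Subgroup X) ≤ Y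

theorem minimal_normal_type [Fact p.Prime] (hsolv : IsPSolvable p X) {N : Subgroup X} [N.Normal]
    (hN : N ≠ ⊥) (hmin : ∀ K : Subgroup X, K.Normal → K ≤ N → K = ⊥ ∨ K = N) :
    IsPGroup p N ∨ (Nat.card N).Coprime p := by
  haveI := (Subgroup.nontrivial_iff_ne_bot N).2 hN
  obtain ⟨K, hK, hKne, hKt⟩ :=
    Solv.exists_normal_pgroup_or_coprime (isPSolvable_subgroup Fact.out hsolv N)
  haveI := hK
  rcases hKt with hKp | hKc
  · left
    have hle : K ≤ pCore p N := Solv.normal_le_pCore hKp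
    haveI : (pCore p N).Characteristic := Fusion.pCore_characteristic
    rcases hmin ((pCore p N).map N.subtype) (Solv.map_subtype_normal_of_characteristic N _)
      (Subgroup.map_subtype_le _) with h | h
    · rw [Subgroup.map_eq_bot_iff_of_injective _ N.subtype_injective] at h
      exact absurd (le_bot_iff.mp (h ▸ hle)) hKne
    · exact h ▸ (Solv.pCore_isPGroup p).map _
  · right
    have hle : K ≤ pPrimeCore p N := Solv.normal_le_pPrimeCore hKc
    haveI : (pPrimeCore p N).Characteristic := Fusion.pPrimeCore_characteristic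
    rcases hmin ((pPrimeCore p N).map N.subtype) (Solv.map_subtype_normal_of_characteristic N _)
      (Subgroup.map_subtype_le _) with h | h
    · rw [Subgroup.map_eq_bot_iff_of_injective _ N.subtype_injective] at h
      exact absurd (le_bot_iff.mp (h ▸ hle)) hKne
    · rw [← h, Subgroup.card_map_of_injective N.subtype_injective]
      exact Solv.pPrimeCore_coprime p

section Step

variable [Fact p.Prime] [Fact q.Prime] {N M : Subgroup X} [hN : N.Normal] (P : Sylow p X)
  (hNM : N ≤ M) (hPM : (P : Subgroup X) ≤ Subgroup.normalizer (M : Set X))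

include hNM hPM

/-- The case of a normal subgroup of order prime to `pq`. -/
theorem coprime_case (hne : p ≠ q)
    (hyp : ∀ χ : IrrCharacter X, ¬ p ∣ charDegree (χ : X → ℂ) → ¬ q ∣ charDegree (χ : X → ℂ))
    (hNp : ¬ p ∣ Nat.card N) (hNq : ¬ q ∣ Nat.card N)
    (hMq : ∃ a, Nat.card M = Nat.card N * q ^ a)
    (hY : ∀ Y : Subgroup X, (P : Subgroup X) ≤ Y → ¬ q ∣ Y.index → M ≤ Y ⊔ N) :
    ∃ Q : Subgroup X, Solv.IsSylIn q Q M ∧
      (P : Subgroup X) ≤ Subgroup.normalizer (Q : Set X) ∧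
      ∀ Y : Subgroup X, (P : Subgroup X) ≤ Y → ¬ q ∣ Y.index → Q ≤ Y := by
  classical
  haveI := Fintype.ofFinite N
  have hp : p.Prime := Fact.out
  have hq : q.Prime := Fact.out
  obtain ⟨n, hn⟩ := IsPGroup.iff_card.mp P.isPGroup'
  obtain ⟨a, ha⟩ := hMq
  have hco : (Nat.card (P : Subgroup X)).Coprime (Nat.card M) := by
    rw [hn, ha]
    exact Nat.Coprime.pow_left _ (Nat.Coprime.mul_right (hp.coprime_iff_not_dvd.mpr hNp)
      (Nat.Coprime.pow_right _ ((Nat.coprime_primes hp hq).mpr hne)))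
  haveI : Group.IsNilpotent (P : Subgroup X) := P.isPGroup'.isNilpotent
  have hsol : Group.IsSolvable (P : Subgroup X) ∨ Group.IsSolvable M := Or.inl inferInstance
  obtain ⟨Q, hQ, hPQ⟩ := Solv.exists_invariant_sylow hPM hco hsol q
  obtain ⟨b, hb⟩ := IsPGroup.iff_card.mp hQ.isPGroup
  have hQcard : Nat.card Q = q ^ a := by
    rw [hQ.2, ha, Nat.factorization_mul Nat.card_pos.ne' (pow_ne_zero _ hq.ne_zero),
      Finsupp.add_apply, hq.factorization_pow, Finsupp.single_eq_same,
      Nat.factorization_eq_zero_of_not_dvd hNq, zero_add]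
  have hdisj : N ⊓ Q = ⊥ := by
    refine disjoint_iff.mp (Subgroup.disjoint_of_coprime_natCard ?_)
    rw [hQcard]
    exact Nat.Coprime.pow_right _ ((hq.coprime_iff_not_dvd.mpr hNq).symm)
  have hsupM : N ⊔ Q = M := by
    refine Subgroup.eq_of_le_of_card_ge (sup_le hNM hQ.1) ?_
    have h1 := Solv.card_sup_mul_card_inf' N Q (by
      rw [Subgroup.normalizer_eq_top]; exact le_top)
    rw [hdisj, Subgroup.card_bot, mul_one, hQcard, ← ha] at h1
    exact h1.ge
  -- invariant characters are fixed by `Q`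
  have hfix : ∀ θ : IrrCharacter N,
      (∀ u ∈ (P : Subgroup X), ∀ x : N, (θ : N → ℂ) (MulAut.conjNormal u x) = (θ : N → ℂ) x) →
      ∀ g ∈ M, ∀ x : N, (θ : N → ℂ) (MulAut.conjNormal g x) = (θ : N → ℂ) x := by
    intro θ hθ
    set H := N ⊔ (P : Subgroup X) with hH
    haveI := Fintype.ofFinite H
    haveI : (N.subgroupOf H).Normal := Subgroup.Normal.comap hN _
    haveI := Fintype.ofFinite (N.subgroupOf H)
    let e : N.subgroupOf H ≃* N := Subgroup.subgroupOfEquivOfLe le_sup_left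
    have hθ' : IsIrrCharacter (N.subgroupOf H) (fun x => (θ : N → ℂ) (e x)) :=
      isIrrCharacter_comp_equiv e θ.2
    have hd : ¬ p ∣ deg (θ : N → ℂ) := fun h => hNp (h.trans (deg_dvd_card θ.2))
    have hinv : ∀ (g : H) (x : N.subgroupOf H),
        (θ : N → ℂ) (e ⟨g * x * g⁻¹, (inferInstance : (N.subgroupOf H).Normal).conj_mem (x : H) x.2 g⟩) =
          (θ : N → ℂ) (e x) := by
      intro g x
      obtain ⟨k, hk, u, hu, e1⟩ := Subgroup.mem_sup_of_normal_left.mp g.2
      have e2 : e ⟨g * x * g⁻¹, (inferInstance : (N.subgroupOf H).Normal).conj_mem (x : H) x.2 g⟩ =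
          (⟨k, hk⟩ : N) * MulAut.conjNormal u (e x) * (⟨k, hk⟩ : N)⁻¹ := by
        refine Subtype.ext ?_
        show (g : X) * ((x : H) : X) * (g : X)⁻¹ =
          k * ((MulAut.conjNormal u (e x) : N) : X) * k⁻¹
        rw [MulAut.conjNormal_apply, ← e1]
        show k * u * ((x : H) : X) * (k * u)⁻¹ = k * (u * ((x : H) : X) * u⁻¹) * k⁻¹
        group
      rw [e2, isClassFunction_character (irr_isCharacter θ.2), hθ u hu]
    have hidx : ∃ i, (N.subgroupOf H).index = p ^ i := by
      have h2 : N.relIndex H ∣ Nat.card (P : Subgroup X) := by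
        rw [hH, sup_comm, Subgroup.relIndex_sup_right]
        exact Subgroup.relIndex_dvd_card _ _
      rw [hn] at h2
      obtain ⟨i, -, hi⟩ := (Nat.dvd_prime_pow hp).mp h2
      exact ⟨i, hi⟩
    obtain ⟨i, hi⟩ := hidx
    obtain ⟨η, ⟨hη, hηres, -⟩, -⟩ := Cfsg.Agent.S0867.result (N.subgroupOf H)
      (fun x => (θ : N → ℂ) (e x)) hθ' hinv (deg (θ : N → ℂ))
      (by rw [map_one]; exact char_one_eq_deg (irr_isCharacter θ.2)) (by
        rw [hi]
        refine Nat.Coprime.pow_left _ (Nat.Coprime.mul_right ?_ (hp.coprime_iff_not_dvd.mpr hd))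
        refine hp.coprime_iff_not_dvd.mpr fun h => hNp (h.trans ?_)
        refine (detOrder_dvd_card (irr_isCharacter hθ')).trans ?_
        rw [Nat.card_congr e.toEquiv])
    obtain ⟨I, hIq, hHI, hIθ⟩ := exists_fixing hp hyp (le_sup_left : N ≤ H)
      (fun h => P.not_dvd_index (h.trans (Subgroup.index_dvd_of_le le_sup_right))) θ ⟨η, hη⟩
      (fun x => hηres ⟨⟨(x : X), le_sup_left (b := (P : Subgroup X)) x.2⟩, x.2⟩) (by
        have h1 : η 1 = (deg (θ : N → ℂ) : ℂ) := by
          rw [← char_one_eq_deg (irr_isCharacter θ.2)]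
          exact hηres 1
        rw [charDegree_eq_deg]
        rw [char_one_eq_deg (irr_isCharacter hη)] at h1
        rwa [Nat.cast_injective (R := ℂ) h1])
    intro g hg
    exact hIθ g (sup_le le_rfl (le_sup_left.trans hHI) (hY I (le_sup_right.trans hHI) hIq hg))
  -- so `Q` centralizes the fixed points of `P`
  set R := Q ⊔ (P : Subgroup X) with hR
  haveI : Group.IsNilpotent Q := hQ.isPGroup.isNilpotent
  have hRsol : Group.IsSolvable R := Lie.isSolvable_sup_of_le_normalizer inferInstance inferInstance hPQ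
  have hRco : (Nat.card N).Coprime (Nat.card R) := by
    have h1 : Nat.card R ∣ Nat.card Q * Nat.card (P : Subgroup X) :=
      Dvd.intro _ (Solv.card_sup_mul_card_inf' Q P hPQ)
    refine Nat.Coprime.coprime_dvd_right h1 ?_
    rw [hQcard, hn]
    exact Nat.Coprime.mul_right (Nat.Coprime.pow_right _ (hq.coprime_iff_not_dvd.mpr hNq).symm)
      (Nat.Coprime.pow_right _ (hp.coprime_iff_not_dvd.mpr hNp).symm)
  have hnorm : ∀ (S : Subgroup X), ∀ s ∈ S, ∀ g ∈ N, s * g * s⁻¹ ∈ N :=
    fun S s _ g hg => hN.conj_mem g hg s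
  let φP := conjActHom N (P : Subgroup X) (hnorm _)
  let φQ := conjActHom N Q (hnorm _)
  let φR := conjActHom N R (hnorm _)
  have hPR : (P : Subgroup X) ≤ R := le_sup_right
  have hQR : Q ≤ R := le_sup_left
  have hRinv : ∀ θ : IrrCharacter N, (∀ s g, (θ : N → ℂ) (φR s g) = (θ : N → ℂ) g) ↔
      ∀ s g, (θ : N → ℂ) (φP s g) = (θ : N → ℂ) g := by
    intro θ
    refine ⟨fun h s g => h ⟨(s : X), hPR s.2⟩ g, fun h => ?_⟩
    have hP' : ∀ u ∈ (P : Subgroup X), ∀ x : N,
        (θ : N → ℂ) (MulAut.conjNormal u x) = (θ : N → ℂ) x := fun u hu x =>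
      (congrArg _ (Subtype.ext (MulAut.conjNormal_apply u x))).trans (h ⟨u, hu⟩ x)
    intro s g
    obtain ⟨s, hs⟩ := s
    obtain ⟨u, hu, v, hv, hs'⟩ : ∃ u ∈ Q, ∃ v ∈ (P : Subgroup X), u * v = s := by
      have h1 : (s : X) ∈ ((Q ⊔ (P : Subgroup X) : Subgroup X) : Set X) := hs
      rw [Subgroup.coe_mul_of_right_le_normalizer_left _ _ hPQ] at h1
      exact h1
    have e : φR ⟨s, hs⟩ g = MulAut.conjNormal u (MulAut.conjNormal v g) := by
      refine Subtype.ext ?_
      show s * (g : X) * s⁻¹ = _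
      rw [MulAut.conjNormal_apply, MulAut.conjNormal_apply, ← hs']
      group
    rw [e, hfix θ hP' u (hQ.1 hu), hP' v hv]
  have hcount : Nat.card {K : ConjClasses N //
        ∀ s g, ConjClasses.mk g = K → ConjClasses.mk (φR s g) = K} =
      Nat.card {K : ConjClasses N //
        ∀ s g, ConjClasses.mk g = K → ConjClasses.mk (φP s g) = K} := by
    rw [← card_invariant_eq _ R N φR rfl hRsol hRco,
      ← card_invariant_eq _ (P : Subgroup X) N φP rfl inferInstance
        (hRco.coprime_dvd_right (Subgroup.card_dvd_of_le hPR))]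
    exact Nat.card_congr (Equiv.subtypeEquivRight hRinv)
  have hclass : ∀ K : ConjClasses N, (∀ s g, ConjClasses.mk g = K → ConjClasses.mk (φP s g) = K) →
      ∀ s g, ConjClasses.mk g = K → ConjClasses.mk (φR s g) = K := by
    have hincl : ∀ K : ConjClasses N,
        (∀ s g, ConjClasses.mk g = K → ConjClasses.mk (φR s g) = K) →
        ∀ s g, ConjClasses.mk g = K → ConjClasses.mk (φP s g) = K :=
      fun K h s g hg => h ⟨(s : X), hPR s.2⟩ g hg
    let f : {K : ConjClasses N // ∀ s g, ConjClasses.mk g = K → ConjClasses.mk (φR s g) = K} →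
        {K : ConjClasses N // ∀ s g, ConjClasses.mk g = K → ConjClasses.mk (φP s g) = K} :=
      fun K => ⟨K.1, hincl K.1 K.2⟩
    have hf : Function.Bijective f := (Nat.bijective_iff_injective_and_card f).mpr
      ⟨fun a b h => Subtype.ext (Subtype.mk.inj h), hcount⟩
    intro K hK
    obtain ⟨K', hK'⟩ := hf.2 ⟨K, hK⟩
    have : K'.1 = K := congrArg Subtype.val hK'
    exact this ▸ K'.2
  set C := N ⊓ Subgroup.centralizer ((P : Subgroup X) : Set X) with hCdef
  set CQ := N ⊓ Subgroup.centralizer (Q : Set X) with hCQdef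
  have hCfix : ∀ g : N, g ∈ (Subgroup.inclusion (inf_le_left : C ≤ N)).range ↔ ∀ s, φP s g = g := by
    intro g
    rw [MonoidHom.mem_range]
    constructor
    · rintro ⟨c, rfl⟩ s
      refine Subtype.ext ?_
      show (s : X) * (c : X) * (s : X)⁻¹ = c
      rw [Subgroup.mem_centralizer_iff.mp c.2.2 s s.2, mul_inv_cancel_right]
    · intro h
      refine ⟨⟨(g : X), g.2, Subgroup.mem_centralizer_iff.mpr fun s hs => ?_⟩, rfl⟩
      exact mul_inv_eq_iff_eq_mul.mp (congrArg Subtype.val (h ⟨s, hs⟩))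
  have hQfix : ∀ g : N, g ∈ (Subgroup.inclusion (inf_le_left : CQ ≤ N)).range ↔ ∀ s, φQ s g = g := by
    intro g
    rw [MonoidHom.mem_range]
    constructor
    · rintro ⟨c, rfl⟩ s
      refine Subtype.ext ?_
      show (s : X) * (c : X) * (s : X)⁻¹ = c
      rw [Subgroup.mem_centralizer_iff.mp c.2.2 s s.2, mul_inv_cancel_right]
    · intro h
      refine ⟨⟨(g : X), g.2, Subgroup.mem_centralizer_iff.mpr fun s hs => ?_⟩, rfl⟩
      exact mul_inv_eq_iff_eq_mul.mp (congrArg Subtype.val (h ⟨s, hs⟩))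
  set D := C ⊓ Subgroup.centralizer (Q : Set X) with hDdef
  have hDtop : D.subgroupOf C = ⊤ := by
    refine Solv.eq_top_of_forall_conj_mem _ fun c => ?_
    set c' : N := Subgroup.inclusion (inf_le_left : C ≤ N) c with hc'
    have hKP : ∀ s g, ConjClasses.mk g = ConjClasses.mk c' →
        ConjClasses.mk (φP s g) = ConjClasses.mk c' := by
      intro s g hg
      rw [ConjClasses.mk_eq_mk_iff_isConj] at hg ⊢
      have h1 := (φP s).toMonoidHom.map_isConj hg
      rwa [show (φP s).toMonoidHom c' = c' from (hCfix c').mp ⟨c, rfl⟩ s] at h1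
    have hKR := hclass _ hKP
    have hQinv : ∀ s : Q, IsConj c' (φQ s c') := fun s =>
      (ConjClasses.mk_eq_mk_iff_isConj.mp (hKR ⟨(s : X), hQR s.2⟩ c' rfl)).symm
    obtain ⟨d0, hd0⟩ := exists_fixed_rep φQ (Subgroup.inclusion (inf_le_left : CQ ≤ N)) hq
      hQ.isPGroup hNq hQfix hQinv
    set d0' : N := Subgroup.inclusion (inf_le_left : CQ ≤ N) d0 with hd0'
    set A : Set N := {y : N | (y : X) ∈ CQ ∧ IsConj c' y} with hA
    have hAinv : ∀ s, ∀ y ∈ A, φP s y ∈ A := by
      intro s y hy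
      refine ⟨⟨(φP s y).2, Subgroup.mem_centralizer_iff.mpr fun w hw => ?_⟩,
        (ConjClasses.mk_eq_mk_iff_isConj.mp (hKP s y (ConjClasses.mk_eq_mk_iff_isConj.mpr hy.2.symm))).symm⟩
      show w * ((s : X) * (y : X) * (s : X)⁻¹) = (s : X) * (y : X) * (s : X)⁻¹ * w
      have hw' : (s : X)⁻¹ * w * s ∈ Q := by
        have := (Subgroup.mem_normalizer_iff''.mp (hPQ s.2) w).mp hw
        exact this
      have hcm := Subgroup.mem_centralizer_iff.mp hy.1.2 _ hw'
      calc w * ((s : X) * (y : X) * (s : X)⁻¹) = (s : X) * (((s : X)⁻¹ * w * s) * y) * (s : X)⁻¹ := by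
            group
        _ = (s : X) * ((y : X) * ((s : X)⁻¹ * w * s)) * (s : X)⁻¹ := by rw [hcm]
        _ = _ := by group
    have hAcard : ¬ p ∣ Nat.card A := by
      have e : A = (Subgroup.inclusion (inf_le_left : CQ ≤ N)) '' {z | IsConj d0 z} := by
        ext y
        constructor
        · rintro ⟨hy1, hy2⟩
          refine ⟨⟨(y : X), hy1⟩, ?_, rfl⟩
          exact fixed_conj φQ (Subgroup.inclusion (inf_le_left : CQ ≤ N)) hq hQ.isPGroup hNq hQfix
            (Subgroup.inclusion_injective _) (hd0.symm.trans hy2)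
        · rintro ⟨z, hz, rfl⟩
          exact ⟨z.2, hd0.trans
            ((Subgroup.inclusion (inf_le_left : CQ ≤ N)).map_isConj hz)⟩
      rw [e, Nat.card_image_of_injective (Subgroup.inclusion_injective _)]
      intro h
      refine hNp (h.trans ?_)
      refine dvd_trans ?_ (Subgroup.card_dvd_of_le (inf_le_left : CQ ≤ N))
      show Nat.card {z : CQ // IsConj d0 z} ∣ _
      rw [card_conjClass_eq_index]
      exact Subgroup.index_dvd_card _
    obtain ⟨y, hy, hyfix⟩ := exists_fixed_of_card φP hp P.isPGroup' A hAinv hAcard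
    obtain ⟨y', rfl⟩ := (hCfix y).mpr hyfix
    obtain ⟨x, hx⟩ := isConj_iff.mp (fixed_conj φP (Subgroup.inclusion (inf_le_left : C ≤ N)) hp
      P.isPGroup' hNp hCfix (Subgroup.inclusion_injective _) hy.2)
    exact ⟨x, Subgroup.mem_subgroupOf.mpr (hx ▸ ⟨y'.2, hy.1.2⟩)⟩
  have hCQ' : ∀ c ∈ C, ∀ w ∈ Q, w * c = c * w := by
    intro c hc w hw
    have : (⟨c, hc⟩ : C) ∈ D.subgroupOf C := hDtop ▸ Subgroup.mem_top _
    exact Subgroup.mem_centralizer_iff.mp (Subgroup.mem_subgroupOf.mp this).2 w hw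
  refine ⟨Q, hQ, hPQ, fun Y hPY hYq => ?_⟩
  set W := Y ⊓ M with hW
  have hWN : N ⊔ W = M := by
    refine le_antisymm (sup_le hNM inf_le_right) fun m hm => ?_
    obtain ⟨y, hy, k, hk, rfl⟩ := Subgroup.mem_sup_of_normal_right.mp (hY Y hPY hYq hm)
    refine mul_mem (Subgroup.mem_sup_right ⟨hy, ?_⟩) (Subgroup.mem_sup_left hk)
    have := M.mul_mem hm (M.inv_mem (hNM hk))
    rwa [mul_inv_cancel_right] at this
  have hPW : (P : Subgroup X) ≤ Subgroup.normalizer (W : Set X) := fun u hu => by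
    rw [Subgroup.mem_normalizer_iff]
    intro y
    rw [hW, Subgroup.mem_inf, Subgroup.mem_inf,
      ← Subgroup.mem_normalizer_iff.mp (hPM hu) y]
    refine and_congr_left' ⟨fun hy => mul_mem (mul_mem (hPY hu) hy) (inv_mem (hPY hu)), fun hy => ?_⟩
    have := mul_mem (mul_mem (inv_mem (hPY hu)) hy) (hPY hu)
    rwa [show u⁻¹ * (u * y * u⁻¹) * u = y by group] at this
  obtain ⟨Q', hQ', hPQ'⟩ := Solv.exists_invariant_sylow hPW
    (hco.coprime_dvd_right (Subgroup.card_dvd_of_le inf_le_right)) (Or.inl inferInstance) q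
  have hQ'M : Solv.IsSylIn q Q' M := by
    refine ⟨hQ'.1.trans inf_le_right, ?_⟩
    rw [hQ'.2]
    congr 1
    refine le_antisymm ((Nat.factorization_le_iff_dvd Nat.card_pos.ne' Nat.card_pos.ne').mpr
      (Subgroup.card_dvd_of_le inf_le_right) q) ?_
    have h1 : Nat.card M ∣ Nat.card N * Nat.card W :=
      Dvd.intro _ (by rw [← hWN]; exact Solv.card_sup_mul_card_inf' N W (by
        rw [Subgroup.normalizer_eq_top]; exact le_top))
    have h2 := (Nat.factorization_le_iff_dvd Nat.card_pos.ne'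
      (Nat.mul_ne_zero Nat.card_pos.ne' Nat.card_pos.ne')).mpr h1 q
    rw [Nat.factorization_mul Nat.card_pos.ne' Nat.card_pos.ne', Finsupp.add_apply,
      Nat.factorization_eq_zero_of_not_dvd hNq, zero_add] at h2
    exact h2
  obtain ⟨c, hc, hcQ⟩ := Solv.invariant_sylow_conj hPM hco hsol hQ hQ'M hPQ hPQ'
  have hcM : c ∈ N ⊔ Q := hsupM.symm ▸ hc.1
  obtain ⟨k, hk, w, hw, rfl⟩ := Subgroup.mem_sup_of_normal_left.mp hcM
  have hkC : k ∈ C := by
    refine ⟨hk, Subgroup.mem_centralizer_iff.mpr fun u hu => ?_⟩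
    have h1 : u * (k * w) = k * w * u := Subgroup.mem_centralizer_iff.mp hc.2 u hu
    have hk' : k⁻¹ * (u * k * u⁻¹) = w * (u * w * u⁻¹)⁻¹ := by
      have h2 : (u * k * u⁻¹) * (u * w * u⁻¹) = k * w := by
        calc (u * k * u⁻¹) * (u * w * u⁻¹) = u * (k * w) * u⁻¹ := by group
          _ = k * w := by rw [h1, mul_inv_cancel_right]
      calc k⁻¹ * (u * k * u⁻¹) = k⁻¹ * ((u * k * u⁻¹) * (u * w * u⁻¹)) * (u * w * u⁻¹)⁻¹ := by group
        _ = k⁻¹ * (k * w) * (u * w * u⁻¹)⁻¹ := by rw [h2]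
        _ = _ := by group
    have h3 : k⁻¹ * (u * k * u⁻¹) ∈ N ⊓ Q :=
      ⟨N.mul_mem (N.inv_mem hk) (hN.conj_mem k hk u), hk' ▸
        Q.mul_mem hw (Q.inv_mem ((Subgroup.mem_normalizer_iff.mp (hPQ hu) w).mp hw))⟩
    rw [hdisj, Subgroup.mem_bot, inv_mul_eq_one] at h3
    exact mul_inv_eq_iff_eq_mul.mp h3.symm
  have hQQ : Q' = Q := by
    rw [← hcQ]
    refine Solv.conj_smul_of_mem_normalizer (mul_mem ?_ (Subgroup.le_normalizer hw))
    refine Subgroup.centralizer_le_normalizer _ (Subgroup.mem_centralizer_iff.mpr fun y hy => ?_)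
    exact hCQ' k hkC y hy
  exact hQQ ▸ hQ'.1.trans inf_le_left

/-- The case of a normal `p`-subgroup. -/
theorem pgroup_case (hne : p ≠ q)
    (hyp : ∀ χ : IrrCharacter X, ¬ p ∣ charDegree (χ : X → ℂ) → ¬ q ∣ charDegree (χ : X → ℂ))
    (hNab : IsMulCommutative N) (hNp : IsPGroup p N)
    (hMq : ∃ a, Nat.card M = Nat.card N * q ^ a)
    (hY : ∀ Y : Subgroup X, (P : Subgroup X) ≤ Y → ¬ q ∣ Y.index → M ≤ Y ⊔ N) :
    ∃ Q : Subgroup X, Solv.IsSylIn q Q M ∧
      (P : Subgroup X) ≤ Subgroup.normalizer (Q : Set X) ∧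
      ∀ Y : Subgroup X, (P : Subgroup X) ≤ Y → ¬ q ∣ Y.index → Q ≤ Y := by
  classical
  haveI := Fintype.ofFinite N
  haveI := Fintype.ofFinite (P : Subgroup X)
  have hp : p.Prime := Fact.out
  have hq : q.Prime := Fact.out
  obtain ⟨n, hn⟩ := IsPGroup.iff_card.mp hNp
  have hNq : ¬ q ∣ Nat.card N := fun h =>
    hne ((Nat.prime_dvd_prime_iff_eq hq hp).mp (hq.dvd_of_dvd_pow (hn ▸ h))).symm
  have hNP : N ≤ (P : Subgroup X) := hNp.le_sylow_of_normal P
  obtain ⟨a, ha⟩ := hMq
  obtain ⟨Q, hQ⟩ := Solv.exists_isSylIn q M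
  have hQcard : Nat.card Q = q ^ a := by
    rw [hQ.2, ha, Nat.factorization_mul Nat.card_pos.ne' (pow_ne_zero _ hq.ne_zero),
      Finsupp.add_apply, hq.factorization_pow, Finsupp.single_eq_same,
      Nat.factorization_eq_zero_of_not_dvd hNq, zero_add]
  have hcop : (Nat.card Q).Coprime (Nat.card N) := by
    rw [hQcard]
    exact Nat.Coprime.pow_left _ (hq.coprime_iff_not_dvd.mpr hNq)
  have hdisj : N ⊓ Q = ⊥ := by
    rw [inf_comm]
    exact disjoint_iff.mp (Subgroup.disjoint_of_coprime_natCard hcop)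
  have hNn : ∀ S : Subgroup X, S ≤ Subgroup.normalizer (N : Set X) := fun S => by
    rw [Subgroup.normalizer_eq_top]; exact le_top
  have hsupM : N ⊔ Q = M := by
    refine Subgroup.eq_of_le_of_card_ge (sup_le hNM hQ.1) ?_
    have h1 := Solv.card_sup_mul_card_inf' N Q (hNn Q)
    rw [hdisj, Subgroup.card_bot, mul_one, hQcard, ← ha] at h1
    exact h1.ge
  set C0 := N ⊓ Subgroup.centralizer (M : Set X) with hC0
  have hcentQ : ∀ x ∈ N, (∀ w ∈ Q, w * x = x * w) → x ∈ C0 := by
    refine fun x hx h => ⟨hx, Subgroup.mem_centralizer_iff.mpr fun m hm => ?_⟩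
    obtain ⟨k, hk, w, hw, rfl⟩ := Subgroup.mem_sup_of_normal_left.mp (hsupM.symm ▸ hm)
    have hkx : k * x = x * k := congrArg Subtype.val (mul_comm' (⟨k, hk⟩ : N) ⟨x, hx⟩)
    rw [mul_assoc, h w hw, ← mul_assoc, hkx, mul_assoc]
  -- `Q` centralizes `N`
  have hcen : N ≤ C0 := by
    by_contra hnot
    have hC0P : (P : Subgroup X) ≤ Subgroup.normalizer (C0 : Set X) := by
      intro u hu
      rw [Subgroup.mem_normalizer_iff]
      intro y
      have key : ∀ v ∈ (P : Subgroup X), ∀ y ∈ C0, v * y * v⁻¹ ∈ C0 := by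
        intro v hv y hy
        refine ⟨hN.conj_mem y hy.1 v, Subgroup.mem_centralizer_iff.mpr fun m hm => ?_⟩
        have hm' : v⁻¹ * m * v ∈ M := (Subgroup.mem_normalizer_iff''.mp (hPM hv) m).mp hm
        have hcm := Subgroup.mem_centralizer_iff.mp hy.2 _ hm'
        calc m * (v * y * v⁻¹) = v * ((v⁻¹ * m * v) * y) * v⁻¹ := by group
          _ = v * (y * (v⁻¹ * m * v)) * v⁻¹ := by rw [hcm]
          _ = _ := by group
      refine ⟨key u hu y, fun hy => ?_⟩
      have := key u⁻¹ (inv_mem hu) _ hy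
      rwa [show u⁻¹ * (u * y * u⁻¹) * u⁻¹⁻¹ = y by group] at this
    set P' : Subgroup X := (P : Subgroup X) with hP'
    haveI hC0n : (C0.subgroupOf P').Normal := Subgroup.normal_subgroupOf_of_le_normalizer hC0P
    haveI : Group.IsNilpotent P' := P.isPGroup'.isNilpotent
    haveI : (N.subgroupOf P').Normal := Subgroup.Normal.comap hN _
    set D0 : Subgroup P' := ⁅N.subgroupOf P', (⊤ : Subgroup P')⁆ ⊔ C0.subgroupOf P' with hD0
    haveI : D0.Normal := Subgroup.sup_normal _ _
    have hD0ne : ∃ x : P', x ∈ N.subgroupOf P' ∧ x ∉ D0 := by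
      by_contra! hall
      set π := QuotientGroup.mk' (C0.subgroupOf P')
      have h1 : (N.subgroupOf P').map π ≤ ⁅(N.subgroupOf P').map π, (⊤ : Subgroup (P' ⧸ C0.subgroupOf P'))⁆ := by
        rintro _ ⟨x, hx, rfl⟩
        have h2 := Subgroup.mem_map_of_mem π (hall x hx)
        rw [hD0, Subgroup.map_sup, Subgroup.map_commutator,
          Subgroup.map_top_of_surjective π (QuotientGroup.mk'_surjective _),
          (Subgroup.map_eq_bot_iff _).mpr (QuotientGroup.ker_mk' _).ge, sup_bot_eq] at h2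
        exact h2
      have h3 := Fusion.eq_bot_of_le_commutator_top h1
      refine hnot fun x hx => ?_
      have h4 := (Subgroup.map_eq_bot_iff _).mp h3
        (show (⟨x, hNP hx⟩ : P') ∈ N.subgroupOf P' from hx)
      rw [QuotientGroup.ker_mk'] at h4
      exact h4
    obtain ⟨x0, hx0N, hx0D⟩ := hD0ne
    have hPdec : ∀ u : P', ∃ k : P', k ∈ N.subgroupOf P' ∧
        ((k⁻¹ * u : P') : X) ∈ Subgroup.normalizer (Q : Set X) := by
      intro u
      have hu : MulAut.conj (u : X) • Q ≤ M :=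
        (Subgroup.pointwise_smul_le_pointwise_smul_iff.2 hQ.1).trans
          (Solv.conj_smul_of_mem_normalizer (hPM u.2)).le
      obtain ⟨m, hm, hmQ⟩ := Solv.IsSylIn.exists_conj hQ
        (⟨hu, by rw [Solv.card_conj_smul, hQ.2]⟩ : Solv.IsSylIn q (MulAut.conj (u : X) • Q) M)
      obtain ⟨k, hk, w, hw, rfl⟩ := Subgroup.mem_sup_of_normal_left.mp (hsupM.symm ▸ hm)
      refine ⟨⟨k, hNP hk⟩, hk, ?_⟩
      show k⁻¹ * (u : X) ∈ _
      refine Solv.mem_normalizer_of_conj_smul ?_
      rw [← Solv.conj_smul_conj, ← hmQ, ← Solv.conj_smul_conj,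
        Solv.conj_smul_of_mem_normalizer (Subgroup.le_normalizer hw), Solv.conj_smul_conj,
        inv_mul_cancel, Solv.conj_one_smul]
    choose κ hκN hκR using hPdec
    let π0 := QuotientGroup.mk' D0
    have hcentral : ∀ k ∈ N.subgroupOf P', ∀ u : P', Commute (π0 k) (π0 u) := by
      intro k hk u
      have h1 : π0 ⁅k, u⁆ = 1 := (QuotientGroup.eq_one_iff _).mpr
        (Subgroup.mem_sup_left (Subgroup.commutator_mem_commutator hk (Subgroup.mem_top _)))
      rwa [map_commutatorElement, commutatorElement_eq_one_iff_mul_comm] at h1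
    have hker : ∀ (k : P'), k ∈ N.subgroupOf P' → (k : X) ∈ Subgroup.normalizer (Q : Set X) →
        π0 k = 1 := by
      intro k hk hkQ
      refine (QuotientGroup.eq_one_iff _).mpr (Subgroup.mem_sup_right ?_)
      exact hcentQ (k : X) hk (Subgroup.mem_centralizer_iff.mp
        (Solv.centralizer_of_normalizes (hNn Q) hdisj hk hkQ))
    have hwd : ∀ (u k : P'), k ∈ N.subgroupOf P' →
        ((k⁻¹ * u : P') : X) ∈ Subgroup.normalizer (Q : Set X) → π0 (κ u) = π0 k := by
      intro u k hk hkR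
      have h1 : (((κ u)⁻¹ * k : P') : X) ∈ Subgroup.normalizer (Q : Set X) := by
        have := mul_mem (hκR u) (inv_mem hkR)
        simpa [mul_assoc] using this
      have h2 := hker _ (mul_mem (inv_mem (hκN u)) hk) h1
      rw [map_mul, map_inv, inv_mul_eq_one] at h2
      exact h2
    let ρ : P' →* P' ⧸ D0 :=
      { toFun := fun u => π0 (κ u)
        map_one' := (hwd 1 1 (one_mem _) (by simp [one_mem])).trans (map_one _)
        map_mul' := fun u v => by
          have hmem : κ u * (((κ u)⁻¹ * u) * κ v * ((κ u)⁻¹ * u)⁻¹) ∈ N.subgroupOf P' :=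
            mul_mem (hκN u) ((inferInstance : (N.subgroupOf P').Normal).conj_mem _ (hκN v) _)
          have hR' : (((κ u * (((κ u)⁻¹ * u) * κ v * ((κ u)⁻¹ * u)⁻¹))⁻¹ * (u * v) : P') : X) ∈
              Subgroup.normalizer (Q : Set X) := by
            rw [show (κ u * (((κ u)⁻¹ * u) * κ v * ((κ u)⁻¹ * u)⁻¹))⁻¹ * (u * v) =
              ((κ u)⁻¹ * u) * ((κ v)⁻¹ * v) by group]
            exact mul_mem (hκR u) (hκR v)
          rw [hwd _ _ hmem hR', map_mul, map_mul, map_mul, map_inv]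
          rw [← (hcentral _ (hκN v) ((κ u)⁻¹ * u)).eq, mul_inv_cancel_right] }
    have hρN : ∀ k ∈ N.subgroupOf P', ρ k = π0 k := fun k hk =>
      hwd k k hk (by simp [one_mem])
    have hab : ∀ a b : ρ.range, a * b = b * a := by
      rintro ⟨_, u, rfl⟩ ⟨_, v, rfl⟩
      exact Subtype.ext (hcentral _ (hκN u) (κ v)).eq
    obtain ⟨μ, hμ⟩ : ∃ μ : ρ.range →* ℂˣ, μ ⟨ρ x0, ⟨x0, rfl⟩⟩ ≠ 1 := by
      by_contra! hall
      haveI := Fintype.ofFinite ρ.range
      haveI : IsMulCommutative ρ.range := ⟨⟨hab⟩⟩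
      have h1 := mem_commutator_of_forall_linear hall
      rw [(commutator_eq_bot_iff _).mpr inferInstance, Subgroup.mem_bot] at h1
      have h2 : ρ x0 = 1 := congrArg Subtype.val h1
      rw [hρN x0 hx0N] at h2
      exact hx0D ((QuotientGroup.eq_one_iff _).mp h2)
    let l : P' →* ℂˣ := μ.comp ρ.rangeRestrict
    let lN : N →* ℂˣ := l.comp (Subgroup.inclusion hNP)
    obtain ⟨I, hIq, hPI, hIθ⟩ := exists_fixing hp hyp hNP P.not_dvd_index
      ⟨fun x : N => (lN x : ℂ), isIrrCharacter_linear lN⟩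
      ⟨fun x : P' => (l x : ℂ), isIrrCharacter_linear l⟩ (fun _ => rfl)
      (by
        have h1 : charDegree (fun x : P' => (l x : ℂ)) = 1 := by simp [charDegree]
        rw [h1]; exact hp.not_dvd_one)
    have hMI : M ≤ I := (hY I hPI hIq).trans (sup_le le_rfl (hNP.trans hPI))
    have hsolQ : Group.IsSolvable Q := by
      haveI := hQ.isPGroup.isNilpotent
      infer_instance
    obtain ⟨v, hv, c, hc, hvc⟩ := Solv.exists_commutator_mul_fixed (hNn Q) hcop (Or.inl hsolQ)
      (show (x0 : X) ∈ N from hx0N)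
    have hc' : lN ⟨c, hc.1⟩ = 1 := by
      have h1 : ρ ⟨c, hNP hc.1⟩ = 1 := by
        rw [hρN _ hc.1]
        exact (QuotientGroup.eq_one_iff _).mpr
          (Subgroup.mem_sup_right (hcentQ c hc.1 (Subgroup.mem_centralizer_iff.mp hc.2)))
      show μ (ρ.rangeRestrict ⟨c, hNP hc.1⟩) = 1
      rw [show ρ.rangeRestrict ⟨c, hNP hc.1⟩ = 1 from Subtype.ext h1, map_one]
    have hle : ⁅N, Q⁆ ≤ lN.ker.map N.subtype := by
      rw [Subgroup.commutator_le]
      intro k hk w hw
      refine ⟨⟨k, hk⟩ * (MulAut.conjNormal w (⟨k, hk⟩ : N))⁻¹, ?_, ?_⟩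
      · have h1 := hIθ w (hMI (hQ.1 hw)) (⟨k, hk⟩ : N)
        have h2 : lN (MulAut.conjNormal w (⟨k, hk⟩ : N)) = lN ⟨k, hk⟩ := Units.ext h1
        rw [SetLike.mem_coe, MonoidHom.mem_ker, map_mul, map_inv, h2, mul_inv_cancel]
      · simp only [Subgroup.coe_subtype, Subgroup.coe_mul, Subgroup.coe_inv,
          MulAut.conjNormal_apply, commutatorElement_def, _root_.mul_inv_rev, inv_inv]
        group
    obtain ⟨v', hv', hv'e⟩ := hle hv
    refine hμ ?_
    have h5 : (⟨(x0 : X), hx0N⟩ : N) = v' * ⟨c, hc.1⟩ := Subtype.ext (by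
      rw [hvc, ← hv'e]; rfl)
    have h6 : lN ⟨(x0 : X), hx0N⟩ = 1 := by
      rw [h5, map_mul, hc', mul_one]
      exact hv'
    exact h6
  refine ⟨Q, hQ, fun u hu => Solv.mem_normalizer_of_conj_smul ?_, fun Y hPY hYq => ?_⟩
  · have hu' : Solv.IsSylIn q (MulAut.conj u • Q) M := hQ.conj (hPM hu)
    obtain ⟨m, hm, hmQ⟩ := Solv.IsSylIn.exists_conj hQ hu'
    obtain ⟨k, hk, w, hw, rfl⟩ := Subgroup.mem_sup_of_normal_left.mp (hsupM.symm ▸ hm)
    rw [← hmQ]
    refine Solv.conj_smul_of_mem_normalizer (mul_mem ?_ (Subgroup.le_normalizer hw))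
    refine Subgroup.centralizer_le_normalizer _ (Subgroup.mem_centralizer_iff.mpr fun y hy => ?_)
    exact Subgroup.mem_centralizer_iff.mp (hcen hk).2 y (hQ.1 hy)
  · exact hQ.1.trans ((hY Y hPY hYq).trans (sup_le le_rfl (hNP.trans hPY)))

end Step

/-- The main theorem. -/
theorem good [Fact p.Prime] [Fact q.Prime] (hne : p ≠ q) :
    ∀ (n : ℕ) (X : Type u) [Group X] [Fintype X], Nat.card X = n → IsPSolvable p X → IsPSolvable q X →
      (∀ χ : IrrCharacter X, ¬ p ∣ charDegree (χ : X → ℂ) → ¬ q ∣ charDegree (χ : X → ℂ)) →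
      Good p q X := by
  intro n
  induction n using Nat.strong_induction_on with
  | _ n ih =>
    intro X _ _ hn hps hqs hyp P
    classical
    have hp : p.Prime := Fact.out
    have hq : q.Prime := Fact.out
    rcases subsingleton_or_nontrivial X with hs | hnt
    · obtain ⟨Q⟩ : Nonempty (Sylow q X) := inferInstance
      exact ⟨Q, fun u _ => by rw [Subsingleton.elim u 1]; exact one_mem _,
        fun Y _ _ u _ => by rw [Subsingleton.elim u 1]; exact one_mem _⟩
    obtain ⟨N, hN, hNne, hmin⟩ := Solv.exists_minimal_normal (G := X)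
    haveI := hN
    haveI := Fintype.ofFinite (X ⧸ N)
    set π := QuotientGroup.mk' N with hπ
    have hπs : Function.Surjective π := QuotientGroup.mk'_surjective N
    have hlt : Nat.card (X ⧸ N) < n := hn ▸ Solv.card_quotient_lt N hNne
    have hyp' : ∀ χ : IrrCharacter (X ⧸ N), ¬ p ∣ charDegree (χ : X ⧸ N → ℂ) →
        ¬ q ∣ charDegree (χ : X ⧸ N → ℂ) := by
      intro χ
      have e : charDegree ((inflateEquiv N χ).1 : X → ℂ) = charDegree (χ : X ⧸ N → ℂ) := by
        simp only [charDegree]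
        rw [inflateEquiv_apply, QuotientGroup.mk_one]
      rw [← e]
      exact hyp _
    obtain ⟨Qb, hQb, hQbY⟩ := ih _ hlt (X ⧸ N) rfl (Solv.isPSolvable_map hp hps π hπs)
      (Solv.isPSolvable_map hq hqs π hπs) hyp' (P.mapSurjective hπs)
    set M := (Qb : Subgroup (X ⧸ N)).comap π with hM
    have hNM : N ≤ M := fun x hx => by
      show π x ∈ (Qb : Subgroup (X ⧸ N))
      rw [show π x = 1 from (QuotientGroup.eq_one_iff x).mpr hx]
      exact one_mem _
    have hPM : (P : Subgroup X) ≤ Subgroup.normalizer (M : Set X) := by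
      intro u hu
      have h1 := hQb (show π u ∈ ((P.mapSurjective hπs : Sylow p (X ⧸ N)) : Subgroup (X ⧸ N)) from
        ⟨u, hu, rfl⟩)
      rw [Subgroup.mem_normalizer_iff] at h1 ⊢
      intro y
      show π y ∈ (Qb : Subgroup (X ⧸ N)) ↔ π (u * y * u⁻¹) ∈ (Qb : Subgroup (X ⧸ N))
      rw [map_mul, map_mul, map_inv]
      exact h1 (π y)
    have hMcard : Nat.card M = Nat.card N * Nat.card (Qb : Subgroup (X ⧸ N)) := by
      have h1 := Subgroup.card_mul_index (Qb : Subgroup (X ⧸ N))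
      have h2 := Subgroup.card_mul_index M
      rw [hM, Subgroup.index_comap_of_surjective _ hπs, ← Subgroup.card_mul_index N,
        show N.index = Nat.card (X ⧸ N) from Subgroup.index_eq_card N, ← h1, ← mul_assoc] at h2
      exact Nat.eq_of_mul_eq_mul_right (Nat.pos_of_ne_zero Subgroup.index_ne_zero_of_finite) h2
    have hMq : ∃ a, Nat.card M = Nat.card N * q ^ a :=
      ⟨_, by rw [hMcard, Qb.card_eq_multiplicity]⟩
    have hMi : ¬ q ∣ M.index := by
      rw [hM, Subgroup.index_comap_of_surjective _ hπs]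
      exact Qb.not_dvd_index
    have hY : ∀ Y : Subgroup X, (P : Subgroup X) ≤ Y → ¬ q ∣ Y.index → M ≤ Y ⊔ N := by
      intro Y hPY hYq x hx
      have h1 := hQbY (Y.map π) (Subgroup.map_mono hPY)
        (fun h => hYq (h.trans (Subgroup.index_map_dvd _ hπs))) hx
      obtain ⟨y, hy, e⟩ := h1
      have h2 : y⁻¹ * x ∈ N := QuotientGroup.eq.mp e
      have := mul_mem (Subgroup.mem_sup_left hy : y ∈ Y ⊔ N) (Subgroup.mem_sup_right h2)
      rwa [mul_inv_cancel_left] at this
    have hfin : ∀ Q : Subgroup X, Solv.IsSylIn q Q M →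
        Nat.card Q = q ^ (Nat.card X).factorization q := by
      intro Q hQ
      rw [hQ.2]
      congr 1
      rw [← Subgroup.card_mul_index M, Nat.factorization_mul Nat.card_pos.ne'
        Subgroup.index_ne_zero_of_finite, Finsupp.add_apply,
        Nat.factorization_eq_zero_of_not_dvd hMi, add_zero]
    suffices h : ∃ Q : Subgroup X, Solv.IsSylIn q Q M ∧
        (P : Subgroup X) ≤ Subgroup.normalizer (Q : Set X) ∧
        ∀ Y : Subgroup X, (P : Subgroup X) ≤ Y → ¬ q ∣ Y.index → Q ≤ Y by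
      obtain ⟨Q, hQ, h1, h2⟩ := h
      exact ⟨Sylow.ofCard Q (hfin Q hQ), by simpa using h1,
        fun Y hY1 hY2 => by simpa using h2 Y hY1 hY2⟩
    rcases minimal_normal_type hqs hNne hmin with hNq | hNq
    · -- a normal `q`-subgroup
      obtain ⟨b, hb⟩ := IsPGroup.iff_card.mp hNq
      obtain ⟨a, ha⟩ := hMq
      refine ⟨M, ⟨le_rfl, ?_⟩, hPM, fun Y hPY hYq => (hY Y hPY hYq).trans (sup_le le_rfl ?_)⟩
      · rw [ha, hb, ← pow_add, hq.factorization_pow, Finsupp.single_eq_same]
      · obtain ⟨S⟩ : Nonempty (Sylow q Y) := inferInstance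
        have hS : Nat.card ((S : Subgroup Y).map Y.subtype) = q ^ (Nat.card X).factorization q := by
          rw [Subgroup.card_map_of_injective Y.subtype_injective, S.card_eq_multiplicity]
          congr 1
          rw [← Subgroup.card_mul_index Y, Nat.factorization_mul Nat.card_pos.ne'
            Subgroup.index_ne_zero_of_finite, Finsupp.add_apply,
            Nat.factorization_eq_zero_of_not_dvd hYq, add_zero]
        exact (hNq.le_sylow_of_normal (Sylow.ofCard _ hS)).trans
          (by simpa using Subgroup.map_subtype_le _)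
    have hNq' : ¬ q ∣ Nat.card N := hq.coprime_iff_not_dvd.mp hNq.symm
    rcases minimal_normal_type hps hNne hmin with hNp | hNp
    · haveI := hNp.isNilpotent
      exact pgroup_case P hNM hPM hne hyp
        (Solv.minimal_normal_elementaryAbelian N inferInstance hNne hmin).1 hNp hMq hY
    · exact coprime_case P hNM hPM hne hyp (hp.coprime_iff_not_dvd.mp hNp.symm) hNq' hMq hY

end Cfsg.Agent.Char.DegNorm
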