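import Cfsg.Agent.Lib.Char.FullyRamifiedOrbit

/-!
# Induced fully ramified characters and cyclic Sylow quotients
-/

set_option autoImplicit false
set_option linter.unusedSectionVars false
set_option linter.style.haveILetI false

namespace Cfsg.Agent.Char.FROrbit

open Cfsg
open scoped ComplexConjugate

universe u

variable {H : Type u} [Group H] [Fintype H] {Z : Subgroup H} [Z.Normal] [Fintype Z]
  {χ : IrrCharacter H} {θ : IrrCharacter Z} {e : ℕ} {p : ℕ} [hp : Fact p.Prime]

theorem exists_constituent_below {G : Type u} [Group G] [Fintype G] (N : Subgroup G) [Fintype N]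
    (ψ : IrrCharacter G) :
    ∃ η : IrrCharacter N, classInner (fun n : N => (ψ : G → ℂ) n) (η : N → ℂ) ≠ 0 := by
  by_contra hno
  push Not at hno
  obtain ⟨m, hm⟩ := exists_decomposition (isCharacter_comp N.subtype (irr_isCharacter ψ.2))
  refine irr_one_ne_zero ψ.2 ?_
  have h1 := congrFun hm 1
  rw [Function.comp_apply, map_one, Finset.sum_apply, Finset.sum_eq_zero fun η _ => by
    have : (m η : ℂ) = 0 := (decomposition_coeff m hm η).symm.trans (hno η)
    rw [Nat.cast_eq_zero.1 this, zero_smul]; rfl] at h1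
  exact h1

/-- Cyclic Sylow subgroups of the quotient have complements. -/
theorem exists_index_of_cyclic (h : FRCtx Z χ θ e) (K : Subgroup H) [K.Normal] (hZK : Z ≤ K)
    (Q : Sylow p (H ⧸ K)) (hcyc : IsCyclic Q) :
    ∃ M : Subgroup (H ⧸ K), M.index = p ^ K.index.factorization p := by
  classical
  obtain ⟨P⟩ : Nonempty (Sylow p (H ⧸ Z)) := inferInstance
  haveI := Fintype.ofFinite (pre Z P)
  haveI := Fintype.ofFinite (K.subgroupOf (pre Z P))
  obtain ⟨ψ, e', -, he0, hres, hvan⟩ := exists_psi h P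
  obtain ⟨η, hη⟩ := exists_constituent_below (K.subgroupOf (pre Z P)) ψ
  refine exists_complement_index h P ψ e' he0 hres hvan K hZK η (mult_one_of_cyclic _ ?_ ψ η hη)
  let f : pre Z P →* H ⧸ K := (QuotientGroup.mk' K).comp (pre Z P).subtype
  have hker : f.ker = K.subgroupOf (pre Z P) :=
    Subgroup.ext fun x => QuotientGroup.eq_one_iff (x : H)
  have hpg : IsPGroup p f.range := by
    rintro ⟨y, x, rfl⟩
    obtain ⟨k, hk⟩ := P.isPGroup' (⟨(QuotientGroup.mk (x : H) : H ⧸ Z), x.2⟩ : (P : Subgroup (H ⧸ Z)))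
    refine ⟨k, Subtype.ext ?_⟩
    have h1 : (x : H) ^ p ^ k ∈ Z := by
      have h2 := congrArg Subtype.val hk
      simp only [SubmonoidClass.coe_pow, OneMemClass.coe_one, ← QuotientGroup.mk_pow] at h2
      exact (QuotientGroup.eq_one_iff _).1 h2
    rw [SubmonoidClass.coe_pow, OneMemClass.coe_one, ← map_pow]
    exact (QuotientGroup.eq_one_iff _).2 (hZK (by rw [map_pow, Subgroup.coe_subtype]; exact h1))
  obtain ⟨Q', hQ'⟩ := hpg.exists_le_sylow
  haveI := hcyc
  haveI : IsCyclic Q' := isCyclic_of_surjective (Sylow.equiv Q Q').toMonoidHom (Sylow.equiv Q Q').surjective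
  haveI : IsCyclic f.range := isCyclic_of_injective (Subgroup.inclusion hQ') (Subgroup.inclusion_injective hQ')
  haveI : IsCyclic (pre Z P ⧸ f.ker) := isCyclic_of_surjective (QuotientGroup.quotientKerEquivRange f).symm.toMonoidHom
    (QuotientGroup.quotientKerEquivRange f).symm.surjective
  exact isCyclic_of_surjective (QuotientGroup.quotientMulEquivOfEq hker).toMonoidHom
    (QuotientGroup.quotientMulEquivOfEq hker).surjective

/-- An induced fully ramified character gives complements at every prime. -/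
theorem exists_index_of_induced (h : FRCtx Z χ θ e) (K : Subgroup H) [K.Normal] [Fintype K]
    (hZK : Z ≤ K) {φ : K → ℂ} (hφ : IsCharacter K φ) (hind : indFun K φ = (χ : H → ℂ)) :
    ∃ M : Subgroup (H ⧸ K), M.index = p ^ K.index.factorization p := by
  classical
  obtain ⟨P⟩ : Nonempty (Sylow p (H ⧸ Z)) := inferInstance
  haveI := Fintype.ofFinite (pre Z P)
  haveI := Fintype.ofFinite (K.subgroupOf (pre Z P))
  obtain ⟨ψ, e', hpe, he0, hres, hvan⟩ := exists_psi h P
  obtain ⟨η, hη⟩ := exists_constituent_below (K.subgroupOf (pre Z P)) ψ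
  refine exists_complement_index h P ψ e' he0 hres hvan K hZK η ?_
  obtain ⟨l, hl⟩ := classInner_natCast (isCharacter_comp (K.subgroupOf (pre Z P)).subtype (irr_isCharacter ψ.2))
    (irr_isCharacter η.2)
  have hl' : classInner (fun s : (K.subgroupOf (pre Z P)) => (ψ : pre Z P → ℂ) s) (η : (K.subgroupOf (pre Z P)) → ℂ) = l := hl
  have hl0 : l ≠ 0 := fun e0 => hη (by rw [hl', e0, Nat.cast_zero])
  let iK : (K.subgroupOf (pre Z P)) →* K :=
    { toFun := fun s => ⟨((s : pre Z P) : H), s.2⟩
      map_one' := rfl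
      map_mul' := fun a b => rfl }
  obtain ⟨m, hm⟩ := exists_decomposition (isCharacter_comp iK hφ)
  -- constituents of `φ` are in the orbit
  have horb : ∀ a : IrrCharacter (K.subgroupOf (pre Z P)), m a ≠ 0 → a ∈ cliffOrbit (K.subgroupOf (pre Z P)) η := by
    intro a ha
    refine mem_cliffOrbit_of_constituent (χ := ψ) hη ?_
    intro h0
    -- the restriction of `χ` is an average of conjugates of `φ`
    let cj : H → ((K.subgroupOf (pre Z P)) →* K) := fun x => (MulAut.conjNormal x : MulAut K).toMonoidHom.comp iK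
    choose n hn using fun x : H => classInner_natCast (isCharacter_comp (cj x) hφ) (irr_isCharacter a.2)
    have havg : (fun s : (K.subgroupOf (pre Z P)) => (χ : H → ℂ) ((s : pre Z P) : H)) =
        (Nat.card K : ℂ)⁻¹ • ∑ x : H, (φ ∘ cj x) := by
      funext s
      rw [← hind, show indFun K φ ((s : pre Z P) : H) = indFun K φ ((iK s : K) : H) from rfl,
        indFun_restrict_normal, Pi.smul_apply, Finset.sum_apply, smul_eq_mul]
      rfl
    have h2 : classInner (fun s : (K.subgroupOf (pre Z P)) => (χ : H → ℂ) ((s : pre Z P) : H)) (a : (K.subgroupOf (pre Z P)) → ℂ) = 0 := by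
      rw [show (fun s : (K.subgroupOf (pre Z P)) => (χ : H → ℂ) ((s : pre Z P) : H)) =
        (e' : ℂ) • (fun s : (K.subgroupOf (pre Z P)) => (ψ : pre Z P → ℂ) s) from funext fun s => hres s,
        classInner_smul_left, h0, mul_zero]
    rw [havg, classInner_smul_left, classInner_sum_left, Finset.sum_congr rfl fun x _ => hn x,
      mul_eq_zero] at h2
    have h3 := h2.resolve_left (inv_ne_zero (Nat.cast_ne_zero.2 Nat.card_pos.ne'))
    rw [← Nat.cast_sum, Nat.cast_eq_zero, Finset.sum_eq_zero_iff] at h3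
    have h4 := hn 1
    rw [h3 1 (Finset.mem_univ _),
      show φ ∘ cj 1 = φ ∘ iK from funext fun s => congrArg φ (Subtype.ext (by simp [cj])),
      decomposition_coeff m hm a] at h4
    exact ha (Nat.cast_eq_zero.1 (h4.trans Nat.cast_zero))
  -- degrees
  have hdeg : ∀ a ∈ cliffOrbit (K.subgroupOf (pre Z P)) η, deg (a : (K.subgroupOf (pre Z P)) → ℂ) = deg (η : (K.subgroupOf (pre Z P)) → ℂ) := fun a ha => by
    obtain ⟨g, rfl⟩ := mem_cliffOrbit.mp ha
    simp [deg]
  set s := ∑ a, m a with hs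
  have hφ1 : φ 1 = ((s * deg (η : (K.subgroupOf (pre Z P)) → ℂ) : ℕ) : ℂ) := by
    have h2 := congrFun hm 1
    rw [Function.comp_apply, map_one, Finset.sum_apply] at h2
    rw [h2, hs, Finset.sum_mul, Nat.cast_sum]
    refine Finset.sum_congr rfl fun a _ => ?_
    rw [Pi.smul_apply, nsmul_eq_mul, char_one_eq_deg (irr_isCharacter a.2), Nat.cast_mul]
    by_cases h0 : m a = 0
    · rw [h0, Nat.cast_zero, zero_mul, zero_mul]
    · rw [hdeg a (horb a h0)]
  have hχ1 : (χ : H → ℂ) 1 = (K.index : ℂ) * φ 1 := by rw [← hind, indFun_one]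
  have hψ1 : (ψ : pre Z P → ℂ) 1 =
      ((l * ((cliffOrbit (K.subgroupOf (pre Z P)) η).card * deg (η : (K.subgroupOf (pre Z P)) → ℂ)) : ℕ) : ℂ) := by
    have h2 := congrFun (clifford_restrict ψ η hη) 1
    rw [hl', OneMemClass.coe_one, Pi.smul_apply, Finset.sum_apply, smul_eq_mul,
      Finset.sum_congr rfl (g := fun _ => (deg (η : (K.subgroupOf (pre Z P)) → ℂ) : ℂ)) (fun χ hχ => by
        rw [char_one_eq_deg (irr_isCharacter χ.2), hdeg χ hχ]),
      Finset.sum_const, nsmul_eq_mul] at h2
    rw [h2]; push_cast; ring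
  have hmain : K.index * s = e' * (l * (cliffOrbit (K.subgroupOf (pre Z P)) η).card) := by
    have h2 := hres 1
    rw [OneMemClass.coe_one, hχ1, hφ1, hψ1] at h2
    have h3 : K.index * (s * deg (η : (K.subgroupOf (pre Z P)) → ℂ)) = e' * (l * ((cliffOrbit (K.subgroupOf (pre Z P)) η).card * deg (η : (K.subgroupOf (pre Z P)) → ℂ))) := by
      exact_mod_cast h2
    refine Nat.eq_of_mul_eq_mul_right (deg_pos η.2) ?_
    rw [mul_assoc, h3]; ring
  have hsq := sq_mul_orbit P ψ hvan K hZK η l hl' hl0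
  obtain ⟨hrel, -⟩ := relIndex_facts P K hZK
  have hd1 : l * l * (cliffOrbit (K.subgroupOf (pre Z P)) η).card ∣ e' * (l * (cliffOrbit (K.subgroupOf (pre Z P)) η).card) := by
    rw [← hmain, hsq, hrel]
    exact (Nat.ordProj_dvd _ _).mul_right _
  have hl2 : l ∣ e' := by
    have hc0 : 0 < l * (cliffOrbit (K.subgroupOf (pre Z P)) η).card := mul_pos (Nat.pos_of_ne_zero hl0)
      (Finset.card_pos.2 ⟨η, mem_cliffOrbit.mpr ⟨1, irrComp_conj_one η⟩⟩)
    rw [mul_assoc] at hd1
    exact Nat.dvd_of_mul_dvd_mul_right hc0 hd1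
  have hl3 : l ∣ p ^ K.index.factorization p := by
    rw [← hrel, ← hsq, mul_assoc]; exact dvd_mul_right _ _
  have : l = 1 := Nat.eq_one_of_dvd_coprimes ((hp.out.coprime_iff_not_dvd.2 hpe).pow_left _) hl3 hl2
  rw [hl', this, Nat.cast_one]

/-- An induced fully ramified character forces a solvable quotient. -/
theorem isSolvable_quotient (h : FRCtx Z χ θ e) (K : Subgroup H) [K.Normal] [Fintype K]
    (hZK : Z ≤ K) {φ : K → ℂ} (hφ : IsCharacter K φ) (hind : indFun K φ = (χ : H → ℂ)) :
    Group.IsSolvable (H ⧸ K) := by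
  refine Cfsg.Agent.Solv.isSolvable_of_complements _ _ rfl fun q hq => ?_
  haveI := Fact.mk hq
  exact exists_index_of_induced h K hZK hφ hind

end Cfsg.Agent.Char.FROrbit
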