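import Cfsg.Agent.Lib.Char.CliffordGen
import Cfsg.Agent.Lib.Char.CliffordInd
import Cfsg.Agent.Lib.Char.ProjRep
import Cfsg.Agent.Lib.Char.FullyRamifiedInduced
import Cfsg.Agent.Lib.Char.RelFixLayer
import Cfsg.Agent.Lib.Char.CoverBlocks
import Cfsg.Agent.Lib.Char.PrimeDegreesThree
import Cfsg.Prelude.Def_DegreeGraph

/-!
# The degree of a character over a minimal nonabelian solvable quotient

For a solvable group `G` and `K` maximal among the normal subgroups with nonabelian quotient, either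
`G / K` has prime power order, or `G / K` is a Frobenius group with elementary abelian kernel `N / K` and
abelian complement, and then every irreducible `ψ` of `N` has degree divisible by the prime of `N / K` or
gives the degree `|G : N| ψ(1)`.
-/

set_option autoImplicit false
set_option linter.unusedSectionVars false
set_option linter.style.haveILetI false

namespace Cfsg.Agent.Char.DegreeSplit

open Cfsg
open scoped ComplexConjugate commutatorElement

universe u

variable {G : Type u} [Group G] [Fintype G]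

/-- The degree divides the index times the degree of a constituent. -/
theorem deg_dvd_index_mul (N : Subgroup G) [N.Normal] [Fintype N] (χ : IrrCharacter G)
    (θ : IrrCharacter N) (hθ : classInner (fun n : N => (χ : G → ℂ) n) (θ : N → ℂ) ≠ 0) :
    deg (χ : G → ℂ) ∣ N.index * deg (θ : N → ℂ) := by
  classical
  obtain ⟨T, ψ, e, hNT, hψ, hind, -, -, hres, -⟩ := exists_correspondent χ.2 N θ hθ
  haveI := Fintype.ofFinite T
  haveI : (N.subgroupOf T).Normal := Subgroup.Normal.comap inferInstance T.subtype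
  have he : e ∣ (N.subgroupOf T).index :=
    invariant_mult_dvd_index (N := N.subgroupOf T) hψ
      (isIrrCharacter_comp_equiv (Subgroup.subgroupOfEquivOfLe hNT) θ.2) (e := e)
      fun n => hres ((Subgroup.subgroupOfEquivOfLe hNT) n)
  have h1 := congrFun hind 1
  have h2 := hres 1
  rw [map_one] at h2
  rw [indFun_one, h2, char_one_eq_deg (irr_isCharacter χ.2),
    char_one_eq_deg (irr_isCharacter θ.2)] at h1
  have h3 : deg (χ : G → ℂ) = T.index * (e * deg (θ : N → ℂ)) := by exact_mod_cast h1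
  rw [h3, ← Subgroup.relIndex_mul_index hNT, mul_comm (N.relIndex T) T.index, mul_assoc]
  exact Nat.mul_dvd_mul_left _ (Nat.mul_dvd_mul_right he _)

/-- A character of degree prime to the index restricts irreducibly. -/
theorem restrict_of_coprime (N : Subgroup G) [N.Normal] [Fintype N] (χ : IrrCharacter G)
    (hco : (deg (χ : G → ℂ)).Coprime N.index) :
    ∃ θ : IrrCharacter N, ∀ n : N, (χ : G → ℂ) n = (θ : N → ℂ) n := by
  obtain ⟨θ, hθ⟩ := FROrbit.exists_constituent_below N χ
  refine ⟨θ, fun n => ?_⟩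
  have h1 : deg (χ : G → ℂ) ∣ deg (θ : N → ℂ) :=
    hco.dvd_of_dvd_mul_left (deg_dvd_index_mul N χ θ hθ)
  have h2 := Nat.dvd_antisymm h1 (PrimeDegrees.deg_dvd_of_constituent N hθ)
  exact congrFun (eq_of_inner_ne_zero_of_deg (isCharacter_comp N.subtype (irr_isCharacter χ.2)) θ hθ
    (by rw [Function.comp_apply, map_one, char_one_eq_deg (irr_isCharacter χ.2),
      char_one_eq_deg (irr_isCharacter θ.2), h2])) n

/-- An irreducible restriction gives all products with the degrees of the quotient. -/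
theorem exists_product (K : Subgroup G) [K.Normal] [Fintype K] [Fintype (G ⧸ K)] (χ : IrrCharacter G)
    (θ : IrrCharacter K) (hθ : ∀ n : K, (χ : G → ℂ) n = (θ : K → ℂ) n) (δ : IrrCharacter (G ⧸ K)) :
    ∃ ξ : IrrCharacter G, deg (ξ : G → ℂ) = deg (δ : G ⧸ K → ℂ) * deg (χ : G → ℂ) := by
  have hgal := gallagher_one K θ (irr_isCharacter χ.2) hθ
  let β := (inflateEquiv K δ).1
  have hmem : IsIrrCharacter G ((β : G → ℂ) * (χ : G → ℂ)) :=
    (hgal.mapsTo (x := (β : G → ℂ)) ⟨β.2, fun n => by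
      rw [inflateEquiv_apply, inflateEquiv_apply, (QuotientGroup.eq_one_iff (n : G)).2 n.2,
        QuotientGroup.mk_one]⟩).1
  refine ⟨⟨_, hmem⟩, Nat.cast_injective (R := ℂ) ?_⟩
  rw [← char_one_eq_deg (irr_isCharacter hmem)]
  push_cast
  rw [Pi.mul_apply, inflateEquiv_apply, QuotientGroup.mk_one, char_one_eq_deg (irr_isCharacter δ.2),
    char_one_eq_deg (irr_isCharacter χ.2)]

section Minimal

variable {Q : Type u} [Group Q] [Finite Q]

/-- The Frobenius shape. -/
structure Shape (L : Subgroup Q) (q : ℕ) : Prop where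
  prime : q.Prime
  normal : L.Normal
  pgroup : IsPGroup q L
  abelian : ∀ a ∈ L, ∀ b ∈ L, a * b = b * a
  quot : ∀ x y : Q, x * y * x⁻¹ * y⁻¹ ∈ L
  free : ∀ g ∉ L, ∀ l ∈ L, g * l = l * g → l = 1
  ne : L ≠ ⊥
  proper : L ≠ ⊤

/-- Minimal nonabelian solvable groups. -/
theorem shape_of_minimal [Group.IsSolvable Q] (hna : ¬ ∀ a b : Q, a * b = b * a)
    (hmin : ∀ N : Subgroup Q, N.Normal → N ≠ ⊥ → ∀ x y : Q, x * y * x⁻¹ * y⁻¹ ∈ N) :
    ∃ q : ℕ, q.Prime ∧ (IsPGroup q Q ∨ ∃ L : Subgroup Q, Shape L q) := by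
  classical
  set L : Subgroup Q := commutator Q with hL
  have hLmem : ∀ x y : Q, x * y * x⁻¹ * y⁻¹ ∈ L := fun x y =>
    Subgroup.commutator_mem_commutator (Subgroup.mem_top x) (Subgroup.mem_top y)
  have hLmin : ∀ N : Subgroup Q, N.Normal → N ≠ ⊥ → L ≤ N := fun N hN hN0 => by
    rw [hL, commutator_def, Subgroup.commutator_le]
    intro x _ y _
    exact hmin N hN hN0 x y
  have hL0 : L ≠ ⊥ := fun e => hna fun a b => by
    have := hLmem a b
    rw [e, Subgroup.mem_bot, mul_inv_eq_one, mul_inv_eq_iff_eq_mul] at this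
    exact this
  have hL2 : ⁅L, L⁆ = ⊥ := by
    by_contra h0
    have hperf : ⁅L, L⁆ = L :=
      le_antisymm (Subgroup.commutator_le_self L) (hLmin _ inferInstance h0)
    have hder : ∀ n, L ≤ derivedSeries Q n := by
      intro n
      induction n with
      | zero => rw [derivedSeries_zero]; exact le_top
      | succ n ih => rw [derivedSeries_succ]; exact hperf.ge.trans (Subgroup.commutator_mono ih ih)
    obtain ⟨n, hn⟩ := (Group.isSolvable_def Q).1 inferInstance
    exact hL0 (le_bot_iff.1 (hn ▸ hder n))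
  have hLab : ∀ a ∈ L, ∀ b ∈ L, a * b = b * a := fun a ha b hb =>
    commutatorElement_eq_one_iff_mul_comm.1
      (Subgroup.mem_bot.1 (hL2 ▸ Subgroup.commutator_mem_commutator ha hb))
  obtain ⟨q, hq, hqd⟩ := Nat.exists_prime_and_dvd (fun e => hL0 (Subgroup.card_eq_one.1 e))
  haveI := Fact.mk hq
  let Ω : Subgroup Q :=
    { carrier := {x | x ∈ L ∧ x ^ q = 1}
      one_mem' := ⟨L.one_mem, one_pow q⟩
      mul_mem' := fun {a b} ha hb => ⟨L.mul_mem ha.1 hb.1, by
        rw [(show Commute a b from hLab a ha.1 b hb.1).mul_pow, ha.2, hb.2, one_mul]⟩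
      inv_mem' := fun {a} ha => ⟨L.inv_mem ha.1, by rw [inv_pow, ha.2, inv_one]⟩ }
  have hΩn : Ω.Normal := ⟨fun x hx g => ⟨(inferInstance : L.Normal).conj_mem x hx.1 g, by
    rw [conj_pow, hx.2, mul_one, mul_inv_cancel]⟩⟩
  have hΩ0 : Ω ≠ ⊥ := by
    obtain ⟨y, hy⟩ := exists_prime_orderOf_dvd_card' q hqd
    intro e
    have hmem : (y : Q) ∈ Ω := ⟨y.2, by
      rw [← Subgroup.coe_pow, ← hy, pow_orderOf_eq_one, Subgroup.coe_one]⟩
    rw [e, Subgroup.mem_bot] at hmem
    have : y = 1 := Subtype.ext hmem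
    rw [this, orderOf_one] at hy
    exact hq.ne_one hy.symm
  have hLp : IsPGroup q L := fun x => ⟨1, Subtype.ext (by
    rw [pow_one, Subgroup.coe_pow, ((hLmin Ω hΩn hΩ0) x.2).2, Subgroup.coe_one])⟩
  refine ⟨q, hq, ?_⟩
  by_cases hcen : L ≤ Subgroup.center Q
  · -- nilpotent, so a `q`-group
    left
    haveI : Group.IsNilpotent (Q ⧸ Subgroup.center Q) := by
      letI : CommGroup (Q ⧸ Subgroup.center Q) := { (inferInstance : Group (Q ⧸ Subgroup.center Q)) with mul_comm := fun a b => (by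
        obtain ⟨x, rfl⟩ := QuotientGroup.mk_surjective a
        obtain ⟨y, rfl⟩ := QuotientGroup.mk_surjective b
        exact mul_inv_eq_iff_eq_mul.1 (mul_inv_eq_one.1
          ((QuotientGroup.eq_one_iff (x * y * x⁻¹ * y⁻¹)).2 (hcen (hLmem x y))))) }
      exact CommGroup.isNilpotent
    haveI : Group.IsNilpotent Q := Group.of_quotient_center_nilpotent inferInstance
    refine IsPGroup.of_card (n := (Nat.card Q).primeFactorsList.length) ?_
    refine Nat.eq_prime_pow_of_unique_prime_dvd Nat.card_pos.ne' fun {s} hs hsd => ?_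
    by_contra hne
    haveI := Fact.mk hs
    let S : Sylow s Q := default
    have hS0 : (S : Subgroup Q) ≠ ⊥ := S.ne_bot_of_dvd_card hsd
    have hLS : L ≤ (S : Subgroup Q) := hLmin _ inferInstance hS0
    exact hL0 (le_bot_iff.1 fun x hx => Subgroup.disjoint_def.1
      (IsPGroup.disjoint_of_ne s q hne (S : Subgroup Q) L S.isPGroup' hLp) (hLS hx) hx)
  · right
    refine ⟨L, hq, inferInstance, hLp, hLab, hLmem, ?_, hL0, ?_⟩
    · have hZ : Subgroup.center Q = ⊥ := by
        by_contra h0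
        exact hcen (hLmin _ inferInstance h0)
      -- fixed points are normal
      have hfix : ∀ g : Q, (∃ l ∈ L, g * l ≠ l * g) → ∀ l ∈ L, g * l = l * g → l = 1 := by
        intro g hg l hl hgl
        by_contra hl1
        let F : Subgroup Q := L ⊓ Subgroup.centralizer {g}
        have hFn : F.Normal := ⟨fun a ha x => by
          refine ⟨(inferInstance : L.Normal).conj_mem a ha.1 x, Subgroup.mem_centralizer_singleton_iff.2 ?_⟩
          have hag : a * g = g * a := Subgroup.mem_centralizer_singleton_iff.1 ha.2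
          have hm : x⁻¹ * g * x * g⁻¹ ∈ L := by simpa using hLmem x⁻¹ g
          have hc : a * (x⁻¹ * g * x * g⁻¹) = (x⁻¹ * g * x * g⁻¹) * a := hLab a ha.1 _ hm
          calc x * a * x⁻¹ * g = x * (a * (x⁻¹ * g * x * g⁻¹)) * g * x⁻¹ := by group
            _ = x * ((x⁻¹ * g * x * g⁻¹) * a) * g * x⁻¹ := by rw [hc]
            _ = g * x * g⁻¹ * (a * g) * x⁻¹ := by group
            _ = g * (x * a * x⁻¹) := by rw [hag]; group⟩
        have hF0 : F ≠ ⊥ := fun e => hl1 (Subgroup.mem_bot.1 (e ▸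
          ⟨hl, Subgroup.mem_centralizer_singleton_iff.2 hgl.symm⟩))
        obtain ⟨m, hm, hmg⟩ := hg
        exact hmg (Subgroup.mem_centralizer_singleton_iff.1 (hLmin F hFn hF0 hm).2).symm
      intro g hgL
      refine hfix g ?_
      by_contra hno
      push Not at hno
      obtain ⟨g₀, hg₀⟩ : ∃ g₀ : Q, ∃ l ∈ L, g₀ * l ≠ l * g₀ := by
        by_contra hall
        push Not at hall
        exact hcen fun l hl => Subgroup.mem_center_iff.2 fun x => hall x l hl
      -- correct `g` by an element of `L` to commute with `g₀`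
      let φ : L → L := fun l => ⟨g₀ * l * g₀⁻¹ * (l : Q)⁻¹, hLmem g₀ l⟩
      have hφ : Function.Injective φ := by
        intro a b hab
        have h1 : g₀ * (a : Q) * g₀⁻¹ * (a : Q)⁻¹ = g₀ * (b : Q) * g₀⁻¹ * (b : Q)⁻¹ :=
          congrArg Subtype.val hab
        have h2 : g₀ * ((b : Q)⁻¹ * a) = ((b : Q)⁻¹ * a) * g₀ := by
          have h3 := hLab _ (inv_mem b.2) _ a.2
          have h4 : g₀ * (a : Q) * g₀⁻¹ = g₀ * (b : Q) * g₀⁻¹ * ((b : Q)⁻¹ * a) := by
            rw [← mul_assoc, ← h1, inv_mul_cancel_right]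
          calc g₀ * ((b : Q)⁻¹ * a) = (g₀ * (b : Q) * g₀⁻¹)⁻¹ * (g₀ * a * g₀⁻¹) * g₀ := by group
            _ = _ := by rw [h4]; group
        have := hfix g₀ hg₀ _ (mul_mem (inv_mem b.2) a.2) h2
        exact Subtype.ext (inv_mul_eq_one.1 this).symm
      obtain ⟨l, hl⟩ := Finite.surjective_of_injective hφ ⟨g₀ * g * g₀⁻¹ * g⁻¹, hLmem g₀ g⟩
      have hl' : g₀ * (l : Q) * g₀⁻¹ * (l : Q)⁻¹ = g₀ * g * g₀⁻¹ * g⁻¹ := congrArg Subtype.val hl
      set c := (l : Q)⁻¹ * g with hc
      have hcL : ∀ x ∈ L, c * x = x * c := fun x hx => by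
        rw [hc, mul_assoc, hno x hx, ← mul_assoc, hLab _ (inv_mem l.2) x hx, mul_assoc]
      have hcg : g₀ * c = c * g₀ := by
        calc g₀ * c = (g₀ * (l : Q) * g₀⁻¹ * (l : Q)⁻¹ * l)⁻¹ *
              (g₀ * g * g₀⁻¹ * g⁻¹ * g) * g₀ := by rw [hc]; group
          _ = (g₀ * g * g₀⁻¹ * g⁻¹ * l)⁻¹ * (g₀ * g * g₀⁻¹ * g⁻¹ * g) * g₀ := by rw [hl']
          _ = c * g₀ := by rw [hc]; group
      have hcz : c ∈ Subgroup.center Q := Subgroup.mem_center_iff.2 fun x => by
        set y := x * c * x⁻¹ * c⁻¹ with hy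
        have hyL : y ∈ L := hLmem x c
        have h1 : g₀ * y = y * g₀ := by
          set z := g₀ * x * g₀⁻¹ * x⁻¹ with hz
          have hzL : z ∈ L := hLmem g₀ x
          have h2 : c * z⁻¹ = z⁻¹ * c := hcL _ (inv_mem hzL)
          have h2' : z⁻¹ * c⁻¹ = c⁻¹ * z⁻¹ := by
            have := congrArg Inv.inv (hcL z hzL)
            simpa only [mul_inv_rev] using this
          have h3 : z * y = y * z := hLab z hzL y hyL
          have h4 : g₀ * c * g₀⁻¹ = c := by rw [hcg, mul_inv_cancel_right]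
          have h5 : g₀ * y * g₀⁻¹ = y := by
            calc g₀ * y * g₀⁻¹
                = (g₀ * x * g₀⁻¹) * (g₀ * c * g₀⁻¹) * (g₀ * x * g₀⁻¹)⁻¹ * (g₀ * c * g₀⁻¹)⁻¹ := by
                  rw [hy]; group
              _ = z * x * (c * (x⁻¹ * (z⁻¹ * c⁻¹))) := by rw [h4, hz]; group
              _ = z * x * (c * (x⁻¹ * (c⁻¹ * z⁻¹))) := by rw [h2']
              _ = z * y * z⁻¹ := by rw [hy]; group
              _ = y := by rw [h3, mul_inv_cancel_right]
          calc g₀ * y = (g₀ * y * g₀⁻¹) * g₀ := by group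
            _ = y * g₀ := by rw [h5]
        have := hfix g₀ hg₀ y hyL h1
        rwa [hy, mul_inv_eq_one, mul_inv_eq_iff_eq_mul] at this
      rw [hZ, Subgroup.mem_bot, hc, inv_mul_eq_one] at hcz
      exact hgL (hcz ▸ l.2)
    · intro htop
      exact hna fun a b => hLab a (htop ▸ Subgroup.mem_top a) b (htop ▸ Subgroup.mem_top b)

end Minimal

section Frobenius

variable (K : Subgroup G) [K.Normal] {L : Subgroup (G ⧸ K)} {q : ℕ}

/-- Characters of the kernel of degree prime to `q` give `|G : N|` times their degree. -/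
theorem exists_induced (hS : Shape L q) (N : Subgroup G) [N.Normal] [Fintype N]
    (hN : N = L.comap (QuotientGroup.mk' K)) (ψ : IrrCharacter N)
    (hψ : ¬ q ∣ deg (ψ : N → ℂ)) :
    ∃ χ : IrrCharacter G, deg (χ : G → ℂ) = N.index * deg (ψ : N → ℂ) := by
  classical
  haveI := Fact.mk hS.prime
  have hKN : K ≤ N := fun k hk => by
    rw [hN, Subgroup.mem_comap, QuotientGroup.mk'_apply, (QuotientGroup.eq_one_iff k).2 hk]
    exact L.one_mem
  haveI : (K.subgroupOf N).Normal := Subgroup.Normal.comap inferInstance N.subtype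
  haveI := Fintype.ofFinite (K.subgroupOf N)
  let π : N →* L := ((QuotientGroup.mk' K).comp N.subtype).codRestrict L fun n =>
    Subgroup.mem_comap.1 (hN ▸ n.2)
  have hπ : Function.Surjective π := fun x => by
    obtain ⟨g, hg⟩ := QuotientGroup.mk_surjective (x : G ⧸ K)
    exact ⟨⟨g, by rw [hN, Subgroup.mem_comap, QuotientGroup.mk'_apply, hg]; exact x.2⟩, Subtype.ext hg⟩
  have hker : π.ker = K.subgroupOf N := by
    ext n
    rw [MonoidHom.mem_ker, Subgroup.mem_subgroupOf, ← QuotientGroup.eq_one_iff]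
    exact ⟨fun h => congrArg Subtype.val h, fun h => Subtype.ext h⟩
  -- the restriction to `K` is irreducible
  have hidx : (deg (ψ : N → ℂ)).Coprime (K.subgroupOf N).index := by
    rw [← hker, Subgroup.index_ker, MonoidHom.range_eq_top.2 hπ, Subgroup.card_top]
    obtain ⟨a, ha⟩ := IsPGroup.iff_card.1 hS.pgroup
    rw [ha]
    exact ((hS.prime.coprime_iff_not_dvd.2 hψ).pow_left a).symm
  obtain ⟨θ, hθ⟩ := restrict_of_coprime (K.subgroupOf N) ψ hidx
  have hgal := gallagher_one (K.subgroupOf N) θ (irr_isCharacter ψ.2) hθ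
  let lin : (L →* ℂˣ) → N → ℂ := fun l n => ((l (π n) : ℂˣ) : ℂ)
  let tw : (L →* ℂˣ) → IrrCharacter N := fun l =>
    ⟨fun n => lin l n * (ψ : N → ℂ) n, isIrr_linear_mul ψ.2 (l.comp π)⟩
  have hcancel : ∀ l l' : L →* ℂˣ, (∀ n, lin l n * (ψ : N → ℂ) n = lin l' n * (ψ : N → ℂ) n) →
      l = l' := by
    intro l l' h
    have hmem : ∀ l : L →* ℂˣ, lin l ∈ {β : N → ℂ | IsIrrCharacter N β ∧
        ∀ k : K.subgroupOf N, β k = β 1} := fun l => ⟨isIrrCharacter_linear (l.comp π), fun k => by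
      show ((l (π k) : ℂˣ) : ℂ) = ((l (π 1) : ℂˣ) : ℂ)
      rw [(MonoidHom.mem_ker).1 (hker.symm ▸ k.2 : (k : N) ∈ π.ker), map_one π]⟩
    have h1 := hgal.injOn (hmem l) (hmem l') (funext fun n => h n)
    refine MonoidHom.ext fun x => ?_
    obtain ⟨n, rfl⟩ := hπ x
    exact Units.ext (congrFun h1 n)
  obtain ⟨l, hl⟩ : ∃ l : L →* ℂˣ, ∀ g : G,
      irrComp (MulAut.conjNormal g) (tw l) = tw l → g ∈ N := by
    by_contra hno
    push Not at hno
    choose γ hγ hγN using hno
    have hfree : ∀ g : G, g ∉ N → ∀ x : L,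
        (QuotientGroup.mk g : G ⧸ K) * (x : G ⧸ K) = (x : G ⧸ K) * QuotientGroup.mk g → x = 1 := fun g hg x hx =>
      Subtype.ext (hS.free _ (fun h => hg (hN ▸ h)) _ x.2 hx)
    have hinj : Function.Injective fun l : L →* ℂˣ => (γ l : G ⧸ N) := by
      intro l l' he
      replace he : (γ l : G ⧸ N) = γ l' := he
      set g := γ l with hg
      have hfix : irrComp (MulAut.conjNormal g) (tw l') = tw l' := by
        obtain ⟨n, hn, hn'⟩ : ∃ n ∈ N, γ l' = g * n :=
          ⟨g⁻¹ * γ l', QuotientGroup.eq.1 he, by group⟩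
        have h1 := hγ l'
        rw [hn'] at h1
        refine Subtype.ext (funext fun m => ?_)
        have h2 := congrFun (congrArg Subtype.val h1) (MulAut.conjNormal n⁻¹ m)
        rw [irrComp_apply] at h2 ⊢
        have h3 : MulAut.conjNormal n⁻¹ m = (⟨n, hn⟩ : N)⁻¹ * m * (⟨n, hn⟩ : N)⁻¹⁻¹ :=
          Subtype.ext (by simp [MulAut.conjNormal_apply])
        have h4 : MulAut.conjNormal n (MulAut.conjNormal n⁻¹ m) = m :=
          Subtype.ext (by simp [MulAut.conjNormal_apply, mul_assoc])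
        rw [map_mul, MulAut.mul_apply, h4, h3,
          isClassFunction_character (irr_isCharacter (tw l').2)] at h2
        exact h2
      have h1 : ∀ m : N, lin l (MulAut.conjNormal g m) * (ψ : N → ℂ) (MulAut.conjNormal g m) =
          lin l m * (ψ : N → ℂ) m := fun m => by
        have h := congrFun (congrArg Subtype.val (hγ l)) m
        rw [irrComp_apply] at h
        exact h
      have h2 : ∀ m : N, lin l' (MulAut.conjNormal g m) * (ψ : N → ℂ) (MulAut.conjNormal g m) =
          lin l' m * (ψ : N → ℂ) m := fun m => by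
        have h := congrFun (congrArg Subtype.val hfix) m
        rw [irrComp_apply] at h
        exact h
      let σ : L →* L := ((MulAut.conj (QuotientGroup.mk g : G ⧸ K)).toMonoidHom.comp L.subtype).codRestrict L
        fun x => hS.normal.conj_mem _ x.2 _
      have hσ : ∀ m : N, π (MulAut.conjNormal g m) = σ (π m) := fun m => Subtype.ext (by
        show (((MulAut.conjNormal g m : N) : G) : G ⧸ K) =
          (QuotientGroup.mk g : G ⧸ K) * ((m : G) : G ⧸ K) * (QuotientGroup.mk g : G ⧸ K)⁻¹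
        rw [MulAut.conjNormal_apply]
        rfl)
      -- the quotient of the two linear characters is fixed
      have hd : l'.comp σ * l = l' * l.comp σ := by
        refine hcancel _ _ fun m => ?_
        have e1 := h1 m
        have e2 := h2 m
        simp only [lin, hσ] at e1 e2 ⊢
        simp only [MonoidHom.mul_apply, MonoidHom.comp_apply, Units.val_mul]
        linear_combination ((l (σ (π m)) : ℂˣ) : ℂ) * e2 - ((l' (σ (π m)) : ℂˣ) : ℂ) * e1
      set e := l' * l⁻¹ with he'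
      have hd' : ∀ x, e (σ x) = e x := fun x => by
        have := DFunLike.congr_fun hd x
        simp only [MonoidHom.mul_apply, MonoidHom.comp_apply] at this
        simp only [he', MonoidHom.mul_apply, MonoidHom.inv_apply]
        rw [mul_inv_eq_iff_eq_mul, mul_assoc, mul_comm _ (l (σ x)), ← mul_assoc, eq_mul_inv_iff_mul_eq]
        exact this
      let φ : L → L := fun x => σ x * x⁻¹
      have hφ : Function.Surjective φ := by
        refine Finite.surjective_of_injective fun a b hab => ?_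
        have h3 : σ a * a⁻¹ = σ b * b⁻¹ := hab
        have hc : a⁻¹ * b = b * a⁻¹ := Subtype.ext (hS.abelian _ (inv_mem a.2) _ b.2)
        have h4 : σ (b⁻¹ * a) = b⁻¹ * a := by
          have hc2 : ∀ x y : L, x * y = y * x := fun x y => Subtype.ext (hS.abelian _ x.2 _ y.2)
          calc σ (b⁻¹ * a) = (σ b)⁻¹ * (σ a * a⁻¹) * a := by rw [map_mul, map_inv]; group
            _ = b⁻¹ * a := by rw [h3]; group
        have h5 := hfree g (hγN l) (b⁻¹ * a) (by
          have h6 := congrArg Subtype.val h4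
          have h7 : (QuotientGroup.mk g : G ⧸ K) * ((b⁻¹ * a : L) : G ⧸ K) * (QuotientGroup.mk g)⁻¹ =
              ((b⁻¹ * a : L) : G ⧸ K) := h6
          exact mul_inv_eq_iff_eq_mul.1 h7)
        exact (inv_mul_eq_one.1 h5).symm
      have he1 : e = 1 := MonoidHom.ext fun x => by
        obtain ⟨y, rfl⟩ := hφ x
        simp only [φ, map_mul, map_inv, hd', mul_inv_cancel, MonoidHom.one_apply]
      exact (mul_inv_eq_one.1 he1).symm
    -- too few cosets
    letI : CommGroup L :=
      { (inferInstance : Group L) with mul_comm := fun a b => Subtype.ext (hS.abelian _ a.2 _ b.2) }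
    obtain ⟨⟨eL⟩⟩ : Nonempty (Nonempty ((L →* ℂˣ) ≃* L)) :=
      ⟨CommGroup.monoidHom_mulEquiv_of_hasEnoughRootsOfUnity L ℂ⟩
    obtain ⟨x₁, hx₁⟩ : ∃ x : L, x ≠ 1 := by
      by_contra hall
      push Not at hall
      exact hS.ne ((Subgroup.eq_bot_iff_forall _).2 fun y hy => congrArg Subtype.val (hall ⟨y, hy⟩))
    -- all cosets give different conjugates of a fixed nontrivial element
    let conjx : G ⧸ N → L := fun c => ⟨(QuotientGroup.mk c.out : G ⧸ K) * (x₁ : G ⧸ K) * (QuotientGroup.mk c.out)⁻¹,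
      hS.normal.conj_mem _ x₁.2 _⟩
    have hcj : Function.Injective conjx := by
      intro c c' hcc
      by_contra hne
      have hg : c.out⁻¹ * c'.out ∉ N := fun h => hne (by
        rw [← c.out_eq, ← c'.out_eq]; exact QuotientGroup.eq.2 h)
      refine hx₁ (hfree _ hg x₁ ?_)
      have h3 := congrArg Subtype.val hcc
      simp only [conjx] at h3
      rw [QuotientGroup.mk_mul, QuotientGroup.mk_inv]
      calc ((c.out : G ⧸ K))⁻¹ * (c'.out : G ⧸ K) * (x₁ : G ⧸ K)
          = (c.out : G ⧸ K)⁻¹ * ((c'.out : G ⧸ K) * (x₁ : G ⧸ K) * (c'.out : G ⧸ K)⁻¹) * (c'.out : G ⧸ K) := by group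
        _ = _ := by rw [← h3]; group
    have hcj1 : ∀ c, conjx c ≠ 1 := fun c h => hx₁ (Subtype.ext (by
      have h3 := congrArg Subtype.val h
      simpa [conjx] using h3))
    let F : L → L := fun x => conjx (γ (eL.symm x) : G ⧸ N)
    have hF : Function.Injective F := hcj.comp (hinj.comp eL.symm.injective)
    obtain ⟨y, hy⟩ := Finite.surjective_of_injective hF 1
    exact hcj1 _ hy
  refine ⟨⟨_, isIrr_indFun_of_inertia N (tw l) hl⟩, Nat.cast_injective (R := ℂ) ?_⟩
  rw [← char_one_eq_deg (isCharacter_indFun N (irr_isCharacter (tw l).2)), indFun_one]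
  push_cast
  congr 1
  show lin l 1 * (ψ : N → ℂ) 1 = _
  rw [char_one_eq_deg (irr_isCharacter ψ.2)]
  simp [lin]

end Frobenius

/-- Two primes such that each degree prime is one of them or shares a degree with one of them. -/
theorem exists_anchors [Group.IsSolvable G] :
    ∃ a b : ℕ, ∀ (r : ℕ), r.Prime → ∀ χ : IrrCharacter G, r ∣ deg (χ : G → ℂ) →
      ∃ c, (c = a ∨ c = b) ∧ c.Prime ∧ ∃ ξ : IrrCharacter G, c ∣ deg (ξ : G → ℂ) ∧
        r ∣ deg (ξ : G → ℂ) := by
  classical
  by_cases hab : ∀ a b : G, a * b = b * a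
  · refine ⟨0, 0, fun r hr χ hd => ?_⟩
    have h1 := (forall_linear_iff_comm.1 hab) χ
    rw [char_one_eq_deg (irr_isCharacter χ.2), Nat.cast_eq_one] at h1
    rw [h1] at hd
    exact absurd (Nat.dvd_one.1 hd) hr.ne_one
  obtain ⟨K, ⟨hK, hKna⟩, hKmax⟩ := Set.Finite.exists_maximal
    (s := {K : Subgroup G | K.Normal ∧ ¬ ∀ x y : G, x * y * x⁻¹ * y⁻¹ ∈ K}) (Set.toFinite _)
    ⟨⊥, inferInstance, fun hc => hab fun a b => by
      have := hc a b
      rwa [Subgroup.mem_bot, mul_inv_eq_one, mul_inv_eq_iff_eq_mul] at this⟩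
  haveI := hK
  haveI := Fintype.ofFinite K
  haveI : Fintype (G ⧸ K) := Fintype.ofFinite _
  haveI : Group.IsSolvable (G ⧸ K) :=
    Group.isSolvable_of_surjective (QuotientGroup.mk'_surjective K)
  have hmk : ∀ x y : G, (x : G ⧸ K) * y * (x : G ⧸ K)⁻¹ * (y : G ⧸ K)⁻¹ =
      ((x * y * x⁻¹ * y⁻¹ : G) : G ⧸ K) := fun x y => rfl
  have hQna : ¬ ∀ a b : G ⧸ K, a * b = b * a := fun hc => hKna fun x y =>
    (QuotientGroup.eq_one_iff _).1 (by
      rw [← hmk, mul_inv_eq_one, mul_inv_eq_iff_eq_mul]; exact hc _ _)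
  obtain ⟨q, hq, hcase⟩ := shape_of_minimal hQna fun N hN hN0 a b => by
    obtain ⟨x, rfl⟩ := QuotientGroup.mk_surjective a
    obtain ⟨y, rfl⟩ := QuotientGroup.mk_surjective b
    by_contra hxy
    have hle : K ≤ N.comap (QuotientGroup.mk' K) := fun k hk => by
      rw [Subgroup.mem_comap, QuotientGroup.mk'_apply, (QuotientGroup.eq_one_iff k).2 hk]
      exact N.one_mem
    have hge := hKmax (y := N.comap (QuotientGroup.mk' K))
      ⟨hN.comap _, fun hc => hxy (hc x y)⟩ hle
    refine hN0 (eq_bot_iff.2 fun z hz => ?_)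
    obtain ⟨w, rfl⟩ := QuotientGroup.mk_surjective z
    exact Subgroup.mem_bot.2 ((QuotientGroup.eq_one_iff w).2 (hge hz))
  rcases hcase with hP | ⟨L, hS⟩
  · refine ⟨q, q, fun r hr χ hd => ⟨q, Or.inl rfl, hq, ?_⟩⟩
    by_cases hqχ : q ∣ deg (χ : G → ℂ)
    · exact ⟨χ, hqχ, hd⟩
    haveI := Fact.mk hq
    obtain ⟨a, ha⟩ := IsPGroup.iff_card.1 hP
    obtain ⟨θ, hθ⟩ := restrict_of_coprime K χ (by
      rw [Subgroup.index_eq_card, ha]
      exact ((hq.coprime_iff_not_dvd.2 hqχ).pow_left a).symm)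
    obtain ⟨δ, hδ⟩ : ∃ δ : IrrCharacter (G ⧸ K), deg (δ : G ⧸ K → ℂ) ≠ 1 := by
      by_contra hno
      push Not at hno
      exact hQna fun a b => TwoDeg.comm_of_forall fun χ => TwoDeg.kerC_top_of_linear χ (hno χ) a b
    have hqδ : q ∣ deg (δ : G ⧸ K → ℂ) := by
      have h1 := deg_dvd_card δ.2
      rw [ha] at h1
      obtain ⟨i, -, hi⟩ := (Nat.dvd_prime_pow hq).1 h1
      rw [hi]
      exact dvd_pow_self q (fun h0 => hδ (by rw [hi, h0, pow_zero]))
    obtain ⟨ξ, hξ⟩ := exists_product K χ θ hθ δ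
    exact ⟨ξ, hξ ▸ hqδ.mul_right _, hξ ▸ hd.mul_left _⟩
  · haveI := hS.normal
    set N : Subgroup G := L.comap (QuotientGroup.mk' K) with hN
    haveI := Fintype.ofFinite N
    have hidx : N.index ≠ 1 := fun h => hS.proper (by
      rw [Subgroup.index_eq_one] at h
      rw [eq_top_iff]
      intro x _
      obtain ⟨g, rfl⟩ := QuotientGroup.mk_surjective x
      exact (h ▸ Subgroup.mem_top g : g ∈ N))
    obtain ⟨s, hs, hsd⟩ := Nat.exists_prime_and_dvd hidx
    refine ⟨s, q, fun r hr χ hd => ?_⟩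
    obtain ⟨ψ, hψ⟩ := FROrbit.exists_constituent_below N χ
    by_cases hqψ : q ∣ deg (ψ : N → ℂ)
    · exact ⟨q, Or.inr rfl, hq, χ, hqψ.trans (PrimeDegrees.deg_dvd_of_constituent N hψ), hd⟩
    obtain ⟨ξ, hξ⟩ := exists_induced K hS N hN ψ hqψ
    exact ⟨s, Or.inl rfl, hs, ξ, hξ ▸ hsd.mul_right _, hξ ▸ hd.trans (deg_dvd_index_mul N χ ψ hψ)⟩

/-- The degree graph of a solvable group has at most two components. -/
theorem components_le_two [Group.IsSolvable G] :
    Nat.card ((degreeGraph G).induce (degreePrimes G)).ConnectedComponent ≤ 2 := by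
  classical
  obtain ⟨a, b, hab⟩ := exists_anchors (G := G)
  set Γ := (degreeGraph G).induce (degreePrimes G) with hΓ
  let f : Γ.ConnectedComponent → Fin 2 := fun c =>
    if ∃ h : a ∈ degreePrimes G, c = Γ.connectedComponentMk ⟨a, h⟩ then 0 else 1
  refine le_trans (Nat.card_le_card_of_injective f ?_) (le_of_eq (by rw [Nat.card_fin]))
  have key : ∀ c : Γ.ConnectedComponent, ∃ x : degreePrimes G, ((x : ℕ) = a ∨ (x : ℕ) = b) ∧
      c = Γ.connectedComponentMk x := by
    intro c
    obtain ⟨⟨r, hr⟩, rfl⟩ := c.exists_rep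
    obtain ⟨hrp, d, ⟨χ, rfl⟩, hrd⟩ := hr
    rw [charDegree_eq_deg] at hrd
    obtain ⟨c, hc, hcp, ξ, hcξ, hrξ⟩ := hab r hrp χ hrd
    have hcm : c ∈ degreePrimes G := ⟨hcp, _, ⟨ξ, rfl⟩, by rw [charDegree_eq_deg]; exact hcξ⟩
    refine ⟨⟨c, hcm⟩, hc, ?_⟩
    by_cases he : r = c
    · exact congrArg _ (Subtype.ext he)
    · refine SimpleGraph.ConnectedComponent.sound (SimpleGraph.Adj.reachable ?_)
      have hdvd : r * c ∣ charDegree (ξ : G → ℂ) := by
        rw [charDegree_eq_deg]; exact ((Nat.coprime_primes hrp hcp).2 he).mul_dvd_of_dvd_of_dvd hrξ hcξ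
      exact ⟨he, hrp, hcp, _, ⟨ξ, rfl⟩, hdvd⟩
  intro c c' hcc
  obtain ⟨⟨x, hx⟩, hxe, rfl⟩ := key c
  obtain ⟨⟨y, hy⟩, hye, rfl⟩ := key c'
  simp only [f] at hcc
  split_ifs at hcc with h1 h2 h2
  · obtain ⟨_, h1⟩ := h1
    obtain ⟨_, h2⟩ := h2
    exact h1.trans h2.symm
  · simp at hcc
  · simp at hcc
  · push Not at h1 h2
    rcases hxe with e | e
    · exact absurd (congrArg _ (Subtype.ext e)) (h1 (e ▸ hx))
    rcases hye with e' | e'
    · exact absurd (congrArg _ (Subtype.ext e')) (h2 (e' ▸ hy))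
    · exact congrArg _ (Subtype.ext (e.trans e'.symm))

end Cfsg.Agent.Char.DegreeSplit
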