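import Cfsg.Agent.Lib.Char.BlockCountBound
import Cfsg.Agent.Lib.Char.Section

/-!
# The trivial class of a central `p`-element and the block of the quotient

The members of a block on which a central `p`-element `z` acts trivially are the inflations of a block of the
quotient by `⟨z⟩`, with the same matrix and rank, and every integral image vector on this class is a
local-integral image vector of the quotient.
-/

set_option autoImplicit false
set_option linter.unusedSectionVars false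
set_option linter.style.haveILetI false

open Cfsg
open scoped ComplexConjugate

namespace Cfsg.Agent.Char.SubForm

universe u

variable {H : Type u} [Group H] [Fintype H] {M : Ideal AlgInt} {p a r : ℕ} {e : Set (IrrCharacter H)}
  {z : H} {ω : ℂ} {j : IrrCharacter H → ℕ} {Z : Subgroup H} [Z.Normal] [Fintype (H ⧸ Z)]

theorem inflChar_injective : Function.Injective (inflChar Z) := fun χ χ' h => Subtype.ext (funext fun q => by
  obtain ⟨g, rfl⟩ := QuotientGroup.mk_surjective q
  exact congrFun (congrArg Subtype.val h) g)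

variable (hM : IsPModular p M) (he : IsPBlock M e) (hzc : ∀ c, z * c = c * z) (hza : orderOf z = p ^ a)
  (hω : IsPrimitiveRoot ω (p ^ a)) (hj : ∀ η, j η < p ^ a)
  (hz : ∀ (η : IrrCharacter H) (c : H), (η : H → ℂ) (z * c) = ω ^ j η * (η : H → ℂ) c)
  (hZ : Z = Subgroup.zpowers z)

include hM hzc hza hZ

theorem zpow_data {n : H} (hn : n ∈ Z) : (∀ c, Commute n c) ∧ ∃ k, orderOf n = p ^ k := by
  rw [hZ] at hn
  obtain ⟨i, rfl⟩ := hn
  refine ⟨fun c => Commute.zpow_left (hzc c) i, ?_⟩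
  obtain ⟨m, -, hm⟩ := (Nat.dvd_prime_pow hM.1).mp
    (hza ▸ (orderOf_dvd_of_mem_zpowers (Subgroup.zpow_mem_zpowers z i) :
      orderOf (z ^ i) ∣ orderOf z))
  exact ⟨m, hm⟩

theorem card_Z : Nat.card Z = p ^ a := by rw [hZ, Nat.card_zpowers, hza]

/-- Regular elements of the group are those of the quotient. -/
theorem sum_regular (f : H ⧸ Z → ℂ) :
    ∑ g : H with ¬ p ∣ orderOf g, f g = ∑ q : H ⧸ Z with ¬ p ∣ orderOf q, f q := by
  have hp := hM.1
  refine Finset.sum_nbij (fun g => (g : H ⧸ Z)) (fun g hg => ?_) (fun g hg g' hg' h => ?_) (fun q hq => ?_)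
    (fun _ _ => rfl)
  · simp only [Finset.mem_univ, true_and, Finset.mem_filter] at hg ⊢
    exact fun h => hg (h.trans (orderOf_map_dvd (QuotientGroup.mk' Z) g))
  · simp only [Finset.coe_filter, Finset.mem_univ, true_and, Set.mem_ofPred_eq] at hg hg'
    obtain ⟨hc, hk⟩ := zpow_data hM hzc hza hZ (QuotientGroup.eq.mp h)
    have h1 := preg_of_mul hp (hc g) hk hg
    rwa [(hc g).eq, mul_inv_cancel_left, preg_of_isPRegular hp hg', eq_comm] at h1
  · simp only [Finset.coe_filter, Finset.mem_univ, true_and, Set.mem_ofPred_eq] at hq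
    obtain ⟨g, hg, hgq⟩ := exists_regular_lift (N := Z) hp hq
    exact ⟨g, by simpa using hg, hgq⟩

theorem einner_inflate (χ ψ : H ⧸ Z → ℂ) :
    (p : ℂ) ^ a * einner p (fun g : H => χ g) (fun g : H => ψ g) = einner p χ ψ := by
  rw [einner_eq_sum, einner_eq_sum, sum_regular hM hzc hza hZ (fun q => χ q * conj (ψ q)),
    Subgroup.card_eq_card_quotient_mul_card_subgroup Z, card_Z hM hzc hza hZ, Nat.cast_mul, Nat.cast_pow,
    mul_inv]
  have : (p : ℂ) ^ a ≠ 0 := pow_ne_zero _ (Nat.cast_ne_zero.mpr hM.1.ne_zero)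
  field_simp

variable (hd : blockDefect p e = a + r)
  {Bb : Set (IrrCharacter (H ⧸ Z))} (hBb : IsPBlock M Bb) (hsub : ∀ χ ∈ Bb, inflChar Z χ ∈ e)

include he hω hj hz hsub hBb

theorem infl_mem_cls {χ : IrrCharacter (H ⧸ Z)} (hχ : χ ∈ Bb) :
    inflChar Z χ ∈ CentralClass.cls e j 0 := by
  refine CentralClass.mem_cls.mpr ⟨hsub χ hχ, ?_⟩
  have hz1 : ((z : H) : H ⧸ Z) = 1 := (QuotientGroup.eq_one_iff z).mpr (hZ ▸ Subgroup.mem_zpowers z)
  have h := hz (inflChar Z χ) 1
  rw [mul_one] at h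
  change (χ : H ⧸ Z → ℂ) (z : H ⧸ Z) = ω ^ j (inflChar Z χ) * (χ : H ⧸ Z → ℂ) ((1 : H) : H ⧸ Z) at h
  rw [hz1, QuotientGroup.mk_one] at h
  have h1 : ω ^ j (inflChar Z χ) = 1 :=
    mul_right_cancel₀ (irr_one_ne_zero χ.2) (by rw [one_mul]; exact h.symm)
  exact hω.pow_inj (hj _) (pow_pos hM.1.pos a) (by rw [h1, pow_zero])

open scoped Classical in
theorem cls_eq_image : CentralClass.cls e j 0 = (bset Bb).image (inflChar Z) := by
  refine Finset.Subset.antisymm (fun η hη => ?_) (fun η hη => ?_)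
  · have hP := pmod_prime hM
    haveI := Fact.mk hM.1
    obtain ⟨hηe, hη0⟩ := CentralClass.mem_cls.mp hη
    have hstep : ∀ c : H, (η : H → ℂ) (z * c) = (η : H → ℂ) c := fun c => by
      rw [hz η c, hη0, pow_zero, one_mul]
    have hpow : ∀ i : ℕ, (η : H → ℂ) (z ^ i) = (η : H → ℂ) 1 := fun i => by
      induction i with
      | zero => rw [pow_zero]
      | succ i ih => rw [pow_succ', hstep, ih]
    have htriv : ∀ n ∈ Z, (η : H → ℂ) n = (η : H → ℂ) 1 := by
      intro n hn
      rw [hZ] at hn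
      obtain ⟨i, -, hi⟩ : ∃ i, i < orderOf z ∧ z ^ i = n := by
        simpa [Finset.mem_image, Finset.mem_range] using
          (isOfFinOrder_of_finite z).mem_zpowers_iff_mem_range_orderOf.mp hn
      rw [← hi]
      exact hpow i
    obtain ⟨χ, hχ⟩ := exists_deflate Z η.2 htriv
    refine Finset.mem_image.mpr ⟨χ, mem_bset.mpr ?_, Subtype.ext (funext hχ)⟩
    obtain ⟨χ0, hχ0⟩ := block_nonempty hP hBb
    refine (mem_block_iff hP hBb hχ0 χ).mpr ?_
    refine sameBlock_of_inflate hM (fun g hg => Or.inl ?_) ?_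
    · rw [clsRatio_eq_one hM.1 (IsPGroup.of_card (card_Z hM hzc hza hZ)) hg (Subgroup.mem_centralizer_iff.mpr
        fun n hn => ((zpow_data hM hzc hza hZ hn).1 g).eq)]
      exact hM.1.not_dvd_one
    · exact (mem_block_iff hP he (hsub χ0 hχ0) _).mp (by
        rw [show inflChar Z χ = η from Subtype.ext (funext hχ)]; exact hηe)
  · obtain ⟨χ, hχ, rfl⟩ := Finset.mem_image.mp hη
    exact infl_mem_cls hM he hzc hza hω hj hz hZ hBb hsub (mem_bset.mp hχ)

variable (hdb : blockDefect p Bb = r)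
include hd hdb

theorem wI_infl {χ : IrrCharacter (H ⧸ Z)} (hχ : χ ∈ Bb) (ψ : IrrCharacter (H ⧸ Z)) :
    wI p e (inflChar Z χ) (inflChar Z ψ) = wI p Bb χ ψ := by
  apply Int.cast_injective (α := ℂ)
  rw [wI_cast_eq hM he (hsub χ hχ), wI_cast_eq hM hBb hχ, hd, hdb, ← einner_inflate hM hzc hza hZ, pow_add]
  show (p : ℂ) ^ a * (p : ℂ) ^ r * einner p (fun g : H => (χ : H ⧸ Z → ℂ) g) (fun g : H => (ψ : H ⧸ Z → ℂ) g) = _
  ring

open scoped Classical in
theorem rank_eq : blockRank p e = blockRank p Bb := by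
  have hp : (p : ℤ) ≠ 0 := by exact_mod_cast hM.1.ne_zero
  have hs0 : 0 < p ^ a := pow_pos hM.1.pos a
  have htr : ((p ^ a : ℕ) : ℤ) * ∑ θ ∈ CentralClass.cls e j 0, wI p e θ θ =
      (p : ℤ) ^ blockDefect p e * (blockRank p e : ℤ) := by
    have h1 : ∑ η ∈ bset e, ((p ^ a : ℕ) : ℤ) * ∑ θ ∈ CentralClass.cls e j 0, wI p e η θ * wI p e θ η =
        ((p ^ a : ℕ) : ℤ) * ∑ θ ∈ CentralClass.cls e j 0, (p : ℤ) ^ blockDefect p e * wI p e θ θ := by
      rw [← Finset.mul_sum, Finset.sum_comm]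
      congr 1
      refine Finset.sum_congr rfl fun θ hθ => ?_
      rw [← sum_wI_sq hM he (CentralClass.mem_cls.mp hθ).1]
      exact Finset.sum_congr rfl fun η _ => by rw [wI_symm hM η θ, sq]
    rw [Finset.sum_congr rfl fun η hη =>
      CentralClass.mul_sum_cls hM he hzc hza hω hj hz (mem_bset.mp hη) (mem_bset.mp hη) hs0,
      ← Finset.mul_sum, ← pow_mul_blockRank hM he, ← Finset.mul_sum] at h1
    refine mul_left_cancel₀ (pow_ne_zero (blockDefect p e) hp) ?_
    rw [h1]
    ring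
  rw [cls_eq_image hM he hzc hza hω hj hz hZ hBb hsub, Finset.sum_image inflChar_injective.injOn,
    Finset.sum_congr rfl fun χ hχ => wI_infl hM he hzc hza hω hj hz hZ hd hBb hsub hdb (mem_bset.mp hχ) χ,
    ← pow_mul_blockRank hM hBb, hdb, hd, Nat.cast_pow, ← mul_assoc, ← pow_add] at htr
  exact_mod_cast (mul_left_cancel₀ (pow_ne_zero _ hp) htr).symm

open scoped Classical in
/-- An image vector is a local-integral image vector of the quotient. -/
theorem local_image (y m : IrrCharacter H → ℤ)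
    (hy : ∀ θ ∈ CentralClass.cls e j 0, y θ = ∑ η ∈ bset e, wI p e θ η * m η) :
    ∃ v : IrrCharacter (H ⧸ Z) → ℂ, (∀ χ ∈ bset Bb, MemLocalRing M (v χ)) ∧
      ∀ θ ∈ bset Bb, (y (inflChar Z θ) : ℂ) = ∑ χ ∈ bset Bb, (wI p Bb θ χ : ℂ) * v χ := by
  have hP := pmod_prime hM
  have hp := hM.1
  set F : H → ℂ := fun g => ∑ η ∈ bset e, (m η : ℂ) * (η : H → ℂ) g with hF
  have hFc : IsClassFunction H F := fun x k => by
    simp only [hF]
    exact Finset.sum_congr rfl fun η _ => by rw [isClassFunction_character (irr_isCharacter η.2) x k]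
  have hFR : ∀ x, MemLocalRing M (F x) := fun x =>
    memLR_sum hP _ _ fun η _ => memLR_mul hP (memLR_intCast hP _) (memLR_char hP (irr_isCharacter η.2) x)
  have hint := intComb_preg hM hFc hFR
  set Fb : H ⧸ Z → ℂ := fun q => F (preg p q.out) with hFb
  have hval : ∀ g : H, F (preg p g) = Fb g := by
    intro g
    have h1 : (g⁻¹ * (g : H ⧸ Z).out) ∈ Z := QuotientGroup.eq.mp (QuotientGroup.out_eq' (g : H ⧸ Z)).symm
    obtain ⟨hc, k, hk⟩ := zpow_data hM hzc hza hZ h1
    show F (preg p g) = F (preg p (g : H ⧸ Z).out)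
    set n := g⁻¹ * (g : H ⧸ Z).out with hn
    obtain ⟨⟨y', hxy, hcy, ⟨i, hi⟩, -⟩, hreg, -⟩ := preg_spec hp g
    set x := g * (preg p g)⁻¹ with hx
    have hgx : x * preg p g = g := inv_mul_cancel_right g _
    have hy' : y' = preg p g := mul_left_cancel (hxy.trans hgx.symm)
    subst hy'
    have e1 : (g : H ⧸ Z).out = (n * x) * preg p g := by
      rw [mul_assoc, hgx, (hc g).eq, hn, mul_inv_cancel_left]
    rw [e1, preg_of_mul hp ((hc (preg p g)).mul_left hcy) ?_ hreg]
    obtain ⟨l, -, hl⟩ := (Nat.dvd_prime_pow hp).mp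
      ((hc x).orderOf_mul_dvd_mul_orderOf.trans (dvd_of_eq (by rw [hk, hi, ← pow_add])))
    exact ⟨l, hl⟩
  have hFbc : IsClassFunction (H ⧸ Z) Fb := by
    intro q k
    obtain ⟨g, rfl⟩ := QuotientGroup.mk_surjective q
    obtain ⟨t, rfl⟩ := QuotientGroup.mk_surjective k
    rw [← QuotientGroup.mk_mul, ← QuotientGroup.mk_inv, ← QuotientGroup.mk_mul, ← hval, ← hval, preg_conj hp, hFc]
  refine ⟨fun χ => classInner Fb (χ : H ⧸ Z → ℂ), fun χ _ => ?_, fun θ hθ => ?_⟩
  · show MemLocalRing M (classInner Fb (χ : H ⧸ Z → ℂ))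
    rw [← classInner_inflate Z]
    have := hint.2 (inflChar Z χ)
    simp only [hval] at this
    exact this
  have hθB := mem_bset.mp hθ
  have hθe := hsub θ hθB
  have hpe : (p : ℂ) ^ blockDefect p e = (p : ℂ) ^ r * (p : ℂ) ^ a := by rw [hd, add_comm a r, pow_add]
  have h1 : (y (inflChar Z θ) : ℂ) = (p : ℂ) ^ r * ((p : ℂ) ^ a *
      einner p (fun g : H => Fb g) (fun g : H => (θ : H ⧸ Z → ℂ) g)) := by
    rw [hy _ (infl_mem_cls hM he hzc hza hω hj hz hZ hBb hsub hθB), Int.cast_sum, ← mul_assoc, ← hpe, einner_eq_sum,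
      Finset.sum_congr rfl (g := fun g : H => F g * conj ((θ : H ⧸ Z → ℂ) g)) (fun g hg => by
        rw [← hval, preg_of_isPRegular hp (Finset.mem_filter.mp hg).2]),
      ← mul_assoc, Finset.mul_sum]
    simp only [hF, Finset.sum_mul, Finset.mul_sum]
    rw [Finset.sum_comm]
    refine Finset.sum_congr rfl fun η hη => ?_
    rw [Int.cast_mul, wI_symm hM, wI_cast_eq hM he (mem_bset.mp hη), einner_eq_sum, Finset.mul_sum,
      Finset.mul_sum, Finset.sum_mul]
    refine Finset.sum_congr rfl fun g _ => ?_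
    show _ * (_ * (_ * conj ((θ : H ⧸ Z → ℂ) g))) * _ = _
    ring
  rw [h1, einner_inflate hM hzc hza hZ]
  conv_lhs => rw [classFun_expansion hFbc]
  rw [einner, Finset.sum_mul, classInner_sum_left, Finset.mul_sum]
  refine (Finset.sum_subset (Finset.subset_univ (bset Bb)) fun χ _ hχ => ?_).symm.trans
    (Finset.sum_congr rfl fun χ hχ => ?_)
  · rw [smul_mul_assoc, classInner_smul_left, show classInner ((χ : H ⧸ Z → ℂ) * regInd p) (θ : H ⧸ Z → ℂ) =
      einner p (χ : H ⧸ Z → ℂ) (θ : H ⧸ Z → ℂ) from rfl, einner_eq_zero_of_not_sameBlock hM χ θ fun hs =>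
      hχ (mem_bset.mpr ((mem_block_iff hP hBb hθB χ).mpr (sameBlock_symm hP hs))), mul_zero, mul_zero]
  · rw [smul_mul_assoc, classInner_smul_left, wI_symm hM, wI_cast_eq hM hBb (mem_bset.mp hχ), hdb, einner]
    ring

end Cfsg.Agent.Char.SubForm
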