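import Mathlib.GroupTheory.SpecificGroups.Quaternion
import Mathlib.GroupTheory.Transfer
import Cfsg.Agent.Lib.Char.Basic
import Cfsg.Agent.Lib.Fusion.Involutions

/-!
# A quaternion Sylow 2-subgroup of order eight with one class of elements of order four
-/

set_option autoImplicit false
set_option linter.unusedSectionVars false
set_option linter.style.haveILetI false

namespace Cfsg.Agent.Char

open Cfsg

universe u

variable {G : Type u} [Group G] [Finite G]

/-- Quaternion Sylow subgroups of order eight and one class of elements of order four. -/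
structure Q8Fus (x : G) : Prop where
  syl : ∃ S : Sylow 2 G, Nonempty ((S : Subgroup G) ≃* QuaternionGroup 2)
  ord : orderOf x = 4
  fus : ∀ y : G, orderOf y = 4 → IsConj y x

variable {x : G}

theorem Q8Fus.exists_iso (h : Q8Fus x) (R : Sylow 2 G) :
    Nonempty ((R : Subgroup G) ≃* QuaternionGroup 2) := by
  obtain ⟨S, ⟨e⟩⟩ := h.syl
  exact ⟨(R.equiv S).trans e⟩

theorem Q8Fus.exists_emb (h : Q8Fus x) {P : Subgroup G} (hP : IsPGroup 2 P) :
    ∃ f : P →* QuaternionGroup 2, Function.Injective f := by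
  obtain ⟨R, hR⟩ := hP.exists_le_sylow
  obtain ⟨e⟩ := h.exists_iso R
  exact ⟨e.toMonoidHom.comp (Subgroup.inclusion hR),
    e.injective.comp (Subgroup.inclusion_injective hR)⟩

theorem Q8Fus.card_dvd (h : Q8Fus x) {P : Subgroup G} (hP : IsPGroup 2 P) : Nat.card P ∣ 8 := by
  obtain ⟨f, hf⟩ := h.exists_emb hP
  have := Subgroup.card_dvd_of_injective f hf
  rwa [Nat.card_eq_fintype_card (α := QuaternionGroup 2), QuaternionGroup.card] at this

theorem Q8Fus.sq_ne_one (h : Q8Fus x) : x * x ≠ 1 := fun e => by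
  have := orderOf_dvd_of_pow_eq_one (show x ^ 2 = 1 by rw [pow_two, e])
  rw [h.ord] at this
  norm_num at this

theorem Q8Fus.orderOf_sq (h : Q8Fus x) : orderOf (x * x) = 2 := by
  rw [← pow_two, orderOf_pow_of_dvd two_ne_zero (by rw [h.ord]; norm_num), h.ord]

/-- In a `2`-subgroup there is at most one involution. -/
theorem Q8Fus.invol_eq_of_mem (h : Q8Fus x) {P : Subgroup G} (hP : IsPGroup 2 P) {u v : G}
    (hu : orderOf u = 2) (hv : orderOf v = 2) (huP : u ∈ P) (hvP : v ∈ P) : u = v := by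
  obtain ⟨f, hf⟩ := h.exists_emb hP
  have key : ∀ q : QuaternionGroup 2, q * q = 1 → q = 1 ∨ q = QuaternionGroup.a 2 := by decide
  have hval : ∀ (w : P), orderOf (w : G) = 2 → f w = QuaternionGroup.a 2 := fun w hw => by
    rw [Subgroup.orderOf_coe] at hw
    refine (key _ ?_).resolve_left fun e => ?_
    · rw [← map_mul, ← pow_two, orderOf_dvd_iff_pow_eq_one.mp hw.dvd, map_one]
    · rw [hf (e.trans (map_one f).symm), orderOf_one] at hw
      omega
  exact congrArg Subtype.val (hf ((hval ⟨u, huP⟩ hu).trans (hval ⟨v, hvP⟩ hv).symm))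

theorem Q8Fus.invol_eq (h : Q8Fus x) {u v : G} (hu : orderOf u = 2) (hv : orderOf v = 2)
    (hc : Commute u v) : u = v :=
  h.invol_eq_of_mem (Fusion.isPGroup_closure_commuting hu hv hc) hu hv
    (Subgroup.subset_closure (by simp)) (Subgroup.subset_closure (by simp))

theorem Q8Fus.sq_eq_of_commute (h : Q8Fus x) {y : G} (hy : orderOf y = 4)
    (hc : Commute (x * x) y) : y * y = x * x := by
  refine h.invol_eq ?_ h.orderOf_sq (hc.mul_right hc).symm
  rw [← pow_two, orderOf_pow_of_dvd two_ne_zero (by rw [hy]; norm_num), hy]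

theorem isPGroup_zpowers_two {z : G} (hz : ∃ k, orderOf z = 2 ^ k) :
    IsPGroup 2 (Subgroup.zpowers z) := by
  obtain ⟨k, hk⟩ := hz
  exact IsPGroup.of_card (n := k) (by rw [Nat.card_zpowers, hk])

theorem Q8Fus.orderOf_cases (h : Q8Fus x) {z : G} (hz : ∃ k, orderOf z = 2 ^ k) :
    orderOf z = 1 ∨ orderOf z = 2 ∨ orderOf z = 4 := by
  obtain ⟨f, hf⟩ := h.exists_emb (isPGroup_zpowers_two hz)
  have key : ∀ q : QuaternionGroup 2, q * q * (q * q) = 1 := by decide
  have h4 : orderOf z ∣ 4 := by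
    rw [← Subgroup.orderOf_mk z (Subgroup.mem_zpowers z), ← orderOf_injective f hf]
    exact orderOf_dvd_of_pow_eq_one (by rw [show 4 = 2 + 2 from rfl, pow_add, pow_two]; exact key _)
  obtain ⟨k, hk, e⟩ := (Nat.dvd_prime_pow Nat.prime_two).mp (show orderOf z ∣ 2 ^ 2 from h4)
  rw [e]
  interval_cases k <;> norm_num

theorem Q8Fus.isConj_sq (h : Q8Fus x) {z : G} (hz : orderOf z = 2) : IsConj z (x * x) := by
  obtain ⟨Q, hQ⟩ := (isPGroup_zpowers_two (z := z) ⟨1, hz⟩).exists_le_sylow
  obtain ⟨R, hR⟩ := (isPGroup_zpowers_two (z := x * x) ⟨1, h.orderOf_sq⟩).exists_le_sylow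
  obtain ⟨g, hg⟩ := MulAction.exists_smul_eq G Q R
  have hm : g * z * g⁻¹ ∈ (R : Subgroup G) := by
    rw [← hg]
    exact ⟨z, hQ (Subgroup.mem_zpowers z), rfl⟩
  refine isConj_iff.mpr ⟨g, h.invol_eq_of_mem R.2 ?_ h.orderOf_sq hm
    (hR (Subgroup.mem_zpowers _))⟩
  rw [← MulAut.conj_apply, MulEquiv.orderOf_eq, hz]

/-- The three kinds of `2`-elements. -/
theorem Q8Fus.two_element (h : Q8Fus x) {z : G} (hz : ∃ k, orderOf z = 2 ^ k) :
    z = 1 ∨ IsConj z (x * x) ∨ IsConj z x := by
  rcases h.orderOf_cases hz with e | e | e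
  · exact Or.inl (orderOf_eq_one_iff.mp e)
  · exact Or.inr (Or.inl (h.isConj_sq e))
  · exact Or.inr (Or.inr (h.fus z e))

theorem Q8Fus.isConj_inv (h : Q8Fus x) : IsConj x⁻¹ x :=
  h.fus _ (by rw [orderOf_inv, h.ord])

/-- A Sylow subgroup containing `x` centralizes `x²`. -/
theorem Q8Fus.exists_sylow (h : Q8Fus x) : ∃ R : Sylow 2 G, x ∈ (R : Subgroup G) ∧
    (R : Subgroup G) ≤ Subgroup.centralizer ({x * x} : Set G) := by
  obtain ⟨R, hR⟩ := (isPGroup_zpowers_two (z := x) ⟨2, h.ord⟩).exists_le_sylow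
  have hxR := hR (Subgroup.mem_zpowers x)
  refine ⟨R, hxR, fun g hg => Subgroup.mem_centralizer_singleton_iff.mpr ?_⟩
  have hm : g * (x * x) * g⁻¹ ∈ (R : Subgroup G) :=
    mul_mem (mul_mem hg (mul_mem hxR hxR)) (inv_mem hg)
  have e := h.invol_eq_of_mem R.2 (by rw [← MulAut.conj_apply, MulEquiv.orderOf_eq, h.orderOf_sq])
    h.orderOf_sq hm (mul_mem hxR hxR)
  exact mul_inv_eq_iff_eq_mul.mp e

/-- The hypothesis descends to the centralizer of `x²`. -/
theorem Q8Fus.centralizer (h : Q8Fus x) (hxC : x ∈ Subgroup.centralizer ({x * x} : Set G)) :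
    Q8Fus (⟨x, hxC⟩ : Subgroup.centralizer ({x * x} : Set G)) := by
  obtain ⟨R, -, hRC⟩ := h.exists_sylow
  obtain ⟨e⟩ := h.exists_iso R
  refine ⟨⟨R.subtype hRC, ⟨(Subgroup.subgroupOfEquivOfLe hRC).trans e⟩⟩,
    by rw [Subgroup.orderOf_mk, h.ord], fun y hy => ?_⟩
  rw [← Subgroup.orderOf_coe] at hy
  obtain ⟨g, hg⟩ := isConj_iff.mp (h.fus _ hy)
  have hy2 : (y : G) * y = x * x :=
    h.sq_eq_of_commute hy (Subgroup.mem_centralizer_singleton_iff.mp y.2).symm
  have hgC : g ∈ Subgroup.centralizer ({x * x} : Set G) := by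
    refine Subgroup.mem_centralizer_singleton_iff.mpr ?_
    calc g * (x * x) = g * ((y : G) * y) * g⁻¹ * g := by rw [hy2]; group
      _ = g * (y : G) * g⁻¹ * (g * y * g⁻¹) * g := by group
      _ = x * x * g := by rw [hg]
  exact isConj_iff.mpr ⟨⟨g, hgC⟩, Subtype.ext hg⟩

theorem Q8Fus.mem_centralizer (h : Q8Fus x) : x ∈ Subgroup.centralizer ({x * x} : Set G) :=
  Subgroup.mem_centralizer_singleton_iff.mpr (by group)

/-- The centralizer of `x` has a normal `2`-complement of index four. -/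
theorem Q8Fus.centralizer_complement (h : Q8Fus x) :
    ∃ K : Subgroup (Subgroup.centralizer ({x} : Set G)), K.Normal ∧ ¬ 2 ∣ Nat.card K ∧
      K.index = 4 ∧ ∀ c, ¬ 2 ∣ orderOf c → c ∈ K := by
  set C := Subgroup.centralizer ({x} : Set G) with hC
  set x' : C := ⟨x, Subgroup.mem_centralizer_singleton_iff.mpr rfl⟩
  obtain ⟨Q, hQ⟩ := (isPGroup_zpowers_two (z := x') ⟨2, by rw [Subgroup.orderOf_mk, h.ord]; rfl⟩).exists_le_sylow
  have hxQ : x' ∈ (Q : Subgroup C) := hQ (Subgroup.mem_zpowers x')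
  have hQe : (Q : Subgroup C) = Subgroup.zpowers x' := by
    refine le_antisymm (fun v hv => ?_) hQ
    have hP : IsPGroup 2 ((Q : Subgroup C).map C.subtype) := Q.2.map _
    obtain ⟨f, hf⟩ := h.exists_emb hP
    set a : (Q : Subgroup C).map C.subtype := ⟨x, Subgroup.mem_map_of_mem C.subtype hxQ⟩
    set b : (Q : Subgroup C).map C.subtype := ⟨(v : G), Subgroup.mem_map_of_mem C.subtype hv⟩
    have key : ∀ q r : QuaternionGroup 2, q * q ≠ 1 → q * r = r * q →
        r = 1 ∨ r = q ∨ r = q * q ∨ r = q * q * q := by decide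
    have hab : a * b = b * a := Subtype.ext (Subgroup.mem_centralizer_singleton_iff.mp v.2).symm
    have hfa : f a * f a ≠ 1 := fun e => h.sq_ne_one (by
      rw [← map_mul, ← map_one f] at e
      exact congrArg Subtype.val (hf e))
    rcases key (f a) (f b) hfa (by rw [← map_mul, ← map_mul, hab]) with e | e | e | e
    · rw [← map_one f] at e
      have e' := congrArg Subtype.val (hf e)
      rw [show v = 1 from Subtype.ext e']
      exact one_mem _
    · have e' := congrArg Subtype.val (hf e)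
      rw [show v = x' from Subtype.ext e']
      exact Subgroup.mem_zpowers _
    · rw [← map_mul] at e
      have e' := congrArg Subtype.val (hf e)
      rw [show v = x' * x' from Subtype.ext e']
      exact mul_mem (Subgroup.mem_zpowers _) (Subgroup.mem_zpowers _)
    · rw [← map_mul, ← map_mul] at e
      have e' := congrArg Subtype.val (hf e)
      rw [show v = x' * x' * x' from Subtype.ext e']
      exact mul_mem (mul_mem (Subgroup.mem_zpowers _) (Subgroup.mem_zpowers _))
        (Subgroup.mem_zpowers _)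
  have hcyc : IsCyclic (Q : Subgroup C) := hQe ▸ Subgroup.isCyclic_zpowers x'
  have hcard : Nat.card (Q : Subgroup C) = 4 := by
    rw [hQe, Nat.card_zpowers, Subgroup.orderOf_mk, h.ord]
  have hmin : (Nat.card C).minFac = 2 := by
    refine (Nat.minFac_eq_two_iff _).mpr ((show 2 ∣ 4 by norm_num).trans ?_)
    rw [← hcard]
    exact Subgroup.card_subgroup_dvd_card _
  have hcompl := hcyc.isComplement' hmin
  set K := (MonoidHom.transferSylow Q (hcyc.normalizer_le_centralizer hmin)).ker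
  have hidx : K.index = 4 := by
    rw [hcompl.symm.index_eq_card, hcard]
  have hodd : ¬ 2 ∣ Nat.card K := by
    rw [← hcompl.index_eq_card]
    exact Q.not_dvd_index
  refine ⟨K, MonoidHom.normal_ker _, hodd, hidx, fun c hc => ?_⟩
  rw [MonoidHom.mem_ker, ← orderOf_eq_one_iff]
  refine Nat.eq_one_of_dvd_coprimes ?_ (orderOf_map_dvd _ c) (orderOf_dvd_natCard _)
  rw [hcard, show 4 = 2 ^ 2 from rfl]
  exact Nat.Coprime.pow_right _ (Nat.coprime_comm.mp (Nat.prime_two.coprime_iff_not_dvd.mpr hc))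

/-- A linear character is trivial at `x`. -/
theorem Q8Fus.hom_apply (h : Q8Fus x) {A : Type*} [CommGroup A] (l : G →* A) : l x = 1 := by
  obtain ⟨S, ⟨e⟩⟩ := h.syl
  have hconj : ∀ y : G, orderOf y = 4 → l y = l x := fun y hy => by
    obtain ⟨g, hg⟩ := isConj_iff.mp (h.fus y hy)
    rw [← hg, map_mul, map_mul, map_inv, mul_comm (l g), mul_assoc, mul_inv_cancel, mul_one]
  have ho : ∀ q : QuaternionGroup 2, q * q ≠ 1 → orderOf ((e.symm q : (S : Subgroup G)) : G) = 4 := by
    intro q hq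
    have key : ∀ r : QuaternionGroup 2, r * r * (r * r) = 1 := by decide
    rw [Subgroup.orderOf_coe, MulEquiv.orderOf_eq]
    refine orderOf_eq_prime_pow (p := 2) (n := 1) ?_ ?_
    · rw [pow_one, pow_two]; exact hq
    · rw [show 2 ^ (1 + 1) = 2 + 2 from rfl, pow_add, pow_two]; exact key q
  have h1 := hconj _ (ho (QuaternionGroup.a 1) (by decide))
  have h2 := hconj _ (ho (QuaternionGroup.xa 0) (by decide))
  have h3 := hconj _ (ho (QuaternionGroup.a 1 * QuaternionGroup.xa 0) (by decide))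
  rw [map_mul e.symm, Subgroup.coe_mul, map_mul, h1, h2] at h3
  exact mul_eq_left.mp h3

/-- A `2`-subgroup of order at least four has an element of order four. -/
theorem Q8Fus.exists_order_four (h : Q8Fus x) {P : Subgroup G} (hP : IsPGroup 2 P)
    (h4 : 2 < Nat.card P) : ∃ y ∈ P, orderOf y = 4 := by
  by_contra hne
  push Not at hne
  obtain ⟨f, hf⟩ := h.exists_emb hP
  have key : ∀ q : QuaternionGroup 2, q * q = 1 → q = 1 ∨ q = QuaternionGroup.a 2 := by decide
  have hall : ∀ w : P, f w = 1 ∨ f w = QuaternionGroup.a 2 := fun w => by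
    refine key _ ?_
    rcases h.orderOf_cases (z := (w : G))
      (by
        obtain ⟨k, hk⟩ := IsPGroup.iff_orderOf.mp hP w
        exact ⟨k, by rw [Subgroup.orderOf_coe, hk]⟩) with e | e | e
    · rw [Subgroup.orderOf_coe, orderOf_eq_one_iff] at e
      rw [e, map_one, one_mul]
    · rw [Subgroup.orderOf_coe] at e
      rw [← map_mul, ← pow_two, orderOf_dvd_iff_pow_eq_one.mp e.dvd, map_one]
    · exact absurd e (hne w w.2)
  have : Nat.card P ≤ 2 := by
    let g : P → Fin 2 := fun w => if f w = 1 then 0 else 1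
    have hg : Function.Injective g := fun a b hab => hf (by
      rcases hall a with ea | ea <;> rcases hall b with eb | eb <;> rw [ea, eb] <;>
        simp [g, ea, eb, show (QuaternionGroup.a 2 : QuaternionGroup 2) ≠ 1 by decide] at hab)
    simpa using Nat.card_le_card_of_injective g hg
  omega

/-- In a `2`-subgroup of order eight `x²` is a commutator when it centralizes it. -/
theorem Q8Fus.exists_commutator (h : Q8Fus x) {P : Subgroup G} (hP : IsPGroup 2 P)
    (h8 : Nat.card P = 8) (hPC : P ≤ Subgroup.centralizer ({x * x} : Set G)) :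
    ∃ a ∈ P, ∃ b ∈ P, a * b * a⁻¹ * b⁻¹ = x * x := by
  obtain ⟨f, hf⟩ := h.exists_emb hP
  have hsurj : Function.Surjective f :=
    ((Nat.bijective_iff_injective_and_card f).mpr ⟨hf, by
      rw [h8, Nat.card_eq_fintype_card (α := QuaternionGroup 2), QuaternionGroup.card]⟩).2
  obtain ⟨a, ha⟩ := hsurj (QuaternionGroup.a 1)
  obtain ⟨b, hb⟩ := hsurj (QuaternionGroup.xa 0)
  refine ⟨a, a.2, b, b.2, ?_⟩
  have hm : (a : G) * b * (a : G)⁻¹ * (b : G)⁻¹ ∈ P :=
    mul_mem (mul_mem (mul_mem a.2 b.2) (inv_mem a.2)) (inv_mem b.2)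
  have ho : orderOf (a * b * a⁻¹ * b⁻¹) = 2 := by
    rw [← orderOf_injective f hf, map_mul, map_mul, map_mul, map_inv, map_inv, ha, hb]
    exact orderOf_eq_prime (by decide) (by decide)
  refine h.invol_eq ?_ h.orderOf_sq (Subgroup.mem_centralizer_singleton_iff.mp (hPC hm))
  rw [← ho, ← Subgroup.orderOf_coe]
  rfl

end Cfsg.Agent.Char
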