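import Cfsg.Agent.Lib.Char.BlockLink
import Cfsg.Agent.Lib.Char.IsolatedBase
import Cfsg.Agent.Lib.Char.Q8Fusion

/-!
# The principal block on the section of an element of order four
-/

set_option autoImplicit false
set_option linter.unusedSectionVars false
set_option linter.style.haveILetI false

namespace Cfsg.Agent.Char

open Cfsg
open scoped ComplexConjugate

universe u

variable {G : Type u} [Group G] [Fintype G] {M : Ideal AlgInt} {x : G}

/-- The trivial character as a member. -/
noncomputable def irrOne : IrrCharacter G := ⟨fun _ => 1, isIrrCharacter_one⟩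

theorem irrOne_apply (g : G) : ((irrOne : IrrCharacter G) : G → ℂ) g = 1 := rfl

theorem irrOne_mem (hP : M.IsPrime) : (irrOne : IrrCharacter G) ∈ principalBlock M G :=
  sameBlock_refl hP _

theorem Q8Fus.ppower (h : Q8Fus x) : ∃ k : ℕ, orderOf x = 2 ^ k := ⟨2, h.ord⟩

/-- Principal block characters are constant on the section of `x`. -/
theorem Q8Fus.section_const (h : Q8Fus x) (hM : IsPModular 2 M) (χ : IrrCharacter G)
    (hχ : χ ∈ principalBlock M G) {y : G} (hc : Commute x y) (hy : ¬ 2 ∣ orderOf y) :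
    (χ : G → ℂ) (x * y) = (χ : G → ℂ) x := by
  obtain ⟨K, hKn, hKc, -, hKreg⟩ := h.centralizer_complement
  haveI := hKn
  have hm : y ∈ Subgroup.centralizer ({x} : Set G) :=
    Subgroup.mem_centralizer_singleton_iff.mpr hc.symm.eq
  have hy' : ¬ 2 ∣ orderOf (⟨y, hm⟩ : Subgroup.centralizer ({x} : Set G)) := by
    rwa [Subgroup.orderOf_mk]
  have := principal_section_const hM h.ppower K hKc χ hχ 1 ⟨y, hm⟩ (hKreg _ hy') (by simp)
    (by rwa [mul_one])
  simpa using this

omit [Fintype G] in
theorem Q8Fus.char_int [Finite G] (h : Q8Fus x) {χ : G → ℂ} (hχ : IsCharacter G χ) :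
    ∃ z : ℤ, χ x = z := by
  have hreal : conj (χ x) = χ x := by
    rw [← char_inv hχ]
    obtain ⟨g, hg⟩ := isConj_iff.mp h.isConj_inv
    rw [← isClassFunction_character hχ x⁻¹ g, hg]
  obtain ⟨n, ρ, rfl⟩ := hχ
  obtain ⟨μ, hμ, htr, -⟩ := exists_eigenvalues ρ x
  have h1 : ρ.character x = ∑ i, μ i := by simpa using htr 1
  have hi : ∀ i, ∃ z : ℤ, (μ i).re = z := fun i => by
    have h4 : μ i ^ 4 = 1 := h.ord ▸ hμ i
    have h2 : (μ i ^ 2) ^ 2 = 1 := by rw [← pow_mul]; exact h4
    rcases sq_eq_one_iff.mp h2 with e | e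
    · rcases sq_eq_one_iff.mp e with e' | e' <;> rw [e']
      · exact ⟨1, by simp⟩
      · exact ⟨-1, by simp⟩
    · refine ⟨0, ?_⟩
      have h3 := congrArg Complex.re e
      have h5 := congrArg Complex.im e
      simp [pow_two, Complex.mul_re, Complex.mul_im] at h3 h5
      push_cast
      nlinarith [sq_nonneg (μ i).re, sq_nonneg (μ i).im]
  choose z hz using hi
  refine ⟨∑ i, z i, ?_⟩
  rw [← Complex.conj_eq_iff_re.mp hreal, h1, Complex.re_sum]
  push_cast
  exact Finset.sum_congr rfl fun i _ => by rw [hz i, Complex.ofReal_intCast]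

/-- The integer value at `x`. -/
noncomputable def q8u (x : G) (χ : IrrCharacter G) : ℤ := ⌊((χ : G → ℂ) x).re⌋

theorem Q8Fus.q8u_spec (h : Q8Fus x) (χ : IrrCharacter G) :
    (q8u x χ : ℂ) = (χ : G → ℂ) x := by
  obtain ⟨z, hz⟩ := h.char_int (irr_isCharacter χ.2)
  rw [q8u, hz, Complex.intCast_re, Int.floor_intCast]

theorem Q8Fus.q8u_one (h : Q8Fus x) : q8u x (irrOne : IrrCharacter G) = 1 := by
  have := h.q8u_spec (irrOne : IrrCharacter G)
  rw [irrOne_apply] at this
  exact_mod_cast this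

/-- Linear characters are one at `x`. -/
theorem Q8Fus.q8u_linear (h : Q8Fus x) {χ : IrrCharacter G} (h1 : (χ : G → ℂ) 1 = 1) :
    q8u x χ = 1 := by
  obtain ⟨l, hl⟩ := exists_hom_of_degree_one (irr_isCharacter χ.2) h1
  have := h.q8u_spec χ
  rw [hl] at this
  simp only [h.hom_apply l, Units.val_one] at this
  exact_mod_cast this

open scoped Classical in
theorem Q8Fus.sum_sq (h : Q8Fus x) (hM : IsPModular 2 M) :
    ∑ χ : IrrCharacter G with χ ∈ principalBlock M G, q8u x χ * q8u x χ = 4 := by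
  haveI : Fintype (Subgroup.centralizer ({x} : Set G)) := Fintype.ofFinite _
  have hP := pmod_prime hM
  obtain ⟨K, hKn, hKc, hKi, hKreg⟩ := h.centralizer_complement
  haveI := hKn
  have h1 : ¬ 2 ∣ orderOf (1 : Subgroup.centralizer ({x} : Set G)) := by simp
  have hs := sum_block_section_orth hM h.ppower (isPBlock_principalBlock (G := G) M) 1 1 h1 h1
  rw [principal_section_filter hM h.ppower, Finset.sum_singleton] at hs
  simp only [OneMemClass.coe_one, mul_one, ← h.q8u_spec, map_intCast] at hs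
  have hr : ∑ ξ : IrrCharacter (Subgroup.centralizer ({x} : Set G)) with
      ξ ∈ principalBlock M (Subgroup.centralizer ({x} : Set G)),
      conj ((ξ : Subgroup.centralizer ({x} : Set G) → ℂ) 1) *
        (ξ : Subgroup.centralizer ({x} : Set G) → ℂ) 1 = (K.index : ℂ) := by
    rw [← sum_sq_trivial_on K hP]
    refine Finset.sum_congr (Finset.ext fun ξ => ?_) fun ξ _ => ?_
    · simp only [Finset.mem_filter, Finset.mem_univ, true_and]
      exact mem_principal_iff_of_index hM K hKc (k := 2) (by rw [hKi]; rfl) ξ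
    · obtain ⟨d, hd⟩ := charOne_eq_natCast (irr_isCharacter ξ.2)
      rw [hd, Complex.conj_natCast]
  rw [hr, hKi] at hs
  exact_mod_cast hs

open scoped Classical in
/-- The column of `x` is orthogonal to the columns outside its section. -/
theorem Q8Fus.col (h : Q8Fus x) (hM : IsPModular 2 M) {g z : G} (hg : IsPPart 2 g z)
    (hz : ¬ IsConj z x) :
    ∑ χ : IrrCharacter G with χ ∈ principalBlock M G,
      (q8u x χ : ℂ) * (χ : G → ℂ) g = 0 := by
  have hx : IsPPart 2 x x :=
    ⟨1, mul_one x, Commute.one_right x, h.ppower, by simp⟩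
  have := sum_block_column_orth hM (isPBlock_principalBlock (G := G) M) hg hx hz
  rw [← this]
  exact Finset.sum_congr rfl fun χ _ => by rw [← h.q8u_spec, map_intCast]

/-- The characters of the principal block not vanishing at `x`. -/
noncomputable def q8four (M : Ideal AlgInt) (x : G) : Finset (IrrCharacter G) := by
  classical
  exact Finset.univ.filter fun χ => χ ∈ principalBlock M G ∧ q8u x χ ≠ 0

theorem mem_q8four {χ : IrrCharacter G} :
    χ ∈ q8four M x ↔ χ ∈ principalBlock M G ∧ q8u x χ ≠ 0 := by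
  classical
  simp [q8four]

theorem Q8Fus.irrOne_mem_four (h : Q8Fus x) (hM : IsPModular 2 M) :
    (irrOne : IrrCharacter G) ∈ q8four M x :=
  mem_q8four.mpr ⟨irrOne_mem (pmod_prime hM), by rw [h.q8u_one]; norm_num⟩

theorem Q8Fus.four_sq (h : Q8Fus x) (hM : IsPModular 2 M) :
    (∀ χ ∈ q8four M x, q8u x χ * q8u x χ = 1) ∧ (q8four M x).card = 4 := by
  classical
  have hsum : ∑ χ ∈ q8four M x, q8u x χ * q8u x χ = 4 := by
    rw [← h.sum_sq hM]
    refine Finset.sum_subset (fun χ hχ => Finset.mem_filter.mpr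
      ⟨Finset.mem_univ _, (mem_q8four.mp hχ).1⟩) fun χ hχ hn => ?_
    have : q8u x χ = 0 := by
      by_contra hne
      exact hn (mem_q8four.mpr ⟨(Finset.mem_filter.mp hχ).2, hne⟩)
    rw [this, mul_zero]
  have hone := h.irrOne_mem_four hM
  have h1 : ∀ χ ∈ q8four M x, q8u x χ * q8u x χ = 1 := by
    intro χ hχ
    by_cases he : χ = irrOne
    · rw [he, h.q8u_one, one_mul]
    have hle : q8u x χ * q8u x χ + 1 ≤ 4 := by
      rw [← hsum]
      refine le_trans (le_of_eq ?_) (Finset.sum_le_sum_of_subset_of_nonneg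
        (show {χ, irrOne} ⊆ q8four M x by
          simp [Finset.insert_subset_iff, hχ, hone]) fun ψ _ _ => mul_self_nonneg _)
      rw [Finset.sum_pair he, h.q8u_one, one_mul]
    have hne := (mem_q8four.mp hχ).2
    have : q8u x χ ≤ 1 ∧ -1 ≤ q8u x χ := by constructor <;> nlinarith
    rcases (show q8u x χ = 1 ∨ q8u x χ = -1 by omega) with e | e <;> rw [e] <;> norm_num
  refine ⟨h1, ?_⟩
  rw [Finset.sum_congr rfl h1, Finset.sum_const, nsmul_one] at hsum
  exact_mod_cast hsum

/-- Sums over the four characters. -/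
theorem Q8Fus.col_four (h : Q8Fus x) (hM : IsPModular 2 M) {g z : G} (hg : IsPPart 2 g z)
    (hz : ¬ IsConj z x) :
    ∑ χ ∈ q8four M x, (q8u x χ : ℂ) * (χ : G → ℂ) g = 0 := by
  classical
  rw [← h.col hM hg hz]
  refine Finset.sum_subset (fun χ hχ => Finset.mem_filter.mpr
    ⟨Finset.mem_univ _, (mem_q8four.mp hχ).1⟩) fun χ hχ hn => ?_
  have : q8u x χ = 0 := by
    by_contra hne
    exact hn (mem_q8four.mpr ⟨(Finset.mem_filter.mp hχ).2, hne⟩)
  rw [this, Int.cast_zero, zero_mul]

end Cfsg.Agent.Char
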