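import Cfsg.Agent.Lib.Char.DihedralSection
import Cfsg.Agent.Lib.Char.Q8Columns
import Mathlib.NumberTheory.LegendreSymbol.AddCharacter

/-!
# The columns of the principal block on the rotations
-/

set_option autoImplicit false
set_option linter.unusedSectionVars false
set_option linter.style.haveILetI false

namespace Cfsg.Agent.Char

open Cfsg DihedralGroup
open scoped ComplexConjugate

universe u

variable {G : Type u} [Group G] [Fintype G] {M : Ideal AlgInt}

open scoped Classical in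
/-- The members of the principal block. -/
noncomputable def dihB0 (M : Ideal AlgInt) (G : Type u) [Group G] [Fintype G] :
    Finset (IrrCharacter G) :=
  Finset.univ.filter fun χ => χ ∈ principalBlock M G

theorem mem_dihB0 {χ : IrrCharacter G} : χ ∈ dihB0 M G ↔ χ ∈ principalBlock M G := by
  simp [dihB0]

variable {P : Sylow 2 G} {N : ℕ} [NeZero N] {ι : DihedralGroup N →* G} {ζ : ℂ}

/-- The additive character of the rotations. -/
noncomputable def dihE (hζ : IsPrimitiveRoot ζ N) : AddChar (ZMod N) ℂ :=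
  AddChar.zmodChar N hζ.pow_eq_one

theorem dihE_natCast (hζ : IsPrimitiveRoot ζ N) (a : ℕ) : dihE hζ (a : ZMod N) = ζ ^ a :=
  AddChar.zmodChar_apply' hζ.pow_eq_one a

theorem dihE_mul_nat (hζ : IsPrimitiveRoot ζ N) (a l : ℕ) :
    dihE hζ ((l : ZMod N) * (a : ZMod N)) = ζ ^ (a * l) := by
  rw [← Nat.cast_mul, dihE_natCast, mul_comm]

theorem dihE_sum (hζ : IsPrimitiveRoot ζ N) (b : ZMod N) :
    ∑ i : ZMod N, dihE hζ (i * b) = if b = 0 then (N : ℂ) else 0 := by
  rw [dihE, AddChar.sum_mulShift b (AddChar.zmodChar_primitive_of_primitive_root N hζ), ZMod.card]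
  split_ifs <;> simp

theorem dihE_sum_left (hζ : IsPrimitiveRoot ζ N) (b : ZMod N) :
    ∑ i : ZMod N, dihE hζ (b * i) = if b = 0 then (N : ℂ) else 0 := by
  rw [← dihE_sum hζ b]
  exact Finset.sum_congr rfl fun i _ => by rw [mul_comm]

theorem DihSyl.value_neg (χ : IrrCharacter G) (i : ZMod N) :
    (χ : G → ℂ) (ι (r (-i))) = (χ : G → ℂ) (ι (r i)) := by
  obtain ⟨g, hg⟩ := isConj_iff.1 (DihSyl.conj_neg (ι := ι) i)
  rw [← hg, isClassFunction_character (irr_isCharacter χ.2)]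

theorem DihSyl.value_real (χ : IrrCharacter G) (i : ZMod N) :
    conj ((χ : G → ℂ) (ι (r i))) = (χ : G → ℂ) (ι (r i)) := by
  rw [← char_inv (irr_isCharacter χ.2), ← map_inv, inv_r, DihSyl.value_neg]

theorem DihSyl.ppart_self (h : DihSyl P ι) (d : DihedralGroup N) : IsPPart 2 (ι d) (ι d) :=
  ⟨1, mul_one _, Commute.one_right _, h.ppower d, by simp⟩

theorem isPPart_regular {g : G} (hg : ¬ 2 ∣ orderOf g) : IsPPart 2 g 1 :=
  ⟨g, one_mul g, Commute.one_left g, ⟨0, by simp⟩, hg⟩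

theorem DihSyl.col_zero (h : DihSyl P ι) (hM : IsPModular 2 M) {i k : ZMod N} (hik : k ≠ i)
    (hik' : k ≠ -i) :
    ∑ χ ∈ dihB0 M G, conj ((χ : G → ℂ) (ι (r i))) * (χ : G → ℂ) (ι (r k)) = 0 := by
  classical
  refine sum_block_column_orth hM (isPBlock_principalBlock (G := G) M) (h.ppart_self _)
    (h.ppart_self _) fun hc => ?_
  rcases h.conj_rot hc with e | e
  · exact hik e.symm
  · exact hik' (by rw [e, neg_neg])

theorem DihSyl.col_self (h : DihSyl P ι) (hM : IsPModular 2 M) {i : ZMod N} (hi : i ≠ 0) :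
    ∑ χ ∈ dihB0 M G, conj ((χ : G → ℂ) (ι (r i))) * (χ : G → ℂ) (ι (r i)) =
      (N : ℂ) * (if i + i = 0 then 2 else 1) := by
  classical
  split_ifs with hii
  · rcases Fusion.zmod_double_eq_zero hii with e | e
    · exact absurd e hi
    · subst e
      rw [dihB0, (nilp_section hM (h.ppower _) h.cent_J.1).2, h.cent_J.2]
      push_cast; ring
  · rw [dihB0, (nilp_section hM (h.ppower _) (h.cent_rot hii).1).2, (h.cent_rot hii).2, mul_one]

theorem DihSyl.sum_col (h : DihSyl P ι) (hM : IsPModular 2 M) {i : ZMod N} (hi : i ≠ 0)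
    (f : ZMod N → ℂ) :
    ∑ k, f k * ∑ χ ∈ dihB0 M G, conj ((χ : G → ℂ) (ι (r i))) * (χ : G → ℂ) (ι (r k)) =
      (N : ℂ) * (f i + f (-i)) := by
  classical
  by_cases hii : i + i = 0
  · have hneg : -i = i := neg_eq_of_add_eq_zero_left hii
    rw [Finset.sum_eq_single i (fun k _ hk => by rw [h.col_zero hM hk (by rwa [hneg]), mul_zero])
      (fun hn => absurd (Finset.mem_univ _) hn), h.col_self hM hi, if_pos hii, hneg]
    ring
  · have hneg : i ≠ -i := fun e => hii (by nth_rewrite 2 [e]; exact add_neg_cancel i)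
    rw [Finset.sum_eq_add (a := i) (b := -i) hneg
      (fun k _ hk => by rw [h.col_zero hM hk.1 hk.2, mul_zero])
      (fun hn => absurd (Finset.mem_univ _) hn) (fun hn => absurd (Finset.mem_univ _) hn)]
    simp only [DihSyl.value_neg, h.col_self hM hi, if_neg hii]
    ring

/-- The multiplicity of a nontrivial linear character minus that of the trivial one. -/
noncomputable def dihV (hζ : IsPrimitiveRoot ζ N) (ι : DihedralGroup N →* G) (j : ZMod N)
    (χ : IrrCharacter G) : ℤ :=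
  ⌊((N : ℂ)⁻¹ * ∑ i : ZMod N, (dihE hζ (-(i * j)) - 1) * (χ : G → ℂ) (ι (r i))).re⌋

theorem dihV_spec (hζ : IsPrimitiveRoot ζ N) (j : ZMod N) (χ : IrrCharacter G) :
    (N : ℂ) * (dihV hζ ι j χ : ℂ) =
      ∑ i : ZMod N, (dihE hζ (-(i * j)) - 1) * (χ : G → ℂ) (ι (r i)) := by
  classical
  have hN : (N : ℂ) ≠ 0 := Nat.cast_ne_zero.2 (NeZero.ne N)
  obtain ⟨n, ρ, hρ⟩ := irr_isCharacter χ.2
  obtain ⟨μ, hμ, htr, -⟩ := exists_eigenvalues ρ (ι (r 1))
  have hμN : ∀ a, μ a ^ N = 1 := fun a => by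
    obtain ⟨c, hc⟩ : orderOf (ι (r 1)) ∣ N :=
      (orderOf_map_dvd ι _).trans (orderOf_r_one (n := N)).dvd
    have := congrArg (fun k => μ a ^ k) hc
    rw [this]
    show μ a ^ (orderOf (ι (r 1)) * c) = 1
    rw [pow_mul, hμ, one_pow]
  choose k _ hk using fun a => hζ.eq_pow_of_pow_eq_one (hμN a)
  have hval : ∀ i : ZMod N, (χ : G → ℂ) (ι (r i)) = ∑ a, dihE hζ (i * (k a : ZMod N)) := by
    intro i
    rw [rot_pow_val, ← hρ, htr]
    refine Finset.sum_congr rfl fun a _ => ?_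
    conv_rhs => rw [← ZMod.natCast_rightInverse i]
    rw [dihE_mul_nat, pow_mul, hk]
  have key : ∑ i : ZMod N, (dihE hζ (-(i * j)) - 1) * (χ : G → ℂ) (ι (r i)) =
      (N : ℂ) * ((∑ a, ((if (k a : ZMod N) - j = 0 then 1 else 0) -
        (if (k a : ZMod N) = 0 then 1 else 0) : ℤ) : ℤ) : ℂ) := by
    simp only [hval, Finset.mul_sum, Int.cast_sum, Int.cast_sub, Int.cast_ite, Int.cast_one,
      Int.cast_zero, mul_sub, mul_ite, mul_one, mul_zero]
    rw [Finset.sum_comm]
    refine Finset.sum_congr rfl fun a _ => ?_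
    rw [← dihE_sum hζ, ← dihE_sum hζ, ← Finset.sum_sub_distrib]
    refine Finset.sum_congr rfl fun i _ => ?_
    rw [sub_mul, one_mul, ← AddChar.map_add_eq_mul, show -(i * j) + i * (k a : ZMod N) =
      i * ((k a : ZMod N) - j) by ring]
  rw [dihV, key, ← mul_assoc, inv_mul_cancel₀ hN, one_mul, Complex.intCast_re, Int.floor_intCast]

theorem dihV_neg (hζ : IsPrimitiveRoot ζ N) (j : ZMod N) (χ : IrrCharacter G) :
    dihV hζ ι (-j) χ = dihV hζ ι j χ := by
  have hN : (N : ℂ) ≠ 0 := Nat.cast_ne_zero.2 (NeZero.ne N)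
  have : (dihV hζ ι (-j) χ : ℂ) = dihV hζ ι j χ := by
    refine mul_left_cancel₀ hN ?_
    rw [dihV_spec, dihV_spec]
    refine Fintype.sum_equiv (Equiv.neg _) _ _ fun i => ?_
    simp only [Equiv.neg_apply, neg_mul, mul_neg, neg_neg, DihSyl.value_neg]
  exact_mod_cast this

theorem dihV_spec' (hζ : IsPrimitiveRoot ζ N) (j : ZMod N) (χ : IrrCharacter G) :
    (N : ℂ) * (dihV hζ ι j χ : ℂ) =
      ∑ i : ZMod N, (dihE hζ (i * j) - 1) * conj ((χ : G → ℂ) (ι (r i))) := by
  rw [← dihV_neg, dihV_spec]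
  simp only [mul_neg, neg_neg, DihSyl.value_real]

theorem dihV_zero (hζ : IsPrimitiveRoot ζ N) (χ : IrrCharacter G) : dihV hζ ι 0 χ = 0 := by
  have hN : (N : ℂ) ≠ 0 := Nat.cast_ne_zero.2 (NeZero.ne N)
  have h : (N : ℂ) * (dihV hζ ι 0 χ : ℂ) = 0 := by
    rw [dihV_spec]; simp
  exact_mod_cast (mul_eq_zero.1 h).resolve_left hN

theorem dihV_irrOne (hζ : IsPrimitiveRoot ζ N) {j : ZMod N} (hj : j ≠ 0) :
    dihV hζ ι j (irrOne : IrrCharacter G) = -1 := by
  have hN : (N : ℂ) ≠ 0 := Nat.cast_ne_zero.2 (NeZero.ne N)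
  have h : (N : ℂ) * (dihV hζ ι j (irrOne : IrrCharacter G) : ℂ) = (N : ℂ) * ((-1 : ℤ) : ℂ) := by
    rw [dihV_spec']
    simp only [irrOne_apply, map_one, mul_one, Finset.sum_sub_distrib, dihE_sum, if_neg hj,
      Finset.sum_const, Finset.card_univ, ZMod.card, nsmul_one]
    push_cast; ring
  exact_mod_cast mul_left_cancel₀ hN h

/-- The values on the rotations from the multiplicities. -/
theorem dihV_value (hζ : IsPrimitiveRoot ζ N) (χ : IrrCharacter G) {i : ZMod N} (hi : i ≠ 0) :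
    (χ : G → ℂ) (ι (r i)) = ∑ j : ZMod N, dihE hζ (i * j) * (dihV hζ ι j χ : ℂ) := by
  classical
  have hN : (N : ℂ) ≠ 0 := Nat.cast_ne_zero.2 (NeZero.ne N)
  refine mul_left_cancel₀ hN ?_
  rw [Finset.mul_sum, Finset.sum_congr rfl fun j _ => show (N : ℂ) * (dihE hζ (i * j) *
      (dihV hζ ι j χ : ℂ)) = ∑ k : ZMod N, (dihE hζ ((i - k) * j) - dihE hζ (i * j)) *
        (χ : G → ℂ) (ι (r k)) by
    rw [mul_left_comm, dihV_spec, Finset.mul_sum]
    refine Finset.sum_congr rfl fun k _ => ?_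
    rw [← mul_assoc, mul_sub, mul_one, ← AddChar.map_add_eq_mul,
      show i * j + -(k * j) = (i - k) * j by ring], Finset.sum_comm]
  rw [Finset.sum_congr rfl fun k _ => show ∑ j : ZMod N, (dihE hζ ((i - k) * j) - dihE hζ (i * j)) *
      (χ : G → ℂ) (ι (r k)) = (if k = i then (N : ℂ) * (χ : G → ℂ) (ι (r k)) else 0) by
    rw [← Finset.sum_mul, Finset.sum_sub_distrib, dihE_sum_left, dihE_sum_left, if_neg hi, sub_zero]
    by_cases hk : k = i
    · rw [if_pos hk, if_pos (sub_eq_zero.2 hk.symm)]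
    · rw [if_neg hk, if_neg (sub_ne_zero.2 (Ne.symm hk)), zero_mul],
    Finset.sum_ite_eq', if_pos (Finset.mem_univ _)]

theorem DihSyl.gram (h : DihSyl P ι) (hM : IsPModular 2 M) (hζ : IsPrimitiveRoot ζ N)
    {a b : ZMod N} (ha : a ≠ 0) (hb : b ≠ 0) :
    ∑ χ ∈ dihB0 M G, dihV hζ ι a χ * dihV hζ ι b χ =
      (if a = b then 1 else 0) + (if a = -b then 1 else 0) + 2 := by
  classical
  have hN : (N : ℂ) ≠ 0 := Nat.cast_ne_zero.2 (NeZero.ne N)
  have key : ∑ χ ∈ dihB0 M G, ((N : ℂ) * (dihV hζ ι a χ : ℂ)) * ((N : ℂ) * (dihV hζ ι b χ : ℂ)) =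
      (N : ℂ) * ((N : ℂ) * ((if a = b then 1 else 0) + (if a = -b then 1 else 0) + 2)) := by
    calc ∑ χ ∈ dihB0 M G, ((N : ℂ) * (dihV hζ ι a χ : ℂ)) * ((N : ℂ) * (dihV hζ ι b χ : ℂ))
        = ∑ i : ZMod N, (dihE hζ (i * a) - 1) * ∑ k : ZMod N, (dihE hζ (-(k * b)) - 1) *
            ∑ χ ∈ dihB0 M G, conj ((χ : G → ℂ) (ι (r i))) * (χ : G → ℂ) (ι (r k)) := by
          rw [Finset.sum_congr rfl fun χ _ => by
            rw [dihV_spec' hζ a χ, dihV_spec hζ b χ, Finset.sum_mul_sum], Finset.sum_comm]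
          refine Finset.sum_congr rfl fun i _ => ?_
          rw [Finset.sum_comm, Finset.mul_sum]
          refine Finset.sum_congr rfl fun k _ => ?_
          rw [Finset.mul_sum, Finset.mul_sum]
          exact Finset.sum_congr rfl fun χ _ => by ring
      _ = ∑ i : ZMod N, (N : ℂ) * (dihE hζ (i * (a - b)) + dihE hζ (i * (a + b)) -
            2 * dihE hζ (i * a) - dihE hζ (i * -b) - dihE hζ (i * b) + 2) := by
          refine Finset.sum_congr rfl fun i _ => ?_
          by_cases hi : i = 0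
          · subst hi
            simp only [zero_mul, AddChar.map_zero_eq_one, sub_self]
            ring
          rw [h.sum_col hM hi, show i * (a - b) = i * a + i * -b by ring,
            show i * (a + b) = i * a + i * b by ring, AddChar.map_add_eq_mul,
            AddChar.map_add_eq_mul, show -(-i * b) = i * b by ring,
            show -(i * b) = i * -b by ring]
          ring
      _ = _ := by
          simp only [← Finset.mul_sum, Finset.sum_add_distrib, Finset.sum_sub_distrib, dihE_sum,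
            Finset.sum_const, Finset.card_univ, ZMod.card, if_neg ha, if_neg hb,
            if_neg (neg_ne_zero.2 hb), sub_eq_zero, add_eq_zero_iff_eq_neg]
          split_ifs <;> simp <;> ring_nf <;> simp
  have key2 : ((∑ χ ∈ dihB0 M G, dihV hζ ι a χ * dihV hζ ι b χ : ℤ) : ℂ) =
      (((if a = b then 1 else 0) + (if a = -b then 1 else 0) + 2 : ℤ) : ℂ) := by
    refine mul_left_cancel₀ hN (mul_left_cancel₀ hN ?_)
    push_cast
    rw [← key, Finset.mul_sum, Finset.mul_sum]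
    exact Finset.sum_congr rfl fun χ _ => by ring
  exact_mod_cast key2

theorem DihSyl.regular_rel (h : DihSyl P ι) (hM : IsPModular 2 M) (hζ : IsPrimitiveRoot ζ N)
    (a : ZMod N) {ρ : G} (hρ : ¬ 2 ∣ orderOf ρ) :
    ∑ χ ∈ dihB0 M G, (dihV hζ ι a χ : ℂ) * (χ : G → ℂ) ρ = 0 := by
  classical
  have hN : (N : ℂ) ≠ 0 := Nat.cast_ne_zero.2 (NeZero.ne N)
  refine mul_left_cancel₀ hN ?_
  rw [Finset.mul_sum, mul_zero, Finset.sum_congr rfl fun χ _ => by
    rw [← mul_assoc, dihV_spec' hζ a χ, Finset.sum_mul], Finset.sum_comm]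
  refine Finset.sum_eq_zero fun i _ => ?_
  by_cases hi : i = 0
  · subst hi; simp
  rw [Finset.sum_congr rfl fun (χ : IrrCharacter G) _ => mul_assoc _ _ ((χ : G → ℂ) ρ),
    ← Finset.mul_sum]
  refine mul_eq_zero_of_right _ ?_
  refine sum_block_column_orth hM (isPBlock_principalBlock (G := G) M) (isPPart_regular hρ)
    (h.ppart_self _) fun hc => hi (h.rot_eq_one ?_)
  exact isConj_one_right.1 hc

end Cfsg.Agent.Char
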