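import Cfsg.Agent.Lib.Char.PrincipalBlock
import Cfsg.Agent.Lib.Char.BrauerConj
import Cfsg.Agent.Lib.Char.ThirdMain
import Cfsg.Agent.Lib.Fusion.NPC
import Mathlib

/-!
Principal blocks with a single irreducible Brauer character.
-/

set_option autoImplicit false
set_option linter.style.haveILetI false
set_option linter.unusedSectionVars false
open scoped ComplexConjugate
open Cfsg

namespace Cfsg.Agent.Char

universe u
variable {G : Type u} [Group G] [Fintype G] {p : ℕ} [hp : Fact p.Prime] {M : Ideal AlgInt}

theorem hnpc_iff_regular : HasNormalPComplement p G ↔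
    ∃ K : Subgroup G, K.Normal ∧ ¬ p ∣ Nat.card K ∧ ∀ g : G, ¬ p ∣ orderOf g → g ∈ K := by
  constructor
  · intro h
    refine ⟨pResidual p G, inferInstance, ?_, fun g hg => ?_⟩
    · rw [← Fusion.coprime_card_iff_not_dvd]
      exact Fusion.hnpc_iff.1 h
    · exact Subgroup.subset_closure (Nat.coprime_comm.1 (hp.out.coprime_iff_not_dvd.2 hg))
  · rintro ⟨K, hK, hc, hr⟩
    refine Fusion.hnpc_iff.2 (((Fusion.coprime_card_iff_not_dvd).2 hc).coprime_dvd_left
      (Subgroup.card_dvd_of_le ?_))
    refine (Subgroup.closure_le _).2 fun g hg => hr g ?_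
    exact hp.out.coprime_iff_not_dvd.1 (Nat.coprime_comm.1 hg)

theorem blockRank_principal_eq_one_iff (hM : IsPModular p M) :
    blockRank p (principalBlock M G) = 1 ↔ HasNormalPComplement p G := by
  classical
  have hone : (⟨fun _ => 1, isIrrCharacter_one⟩ : IrrCharacter G) ∈ principalBlock M G := by
    exact fun g => by simp only [sub_self]; exact memLI_zero (pmod_prime hM)
  have hne : (pRegularPart p (fun _ : G => (1 : ℂ))) ≠ 0 := fun h => by
    have := congrFun h 1
    simp [pRegularPart, IsPRegular, hp.out.ne_one] at this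
  rw [hnpc_iff_regular]
  constructor
  · intro h
    refine ⟨blockKerSub (principalBlock M G), blockKerSub_normal _,
      not_dvd_card_blockKerSub hM (isPBlock_principalBlock M), fun g hg χ hχ => ?_⟩
    set S := Submodule.span ℂ ((fun χ : IrrCharacter G => pRegularPart p (χ : G → ℂ)) '' principalBlock M G)
      with hS
    have hv : pRegularPart p (fun _ : G => (1 : ℂ)) ∈ S := Submodule.subset_span ⟨_, hone, rfl⟩
    obtain ⟨c, hc⟩ := (finrank_eq_one_iff_of_nonzero' (⟨_, hv⟩ : S) (by simpa [Subtype.ext_iff] using hne)).1 h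
      ⟨pRegularPart p (χ : G → ℂ), Submodule.subset_span ⟨χ, hχ, rfl⟩⟩
    have hc' := congrArg (fun w : S => (w : G → ℂ)) hc
    have h1 := congrFun hc' 1
    have h2 := congrFun hc' g
    simp [pRegularPart, IsPRegular, hp.out.ne_one, hg] at h1 h2
    rw [← h1, ← h2]
  · rintro ⟨K, hK, hc, hr⟩
    apply le_antisymm
    · refine le_trans (Submodule.finrank_mono (Submodule.span_le.2 ?_))
        (le_of_eq (finrank_span_singleton hne))
      rintro _ ⟨χ, hχ, rfl⟩
      refine Submodule.mem_span_singleton.2 ⟨(χ : G → ℂ) 1, funext fun g => ?_⟩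
      by_cases hg : p ∣ orderOf g
      · simp [pRegularPart, IsPRegular, hg]
      · have := principal_trivial_on hM K hc hχ g (hr g hg)
        simp [pRegularPart, IsPRegular, hg, this]
    · rw [← finrank_span_singleton (K := ℂ) hne]
      exact Submodule.finrank_mono ((Submodule.span_singleton_le_iff_mem _ _).2
        (Submodule.subset_span ⟨_, hone, rfl⟩))

theorem brauerPairOf_principal (hM : IsPModular p M) {Q : Subgroup G} (hQ : IsPGroup p Q) :
    IsBrauerPairOf p M (principalBlock M G) Q (principalBlock M (Subgroup.centralizer (Q : Set G))) := by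
  classical
  haveI := Fintype.ofFinite (Subgroup.centralizer (Q : Set G))
  refine ⟨⟨hQ, isPBlock_principalBlock M⟩, isPBlock_principalBlock M, fun ξ hξ => ?_⟩
  have := (third_main_brauer hM hQ ξ).mpr hξ
  rw [show brauerOmega Q (blockCoeff (principalBlock M G)) (ξ : _ → ℂ) =
    brLam Q (Subgroup.centralizer (Q : Set G)) (ξ : _ → ℂ) (blockCoeff (principalBlock M G)) from by
    rw [brauerOmega_eq, brLam]
    exact congrArg _ (funext fun c => by rw [brRes, if_pos c.2]; rfl)]
  exact this

theorem stabilizesBlock_principal {M : Ideal AlgInt} {Q : Subgroup G} {u : G}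
    (hu : u ∈ Subgroup.normalizer (Q : Set G)) :
    StabilizesBlock (Subgroup.centralizer (Q : Set G))
      (principalBlock M (Subgroup.centralizer (Q : Set G))) u := by
  classical
  haveI := Fintype.ofFinite (Subgroup.centralizer (Q : Set G))
  refine ⟨?_, fun χ hχ => ⟨irrComp (conjC Q ⟨u, hu⟩)⁻¹ χ, ?_, fun k k' e => ?_⟩⟩
  · rw [Subgroup.mem_normalizer_iff]
    exact fun c => (conj_mem_centralizer_iff (H := Subgroup.normalizer (Q : Set G)) le_rfl ⟨u, hu⟩ c).symm
  · exact sameBlock_irrComp (conjC Q ⟨u, hu⟩)⁻¹ (χ := ⟨fun _ => 1, isIrrCharacter_one⟩) (ψ := χ) hχ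
  · rw [irrComp_apply]
    exact congrArg _ ((MulEquiv.symm_apply_eq _).mpr (Subtype.ext e))

theorem nilpotent_principal_iff (hM : IsPModular p M) :
    IsNilpotentBlock p M (principalBlock M G) ↔ blockRank p (principalBlock M G) = 1 := by
  classical
  rw [blockRank_principal_eq_one_iff hM]
  constructor
  · rintro ⟨-, h⟩
    obtain ⟨P⟩ : Nonempty (Sylow p G) := inferInstance
    refine Fusion.hnpc_of_centralize (Fusion.sylIn_top P) fun Q hQ g hg hgp => ?_
    have hQp : IsPGroup p Q := P.isPGroup'.to_le hQ
    exact h Q _ (brauerPairOf_principal hM hQp) g hg (stabilizesBlock_principal hg)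
      (hp.out.coprime_iff_not_dvd.1 (Nat.coprime_comm.1 hgp))
  · intro h
    exact ⟨isPBlock_principalBlock M, fun Q e hQe x hx _ hxr =>
      Fusion.hnpc_centralize h hQe.1.1 hx (Nat.coprime_comm.1 (hp.out.coprime_iff_not_dvd.2 hxr))⟩

theorem blockRank_principal_congr (hM : IsPModular p M) {H : Type u} [Group H] [Fintype H] (e : G ≃* H) :
    blockRank p (principalBlock M G) = blockRank p (principalBlock M H) := by
  classical
  let L : (H → ℂ) ≃ₗ[ℂ] (G → ℂ) := LinearEquiv.funCongrLeft ℂ ℂ e.toEquiv
  have hone : irrTransport e (⟨fun _ => 1, isIrrCharacter_one⟩ : IrrCharacter H) =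
      (⟨fun _ => 1, isIrrCharacter_one⟩ : IrrCharacter G) := rfl
  have hone' : irrTransport e.symm (⟨fun _ => 1, isIrrCharacter_one⟩ : IrrCharacter G) =
      (⟨fun _ => 1, isIrrCharacter_one⟩ : IrrCharacter H) := rfl
  have himg : irrTransport e '' principalBlock M H = principalBlock M G := by
    ext ψ
    constructor
    · rintro ⟨η, hη, rfl⟩
      exact sameBlock_transport e (χ := ⟨fun _ => 1, isIrrCharacter_one⟩) (ψ := η) hη
    · intro h
      refine ⟨irrTransport e.symm ψ,
        sameBlock_transport e.symm (χ := ⟨fun _ => 1, isIrrCharacter_one⟩) (ψ := ψ) h, ?_⟩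
      have := irrTransport_symm e.symm ψ
      rwa [MulEquiv.symm_symm] at this
  unfold blockRank
  rw [← himg, Set.image_image]
  have hpt : ∀ η : IrrCharacter H, pRegularPart p (irrTransport e η : G → ℂ) =
      L (pRegularPart p (η : H → ℂ)) := by
    intro η
    funext g
    show _ = pRegularPart p (η : H → ℂ) (e g)
    by_cases h : p ∣ orderOf g <;>
      simp [pRegularPart, IsPRegular, MulEquiv.orderOf_eq, irrTransport_apply, h]
  rw [show (fun η : IrrCharacter H => pRegularPart p (irrTransport e η : G → ℂ)) =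
    fun η : IrrCharacter H => L (pRegularPart p (η : H → ℂ)) from funext hpt]
  rw [show (fun η : IrrCharacter H => L (pRegularPart p (η : H → ℂ))) '' principalBlock M H =
    L '' ((fun η : IrrCharacter H => pRegularPart p (η : H → ℂ)) '' principalBlock M H) from
      (Set.image_image _ _ _).symm, show (L '' ((fun η : IrrCharacter H => pRegularPart p (η : H → ℂ)) '' principalBlock M H)) =
      (L.toLinearMap '' ((fun η : IrrCharacter H => pRegularPart p (η : H → ℂ)) '' principalBlock M H)) from rfl,
    Submodule.span_image]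
  exact LinearEquiv.finrank_map_eq L _

end Cfsg.Agent.Char
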