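import Cfsg.Agent.Lib.Fusion.DihedralFours
import Cfsg.Agent.Lib.Char.IsolatedBase
import Cfsg.Agent.Lib.Char.BlockLink
import Cfsg.Agent.Lib.Char.RankOne
import Cfsg.Agent.Lib.Char.KleinFour
import Cfsg.Agent.Lib.Char.PParts

/-!
# Centralizers and sections for a dihedral Sylow 2-subgroup
-/

set_option autoImplicit false
set_option linter.unusedSectionVars false
set_option linter.style.haveILetI false

namespace Cfsg.Agent.Char

open Cfsg DihedralGroup
open Cfsg.Agent.Fusion (SylIn sylIn_top)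
open Cfsg.Agent.Fusion.DihedralFours (center_r_half four_map_klein dihedral_hnpc_of_no_fusion half_ne_zero)
open Cfsg.Agent.Solv.DihedralClasses (rotations involution_cases involution_cases')
open scoped ComplexConjugate

universe u

variable {G : Type u} [Group G] [Fintype G] {M : Ideal AlgInt}

/-- Sections with `p`-nilpotent centralizer in the principal block. -/
theorem nilp_section {p : ℕ} (hM : IsPModular p M) {x : G} (hx : ∃ k : ℕ, orderOf x = p ^ k)
    (hnp : HasNormalPComplement p (Subgroup.centralizer ({x} : Set G))) :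
    (∀ χ : IrrCharacter G, χ ∈ principalBlock M G → ∀ y : G, Commute x y → ¬ p ∣ orderOf y →
      (χ : G → ℂ) (x * y) = (χ : G → ℂ) x) ∧
    (open scoped Classical in ∑ χ : IrrCharacter G with χ ∈ principalBlock M G,
      conj ((χ : G → ℂ) x) * (χ : G → ℂ) x =
        ((p ^ (Nat.card (Subgroup.centralizer ({x} : Set G))).factorization p : ℕ) : ℂ)) := by
  classical
  haveI : Fact p.Prime := ⟨hM.1⟩
  haveI : Fintype (Subgroup.centralizer ({x} : Set G)) := Fintype.ofFinite _
  have hP := pmod_prime hM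
  obtain ⟨K, hKn, hKc, hKreg⟩ := hnpc_iff_regular.1 hnp
  haveI := hKn
  refine ⟨fun χ hχ y hc hy => ?_, ?_⟩
  · have hm : y ∈ Subgroup.centralizer ({x} : Set G) :=
      Subgroup.mem_centralizer_singleton_iff.mpr hc.symm.eq
    have hy' : ¬ p ∣ orderOf (⟨y, hm⟩ : Subgroup.centralizer ({x} : Set G)) := by
      rwa [Subgroup.orderOf_mk]
    have := principal_section_const hM hx K hKc χ hχ 1 ⟨y, hm⟩ (hKreg _ hy')
      (by simp [hM.1.ne_one]) (by rwa [mul_one])
    simpa using this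
  · have h1y : ¬ p ∣ orderOf (1 : Subgroup.centralizer ({x} : Set G)) := by simp [hM.1.ne_one]
    have hK : K.index = p ^ (Nat.card (Subgroup.centralizer ({x} : Set G))).factorization p := by
      obtain ⟨S, N, hN, hc⟩ := hnp
      haveI := hN
      rw [eq_complement hKc hKreg hc, hc.symm.index_eq_card, S.card_eq_multiplicity]
    have hs := sum_block_section_orth hM hx (isPBlock_principalBlock (G := G) M) 1 1 h1y h1y
    rw [principal_section_filter hM hx, Finset.sum_singleton] at hs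
    simp only [OneMemClass.coe_one, mul_one] at hs
    rw [hs, ← hK, ← sum_sq_trivial_on K hP]
    refine Finset.sum_congr (Finset.ext fun ξ => ?_) fun ξ _ => ?_
    · simp only [Finset.mem_filter, Finset.mem_univ, true_and]
      exact mem_principal_iff_of_index hM K hKc hK ξ
    · obtain ⟨d, hd⟩ := charOne_eq_natCast (irr_isCharacter ξ.2)
      rw [hd, Complex.conj_natCast]

/-- A dihedral Sylow 2-subgroup of order `2N`, parametrized. -/
structure DihSyl (P : Sylow 2 G) {N : ℕ} (ι : DihedralGroup N →* G) : Prop where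
  four : 4 ∣ N
  pow : ∃ k, N = 2 ^ k
  inj : Function.Injective ι
  range : ι.range = (P : Subgroup G)

variable {P : Sylow 2 G} {N : ℕ} [NeZero N] {ι : DihedralGroup N →* G}

/-- The central involution. -/
abbrev dihJ (ι : DihedralGroup N →* G) : G := ι (r ((N / 2 : ℕ) : ZMod N))

theorem DihSyl.two_dvd (h : DihSyl P ι) : 2 ∣ N := (dvd_mul_right 2 2).trans h.four

theorem DihSyl.half_add (h : DihSyl P ι) :
    ((N / 2 : ℕ) : ZMod N) + ((N / 2 : ℕ) : ZMod N) = 0 := by
  rw [← Nat.cast_add, ← two_mul, Nat.mul_div_cancel' h.two_dvd, ZMod.natCast_self]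

theorem DihSyl.half_ne (h : DihSyl P ι) : ((N / 2 : ℕ) : ZMod N) ≠ 0 := half_ne_zero h.two_dvd

theorem DihSyl.mem (h : DihSyl P ι) (d : DihedralGroup N) : ι d ∈ (P : Subgroup G) :=
  h.range ▸ ⟨d, rfl⟩

theorem DihSyl.map_eq_one (h : DihSyl P ι) {d : DihedralGroup N} (hd : ι d = 1) : d = 1 :=
  h.inj (hd.trans (map_one ι).symm)

theorem DihSyl.rot_eq_one (h : DihSyl P ι) {i : ZMod N} (hi : ι (r i) = 1) : i = 0 := by
  have := h.map_eq_one hi
  rwa [DihedralGroup.one_def, r.injEq] at this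

theorem DihSyl.ppower (h : DihSyl P ι) (d : DihedralGroup N) : ∃ k : ℕ, orderOf (ι d) = 2 ^ k := by
  obtain ⟨k, hk⟩ := IsPGroup.iff_orderOf.mp P.isPGroup' ⟨ι d, h.mem d⟩
  exact ⟨k, by rwa [Subgroup.orderOf_mk] at hk⟩

theorem DihSyl.exists_conj (h : DihSyl P ι) {x : G} (hx : ∃ k : ℕ, orderOf x = 2 ^ k) :
    ∃ d, IsConj x (ι d) := by
  haveI : Fact (Nat.Prime 2) := ⟨Nat.prime_two⟩
  obtain ⟨k, hk⟩ := hx
  obtain ⟨c, -, hc⟩ := (sylIn_top P).conj_le
    (IsPGroup.of_card (p := 2) (n := k) (by rw [Nat.card_zpowers, hk]) :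
      IsPGroup 2 (Subgroup.zpowers x)) le_top
  obtain ⟨d, hd⟩ := h.range ▸ hc (Fusion.conj_mem_cj (Subgroup.mem_zpowers x))
  exact ⟨d, isConj_iff.2 ⟨c, hd.symm⟩⟩

theorem DihSyl.card_sylow (h : DihSyl P ι) : Nat.card (P : Subgroup G) = 2 * N := by
  rw [← h.range, ← Nat.card_congr (MonoidHom.ofInjective h.inj).toEquiv, DihedralGroup.nat_card]

/-- The image of the rotations. -/
abbrev dihA (ι : DihedralGroup N →* G) : Subgroup G := (rotations N).map ι

theorem DihSyl.rot_mem (i : ZMod N) : ι (r i) ∈ dihA ι :=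
  Subgroup.mem_map_of_mem ι (show r i ∈ rotations N from ⟨i, rfl⟩)

theorem mem_dihA {x : G} : x ∈ dihA ι ↔ ∃ i, ι (r i) = x := by
  constructor
  · rintro ⟨d, ⟨i, rfl⟩, rfl⟩; exact ⟨i, rfl⟩
  · rintro ⟨i, rfl⟩; exact DihSyl.rot_mem i

theorem DihSyl.card_dihA (h : DihSyl P ι) : Nat.card (dihA ι) = N := by
  rw [Subgroup.card_map_of_injective h.inj]
  have e : ZMod N ≃ rotations N :=
    Equiv.ofBijective (fun i => ⟨r i, i, rfl⟩)
      ⟨fun a b hab => by
        have := congrArg Subtype.val hab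
        exact r.inj this,
       fun ⟨x, i, hi⟩ => ⟨i, Subtype.ext hi.symm⟩⟩
  rw [← Nat.card_congr e, Nat.card_zmod]

theorem DihSyl.dihA_isPGroup (h : DihSyl P ι) : IsPGroup 2 (dihA ι) :=
  P.isPGroup'.to_le fun x hx => by obtain ⟨i, rfl⟩ := mem_dihA.1 hx; exact h.mem _

theorem rot_pow_val (i : ZMod N) : ι (r i) = ι (r 1) ^ i.val := by
  rw [← map_pow, r_one_pow, ZMod.natCast_rightInverse i]

theorem dihA_le_zpowers : dihA ι ≤ Subgroup.zpowers (ι (r 1)) := fun x hx => by
  obtain ⟨i, rfl⟩ := mem_dihA.1 hx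
  exact Subgroup.mem_zpowers_iff.2 ⟨(i.val : ℤ), by rw [zpow_natCast, ← rot_pow_val]⟩

theorem commute_rot {d : DihedralGroup N} {j : ZMod N} (hj : j + j ≠ 0)
    (hd : d * r j = r j * d) : ∃ a, d = r a := by
  cases d with
  | r a => exact ⟨a, rfl⟩
  | sr a =>
    rw [sr_mul_r, r_mul_sr] at hd
    exact absurd (by linear_combination sr.inj hd) hj

/-- The centralizer of a rotation of order at least four has cyclic Sylow 2-subgroups. -/
theorem DihSyl.sylIn_rot (h : DihSyl P ι) {i : ZMod N} (hi : i + i ≠ 0) :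
    SylIn 2 (dihA ι) (Subgroup.centralizer ({ι (r i)} : Set G)) := by
  haveI : Fact (Nat.Prime 2) := ⟨Nat.prime_two⟩
  set C := Subgroup.centralizer ({ι (r i)} : Set G)
  have hle : dihA ι ≤ C := fun x hx => by
    obtain ⟨a, rfl⟩ := mem_dihA.1 hx
    exact Subgroup.mem_centralizer_singleton_iff.2
      (by rw [← map_mul, ← map_mul, r_mul_r, r_mul_r, add_comm])
  obtain ⟨T, hT, hAT⟩ := Fusion.exists_sylIn_ge h.dihA_isPGroup hle
  obtain ⟨c, -, hc⟩ := (sylIn_top P).conj_le hT.isPGroup le_top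
  obtain ⟨d, hd⟩ := h.range ▸ hc (Fusion.conj_mem_cj (hAT (DihSyl.rot_mem i)))
  have hsub : Fusion.cj T c ≤ dihA ι := by
    intro w hw
    obtain ⟨e, he⟩ := h.range ▸ hc hw
    obtain ⟨t, ht, rfl⟩ := hw
    have he' : ι e = c * t * c⁻¹ := by simpa using he
    have hcomm : e * d = d * e := by
      refine h.inj ?_
      rw [map_mul, map_mul, he', hd]
      have := Subgroup.mem_centralizer_singleton_iff.1 (hT.le ht)
      calc c * t * c⁻¹ * (c * ι (r i) * c⁻¹) = c * (t * ι (r i)) * c⁻¹ := by group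
        _ = c * (ι (r i) * t) * c⁻¹ := by rw [this]
        _ = _ := by group
    have hdd : d * d ≠ 1 := by
      intro hd1
      refine hi (h.rot_eq_one ?_)
      have : ι d * ι d = 1 := by rw [← map_mul, hd1, map_one]
      rw [hd, show c * ι (r i) * c⁻¹ * (c * ι (r i) * c⁻¹) = c * (ι (r i) * ι (r i)) * c⁻¹ by group,
        conj_eq_one_iff, ← map_mul, r_mul_r] at this
      exact this
    cases d with
    | sr a => exact absurd (sr_mul_self a) hdd
    | r j =>
      obtain ⟨a, ha⟩ := commute_rot (fun hj => hdd (by rw [r_mul_r, hj, DihedralGroup.one_def])) hcomm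
      exact mem_dihA.2 ⟨a, by rw [← ha, he']; simp⟩
  have hTA : T = dihA ι := (Subgroup.eq_of_le_of_card_ge hAT
    (by rw [← Fusion.card_cj T c]; exact Subgroup.card_le_of_le hsub)).symm
  exact hTA ▸ hT

theorem factorization_of_sylIn {T C : Subgroup G} (hT : SylIn 2 T C) :
    2 ^ (Nat.card C).factorization 2 = Nat.card T := by
  haveI : Fact (Nat.Prime 2) := ⟨Nat.prime_two⟩
  obtain ⟨Q, hQ⟩ := hT.exists_sylow_subgroupOf
  have e1 : Nat.card (Q : Subgroup C) = Nat.card T := by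
    rw [hQ]; exact Nat.card_congr (Subgroup.subgroupOfEquivOfLe hT.le).toEquiv
  rw [← e1, Q.card_eq_multiplicity]

theorem DihSyl.cent_rot (h : DihSyl P ι) {i : ZMod N} (hi : i + i ≠ 0) :
    HasNormalPComplement 2 (Subgroup.centralizer ({ι (r i)} : Set G)) ∧
    2 ^ (Nat.card (Subgroup.centralizer ({ι (r i)} : Set G))).factorization 2 = N := by
  haveI : Fact (Nat.Prime 2) := ⟨Nat.prime_two⟩
  have hS := h.sylIn_rot hi
  refine ⟨?_, (factorization_of_sylIn hS).trans h.card_dihA⟩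
  obtain ⟨Q, hQ⟩ := hS.exists_sylow_subgroupOf
  refine Fusion.DihedralFours.hnpc_two_cyclic Q ?_
  haveI : IsCyclic (dihA ι) := isCyclic_of_injective (Subgroup.inclusion dihA_le_zpowers)
    (Subgroup.inclusion_injective _)
  rw [hQ]
  exact (Subgroup.subgroupOfEquivOfLe hS.le).isCyclic.2 inferInstance

theorem DihSyl.cent_J (h : DihSyl P ι) :
    HasNormalPComplement 2 (Subgroup.centralizer ({dihJ ι} : Set G)) ∧
    2 ^ (Nat.card (Subgroup.centralizer ({dihJ ι} : Set G))).factorization 2 = 2 * N := by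
  haveI : Fact (Nat.Prime 2) := ⟨Nat.prime_two⟩
  set C := Subgroup.centralizer ({dihJ ι} : Set G) with hC
  have hιC : ∀ d, ι d ∈ C := fun d => Subgroup.mem_centralizer_singleton_iff.2 (by
    rw [← map_mul, ← map_mul, center_r_half h.two_dvd])
  have hSC : (P : Subgroup G) ≤ C := h.range ▸ (by rintro _ ⟨d, rfl⟩; exact hιC d)
  refine ⟨?_, (factorization_of_sylIn ((sylIn_top P).mono hSC le_top)).trans h.card_sylow⟩
  set ι' : DihedralGroup N →* C := ι.codRestrict C hιC with hι'
  have hrange' : ι'.range = ((P.subtype hSC : Sylow 2 C) : Subgroup C) := by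
    rw [Sylow.coe_subtype, hι']
    ext c
    rw [Subgroup.mem_subgroupOf, ← h.range]
    exact ⟨fun ⟨d, hd⟩ => ⟨d, congrArg Subtype.val hd⟩, fun ⟨d, hd⟩ => ⟨d, Subtype.ext hd⟩⟩
  refine dihedral_hnpc_of_no_fusion (P.subtype hSC) h.four ι'
    (fun a b e => h.inj (congrArg Subtype.val e)) hrange' (fun i g e => ?_)
  have e1 : (g : G) * ι (sr i) * (g : G)⁻¹ = dihJ ι := congrArg Subtype.val e
  have e2 : ι (sr i) = dihJ ι := by
    calc ι (sr i) = (g : G)⁻¹ * ((g : G) * ι (sr i) * (g : G)⁻¹) * g := by group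
      _ = (g : G)⁻¹ * (dihJ ι * g) := by rw [e1, mul_assoc]
      _ = dihJ ι := by
        rw [← Subgroup.mem_centralizer_singleton_iff.1 g.2, inv_mul_cancel_left]
  cases h.inj e2

theorem DihSyl.cent_refl (h : DihSyl P ι) {i : ZMod N} (hi : ¬ IsConj (ι (sr i)) (dihJ ι)) :
    HasNormalPComplement 2 (Subgroup.centralizer ({ι (sr i)} : Set G)) ∧
    2 ^ (Nat.card (Subgroup.centralizer ({ι (sr i)} : Set G))).factorization 2 = 4 := by
  haveI : Fact (Nat.Prime 2) := ⟨Nat.prime_two⟩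
  set C := Subgroup.centralizer ({ι (sr i)} : Set G) with hC
  have hU := four_map_klein h.two_dvd ι h.inj i
  have hUC : (Fusion.DihedralFours.four N i).map ι ≤ C := by
    rintro _ ⟨d, hd, rfl⟩
    exact Subgroup.mem_centralizer_singleton_iff.2
      (by rw [← map_mul, ← map_mul, Subgroup.mem_centralizer_singleton_iff.1 hd])
  obtain ⟨T, hT, hUT⟩ := Fusion.exists_sylIn_ge
    (IsPGroup.of_card (p := 2) (n := 2) hU.card_four) hUC
  have hsm : ι (sr i) ∈ (Fusion.DihedralFours.four N i).map ι :=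
    Subgroup.mem_map_of_mem ι (Subgroup.mem_centralizer_singleton_iff.2 rfl)
  obtain ⟨c, -, hc⟩ := (sylIn_top P).conj_le hT.isPGroup le_top
  obtain ⟨d, hd⟩ := h.range ▸ hc (Fusion.conj_mem_cj (hUT hsm))
  have hd2 : orderOf d = 2 := by
    rw [← orderOf_injective ι h.inj, hd,
      show c * ι (sr i) * c⁻¹ = (MulAut.conj c).toMonoidHom (ι (sr i)) by simp,
      orderOf_injective _ (MulAut.conj c).injective, orderOf_injective ι h.inj, orderOf_sr]
  rcases involution_cases' hd2 with e | ⟨j, e⟩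
  · exact absurd (isConj_iff.2 ⟨c, by rw [← hd, e]⟩) hi
  subst e
  have hsub : Fusion.cj T c ≤ (Fusion.DihedralFours.four N j).map ι := by
    intro w hw
    obtain ⟨e, he⟩ := h.range ▸ hc hw
    obtain ⟨t, ht, rfl⟩ := hw
    have he' : ι e = c * t * c⁻¹ := by simpa using he
    refine ⟨e, Subgroup.mem_centralizer_singleton_iff.2 (h.inj ?_), he⟩
    rw [map_mul, map_mul, he', hd]
    have := Subgroup.mem_centralizer_singleton_iff.1 (hT.le ht)
    calc c * t * c⁻¹ * (c * ι (sr i) * c⁻¹) = c * (t * ι (sr i)) * c⁻¹ := by group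
      _ = c * (ι (sr i) * t) * c⁻¹ := by rw [this]
      _ = _ := by group
  have hTU : T = (Fusion.DihedralFours.four N i).map ι := (Subgroup.eq_of_le_of_card_ge hUT (by
    rw [hU.card_four, ← (four_map_klein h.two_dvd ι h.inj j).card_four, ← Fusion.card_cj T c]
    exact Subgroup.card_le_of_le hsub)).symm
  subst hTU
  refine ⟨?_, (factorization_of_sylIn hT).trans hU.card_four⟩
  obtain ⟨Q, hQ⟩ := hT.exists_sylow_subgroupOf
  have hQ4 : Nat.card Q = 4 := by
    show Nat.card (Q : Subgroup C) = 4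
    rw [hQ, ← hU.card_four]; exact Nat.card_congr (Subgroup.subgroupOfEquivOfLe hT.le).toEquiv
  have hexp : ∀ w : Q, w * w = 1 := fun w => by
    have hm : ((w : C) : G) ∈ (Fusion.DihedralFours.four N i).map ι :=
      Subgroup.mem_subgroupOf.1 (hQ ▸ w.2 : (w : C) ∈ ((Fusion.DihedralFours.four N i).map ι).subgroupOf C)
    exact Subtype.ext (Subtype.ext (congrArg Subtype.val
      (IsKleinFour.mul_self (G := (Fusion.DihedralFours.four N i).map ι) ⟨_, hm⟩) :))
  haveI := Fintype.ofFinite C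
  let s : C := ⟨ι (sr i), hUC hsm⟩
  have hsQ : s ∈ (Q : Subgroup C) := by rw [hQ]; exact Subgroup.mem_subgroupOf.2 hsm
  have hs1 : s ≠ 1 := fun e => by cases h.map_eq_one (congrArg Subtype.val e)
  have htop : Subgroup.centralizer ({s} : Set C) = ⊤ := eq_top_iff.2 fun g _ =>
    Subgroup.mem_centralizer_singleton_iff.2 (Subtype.ext (Subgroup.mem_centralizer_singleton_iff.1 g.2))
  exact Fusion.hnpc_of_equiv ((MulEquiv.subgroupCongr htop).trans Subgroup.topEquiv)
    (hnpc_centralizer_of_four Q hQ4 hexp hsQ hs1)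

/-- Fusion among rotations. -/
theorem DihSyl.conj_rot (h : DihSyl P ι) {i j : ZMod N} (hc : IsConj (ι (r i)) (ι (r j))) :
    j = i ∨ j = -i := by
  classical
  haveI : Fact (Nat.Prime 2) := ⟨Nat.prime_two⟩
  obtain ⟨g, hg⟩ := isConj_iff.1 hc
  by_cases hi : i + i = 0
  · have hj : j + j = 0 := by
      refine h.rot_eq_one ?_
      rw [← r_mul_r, map_mul, ← hg,
        show g * ι (r i) * g⁻¹ * (g * ι (r i) * g⁻¹) = g * (ι (r i) * ι (r i)) * g⁻¹ by group,
        ← map_mul, r_mul_r, hi, ← DihedralGroup.one_def, map_one, mul_one, mul_inv_cancel]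
    rcases Fusion.zmod_double_eq_zero hi with e | e <;>
      rcases Fusion.zmod_double_eq_zero hj with e' | e'
    · exact Or.inl (e'.trans e.symm)
    · exfalso
      rw [e, ← DihedralGroup.one_def, map_one, mul_one, mul_inv_cancel] at hg
      exact h.half_ne (e' ▸ h.rot_eq_one hg.symm)
    · exfalso
      rw [e', ← DihedralGroup.one_def, map_one, conj_eq_one_iff] at hg
      exact h.half_ne (e ▸ h.rot_eq_one hg)
    · exact Or.inl (e'.trans e.symm)
  have hj : j + j ≠ 0 := by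
    intro hj
    refine hi (h.rot_eq_one ?_)
    have : ι (r j) * ι (r j) = 1 := by
      rw [← map_mul, r_mul_r, hj, ← DihedralGroup.one_def, map_one]
    rw [← hg, show g * ι (r i) * g⁻¹ * (g * ι (r i) * g⁻¹) = g * (ι (r i) * ι (r i)) * g⁻¹ by group,
      conj_eq_one_iff, ← map_mul, r_mul_r] at this
    exact this
  have hAg : Fusion.cj (dihA ι) g ≤ Subgroup.centralizer ({ι (r j)} : Set G) := by
    rintro _ ⟨a, ha, rfl⟩
    obtain ⟨k, rfl⟩ := mem_dihA.1 ha
    refine Subgroup.mem_centralizer_singleton_iff.2 ?_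
    show g * ι (r k) * g⁻¹ * ι (r j) = ι (r j) * (g * ι (r k) * g⁻¹)
    rw [← hg]
    calc g * ι (r k) * g⁻¹ * (g * ι (r i) * g⁻¹) = g * (ι (r k) * ι (r i)) * g⁻¹ := by group
      _ = g * (ι (r i) * ι (r k)) * g⁻¹ := by
          rw [← map_mul, ← map_mul, r_mul_r, r_mul_r, add_comm]
      _ = _ := by group
  obtain ⟨c, hcC, hcA⟩ := (h.sylIn_rot hj).conj_le (Fusion.isPGroup_cj h.dihA_isPGroup g) hAg
  rw [Fusion.cj_cj] at hcA
  have hg' : c * g * ι (r i) * (c * g)⁻¹ = ι (r j) := by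
    rw [show c * g * ι (r i) * (c * g)⁻¹ = c * (g * ι (r i) * g⁻¹) * c⁻¹ by group, hg,
      Subgroup.mem_centralizer_singleton_iff.1 hcC, mul_inv_cancel_right]
  set Nn := Subgroup.normalizer (dihA ι : Set G) with hNn
  have hmem : c * g ∈ Nn := Fusion.mem_normalizer_of_cj_le hcA
  have hex : ∀ n : Nn, ∃ a : ZMod N, (n : G) * ι (r 1) * (n : G)⁻¹ = ι (r a) := fun n => by
    obtain ⟨a, ha⟩ := mem_dihA.1 ((Subgroup.mem_normalizer_iff.1 n.2 _).1 (DihSyl.rot_mem (ι := ι) 1))
    exact ⟨a, ha.symm⟩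
  choose a ha using hex
  have hact : ∀ (n : Nn) (k : ZMod N), (n : G) * ι (r k) * (n : G)⁻¹ = ι (r (a n * k)) := by
    intro n k
    rw [rot_pow_val k, ← conj_pow, ha, ← map_pow, r_pow, ZMod.natCast_rightInverse k]
  let f : Nn →* ZMod N :=
    { toFun := a
      map_one' := by
        have := ha 1
        simp only [OneMemClass.coe_one, one_mul, inv_one, mul_one] at this
        exact (r.inj (h.inj this)).symm
      map_mul' := fun m n => by
        have := ha (m * n)
        rw [Subgroup.coe_mul, show (m : G) * n * ι (r 1) * ((m : G) * n)⁻¹ =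
          m * ((n : G) * ι (r 1) * (n : G)⁻¹) * (m : G)⁻¹ by group, ha n, hact m] at this
        exact (r.inj (h.inj this)).symm }
  let φ : Nn →* (ZMod N)ˣ := f.toHomUnits
  let S : Subgroup (ZMod N)ˣ := Subgroup.zpowers (-1)
  let B : Subgroup Nn := S.comap φ
  have hPN : (P : Subgroup G) ≤ Nn := by
    rw [← h.range]
    rintro _ ⟨d, rfl⟩
    refine Fusion.mem_normalizer_of_cj_le ?_
    rintro _ ⟨w, hw, rfl⟩
    obtain ⟨k, rfl⟩ := mem_dihA.1 hw
    show ι d * ι (r k) * (ι d)⁻¹ ∈ dihA ι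
    rw [← map_inv, ← map_mul, ← map_mul]
    cases d with
    | r b => rw [inv_r, r_mul_r, r_mul_r]; exact DihSyl.rot_mem _
    | sr b => rw [inv_sr, sr_mul_r, sr_mul_sr]; exact DihSyl.rot_mem _
  have hPB : (P : Subgroup G).subgroupOf Nn ≤ B := by
    intro p hp
    rw [Subgroup.mem_subgroupOf, ← h.range] at hp
    obtain ⟨d, hd⟩ := hp
    have hv : a p = 1 ∨ a p = -1 := by
      have := ha p
      rw [← hd, ← map_inv, ← map_mul, ← map_mul] at this
      cases d with
      | r b =>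
        left
        rw [inv_r, r_mul_r, r_mul_r, add_neg_cancel_comm] at this
        exact (r.inj (h.inj this)).symm
      | sr b =>
        right
        rw [inv_sr, sr_mul_r, sr_mul_sr, sub_add_cancel_left] at this
        exact (r.inj (h.inj this)).symm
    show φ p ∈ S
    rcases hv with e | e
    · rw [show φ p = 1 from Units.ext (by rw [Units.val_one]; exact e)]
      exact one_mem _
    · rw [show φ p = -1 from Units.ext (by rw [Units.val_neg, Units.val_one]; exact e)]
      exact Subgroup.mem_zpowers _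
  have hB : B = ⊤ := by
    rw [← Subgroup.index_eq_one]
    have h1 : B.index ∣ Nat.card (ZMod N)ˣ := by
      refine (Subgroup.index_dvd_of_le (show φ.ker ≤ B from fun x hx => ?_)).trans ?_
      · show φ x ∈ S
        rw [MonoidHom.mem_ker.1 hx]
        exact one_mem _
      · rw [Subgroup.index_ker]; exact Subgroup.card_subgroup_dvd_card _
    have h2 : B.index ∣ ((P : Subgroup G).subgroupOf Nn).index := Subgroup.index_dvd_of_le hPB
    have h3 : ¬ 2 ∣ ((P : Subgroup G).subgroupOf Nn).index :=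
      ((sylIn_top P).mono hPN le_top).not_dvd
    obtain ⟨k, hk⟩ := h.pow
    obtain ⟨k', rfl⟩ : ∃ k', k = k' + 1 := ⟨k - 1, by
      rcases k with _ | k
      · have := h.four; rw [hk] at this; norm_num at this
      · omega⟩
    rw [Nat.card_eq_fintype_card, ZMod.card_units_eq_totient, hk,
      Nat.totient_prime_pow_succ Nat.prime_two, show (2 - 1 : ℕ) = 1 from rfl, mul_one] at h1
    obtain ⟨b, -, hb⟩ := (Nat.dvd_prime_pow Nat.prime_two).1 h1
    rcases b with _ | b
    · rw [hb, pow_zero]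
    · exact absurd ((dvd_pow_self 2 (Nat.succ_ne_zero b)).trans (hb ▸ h2)) h3
  have hgB : φ ⟨c * g, hmem⟩ ∈ S := by
    have : (⟨c * g, hmem⟩ : Nn) ∈ B := hB ▸ Subgroup.mem_top _
    exact this
  obtain ⟨z, hz⟩ := hgB
  have hj' : j = a ⟨c * g, hmem⟩ * i := r.inj (h.inj (hg'.symm.trans (hact ⟨c * g, hmem⟩ i)))
  have hz' : ((-1 : (ZMod N)ˣ) ^ z : (ZMod N)ˣ).val = a ⟨c * g, hmem⟩ := congrArg Units.val hz
  rcases Int.even_or_odd z with he | he
  · left
    rw [he.neg_one_zpow, Units.val_one] at hz'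
    rw [hj', ← hz', one_mul]
  · right
    rw [he.neg_one_zpow, Units.val_neg, Units.val_one] at hz'
    rw [hj', ← hz', neg_one_mul]

theorem DihSyl.conj_neg (i : ZMod N) : IsConj (ι (r i)) (ι (r (-i))) := by
  refine isConj_iff.2 ⟨ι (sr 0), ?_⟩
  rw [← map_inv, ← map_mul, ← map_mul, inv_sr, sr_mul_r, sr_mul_sr, zero_add, zero_sub]

theorem DihSyl.two_cases (h : DihSyl P ι) {x : G} (hx : ∃ k : ℕ, orderOf x = 2 ^ k) (hx1 : x ≠ 1) :
    (∃ i : ZMod N, i ≠ 0 ∧ IsConj x (ι (r i))) ∨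
      ∃ i : ZMod N, ¬ IsConj (ι (sr i)) (dihJ ι) ∧ IsConj x (ι (sr i)) := by
  obtain ⟨d, hd⟩ := h.exists_conj hx
  cases d with
  | r i =>
    refine Or.inl ⟨i, fun e => hx1 ?_, hd⟩
    rw [e, ← DihedralGroup.one_def, map_one, isConj_one_left] at hd
    exact hd
  | sr i =>
    by_cases hJ : IsConj (ι (sr i)) (dihJ ι)
    · exact Or.inl ⟨_, h.half_ne, hd.trans hJ⟩
    · exact Or.inr ⟨i, hJ, hd⟩

end Cfsg.Agent.Char
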