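import Cfsg.Agent.Lib.Char.Zeros
import Mathlib.RepresentationTheory.Invariants

/-!
# Values of characters vanishing off the elements of odd part

If a character vanishes at the nontrivial products of `g` with a commuting subgroup `T`, its value at `g` is
divisible by the order of `T`; if moreover the powers of `g` are conjugate to `g` or `g⁻¹`, its squared
absolute value is a rational integer congruent to the square of the degree modulo the order of `g`.
-/

set_option autoImplicit false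
set_option linter.style.haveILetI false

namespace Cfsg.Agent.Char

open Cfsg Module
open scoped ComplexConjugate

variable {G : Type*} [Group G] [Finite G]

/-- the value is divisible by the order of the commuting subgroup -/
theorem isIntegral_value_div {χ : G → ℂ} (hχ : IsCharacter G χ) {g : G} (T : Subgroup G)
    (hT : ∀ t ∈ T, t * g = g * t) (hvan : ∀ t ∈ T, t ≠ 1 → χ t = 0 ∧ χ (g * t) = 0) :
    IsIntegral ℤ (χ g / (Nat.card T : ℂ)) := by
  classical
  obtain ⟨n, ρ, rfl⟩ := hχ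
  haveI := Fintype.ofFinite T
  haveI : Invertible (Nat.card T : ℂ) := invertibleOfNonzero (Nat.cast_ne_zero.2 Nat.card_pos.ne')
  haveI : Invertible (Fintype.card T : ℂ) := invertibleOfNonzero (Nat.cast_ne_zero.2 Fintype.card_ne_zero)
  set τ : Representation ℂ T (Fin n → ℂ) := ρ.comp T.subtype with hτ
  set e : Module.End ℂ (Fin n → ℂ) := τ.averageMap with he
  have hproj := Representation.isProj_averageMap τ
  have hee : e * e = e := LinearMap.ext fun v => hproj.map_id _ (hproj.map_mem v)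
  have hee' : e = (Nat.card T : ℂ)⁻¹ • ∑ t : T, ρ (t : G) := by
    simp [he, hτ, Representation.averageMap, GroupAlgebra.average, map_sum,
      Representation.asAlgebraHom_single, invOf_eq_inv]
  have hcomm : Commute (ρ g) e := by
    rw [hee']
    refine Commute.smul_right (Commute.sum_right _ _ _ fun t _ => ?_) _
    show ρ g * ρ t = ρ t * ρ g
    rw [← map_mul, ← map_mul, hT t t.2]
  have hg : ρ g ^ orderOf g = 1 := by rw [← map_pow, pow_orderOf_eq_one, map_one]
  set B : Module.End ℂ (Fin n → ℂ) := ρ g * e + (1 - e) with hB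
  have hpow : ∀ m : ℕ, B ^ m = ρ g ^ m * e + (1 - e) := by
    intro m
    induction m with
    | zero => simp
    | succ m ih =>
      rw [pow_succ, ih, hB, pow_succ]
      have h1 : ρ g ^ m * e * (ρ g * e) = ρ g ^ m * ρ g * e := by
        rw [mul_assoc, ← mul_assoc e, ← hcomm.eq, mul_assoc (ρ g), hee, ← mul_assoc]
      have h2 : ρ g ^ m * e * (1 - e) = 0 := by
        rw [mul_assoc, mul_sub, mul_one, hee, sub_self, mul_zero]
      have h3 : (1 - e) * (ρ g * e) = 0 := by
        rw [sub_mul, one_mul, ← mul_assoc, ← hcomm.eq, mul_assoc, hee, sub_self]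
      have h4 : (1 - e) * (1 - e) = 1 - e := by
        rw [sub_mul, one_mul, mul_sub, mul_one, hee, sub_self, sub_zero]
      rw [add_mul, mul_add, mul_add, h1, h2, h3, h4, add_zero, zero_add]
  have hB1 : B ^ orderOf g = 1 := by rw [hpow, hg, one_mul]; abel
  obtain ⟨b, μ, hμ, hb⟩ := exists_eigenbasis_of_pow_eq_one B _ (orderOf_pos g).ne' hB1
  have htrB : IsIntegral ℤ (LinearMap.trace ℂ _ B) := by
    rw [trace_of_eigenbasis b B μ hb]
    exact IsIntegral.sum _ fun i _ =>
      IsIntegral.of_pow (orderOf_pos g) (by rw [hμ i]; exact isIntegral_one)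
  have htre : ∃ m : ℕ, LinearMap.trace ℂ _ e = (m : ℂ) := ⟨_, hproj.trace⟩
  obtain ⟨m, hm⟩ := htre
  have htrge : LinearMap.trace ℂ _ (ρ g * e) = ρ.character g / (Nat.card T : ℂ) := by
    rw [hee', mul_smul_comm, map_smul, Finset.mul_sum, map_sum, smul_eq_mul, inv_mul_eq_div]
    congr 1
    rw [Finset.sum_eq_single (1 : T)]
    · rw [← map_mul, OneMemClass.coe_one, mul_one]; rfl
    · intro t _ ht
      rw [← map_mul]
      exact (hvan t t.2 fun h => ht (Subtype.ext h)).2
    · simp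
  have e1 : ρ.character g / (Nat.card T : ℂ) = LinearMap.trace ℂ _ B - ((n : ℂ) - (m : ℂ)) := by
    rw [hB, map_add, map_sub, htrge, hm, LinearMap.trace_one, Module.finrank_fintype_fun_eq_card,
      Fintype.card_fin]
    ring
  rw [e1]
  exact htrB.sub ((isIntegral_algebraMap (R := ℤ) (x := (n : ℤ))).sub (isIntegral_algebraMap (R := ℤ) (x := (m : ℤ))))

/-- the squared absolute value is an integer with a congruence -/
theorem normSq_value {χ : G → ℂ} (hχ : IsCharacter G χ) {g : G} {p : ℕ} (hp : p.Prime)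
    (hg : orderOf g = p) (hgal : ∀ k : ℕ, ¬ p ∣ k → IsConj g (g ^ k) ∨ IsConj g⁻¹ (g ^ k))
    (T : Subgroup G) (hT : ∀ t ∈ T, t * g = g * t)
    (hvan : ∀ t ∈ T, t ≠ 1 → χ t = 0 ∧ χ (g * t) = 0) :
    ∃ N : ℕ, ‖χ g‖ ^ 2 = ((Nat.card T : ℝ)) ^ 2 * N ∧
      (deg χ) ^ 2 % p = (Nat.card T) ^ 2 * N % p := by
  classical
  haveI := Fintype.ofFinite G
  have hcls := isClassFunction_character hχ
  set q := Nat.card T with hq
  have hq0 : (q : ℂ) ≠ 0 := Nat.cast_ne_zero.2 Nat.card_pos.ne'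
  set F : G → ℂ := fun x => χ x * χ x⁻¹ with hF
  have hFG : GalEquiv F := galEquiv_mul (galEquiv_char hχ) (galEquiv_inv (galEquiv_char hχ))
  have hFconst : ∀ k : ℕ, ¬ p ∣ k → F (g ^ k) = F g := by
    intro k hk
    rcases hgal k hk with h | h <;> obtain ⟨c, hc⟩ := isConj_iff.1 h
    · simp only [hF]
      rw [← hc, hcls, show (c * g * c⁻¹)⁻¹ = c * g⁻¹ * c⁻¹ by group, hcls]
    · simp only [hF]
      rw [← hc, hcls, show (c * g⁻¹ * c⁻¹)⁻¹ = c * g * c⁻¹ by group, hcls, mul_comm]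
  have hn : Nat.card G ≠ 0 := Nat.card_pos.ne'
  obtain ⟨hm, hφ⟩ := hFG g
  obtain ⟨r, hr⟩ := exists_rat_of_fixed hn hm fun φ => by
    obtain ⟨k, hk, hμ⟩ := exists_power_of_embedding hn φ
    rw [hφ φ k hk hμ]
    refine hFconst k fun hd => ?_
    have hpG : p ∣ Nat.card G := hg ▸ orderOf_dvd_natCard g
    exact hp.not_dvd_one (hk ▸ Nat.dvd_gcd hd hpG)
  have hint := isIntegral_value_div hχ T hT hvan
  have hint' : IsIntegral ℤ (χ g⁻¹ / (q : ℂ)) := by
    refine isIntegral_value_div hχ T (fun t ht => ?_) fun t ht ht1 => ⟨(hvan t ht ht1).1, ?_⟩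
    · exact ((show Commute t g from hT t ht).inv_right).eq
    · rw [show g⁻¹ * t = (t⁻¹ * g)⁻¹ by group, hT _ (inv_mem ht), char_inv hχ,
        (hvan _ (inv_mem ht) (inv_ne_one.2 ht1)).2, map_zero]
  have hrI : IsIntegral ℤ ((r / (q : ℚ) ^ 2 : ℚ) : ℂ) := by
    push_cast
    rw [← hr, hF]
    have h2 := hint.mul hint'
    rw [← hq, div_mul_div_comm, ← sq] at h2
    exact h2
  obtain ⟨z, hz⟩ := isIntegral_rat_cast_imp hrI
  have habs : (‖χ g‖ : ℝ) ^ 2 = (q : ℝ) ^ 2 * (z : ℝ) := by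
    apply Complex.ofReal_injective
    push_cast
    rw [← Complex.mul_conj', ← char_inv hχ]
    have h1 : ((r / (q : ℚ) ^ 2 : ℚ) : ℂ) = (z : ℂ) := by rw [← hz]; simp
    push_cast at h1
    rw [← h1, show χ g * χ g⁻¹ = F g from rfl, hr]
    field_simp
  have hz0 : 0 ≤ z := by
    have : (0 : ℝ) ≤ (q : ℝ) ^ 2 * (z : ℝ) := habs ▸ sq_nonneg _
    have hq' : (0 : ℝ) < (q : ℝ) ^ 2 := pow_pos (Nat.cast_pos.2 Nat.card_pos) 2
    exact_mod_cast (mul_nonneg_iff_of_pos_left hq').1 this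
  obtain ⟨N, rfl⟩ := Int.eq_ofNat_of_zero_le hz0
  refine ⟨N, by rw [habs]; norm_num, ?_⟩
  -- congruence
  haveI := Fintype.ofFinite (Subgroup.zpowers g)
  have hres := isCharacter_comp (Subgroup.zpowers g).subtype hχ
  obtain ⟨M, hM⟩ := classInner_natCast hres hres
  simp only [classInner, Function.comp_apply, Subgroup.coe_subtype, Nat.card_zpowers, hg] at hM
  rw [inv_mul_eq_iff_eq_mul₀ (Nat.cast_ne_zero.2 hp.ne_zero)] at hM
  have hsum : ∑ x : Subgroup.zpowers g, χ x * conj (χ x) =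
      (deg χ : ℂ) ^ 2 + ((p - 1 : ℕ) : ℂ) * ((q : ℂ) ^ 2 * N) := by
    rw [← Fintype.sum_equiv (finEquivZPowers (isOfFinOrder_of_finite g))
      (fun i : Fin (orderOf g) => χ (g ^ (i : ℕ)) * conj (χ (g ^ (i : ℕ)))) _ fun i => rfl,
      ← Finset.sum_range (fun i => χ (g ^ i) * conj (χ (g ^ i))), hg,
      Finset.range_eq_Ico, Finset.sum_eq_sum_Ico_succ_bot hp.pos, pow_zero, char_one_eq_deg hχ,
      map_natCast, ← sq]
    congr 1
    rw [Finset.sum_congr rfl (g := fun _ => (q : ℂ) ^ 2 * N), Finset.sum_const, Nat.card_Ico,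
      nsmul_eq_mul]
    intro i hi
    obtain ⟨h1, h2⟩ := Finset.mem_Ico.1 hi
    have hk : ¬ p ∣ i := fun hd => absurd (Nat.le_of_dvd (by omega) hd) (by omega)
    rw [← char_inv hχ, show χ (g ^ i) * χ (g ^ i)⁻¹ = F (g ^ i) from rfl, hFconst i hk]
    have h3 : F g = ((‖χ g‖ ^ 2 : ℝ) : ℂ) := by
      push_cast
      rw [← Complex.mul_conj', ← char_inv hχ]
    rw [h3, habs]
    push_cast
    rfl
  rw [hsum] at hM
  have hnat : deg χ ^ 2 + (p - 1) * (q ^ 2 * N) = p * M := by exact_mod_cast hM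
  obtain ⟨p', rfl⟩ : ∃ p', p = p' + 1 := ⟨p - 1, by have := hp.pos; omega⟩
  rw [Nat.add_sub_cancel] at hnat
  have h' : deg χ ^ 2 + (p' + 1) * (q ^ 2 * N) = (p' + 1) * M + q ^ 2 * N := by
    rw [← hnat]; ring
  calc deg χ ^ 2 % (p' + 1) = (deg χ ^ 2 + (p' + 1) * (q ^ 2 * N)) % (p' + 1) :=
        (Nat.add_mul_mod_self_left _ _ _).symm
    _ = _ := by rw [h', Nat.mul_add_mod_self_left]

end Cfsg.Agent.Char
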