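import Cfsg.Agent.Lib.Char.SpinDouble
import Cfsg.Prelude.Def_SporadicB

/-!
Involutions in double covers of alternating groups of small degree.
-/

set_option linter.style.haveILetI false

open Equiv Equiv.Perm
open scoped commutatorElement

namespace Cfsg.Agent.Char

universe u

variable {H : Type u} [Group H] [Finite H] {n : ℕ}

theorem complement_of_split (z : H) (hz : z ∈ Subgroup.center H) (hc : Nat.card (Subgroup.center H) = 2)
    (hz1 : z ≠ 1) (P D : Subgroup H) (hzP : z ∈ P) (hzD : z ∉ D) (h2 : D.relIndex P = 2)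
    (hodd : Odd P.index) : ∃ L : Subgroup H, (Subgroup.center H).IsComplement' L := by
  classical
  haveI : (D.subgroupOf P).Normal := Subgroup.normal_of_index_eq_two h2
  have hq : Nat.card (P ⧸ D.subgroupOf P) = 2 := by rw [← Subgroup.index_eq_card]; exact h2
  haveI : Fact (Nat.Prime 2) := ⟨Nat.prime_two⟩
  haveI : IsCyclic (P ⧸ D.subgroupOf P) := isCyclic_of_prime_card hq
  letI : CommGroup (P ⧸ D.subgroupOf P) := IsCyclic.commGroup
  haveI : P.FiniteIndex := inferInstance
  set φ : P →* P ⧸ D.subgroupOf P := QuotientGroup.mk' (D.subgroupOf P)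
  set τ := MonoidHom.transfer φ with hτ
  have hkey : ∀ (k : ℕ) (g₀ : H), g₀⁻¹ * z ^ k * g₀ ∈ P → g₀⁻¹ * z ^ k * g₀ = z ^ k := fun k g₀ _ => by
    rw [mul_assoc, ← Subgroup.mem_center_iff.1 ((Subgroup.center H).pow_mem hz k) g₀, inv_mul_cancel_left]
  have hφz : φ ⟨z, hzP⟩ ≠ 1 := fun h => hzD (Subgroup.mem_subgroupOf.1
    ((QuotientGroup.eq_one_iff _).1 h))
  have hτz : τ z = φ ⟨z, hzP⟩ := by
    rw [hτ, MonoidHom.transfer_eq_pow φ z hkey]
    obtain ⟨k, hk⟩ := hodd
    have hsq : φ ⟨z, hzP⟩ ^ 2 = 1 := by rw [← hq]; exact pow_card_eq_one'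
    rw [show (⟨z ^ P.index, MonoidHom.transfer_eq_pow_aux z hkey⟩ : P) = (⟨z, hzP⟩ : P) ^ P.index from
      Subtype.ext (by simp), map_pow, hk, pow_succ, pow_mul, hsq, one_pow, one_mul]
  refine ⟨τ.ker, Subgroup.isComplement'_of_card_mul_and_disjoint ?_ ?_⟩
  · have hr : Nat.card τ.range = 2 := by
      refine le_antisymm (hq ▸ Nat.card_le_card_of_injective _ Subtype.val_injective) ?_
      haveI : Nontrivial τ.range := ⟨⟨τ z, z, rfl⟩, 1, fun h => hφz (hτz ▸ congrArg Subtype.val h)⟩
      exact Finite.one_lt_card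
    rw [hc, mul_comm, ← τ.ker.card_mul_index, Subgroup.index_ker, hr]
  · rw [Subgroup.disjoint_def]
    intro x hx hx'
    by_contra hx1
    obtain ⟨a, b, -, hab⟩ := Nat.card_eq_two_iff.1 hc
    have hxa : (⟨x, hx⟩ : Subgroup.center H) = ⟨z, hz⟩ := by
      have hmem : ∀ y : Subgroup.center H, y = a ∨ y = b := fun y => by
        have hy : y ∈ ({a, b} : Set _) := hab ▸ Set.mem_univ y
        simpa using hy
      have e1 : (⟨x, hx⟩ : Subgroup.center H) ≠ 1 := fun h => hx1 (congrArg Subtype.val h)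
      have e2 : (⟨z, hz⟩ : Subgroup.center H) ≠ 1 := fun h => hz1 (congrArg Subtype.val h)
      rcases hmem ⟨x, hx⟩ with h | h <;> rcases hmem ⟨z, hz⟩ with h' | h' <;> rcases hmem 1 with h'' | h'' <;>
        simp_all
    rw [show x = z from congrArg Subtype.val hxa, MonoidHom.mem_ker, hτz] at hx'
    exact hφz hx'

theorem dihedral_section_split (π : H →* Perm (Fin n)) (hker : π.ker = Subgroup.center H)
    (hc : Nat.card (Subgroup.center H) = 2) (hr : π.range = alternatingGroup (Fin n))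
    (hinv : ∀ σ ∈ alternatingGroup (Fin n), orderOf σ = 2 → ∀ g, π g = σ → g * g = 1)
    (a b : Perm (Fin n)) (h : ℕ) (hh : 0 < h) (ha : a ∈ alternatingGroup (Fin n)) (hb : b ∈ alternatingGroup (Fin n))
    (hao : orderOf a = 2) (hbo : orderOf b = 2) (hro : orderOf ((a * b) ^ h) = 2)
    (hinj : ∀ i, i < 2 * h → ∀ j, j < 2 → (a * b) ^ i * a ^ j = 1 → i = 0 ∧ j = 0)
    (hcard : ∃ k, Odd k ∧ k * (4 * h) = Nat.card (alternatingGroup (Fin n))) :
    ∃ L : Subgroup H, (Subgroup.center H).IsComplement' L := by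
  classical
  obtain ⟨A, hA⟩ : a ∈ π.range := by rw [hr]; exact ha
  obtain ⟨B, hB⟩ : b ∈ π.range := by rw [hr]; exact hb
  have hA2 : A * A = 1 := hinv a ha hao A hA
  have hB2 : B * B = 1 := hinv b hb hbo B hB
  set R := A * B with hR
  have hπR : π R = a * b := by rw [hR, map_mul, hA, hB]
  have hRm : R ^ (2 * h) = 1 := by
    rw [mul_comm 2 h, pow_mul, sq]
    exact hinv _ (pow_mem (mul_mem ha hb) h) hro _ (by rw [map_pow, hπR])
  set f : Fin (2 * h) × Fin 2 → H := fun x => R ^ (x.1 : ℕ) * A ^ (x.2 : ℕ) with hf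
  have hred : ∀ (i : ℤ) (j : ℕ), ∃ x, f x = R ^ i * A ^ j := by
    intro i j
    have hm : (0 : ℤ) < ((2 * h : ℕ) : ℤ) := by omega
    have h1 : R ^ (i % ((2 * h : ℕ) : ℤ)) = R ^ i := by
      conv_rhs => rw [← Int.emod_add_mul_ediv i ((2 * h : ℕ) : ℤ)]
      rw [zpow_add, zpow_mul, zpow_natCast, hRm, one_zpow, mul_one]
    obtain ⟨k, hk⟩ := Int.eq_ofNat_of_zero_le (Int.emod_nonneg i hm.ne')
    have hk' : k < 2 * h := by have := Int.emod_lt_of_pos i hm; omega
    refine ⟨(⟨k, hk'⟩, ⟨j % 2, Nat.mod_lt _ two_pos⟩), ?_⟩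
    show R ^ k * A ^ (j % 2) = _
    rw [← h1, hk, zpow_natCast]
    congr 1
    conv_rhs => rw [← Nat.mod_add_div j 2, pow_add, pow_mul, sq, hA2, one_pow, mul_one]
  have hswap : ∀ i : ℤ, A * R ^ i = R ^ (-i) * A := by
    intro i
    have hAi : A⁻¹ = A := inv_eq_of_mul_eq_one_right hA2
    have h1 : A * R * A⁻¹ = R⁻¹ := by
      rw [hR, mul_inv_rev, inv_eq_of_mul_eq_one_right hB2, hAi]
      simp only [← mul_assoc, hA2, one_mul]
    calc A * R ^ i = (A * R * A⁻¹) ^ i * A := by rw [conj_zpow]; group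
      _ = R ^ (-i) * A := by rw [h1, inv_zpow, zpow_neg]
  let D : Subgroup H :=
    { carrier := Set.range f
      one_mem' := by obtain ⟨x, hx⟩ := hred 0 0; exact ⟨x, by simpa using hx⟩
      mul_mem' := by
        rintro - - ⟨⟨i, j⟩, rfl⟩ ⟨⟨k, l⟩, rfl⟩
        fin_cases j
        · obtain ⟨x, hx⟩ := hred ((i : ℕ) + (k : ℕ) : ℤ) l
          exact ⟨x, hx.trans (by simp [hf, zpow_add, mul_assoc])⟩
        · obtain ⟨x, hx⟩ := hred ((i : ℕ) + -((k : ℕ) : ℤ)) (1 + l)
          refine ⟨x, hx.trans ?_⟩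
          simp only [hf, zpow_add, zpow_natCast, pow_add, pow_one]
          have e := hswap ((k : ℕ) : ℤ)
          rw [zpow_natCast] at e
          calc _ = R ^ (i : ℕ) * (R ^ (-((k : ℕ) : ℤ)) * A) * A ^ (l : ℕ) := by simp only [mul_assoc]
            _ = R ^ (i : ℕ) * (A * R ^ (k : ℕ)) * A ^ (l : ℕ) := by rw [← e]
            _ = _ := by simp only [mul_assoc]
      inv_mem' := by
        rintro - ⟨⟨i, j⟩, rfl⟩
        fin_cases j
        · obtain ⟨x, hx⟩ := hred (-((i : ℕ) : ℤ)) 0
          exact ⟨x, hx.trans (by simp [hf])⟩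
        · obtain ⟨x, hx⟩ := hred ((i : ℕ) : ℤ) 1
          refine ⟨x, hx.trans ?_⟩
          simp only [hf, zpow_natCast, pow_one]
          rw [mul_inv_rev, inv_eq_of_mul_eq_one_right hA2, ← zpow_natCast, ← zpow_neg, hswap, neg_neg] }
  have hDinj : ∀ d ∈ D, π d = 1 → d = 1 := by
    rintro - ⟨⟨i, j⟩, rfl⟩ hd
    rw [map_mul, map_pow, map_pow, hπR, hA] at hd
    obtain ⟨e1, e2⟩ := hinj i i.2 j j.2 hd
    simp [hf, e1, e2]
  have hDcard : Nat.card D = 4 * h := by
    have hinjf : Function.Injective f := by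
      rintro ⟨i, j⟩ ⟨k, l⟩ he
      have e := congrArg π he
      simp only [hf, map_mul, map_pow, hπR, hA] at e
      have ha1 : a * a = 1 := by rw [← sq, ← hao, pow_orderOf_eq_one]
      have hab : (a * b) ^ (2 * h) = 1 := by
        rw [← hπR, ← map_pow, hRm, map_one]
      have hjl : j = l ∧ i = k := by
        fin_cases j <;> fin_cases l
        all_goals simp only [pow_zero, pow_one, mul_one, Fin.mk_zero, Fin.mk_one, Fin.val_zero, Fin.val_one] at e
        · refine ⟨rfl, Fin.ext ?_⟩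
          rcases le_total (i : ℕ) k with hik | hik
          · have := hinj (k - i) (by omega) 0 two_pos (by rw [pow_zero, mul_one, pow_sub _ hik, ← e, mul_inv_cancel])
            omega
          · have := hinj (i - k) (by omega) 0 two_pos (by rw [pow_zero, mul_one, pow_sub _ hik, e, mul_inv_cancel])
            omega
        · exfalso
          have hlt : ((2 * h - i + k) % (2 * h)) < 2 * h := Nat.mod_lt _ (by omega)
          have := hinj _ hlt 1 one_lt_two (by
            rw [pow_one, ← pow_eq_pow_mod _ hab, pow_add, mul_assoc, ← e, ← pow_add,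
              Nat.sub_add_cancel i.2.le, hab])
          exact one_ne_zero this.2
        · exfalso
          have hlt : ((2 * h - k + i) % (2 * h)) < 2 * h := Nat.mod_lt _ (by omega)
          have := hinj _ hlt 1 one_lt_two (by
            rw [pow_one, ← pow_eq_pow_mod _ hab, pow_add, mul_assoc, e, ← pow_add,
              Nat.sub_add_cancel k.2.le, hab])
          exact one_ne_zero this.2
        · refine ⟨rfl, Fin.ext ?_⟩
          have e := mul_right_cancel e
          rcases le_total (i : ℕ) k with hik | hik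
          · have := hinj (k - i) (by omega) 0 two_pos (by rw [pow_zero, mul_one, pow_sub _ hik, ← e, mul_inv_cancel])
            omega
          · have := hinj (i - k) (by omega) 0 two_pos (by rw [pow_zero, mul_one, pow_sub _ hik, e, mul_inv_cancel])
            omega
      exact Prod.ext hjl.2 hjl.1
    rw [show Nat.card D = Nat.card (Set.range f) from rfl, Nat.card_range_of_injective hinjf, Nat.card_prod,
      Nat.card_fin, Nat.card_fin]
    ring
  obtain ⟨zc, hzc1⟩ : ∃ x : Subgroup.center H, x ≠ 1 := by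
    haveI : Nontrivial (Subgroup.center H) := Finite.one_lt_card_iff_nontrivial.1 (by rw [hc]; norm_num)
    exact exists_ne 1
  have hdisj : Disjoint (Subgroup.center H) D := Subgroup.disjoint_def.2 fun {x} hx hxD =>
    hDinj x hxD (MonoidHom.mem_ker.1 (hker.symm ▸ hx))
  set P := (D.map π).comap π with hP
  have hPc : Nat.card P = 2 * (4 * h) := by
    have h1 : Nat.card (D.map π) = 4 * h := by
      rw [← hDcard]
      refine (Nat.card_congr (Equiv.ofBijective (fun d : D => (⟨π d, d, d.2, rfl⟩ : D.map π)) ⟨fun x y e => ?_, ?_⟩)).symm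
      · have he : π ((x : H)⁻¹ * y) = 1 := by
          have e' : π (x : H) = π y := congrArg Subtype.val e
          rw [map_mul, map_inv, e', inv_mul_cancel]
        exact Subtype.ext (inv_mul_eq_one.1 (hDinj _ (mul_mem (inv_mem x.2) y.2) he))
      · rintro ⟨-, d, hd, rfl⟩; exact ⟨⟨d, hd⟩, rfl⟩
    have hle : Subgroup.center H ≤ P := fun x hx =>
      ⟨1, one_mem _, by rw [map_one, MonoidHom.mem_ker.1 (hker.symm ▸ hx)]⟩
    have h2 := (π.comp P.subtype).ker.card_mul_index
    rw [Subgroup.index_ker, MonoidHom.range_comp, Subgroup.range_subtype,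
      show P.map π = D.map π from Subgroup.map_comap_eq_self (Subgroup.map_le_range π D), h1,
      show (π.comp P.subtype).ker = π.ker.subgroupOf P from rfl, hker,
      Nat.card_congr (Subgroup.subgroupOfEquivOfLe hle).toEquiv, hc] at h2
    exact h2.symm
  have hDP : D ≤ P := fun d hd => ⟨d, hd, rfl⟩
  refine complement_of_split (zc : H) zc.2 hc (fun h => hzc1 (Subtype.ext h)) P D ?_ ?_ ?_ ?_
  · refine ⟨1, one_mem _, ?_⟩
    rw [map_one]
    exact (MonoidHom.mem_ker.1 (hker.symm ▸ zc.2)).symm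
  · exact fun hzD => hzc1 (Subtype.ext (Subgroup.disjoint_def.1 hdisj zc.2 hzD))
  · have h1 := Subgroup.relIndex_mul_relIndex ⊥ D P bot_le hDP
    rw [Subgroup.relIndex_bot_left, Subgroup.relIndex_bot_left, hDcard, hPc, mul_comm 2] at h1
    exact Nat.eq_of_mul_eq_mul_left (by omega) h1
  · obtain ⟨k, hk, hk'⟩ := hcard
    have h1 := P.card_mul_index
    have h2 := π.ker.card_mul_index
    rw [Subgroup.index_ker, hr, ← hk', hker, hc] at h2
    rw [hPc, ← h2] at h1
    have : P.index = k := Nat.eq_of_mul_eq_mul_left (show 0 < 2 * (4 * h) by omega) (by rw [h1]; ring)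
    rwa [this]

theorem cycleType_of_even_involution (hn : n ≤ 7) {σ : Perm (Fin n)} (ho : orderOf σ = 2)
    (hs : Perm.sign σ = 1) : σ.cycleType = Multiset.replicate 2 2 := by
  obtain ⟨k, hk⟩ := Perm.cycleType_prime_order (σ := σ) (ho.symm ▸ Nat.prime_two)
  rw [ho] at hk
  have h1 := Perm.sum_cycleType_le σ
  rw [hk, Multiset.sum_replicate, Fintype.card_fin, smul_eq_mul] at h1
  have h2 := Perm.sign_of_cycleType σ
  rw [hs, hk, Multiset.sum_replicate, Multiset.card_replicate, smul_eq_mul] at h2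
  have hk3 : k = 1 := by
    rcases (show k = 0 ∨ k = 1 ∨ k = 2 by omega) with rfl | rfl | rfl
    · exact absurd h2 (by decide)
    · rfl
    · exact absurd h2 (by decide)
  rw [hk, hk3]

theorem orderOf_perm_two {m : ℕ} {σ : Perm (Fin m)} (h : σ * σ = 1 ∧ σ ≠ 1) : orderOf σ = 2 := by
  haveI : Fact (Nat.Prime 2) := ⟨Nat.prime_two⟩
  exact orderOf_eq_prime (by rw [sq]; exact h.1) h.2

theorem involution_unique_of_small (hn : n ≤ 7) (hH : IsNonsplitDoubleCover H (alternatingGroup (Fin n)))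
    (x y : H) (hx : orderOf x = 2) (hy : orderOf y = 2) : x = y := by
  classical
  obtain ⟨hc, ⟨e⟩, hns⟩ := hH
  let π : H →* Perm (Fin n) :=
    ((alternatingGroup (Fin n)).subtype.comp e.toMonoidHom).comp (QuotientGroup.mk' (Subgroup.center H))
  have hker : π.ker = Subgroup.center H := by
    ext g
    rw [MonoidHom.mem_ker]
    show (alternatingGroup (Fin n)).subtype (e (QuotientGroup.mk' (Subgroup.center H) g)) = 1 ↔ _
    rw [← map_one (alternatingGroup (Fin n)).subtype, (Subgroup.subtype_injective _).eq_iff, MulEquiv.map_eq_one_iff,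
      ← MonoidHom.mem_ker, QuotientGroup.ker_mk']
  have hr : π.range = alternatingGroup (Fin n) := by
    show MonoidHom.range (((alternatingGroup (Fin n)).subtype.comp e.toMonoidHom).comp (QuotientGroup.mk' _)) = _
    rw [MonoidHom.range_comp, MonoidHom.range_eq_top.2 (QuotientGroup.mk'_surjective _), ← MonoidHom.range_eq_map,
      MonoidHom.range_comp, MonoidHom.range_eq_top.2 e.surjective, ← MonoidHom.range_eq_map, Subgroup.range_subtype]
  suffices hall : ∀ w : H, orderOf w = 2 → π w = 1 by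
    have hxc : x ∈ Subgroup.center H := hker ▸ MonoidHom.mem_ker.2 (hall x hx)
    have hyc : y ∈ Subgroup.center H := hker ▸ MonoidHom.mem_ker.2 (hall y hy)
    obtain ⟨p, q, -, hpq⟩ := Nat.card_eq_two_iff.1 hc
    have hmem : ∀ v : Subgroup.center H, v = p ∨ v = q := fun v => by
      have hv : v ∈ ({p, q} : Set _) := hpq ▸ Set.mem_univ v
      simpa using hv
    have e1 : (⟨x, hxc⟩ : Subgroup.center H) ≠ 1 := fun h => by
      rw [show x = 1 from congrArg Subtype.val h, orderOf_one] at hx; omega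
    have e2 : (⟨y, hyc⟩ : Subgroup.center H) ≠ 1 := fun h => by
      rw [show y = 1 from congrArg Subtype.val h, orderOf_one] at hy; omega
    suffices hxy : (⟨x, hxc⟩ : Subgroup.center H) = ⟨y, hyc⟩ from congrArg Subtype.val hxy
    rcases hmem ⟨x, hxc⟩ with h | h <;> rcases hmem ⟨y, hyc⟩ with h' | h' <;> rcases hmem 1 with h'' | h'' <;>
      simp_all
  intro w hw
  by_contra hw1
  have hwo : orderOf (π w) = 2 := orderOf_perm_two ⟨by
    rw [← map_mul, ← sq, ← hw, pow_orderOf_eq_one, map_one], hw1⟩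
  have hwA : Perm.sign (π w) = 1 := by
    rw [← Equiv.Perm.mem_alternatingGroup, ← hr]; exact ⟨w, rfl⟩
  have hct := cycleType_of_even_involution hn hwo hwA
  have hn4 : 4 ≤ n := by
    have := Perm.sum_cycleType_le (π w)
    rw [hct, Multiset.sum_replicate, Fintype.card_fin, smul_eq_mul] at this
    omega
  have hw2 : w * w = 1 := by rw [← sq, ← hw, pow_orderOf_eq_one]
  have hinv : ∀ σ ∈ alternatingGroup (Fin n), orderOf σ = 2 → ∀ g, π g = σ → g * g = 1 := by
    intro σ hσ ho g hg
    have hct' := cycleType_of_even_involution hn ho (Equiv.Perm.mem_alternatingGroup.1 hσ)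
    obtain ⟨c, hc1⟩ := isConj_iff.1 (Perm.isConj_iff_cycleType_eq.2 (hct.trans hct'.symm))
    -- make the conjugating element even
    obtain ⟨c', hc'A, hc'⟩ : ∃ c', c' ∈ alternatingGroup (Fin n) ∧ c' * π w * c'⁻¹ = σ := by
      rcases Int.units_eq_one_or (Perm.sign c) with h | h
      · exact ⟨c, Equiv.Perm.mem_alternatingGroup.2 h, hc1⟩
      obtain ⟨p, hp⟩ : ∃ p, π w p ≠ p := by
        by_contra hcon
        push Not at hcon
        exact hw1 (Equiv.ext hcon)
      refine ⟨c * swap p (π w p), Equiv.Perm.mem_alternatingGroup.2 (by rw [map_mul, h, sign_swap (Ne.symm hp)]; rfl), ?_⟩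
      have hpp : π w (π w p) = p := by
        rw [← Perm.mul_apply, ← map_mul, hw2, map_one, Perm.one_apply]
      have hcom : swap p (π w p) * π w * (swap p (π w p))⁻¹ = π w := by
        have h' := swap_apply_apply (π w) p (π w p)
        rw [hpp, swap_comm] at h'
        calc swap p (π w p) * π w * (swap p (π w p))⁻¹
            = (π w * swap p (π w p) * (π w)⁻¹) * π w * (swap p (π w p))⁻¹ := by rw [← h']
          _ = π w := by group
      calc c * swap p (π w p) * π w * (c * swap p (π w p))⁻¹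
          = c * (swap p (π w p) * π w * (swap p (π w p))⁻¹) * c⁻¹ := by group
        _ = σ := by rw [hcom, hc1]
    obtain ⟨k, rfl⟩ : c' ∈ π.range := by rw [hr]; exact hc'A
    have hz : (k * w * k⁻¹)⁻¹ * g ∈ Subgroup.center H := by
      rw [← hker, MonoidHom.mem_ker, map_mul, map_inv, map_mul, map_mul, map_inv, hc', hg, inv_mul_cancel]
    set z := (k * w * k⁻¹)⁻¹ * g with hzdef
    have hg' : g = k * w * k⁻¹ * z := by rw [hzdef]; group
    have hz2 : z * z = 1 := by
      have h2 : (⟨z, hz⟩ : Subgroup.center H) ^ 2 = 1 := by rw [← hc]; exact pow_card_eq_one'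
      rw [sq] at h2
      exact congrArg Subtype.val h2
    rw [hg']
    calc k * w * k⁻¹ * z * (k * w * k⁻¹ * z) = k * w * k⁻¹ * (z * (k * w * k⁻¹)) * z := by group
      _ = k * w * k⁻¹ * ((k * w * k⁻¹) * z) * z := by rw [← Subgroup.mem_center_iff.1 hz (k * w * k⁻¹)]
      _ = k * (w * w) * k⁻¹ * (z * z) := by group
      _ = 1 := by rw [hw2, hz2]; group
  suffices h : ∃ L : Subgroup H, (Subgroup.center H).IsComplement' L from h.elim fun L hL => hns L hL
  haveI : Nontrivial (Fin n) := Fin.nontrivial_iff_two_le.2 (by omega)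
  have hcardA : ∀ k, 2 * k = n.factorial → Nat.card (alternatingGroup (Fin n)) = k := fun k hk => by
    have := two_mul_nat_card_alternatingGroup (α := Fin n)
    rw [Nat.card_perm, Nat.card_fin, ← hk] at this
    omega
  interval_cases n
  · exact dihedral_section_split π hker hc hr hinv (swap 0 1 * swap 2 3) (swap 0 2 * swap 1 3) 1 one_pos
      (Equiv.Perm.mem_alternatingGroup.2 (by decide)) (Equiv.Perm.mem_alternatingGroup.2 (by decide))
      (orderOf_perm_two (by decide)) (orderOf_perm_two (by decide))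
      (orderOf_perm_two (by decide)) (by decide) ⟨3, by decide, by rw [hcardA 12 (by decide)]⟩
  · exact dihedral_section_split π hker hc hr hinv (swap 0 1 * swap 2 3) (swap 0 2 * swap 1 3) 1 one_pos
      (Equiv.Perm.mem_alternatingGroup.2 (by decide)) (Equiv.Perm.mem_alternatingGroup.2 (by decide))
      (orderOf_perm_two (by decide)) (orderOf_perm_two (by decide))
      (orderOf_perm_two (by decide)) (by decide) ⟨15, by decide, by rw [hcardA 60 (by decide)]⟩
  · exact dihedral_section_split π hker hc hr hinv (swap 0 1 * swap 4 5) (swap 0 2 * swap 1 3) 2 two_pos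
      (Equiv.Perm.mem_alternatingGroup.2 (by decide)) (Equiv.Perm.mem_alternatingGroup.2 (by decide))
      (orderOf_perm_two (by decide)) (orderOf_perm_two (by decide))
      (orderOf_perm_two (by decide)) (by decide) ⟨45, by decide, by rw [hcardA 360 (by decide)]⟩
  · exact dihedral_section_split π hker hc hr hinv (swap 0 1 * swap 4 5) (swap 0 2 * swap 1 3) 2 two_pos
      (Equiv.Perm.mem_alternatingGroup.2 (by decide)) (Equiv.Perm.mem_alternatingGroup.2 (by decide))
      (orderOf_perm_two (by decide)) (orderOf_perm_two (by decide))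
      (orderOf_perm_two (by decide)) (by decide) ⟨315, by decide, by rw [hcardA 2520 (by decide)]⟩

theorem spT_anticomm {a b c d : Fin n} (h1 : a ≠ c) (h2 : a ≠ d) (h3 : b ≠ c) (h4 : b ≠ d) :
    spT a b * spT c d = -(spT c d * spT a b) := by
  simp only [spT, sub_mul, mul_sub]
  rw [spE_swap h1, spE_swap h2, spE_swap h3, spE_swap h4]
  abel

theorem exists_two_involutions :
    ∃ (H : Type) (_ : Group H) (_ : Finite H), IsNonsplitDoubleCover H (alternatingGroup (Fin 8)) ∧
      ∃ x y : H, x ≠ y ∧ orderOf x = 2 ∧ orderOf y = 2 := by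
  classical
  haveI : Fact (Nat.Prime 2) := ⟨Nat.prime_two⟩
  obtain ⟨hf, z, hzval, hz, hzo, hzc, hN, ⟨e⟩⟩ := spGamma_cover 8 (by norm_num)
  let g : spGamma 8 :=
    ⟨_, Subgroup.subset_closure ⟨0, 1, 2, 3, by decide, by decide, rfl⟩⟩
  let g' : spGamma 8 :=
    ⟨_, Subgroup.subset_closure ⟨4, 5, 6, 7, by decide, by decide, rfl⟩⟩
  have hval : ∀ (a b c d : Fin 8) (h : a ≠ b) (h' : c ≠ d),
      ((spScal 8 (Units.mk0 2⁻¹ (inv_ne_zero two_ne_zero)) * spU a b h * spU c d h' : (SpAlg 8)ˣ) : SpAlg 8) =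
        (2⁻¹ : ℚ) • (spT a b * spT c d) := fun a b c d h h' => by
    show algebraMap ℚ (SpAlg 8) 2⁻¹ * spT a b * spT c d = _
    rw [Algebra.smul_def, mul_assoc]
  have hsq : ∀ (a b c d : Fin 8), a ≠ b → c ≠ d → a ≠ c → a ≠ d → b ≠ c → b ≠ d →
      ((2⁻¹ : ℚ) • (spT a b * spT c d)) * ((2⁻¹ : ℚ) • (spT a b * spT c d)) = -1 := by
    intro a b c d h h' h1 h2 h3 h4
    have e1 : spT a b * spT c d * (spT a b * spT c d) = (-4 : ℚ) • (1 : SpAlg 8) := by
      calc spT a b * spT c d * (spT a b * spT c d) = -(spT a b * spT a b * (spT c d * spT c d)) := by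
            rw [show spT a b * spT c d * (spT a b * spT c d) = spT a b * (spT c d * spT a b) * spT c d by
              simp only [mul_assoc], spT_anticomm h1.symm h3.symm h2.symm h4.symm]
            simp only [mul_neg, neg_mul, mul_assoc]
        _ = (-4 : ℚ) • (1 : SpAlg 8) := by
            rw [spT_sq h, spT_sq h', neg_smul, Algebra.smul_def, mul_one, map_ofNat]
            norm_num
    rw [smul_mul_smul_comm, e1, smul_smul]
    norm_num
  have hg : g * g = z ∧ g' * g' = z := by
    constructor <;> refine Subtype.ext (Units.ext ?_) <;> rw [hzval] <;>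
      simp only [g, g', Subgroup.coe_mul, Units.val_mul] <;>
      (rw [← Units.val_mul, ← Units.val_mul, hval, hsq _ _ _ _ (by decide) (by decide) (by decide) (by decide) (by decide) (by decide)]; simp [spScal])
  have hcomm : g * g' = g' * g := by
    refine Subtype.ext (Units.ext ?_)
    show ((spScal 8 (Units.mk0 2⁻¹ (inv_ne_zero two_ne_zero)) * spU 0 1 (by decide) * spU 2 3 (by decide) : (SpAlg 8)ˣ) : SpAlg 8) *
        ((spScal 8 (Units.mk0 2⁻¹ (inv_ne_zero two_ne_zero)) * spU 4 5 (by decide) * spU 6 7 (by decide) : (SpAlg 8)ˣ) : SpAlg 8) =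
      ((spScal 8 (Units.mk0 2⁻¹ (inv_ne_zero two_ne_zero)) * spU 4 5 (by decide) * spU 6 7 (by decide) : (SpAlg 8)ˣ) : SpAlg 8) *
        ((spScal 8 (Units.mk0 2⁻¹ (inv_ne_zero two_ne_zero)) * spU 0 1 (by decide) * spU 2 3 (by decide) : (SpAlg 8)ˣ) : SpAlg 8)
    rw [hval, hval, smul_mul_smul_comm, smul_mul_smul_comm]
    congr 1
    have q1 := spT_anticomm (n := 8) (a := 2) (b := 3) (c := 4) (d := 5) (by decide) (by decide) (by decide) (by decide)
    have q2 := spT_anticomm (n := 8) (a := 2) (b := 3) (c := 6) (d := 7) (by decide) (by decide) (by decide) (by decide)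
    have q3 := spT_anticomm (n := 8) (a := 0) (b := 1) (c := 4) (d := 5) (by decide) (by decide) (by decide) (by decide)
    have q4 := spT_anticomm (n := 8) (a := 0) (b := 1) (c := 6) (d := 7) (by decide) (by decide) (by decide) (by decide)
    calc spT (0 : Fin 8) 1 * spT 2 3 * (spT 4 5 * spT 6 7)
        = spT 0 1 * (spT 2 3 * spT 4 5) * spT 6 7 := by simp only [mul_assoc]
      _ = -((spT 0 1 * spT 4 5) * (spT 2 3 * spT 6 7)) := by rw [q1]; simp only [mul_neg, neg_mul, mul_assoc]
      _ = -((spT 4 5 * spT 0 1) * (spT 6 7 * spT 2 3)) := by rw [q3, q2]; simp only [mul_neg, neg_mul, neg_neg]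
      _ = -(spT 4 5 * (spT 0 1 * spT 6 7) * spT 2 3) := by simp only [mul_assoc]
      _ = spT 4 5 * spT 6 7 * (spT 0 1 * spT 2 3) := by rw [q4]; simp only [mul_neg, neg_mul, neg_neg, mul_assoc]
  have hx2 : g * g' * (g * g') = 1 := by
    calc g * g' * (g * g') = g * (g' * g) * g' := by group
      _ = g * g * (g' * g') := by rw [← hcomm]; group
      _ = z ^ 2 := by rw [hg.1, hg.2, sq]
      _ = 1 := by rw [← hzo, pow_orderOf_eq_one]
  haveI : Finite (spGamma 8) := hf
  have hcenter : Subgroup.center (spGamma 8) = Subgroup.zpowers z := by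
    refine le_antisymm (fun x hx => ?_) (Subgroup.zpowers_le.2 hz)
    have hb : Subgroup.center (alternatingGroup (Fin 8)) = ⊥ := alternatingGroup.center_eq_bot (by simp)
    have hmem : e (QuotientGroup.mk' (Subgroup.zpowers z) x) ∈ Subgroup.center (alternatingGroup (Fin 8)) :=
      Subgroup.mem_center_iff.2 fun y => by
        obtain ⟨w, rfl⟩ := e.surjective y
        obtain ⟨w, rfl⟩ := QuotientGroup.mk'_surjective _ w
        rw [← map_mul, ← map_mul, ← map_mul, ← map_mul, Subgroup.mem_center_iff.1 hx w]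
    rw [hb, Subgroup.mem_bot, MulEquiv.map_eq_one_iff, ← MonoidHom.mem_ker, QuotientGroup.ker_mk'] at hmem
    exact hmem
  refine ⟨spGamma 8, inferInstance, hf, ⟨?_, ?_, ?_⟩, ?_⟩
  · rw [hcenter, Nat.card_zpowers, hzo]
  · exact ⟨(QuotientGroup.quotientMulEquivOfEq hcenter).trans e⟩
  · intro L hL
    haveI : L.Normal := by
      refine ⟨fun a ha w => ?_⟩
      obtain ⟨⟨c, l⟩, rfl⟩ := hL.2 w
      have hc' := Subgroup.mem_center_iff.1 c.2
      show (c : spGamma 8) * l * a * ((c : spGamma 8) * l)⁻¹ ∈ L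
      rw [show (c : spGamma 8) * l * a * ((c : spGamma 8) * l)⁻¹ = (c : spGamma 8) * ((l : spGamma 8) * a * (l : spGamma 8)⁻¹) * (c : spGamma 8)⁻¹ by group,
        ← hc', mul_inv_cancel_right]
      exact mul_mem (mul_mem l.2 ha) (inv_mem l.2)
    have hle : commutator (spGamma 8) ≤ L := by
      rw [commutator_def, Subgroup.commutator_le]
      intro a _ b _
      obtain ⟨⟨c, l⟩, rfl⟩ := hL.2 a
      obtain ⟨⟨d, m⟩, rfl⟩ := hL.2 b
      have hc' := Subgroup.mem_center_iff.1 c.2
      have hd' := Subgroup.mem_center_iff.1 (inv_mem c.2)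
      have hd'' := Subgroup.mem_center_iff.1 d.2
      show ⁅(c : spGamma 8) * l, (d : spGamma 8) * m⁆ ∈ L
      rw [commutatorElement_def, mul_inv_rev, mul_inv_rev,
        show (c : spGamma 8) * l * ((d : spGamma 8) * m) * ((l : spGamma 8)⁻¹ * (c : spGamma 8)⁻¹) * ((m : spGamma 8)⁻¹ * (d : spGamma 8)⁻¹) =
          (c : spGamma 8) * ((l : spGamma 8) * d) * m * (l : spGamma 8)⁻¹ * ((c : spGamma 8)⁻¹ * (m : spGamma 8)⁻¹) * (d : spGamma 8)⁻¹ by group,
        hd'' (l : spGamma 8), ← hd' (m : spGamma 8)⁻¹,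
        show (c : spGamma 8) * ((d : spGamma 8) * l) * m * (l : spGamma 8)⁻¹ * ((m : spGamma 8)⁻¹ * (c : spGamma 8)⁻¹) * (d : spGamma 8)⁻¹ =
          ((c : spGamma 8) * d) * ((l : spGamma 8) * m * (l : spGamma 8)⁻¹ * (m : spGamma 8)⁻¹) * ((c : spGamma 8)⁻¹ * (d : spGamma 8)⁻¹) by group,
        ← Subgroup.mem_center_iff.1 (mul_mem c.2 d.2) _, ← hd' (d : spGamma 8)⁻¹,
        show ((l : spGamma 8) * m * (l : spGamma 8)⁻¹ * (m : spGamma 8)⁻¹) * ((c : spGamma 8) * d) * ((d : spGamma 8)⁻¹ * (c : spGamma 8)⁻¹) =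
          (l : spGamma 8) * m * (l : spGamma 8)⁻¹ * (m : spGamma 8)⁻¹ by group]
      exact mul_mem (mul_mem (mul_mem l.2 m.2) (inv_mem l.2)) (inv_mem m.2)
    have h1 := Subgroup.disjoint_def.1 hL.disjoint hz (hle hzc)
    rw [h1, orderOf_one] at hzo
    omega
  refine ⟨g * g', z, ?_, ?_, hzo⟩
  · intro h
    -- the product moves a point
    have h' : g' = g⁻¹ * z := by rw [← h]; group
    have hact : ∀ (a b c d : Fin 8) (hab : a ≠ b) (hcd : c ≠ d), SpAct
        (spScal 8 (Units.mk0 2⁻¹ (inv_ne_zero two_ne_zero)) * spU a b hab * spU c d hcd)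
        (1 * swap a b * swap c d) (-1 * (-1 * 1)) := fun a b c d hab hcd =>
      spAct_mul (spAct_mul (spAct_scal _) (spAct_spU hab)) (spAct_spU hcd)
    have h1 := spAct_mul (hact 0 1 2 3 (by decide) (by decide)) (hact 4 5 6 7 (by decide) (by decide))
    have h2 : SpAct ((g * g' : spGamma 8) : (SpAlg 8)ˣ) 1 1 := by rw [h, hzval]; exact spAct_scal (-1)
    exact absurd (spAct_unique h1 h2) (by decide)
  · refine orderOf_eq_prime (by rw [sq]; exact hx2) (fun h => ?_)
    have h1 := spAct_mul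
      (spAct_mul (spAct_mul (spAct_scal (Units.mk0 (2⁻¹ : ℚ) (inv_ne_zero two_ne_zero))) (spAct_spU (n := 8) (a := 0) (b := 1) (by decide)))
        (spAct_spU (n := 8) (a := 2) (b := 3) (by decide)))
      (spAct_mul (spAct_mul (spAct_scal (Units.mk0 (2⁻¹ : ℚ) (inv_ne_zero two_ne_zero))) (spAct_spU (n := 8) (a := 4) (b := 5) (by decide)))
        (spAct_spU (n := 8) (a := 6) (b := 7) (by decide)))
    have h2 : SpAct ((g * g' : spGamma 8) : (SpAlg 8)ˣ) 1 1 := by rw [h]; exact spAct_one
    exact absurd (spAct_unique h1 h2) (by decide)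

end Cfsg.Agent.Char
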