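import Cfsg.Agent.Lib.Char.IndSpan
import Cfsg.Agent.Lib.Char.ThompsonDegree
import Cfsg.Agent.Lib.Char.BrauerChar
import Cfsg.Agent.Lib.Solv.Engel

/-!
# Elementary supplements seeing an invariant character with multiplicity prime to p
-/

set_option autoImplicit false
open Cfsg
open scoped ComplexConjugate

namespace Cfsg.Agent.Char.ElemSupp

universe u

variable {G : Type u} [Group G] [Fintype G]

/-- Induction commutes with inflation. -/
theorem indFun_comp_surjective {Q : Type*} [Group Q] [Fintype Q] (π : G →* Q) (hπ : Function.Surjective π)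
    (C : Subgroup Q) (μ : C → ℂ) (g : G) :
    indFun (C.comap π) (fun x => μ ⟨π x, x.2⟩) g = indFun C μ (π g) := by
  classical
  have hterm : ∀ x : G, extendByZero (C.comap π) (fun x => μ ⟨π x, x.2⟩) (x⁻¹ * g * x) =
      extendByZero C μ ((π x)⁻¹ * π g * π x) := by
    intro x
    have e : π (x⁻¹ * g * x) = (π x)⁻¹ * π g * π x := by simp
    by_cases hx : π (x⁻¹ * g * x) ∈ C
    · rw [extendByZero_mem (C.comap π) _ (Subgroup.mem_comap.2 hx), extendByZero_mem C _ (e ▸ hx)]
      exact congrArg μ (Subtype.ext e)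
    · rw [extendByZero_not_mem (C.comap π) _ (fun h => hx (Subgroup.mem_comap.1 h)),
        extendByZero_not_mem C _ (fun h => hx (e.symm ▸ h))]
  have hfib : ∀ q : Q, (Finset.univ.filter fun x : G => π x = q).card = Nat.card π.ker := by
    intro q
    obtain ⟨w, rfl⟩ := hπ q
    rw [← Fintype.card_subtype, ← Nat.card_eq_fintype_card]
    exact Nat.card_congr
      { toFun := fun h => ⟨w⁻¹ * h.1, by rw [MonoidHom.mem_ker, map_mul, map_inv, h.2, inv_mul_cancel]⟩
        invFun := fun k => ⟨w * k.1, by rw [map_mul, MonoidHom.mem_ker.1 k.2, mul_one]⟩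
        left_inv := fun h => by simp
        right_inv := fun k => by simp }
  have hc : Nat.card (C.comap π) = Nat.card π.ker * Nat.card C := by
    have h1 := (C.comap π).card_mul_index
    rw [C.index_comap_of_surjective hπ, ← π.ker.card_mul_index, Subgroup.index_ker,
      MonoidHom.range_eq_top.2 hπ, Subgroup.card_top, ← C.card_mul_index, ← mul_assoc] at h1
    exact Nat.eq_of_mul_eq_mul_right (Nat.pos_of_ne_zero Subgroup.index_ne_zero_of_finite) h1
  simp only [indFun, hterm]
  rw [← Finset.sum_fiberwise Finset.univ π (fun x => extendByZero C μ ((π x)⁻¹ * π g * π x)),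
    Finset.sum_congr rfl (g := fun q => (Nat.card π.ker : ℂ) * extendByZero C μ (q⁻¹ * π g * q))
      (fun q _ => by
        rw [Finset.sum_congr rfl (g := fun _ => extendByZero C μ (q⁻¹ * π g * q))
          (fun x hx => by rw [(Finset.mem_filter.1 hx).2]), Finset.sum_const, nsmul_eq_mul, hfib]),
    ← Finset.mul_sum, hc, Nat.cast_mul, ← mul_assoc, mul_inv, mul_comm ((Nat.card π.ker : ℂ))⁻¹, mul_assoc _ _ (Nat.card π.ker : ℂ),
    inv_mul_cancel₀ (Nat.cast_ne_zero.2 Nat.card_pos.ne'), mul_one]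

theorem preimage_isElementary {E : Type*} [Group E] [Finite E] [Group.IsNilpotent E] {p : ℕ} [Fact p.Prime]
    (P : Sylow p E) (C : Subgroup (E ⧸ (P : Subgroup E))) (hC : IsCyclic C) :
    IsElementary p (C.comap (QuotientGroup.mk' (P : Subgroup E))) := by
  have hp := (Fact.out : p.Prime)
  set π := QuotientGroup.mk' (P : Subgroup E)
  set K := C.comap π with hKdef
  obtain ⟨c, hc⟩ := hC.exists_generator
  obtain ⟨y, hy⟩ := QuotientGroup.mk'_surjective (P : Subgroup E) (c : E ⧸ (P : Subgroup E))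
  have hy' : π y = c := hy
  set v := (orderOf y).factorization p
  set x := y ^ p ^ v with hx
  have hy0 : orderOf y ≠ 0 := (orderOf_pos y).ne'
  have hxord : orderOf x = orderOf y / p ^ v := by
    rw [hx, orderOf_pow_of_dvd (pow_ne_zero _ hp.ne_zero) (Nat.ordProj_dvd _ _)]
  have hxcop : (orderOf x).Coprime p := by
    rw [hxord]; exact (hp.coprime_iff_not_dvd.2 (Nat.not_dvd_ordCompl hp hy0)).symm
  have hxK : x ∈ K := by
    rw [hKdef, Subgroup.mem_comap, hx, map_pow, hy']; exact pow_mem c.2 _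
  -- the image of `x` generates `C`
  have hQ : ¬ p ∣ Nat.card (E ⧸ (P : Subgroup E)) := by
    rw [← Subgroup.index_eq_card]; exact P.not_dvd_index
  have hcx : ∀ q ∈ C, ∃ i : ℕ, q = π x ^ i := by
    intro q hq
    have hcop : (p ^ v).Coprime (orderOf (c : E ⧸ (P : Subgroup E))) :=
      ((hp.coprime_iff_not_dvd.2 fun h => hQ (h.trans (orderOf_dvd_natCard _)))).pow_left v
    obtain ⟨j, hj⟩ := exists_pow_eq_self_of_coprime hcop
    obtain ⟨i, hi⟩ := (mem_powers_iff_mem_zpowers (x := c)).2 (hc ⟨q, hq⟩)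
    refine ⟨j * i, ?_⟩
    rw [pow_mul, hx, map_pow, hy', hj]
    exact (congrArg Subtype.val hi).symm
  have hdec : ∀ k ∈ K, ∃ i : ℕ, ∃ b ∈ (P : Subgroup E), k = x ^ i * b := by
    intro k hk
    obtain ⟨i, hi⟩ := hcx _ (Subgroup.mem_comap.1 hk)
    refine ⟨i, (x ^ i)⁻¹ * k, ?_, by group⟩
    rw [← QuotientGroup.eq_one_iff, ← QuotientGroup.mk'_apply, map_mul, map_inv, map_pow, hi, inv_mul_cancel]
  refine ⟨⟨x, hxK⟩, Subgroup.mem_center_iff.2 fun k => Subtype.ext ?_, ?_, ?_⟩
  · obtain ⟨i, b, hb, hkb⟩ := hdec k k.2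
    obtain ⟨j, hj⟩ := (IsPGroup.iff_orderOf.1 P.isPGroup') ⟨b, hb⟩
    rw [Subgroup.orderOf_mk] at hj
    have hcomm : Commute b x := Solv.commute_of_coprime_nilpotent hj hxcop
    show (k : E) * x = x * k
    rw [hkb]
    exact ((Commute.refl x).pow_left i).mul_left hcomm
  · rwa [Subgroup.orderOf_mk]
  · -- the index of `⟨x⟩` is a power of `p`
    obtain ⟨j, hj⟩ := IsPGroup.iff_card.1 P.isPGroup'
    set Z := Subgroup.zpowers (⟨x, hxK⟩ : K)
    set PK := (P : Subgroup E).subgroupOf K
    haveI : Z.Normal := ⟨fun z hz g => by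
      obtain ⟨i, b, hb, hkb⟩ := hdec g g.2
      obtain ⟨l, rfl⟩ := Subgroup.mem_zpowers_iff.1 hz
      obtain ⟨j', hj'⟩ := (IsPGroup.iff_orderOf.1 P.isPGroup') ⟨b, hb⟩
      rw [Subgroup.orderOf_mk] at hj'
      have hcomm : Commute (g : E) x := by
        rw [hkb]
        exact ((Commute.refl x).pow_left i).mul_left (Solv.commute_of_coprime_nilpotent hj' hxcop)
      have hcg : Commute g (⟨x, hxK⟩ : K) := Subtype.ext hcomm.eq
      rw [(hcg.zpow_right l).eq, mul_inv_cancel_right]
      exact hz⟩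
    have htop : PK ⊔ Z = ⊤ := by
      rw [eq_top_iff]
      intro k _
      obtain ⟨i, b, hb, hkb⟩ := hdec k k.2
      have hbK : b ∈ K := by
        have := K.mul_mem (K.inv_mem (K.pow_mem hxK i)) k.2
        rwa [hkb, inv_mul_cancel_left] at this
      rw [show k = (⟨x, hxK⟩ : K) ^ i * ⟨b, hbK⟩ from Subtype.ext hkb]
      exact Subgroup.mul_mem _ (Subgroup.mem_sup_right (Subgroup.pow_mem _ (Subgroup.mem_zpowers _) i))
        (Subgroup.mem_sup_left (Subgroup.mem_subgroupOf.2 hb))
    have hdvd : Z.index ∣ Nat.card PK := by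
      have h1 : Nat.card PK = (Z.subgroupOf PK).index * Nat.card (Z.subgroupOf PK) := (Subgroup.index_mul_card _).symm
      rw [h1]
      refine Dvd.dvd.mul_right ?_ _
      show Z.index ∣ Z.relIndex PK
      rw [← Subgroup.relIndex_sup_right PK Z, htop, Subgroup.relIndex_top_right]
    have hPK : Nat.card PK ∣ p ^ j := by
      rw [← hj]
      exact Subgroup.card_comap_dvd_of_injective _ K.subtype K.subtype_injective
    obtain ⟨i, -, hi⟩ := (Nat.dvd_prime_pow hp).1 (hdvd.trans hPK)
    exact ⟨i, hi⟩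

theorem list_sum_apply {X : Type*} (l : List (X → ℂ)) (x : X) : l.sum x = (l.map fun f => f x).sum := by
  induction l with
  | nil => simp
  | cons f l ih => simp [ih]

/-- The pairing with a fixed class function. -/
theorem classInner_list_sum {ι : Type*} (Φ : G → ℂ) (F : ι → G → ℂ) (c : ι → ℤ) (l : List ι) :
    classInner (l.map fun t => (c t : ℂ) • F t).sum Φ = (l.map fun t => (c t : ℂ) * classInner (F t) Φ).sum := by
  induction l with
  | nil => simp [classInner]
  | cons t l ih => simp [classInner_add_left, classInner_smul_left, ih]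

theorem not_dvd_of_sum {ι : Type*} {p : ℕ} (l : List ι) (c : ι → ℤ) (n : ι → ℕ) (N : ℕ) (hN : ¬ p ∣ N)
    (h : (N : ℂ) = (l.map fun t => (c t : ℂ) * (n t : ℂ)).sum) : ∃ t ∈ l, ¬ p ∣ n t := by
  by_contra hcon
  push Not at hcon
  apply hN
  have h1 : (N : ℤ) = (l.map fun t => c t * (n t : ℤ)).sum := by
    apply Int.cast_injective (α := ℂ)
    rw [Int.cast_natCast, h, Int.cast_list_sum, List.map_map]
    congr 1
    refine List.map_congr_left fun t _ => ?_
    simp
  rw [← Int.natCast_dvd_natCast, h1]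
  refine List.dvd_sum fun x hx => ?_
  obtain ⟨t, ht, rfl⟩ := List.mem_map.1 hx
  exact Dvd.dvd.mul_left (Int.natCast_dvd_natCast.2 (hcon t ht)) _

variable (N : Subgroup G) [N.Normal] [Fintype N]

/-- The squared absolute value of a character, extended by zero. -/
noncomputable def sqExt (θ : N → ℂ) : G → ℂ := extendByZero N fun n => θ n * conj (θ n)

theorem isClassFunction_sqExt {θ : N → ℂ}
    (hinv : ∀ (g : G) (n : N), θ (MulAut.conjNormal g n) = θ n) : IsClassFunction G (sqExt N θ) := by
  intro g k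
  simp only [sqExt]
  by_cases hg : g ∈ N
  · have hk : k * g * k⁻¹ ∈ N := Subgroup.Normal.conj_mem ‹N.Normal› g hg k
    rw [extendByZero_mem N _ hk, extendByZero_mem N _ hg]
    have h1 := hinv k ⟨g, hg⟩
    have e : MulAut.conjNormal k (⟨g, hg⟩ : N) = ⟨k * g * k⁻¹, hk⟩ := Subtype.ext (by simp [MulAut.conjNormal_apply])
    rw [e] at h1
    simp only [h1]
  · have hk : k * g * k⁻¹ ∉ N := fun h => hg (by
      have := Subgroup.Normal.conj_mem ‹N.Normal› _ h k⁻¹
      simpa [mul_assoc] using this)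
    rw [extendByZero_not_mem N _ hk, extendByZero_not_mem N _ hg]

theorem classInner_one_sqExt {θ : N → ℂ} (hθ : IsIrrCharacter N θ) :
    (N.index : ℂ) * classInner (fun _ : G => (1 : ℂ)) (sqExt N θ) = 1 := by
  have h1 := irr_self hθ
  simp only [classInner] at h1 ⊢
  have e : ∑ g : G, (1 : ℂ) * conj (sqExt N θ g) = ∑ n : N, θ n * conj (θ n) := by
    have h2 := sum_extendByZero_mul N (fun n => θ n * conj (θ n)) (fun _ : G => (1 : ℂ))
    simp only [mul_one] at h2
    rw [← h2]
    refine Finset.sum_congr rfl fun g _ => ?_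
    rw [one_mul, sqExt]
    by_cases hg : g ∈ N
    · rw [extendByZero_mem N _ hg, map_mul, Complex.conj_conj, mul_comm]
    · rw [extendByZero_not_mem N _ hg, map_zero]
  rw [e, ← N.index_mul_card, Nat.cast_mul, mul_inv, ← mul_assoc, ← mul_assoc,
    mul_inv_cancel₀ (Nat.cast_ne_zero.2 Subgroup.index_ne_zero_of_finite), one_mul, h1]

/-- The pairing with an induced linear character. -/
theorem classInner_ind_sqExt (E : Subgroup G) (l : E →* ℂˣ) {θ : N → ℂ} (hθ : IsCharacter N θ)
    (hinv : ∀ (g : G) (n : N), θ (MulAut.conjNormal g n) = θ n) [Fintype (N.subgroupOf E)] :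
    ∃ X : ℕ, classInner (fun x : N.subgroupOf E => (l (x : E) : ℂ) * θ ⟨((x : E) : G), x.2⟩)
        (fun x : N.subgroupOf E => θ ⟨((x : E) : G), x.2⟩) = (X : ℂ) ∧
      (N.index : ℂ) * classInner (indFun E (fun e => (l e : ℂ))) (sqExt N θ) =
        ((E ⊔ N).index * X : ℕ) := by
  classical
  haveI := Fintype.ofFinite E
  let ι : N.subgroupOf E →* N :=
    { toFun := fun x => ⟨((x : E) : G), x.2⟩
      map_one' := rfl
      map_mul' := fun a b => rfl }
  have hc : IsCharacter (N.subgroupOf E) (fun x => θ (ι x)) := isCharacter_comp ι hθ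
  have hl : IsCharacter (N.subgroupOf E) (fun x => (l (x : E) : ℂ)) :=
    isCharacter_comp (N.subgroupOf E).subtype (isCharacter_linear l)
  obtain ⟨X, hX⟩ := classInner_natCast (isCharacter_mul hl hc) hc
  refine ⟨X, hX, ?_⟩
  rw [frobenius E _ (isClassFunction_sqExt N hinv)]
  simp only [classInner] at hX ⊢
  have hsum : ∑ e : E, (l e : ℂ) * conj (sqExt N θ (e : G)) =
      ∑ x : N.subgroupOf E, (l (x : E) : ℂ) * θ (ι x) * conj (θ (ι x)) := by
    have h2 := sum_extendByZero_mul (N.subgroupOf E) (fun x => (l (x : E) : ℂ) * θ (ι x) * conj (θ (ι x)))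
      (fun _ : E => (1 : ℂ))
    simp only [mul_one] at h2
    rw [← h2]
    refine Finset.sum_congr rfl fun e _ => ?_
    by_cases he : (e : G) ∈ N
    · rw [extendByZero_mem (N.subgroupOf E) _ (Subgroup.mem_subgroupOf.2 he), sqExt, extendByZero_mem N _ he,
        map_mul, Complex.conj_conj]
      simp only [ι, MonoidHom.coe_mk, OneHom.coe_mk]
      ring
    · rw [extendByZero_not_mem (N.subgroupOf E) _ (fun h => he (Subgroup.mem_subgroupOf.1 h)), sqExt,
        extendByZero_not_mem N _ he, map_zero, mul_zero]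
  have hcard : N.index * Nat.card (N.subgroupOf E) = (E ⊔ N).index * Nat.card E := by
    have h1 := Subgroup.relIndex_mul_index (le_sup_right : N ≤ E ⊔ N)
    rw [Subgroup.relIndex_sup_right] at h1
    have h2 := (N.subgroupOf E).index_mul_card
    rw [show (N.subgroupOf E).index = N.relIndex E from rfl] at h2
    rw [← h1, ← h2]; ring
  have hE : (Nat.card E : ℂ) ≠ 0 := Nat.cast_ne_zero.2 Nat.card_pos.ne'
  have hL : (Nat.card (N.subgroupOf E) : ℂ) ≠ 0 := Nat.cast_ne_zero.2 Nat.card_pos.ne'
  rw [hsum, Nat.cast_mul, ← hX]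
  have h3 : (N.index : ℂ) * Nat.card (N.subgroupOf E) = ((E ⊔ N).index : ℂ) * Nat.card E := by
    exact_mod_cast hcard
  simp only [Pi.mul_apply]
  field_simp
  linear_combination (∑ x : N.subgroupOf E, (l (x : E) : ℂ) * θ (ι x) * conj (θ (ι x))) * h3

theorem exists_isElementary {p : ℕ} [Fact p.Prime] {θ : N → ℂ} (hθ : IsIrrCharacter N θ)
    (hinv : ∀ (g : G) (n : N), θ (MulAut.conjNormal g n) = θ n) :
    ∃ (E : Subgroup G) (l : E →* ℂˣ), IsElementary p E ∧ ∃ X : ℕ, ¬ p ∣ X ∧
      (N.index : ℂ) * classInner (indFun E (fun e => (l e : ℂ))) (sqExt N θ) = (X : ℂ) := by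
  classical
  have hp := (Fact.out : p.Prime)
  have hθc := irr_isCharacter hθ
  have hval : ∀ (E : Subgroup G) (l : E →* ℂˣ), ∃ X : ℕ,
      (N.index : ℂ) * classInner (indFun E (fun e => (l e : ℂ))) (sqExt N θ) = (X : ℂ) := by
    intro E l
    haveI := Fintype.ofFinite (N.subgroupOf E)
    obtain ⟨X, -, hX⟩ := classInner_ind_sqExt N E l hθc hinv
    exact ⟨_, hX⟩
  choose val hval using hval
  obtain ⟨L, hLel, hL⟩ := brauer_induction (χ := fun _ : G => (1 : ℂ)) (irr_isCharacter isIrrCharacter_one)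
  have h1 := classInner_one_sqExt N hθ
  have h0 := classInner_list_sum (sqExt N θ)
    (fun t : (E : Subgroup G) × ((E →* ℂˣ) × ℤ) => indFun t.1 (fun e => (t.2.1 e : ℂ))) (fun t => t.2.2) L
  beta_reduce at h0
  rw [hL, h0, ← List.sum_map_mul_left] at h1
  obtain ⟨⟨E, l, z⟩, hEL, hX⟩ := not_dvd_of_sum (p := p) L (fun t => t.2.2) (fun t => val t.1 t.2.1) 1
    hp.not_dvd_one (by
      rw [Nat.cast_one, ← h1]
      congr 1
      refine List.map_congr_left fun t _ => ?_
      rw [← hval, mul_left_comm])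
  obtain ⟨q, hq, hE⟩ := hLel _ hEL
  haveI := isNilpotent_of_isElementary hq hE
  -- pass to the `p`-elementary subgroups of `E`
  haveI := Fintype.ofFinite E
  obtain P : Sylow p E := default
  haveI : (P : Subgroup E).Normal := inferInstance
  haveI := Fintype.ofFinite (E ⧸ (P : Subgroup E))
  obtain ⟨L', hL'cyc, hL'⟩ := artin_induction (χ := fun _ : E ⧸ (P : Subgroup E) => (1 : ℂ))
    (irr_isCharacter isIrrCharacter_one)
  set π := QuotientGroup.mk' (P : Subgroup E)
  have hsurj : Function.Surjective π := QuotientGroup.mk'_surjective _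
  let sub : (A : Subgroup (E ⧸ (P : Subgroup E))) → Subgroup G := fun A => (A.comap π).map E.subtype
  let lin : (A : Subgroup (E ⧸ (P : Subgroup E))) → (A →* ℂˣ) → (sub A →* ℂˣ) := fun A μ =>
    ((μ.comp ((π.comp (A.comap π).subtype).codRestrict A fun x => x.2)) * l.comp (A.comap π).subtype).comp
      (Subgroup.equivMapOfInjective (A.comap π) E.subtype E.subtype_injective).symm.toMonoidHom
  have hkey : ((Nat.card (E ⧸ (P : Subgroup E)) : ℂ)) • indFun E (fun e => (l e : ℂ)) =
      (L'.map fun t => (t.2.2 : ℂ) • indFun (sub t.1) (fun x => (lin t.1 t.2.1 x : ℂ))).sum := by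
    have hE' : ∀ e : E, (Nat.card (E ⧸ (P : Subgroup E)) : ℂ) * (l e : ℂ) =
        (L'.map fun t => (t.2.2 : ℂ) • indFun (t.1.comap π)
          (fun x => ((lin t.1 t.2.1 (Subgroup.equivMapOfInjective (t.1.comap π) E.subtype E.subtype_injective x) : ℂˣ) : ℂ))).sum e := by
      intro e
      have h2 := congrFun hL' (π e)
      simp only [Pi.smul_apply, smul_eq_mul, mul_one] at h2
      rw [h2, list_sum_apply, list_sum_apply, List.map_map, List.map_map, ← List.sum_map_mul_right]
      congr 1
      refine List.map_congr_left fun t _ => ?_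
      simp only [Function.comp_apply, Pi.smul_apply, smul_eq_mul]
      rw [mul_assoc]
      congr 1
      rw [← indFun_comp_surjective π hsurj t.1 (fun k => (t.2.1 k : ℂ)) e, mul_comm]
      have h3 := congrFun (indFun_mul_restrict (t.1.comap π) (fun x => (t.2.1 ⟨π x, x.2⟩ : ℂ))
        (isClassFunction_character (isCharacter_linear l))) e
      rw [Pi.mul_apply] at h3
      rw [h3]
      congr 1
      funext x
      simp only [lin, Pi.mul_apply, MonoidHom.comp_apply, MulEquiv.coe_toMonoidHom, MulEquiv.symm_apply_apply,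
        MonoidHom.mul_apply, Units.val_mul]
      rw [mul_comm]
      rfl
    rw [← indFun_smul, show ((Nat.card (E ⧸ (P : Subgroup E)) : ℂ)) • (fun e : E => (l e : ℂ)) =
      (L'.map fun t => (t.2.2 : ℂ) • indFun (t.1.comap π)
          (fun x => ((lin t.1 t.2.1 (Subgroup.equivMapOfInjective (t.1.comap π) E.subtype E.subtype_injective x) : ℂˣ) : ℂ))).sum
      from funext hE']
    clear hL' hL'cyc hE'
    induction L' with
    | nil => simp [indFun_zero]
    | cons t L ih =>
      simp only [List.map_cons, List.sum_cons, indFun_add, indFun_smul, ih]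
      congr 2
      have h4 := indFun_map_subtype (T := E) (t.1.comap π) ((lin t.1 t.2.1).comp
        (Subgroup.equivMapOfInjective (t.1.comap π) E.subtype E.subtype_injective).toMonoidHom)
      refine h4.trans ?_
      congr 1
      funext x
      simp only [MonoidHom.comp_apply, MulEquiv.coe_toMonoidHom, MulEquiv.apply_symm_apply]
  have h2 := congrArg (fun f => (N.index : ℂ) * classInner f (sqExt N θ)) hkey
  beta_reduce at h2
  have h0' := classInner_list_sum (sqExt N θ)
    (fun t : (A : Subgroup (E ⧸ (P : Subgroup E))) × ((A →* ℂˣ) × ℤ) => indFun (sub t.1) (fun x => (lin t.1 t.2.1 x : ℂ))) (fun t => t.2.2) L'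
  beta_reduce at h0'
  rw [classInner_smul_left, h0', ← List.sum_map_mul_left, mul_left_comm, hval] at h2
  obtain ⟨t, ht, hY⟩ := not_dvd_of_sum (p := p) L' (fun t => t.2.2) (fun t => val (sub t.1) (lin t.1 t.2.1))
    (Nat.card (E ⧸ (P : Subgroup E)) * val E l)
    (fun h => (hp.dvd_mul.1 h).elim (by rw [← Subgroup.index_eq_card]; exact P.not_dvd_index) hX) (by
      rw [Nat.cast_mul, h2]
      congr 1
      refine List.map_congr_left fun t _ => ?_
      rw [← hval, mul_left_comm])
  exact ⟨sub t.1, lin t.1 t.2.1, isElementary_of_equiv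
    (Subgroup.equivMapOfInjective (t.1.comap π) E.subtype E.subtype_injective)
    (preimage_isElementary P t.1 (hL'cyc t ht)), _, hY, hval _ _⟩

/-- The main statement: a `p`-elementary supplement and an invariant constituent. -/
theorem exists_supplement {p : ℕ} [Fact p.Prime] (hind : ∃ k : ℕ, N.index = p ^ k) {θ : N → ℂ}
    (hθ : IsIrrCharacter N θ) (hinv : ∀ (g : G) (n : N), θ (MulAut.conjNormal g n) = θ n) :
    ∃ E : Subgroup G, IsElementary p E ∧ E ⊔ N = ⊤ ∧
      ∃ (_ : Fintype (N.subgroupOf E)) (φ : IrrCharacter (N.subgroupOf E)),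
        (∀ (e : E) (x : N.subgroupOf E), (φ : N.subgroupOf E → ℂ) (MulAut.conjNormal e x) = (φ : N.subgroupOf E → ℂ) x) ∧
        ∃ m : ℕ, ¬ p ∣ m ∧
          classInner (fun x : N.subgroupOf E => θ ⟨((x : E) : G), x.2⟩) (φ : N.subgroupOf E → ℂ) = (m : ℂ) := by
  classical
  have hp := (Fact.out : p.Prime)
  obtain ⟨E, l, hE, Y, hY, hYval⟩ := exists_isElementary (p := p) N hθ hinv
  haveI := Fintype.ofFinite (N.subgroupOf E)
  obtain ⟨X, hX, hXval⟩ := classInner_ind_sqExt N E l (irr_isCharacter hθ) hinv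
  have hYX : Y = (E ⊔ N).index * X := by exact_mod_cast hYval.symm.trans hXval
  subst hYX
  obtain ⟨k, hk⟩ := hind
  have htop : E ⊔ N = ⊤ := by
    obtain ⟨j, -, hj⟩ := (Nat.dvd_prime_pow hp).1 (hk ▸ Subgroup.index_dvd_of_le (le_sup_right : N ≤ E ⊔ N))
    rcases Nat.eq_zero_or_pos j with rfl | hj0
    · exact Subgroup.index_eq_one.1 hj
    · exact absurd (Dvd.dvd.mul_right (hj ▸ dvd_pow_self p hj0.ne') X) hY
  refine ⟨E, hE, htop, inferInstance, ?_⟩
  haveI : (N.subgroupOf E).Normal := Subgroup.Normal.comap inferInstance _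
  let ι : N.subgroupOf E →* N :=
    { toFun := fun x => ⟨((x : E) : G), x.2⟩
      map_one' := rfl
      map_mul' := fun a b => rfl }
  set R : N.subgroupOf E → ℂ := fun x => θ (ι x) with hR
  have hRc : IsCharacter (N.subgroupOf E) R := isCharacter_comp ι (irr_isCharacter hθ)
  obtain ⟨m, hm⟩ := exists_decomposition hRc
  let lL : N.subgroupOf E →* ℂˣ := l.comp (N.subgroupOf E).subtype
  let tw : IrrCharacter (N.subgroupOf E) → IrrCharacter (N.subgroupOf E) := fun φ =>
    ⟨fun x => (lL x : ℂ) * (φ : N.subgroupOf E → ℂ) x, isIrr_linear_mul φ.2 lL⟩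
  have hsumX : X = ∑ φ : IrrCharacter (N.subgroupOf E), m φ * m (tw φ) := by
    have h1 : classInner (fun x => (lL x : ℂ) * R x) R = (X : ℂ) := hX
    have h2 : (fun x => (lL x : ℂ) * R x) = ∑ φ : IrrCharacter (N.subgroupOf E), m φ • ((tw φ : IrrCharacter _) : N.subgroupOf E → ℂ) := by
      funext x
      rw [show R x = _ from congrFun hm x, Finset.sum_apply, Finset.sum_apply, Finset.mul_sum]
      refine Finset.sum_congr rfl fun φ _ => ?_
      simp only [tw, Pi.smul_apply, nsmul_eq_mul]
      ring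
    rw [h2, classInner_sum_left] at h1
    have h3 : ((∑ φ : IrrCharacter (N.subgroupOf E), m φ * m (tw φ) : ℕ) : ℂ) = (X : ℂ) := by
      rw [← h1, Nat.cast_sum]
      refine Finset.sum_congr rfl fun φ _ => ?_
      rw [← Nat.cast_smul_eq_nsmul ℂ, classInner_smul_left, ← classInner_symm,
        show classInner R ((tw φ : IrrCharacter _) : N.subgroupOf E → ℂ) = (m (tw φ) : ℂ) from
          decomposition_coeff m hm (tw φ), map_natCast, Nat.cast_mul]
    exact_mod_cast h3.symm
  obtain P : Sylow p E := default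
  letI := irrConjAct (N.subgroupOf E) (P : Subgroup E)
  have hinvR : ∀ (e : E) (x : N.subgroupOf E), R (MulAut.conjNormal e x) = R x := fun e x => by
    simp only [hR]
    rw [← hinv (e : G) (ι x)]
    congr 1

  have hminv : ∀ (e : E) (φ : IrrCharacter (N.subgroupOf E)), m (irrComp (MulAut.conjNormal e) φ) = m φ := by
    intro e φ
    have h1 := decomposition_coeff m hm (irrComp (MulAut.conjNormal e) φ)
    have h2 := decomposition_coeff m hm φ
    have h3 : classInner R ((irrComp (MulAut.conjNormal e) φ : IrrCharacter _) : N.subgroupOf E → ℂ) =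
        classInner R (φ : N.subgroupOf E → ℂ) := by
      simp only [classInner, irrComp_apply]
      congr 1
      refine Fintype.sum_equiv (MulAut.conjNormal e).toEquiv _ _ fun x => ?_
      show R x * _ = R (MulAut.conjNormal e x) * _
      rw [hinvR]
      rfl
    rw [show classInner R _ = _ from h1, show classInner R _ = _ from h2] at h3
    exact_mod_cast h3
  have hlinv : ∀ (e : E) (x : N.subgroupOf E), lL (MulAut.conjNormal e x) = lL x := fun e x => by
    show l ((MulAut.conjNormal e x : N.subgroupOf E) : E) = l (x : E)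
    rw [MulAut.conjNormal_apply, map_mul, map_mul, map_inv, mul_comm (l e), mul_inv_cancel_right]
  have hf : ∀ (a : (P : Subgroup E)) (φ : IrrCharacter (N.subgroupOf E)),
      (fun φ => m φ * m (tw φ)) (a • φ) = (fun φ => m φ * m (tw φ)) φ := by
    intro a φ
    show m (irrComp (MulAut.conjNormal (a : E)⁻¹) φ) * m (tw (irrComp (MulAut.conjNormal (a : E)⁻¹) φ)) = _
    rw [hminv, show tw (irrComp (MulAut.conjNormal (a : E)⁻¹) φ) = irrComp (MulAut.conjNormal (a : E)⁻¹) (tw φ) from
      Subtype.ext (funext fun x => by simp only [tw, irrComp_apply, hlinv]), hminv]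
  have hsum := sum_eq_sum_fixed P.isPGroup' (fun φ => m φ * m (tw φ)) hf
  rw [← hsumX] at hsum
  have hXp : ¬ p ∣ X := fun h => hY (Dvd.dvd.mul_left h _)
  obtain ⟨φ, hφ, hmφ⟩ : ∃ φ : IrrCharacter (N.subgroupOf E), φ ∈ MulAction.fixedPoints (P : Subgroup E) (IrrCharacter (N.subgroupOf E)) ∧ ¬ p ∣ m φ := by
    by_contra hcon
    push Not at hcon
    apply hXp
    rw [← CharP.cast_eq_zero_iff (ZMod p) p, hsum, Nat.cast_sum]
    refine Finset.sum_eq_zero fun φ hφ => ?_
    rw [CharP.cast_eq_zero_iff (ZMod p) p]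
    exact Dvd.dvd.mul_right (hcon φ (Finset.mem_filter.1 hφ).2) _
  refine ⟨φ, ?_, m φ, hmφ, decomposition_coeff m hm φ⟩
  -- the stabilizer is everything
  let St : Subgroup E :=
    { carrier := {e | ∀ x : N.subgroupOf E, (φ : N.subgroupOf E → ℂ) (MulAut.conjNormal e x) = (φ : N.subgroupOf E → ℂ) x}
      one_mem' := fun x => by rw [map_one]; rfl
      mul_mem' := fun {a b} ha hb x => by rw [map_mul, MulAut.mul_apply, ha, hb]
      inv_mem' := fun {a} ha x => by
        have := ha (MulAut.conjNormal a⁻¹ x)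
        rw [← MulAut.mul_apply, ← map_mul, mul_inv_cancel, map_one] at this
        exact this.symm }
  have hLle : N.subgroupOf E ≤ St := fun e he x => by
    rw [show MulAut.conjNormal e x = (⟨e, he⟩ : N.subgroupOf E) * x * (⟨e, he⟩ : N.subgroupOf E)⁻¹ from
      Subtype.ext (by simp [MulAut.conjNormal_apply])]
    exact isClassFunction_character (irr_isCharacter φ.2) _ _
  have hPle : (P : Subgroup E) ≤ St := fun e he x => by
    have h1 := congrFun (congrArg Subtype.val (hφ (⟨e, he⟩⁻¹ : (P : Subgroup E)))) x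
    change (irrComp (MulAut.conjNormal ((⟨e, he⟩⁻¹ : (P : Subgroup E)) : E)⁻¹) φ : N.subgroupOf E → ℂ) x = _ at h1
    rwa [irrComp_apply, InvMemClass.coe_inv, inv_inv] at h1
  have hStop : St = ⊤ := by
    rw [← Subgroup.index_eq_one]
    by_contra h
    obtain ⟨q, hq, hqd⟩ := Nat.exists_prime_and_dvd h
    have h1 := hqd.trans (Subgroup.index_dvd_of_le hPle)
    have h2 := hqd.trans (Subgroup.index_dvd_of_le hLle)
    have h3 : N.relIndex E ∣ N.index := Subgroup.relIndex_dvd_index_of_normal N E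
    have h4 : q = p := (Nat.prime_dvd_prime_iff_eq hq hp).1 (hq.dvd_of_dvd_pow (hk ▸ h2.trans h3))
    exact P.not_dvd_index (h4 ▸ h1)
  intro e x
  exact (hStop.symm ▸ Subgroup.mem_top e : e ∈ St) x

end Cfsg.Agent.Char.ElemSupp
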