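import Cfsg.Agent.Lib.Char.Defect

/-!
# Idempotents of the centre of the group algebra modulo `M`
-/

set_option autoImplicit false

namespace Cfsg.Agent.Char

open Cfsg Module
open scoped ComplexConjugate

universe u

variable {G : Type u} [Group G] {M : Ideal AlgInt} {p : ℕ}

/-- Pointwise congruence modulo the local ideal. -/
def CEq (M : Ideal AlgInt) (f g : G → ℂ) : Prop := ∀ x, MemLocalIdeal M (f x - g x)

theorem CEq.refl (hM : M.IsPrime) (f : G → ℂ) : CEq M f f := fun x => by
  rw [sub_self]; exact memLI_zero hM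

theorem CEq.symm (hM : M.IsPrime) {f g : G → ℂ} (h : CEq M f g) : CEq M g f :=
  fun x => memLI_symm hM (h x)

theorem CEq.trans (hM : M.IsPrime) {f g k : G → ℂ} (h : CEq M f g) (h' : CEq M g k) : CEq M f k :=
  fun x => memLI_trans hM (h x) (h' x)

variable [Fintype G]

theorem CEq.conv (hM : M.IsPrime) {f f' g g' : G → ℂ} (hf : CEq M f f') (hg : CEq M g g')
    (hf' : ∀ x, MemLocalRing M (f' x)) (hgR : ∀ x, MemLocalRing M (g x)) :
    CEq M (conv f g) (conv f' g') := by
  intro x
  refine memLI_trans hM (conv_congr hM hgR hf x) ?_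
  simp only [Char.conv, ← Finset.sum_sub_distrib, ← mul_sub]
  exact memLI_sum hM _ _ fun y _ => memLI_mul_left hM (hf' _) (hg _)

theorem conv_assoc (f g h : G → ℂ) : conv (conv f g) h = conv f (conv g h) := by
  funext x
  simp only [conv, Finset.sum_mul, Finset.mul_sum]
  rw [Finset.sum_comm]
  refine Finset.sum_congr rfl fun y _ => ?_
  refine Fintype.sum_equiv (Equiv.mulLeft y⁻¹) _ _ fun z => ?_
  rw [Equiv.coe_mulLeft, show (y⁻¹ * z)⁻¹ * (y⁻¹ * x) = z⁻¹ * x by group]
  ring

theorem conv_comm {g : G → ℂ} (f : G → ℂ) (hg : IsClassFunction G g) : conv f g = conv g f := by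
  funext x
  simp only [conv]
  refine Fintype.sum_equiv ((Equiv.inv G).trans (Equiv.mulLeft x)) _ _ fun y => ?_
  simp only [Equiv.trans_apply, Equiv.inv_apply, Equiv.coe_mulLeft]
  rw [show (x * y⁻¹)⁻¹ * x = y by group, show x * y⁻¹ = y * (y⁻¹ * x) * y⁻¹ by group, hg, mul_comm]

theorem conv_sub_left (f g h : G → ℂ) : conv (f - g) h = conv f h - conv g h := by
  funext x
  simp [conv, sub_mul, Finset.sum_sub_distrib]

theorem conv_sub_right (f g h : G → ℂ) : conv f (g - h) = conv f g - conv f h := by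
  funext x
  simp [conv, mul_sub, Finset.sum_sub_distrib]

theorem conv_zero_right (f : G → ℂ) : conv f 0 = 0 := by
  funext x
  simp [conv]

theorem lam_ceq (hM : M.IsPrime) (ψ : IrrCharacter G) {f g : G → ℂ} (hf : IsClassFunction G f)
    (hg : IsClassFunction G g) (h : CEq M f g) :
    MemLocalIdeal M (lam (ψ : G → ℂ) f - lam (ψ : G → ℂ) g) := by
  rw [← lam_sub]
  exact memLI_lam hM ψ.2 (fun a k => by simp [hf a k, hg a k]) h

theorem lam_zero (χ : G → ℂ) : lam χ 0 = 0 := by simp [lam]

/-- An idempotent of the centre modulo `M`. -/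
def IsModIdem (M : Ideal AlgInt) (f : G → ℂ) : Prop :=
  IsIntClassFun M f ∧ CEq M (conv f f) f

theorem IsModIdem.lam_cases (hM : M.IsPrime) {f : G → ℂ} (h : IsModIdem M f) (ψ : IrrCharacter G) :
    MemLocalIdeal M (lam (ψ : G → ℂ) f) ∨ MemLocalIdeal M (lam (ψ : G → ℂ) f - 1) := by
  have hR := memLR_lam hM ψ.2 h.1.1 h.1.2
  have h1 := lam_ceq hM ψ (intClassFun_conv hM h.1 h.1).1 h.1.1 h.2
  rw [lam_conv ψ.2 h.1.1 h.1.1,
    show lam (ψ : G → ℂ) f * lam (ψ : G → ℂ) f - lam (ψ : G → ℂ) f =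
      lam (ψ : G → ℂ) f * (lam (ψ : G → ℂ) f - 1) by ring] at h1
  exact memLI_mul_mem hM hR (memLR_sub hM hR (memLR_one hM)) h1

theorem IsModIdem.eq_zero (hM : IsPModular p M) {f : G → ℂ} (h : IsModIdem M f)
    (h0 : ∀ ψ : IrrCharacter G, MemLocalIdeal M (lam (ψ : G → ℂ) f)) : CEq M f 0 := by
  have hP := pmod_prime hM
  obtain ⟨n, hn⟩ := exists_cpow_memLI hM h.1 h0
  have hstab : ∀ k : ℕ, CEq M (cpow f (k + 1)) f := by
    intro k
    induction k with
    | zero =>
      rw [cpow, cpow, delta_conv]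
      exact CEq.refl hP f
    | succ k ih =>
      rw [cpow]
      exact (ih.conv hP (CEq.refl hP f) h.1.2 h.1.2).trans hP h.2
  intro x
  rw [Pi.zero_apply, sub_zero]
  exact memLI_congr hP (memLI_symm hP (hstab n x))
    (memLI_sum hP _ _ fun z _ => memLI_mul_right hP (hn z) (h.1.2 _))

theorem IsModIdem.mul (hM : M.IsPrime) {f g : G → ℂ} (hf : IsModIdem M f) (hg : IsModIdem M g) :
    IsModIdem M (Char.conv f g) := by
  refine ⟨intClassFun_conv hM hf.1 hg.1, ?_⟩
  have e : Char.conv (Char.conv f g) (Char.conv f g) =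
      Char.conv (Char.conv f f) (Char.conv g g) := by
    rw [conv_assoc, ← conv_assoc g f g, conv_comm g hf.1.1, conv_assoc f g g, ← conv_assoc]
  rw [e]
  exact hf.2.conv hM hg.2 hf.1.2 (intClassFun_conv hM hg.1 hg.1).2

theorem IsModIdem.compl (hM : M.IsPrime) {f : G → ℂ} (hf : IsModIdem M f) :
    IsModIdem M (delta - f) := by
  refine ⟨intClassFun_sub hM (intClassFun_delta hM) hf.1, fun x => ?_⟩
  rw [conv_sub_left, delta_conv, conv_sub_right, conv_comm f isClassFunction_delta, delta_conv]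
  simp only [Pi.sub_apply]
  convert hf.2 x using 1
  ring

/-- Idempotents with the same central characters agree modulo `M`. -/
theorem IsModIdem.ext (hM : IsPModular p M) {f g : G → ℂ} (hf : IsModIdem M f) (hg : IsModIdem M g)
    (h : ∀ ψ : IrrCharacter G, MemLocalIdeal M (lam (ψ : G → ℂ) f - lam (ψ : G → ℂ) g)) :
    CEq M f g := by
  have hP := pmod_prime hM
  have key : ∀ {a b : G → ℂ}, IsModIdem M a → IsModIdem M b →
      (∀ ψ : IrrCharacter G, MemLocalIdeal M (lam (ψ : G → ℂ) a - lam (ψ : G → ℂ) b)) →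
      CEq M a (Char.conv a b) := by
    intro a b ha hb hab
    have hd := (ha.mul hP (hb.compl hP)).eq_zero hM fun ψ => by
      rw [lam_conv ψ.2 ha.1.1 (intClassFun_sub hP (intClassFun_delta hP) hb.1).1, lam_sub,
        lam_delta ψ.2]
      rcases ha.lam_cases hP ψ with h0 | h1
      · exact memLI_mul_right hP h0 (memLR_sub hP (memLR_one hP) (memLR_lam hP ψ.2 hb.1.1 hb.1.2))
      · refine memLI_mul_left hP (memLR_lam hP ψ.2 ha.1.1 ha.1.2) (memLI_symm hP ?_)
        exact memLI_trans hP (memLI_symm hP (hab ψ)) h1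
    intro x
    have hx := hd x
    rw [Pi.zero_apply, sub_zero, conv_sub_right, conv_comm a isClassFunction_delta, delta_conv] at hx
    exact hx
  refine (key hf hg h).trans hP (CEq.trans hP ?_ ((key hg hf fun ψ => memLI_symm hP (h ψ)).symm hP))
  rw [conv_comm f hg.1.1]
  exact CEq.refl hP _

theorem conv_blockCoeff_ne (hM : M.IsPrime) {B B' : Set (IrrCharacter G)} (hB : IsPBlock M B)
    (hB' : IsPBlock M B') (hne : B ≠ B') : conv (blockCoeff B) (blockCoeff B') = 0 := by
  classical
  rw [classFun_eq_sum_idem (isClassFunction_conv (isClassFunction_blockCoeff B)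
    (isClassFunction_blockCoeff B'))]
  refine Finset.sum_eq_zero fun χ _ => ?_
  rw [lam_conv χ.2 (isClassFunction_blockCoeff B) (isClassFunction_blockCoeff B'), lam_blockCoeff,
    lam_blockCoeff]
  split_ifs with h h' <;>
    first | exact absurd (block_disjoint hM hB hB' h h') hne | simp

theorem blockCoeff_injective (hM : M.IsPrime) {B B' : Set (IrrCharacter G)} (hB : IsPBlock M B)
    (h : blockCoeff B = blockCoeff B') : B ⊆ B' := by
  classical
  intro χ hχ
  have h1 := congrArg (lam (χ : G → ℂ)) h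
  rw [lam_blockCoeff, lam_blockCoeff, if_pos hχ] at h1
  by_contra hn
  rw [if_neg hn] at h1
  exact one_ne_zero h1

theorem blockCoeff_inj (hM : M.IsPrime) {B B' : Set (IrrCharacter G)} (hB : IsPBlock M B)
    (hB' : IsPBlock M B') (h : blockCoeff B = blockCoeff B') : B = B' :=
  (blockCoeff_injective hM hB h).antisymm (blockCoeff_injective hM hB' h.symm)

theorem isModIdem_blockCoeff (hM : IsPModular p M) {B : Set (IrrCharacter G)} (hB : IsPBlock M B) :
    IsModIdem M (blockCoeff B) :=
  ⟨isIntClassFun_blockCoeff hM hB, by rw [conv_blockCoeff]; exact CEq.refl (pmod_prime hM) _⟩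

end Cfsg.Agent.Char
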