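import Cfsg.Agent.Lib.Char.IdemTrace
import Cfsg.Agent.Lib.Char.ModAlg

/-!
# The group algebra of a subgroup and an idempotent with unit trace

Embedding and restriction of coefficients; over the local ring a character with a unit value on a corner of the
group algebra has an idempotent of that corner with unit trace.
-/

set_option autoImplicit false
set_option linter.unusedSectionVars false

namespace Cfsg.Agent.Char.IdemSub

open Cfsg Module Polynomial IdemAlg
open scoped ComplexConjugate

universe u

variable {G : Type u} [Group G] [Fintype G] {M : Ideal AlgInt} {p : ℕ} {hP : M.IsPrime}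

/-- The map of group algebras of a homomorphism. -/
noncomputable def push {H : Type u} [Group H] (φ : H →* G) : OA hP H →ₐ[locRing hP] OA hP G :=
  MonoidAlgebra.mapDomainAlgHom (locRing hP) (locRing hP) φ

theorem push_gen {H : Type u} [Group H] (φ : H →* G) (h : H) :
    push φ (gen hP h) = gen hP (φ h) := by
  simp [push, gen]

theorem co_push {H : Type u} [Group H] (φ : H →* G) (hφ : Function.Injective φ) (x : OA hP H) (h : H) :
    co (push φ x) (φ h) = co x h := by
  simp [co, push, MonoidAlgebra.mapDomain, Finsupp.mapDomain_apply hφ]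

theorem co_push_not_mem {H : Type u} [Group H] (φ : H →* G) (x : OA hP H) {g : G}
    (hg : g ∉ Set.range φ) : co (push φ x) g = 0 := by
  simp [co, push, MonoidAlgebra.mapDomain, Finsupp.mapDomain_notin_range _ _ hg]

theorem trC_push {H : Type u} [Group H] [Fintype H] (φ : H →* G) (f : G → ℂ) (x : OA hP H) :
    trC f (push φ x) = trC (fun h => f (φ h)) x := by
  induction x using MonoidAlgebra.induction_linear with
  | zero => rw [map_zero, trC_zero, trC_zero]
  | add x y hx hy => rw [map_add, trC_add, trC_add, hx, hy]
  | single h r =>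
    have e : (MonoidAlgebra.single h r : OA hP H) = r • gen hP h := by
      simp [gen]
    rw [e, map_smul, trC_smul, trC_smul, push_gen, trC_gen, trC_gen]

/-- Restriction of coefficients to a subgroup. -/
noncomputable def res (H : Subgroup G) [Fintype H] (x : OA hP G) : OA hP H :=
  ofFun hP (fun h => co x (h : G)) fun h => memLR_co x _

theorem co_res (H : Subgroup G) [Fintype H] (x : OA hP G) (h : H) : co (res H x) h = co x (h : G) :=
  congrFun (co_ofFun _ _) h

/-- The block idempotent in the group algebra. -/
noncomputable def blockElt {H : Type u} [Group H] [Fintype H] (hM : IsPModular p M)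
    {f : Set (IrrCharacter H)} (hf : IsPBlock M f) : OA (pmod_prime hM) H :=
  ofFun (pmod_prime hM) (blockCoeff f) (memLR_blockCoeff hM hf)

section Block

variable {H : Type u} [Group H] [Fintype H] (hM : IsPModular p M) {f : Set (IrrCharacter H)}
  (hf : IsPBlock M f)

theorem co_blockElt : co (blockElt hM hf) = blockCoeff f := co_ofFun _ _

theorem commute_blockElt (x : OA (pmod_prime hM) H) : Commute (blockElt hM hf) x := by
  refine ext_co fun h => ?_
  rw [co_mul, co_mul, co_blockElt, conv_comm _ (isClassFunction_blockCoeff f)]

theorem isIdem_blockElt : IsIdempotentElem (blockElt hM hf) := by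
  refine ext_co fun h => ?_
  rw [co_mul, co_blockElt, conv_blockCoeff]

theorem trC_gen_mul_blockElt (ξ : IrrCharacter H) (h : H) :
    trC (ξ : H → ℂ) (gen (pmod_prime hM) h * blockElt hM hf) =
      lam (ξ : H → ℂ) (blockCoeff f) * (ξ : H → ℂ) h := by
  rw [trC_gen_mul, co_blockElt, ← sum_mul_shift ξ.2 (isClassFunction_blockCoeff f) h]
  refine Finset.sum_congr rfl fun k _ => congrArg _ ?_
  rw [← isClassFunction_character (irr_isCharacter ξ.2) (h * k) h⁻¹]
  congr 1
  group

end Block

theorem memLI_eval_congr {x : OA hP G} {A B : (locRing hP)[X]}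
    (h : ∀ i, MemLocalIdeal M ((A.coeff i - B.coeff i : locRing hP) : ℂ)) (g : G) :
    MemLocalIdeal M (co (aeval x A - aeval x B) g) := by
  rw [← map_sub, aeval_eq_sum_range, co_sum, Finset.sum_apply]
  refine memLI_sum hP _ _ fun i _ => ?_
  rw [co_smul, Pi.smul_apply, smul_eq_mul, coeff_sub]
  exact memLI_mul_right hP (h i) (memLR_co _ g)

theorem coeff_congr_of_map {A B : (locRing hP)[X]} (h : A.map (redHom hP) = B.map (redHom hP)) (i : ℕ) :
    MemLocalIdeal M ((A.coeff i - B.coeff i : locRing hP) : ℂ) := by
  have := congrArg (fun q => q.coeff i) h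
  simp only [coeff_map, redHom_apply] at this
  rw [AddSubgroupClass.coe_sub]
  exact (red_eq_iff hP (A.coeff i).2 (B.coeff i).2).mp this

/-- The trace of an element nilpotent modulo `M` lies in the local ideal. -/
theorem trC_memLI_of_nilpotent {χ : G → ℂ} (hχ : IsCharacter G χ) (n : OA hP G) (N : ℕ)
    (h : ∀ g, MemLocalIdeal M (co (n ^ N) g)) : MemLocalIdeal M (trC χ n) := by
  classical
  obtain ⟨m, ρ, rfl⟩ := hχ
  set L := Algebra.leftMulMatrix (basis hP G) (n ^ N)
  set P := L.charpoly with hPd
  have hPm : P.Monic := Matrix.charpoly_monic L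
  have hann : aeval (n ^ N) P = 0 := Algebra.leftMulMatrix_injective (basis hP G) (by
    rw [← aeval_algHom_apply, map_zero]
    exact Matrix.aeval_self_charpoly L)
  have hred : P.map (redHom hP) = X ^ Fintype.card G := by
    have e : L.map (redHom hP) = 0 := by
      ext i j
      rw [Matrix.map_apply, Matrix.zero_apply, redHom_apply]
      refine (red_eq_zero_iff hP (Subtype.prop _)).mpr ?_
      have hL : ((L i j : locRing hP) : ℂ) = co (n ^ N) (i * j⁻¹) := by
        rw [← co_mul_gen]
        simp only [L, Algebra.leftMulMatrix_eq_repr_mul, basis, Basis.coe_ofRepr]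
        rfl
      rw [hL]
      exact h _
    rw [hPd, ← Matrix.charpoly_map, e, Matrix.charpoly_zero]
  set T := ev (hP := hP) (ρ : G →* Module.End ℂ (Fin m → ℂ)) n with hT
  rw [trC_eq_trace, ← hT, Module.End.trace_eq_sum_roots_charpoly_of_splits (IsAlgClosed.splits _)]
  have key : ∀ μ ∈ (LinearMap.charpoly T).roots, MemLocalIdeal M μ := by
    intro μ hμ
    have hev : Module.End.HasEigenvalue T μ :=
      (Module.End.hasEigenvalue_iff_isRoot_charpoly T μ).mpr (mem_roots'.mp hμ).2
    obtain ⟨v, hv⟩ := hev.exists_hasEigenvector
    set Pc := P.map (locRing hP).subtype with hPc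
    have h0 : aeval T (Pc.comp (X ^ N)) = 0 := by
      rw [aeval_comp, map_pow, aeval_X, hT, ← map_pow, ← map_zero (ev (hP := hP)
        (ρ : G →* Module.End ℂ (Fin m → ℂ))), ← hann, aeval_eq_sum_range, aeval_eq_sum_range, map_sum,
        hPc, natDegree_map_eq_of_injective Subtype.val_injective]
      exact Finset.sum_congr rfl fun i _ => by simp [ev_smul, map_pow]
    have h1 := Module.End.aeval_apply_of_hasEigenvector (p := Pc.comp (X ^ N)) hv
    rw [h0, LinearMap.zero_apply, eval_comp, eval_pow, eval_X] at h1
    have h2 : Pc.eval (μ ^ N) = 0 := (smul_eq_zero.mp h1.symm).resolve_right hv.2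
    have hμN : MemLocalRing M (μ ^ N) := memLR_of_monic_root hP hPm (by rw [← eval_map]; exact h2)
    have h3 : MemLocalIdeal M ((μ ^ N) ^ Fintype.card G) := by
      have h4 : P.eval (⟨μ ^ N, hμN⟩ : locRing hP) = 0 := Subtype.ext (by
        have := eval_map_apply (p := P) (f := (locRing hP).subtype) (⟨μ ^ N, hμN⟩ : locRing hP)
        rw [Subring.coe_subtype] at this
        exact this.symm.trans h2)
      have h5 := congrArg (redHom hP) h4
      rw [← eval_map_apply, hred, map_zero, eval_pow, eval_X, ← map_pow, redHom_apply] at h5
      have := (red_eq_zero_iff hP (Subtype.prop _)).mp h5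
      simpa using this
    rcases Nat.eq_zero_or_pos N with rfl | hN
    · rw [pow_zero, one_pow] at h3
      exact absurd h3 (memLI_one_iff hP)
    · have hμ1 : MemLocalRing M μ := by
        refine memLR_of_monic_root hP (f := X ^ N - C ⟨μ ^ N, hμN⟩) (monic_X_pow_sub_C _ hN.ne') ?_
        simp
      exact memLI_pow_mem hP hμ1 N (memLI_pow_mem hP hμN _ h3)
  refine Multiset.sum_induction _ _ (fun _ _ => memLI_add hP) (memLI_zero hP) key

open scoped Classical in
/-- A corner on which a character has a unit trace has an idempotent with a unit trace. -/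
theorem exists_idem_unit {χ : G → ℂ} (hχ : IsCharacter G χ) {y : OA hP G}
    (hy : ¬ MemLocalIdeal M (trC χ y)) :
    ∃ u : OA hP G, IsIdempotentElem u ∧ (∃ f : (locRing hP)[X], u = y * aeval y f) ∧
      ¬ MemLocalIdeal M (trC χ u) := by
  by_contra hno
  push Not at hno
  refine hy ?_
  suffices key : ∀ (n : ℕ) (w : OA hP G) (s : Multiset (locRing hP)),
      (∃ f : (locRing hP)[X], w = y * aeval y f) →
      aeval w (s.map fun a => X - C a).prod = 0 →
      (s.filter fun a => ¬ MemLocalIdeal M ((a : locRing hP) : ℂ)).card = n →
      MemLocalIdeal M (trC χ w) by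
    obtain ⟨P, hPm, hPy⟩ := exists_monic y
    obtain ⟨s, rfl⟩ := IdemLift.exists_roots hP hPm
    exact key _ y s ⟨1, by rw [map_one, mul_one]⟩ hPy rfl
  intro n
  induction n using Nat.strong_induction_on with
  | _ n ih =>
    intro w s hw hws hn
    by_cases hall : ∀ a ∈ s, MemLocalIdeal M ((a : locRing hP) : ℂ)
    · refine trC_memLI_of_nilpotent hχ w s.card fun g => ?_
      have h := memLI_eval_congr (x := w) (A := X ^ s.card) (B := (s.map fun a => X - C a).prod)
        (coeff_congr_of_map ?_) g
      · rwa [map_pow, aeval_X, hws, sub_zero] at h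
      · rw [Polynomial.map_pow, map_X, Polynomial.map_multiset_prod, Multiset.map_map]
        rw [Multiset.map_congr rfl (g := fun _ => (X : (Res hP)[X])) fun a ha => ?_, Multiset.map_const',
          Multiset.prod_replicate]
        simp [redHom_apply, (red_eq_zero_iff hP (Subtype.prop _)).mpr (hall a ha)]
    push Not at hall
    obtain ⟨a, ha, hau⟩ := hall
    set q : locRing hP → Prop := fun b => MemLocalIdeal M (((b : locRing hP) : ℂ) - (a : ℂ)) with hq
    set A := ((s.filter q).map fun b => X - C b).prod with hA
    set B := ((s.filter fun b => ¬ q b).map fun b => X - C b).prod * X with hB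
    have hAB' : (s.map fun b => X - C b).prod * X = A * B := by
      rw [hA, hB, ← mul_assoc, ← Multiset.prod_add, ← Multiset.map_add, Multiset.filter_add_not]
    have hunit : ∀ b d : locRing hP, q b → ¬ q d → IsUnit (b - d) := by
      intro b d hb hd
      refine IdemLift.isUnit_of_not_mem hP fun h => hd ?_
      have := memLI_sub hP hb h
      simpa [hq] using this
    have hAB : IsCoprime A B := by
      have key : ∀ (t : Multiset (locRing hP)) (C0 : (locRing hP)[X]),
          (∀ b ∈ t, IsCoprime (X - C b) C0) → IsCoprime (t.map fun b => X - C b).prod C0 := by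
        intro t C0
        induction t using Multiset.induction_on with
        | empty => intro _; simpa using isCoprime_one_left
        | cons b t ih =>
          intro h
          rw [Multiset.map_cons, Multiset.prod_cons]
          exact (h b (Multiset.mem_cons_self b t)).mul_left (ih fun d hd => h d (Multiset.mem_cons_of_mem hd))
      refine key _ _ fun b hb => IsCoprime.mul_right ((key _ _ fun d hd => ?_).symm) ?_
      · exact (isCoprime_X_sub_C_of_isUnit_sub (hunit b d (Multiset.mem_filter.mp hb).2
          (Multiset.mem_filter.mp hd).2)).symm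
      · have := isCoprime_X_sub_C_of_isUnit_sub (hunit b 0 (Multiset.mem_filter.mp hb).2
          (fun h => hau (by simpa [hq] using memLI_neg hP h)))
        simpa using this
    obtain ⟨u, v, huv⟩ := hAB
    set E := v * B with hE
    have hEE : (s.map fun b => X - C b).prod ∣ E * (E - 1) := by
      refine ⟨X * (-(v * u)), ?_⟩
      rw [← mul_assoc _ X, hAB', hE]
      linear_combination (v * B) * huv
    set e := aeval w E with he
    have hei : IsIdempotentElem e := IdemLift.idem_of_dvd hEE hws
    have hcorner : ∀ F : (locRing hP)[X], X ∣ F → ∃ f : (locRing hP)[X], aeval w F = y * aeval y f := by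
      rintro F ⟨F', rfl⟩
      obtain ⟨f, rfl⟩ := hw
      refine ⟨f * (F'.comp (X * f)), ?_⟩
      rw [map_mul, aeval_X, map_mul, aeval_comp, map_mul, aeval_X, mul_assoc]
    have hXE : X ∣ E := by rw [hE, hB, ← mul_assoc]; exact dvd_mul_left _ _
    -- the three pieces
    have h1 : MemLocalIdeal M (trC χ e) := by
      obtain ⟨f, hf⟩ := hcorner E hXE
      exact hno e hei ⟨f, he.trans hf⟩
    have hAe : aeval w (A * E) = 0 := by
      rw [hE, show A * (v * B) = (s.map fun b => X - C b).prod * (X * v) by
        rw [← mul_assoc _ X, hAB']; ring, map_mul, hws, zero_mul]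
    set k := (s.filter q).card with hk
    have hk0 : k ≠ 0 := (Multiset.card_pos_iff_exists_mem.mpr ⟨a, Multiset.mem_filter.mpr
      ⟨ha, by simp only [hq, sub_self]; exact memLI_zero hP⟩⟩).ne'
    have h2 : MemLocalIdeal M (trC χ (aeval w ((X - C a) * E))) := by
      refine trC_memLI_of_nilpotent hχ _ k fun g => ?_
      have hp : aeval w ((X - C a) * E) ^ k = aeval w ((X - C a) ^ k * E) := by
        obtain ⟨k', hk'⟩ := Nat.exists_eq_succ_of_ne_zero hk0
        rw [← map_pow, mul_pow, map_mul, map_mul, map_pow (aeval w) E, ← he, hk', hei.pow_succ_eq]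
      rw [hp]
      have h := memLI_eval_congr (x := w) (A := (X - C a) ^ k * E) (B := A * E) (coeff_congr_of_map ?_) g
      · rwa [hAe, sub_zero] at h
      · rw [Polynomial.map_mul (p := (X - C a) ^ k) (q := E), Polynomial.map_mul (p := A) (q := E), Polynomial.map_pow,
          hA, Polynomial.map_multiset_prod,
          Multiset.map_map, Multiset.map_congr rfl (g := fun _ => (X - C a).map (redHom hP)) fun b hb => ?_,
          Multiset.map_const', Multiset.prod_replicate]
        have : redHom hP b = redHom hP a := by
          rw [redHom_apply, redHom_apply]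
          exact (red_eq_iff hP b.2 a.2).mpr (Multiset.mem_filter.mp hb).2
        simp [this]
    have h3 : MemLocalIdeal M (trC χ (aeval w (X * (1 - E)))) := by
      refine ih _ ?_ (aeval w (X * (1 - E))) (0 ::ₘ s.filter fun b => ¬ q b) ?_ ?_ rfl
      · rw [← hn, Multiset.filter_cons_of_neg _ (fun h => h (by simpa using memLI_zero hP))]
        refine Multiset.card_lt_card (lt_of_le_of_ne ?_ fun hh => ?_)
        · exact Multiset.filter_le_filter _ (Multiset.filter_le _ _)
        · have hm : a ∈ s.filter fun b => ¬ MemLocalIdeal M ((b : locRing hP) : ℂ) :=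
            Multiset.mem_filter.mpr ⟨ha, hau⟩
          rw [← hh, Multiset.mem_filter, Multiset.mem_filter] at hm
          exact hm.1.2 (by simp only [hq, sub_self]; exact memLI_zero hP)
      · exact hcorner _ (dvd_mul_right _ _)
      · rw [Multiset.map_cons, Multiset.prod_cons, show (X - C 0) * ((s.filter fun b => ¬ q b).map fun b => X - C b).prod = B by
          rw [hB, map_zero, sub_zero, mul_comm], ← aeval_comp]
        have hfact : X - X * (1 - E) ∣ B - B.comp (X * (1 - E)) := by
          have := sub_dvd_eval_sub (R := (locRing hP)[X]) X (X * (1 - E)) (B.map C)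
          rwa [eval_map, eval_map, ← Polynomial.comp, ← Polynomial.comp, comp_X] at this
        -- on the complement of `e` the element satisfies `B`
        have hXdB : X ∣ B := dvd_mul_left _ _
        obtain ⟨B', hB'⟩ := hXdB
        have hc : aeval w (B.comp (X * (1 - E))) = aeval w ((1 - E) * B.comp (X * (1 - E))) := by
          obtain ⟨c, hc'⟩ := hEE
          rw [hB', mul_comp, X_comp, show (1 - E) * (X * (1 - E) * B'.comp (X * (1 - E))) =
            X * (1 - E) * B'.comp (X * (1 - E)) + E * (E - 1) * (X * B'.comp (X * (1 - E))) by ring,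
            map_add (aeval w), hc', map_mul (aeval w) (_ * c), map_mul (aeval w) _ c, hws, zero_mul, zero_mul,
            add_zero]
        obtain ⟨D, hD⟩ := hfact
        have h0 : aeval w ((1 - E) * B) = 0 := by
          have e1 : 1 - E = u * A := by rw [hE]; linear_combination -huv
          rw [e1, mul_assoc, ← hAB', show u * ((s.map fun b => X - C b).prod * X) =
            (s.map fun b => X - C b).prod * (u * X) by ring, map_mul, hws, zero_mul]
        rw [hc, show (1 - E) * B.comp (X * (1 - E)) = (1 - E) * B - (1 - E) * E * (X * D) by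
          linear_combination -(1 - E) * hD, map_sub, h0, zero_sub, neg_eq_zero, map_mul,
          show (1 - E) * E = -(E * (E - 1)) by ring, map_neg]
        obtain ⟨c, hc'⟩ := hEE
        rw [hc', map_mul, hws, zero_mul, neg_zero, zero_mul]
    have e : trC χ w = trC χ (aeval w ((X - C a) * E)) + (a : ℂ) * trC χ e +
        trC χ (aeval w (X * (1 - E))) := by
      rw [← trC_smul, ← trC_add, ← trC_add, he, ← map_smul, ← map_add, ← map_add, smul_eq_C_mul,
        show (X - C a) * E + C a * E + X * (1 - E) = X by ring, aeval_X]
    rw [e]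
    exact memLI_add hP (memLI_add hP h2 (memLI_mul_left hP a.2 h1)) h3

end Cfsg.Agent.Char.IdemSub
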