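import Cfsg.Agent.Lib.Char.PermImage
import Cfsg.Agent.Lib.Char.Osima
import Cfsg.Agent.Lib.Char.FirstMain

/-!
# A block with the least possible sum of squares of degrees is nilpotent

For such a block the block ideal is a transitive permutation module for `S × S`, `S` a Sylow group over a
defect group `D`, so elements of `D` conjugate in `G` are conjugate in `S`.  An automorphism of order prime
to `p` of a subgroup of `D` keeping every `S`-class is trivial.
-/

set_option autoImplicit false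
set_option linter.unusedSectionVars false
set_option linter.style.haveILetI false

open Cfsg

namespace Cfsg.Agent.Char.MinimalSquare

universe u

variable {G : Type u} [Group G] [Fintype G] {M : Ideal AlgInt} {p : ℕ} {B : Set (IrrCharacter G)}

/-- A regular element normalizing `Q` and keeping the classes of a `p`-group centralizes `Q`. -/
theorem centralizes_of_classes (hp : p.Prime) {S Q : Subgroup G} (hS : IsPGroup p S) (hQS : Q ≤ S) {x : G}
    (hx : x ∈ Subgroup.normalizer (Q : Set G)) (hreg : ¬ p ∣ orderOf x)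
    (hcls : ∀ q ∈ Q, ∃ s ∈ S, x * q * x⁻¹ = s * q * s⁻¹) : x ∈ Subgroup.centralizer (Q : Set G) := by
  haveI := Fact.mk hp
  obtain ⟨n, hn⟩ := hS.isNilpotent.nilpotent'
  have key : ∀ i, ∀ q ∈ Q, ∀ hq : q ∈ S, (⟨q, hq⟩ : S) ∈ Subgroup.upperCentralSeries S i → x * q * x⁻¹ = q := by
    intro i
    induction i with
    | zero =>
      intro q _ hq h
      rw [Subgroup.upperCentralSeries_zero, Subgroup.mem_bot] at h
      rw [show q = 1 from congrArg Subtype.val h, mul_one, mul_inv_cancel]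
    | succ i ih =>
      intro q hqQ hq h
      obtain ⟨s, hs, hxs⟩ := hcls q hqQ
      set z : G := q⁻¹ * (s * q * s⁻¹) with hz
      have hzQ : z ∈ Q := Q.mul_mem (Q.inv_mem hqQ) (hxs ▸ (Subgroup.mem_normalizer_iff.mp hx q).mp hqQ)
      have hzi : (⟨z, hQS hzQ⟩ : S) ∈ Subgroup.upperCentralSeries S i := by
        have h2 := Subgroup.mem_upperCentralSeries_succ_iff.mp
          ((Subgroup.upperCentralSeries S (i + 1)).inv_mem h) ⟨s, hs⟩
        convert h2 using 1
        ext
        simp [hz, commutatorElement_def, mul_assoc]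
      have hfix := ih z hzQ (hQS hzQ) hzi
      have hqz : x * q * x⁻¹ = q * z := by rw [hxs, hz]; group
      have hpow : ∀ m : ℕ, x ^ m * q * (x ^ m)⁻¹ = q * z ^ m := by
        intro m
        induction m with
        | zero => simp
        | succ m ihm =>
          have hc : Commute x z := mul_inv_eq_iff_eq_mul.mp hfix
          calc x ^ (m + 1) * q * (x ^ (m + 1))⁻¹ = x * (x ^ m * q * (x ^ m)⁻¹) * x⁻¹ := by
                rw [pow_succ']; group
            _ = x * (q * z ^ m) * x⁻¹ := by rw [ihm]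
            _ = x * q * x⁻¹ * (x * z ^ m * x⁻¹) := by group
            _ = q * z ^ (m + 1) := by
                rw [hqz, show x * z ^ m * x⁻¹ = z ^ m from by rw [(hc.pow_right m).eq, mul_inv_cancel_right],
                  mul_assoc, ← pow_succ']
      have h1 := hpow (orderOf x)
      rw [pow_orderOf_eq_one, one_mul, inv_one, mul_one, eq_comm, mul_eq_left] at h1
      obtain ⟨k, hk⟩ := hS ⟨z, hQS hzQ⟩
      have hk' : z ^ p ^ k = 1 := congrArg Subtype.val hk
      have hz1 : z = 1 := by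
        have h2 : orderOf z ∣ Nat.gcd (orderOf x) (p ^ k) :=
          Nat.dvd_gcd (orderOf_dvd_of_pow_eq_one h1) (orderOf_dvd_of_pow_eq_one hk')
        rw [Nat.Coprime.gcd_eq_one (Nat.Coprime.pow_right k ((hp.coprime_iff_not_dvd.mpr hreg).symm)),
          Nat.dvd_one, orderOf_eq_one_iff] at h2
        exact h2
      rw [hqz, hz1, mul_one]
  intro q hq
  have h := key n q hq (hQS hq) (hn ▸ Subgroup.mem_top _)
  exact (mul_inv_eq_iff_eq_mul.mp h).symm

open scoped Classical in
/-- Elements of a defect group conjugate in `G` are conjugate in a Sylow group over it. -/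
theorem sylow_conj (hM : IsPModular p M) (hB : IsPBlock M B) {D : Subgroup G} (hD : IsDefectGroup p M B D)
    {a d : ℕ} (hd : Nat.card D = p ^ d) (S : Subgroup G) (hS : Nat.card S = p ^ a) (hDS : D ≤ S)
    (hmin : ∑ᶠ χ ∈ B, charDegree (χ : G → ℂ) ^ 2 = p ^ (2 * a - d)) {u v : G} (hu : u ∈ D) (hv : v ∈ S)
    (hc : ∃ c, c * u * c⁻¹ = v) : ∃ s ∈ S, s * u * s⁻¹ = v := by
  have hP := pmod_prime hM
  have hp := hM.1
  haveI := Fact.mk hp
  obtain ⟨g₀, hg, hgD⟩ := (isDefectGroup_iff B D).mp hD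
  letI : MulAction (S × S) G :=
    { smul := fun g x => (g.1 : G) * x * (g.2 : G)⁻¹
      one_smul := fun x => by
        show ((1 : S) : G) * x * ((1 : S) : G)⁻¹ = x
        simp
      mul_smul := fun g h x => by
        show ((g.1 * h.1 : S) : G) * x * ((g.2 * h.2 : S) : G)⁻¹ =
          (g.1 : G) * ((h.1 : G) * x * (h.2 : G)⁻¹) * (g.2 : G)⁻¹
        simp only [Subgroup.coe_mul, mul_inv_rev, mul_assoc] }
  have hsm : ∀ (g : S × S) (x : G), g • x = (g.1 : G) * x * (g.2 : G)⁻¹ := fun _ _ => rfl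
  let diag : S →* S × S := (MonoidHom.id S).prod (MonoidHom.id S)
  set T : Subgroup (S × S) := (D.subgroupOf S).map diag with hT
  have hmT : ∀ {g : S × S}, g ∈ T ↔ g.1 = g.2 ∧ (g.1 : G) ∈ D := by
    intro g
    constructor
    · rintro ⟨s, hs, rfl⟩
      exact ⟨rfl, hs⟩
    · rintro ⟨h1, h2⟩
      exact ⟨g.1, h2, Prod.ext rfl h1⟩
  have hcardT : Nat.card T = p ^ d := by
    rw [hT, Subgroup.card_map_of_injective (fun x y h => congrArg Prod.fst h),
      Nat.card_congr (Subgroup.subgroupOfEquivOfLe hDS).toEquiv, hd]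
  have hΓ : IsPGroup p (S × S) := IsPGroup.of_card (n := a + a) (by rw [Nat.card_prod, hS, pow_add])
  have hidx : Nat.card ((S × S) ⧸ T) = p ^ (2 * a - d) := by
    have h := Subgroup.card_eq_card_quotient_mul_card_subgroup T
    rw [Nat.card_prod, hS, hcardT, ← pow_add] at h
    have hle : d ≤ a := (Nat.pow_le_pow_iff_right hp.one_lt).mp (by rw [← hd, ← hS]; exact Subgroup.card_le_of_le hDS)
    rw [show a + a = (2 * a - d) + d by omega, pow_add] at h
    exact (mul_right_cancel₀ (pow_ne_zero d hp.ne_zero) h).symm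
  set E : G → G → ℂ := fun x y => blockCoeff B (x * y⁻¹) with hE
  have hcl := isClassFunction_blockCoeff B
  have heq : ∀ (g : S × S) x y, E (g • x) (g • y) = E x y := fun g x y => by
    simp only [hE, hsm]
    rw [← hcl (x * y⁻¹) (g.1 : G)]
    congr 1
    group
  have hid : ∀ x y, ∑ l, E x l * E l y = E x y := fun x y => by
    simp only [hE]
    conv_rhs => rw [← conv_blockCoeff B]
    simp only [conv]
    refine Fintype.sum_equiv ((Equiv.inv G).trans (Equiv.mulLeft x)) _ _ fun l => ?_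
    simp [mul_assoc]
  have hne : ∃ x y : G, T ≤ MulAction.stabilizer (S × S) x ∧ T ≤ MulAction.stabilizer (S × S) y ∧
      ¬ MemLocalIdeal M (E x y) := by
    refine ⟨g₀, 1, fun g hg' => ?_, fun g hg' => ?_, by simpa [hE] using hg.2.1⟩
    · obtain ⟨h1, h2⟩ := hmT.mp hg'
      rw [MulAction.mem_stabilizer_iff, hsm, ← h1, mul_inv_eq_iff_eq_mul]
      exact Subgroup.mem_centralizer_singleton_iff.mp (hgD.le h2)
    · rw [MulAction.mem_stabilizer_iff, hsm, (hmT.mp hg').1, mul_one, mul_inv_cancel]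
  have hbig : ∀ T' : Subgroup (S × S), T < T' → ∀ x y : G, T' ≤ MulAction.stabilizer (S × S) x →
      T' ≤ MulAction.stabilizer (S × S) y → MemLocalIdeal M (E x y) := by
    intro T' hlt x y hx hy
    by_contra hno
    set π : T' →* G := (S.subtype.comp (MonoidHom.fst S S)).comp T'.subtype with hπ
    have hπi : Function.Injective π := by
      refine (injective_iff_map_eq_one π).mpr fun t ht => ?_
      have h1 : ((t : S × S).1 : G) = 1 := ht
      have h2 : (t : S × S) • x = x := hx t.2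
      rw [hsm, h1, one_mul, mul_eq_left, inv_eq_one] at h2
      exact Subtype.ext (Prod.ext (Subtype.ext h1) (Subtype.ext h2))
    have hQp : IsPGroup p π.range :=
      (hΓ.to_subgroup T').of_surjective π.rangeRestrict π.rangeRestrict_surjective
    have hcen : x * y⁻¹ ∈ Subgroup.centralizer (π.range : Set G) := by
      rintro _ ⟨t, rfl⟩
      have h1 : (t : S × S) • x = x := hx t.2
      have h2 : (t : S × S) • y = y := hy t.2
      rw [hsm, mul_inv_eq_iff_eq_mul] at h1 h2
      show ((t : S × S).1 : G) * (x * y⁻¹) = x * y⁻¹ * ((t : S × S).1 : G)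
      rw [← mul_assoc, h1, eq_mul_inv_of_mul_eq h2, mul_assoc, mul_assoc]
      group
    obtain ⟨t, ht⟩ := le_defect_of_detect hM hB hg hgD hQp hcen hno
    have h3 := Subgroup.card_le_of_le ht
    rw [Subgroup.card_map_of_injective (MulEquiv.injective _), hd,
      ← Nat.card_congr (MonoidHom.ofInjective hπi).toEquiv] at h3
    exact hlt.ne (Subgroup.eq_of_le_of_card_ge hlt.le (h3.trans (le_of_eq hcardT.symm)))
  have htr : ∑ x, E x x = (Nat.card ((S × S) ⧸ T) : ℂ) := by
    simp only [hE, mul_inv_cancel, Finset.sum_const, Finset.card_univ, nsmul_eq_mul]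
    rw [hidx, ← hmin, blockCoeff, ← mul_assoc, ← Nat.card_eq_fintype_card,
      mul_inv_cancel₀ (Nat.cast_ne_zero.mpr Nat.card_pos.ne'), one_mul, finsum_mem_eq_toFinset_sum,
      finsum_mem_eq_toFinset_sum, Nat.cast_sum]
    refine Finset.sum_congr rfl fun χ _ => ?_
    rw [Nat.cast_pow, charDegree_eq_deg, ← char_one_eq_deg (irr_isCharacter χ.2), sq]
    congr 1
    rw [char_one_eq_deg (irr_isCharacter χ.2), Complex.conj_natCast]
  have hfix := fun g => PermImage.trace_eq_fixed hM hΓ E (fun x y => memLR_blockCoeff hM hB _) heq hid hne hbig htr g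
  obtain ⟨c, hc⟩ := hc
  have huS := hDS hu
  have h1 := hfix (⟨u, huS⟩, ⟨v, hv⟩)
  have h2 := hfix (⟨u, huS⟩, ⟨u, huS⟩)
  have e : ∑ x, E (((⟨u, huS⟩, ⟨v, hv⟩) : S × S)⁻¹ • x) x = ∑ x, E (((⟨u, huS⟩, ⟨u, huS⟩) : S × S)⁻¹ • x) x := by
    refine Fintype.sum_equiv (Equiv.mulRight c) _ _ fun x => ?_
    simp only [hE, hsm, Prod.inv_mk, Equiv.coe_mulRight, ← hc]
    congr 1
    simp only [Subgroup.coe_inv]
    group
  have hpos : 0 < Nat.card {q : (S × S) ⧸ T // ((⟨u, huS⟩, ⟨u, huS⟩) : S × S) • q = q} := by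
    have : Nonempty {q : (S × S) ⧸ T // ((⟨u, huS⟩, ⟨u, huS⟩) : S × S) • q = q} :=
      ⟨⟨((1 : S × S) : (S × S) ⧸ T), by
        show (((⟨u, huS⟩, ⟨u, huS⟩) * 1 : S × S) : (S × S) ⧸ T) = _
        rw [QuotientGroup.eq, mul_one, mul_one]
        exact T.inv_mem (hmT.mpr ⟨rfl, hu⟩)⟩⟩
    exact Nat.card_pos
  rw [e, h2, Nat.cast_inj] at h1
  obtain ⟨⟨q, hq⟩⟩ := (Nat.card_pos_iff.mp (h1 ▸ hpos)).1
  obtain ⟨w, rfl⟩ := QuotientGroup.mk_surjective q
  change ((((⟨u, huS⟩, ⟨v, hv⟩) : S × S) * w : S × S) : (S × S) ⧸ T) = (w : (S × S) ⧸ T) at hq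
  obtain ⟨h3, -⟩ := hmT.mp (QuotientGroup.eq.mp hq.symm)
  refine ⟨(w.2 * w.1⁻¹ : S), (w.2 * w.1⁻¹ : S).2, ?_⟩
  have h4 := congrArg Subtype.val h3
  simp only [Prod.fst_mul, Prod.snd_mul, Prod.fst_inv, Prod.snd_inv, Subgroup.coe_mul, Subgroup.coe_inv] at h4
  simp only [Subgroup.coe_mul, Subgroup.coe_inv]
  calc (w.2 : G) * (w.1 : G)⁻¹ * u * ((w.2 : G) * (w.1 : G)⁻¹)⁻¹
      = (w.2 : G) * ((w.1 : G)⁻¹ * (u * w.1)) * (w.2 : G)⁻¹ := by group
    _ = v := by rw [h4]; group

/-- The least square sum forces nilpotency. -/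
theorem nilpotent (hM : IsPModular p M) (hB : IsPBlock M B) {D : Subgroup G} (hD : IsDefectGroup p M B D)
    {a d : ℕ} (ha : (Nat.card G).factorization p = a) (hd : Nat.card D = p ^ d)
    (hmin : ∑ᶠ χ ∈ B, charDegree (χ : G → ℂ) ^ 2 = p ^ (2 * a - d)) : IsNilpotentBlock p M B := by
  haveI := Fact.mk hM.1
  refine ⟨hB, fun Q f hQ x hx _ hreg => ?_⟩
  obtain ⟨t, ht⟩ := card_pairOf_le hM hD hQ
  have hD' := isDefectGroup_conj hM hD t
  have hd' : Nat.card (D.map (MulAut.conj t).toMonoidHom) = p ^ d := by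
    rw [Subgroup.card_map_of_injective (MulEquiv.injective _), hd]
  obtain ⟨S, hS⟩ := (IsPGroup.of_card hd').exists_le_sylow
  refine centralizes_of_classes hM.1 S.isPGroup' (ht.trans hS) hx hreg fun q hq => ?_
  have hxq : x * q * x⁻¹ ∈ Q := (Subgroup.mem_normalizer_iff.mp hx q).mp hq
  obtain ⟨s, hs, he⟩ := sylow_conj hM hB hD' hd' (S : Subgroup G) (by rw [S.card_eq_multiplicity, ha]) hS hmin
    (ht hq) (hS (ht hxq)) ⟨x, rfl⟩
  exact ⟨s, hs, he.symm⟩

end Cfsg.Agent.Char.MinimalSquare
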