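import Cfsg.Agent.Lib.Char.Green
import Cfsg.Agent.Lib.Char.Height
import Cfsg.Agent.Lib.Char.DefectLocal
import Cfsg.Agent.Lib.Char.DegreeDvd
import Cfsg.Agent.Lib.Char.Clifford
import Mathlib

/-!
# Heights in a block with normal defect group
-/

set_option autoImplicit false
set_option linter.unusedSectionVars false

namespace Cfsg.Agent.Char

open Cfsg
open scoped ComplexConjugate

universe u

variable {G : Type u} [Group G] [Fintype G] {M : Ideal AlgInt} {p : ℕ}
  {B : Set (IrrCharacter G)}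

theorem height_zero_of_abelian_normal_defect (hM : IsPModular p M) (hB : IsPBlock M B)
    {D : Subgroup G} [D.Normal] (hD : IsDefectGroup p M B D)
    (hab : ∀ a ∈ D, ∀ c ∈ D, a * c = c * a) {χ : IrrCharacter G} (hχ : χ ∈ B) :
    blockHeight p B (χ : G → ℂ) = 0 := by
  have hp := Fact.mk hM.1
  rw [blockHeight_eq_zero_iff hχ]
  have h1 := dmin_le (p := p) hχ
  have h2 : (deg (χ : G → ℂ)).factorization p ≤ D.index.factorization p :=
    (Nat.factorization_le_iff_dvd (deg_pos χ.2).ne' Subgroup.index_ne_zero_of_finite).2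
      (deg_dvd_index_abelian_normal χ.2 D fun a b => Subtype.ext (hab a a.2 b b.2)) p
  have h3 := congrFun (congrArg DFunLike.coe (congrArg Nat.factorization D.card_mul_index)) p
  have h4 := dmin_add_defect (p := p) (block_nonempty (pmod_prime hM) hB)
  rw [Nat.factorization_mul Nat.card_pos.ne' Subgroup.index_ne_zero_of_finite,
    Finsupp.add_apply, card_defectGroup hM hB hD, hM.1.factorization_pow,
    Finsupp.single_eq_same] at h3
  rw [dexp] at *
  omega

/-- In a nonabelian `p`-group some character has degree divisible by `p`. -/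
theorem exists_irr_dvd_deg {D : Type u} [Group D] [Fintype D] (hp : p.Prime)
    (hD : IsPGroup p D) (hna : ¬ ∀ a b : D, a * b = b * a) :
    ∃ θ : IrrCharacter D, p ∣ deg (θ : D → ℂ) := by
  classical
  haveI := Fact.mk hp
  by_contra hno
  push Not at hno
  obtain ⟨n, hn⟩ := IsPGroup.iff_card.1 hD
  have hone : ∀ θ : IrrCharacter D, deg (θ : D → ℂ) = 1 := fun θ => by
    obtain ⟨k, -, hk⟩ := (Nat.dvd_prime_pow hp).1 (hn ▸ deg_dvd_card θ.2)
    rcases Nat.eq_zero_or_pos k with rfl | hk0
    · simpa using hk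
    · exact absurd (hk ▸ dvd_pow_self p hk0.ne') (hno θ)
  have hsum := sum_sq_deg (G := D)
  rw [Finset.sum_congr rfl (g := fun _ => (1 : ℂ)) (fun θ _ => by
    rw [char_one_eq_deg (irr_isCharacter θ.2), hone, Nat.cast_one, one_pow]), Finset.sum_const,
    nsmul_one, Nat.cast_inj, Finset.card_univ, ← Nat.card_eq_fintype_card, card_irr] at hsum
  have hbij := (Nat.bijective_iff_surjective_and_card (ConjClasses.mk : D → ConjClasses D)).2
    ⟨ConjClasses.mk_surjective, hsum.symm⟩
  refine hna fun a b => ?_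
  have := hbij.1 (ConjClasses.mk_eq_mk_iff_isConj.2 (isConj_iff.2 ⟨a, rfl⟩) :
    ConjClasses.mk b = ConjClasses.mk (a * b * a⁻¹))
  nth_rewrite 2 [this]
  group

/-- Every character of a normal `p`-subgroup lies under each block. -/
theorem exists_block_over (hM : IsPModular p M) (hB : IsPBlock M B) {D : Subgroup G} [D.Normal]
    [Fintype D] (hD : IsPGroup p D) (θ : IrrCharacter D) :
    ∃ χ ∈ B, classInner (fun n : D => (χ : G → ℂ) n) (θ : D → ℂ) ≠ 0 := by
  classical
  haveI := Fact.mk hM.1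
  by_contra hno
  push Not at hno
  let f : G → ℂ := fun g => ∑ χ ∈ bset B, (χ : G → ℂ) 1 * (χ : G → ℂ) g
  have hf0 : ∀ u : D, u ≠ 1 → f u = 0 := by
    intro u hu
    obtain ⟨k, hk⟩ := IsPGroup.iff_orderOf.1 hD u⁻¹
    have hk0 : k ≠ 0 := fun e => hu (inv_eq_one.1 (orderOf_eq_one_iff.1 (by rw [hk, e, pow_zero])))
    have hsing : p ∣ orderOf ((u⁻¹ : D) : G) := by
      rw [Subgroup.orderOf_coe, hk]
      exact dvd_pow_self p hk0
    have h := blockCoeff_eq_zero_of_singular hM hB hsing
    rw [blockCoeff, mul_eq_zero] at h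
    have h' := h.resolve_left (inv_ne_zero (Nat.cast_ne_zero.2 Nat.card_pos.ne'))
    rw [← h', finsum_mem_eq_sum_of_inter_support_eq (t := bset B) _
      (by ext χ; simp [mem_bset])]
    refine Finset.sum_congr rfl fun χ _ => ?_
    rw [InvMemClass.coe_inv, char_inv (irr_isCharacter χ.2), Complex.conj_conj]
  have h1 : classInner (fun n : D => f n) (θ : D → ℂ) = 0 := by
    have hfun : (fun n : D => f n) =
        ∑ χ ∈ bset B, ((χ : G → ℂ) 1) • fun n : D => (χ : G → ℂ) n := by
      funext n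
      simp [f]
    rw [hfun, classInner_sum_left]
    refine Finset.sum_eq_zero fun χ hχ => ?_
    rw [classInner_smul_left, hno χ (mem_bset.1 hχ), mul_zero]
  rw [classInner, mul_eq_zero] at h1
  have h2 := h1.resolve_left (inv_ne_zero (Nat.cast_ne_zero.2 Nat.card_pos.ne'))
  rw [Finset.sum_eq_single (1 : D) (fun u _ hu => by rw [hf0 u hu, zero_mul])
    (fun h => absurd (Finset.mem_univ _) h), mul_eq_zero] at h2
  rcases h2 with h2 | h2
  · have h3 : ((∑ χ ∈ bset B, deg (χ : G → ℂ) ^ 2 : ℕ) : ℂ) = 0 := by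
      rw [← h2]
      push_cast
      exact Finset.sum_congr rfl fun χ _ => by
        rw [show ((1 : G)) = 1 from rfl, char_one_eq_deg (irr_isCharacter χ.2), pow_two]
    obtain ⟨χ, hχ⟩ := block_nonempty (pmod_prime hM) hB
    have h4 := (Finset.sum_eq_zero_iff).1 (Nat.cast_eq_zero.1 h3) χ (mem_bset.2 hχ)
    exact (deg_pos χ.2).ne' (pow_eq_zero_iff two_ne_zero |>.1 h4)
  · exact irr_one_ne_zero θ.2 ((map_eq_zero (starRingEnd ℂ)).1 h2)

/-- A character over one of degree divisible by `p` vanishes modulo `M` on the centralizer. -/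
theorem memLI_char_centralizer (hM : IsPModular p M) {D : Subgroup G} [D.Normal] [Fintype D]
    {θ : IrrCharacter D} (hθ : p ∣ deg (θ : D → ℂ)) {χ : IrrCharacter G}
    (hχθ : classInner (fun n : D => (χ : G → ℂ) n) (θ : D → ℂ) ≠ 0) {y : G}
    (hy : y ∈ Subgroup.centralizer (D : Set G)) : MemLocalIdeal M ((χ : G → ℂ) y) := by
  classical
  set K : Subgroup G := D ⊔ Subgroup.zpowers y with hK
  haveI := Fintype.ofFinite K
  have hyK : y ∈ K := le_sup_right (Subgroup.mem_zpowers y) (a := D)
  have hDK : D ≤ K := le_sup_left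
  have hcent : (⟨y, hyK⟩ : K) ∈ Subgroup.center K := by
    have hle : K ≤ Subgroup.centralizer ({y} : Set G) :=
      sup_le (fun d hd => Subgroup.mem_centralizer_singleton_iff.2
        (Subgroup.mem_centralizer_iff.1 hy d hd))
        (by rw [Subgroup.zpowers_le]; exact Subgroup.mem_centralizer_singleton_iff.2 rfl)
    exact Subgroup.mem_center_iff.2 fun k =>
      Subtype.ext (Subgroup.mem_centralizer_singleton_iff.1 (hle k.2))
  obtain ⟨m, hm⟩ := exists_decomposition (isCharacter_comp K.subtype (irr_isCharacter χ.2))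
  have hval := congrFun hm ⟨y, hyK⟩
  simp only [Function.comp_apply, Subgroup.coe_subtype] at hval
  rw [hval]
  simp only [Finset.sum_apply, Pi.smul_apply, nsmul_eq_mul]
  refine memLI_sum (pmod_prime hM) _ _ fun ψ _ => ?_
  by_cases hm0 : m ψ = 0
  · rw [hm0, Nat.cast_zero, zero_mul]
    exact memLI_zero (pmod_prime hM)
  refine memLI_mul_left (pmod_prime hM) (memLR_natCast (pmod_prime hM) _) ?_
  -- the degree is divisible by `p`
  have hrestrict : IsCharacter D (fun n : D => (ψ : K → ℂ) (Subgroup.inclusion hDK n)) :=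
    isCharacter_comp (Subgroup.inclusion hDK) (irr_isCharacter ψ.2)
  obtain ⟨c, hc⟩ := exists_decomposition hrestrict
  have hpd : ∀ η : IrrCharacter D, c η ≠ 0 → p ∣ deg (η : D → ℂ) := by
    intro η hη
    have hin : classInner (fun n : D => (χ : G → ℂ) n) (η : D → ℂ) ≠ 0 := by
      have hfun : (fun n : D => (χ : G → ℂ) n) =
          ∑ φ : IrrCharacter K, (m φ : ℂ) •
            fun n : D => (φ : K → ℂ) (Subgroup.inclusion hDK n) := by
        funext n
        have h := congrFun hm (Subgroup.inclusion hDK n)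
        simp only [Function.comp_apply, Subgroup.coe_subtype, Subgroup.coe_inclusion] at h
        rw [h]
        simp [nsmul_eq_mul]
      choose k hk using fun φ : IrrCharacter K =>
        classInner_natCast (isCharacter_comp (Subgroup.inclusion hDK) (irr_isCharacter φ.2))
          (irr_isCharacter η.2)
      rw [hfun, classInner_sum_left]
      rw [Finset.sum_congr rfl (g := fun φ => ((m φ * k φ : ℕ) : ℂ)) (fun φ _ => by
        rw [classInner_smul_left, Nat.cast_mul, ← hk φ]; rfl), ← Nat.cast_sum, Nat.cast_ne_zero]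
      intro h0
      have h1 := (Finset.sum_eq_zero_iff).1 h0 ψ (Finset.mem_univ _)
      have h2 : k ψ = c η := by
        apply Nat.cast_injective (R := ℂ)
        rw [← hk ψ]
        exact decomposition_coeff c hc η
      rw [h2, mul_eq_zero] at h1
      exact h1.elim hm0 hη
    obtain ⟨g, hg⟩ := mem_cliffOrbit.1 (mem_cliffOrbit_of_constituent hχθ hin)
    have : deg (η : D → ℂ) = deg (θ : D → ℂ) := by
      apply Nat.cast_injective (R := ℂ)
      rw [← char_one_eq_deg (irr_isCharacter η.2), ← char_one_eq_deg (irr_isCharacter θ.2), ← hg,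
        irrComp_apply, map_one]
    rwa [this]
  have hψ1 : (ψ : K → ℂ) 1 = ((∑ η : IrrCharacter D, c η * deg (η : D → ℂ) : ℕ) : ℂ) := by
    have h := congrFun hc 1
    simp only [map_one] at h
    rw [h]
    push_cast
    simp only [Finset.sum_apply, Pi.smul_apply, nsmul_eq_mul]
    exact Finset.sum_congr rfl fun η _ => by
      rw [Pi.mul_apply, char_one_eq_deg (irr_isCharacter η.2), Pi.natCast_apply]
  have hpψ : p ∣ ∑ η : IrrCharacter D, c η * deg (η : D → ℂ) :=
    Finset.dvd_sum fun η _ => by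
      by_cases h : c η = 0
      · simp [h]
      · exact Dvd.dvd.mul_left (hpd η h) _
  have hint := omega_isIntegral ψ.2 (⟨y, hyK⟩ : K)
  have hclass : Nat.card {x : K // IsConj (⟨y, hyK⟩ : K) x} = 1 := by
    rw [card_conjClass_eq_index, Subgroup.index_eq_one, Subgroup.centralizer_eq_top_iff_subset]
    simpa using hcent
  rw [omega, hclass, Nat.cast_one, one_mul] at hint
  rw [show (ψ : K → ℂ) ⟨y, hyK⟩ = (ψ : K → ℂ) 1 * ((ψ : K → ℂ) ⟨y, hyK⟩ / (ψ : K → ℂ) 1) by
    field_simp [irr_one_ne_zero ψ.2]]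
  refine memLI_mul_right (pmod_prime hM) ?_ (memLocalRing_of_isIntegral (pmod_prime hM).ne_top hint)
  rw [hψ1]
  exact (memLI_natCast_iff hM _).2 hpψ

theorem abelian_of_heights_zero (hM : IsPModular p M) (hB : IsPBlock M B)
    {D : Subgroup G} [D.Normal] (hD : IsDefectGroup p M B D)
    (h0 : ∀ χ ∈ B, blockHeight p B (χ : G → ℂ) = 0) : ∀ a ∈ D, ∀ c ∈ D, a * c = c * a := by
  classical
  haveI := Fintype.ofFinite D
  obtain ⟨y, hy, hDy⟩ := (isDefectGroup_iff B D).1 hD
  by_contra hna
  obtain ⟨θ, hθ⟩ := exists_irr_dvd_deg hM.1 hDy.isPGroup (D := D) fun h =>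
    hna fun a ha c hc => congrArg Subtype.val (h ⟨a, ha⟩ ⟨c, hc⟩)
  obtain ⟨χ, hχ, hχθ⟩ := exists_block_over hM hB hDy.isPGroup θ
  refine char_unit_at_section hM hB hy hDy D.one_mem hχ (h0 χ hχ) ?_
  rw [one_mul]
  exact memLI_char_centralizer hM hθ hχθ hDy.self_mem_centralizer

end Cfsg.Agent.Char
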