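import Cfsg.Agent.Lib.Char.StarPairs

/-!
# Nilpotent blocks

The products of a character of height zero with the irreducible characters of the defect group are the irreducible
characters of the block, each once. On the regular elements they are multiples of that character.
-/

set_option autoImplicit false
set_option linter.unusedSectionVars false
set_option linter.style.haveILetI false

namespace Cfsg.Agent.Char.Star

open Cfsg Module Relation
open scoped ComplexConjugate

universe u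

variable {G : Type u} [Group G] [Fintype G] {M : Ideal AlgInt} {p : ℕ} {B : Set (IrrCharacter G)}
  {P : Subgroup G} {e : Set (IrrCharacter (Subgroup.centralizer (P : Set G)))}

open scoped Classical in
/-- The extension of a function on `P` by zero. -/
noncomputable def clsFun (f : P → ℂ) (g : G) : ℂ := if h : g ∈ P then f ⟨g, h⟩ else 0

theorem clsFun_mem (f : P → ℂ) (x : P) : clsFun f (x : G) = f x := by
  rw [clsFun, dif_pos x.2]

open scoped Classical in
theorem sct_ne (hM : IsPModular p M) {v : G} (hv : ∃ k : ℕ, orderOf v = p ^ k)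
    {f : Set (IrrCharacter (Subgroup.centralizer (Subgroup.zpowers v : Set G)))} (hfb : IsPBlock M f)
    (hind : IsInducedBlock M (Subgroup.centralizer (Subgroup.zpowers v : Set G)) f B)
    {χ ψ : IrrCharacter G} (hχ : χ ∈ B) (hψ : ψ ∈ B) (hψ0 : blockHeight p B (ψ : G → ℂ) = 0)
    (h : blockHeight p B (χ : G → ℂ) = 0 ∨ blockDefect p f = blockDefect p B) :
    sct p (χ : G → ℂ) (ψ : G → ℂ) v ⟨Subgroup.zpowers v, f⟩ ≠ 0 := by
  have hP := pmod_prime hM
  haveI : Fintype (Subgroup.centralizer ({v} : Set G)) := Fintype.ofFinite _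
  obtain ⟨φ, hφb, hφd, hφc, hφi⟩ := CentralPairs.exists_same (B := B) (p := p) (centralizer_zp v) f hfb
  have hind' := hφi hind
  obtain ⟨k, hk⟩ := hv
  obtain ⟨ω, hω⟩ : ∃ ω : ℂ, IsPrimitiveRoot ω (p ^ k) :=
    ⟨_, Complex.isPrimitiveRoot_exp (p ^ k) (pow_ne_zero k hM.1.ne_zero)⟩
  obtain ⟨j, -, hz⟩ := MajorSub.exists_expo hk hω
  set z : IrrCharacter (Subgroup.centralizer ({v} : Set G)) → ℂ := fun η => ω ^ j η with hzd
  have hzk : ∀ η, z η ^ p ^ k = 1 := fun η => by
    rw [hzd, ← pow_mul, mul_comm, pow_mul, hω.pow_eq_one, one_pow]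
  have hzc : ∀ η, conj (z η) = (z η)⁻¹ := fun η => conj_root (pow_ne_zero k hM.1.ne_zero) (hzk η)
  have hloc : ∀ (χ : IrrCharacter G) (s : Subgroup.centralizer ({v} : Set G)),
      MajorSub.locFun φ z χ s = pc (χ : G → ℂ) (v * (s : G)) ⟨Subgroup.zpowers v, f⟩ := by
    intro χ s
    rw [← MajorSub.blockPart_secFun_eq hz, ← sum_blockCoeff_shift φ
      (isClassFunction_secFun (isClassFunction_character (irr_isCharacter χ.2))) s]
    rw [pc, ← hφc, subgroupBlockCoeff_eq, sum_extendByZero_mul]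
    refine Finset.sum_congr rfl fun c _ => ?_
    congr 1
    show (χ : G → ℂ) (v * ((c : G) * (s : G))) = (χ : G → ℂ) ((c : G) * (v * (s : G)))
    rw [← mul_assoc, ← mul_assoc, cent_mul_comm c]
  intro h0
  have hctr : ctr p φ z χ ψ = 0 := by
    rw [← MajorSub.sum_locFun_mul_conj hzc hM hφb χ ψ]
    refine mul_eq_zero_of_right _ (Eq.trans ?_ h0)
    refine Finset.sum_bij (fun s _ => (s : G)) (fun s hs => ?_) (fun a _ b _ h => Subtype.ext h)
      (fun s hs => ?_) fun s _ => ?_
    · exact mem_regC.mpr ⟨(Subgroup.mem_centralizer_singleton_iff.mp s.2).symm, by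
        rw [Subgroup.orderOf_coe]; exact (Finset.mem_filter.mp hs).2⟩
    · obtain ⟨h1, h2⟩ := mem_regC.mp hs
      exact ⟨⟨s, Subgroup.mem_centralizer_singleton_iff.mpr h1.symm⟩,
        Finset.mem_filter.mpr ⟨Finset.mem_univ _, by rwa [Subgroup.orderOf_mk]⟩, rfl⟩
    · rw [hloc, hloc]
  rcases h with h | h
  · refine ctr_one_unit hM hind' hχ hψ h hψ0
      (memLI_congr hP (memLI_symm hP (MajorSub.ctr_congr_one hM hzk χ ψ)) ?_)
    rw [hctr]
    exact memLI_zero hP
  · obtain ⟨w, -, hw, hwiff⟩ := MajorSub.major_unit hz hzk hM hk hind' (hφd.trans h) hχ hψ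
    rw [hctr] at hw
    rcases mul_eq_zero.mp hw.symm with h1 | h1
    · exact pow_ne_zero _ (Nat.cast_ne_zero.mpr hM.1.ne_zero) h1
    · exact hwiff.mp (by rw [h1]; exact memLI_zero hP) hψ0

theorem Sends.intCast {N : ℕ} (φ : cyc N →ₐ[ℚ] ℂ) (n : ℤ) : Sends φ (n : ℂ) (n : ℂ) := by
  refine ⟨intCast_mem (cyc N) n, ?_⟩
  rw [show (⟨(n : ℂ), intCast_mem (cyc N) n⟩ : cyc N) = (n : cyc N) from Subtype.ext (by simp), map_intCast]

theorem Sends.prod {N : ℕ} {φ : cyc N →ₐ[ℚ] ℂ} {ι : Type*} (s : Finset ι) (f f' : ι → ℂ)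
    (h : ∀ i ∈ s, Sends φ (f i) (f' i)) : Sends φ (∏ i ∈ s, f i) (∏ i ∈ s, f' i) := by
  classical
  induction s using Finset.induction_on with
  | empty => simpa using Sends.natCast φ 1
  | insert a s ha ih =>
    rw [Finset.prod_insert ha, Finset.prod_insert ha]
    exact (h a (Finset.mem_insert_self a s)).mul (ih fun i hi => h i (Finset.mem_insert_of_mem hi))

theorem eq_one_of_sum_prod {ι : Type*} [Fintype ι] (r : ι → ℝ) (hpos : ∀ i, 0 < r i)
    (hprod : 1 ≤ ∏ i, r i) (hsum : ∑ i, r i = Fintype.card ι) (i : ι) : r i = 1 := by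
  by_contra hne
  have h1 : ∑ j, Real.log (r j) < ∑ j, (r j - 1) :=
    Finset.sum_lt_sum (fun j _ => Real.log_le_sub_one_of_pos (hpos j))
      ⟨i, Finset.mem_univ i, Real.log_lt_sub_one_of_pos (hpos i) hne⟩
  rw [← Real.log_prod (fun j _ => (hpos j).ne'), Finset.sum_sub_distrib, hsum] at h1
  have := Real.log_nonneg hprod
  simp at h1
  linarith

variable (hM : IsPModular p M) (hmax : IsMaximalBrauerPair p M B P e) (hnil : IsNilpotentBlock p M B)

include hM hmax hnil in
theorem stable_clsFun {f : P → ℂ} (hf : IsClassFunction P f) : Stable p M P e (clsFun f) := by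
  intro a v k ha h1 h2
  obtain ⟨Q, b⟩ := a
  dsimp only at ha
  subst ha
  have hv : v ∈ P := subpair_rel_le h1 (Subgroup.mem_zpowers v)
  obtain ⟨s, hs, h⟩ := maps_inner_of_nilpotent hM hmax hnil _ _ b rfl h1 k h2
  rw [h v (Subgroup.mem_zpowers v),
    show s * v * s⁻¹ = ((⟨s, hs⟩ * ⟨v, hv⟩ * ⟨s, hs⟩⁻¹ : P) : G) from rfl, clsFun_mem, hf]
  exact (clsFun_mem f ⟨v, hv⟩).symm

include hM hmax hnil in
open scoped Classical in
/-- The values at the elements of `P` are integral and compatible with the Galois action. -/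
theorem cval_galois {χ φ : G → ℂ} (hχ : IsCharacter G χ) (hφ : IsCharacter G φ) {v : G} (hv : v ∈ P) :
    IsIntegral ℤ (cval p M P e χ φ v) ∧
      ∀ (σ : cyc (Nat.card G) →ₐ[ℚ] ℂ) (k : ℕ), k.Coprime (Nat.card G) → PowAct σ k →
        Sends σ (cval p M P e χ φ v) (cval p M P e χ φ (v ^ k)) := by
  obtain ⟨f, hpair⟩ : ∃ f, pairAt p M P e v = ⟨Subgroup.zpowers v, f⟩ := ⟨_, rfl⟩
  have hspec := pairAt_spec hM hmax hv
  rw [hpair] at hspec
  obtain ⟨hfb, hfr⟩ := hspec
  haveI := Fintype.ofFinite (Subgroup.centralizer (Subgroup.zpowers v : Set G))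
  obtain ⟨m, n, ζ, ξ, hζ, hξ, h⟩ := sum_pc_mul_conj (p := p) hχ hφ v
  have hd : cP P v = p ^ blockDefect p f := by
    rw [← card_defectGroup hM hfb (defect_of_nilpotent hM hmax hnil hfr)]
    exact (Nat.card_congr (Subgroup.subgroupOfEquivOfLe inf_le_right).toEquiv).symm
  have hord := orderOf_pos v
  have hroot : ∀ θ, conj (ξ θ) = ξ θ ^ (orderOf v - 1) := fun θ => by
    rw [conj_root hord.ne' (hξ θ)]
    exact inv_eq_of_mul_eq_one_right (by rw [← pow_succ', Nat.sub_add_cancel hord, hξ θ])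
  have key : ∀ i : ℕ, Subgroup.zpowers (v ^ i) = Subgroup.zpowers v → cval p M P e χ φ (v ^ i) =
      ∑ η : IrrCharacter (Subgroup.centralizer (Subgroup.zpowers v : Set G)) with η ∈ f,
        ∑ θ : IrrCharacter (Subgroup.centralizer (Subgroup.zpowers v : Set G)) with θ ∈ f,
          (m η : ℂ) * (n θ : ℂ) * (ζ η ^ i * (ξ θ ^ (orderOf v - 1)) ^ i) * (wI p f η θ : ℂ) := by
    intro i hi
    have e1 : cP P (v ^ i) = cP P v ∧ cG (v ^ i) = cG v := by constructor <;> simp only [cP, cG, hi]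
    have e2 : regC p (v ^ i) = regC p v := Finset.ext fun s => by
      rw [mem_regC, mem_regC, ← mem_czp, ← mem_czp, hi]
    rw [cval, sct, e1.1, e1.2, e2, pairAt_congr hi, hpair, h i f f, hd]
    simp only [Finset.mul_sum]
    refine Finset.sum_congr rfl fun η hη => Finset.sum_congr rfl fun θ _ => ?_
    rw [wI_cast_eq hM hfb (Finset.mem_filter.mp hη).2 θ, map_pow, hroot]
    have hne : (cG v : ℂ) ≠ 0 := Nat.cast_ne_zero.mpr Nat.card_pos.ne'
    show ((p ^ blockDefect p f : ℕ) : ℂ) / (cG v : ℂ) * ((cG v : ℂ) * _) = _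
    push_cast
    field_simp
  have h1 := key 1 (by rw [pow_one])
  simp only [pow_one] at h1
  constructor
  · rw [h1]
    exact IsIntegral.sum _ fun η _ => IsIntegral.sum _ fun θ _ =>
      ((isIntegral_algebraMap.mul isIntegral_algebraMap).mul ((root_of_unity_isIntegral hord.ne' (hζ η)).mul
        ((root_of_unity_isIntegral hord.ne' (hξ θ)).pow _))).mul isIntegral_algebraMap
  · intro σ k hk hσ
    have hz : Subgroup.zpowers (v ^ k) = Subgroup.zpowers v := by
      refine Subgroup.eq_of_le_of_card_ge (Subgroup.zpowers_le.mpr (pow_mem (Subgroup.mem_zpowers v) k)) ?_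
      rw [Nat.card_zpowers, Nat.card_zpowers,
        Nat.Coprime.orderOf_pow ((hk.coprime_dvd_right (orderOf_dvd_natCard v)).symm)]
    rw [h1, key k hz]
    have hroots : ∀ μ : ℂ, μ ^ orderOf v = 1 → Sends σ μ (μ ^ k) := fun μ hμ => by
      have hμ' : μ ^ Nat.card G = 1 := by
        obtain ⟨c, hc⟩ := orderOf_dvd_natCard v
        rw [hc, pow_mul, hμ, one_pow]
      exact ⟨mem_cyc hμ', hσ _ hμ'⟩
    refine Sends.sum _ _ _ fun η _ => Sends.sum _ _ _ fun θ _ => ?_
    exact (((Sends.natCast σ _).mul (Sends.natCast σ _)).mul ((hroots _ (hζ η)).mul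
      (hroots _ (by rw [← pow_mul, mul_comm, pow_mul, hξ θ, one_pow])))).mul (Sends.intCast σ _)

include hM hmax hnil in
open scoped Classical in
/-- A height zero character has weight one everywhere. -/
theorem cval_eq_one [Fintype P] {χ : IrrCharacter G} (hχ : χ ∈ B) (h0 : blockHeight p B (χ : G → ℂ) = 0) (v : P) :
    cval p M P e (χ : G → ℂ) (χ : G → ℂ) v = 1 := by
  haveI := Fact.mk hM.1
  have hχc := irr_isCharacter χ.2
  set A : P → ℂ := fun w => cval p M P e (χ : G → ℂ) (χ : G → ℂ) w with hA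
  have hreal : ∀ w : P, ∃ r : ℝ, 0 < r ∧ A w = (r : ℂ) := by
    intro w
    set S : ℝ := ∑ s ∈ regC p (w : G), Complex.normSq (pc (χ : G → ℂ) ((w : G) * s) (pairAt p M P e w)) with hS
    refine ⟨(cP P (w : G) : ℝ) / (cG (w : G) : ℝ) * S, ?_, ?_⟩
    swap
    · rw [hA]
      simp only [cval, sct, Complex.ofReal_mul, Complex.ofReal_div, Complex.ofReal_natCast, hS,
        Complex.ofReal_sum, Complex.mul_conj]
    have hcP : 0 < cP P (w : G) := Nat.card_pos
    have hcG : 0 < cG (w : G) := Nat.card_pos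
    refine mul_pos (by positivity) (lt_of_le_of_ne (Finset.sum_nonneg fun _ _ => Complex.normSq_nonneg _) ?_)
    obtain ⟨f, hpair⟩ : ∃ f, pairAt p M P e (w : G) = ⟨Subgroup.zpowers (w : G), f⟩ := ⟨_, rfl⟩
    have hspec := pairAt_spec hM hmax w.2
    rw [hpair] at hspec
    obtain ⟨k, hk⟩ := IsPGroup.iff_orderOf.mp hmax.1.1.1 w
    rw [← Subgroup.orderOf_coe] at hk
    have hQ : Subgroup.zpowers (w : G) ≤ Subgroup.centralizer (Subgroup.zpowers (w : G) : Set G) :=
      Subgroup.zpowers_le.mpr (mem_czp.mpr (Commute.refl _))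
    have hind := CentralPairs.induced_of_pair hM hQ ((brauerPairOf_subpair hM hmax.1.2.1 hspec.2).mpr hmax.1)
    intro hzero
    refine sct_ne hM ⟨k, hk⟩ hspec.1 hind hχ hχ h0 (Or.inl h0) ?_
    rw [← hpair]
    simp only [sct, Complex.mul_conj, ← Complex.ofReal_sum, ← hS, ← hzero, Complex.ofReal_zero]
  choose r hrpos hr using hreal
  have hsum : ∑ w, r w = Fintype.card P := by
    have h := inner_average hM hmax hnil (stable_one (P := P) (e := e)) (stable_one (P := P) (e := e)) hχc hχc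
    rw [theta_one hM hmax hχ, irr_orth χ.2 χ.2, if_pos rfl] at h
    have h' : (∑ w, (r w : ℂ)) = (Nat.card P : ℂ) := by
      rw [eq_inv_mul_iff_mul_eq₀ (Nat.cast_ne_zero.mpr Nat.card_pos.ne'), mul_one] at h
      rw [h]
      refine Finset.sum_congr rfl fun w _ => ?_
      rw [← hr w, map_one, mul_one, one_mul]
    rw [← Complex.ofReal_sum, Nat.card_eq_fintype_card] at h'
    exact_mod_cast h'
  have hprod : 1 ≤ ∏ w, r w := by
    have hfix : ∀ (σ : cyc (Nat.card G) →ₐ[ℚ] ℂ) (k : ℕ), k.Coprime (Nat.card G) → PowAct σ k →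
        Sends σ (∏ w, A w) (∏ w, A w) := by
      intro σ k hk hσ
      have h := Sends.prod (φ := σ) Finset.univ A (fun w => A (w ^ k)) fun w _ => by
        simpa [hA] using (cval_galois hM hmax hnil hχc hχc w.2).2 σ k hk hσ
      rwa [(powCoprime_bijective (hk.coprime_dvd_right (Subgroup.card_subgroup_dvd_card P))).prod_comp A] at h
    obtain ⟨hm, -⟩ := hfix (cyc (Nat.card G)).val 1 (Nat.coprime_one_left _) fun μ _ => (pow_one μ).symm
    obtain ⟨q, hq⟩ := exists_rat_of_fixed Nat.card_pos.ne' hm fun φ => by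
      obtain ⟨k, hk, hμ⟩ := exists_power_of_embedding Nat.card_pos.ne' φ
      exact (hfix φ k hk hμ).2
    obtain ⟨z, hz⟩ := isIntegral_rat_cast_imp (q := q)
      (hq ▸ IsIntegral.prod _ fun w _ => (cval_galois hM hmax hnil hχc hχc w.2).1)
    have h1 : (∏ w, r w) = (z : ℝ) := by
      have h2 : ((∏ w, r w : ℝ) : ℂ) = ((z : ℝ) : ℂ) := by
        rw [Complex.ofReal_prod, ← Finset.prod_congr rfl fun w _ => hr w, hq, ← hz]
        push_cast
        rfl
      exact_mod_cast h2
    have hpos : 0 < ∏ w, r w := Finset.prod_pos fun w _ => hrpos w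
    rw [h1] at hpos ⊢
    exact_mod_cast (Int.cast_pos.mp hpos : 0 < z)
  show A v = 1
  rw [hr v, eq_one_of_sum_prod r hrpos hprod hsum v, Complex.ofReal_one]

include hM hmax hnil in
/-- The products with the characters of the defect group form an orthonormal family. -/
theorem inner_cls [Fintype P] {χ : IrrCharacter G} (hχ : χ ∈ B) (h0 : blockHeight p B (χ : G → ℂ) = 0)
    {μ ν : P → ℂ} (hμ : IsClassFunction P μ) (hν : IsClassFunction P ν) :
    classInner (theta p M B P e (clsFun μ) (χ : G → ℂ)) (theta p M B P e (clsFun ν) (χ : G → ℂ)) =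
      classInner μ ν := by
  rw [inner_average hM hmax hnil (stable_clsFun hM hmax hnil hμ) (stable_clsFun hM hmax hnil hν)
    (irr_isCharacter χ.2) (irr_isCharacter χ.2), classInner]
  congr 1
  refine Finset.sum_congr rfl fun v _ => ?_
  rw [cval_eq_one hM hmax hnil hχ h0 v, mul_one, clsFun_mem, clsFun_mem]

include hM hmax hnil in
open scoped Classical in
theorem exists_image [Fintype P] {χ : IrrCharacter G} (hχ : χ ∈ B) (h0 : blockHeight p B (χ : G → ℂ) = 0)
    (μ : IrrCharacter P) :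
    ∃ ψ : IrrCharacter G, ψ ∈ B ∧ theta p M B P e (clsFun (μ : P → ℂ)) (χ : G → ℂ) = (ψ : G → ℂ) ∧
      blockHeight p B (ψ : G → ℂ) = (charDegree (μ : P → ℂ)).factorization p := by
  have hμc := irr_isCharacter μ.2
  have hP' : IsCharacter P fun x : P => clsFun (μ : P → ℂ) (x : G) := by simp only [clsFun_mem]; exact hμc
  have hst := stable_clsFun hM hmax hnil (isClassFunction_character hμc)
  have hdeg : theta p M B P e (clsFun (μ : P → ℂ)) (χ : G → ℂ) 1 =
      ((deg (μ : P → ℂ) * deg (χ : G → ℂ) : ℕ) : ℂ) := by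
    rw [theta_degree hM hmax hst hχ, show (1 : G) = ((1 : P) : G) from rfl, clsFun_mem, Nat.cast_mul,
      ← char_one_eq_deg hμc, ← char_one_eq_deg (irr_isCharacter χ.2)]
    rfl
  obtain ⟨ψ, hψ, e1⟩ := exists_irr hM hmax hst (intComb_char (pmod_prime hM) hP') (galOn_char hP')
    (fun v hv => by
      rw [show v = ((⟨v, hv⟩ : P) : G) from rfl, clsFun_mem]; exact char_isIntegral hμc _)
    (irr_isCharacter χ.2)
    (by rw [inner_cls hM hmax hnil hχ h0 (isClassFunction_character hμc) (isClassFunction_character hμc),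
          irr_orth μ.2 μ.2, if_pos rfl]) hdeg
  refine ⟨ψ, hψ, e1, ?_⟩
  have hd : deg (ψ : G → ℂ) = deg (μ : P → ℂ) * deg (χ : G → ℂ) := by
    have h := hdeg
    rw [e1, char_one_eq_deg (irr_isCharacter ψ.2)] at h
    exact_mod_cast h
  have hz := (blockHeight_eq_zero_iff (p := p) hχ).mp h0
  rw [blockHeight_eq, dexp, charDegree_eq_deg, hd,
    Nat.factorization_mul (deg_pos μ.2).ne' (deg_pos χ.2).ne', Finsupp.add_apply, ← hz, dexp,
    Nat.add_sub_cancel]

include hM hmax hnil in
open scoped Classical in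
/-- Every character of the block is a product. -/
theorem exists_preimage [Fintype P] {χ : IrrCharacter G} (hχ : χ ∈ B) (h0 : blockHeight p B (χ : G → ℂ) = 0)
    {ψ : IrrCharacter G} (hψ : ψ ∈ B) :
    ∃ μ : IrrCharacter P, theta p M B P e (clsFun (μ : P → ℂ)) (χ : G → ℂ) = (ψ : G → ℂ) := by
  haveI := Fact.mk hM.1
  by_contra hno
  push Not at hno
  set Y : P → ℂ := fun v => conj (cval p M P e (χ : G → ℂ) (ψ : G → ℂ) v) with hY
  have hYc : IsClassFunction P Y := by
    intro v s
    simp only [hY, cval]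
    congr 1
    rw [show ((s * v * s⁻¹ : P) : G) = (s : G) * v * (s : G)⁻¹ from rfl, cP_conj, cG_eq, card_centralizer_conj,
      ← cG_eq, ← pairAt_conj hM hmax v.2 s.2,
      sct_conj (isClassFunction_character (irr_isCharacter χ.2)) (isClassFunction_character (irr_isCharacter ψ.2))]
  have hzero : Y = 0 := by
    rw [classFun_expansion hYc]
    refine Finset.sum_eq_zero fun μ _ => ?_
    obtain ⟨φ, hφ, eφ, -⟩ := exists_image hM hmax hnil hχ h0 μ
    have h := inner_average hM hmax hnil (stable_clsFun hM hmax hnil (isClassFunction_character (irr_isCharacter μ.2)))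
      (stable_one (P := P) (e := e)) (irr_isCharacter χ.2) (irr_isCharacter ψ.2)
    rw [theta_one hM hmax hψ, eφ, irr_orth φ.2 ψ.2, if_neg fun h => hno μ (eφ.trans h)] at h
    have h2 := congrArg conj h
    rw [map_zero, map_mul, map_inv₀, map_natCast, map_sum] at h2
    suffices e2 : classInner Y (μ : P → ℂ) = 0 by rw [e2, zero_smul]
    rw [classInner, h2]
    congr 1
    refine Finset.sum_congr rfl fun v _ => ?_
    simp only [hY, clsFun_mem, map_one, mul_one, map_mul]
    ring
  have h1 := congrFun hzero 1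
  simp only [hY, Pi.zero_apply, map_eq_zero, cval] at h1
  have hne : (cP P ((1 : P) : G) : ℂ) / (cG ((1 : P) : G) : ℂ) ≠ 0 :=
    div_ne_zero (Nat.cast_ne_zero.mpr Nat.card_pos.ne') (Nat.cast_ne_zero.mpr Nat.card_pos.ne')
  have h2 := (mul_eq_zero.mp h1).resolve_left hne
  obtain ⟨f, hn, -, hind, hdef⟩ := CentralPairs.exists_below hM hmax (P.one_mem) (fun d _ => by simp)
  have hpair : pairAt p M P e ((1 : P) : G) = ⟨Subgroup.zpowers (1 : G), f⟩ :=
    (pairAt_eq hM hmax P.one_mem (a := ⟨Subgroup.zpowers (1 : G), f⟩) rfl hn.1.2 (ReflTransGen.single hn)).symm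
  rw [hpair] at h2
  -- the two orders of the product are conjugate
  refine sct_ne hM ⟨0, by simp⟩ hn.1.2 hind hψ hχ h0 (Or.inr hdef) ?_
  have h3 := congrArg conj h2
  rw [map_zero] at h3
  rw [← h3, sct, sct, map_sum]
  refine Finset.sum_congr rfl fun s _ => ?_
  rw [map_mul, Complex.conj_conj]
  exact mul_comm _ _

include hM hmax hnil in
open scoped Classical in
/-- The characters of a nilpotent block and those of its defect group. -/
theorem exists_equiv :
    ∃ (χ : IrrCharacter G) (_ : χ ∈ B) (Φ : B ≃ IrrCharacter P), ∀ ψ : B,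
      blockHeight p B ((ψ : IrrCharacter G) : G → ℂ) = (charDegree ((Φ ψ : IrrCharacter P) : P → ℂ)).factorization p ∧
      ∀ x : G, pRegularPart p ((ψ : IrrCharacter G) : G → ℂ) x =
        (charDegree ((Φ ψ : IrrCharacter P) : P → ℂ) : ℂ) * pRegularPart p (χ : G → ℂ) x := by
  haveI := Fintype.ofFinite P
  obtain ⟨χ, hχ, h0⟩ := exists_height_zero (p := p) (block_nonempty (pmod_prime hM) hmax.1.2.1)
  choose im himB him himh using exists_image hM hmax hnil hχ h0
  let Ψ : IrrCharacter P → B := fun μ => ⟨im μ, himB μ⟩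
  have hbij : Function.Bijective Ψ := by
    refine ⟨fun μ ν h => ?_, fun ψ => ?_⟩
    · have h' : im μ = im ν := congrArg Subtype.val h
      have h1 := inner_cls hM hmax hnil hχ h0 (isClassFunction_character (irr_isCharacter μ.2))
        (isClassFunction_character (irr_isCharacter ν.2))
      rw [him, him, h', irr_orth (im ν).2 (im ν).2, if_pos rfl, irr_orth μ.2 ν.2] at h1
      by_contra hne
      rw [if_neg fun h2 => hne (Subtype.ext h2)] at h1
      exact one_ne_zero h1
    · obtain ⟨μ, hμ⟩ := exists_preimage hM hmax hnil hχ h0 ψ.2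
      exact ⟨μ, Subtype.ext (Subtype.ext ((him μ).symm.trans hμ))⟩
  set Φ := (Equiv.ofBijective Ψ hbij).symm with hΦ
  refine ⟨χ, hχ, Φ, fun ψ => ?_⟩
  have he : (ψ : IrrCharacter G) = im (Φ ψ) :=
    congrArg Subtype.val ((Equiv.ofBijective Ψ hbij).apply_symm_apply ψ).symm
  refine ⟨by rw [he]; exact himh _, fun x => ?_⟩
  simp only [pRegularPart]
  split_ifs with hx
  · rw [he, ← him, theta_regular hM hmax
      (stable_clsFun hM hmax hnil (isClassFunction_character (irr_isCharacter (Φ ψ).2))) hχ hx,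
      show (1 : G) = ((1 : P) : G) from rfl, clsFun_mem, char_one_eq_deg (irr_isCharacter (Φ ψ).2), charDegree_eq_deg]
  · rw [mul_zero]

theorem nilpotent_equiv (hM : IsPModular p M) (hnil : IsNilpotentBlock p M B) (hD : IsDefectGroup p M B P) :
    ∃ Φ : B ≃ IrrCharacter P, ∀ χ : B,
      blockHeight p B ((χ : IrrCharacter G) : G → ℂ) = (charDegree ((Φ χ : IrrCharacter P) : P → ℂ)).factorization p := by
  obtain ⟨e, he⟩ := exists_pair_of_le_defect hM hnil.1 hD le_rfl
  obtain ⟨_, _, Φ, hΦ⟩ := exists_equiv hM (maximal_of_defect hM hD he) hnil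
  exact ⟨Φ, fun χ => (hΦ χ).1⟩

theorem nilpotent_rank_one (hM : IsPModular p M) (hnil : IsNilpotentBlock p M B) :
    blockRank p B = 1 ∧ ∃ χ₀ ∈ B, ∀ χ ∈ B, ∃ d : ℕ, ∀ x : G,
      pRegularPart p (χ : G → ℂ) x = (d : ℂ) * pRegularPart p (χ₀ : G → ℂ) x := by
  obtain ⟨D, hD⟩ := exists_isDefectGroup hM hnil.1
  obtain ⟨e, he⟩ := exists_pair_of_le_defect hM hnil.1 hD le_rfl
  obtain ⟨χ₀, hχ₀, Φ, hΦ⟩ := exists_equiv hM (maximal_of_defect hM hD he) hnil
  refine ⟨?_, χ₀, hχ₀, fun χ hχ => ⟨_, (hΦ ⟨χ, hχ⟩).2⟩⟩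
  have hne : pRegularPart p (χ₀ : G → ℂ) ≠ 0 := fun h => by
    have h1 := congrFun h 1
    simp only [pRegularPart, Pi.zero_apply] at h1
    rw [if_pos (show IsPRegular p (1 : G) by rw [IsPRegular, orderOf_one]; exact hM.1.not_dvd_one)] at h1
    exact irr_one_ne_zero χ₀.2 h1
  have hspan : Submodule.span ℂ ((fun χ : IrrCharacter G => pRegularPart p (χ : G → ℂ)) '' B) =
      Submodule.span ℂ {pRegularPart p (χ₀ : G → ℂ)} := by
    refine le_antisymm (Submodule.span_le.mpr ?_)
      (Submodule.span_mono (Set.singleton_subset_iff.mpr ⟨χ₀, hχ₀, rfl⟩))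
    rintro _ ⟨χ, hχ, rfl⟩
    refine Submodule.mem_span_singleton.mpr
      ⟨(charDegree ((Φ ⟨χ, hχ⟩ : IrrCharacter D) : D → ℂ) : ℂ), funext fun x => ?_⟩
    rw [Pi.smul_apply, smul_eq_mul]
    exact ((hΦ ⟨χ, hχ⟩).2 x).symm
  rw [blockRank, hspan, finrank_span_singleton hne]

end Cfsg.Agent.Char.Star
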