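import Cfsg.Agent.Lib.Char.NilpotentAbelian
import Cfsg.Agent.Lib.Char.DecompLattice

/-!
# Equal degrees in a block with abelian defect group and all heights zero

Such a block has one Brauer character, the functions `χ ↦ trC χ (f * y)` at a rank one idempotent `f` form a local
ring containing the values of the characters, so that the column products of the block are divisible by the order of
the defect group. Every subsection then has rank one and the inertial quotient is trivial.
-/

set_option autoImplicit false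
set_option linter.unusedSectionVars false
set_option linter.style.haveILetI false

namespace Cfsg.Agent.Char.EqualAb

open Cfsg Matrix IdemAlg IdemTrace DecompLattice
open scoped ComplexConjugate

universe u

variable {G : Type u} [Group G] [Fintype G] {M : Ideal AlgInt} {p : ℕ} {hM : IsPModular p M}

theorem conj_idem_inv {χ : G → ℂ} (hχ : IsCharacter G χ) (x : G) : idem χ x⁻¹ = conj (idem χ x) := by
  simp only [idem, map_mul, map_inv₀, Complex.conj_natCast, Complex.conj_conj]
  rw [char_inv hχ x, Complex.conj_conj, ← char_inv hχ 1, inv_one]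

theorem conj_blockCoeff_inv (B : Set (IrrCharacter G)) (x : G) :
    blockCoeff B x⁻¹ = conj (blockCoeff B x) := by
  rw [blockCoeff_eq, Finset.sum_apply, Finset.sum_apply, map_sum]
  exact Finset.sum_congr rfl fun χ _ => conj_idem_inv (irr_isCharacter χ.2) x

/-- The columns have integral inverses. -/
theorem exists_inverse_col (D : Data hM G) (j : Fin D.m) :
    ∃ z : IrrCharacter G → ℤ, ∀ i, ∑ χ, (z χ : ℂ) * dec D i χ = if i = j then 1 else 0 := by
  classical
  obtain ⟨β, hβ⟩ := exists_brauer_fun D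
  obtain ⟨a, b, ha, hb, hab⟩ := isGenChar_brauer D hβ j
  obtain ⟨ma, hma⟩ := exists_decomposition ha
  obtain ⟨mb, hmb⟩ := exists_decomposition hb
  set z : IrrCharacter G → ℤ := fun χ => (ma χ : ℤ) - mb χ with hz
  have hx : ∀ x, ¬ p ∣ orderOf x → β x j = ∑ χ, (z χ : ℂ) * (χ : G → ℂ) x := fun x hx => by
    have h := congrFun hab x
    rw [preg_of_isPRegular hM.1 hx, Pi.sub_apply, hma, hmb, Finset.sum_apply, Finset.sum_apply,
      ← Finset.sum_sub_distrib] at h
    rw [h]
    exact Finset.sum_congr rfl fun χ _ => by simp [hz, sub_mul]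
  refine ⟨z, fun i => ?_⟩
  refine sub_eq_zero.1 (brauer_functions_independent D hβ
    (fun i => (∑ χ, (z χ : ℂ) * dec D i χ) - if i = j then 1 else 0) (fun x hx' => ?_) i)
  simp only [sub_mul, Finset.sum_sub_distrib, ite_mul, one_mul, zero_mul, Finset.sum_ite_eq', Finset.mem_univ, if_true]
  rw [hx x hx', sub_eq_zero]
  simp only [Finset.sum_mul, hβ x hx', Finset.mul_sum]
  rw [Finset.sum_comm]
  exact Finset.sum_congr rfl fun χ _ => Finset.sum_congr rfl fun i _ => by ring

/-- A projective character vanishes on singular elements. -/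
theorem proj_sing (D : Data hM G) (j : Fin D.m) {g : G} (hg : p ∣ orderOf g) :
    ∑ χ : IrrCharacter G, (dec D j χ : ℂ) * (χ : G → ℂ) g = 0 := by
  classical
  set F : G → ℂ := fun h => ∑ χ : IrrCharacter G, (χ : G → ℂ) h * (χ : G → ℂ) g with hF
  have hFc : IsClassFunction G F := fun a k => by
    simp only [hF]
    exact Finset.sum_congr rfl fun χ _ => by rw [isClassFunction_character (irr_isCharacter χ.2) a k]
  have h0 : ∀ h, ¬ p ∣ orderOf h → F h = (0 : G → ℂ) h := fun h hh => by
    show F h = 0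
    have hne : ¬ IsConj h g⁻¹ := fun hc => hh (by
      obtain ⟨c, hc⟩ := isConj_iff.1 hc
      rw [← MulEquiv.orderOf_eq (MulAut.conj c) h, MulAut.conj_apply, hc, orderOf_inv]
      exact hg)
    have h2 := second_orth h g⁻¹
    rw [if_neg hne] at h2
    rw [← h2]
    exact Finset.sum_congr rfl fun χ _ => by rw [char_inv (irr_isCharacter χ.2) g, Complex.conj_conj]
  have h := trC_eq_of_regular hM (D.hf j).1 hFc (fun a k => rfl) h0
  rw [show trC (0 : G → ℂ) (D.f j) = 0 by simp [trC]] at h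
  refine Eq.trans ?_ h
  simp only [← dec_spec, trC, hF, Finset.sum_mul, Finset.mul_sum, ← mul_assoc]
  exact Finset.sum_comm

theorem einner_proj (D : Data hM G) (j : Fin D.m) (ψ : IrrCharacter G) :
    ∑ χ : IrrCharacter G, (dec D j χ : ℂ) * einner p (χ : G → ℂ) (ψ : G → ℂ) = dec D j ψ := by
  classical
  have e : (∑ χ : IrrCharacter G, (dec D j χ : ℂ) • ((χ : G → ℂ) * regInd p)) =
      ∑ χ : IrrCharacter G, (dec D j χ : ℂ) • (χ : G → ℂ) := by
    funext g
    simp only [Finset.sum_apply, Pi.smul_apply, Pi.mul_apply, smul_eq_mul]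
    by_cases hg : p ∣ orderOf g
    · rw [proj_sing D j hg]
      simp [regInd_of_sing hg]
    · simp [regInd_of_reg hg]
  have h := congrArg (fun F => classInner F (ψ : G → ℂ)) e
  simp only [classInner_sum_left, classInner_smul_left] at h
  rw [show ∑ χ : IrrCharacter G, (dec D j χ : ℂ) * einner p (χ : G → ℂ) (ψ : G → ℂ) =
    ∑ χ : IrrCharacter G, (dec D j χ : ℂ) * classInner ((χ : G → ℂ) * regInd p) (ψ : G → ℂ) from rfl, h,
    Finset.sum_eq_single ψ]
  · rw [irr_orth ψ.2 ψ.2, if_pos rfl, mul_one]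
  · intro χ _ hne
    rw [irr_orth χ.2 ψ.2, if_neg (fun h => hne (Subtype.ext h)), mul_zero]
  · exact fun h => absurd (Finset.mem_univ ψ) h

/-- A block whose regular column products are divisible by the order of its defect group has rank one. -/
theorem rank_le_one_of_cong (hM : IsPModular p M) {b : Set (IrrCharacter G)} (hb : IsPBlock M b)
    (h : ∀ s t : G, ¬ p ∣ orderOf s → ¬ p ∣ orderOf t → ∃ r, MemLocalRing M r ∧
      ∑ ξ ∈ bset b, (ξ : G → ℂ) s * (ξ : G → ℂ) t = (p : ℂ) ^ blockDefect p b * r) :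
    blockRank p b ≤ 1 := by
  classical
  have hP := pmod_prime hM
  obtain ⟨D⟩ := exists_data (G := G) hM
  obtain ⟨J, hJ1, hJ2⟩ := exists_block_support D hb
  refine (DecompLattice.blockRank_le_card D hJ2).trans (Finset.card_le_one.2 fun j hj k hk => ?_)
  by_contra hjk
  obtain ⟨η0, hη0⟩ := block_nonempty hP hb
  set m' := Nat.card G / p ^ (Nat.card G).factorization p with hm'
  set q : ℂ := (p : ℂ) ^ blockDefect p b with hq
  have hq0 : q ≠ 0 := pow_ne_zero _ (Nat.cast_ne_zero.mpr hM.1.ne_zero)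
  have key : ∀ i ∈ J, ∃ K : ℂ, MemLocalRing M K ∧
      ∀ η ∈ b, MemLocalIdeal M ((m' : ℂ) * dec D i η - (redDeg p b η : ℂ) * K) := by
    intro i hi
    set Φ : G → ℂ := fun g => ∑ χ : IrrCharacter G, (dec D i χ : ℂ) * (χ : G → ℂ) g with hΦ
    set ψ : G → ℂ := fun g => q⁻¹ * Φ g with hψ
    have hψc : IsClassFunction G ψ := fun a k => by
      simp only [hψ, hΦ]
      congr 1
      exact Finset.sum_congr rfl fun χ _ => by rw [isClassFunction_character (irr_isCharacter χ.2) a k]
    have hψR : ∀ g, MemLocalRing M (ψ g) := by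
      intro g
      by_cases hg : p ∣ orderOf g
      · simp only [hψ, hΦ, proj_sing D i hg, mul_zero]
        exact memLR_zero hP
      · choose r hr hre using h
        set R : G → ℂ := fun a => if ha : ¬ p ∣ orderOf a then r a g ha hg else 0 with hR
        have hRm : ∀ a, MemLocalRing M (R a) := fun a => by
          simp only [hR]; split_ifs
          exacts [memLR_zero hP, hr _ _ _ _]
        suffices e : Φ g = q * ∑ a : G, co (D.f i) a * R a by
          simp only [hψ, e]
          rw [inv_mul_cancel_left₀ hq0]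
          exact memLR_sum hP _ _ fun a _ => memLR_mul hP (memLR_co _ a) (hRm a)
        calc Φ g = ∑ χ ∈ bset b, (dec D i χ : ℂ) * (χ : G → ℂ) g := by
              refine (Finset.sum_subset (Finset.subset_univ _) fun χ _ hχ => ?_).symm
              rw [hJ1 i hi χ fun h => hχ (mem_bset.2 h)]; simp
          _ = ∑ χ ∈ bset b, trC ((χ : G → ℂ) * regInd p) (D.f i) * (χ : G → ℂ) g := by
              refine Finset.sum_congr rfl fun χ _ => ?_
              rw [← dec_spec, trC_eq_of_regular hM (D.hf i).1 (isClassFunction_character (irr_isCharacter χ.2))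
                (f' := (χ : G → ℂ) * regInd p) (fun a k => by
                  simp only [Pi.mul_apply]
                  rw [isClassFunction_character (irr_isCharacter χ.2) a k, isClassFunction_regInd p a k])
                fun a ha => by simp [regInd_of_reg ha]]
          _ = q * ∑ a : G, co (D.f i) a * R a := by
              simp only [trC, Finset.sum_mul, Finset.mul_sum]
              rw [Finset.sum_comm]
              refine Finset.sum_congr rfl fun a _ => ?_
              by_cases ha : p ∣ orderOf a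
              · simp [regInd_of_sing ha, hR, ha]
              · simp only [hR, dif_pos ha, Pi.mul_apply, regInd_of_reg ha, mul_one]
                rw [mul_left_comm, ← hre a g ha hg, Finset.mul_sum]
                exact Finset.sum_congr rfl fun χ _ => by ring
    have hI := intComb_preg hM hψc hψR
    set c : IrrCharacter G → ℂ := fun θ => classInner (fun x => ψ (preg p x)) (θ : G → ℂ) with hc
    have hcR : ∀ θ, MemLocalRing M (c θ) := fun θ => hI.2 θ
    have hval : ∀ g, ¬ p ∣ orderOf g → Φ g = q * ∑ θ : IrrCharacter G, c θ * (θ : G → ℂ) g := by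
      intro g hg
      have h1 := congrFun (classFun_expansion hI.1) g
      rw [preg_of_isPRegular hM.1 hg, Finset.sum_apply] at h1
      simp only [Pi.smul_apply, smul_eq_mul] at h1
      simp only [hc]
      rw [← h1, hψ, mul_inv_cancel_left₀ hq0]
    have hdec : ∀ η ∈ b, (dec D i η : ℂ) = ∑ θ ∈ bset b, c θ * (wI p b η θ : ℂ) := by
      intro η hη
      have e1 : (dec D i η : ℂ) = einner p Φ (η : G → ℂ) := by
        have e : Φ * regInd p = ∑ χ : IrrCharacter G, (dec D i χ : ℂ) • ((χ : G → ℂ) * regInd p) := by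
          funext g
          simp [hΦ, Finset.sum_mul, mul_assoc]
        rw [← einner_proj D i η, einner, e, classInner_sum_left]
        simp only [classInner_smul_left]
        rfl
      have e2 : Φ * regInd p = q • ∑ θ : IrrCharacter G, c θ • ((θ : G → ℂ) * regInd p) := by
        funext g
        by_cases hg : p ∣ orderOf g
        · simp [regInd_of_sing hg]
        · simp [regInd_of_reg hg, hval g hg]
      rw [e1, einner, e2, classInner_smul_left, classInner_sum_left, Finset.mul_sum,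
        ← Finset.sum_subset (Finset.subset_univ (bset b)) fun θ _ hθ => by
          rw [classInner_smul_left, show classInner ((θ : G → ℂ) * regInd p) (η : G → ℂ) = 0 from
            einner_eq_zero_of_not_sameBlock hM θ η fun hs => hθ (mem_bset.2 ((mem_block_iff hP hb hη θ).mpr
              (sameBlock_symm hP hs))), mul_zero, mul_zero]]
      refine Finset.sum_congr rfl fun θ hθ => ?_
      rw [wI_symm hM η θ, wI_cast_eq hM hb (mem_bset.1 hθ), classInner_smul_left, hq, einner]
      ring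
    have hlR : ∀ η θ : IrrCharacter G, MemLocalRing M (lam (η : G → ℂ) (regConj p (θ : G → ℂ))) := fun η θ =>
      memLR_lam hP η.2 (regConj_class (irr_isCharacter θ.2)) (regConj_memLR hP (irr_isCharacter θ.2))
    refine ⟨∑ θ ∈ bset b, c θ * lam (η0 : G → ℂ) (regConj p (θ : G → ℂ)),
      memLR_sum hP _ _ fun θ _ => memLR_mul hP (hcR θ) (hlR _ _), fun η hη => ?_⟩
    rw [hdec η hη, Finset.mul_sum, Finset.mul_sum, ← Finset.sum_sub_distrib]
    refine memLI_sum hP _ _ fun θ hθ => ?_
    have hw := wI_eq_redDeg_mul hM hb hη θ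
    rw [← hm'] at hw
    rw [show (m' : ℂ) * (c θ * (wI p b η θ : ℂ)) - (redDeg p b η : ℂ) * (c θ * lam (η0 : G → ℂ) (regConj p (θ : G → ℂ))) =
      ((redDeg p b η : ℂ) * c θ) * (lam (η : G → ℂ) (regConj p (θ : G → ℂ)) - lam (η0 : G → ℂ) (regConj p (θ : G → ℂ))) by
        linear_combination (c θ) * hw]
    exact memLI_mul_left hP (memLR_mul hP (memLR_natCast hP _) (hcR θ))
      (lam_congr hP η.2 η0.2 (block_sameBlock hP hb hη hη0) (regConj_class (irr_isCharacter θ.2))
        (regConj_memLR hP (irr_isCharacter θ.2)))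
  choose K hK hKc using key
  choose z hz using fun i => exists_inverse_col D i
  set R : Fin D.m → ℂ := fun i => ∑ η ∈ bset b, (z i η : ℂ) * redDeg p b η with hR
  have hRm : ∀ i, MemLocalRing M (R i) := fun i => memLR_sum hP _ _ fun η _ =>
    memLR_mul hP (memLR_intCast hP _) (memLR_natCast hP _)
  have hmod : ∀ i l (hl : l ∈ J), MemLocalIdeal M ((m' : ℂ) * (if l = i then 1 else 0) - R i * K l hl) := by
    intro i l hl
    rw [← hz i l, ← Finset.sum_subset (Finset.subset_univ (bset b)) fun χ _ hχ => by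
      rw [hJ1 l hl χ fun h => hχ (mem_bset.2 h)]; simp]
    simp only [hR, Finset.mul_sum, Finset.sum_mul, ← Finset.sum_sub_distrib]
    refine memLI_sum hP _ _ fun η hη => ?_
    rw [show (m' : ℂ) * ((z i η : ℂ) * dec D l η) - (z i η : ℂ) * redDeg p b η * K l hl =
      (z i η : ℂ) * ((m' : ℂ) * dec D l η - redDeg p b η * K l hl) by ring]
    exact memLI_mul_left hP (memLR_intCast hP _) (hKc l hl η (mem_bset.1 hη))
  have h1 := hmod j j hj
  have h2 := hmod j k hk
  have h3 := hmod k k hk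
  rw [if_pos rfl] at h1 h3
  rw [if_neg (Ne.symm hjk)] at h2
  have hm0 : ¬ p ∣ m' := Nat.not_dvd_ordCompl hM.1 (Nat.card_pos (α := G)).ne'
  have hmI : MemLocalIdeal M ((m' : ℂ) * m') := by
    rw [show (m' : ℂ) * m' = ((m' : ℂ) * 1 - R j * K j hj) * m' + (R j * K j hj) * ((m' : ℂ) * 1 - R k * K k hk) +
      (-(R k * K j hj)) * ((m' : ℂ) * 0 - R j * K k hk) by ring]
    exact memLI_add hP (memLI_add hP (memLI_mul_right hP h1 (memLR_natCast hP _))
      (memLI_mul_left hP (memLR_mul hP (hRm j) (hK j hj)) h3))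
      (memLI_mul_left hP (memLR_neg hP (memLR_mul hP (hRm k) (hK j hj))) h2)
  rw [← Nat.cast_mul, memLI_natCast_iff hM] at hmI
  rcases hM.1.dvd_mul.1 hmI with h | h <;> exact hm0 h

section Corner

variable {hP : M.IsPrime}

/-- A corner of a trace one idempotent is one dimensional. -/
theorem exists_corner {n : ℕ} {E : Module.End ℂ (Fin n → ℂ)} (hE : IsIdempotentElem E)
    (h1 : LinearMap.trace ℂ _ E = 1) :
    ∃ (v : Fin n → ℂ) (φ : (Fin n → ℂ) →ₗ[ℂ] ℂ), φ v = 1 ∧ (∀ w, E w = φ w • v) ∧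
      ∀ T : Module.End ℂ (Fin n → ℂ), LinearMap.trace ℂ _ (E * T) = φ (T v) := by
  classical
  have hr : Module.finrank ℂ (LinearMap.range E) = 1 := by
    have := (LinearMap.IsIdempotentElem.isProj_range _ hE).trace.symm.trans h1
    exact_mod_cast this
  obtain ⟨⟨v, hv⟩, hv0, hspan⟩ := finrank_eq_one_iff'.1 hr
  have hv0' : v ≠ 0 := fun h => hv0 (Subtype.ext h)
  obtain ⟨i, hi⟩ := Function.ne_iff.1 hv0'
  rw [Pi.zero_apply] at hi
  have hEv : E v = v := by
    obtain ⟨w, hw⟩ := hv
    rw [← hw]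
    exact LinearMap.congr_fun hE w
  set φ : (Fin n → ℂ) →ₗ[ℂ] ℂ := (v i)⁻¹ • ((LinearMap.proj i).comp E) with hφ
  have hEw : ∀ w, E w = φ w • v := fun w => by
    obtain ⟨c, hc⟩ := hspan ⟨E w, w, rfl⟩
    have hc' : c • v = E w := congrArg Subtype.val hc
    have : φ w = c := by
      show (v i)⁻¹ * (E w) i = c
      rw [← hc', Pi.smul_apply, smul_eq_mul, mul_comm c, inv_mul_cancel_left₀ hi]
    rw [this, hc']
  refine ⟨v, φ, by show (v i)⁻¹ * (E v) i = 1; rw [hEv, inv_mul_cancel₀ hi], hEw, fun T => ?_⟩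
  have e : E * T * E = φ (T v) • E := LinearMap.ext fun w => by
    simp [hEw, map_smul, smul_smul, mul_comm]
  rw [← hE.eq, mul_assoc, LinearMap.trace_mul_comm, e, map_smul, h1, smul_eq_mul, mul_one]

/-- Traces at a trace one idempotent are multiplicative. -/
theorem trC_corner_mul {χ : G → ℂ} (hχ : IsCharacter G χ) {f : OA hP G} (hf : IsIdempotentElem f)
    (h1 : trC χ f = 1) (x y : OA hP G) :
    trC χ (f * (x * f * y)) = trC χ (f * x) * trC χ (f * y) := by
  obtain ⟨n, ρ, rfl⟩ := hχ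
  have hE := hf.map (ev (hP := hP) (ρ : G →* Module.End ℂ (Fin n → ℂ)))
  obtain ⟨v, φ, -, hEw, ht⟩ := exists_corner hE (by rw [← trC_eq_trace, h1])
  simp only [trC_eq_trace, map_mul (ev (hP := hP) _)]
  rw [ht, ht, ht, Module.End.mul_apply, Module.End.mul_apply, hEw, map_smul, map_smul, smul_eq_mul, mul_comm]

theorem memLR_trC {χ : G → ℂ} (hχ : IsCharacter G χ) (x : OA hP G) : MemLocalRing M (trC χ x) :=
  memLR_sum hP _ _ fun g _ => memLR_mul hP (memLR_co x g) (memLR_char hP hχ g)

end Corner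

variable {B : Set (IrrCharacter G)}

/-- The ring of traces at a rank one idempotent of trace one on the block. -/
noncomputable def traceRing {hP : M.IsPrime} (B : Set (IrrCharacter G)) (f : OA hP G) (hf : IsIdempotentElem f)
    (h1 : ∀ χ ∈ B, trC (χ : G → ℂ) f = 1) : Subring (↥B → ℂ) where
  carrier := {φ | ∃ y : OA hP G, ∀ χ : ↥B, φ χ = trC ((χ : IrrCharacter G) : G → ℂ) (f * y)}
  mul_mem' := by
    rintro a b ⟨x, hx⟩ ⟨y, hy⟩
    exact ⟨x * f * y, fun χ => by
      rw [Pi.mul_apply, hx, hy, trC_corner_mul (irr_isCharacter χ.1.2) hf (h1 _ χ.2)]⟩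
  one_mem' := ⟨1, fun χ => by rw [mul_one, h1 _ χ.2]; rfl⟩
  add_mem' := by
    rintro a b ⟨x, hx⟩ ⟨y, hy⟩
    exact ⟨x + y, fun χ => by rw [Pi.add_apply, hx, hy, mul_add, trC_add]⟩
  zero_mem' := ⟨0, fun χ => by rw [mul_zero, trC_zero]; rfl⟩
  neg_mem' := by
    rintro a ⟨x, hx⟩
    exact ⟨-x, fun χ => by
      rw [Pi.neg_apply, hx, ← zero_sub, ← trC_zero (hP := hP) ((χ : IrrCharacter G) : G → ℂ), ← trC_sub, zero_sub]
      congr 1
      exact (mul_neg f x).symm⟩

/-- A block with equal degrees and all heights zero has one projective column, equal to one. -/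
theorem one_column (D : Data hM G) (hB : IsPBlock M B) {d : ℕ}
    (hd : ∀ χ ∈ B, deg (χ : G → ℂ) = d) (h0 : ∀ χ ∈ B, blockHeight p B (χ : G → ℂ) = 0) :
    ∃ j : Fin D.m, D.d j = d ∧ (∀ χ ∈ B, dec D j χ = 1) ∧ (∀ χ ∉ B, dec D j χ = 0) ∧
      Nat.card B = p ^ blockDefect p B ∧ blockRank p B ≤ 1 := by
  classical
  have hP := pmod_prime hM
  obtain ⟨J, hJ1, hJ2⟩ := exists_block_support D hB
  have hdeg : ∀ χ ∈ B, d = ∑ i ∈ J, D.d i * dec D i χ := by
    intro χ hχ
    have h : (deg (χ : G → ℂ) : ℂ) = ∑ i, (((D.π 1) i).rank : ℂ) * dec D i χ := by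
      rw [← char_one_eq_deg (irr_isCharacter χ.2), ← trC_idem D IsIdempotentElem.one χ, ← gen_one, trC_gen]
    simp only [map_one, Pi.one_apply, Matrix.rank_one, Fintype.card_fin, hd χ hχ] at h
    rw [← Finset.sum_subset (Finset.subset_univ J) fun i _ hi => by rw [hJ2 i hi χ hχ]; simp] at h
    exact_mod_cast h
  have hdvd : ∀ i ∈ J, d ∣ D.d i := by
    intro i hi
    obtain ⟨z, hz⟩ := exists_inverse_col D i
    have key : (D.d i : ℂ) = ∑ χ ∈ bset B, (z χ : ℂ) * d := by
      calc (D.d i : ℂ) = ∑ l ∈ J, (D.d l : ℂ) * ∑ χ, (z χ : ℂ) * dec D l χ := by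
            simp only [hz]; simp [hi]
        _ = ∑ l ∈ J, (D.d l : ℂ) * ∑ χ ∈ bset B, (z χ : ℂ) * dec D l χ := by
            refine Finset.sum_congr rfl fun l hl => ?_
            rw [← Finset.sum_subset (Finset.subset_univ (bset B)) fun χ _ hχ => by
              rw [hJ1 l hl χ fun h => hχ (mem_bset.2 h)]; simp]
        _ = _ := by
            simp only [Finset.mul_sum]
            rw [Finset.sum_comm]
            refine Finset.sum_congr rfl fun χ hχ => ?_
            rw [show (d : ℂ) = ∑ l ∈ J, (D.d l : ℂ) * dec D l χ by exact_mod_cast hdeg χ (mem_bset.1 hχ),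
              Finset.mul_sum]
            exact Finset.sum_congr rfl fun l _ => by ring
    have : (D.d i : ℤ) = (∑ χ ∈ bset B, z χ) * (d : ℤ) := by
      rw [Finset.sum_mul]; exact_mod_cast key
    exact_mod_cast Dvd.intro_left _ this.symm
  have hrow : ∀ χ ∈ B, ∀ i ∈ J, dec D i χ ≠ 0 → dec D i χ = 1 ∧ D.d i = d ∧ ∀ l, l ≠ i → dec D l χ = 0 := by
    intro χ hχ i hi hne
    have hge : d ≤ D.d i := Nat.le_of_dvd (D.hd i) (hdvd i hi)
    have he := hdeg χ hχ
    rw [← Finset.add_sum_erase _ _ hi] at he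
    have h1 : D.d i ≤ D.d i * dec D i χ := Nat.le_mul_of_pos_right _ (Nat.pos_of_ne_zero hne)
    have h2 : dec D i χ = 1 := by
      by_contra h
      have : D.d i * 2 ≤ D.d i * dec D i χ := Nat.mul_le_mul_left _ (by omega)
      have := D.hd i
      omega
    refine ⟨h2, by omega, fun l hl => ?_⟩
    by_cases hlJ : l ∈ J
    · have h3 : ∑ x ∈ J.erase i, D.d x * dec D x χ = 0 := by omega
      have := (Finset.sum_eq_zero_iff.1 h3) l (Finset.mem_erase.2 ⟨hl, hlJ⟩)
      exact (Nat.mul_eq_zero.1 this).resolve_left (D.hd l).ne'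
    · exact hJ2 l hlJ χ hχ
  obtain ⟨χ0, hχ0⟩ := block_nonempty hP hB
  obtain ⟨j, hj, hjne⟩ : ∃ j ∈ J, dec D j χ0 ≠ 0 := by
    by_contra hno
    push Not at hno
    have := hdeg χ0 hχ0
    rw [Finset.sum_eq_zero fun i hi => by rw [hno i hi, mul_zero]] at this
    exact (deg_pos χ0.2).ne' ((hd χ0 hχ0).trans this)
  obtain ⟨β, hβ⟩ := exists_brauer_fun D
  have hreg : ∀ χ ∈ B, dec D j χ ≠ 0 → ∀ x, ¬ p ∣ orderOf x → (χ : G → ℂ) x = β x j := by
    intro χ hχ hne x hx
    obtain ⟨h1, -, h2⟩ := hrow χ hχ j hj hne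
    rw [hβ x hx χ, Finset.sum_eq_single j (fun l _ hl => by rw [h2 l hl]; simp)
      (fun h => absurd (Finset.mem_univ j) h), h1, Nat.cast_one, mul_one]
  have heq : ∀ χ ∈ B, dec D j χ ≠ 0 → ∀ ψ : IrrCharacter G,
      einner p (χ : G → ℂ) (ψ : G → ℂ) = einner p (χ0 : G → ℂ) (ψ : G → ℂ) := by
    intro χ hχ hne ψ
    simp only [einner_eq_sum]
    congr 1
    refine Finset.sum_congr rfl fun x hx => ?_
    rw [hreg χ hχ hne x (Finset.mem_filter.1 hx).2, hreg χ0 hχ0 hjne x (Finset.mem_filter.1 hx).2]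
  have hsum : ∀ ψ : IrrCharacter G, (∑ χ ∈ bset B, dec D j χ : ℕ) * einner p (χ0 : G → ℂ) (ψ : G → ℂ) =
      (dec D j ψ : ℂ) := by
    intro ψ
    rw [← einner_proj D j ψ, ← Finset.sum_subset (Finset.subset_univ (bset B)) fun χ _ hχ => by
      rw [hJ1 j hj χ fun h => hχ (mem_bset.2 h)]; simp, Nat.cast_sum, Finset.sum_mul]
    refine Finset.sum_congr rfl fun χ hχ => ?_
    by_cases hne : dec D j χ = 0
    · simp [hne]
    · rw [heq χ (mem_bset.1 hχ) hne]
  have hN : (∑ χ ∈ bset B, dec D j χ : ℕ) ≠ 0 := fun h =>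
    hjne ((Finset.sum_eq_zero_iff.1 h) χ0 (mem_bset.2 hχ0))
  have hall : ∀ ψ ∈ B, dec D j ψ = 1 := by
    intro ψ hψ
    by_cases hne : dec D j ψ = 0
    · exfalso
      refine wI_ne_zero hM hB hχ0 hψ (h0 ψ hψ) ?_
      have h := hsum ψ
      rw [hne, Nat.cast_zero, mul_eq_zero] at h
      have := wI_cast_eq hM hB hχ0 ψ
      rw [h.resolve_left (Nat.cast_ne_zero.2 hN), mul_zero] at this
      exact_mod_cast this
    · exact (hrow ψ hψ j hj hne).1
  have hNc : (∑ χ ∈ bset B, dec D j χ : ℕ) = Nat.card B := by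
    rw [Finset.sum_congr rfl fun χ hχ => hall χ (mem_bset.1 hχ), ← Finset.card_eq_sum_ones, Nat.card_eq_card_toFinset]
    congr 1
    ext θ
    simp [mem_bset]
  refine ⟨j, (hrow χ0 hχ0 j hj hjne).2.1, hall, fun χ hχ => hJ1 j hj χ hχ, ?_, ?_⟩
  · have h := hsum χ0
    rw [hNc, hall χ0 hχ0, Nat.cast_one] at h
    have hw : (Nat.card B : ℤ) * wI p B χ0 χ0 = (p : ℤ) ^ blockDefect p B := by
      have : ((Nat.card B : ℤ) : ℂ) * (wI p B χ0 χ0 : ℂ) = (((p : ℤ) ^ blockDefect p B : ℤ) : ℂ) := by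
        rw [wI_cast_eq hM hB hχ0 χ0]
        push_cast
        linear_combination ((p : ℂ) ^ blockDefect p B) * h
      exact_mod_cast this
    obtain ⟨w, hw'⟩ := Int.eq_ofNat_of_zero_le (wI_self_pos hM hB hχ0).le
    rw [hw'] at hw
    have hw2 : Nat.card B * w = p ^ blockDefect p B := by exact_mod_cast hw
    have hpw : ¬ p ∣ w := fun hpd => by
      have := (wI_succ_dvd_iff hM hB hχ0 hχ0).1 (by
        rw [h0 χ0 hχ0, zero_add, pow_one, hw']; exact_mod_cast hpd)
      exact this (h0 χ0 hχ0)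
    have hw1 : w = 1 := Nat.Coprime.eq_one_of_dvd
      ((Nat.Coprime.pow_left _ (hM.1.coprime_iff_not_dvd.2 hpw)).symm) ⟨Nat.card B, by rw [← hw2, mul_comm]⟩
    rw [← hw2, hw1, mul_one]
  · refine (DecompLattice.blockRank_le_card D (J := {j}) fun i hi χ hχ => ?_).trans (by simp)
    exact (hrow χ hχ j hj (by rw [hall χ hχ]; exact one_ne_zero)).2.2 i fun h => hi (Finset.mem_singleton.2 h)

/-- The values of the characters lie in the ring of traces. -/
theorem value_mem (D : Data hM G) (j : Fin D.m)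
    (h1 : ∀ χ ∈ B, trC (χ : G → ℂ) (D.f j) = 1) (hdim : ∀ χ ∈ B, deg (χ : G → ℂ) = D.d j) (g : G) :
    (fun χ : ↥B => ((χ : IrrCharacter G) : G → ℂ) g) ∈ traceRing B (D.f j) (D.hf j).1 h1 := by
  classical
  have hP := pmod_prime hM
  set f := D.f j with hfdef
  have hf : IsIdempotentElem f := (D.hf j).1
  set F := traceRing B f hf h1 with hF
  let o : Fin (D.d j) := ⟨0, D.hd j⟩
  have hπf : D.π f = Pi.single j (single o o 1) := (D.hf j).2
  -- residues of corners
  have hcorner : ∀ y : OA hP G, D.π (f * y * f) = (D.π y j o o) • D.π f := fun y => by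
    rw [map_mul, map_mul, hπf]
    funext i
    by_cases hi : i = j
    · subst hi
      simp only [Pi.mul_apply, Pi.single_eq_same, Pi.smul_apply]
      rw [single_mul_mul_single]
    · simp [Pi.mul_apply, Pi.single_eq_of_ne hi]
  -- a corner with nonzero residue is a unit
  have hinv : ∀ y : OA hP G, D.π y j o o ≠ 0 → ∃ u : OA hP G, ∀ χ ∈ B,
      trC (χ : G → ℂ) (f * y) * trC (χ : G → ℂ) (f * u) = 1 := by
    intro y hy
    obtain ⟨c, hc⟩ := Ideal.Quotient.mk_surjective (I := resIdeal hP) (D.π y j o o)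
    have hc' : redHom hP c = D.π y j o o := hc
    have hcu : IsUnit c := IdemLift.isUnit_of_not_mem hP fun hI => hy (by
      rw [← hc', redHom_apply, (red_eq_zero_iff hP c.2).2 hI])
    obtain ⟨c', hcc⟩ := hcu.exists_left_inv
    set z := f - c' • (f * y * f) with hz
    have hz0 : D.π z = 0 := by
      rw [hz, map_sub, D.smul, hcorner, ← hc', smul_smul, ← map_mul, hcc, map_one, one_smul, sub_self]
    obtain ⟨v, hv⟩ := D.good.unit z hz0
    have hfz : f * z = z := by rw [hz, mul_sub, hf.eq, mul_smul_comm, ← mul_assoc, ← mul_assoc, hf.eq]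
    have hcy : c' • (f * y * f) * ((v⁻¹ : (OA hP G)ˣ) : OA hP G) = f := by
      rw [show c' • (f * y * f) = f * (v : OA hP G) by
        rw [hv, mul_sub, mul_one, hfz, hz, sub_sub_cancel], mul_assoc, Units.mul_inv, mul_one]
    refine ⟨c' • ((v⁻¹ : (OA hP G)ˣ) : OA hP G), fun χ hχ => ?_⟩
    rw [← trC_corner_mul (irr_isCharacter χ.2) hf (h1 χ hχ),
      show f * (y * f * c' • ((v⁻¹ : (OA hP G)ˣ) : OA hP G)) =
        c' • (f * y * f) * ((v⁻¹ : (OA hP G)ˣ) : OA hP G) by
        rw [mul_smul_comm, mul_smul_comm, smul_mul_assoc, ← mul_assoc, ← mul_assoc], hcy, h1 χ hχ]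
  -- matrix units
  choose a ha using fun k : Fin (D.d j) => D.good.surj (Pi.single j (single k o 1))
  choose b hb using fun i : Fin (D.d j) => D.good.surj (Pi.single j (single o i 1))
  let mk : OA hP G → F := fun y =>
    ⟨fun χ => trC ((χ : IrrCharacter G) : G → ℂ) (f * y), y, fun _ => rfl⟩
  let N : Matrix (Fin (D.d j)) (Fin (D.d j)) F := Matrix.of fun i k => mk (b i * a k)
  let P : Matrix (Fin (D.d j)) (Fin (D.d j)) F := Matrix.of fun i k => mk (b i * gen hP g * a k)
  -- the determinant is a unit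
  have hNu : IsUnit N.det := by
    obtain ⟨y, hy⟩ := N.det.2
    have hone : D.π y j o o ≠ 0 ∨ B = ∅ := by
      by_cases hBe : B = ∅
      · exact Or.inr hBe
      obtain ⟨χ, hχ⟩ := Set.nonempty_iff_ne_empty.2 hBe
      refine Or.inl fun h00 => ?_
      let evR : F →+* locRing hP :=
        { toFun := fun φ => ⟨φ.1 ⟨χ, hχ⟩, by
            obtain ⟨y, hy⟩ := φ.2
            rw [hy ⟨χ, hχ⟩]; exact memLR_trC (irr_isCharacter χ.2) _⟩
          map_one' := rfl
          map_mul' := fun _ _ => rfl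
          map_zero' := rfl
          map_add' := fun _ _ => rfl }
      have hker : ∀ y : OA hP G, D.π y j o o = 0 → redHom hP (evR (mk y)) = 0 := fun y hy => by
        rw [redHom_apply]
        refine (red_eq_zero_iff hP (evR (mk y)).2).2 ?_
        show MemLocalIdeal M (trC (χ : G → ℂ) (f * y))
        by_contra hI
        have hu : IsUnit (⟨trC (χ : G → ℂ) (f * y), memLR_trC (irr_isCharacter χ.2) _⟩ : locRing hP) :=
          IdemLift.isUnit_of_not_mem hP hI
        obtain ⟨c, hc⟩ := hu.exists_left_inv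
        have hz0 : D.π (c • (f * y * f)) = 0 := by rw [D.smul, hcorner, hy, zero_smul, smul_zero]
        obtain ⟨v, hv⟩ := D.good.unit _ hz0
        obtain ⟨n, ρ, hρ⟩ := irr_isCharacter χ.2
        have hE := hf.map (ev (hP := hP) (ρ : G →* Module.End ℂ (Fin n → ℂ)))
        obtain ⟨w, φ, hφw, hEw, ht⟩ := exists_corner hE (by rw [← trC_eq_trace, hρ]; exact h1 χ hχ)
        have hcy : (c : ℂ) * φ (ev (hP := hP) (ρ : G →* Module.End ℂ (Fin n → ℂ)) y w) = 1 := by
          rw [← ht, ← map_mul, ← trC_eq_trace, hρ]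
          exact congrArg Subtype.val hc
        have hvw : ev (hP := hP) (ρ : G →* Module.End ℂ (Fin n → ℂ)) (v : OA hP G) w = 0 := by
          rw [hv, map_sub, map_one, ev_smul, map_mul, map_mul, LinearMap.sub_apply, LinearMap.smul_apply,
            Module.End.one_apply, Module.End.mul_apply, Module.End.mul_apply, hEw w, hφw, one_smul, hEw,
            smul_smul, hcy, one_smul, sub_self]
        have hw0 : w = 0 := by
          have := congrArg (ev (hP := hP) (ρ : G →* Module.End ℂ (Fin n → ℂ)) ((v⁻¹ : (OA hP G)ˣ) : OA hP G)) hvw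
          rwa [map_zero, ← Module.End.mul_apply, ← map_mul, Units.inv_mul, map_one, Module.End.one_apply] at this
        rw [hw0, map_zero] at hφw
        exact zero_ne_one hφw
      have hmap : ((redHom hP).comp evR).mapMatrix N = 1 := by
        ext i k
        rw [RingHom.mapMatrix_apply, Matrix.map_apply, Matrix.one_apply]
        show redHom hP (evR (mk (b i * a k))) = _
        have hval : D.π (b i * a k) j o o = if i = k then 1 else 0 := by
          rw [map_mul, hb, ha, ← Pi.single_mul, Pi.single_eq_same]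
          by_cases hik : i = k
          · subst hik; simp
          · rw [Matrix.single_mul_single_of_ne _ _ _ _ hik]; simp [hik]
        split_ifs with hik
        · have h := hker (b i * a k - 1) (by
            rw [map_sub, Pi.sub_apply, Matrix.sub_apply, hval, if_pos hik, map_one, Pi.one_apply,
              Matrix.one_apply_eq, sub_self])
          rw [show mk (b i * a k - 1) = mk (b i * a k) - 1 from Subtype.ext (funext fun χ => by
            show trC _ (f * (b i * a k - 1)) = trC _ (f * (b i * a k)) - 1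
            rw [mul_sub, trC_sub, mul_one, h1 _ χ.2]), map_sub, map_sub, map_one, map_one, sub_eq_zero] at h
          exact h
        · exact hker _ (by rw [hval, if_neg hik])
      have hd : redHom hP (evR N.det) = 1 := by
        rw [← RingHom.comp_apply, RingHom.map_det, hmap, Matrix.det_one]
      have h0 := hker y h00
      rw [show mk y = N.det from Subtype.ext (funext fun χ => (hy χ).symm), hd] at h0
      exact one_ne_zero h0
    rcases hone with hone | hBe
    · obtain ⟨u, hu⟩ := hinv y hone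
      exact IsUnit.of_mul_eq_one (mk u) (Subtype.ext (funext fun χ => by
        show N.det.1 χ * trC _ (f * u) = 1
        rw [hy χ]; exact hu _ χ.2))
    · exact IsUnit.of_mul_eq_one 1 (Subtype.ext (funext fun χ => absurd χ.2 (by simp [hBe])))
  refine (show (fun χ : ↥B => ((χ : IrrCharacter G) : G → ℂ) g) = (N⁻¹ * P).trace.1 from funext fun χ => ?_) ▸
    (N⁻¹ * P).trace.2
  -- evaluate at one character
  let eC : F →+* ℂ := (Pi.evalRingHom (fun _ : ↥B => ℂ) χ).comp F.subtype
  show _ = eC (N⁻¹ * P).trace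
  obtain ⟨n, ρ, hρ⟩ := irr_isCharacter χ.1.2
  obtain rfl : n = D.d j := by
    have e := char_one_eq_deg (irr_isCharacter χ.1.2)
    rw [← hρ, Representation.char_one, hρ, hdim _ χ.2] at e
    rw [Module.finrank_pi, Fintype.card_fin] at e
    exact_mod_cast e
  let E := ev (hP := hP) (ρ : G →* Module.End ℂ (Fin (D.d j) → ℂ))
  obtain ⟨v, φ, -, -, ht⟩ := exists_corner (hf.map E) (by rw [← trC_eq_trace, hρ]; exact h1 _ χ.2)
  let L : (Fin (D.d j) → ℂ) →ₗ[ℂ] (Fin (D.d j) → ℂ) := LinearMap.pi fun i => φ.comp (E (b i))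
  let R : (Fin (D.d j) → ℂ) →ₗ[ℂ] (Fin (D.d j) → ℂ) := Fintype.linearCombination ℂ fun k => E (a k) v
  have hentry : ∀ (T : Module.End ℂ (Fin (D.d j) → ℂ)) i k,
      LinearMap.toMatrix' (L * T * R) i k = φ ((E (b i) * T * E (a k)) v) := fun T i k => by
    rw [LinearMap.toMatrix'_apply]
    simp [L, R, Fintype.linearCombination_apply, Pi.single_apply]
  have hNm : N.map eC = LinearMap.toMatrix' L * LinearMap.toMatrix' R := by
    rw [← LinearMap.toMatrix'_mul]
    ext i k
    have := hentry 1 i k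
    rw [mul_one, mul_one] at this
    rw [this, Matrix.map_apply, ← map_mul, ← ht, ← map_mul]
    show trC _ (f * (b i * a k)) = _
    rw [← hρ, trC_eq_trace]
  have hPm : P.map eC = LinearMap.toMatrix' L * LinearMap.toMatrix' (ρ g) * LinearMap.toMatrix' R := by
    rw [← LinearMap.toMatrix'_mul, ← LinearMap.toMatrix'_mul]
    ext i k
    rw [hentry, Matrix.map_apply, ← ev_gen (hP := hP) (ρ : G →* Module.End ℂ (Fin (D.d j) → ℂ)) g, ← map_mul,
      ← map_mul, ← ht, ← map_mul]
    show trC _ (f * (b i * gen hP g * a k)) = _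
    rw [← hρ, trC_eq_trace]
  have hdet : IsUnit (N.map eC).det := by
    have := hNu.map eC
    rwa [RingHom.map_det, RingHom.mapMatrix_apply] at this
  have hLR := hdet
  rw [hNm, Matrix.det_mul, IsUnit.mul_iff] at hLR
  have hinvmap : N⁻¹.map eC = (N.map eC)⁻¹ := by
    refine (Matrix.inv_eq_right_inv ?_).symm
    rw [← Matrix.map_mul, Matrix.mul_nonsing_inv _ hNu, Matrix.map_one _ (map_zero eC) (map_one eC)]
  calc ((χ : IrrCharacter G) : G → ℂ) g = LinearMap.trace ℂ _ (ρ g) := by rw [← hρ]; rfl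
    _ = Matrix.trace (LinearMap.toMatrix' (ρ g)) := LinearMap.trace_eq_matrix_trace ℂ (Pi.basisFun ℂ _) _
    _ = Matrix.trace ((N.map eC)⁻¹ * P.map eC) := by
        rw [hNm, hPm, Matrix.mul_inv_rev, mul_assoc, ← mul_assoc _ _ (LinearMap.toMatrix' R),
          ← mul_assoc _ (LinearMap.toMatrix' L), Matrix.nonsing_inv_mul _ hLR.1, one_mul,
          ← mul_assoc, Matrix.trace_mul_comm, ← mul_assoc, Matrix.mul_nonsing_inv _ hLR.2, one_mul]
    _ = eC (N⁻¹ * P).trace := by
        rw [← hinvmap, ← Matrix.map_mul]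
        exact (AddMonoidHom.map_trace eC.toAddMonoidHom _).symm

/-- The column products of the block are divisible by the order of the defect group. -/
theorem column_cong (hM : IsPModular p M) (hB : IsPBlock M B) {d : ℕ}
    (hd : ∀ χ ∈ B, deg (χ : G → ℂ) = d) (h0 : ∀ χ ∈ B, blockHeight p B (χ : G → ℂ) = 0) :
    blockRank p B = 1 ∧ Nat.card B = p ^ blockDefect p B ∧ ∀ g h : G, ∃ r, MemLocalRing M r ∧
      ∑ χ ∈ bset B, (χ : G → ℂ) g * (χ : G → ℂ) h = (p : ℂ) ^ blockDefect p B * r := by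
  classical
  have hP := pmod_prime hM
  obtain ⟨D⟩ := exists_data (G := G) hM
  obtain ⟨j, hjd, hin, hout, hcard, hrank⟩ := one_column D hB hd h0
  have h1 : ∀ χ ∈ B, trC (χ : G → ℂ) (D.f j) = 1 := fun χ hχ => by rw [dec_spec, hin χ hχ, Nat.cast_one]
  refine ⟨le_antisymm hrank (NilpotentAbelian.one_le_blockRank hM hB), hcard, fun g h => ?_⟩
  obtain ⟨y, hy⟩ := (traceRing B (D.f j) (D.hf j).1 h1).mul_mem
    (value_mem D j h1 (fun χ hχ => (hd χ hχ).trans hjd.symm) g)
    (value_mem D j h1 (fun χ hχ => (hd χ hχ).trans hjd.symm) h)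
  set x := D.f j * y with hx
  obtain ⟨χ0, hχ0, hh0⟩ := exists_height_zero (p := p) (block_nonempty hP hB)
  obtain ⟨d', hd'0, hd'⟩ := deg_eq_pow_mul hM.1 χ0.2
  rw [hd χ0 hχ0, (blockHeight_eq_zero_iff hχ0).1 hh0] at hd'
  obtain ⟨m, -, hm⟩ := card_eq_pow_mul (G := G) hM.1
  rw [← dmin_add_defect (p := p) (block_nonempty hP hB)] at hm
  refine ⟨(m : ℂ) * co x 1 * (d' : ℂ)⁻¹, memLR_mul hP (memLR_mul hP (memLR_natCast hP _) (memLR_co x 1))
    (memLR_inv_natCast hM hd'0), ?_⟩
  have hsum : ∑ χ : IrrCharacter G, trC (χ : G → ℂ) x * (χ : G → ℂ) 1 = (Nat.card G : ℂ) * co x 1 := by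
    simp only [trC, Finset.sum_mul]
    rw [Finset.sum_comm]
    have horth : ∀ a : G, ∑ χ : IrrCharacter G, co x a * (χ : G → ℂ) a * (χ : G → ℂ) 1 =
        co x a * if IsConj a 1 then ((Nat.card G : ℂ) / Nat.card {y : G // IsConj 1 y}) else 0 := by
      intro a
      rw [← second_orth a 1, Finset.mul_sum]
      refine Finset.sum_congr rfl fun χ _ => ?_
      rw [char_one_eq_deg (irr_isCharacter χ.2), map_natCast]
      ring
    simp only [horth]
    rw [Finset.sum_eq_single (1 : G) (fun a _ ha => by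
      rw [if_neg (fun h => ha (isConj_one_left.1 h)), mul_zero]) (fun h => absurd (Finset.mem_univ _) h),
      if_pos (IsConj.refl 1)]
    have h1 : Nat.card {y : G // IsConj 1 y} = 1 := by
      rw [Nat.card_eq_one_iff_unique]
      exact ⟨⟨fun a b => Subtype.ext ((isConj_one_right.1 a.2).trans (isConj_one_right.1 b.2).symm)⟩,
        ⟨⟨1, IsConj.refl 1⟩⟩⟩
    rw [h1, Nat.cast_one, div_one, mul_comm]
  have hzero : ∀ χ ∉ B, trC (χ : G → ℂ) x = 0 := by
    intro χ hχ
    obtain ⟨n, ρ, hρ⟩ := irr_isCharacter χ.2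
    have hE := (D.hf j).1.map (ev (hP := hP) (ρ : G →* Module.End ℂ (Fin n → ℂ)))
    have ht : trC (χ : G → ℂ) (D.f j) = 0 := by rw [dec_spec, hout χ hχ, Nat.cast_zero]
    rw [← hρ, trC_eq_trace] at ht
    rw [← hρ, trC_eq_trace, hx, map_mul, LinearMap.IsIdempotentElem.eq_zero_of_trace_eq_zero hE ht, zero_mul, map_zero]
  rw [← Finset.sum_subset (Finset.subset_univ (bset B)) fun χ _ hχ => by
    rw [hzero χ fun h => hχ (mem_bset.2 h), zero_mul]] at hsum
  have hxv : ∀ χ ∈ bset B, trC (χ : G → ℂ) x * (χ : G → ℂ) 1 = (χ : G → ℂ) g * (χ : G → ℂ) h * (d : ℂ) :=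
    fun χ hχ => by
      rw [char_one_eq_deg (irr_isCharacter χ.2), hd χ (mem_bset.1 hχ)]
      congr 1
      exact (hy ⟨χ, mem_bset.1 hχ⟩).symm
  rw [Finset.sum_congr rfl hxv, ← Finset.sum_mul] at hsum
  have hd'c : (d' : ℂ) ≠ 0 := Nat.cast_ne_zero.2 fun e => hd'0 (e ▸ dvd_zero p)
  have hpc : (p : ℂ) ^ dmin p B ≠ 0 := pow_ne_zero _ (Nat.cast_ne_zero.2 hM.1.ne_zero)
  rw [hm, hd'] at hsum
  push_cast [pow_add] at hsum
  field_simp
  refine mul_left_cancel₀ hpc ?_
  linear_combination hsum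

/-- The subsections of a block with such column products have rank one. -/
theorem local_rank (hM : IsPModular p M) {x : G} [Fintype (Subgroup.centralizer ({x} : Set G))]
    (hx : ∃ k : ℕ, orderOf x = p ^ k) {e : Set (IrrCharacter (Subgroup.centralizer ({x} : Set G)))}
    (hind : IsInducedBlock M (Subgroup.centralizer ({x} : Set G)) e B)
    (hde : blockDefect p e = blockDefect p B)
    (h : ∀ g h : G, ∃ r, MemLocalRing M r ∧
      ∑ χ ∈ bset B, (χ : G → ℂ) g * (χ : G → ℂ) h = (p : ℂ) ^ blockDefect p B * r) :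
    blockRank p e ≤ 1 := by
  classical
  have hP := pmod_prime hM
  refine rank_le_one_of_cong hM hind.1 fun s t hs ht => ?_
  choose r hr hre using h
  let w : (Subgroup.centralizer ({x} : Set G)) → (Subgroup.centralizer ({x} : Set G)) → ℂ := fun a => regPartL p (fun c => blockCoeff e (c * a⁻¹))
  have hw : ∀ a c, MemLocalRing M (w a c) ∧ MemLocalRing M (conj (w a c)) := by
    intro a c
    by_cases hc : p ∣ orderOf c
    · simp only [w, regPartL_of_sing hc, map_zero]
      exact ⟨memLR_zero hP, memLR_zero hP⟩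
    · simp only [w, regPartL_of_reg hc, ← conj_blockCoeff_inv]
      exact ⟨memLR_blockCoeff hM hind.1 _, memLR_blockCoeff hM hind.1 _⟩
  have ht' : ¬ p ∣ orderOf t⁻¹ := by rwa [orderOf_inv]
  refine ⟨∑ c' : (Subgroup.centralizer ({x} : Set G)), ∑ c : (Subgroup.centralizer ({x} : Set G)), conj (w t⁻¹ c') * w s c * r (x * (c' : G))⁻¹ (x * (c : G)),
    memLR_sum hP _ _ fun c' _ => memLR_sum hP _ _ fun c _ =>
      memLR_mul hP (memLR_mul hP (hw _ _).2 (hw _ _).1) (hr _ _), ?_⟩
  have hsum := sum_local_part_mul hM hx hind hs ht'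
  have e1 : ∑ ξ ∈ bset e, (ξ : (Subgroup.centralizer ({x} : Set G)) → ℂ) s * (ξ : (Subgroup.centralizer ({x} : Set G)) → ℂ) t =
      ∑ ξ : IrrCharacter (Subgroup.centralizer ({x} : Set G)) with ξ ∈ e, conj ((ξ : (Subgroup.centralizer ({x} : Set G)) → ℂ) t⁻¹) * (ξ : (Subgroup.centralizer ({x} : Set G)) → ℂ) s := by
    refine Finset.sum_congr (by ext; simp [mem_bset]) fun ξ _ => ?_
    rw [char_inv (irr_isCharacter ξ.2) t, Complex.conj_conj, mul_comm]
  rw [e1, ← hsum, hde, Finset.mul_sum]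
  simp only [Finset.mul_sum]
  have h1 : ∀ (χ : IrrCharacter G) (a : (Subgroup.centralizer ({x} : Set G))), ¬ p ∣ orderOf a →
      blockPart e (secFun x (χ : G → ℂ)) a = ∑ c, w a c * (χ : G → ℂ) (x * (c : G)) :=
    fun χ a ha => blockPart_reg_eq_sum hM hind.1
      (isClassFunction_secFun (isClassFunction_character (irr_isCharacter χ.2))) ha
  rw [Finset.sum_congr rfl fun χ _ => by rw [h1 χ _ ht', h1 χ s hs, map_sum, Finset.sum_mul]]
  simp only [Finset.mul_sum, map_mul]
  rw [Finset.sum_comm]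
  refine Finset.sum_congr rfl fun c' _ => ?_
  rw [Finset.sum_comm]
  refine Finset.sum_congr rfl fun c _ => ?_
  rw [show (p : ℂ) ^ blockDefect p B * (conj (w t⁻¹ c') * w s c * r (x * (c' : G))⁻¹ (x * (c : G))) =
    conj (w t⁻¹ c') * w s c * ((p : ℂ) ^ blockDefect p B * r (x * (c' : G))⁻¹ (x * (c : G))) by ring, ← hre,
    Finset.mul_sum]
  refine Finset.sum_congr (by ext; simp [mem_bset]) fun χ _ => ?_
  rw [char_inv (irr_isCharacter χ.2)]
  ring

/-- Equal degrees and heights zero force nilpotency when the defect group is abelian. -/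
theorem nilpotent_of_equal (hM : IsPModular p M) (hB : IsPBlock M B) {P : Subgroup G}
    (hP : IsDefectGroup p M B P) (hab : ∀ x ∈ P, ∀ y ∈ P, x * y = y * x) {d : ℕ}
    (hd : ∀ χ ∈ B, deg (χ : G → ℂ) = d) (h0 : ∀ χ ∈ B, blockHeight p B (χ : G → ℂ) = 0) :
    IsNilpotentBlock p M B := by
  classical
  haveI := Fact.mk hM.1
  obtain ⟨hl, hk, hcong⟩ := column_cong hM hB hd h0
  obtain ⟨e, he⟩ := exists_pair_of_le_defect hM hB hP (le_refl P)
  have hmax := maximal_of_defect hM hP he
  refine (S4687.result p M hM B P e hmax hab).mpr fun t ht hst => ?_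
  obtain ⟨Φ, hΦ, hΦeq, hsum⟩ := SubsectionOrbits.card_eq_rank_add hM hmax hab
  set S := Finset.univ.filter fun z : G => z ∈ P ∧ z ≠ 1 with hS
  have hScard : S.card + 1 = Nat.card P := by
    have e1 : S = (Finset.univ.filter fun z : G => z ∈ P).erase 1 := by
      ext z; simp [hS, and_comm]
    rw [e1, Finset.card_erase_add_one (by simp), Nat.card_eq_fintype_card, ← Fintype.card_subtype]
  have hone : ∀ a ∈ S.image Φ, blockRank p a.2 = 1 := by
    intro a ha
    obtain ⟨z, hz, rfl⟩ := Finset.mem_image.1 ha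
    obtain ⟨hzP, hz1⟩ := (Finset.mem_filter.1 hz).2
    obtain ⟨hpow, -, hind, hdef⟩ := hΦ z hzP hz1
    haveI := Fintype.ofFinite (Subgroup.centralizer ({(Φ z).1} : Set G))
    exact le_antisymm (local_rank hM hpow hind hdef hcong) (NilpotentAbelian.one_le_blockRank hM hind.1)
  rw [Finset.sum_congr rfl hone, ← Finset.card_eq_sum_ones, hl, hk, ← card_defectGroup hM hB hP] at hsum
  have hinj : Set.InjOn Φ S := Finset.card_image_iff.1 (by omega)
  intro z hz
  by_cases hz1 : z = 1
  · simp [hz1]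
  have hz' : t * z * t⁻¹ ∈ P := (Subgroup.mem_normalizer_iff.1 ht z).1 hz
  have hz'1 : t * z * t⁻¹ ≠ 1 := fun h => hz1 (conj_eq_one_iff.1 h)
  have heq := hinj (Finset.mem_filter.2 ⟨Finset.mem_univ _, hz, hz1⟩)
    (Finset.mem_filter.2 ⟨Finset.mem_univ _, hz', hz'1⟩)
    ((hΦeq z hz hz1 _ hz' hz'1).2 ⟨t, (mem_pairStab _ _).2 ⟨ht, hst⟩, rfl⟩)
  calc z * t = t * z * t⁻¹ * t := by rw [← heq]
    _ = t * z := by group

end Cfsg.Agent.Char.EqualAb
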