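import Cfsg.Agent.Lib.Char.ProjRep
import Cfsg.Agent.Lib.Char.LinearExt
import Mathlib

/-!
An invariant irreducible character extends when it extends to the preimage of every Sylow subgroup.
-/

open scoped ComplexConjugate
open Cfsg Module

set_option autoImplicit false
set_option linter.style.haveILetI false
set_option linter.unusedSectionVars false

namespace Cfsg.Agent.Char

universe u

theorem exists_linear_extension {H : Type*} [Group H] [Finite H] (Z : Subgroup H) [hZ : Z.Normal] (c : Z →* ℂˣ)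
    (hinv : ∀ (h : H) (z : Z), c (MulAut.conjNormal h z) = c z)
    (hloc : ∀ p : ℕ, p.Prime → ∃ (Q : Subgroup H) (μ : Q →* ℂˣ) (hZQ : Z ≤ Q),
      Q.index.Coprime p ∧ ∀ z : Z, μ (Subgroup.inclusion hZQ z) = c z) :
    ∃ μ : H →* ℂˣ, ∀ z : Z, μ (z : H) = c z :=
  exists_linear_extension_local Z c hinv fun _ p hp _ => hloc p hp

variable {G : Type u} [Group G] [Finite G]

theorem scalar_unique {d : ℕ} (hd : d ≠ 0) (a b : ℂ) (f : Module.End ℂ (Fin d → ℂ)) (hf : IsUnit f)
    (hab : a • f = b • f) : a = b := by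
  haveI : Nontrivial (Fin d → ℂ) := by
    refine Module.nontrivial_of_finrank_pos (R := ℂ) ?_
    rw [Module.finrank_fin_fun]; omega
  obtain ⟨v, hv⟩ := exists_ne (0 : Fin d → ℂ)
  obtain ⟨w, rfl⟩ := hf
  have h1 : a • v = b • v := by
    have := LinearMap.congr_fun hab ((↑w⁻¹ : Module.End ℂ (Fin d → ℂ)) v)
    simpa [← Module.End.mul_apply] using this
  exact smul_left_injective ℂ hv h1

variable {N : Subgroup G} [N.Normal] {d : ℕ} (σ : Representation ℂ N (Fin d → ℂ)) [σ.IsIrreducible]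

/-- A cover element differs from any other intertwiner by a scalar. -/
theorem cover_scalar (hd : d ≠ 0) (h : projCover σ) (R : (Module.End ℂ (Fin d → ℂ))ˣ)
    (hR : ∀ n : N, (R : Module.End ℂ (Fin d → ℂ)) * σ n = σ (MulAut.conjNormal h.1.1 n) * R) :
    ∃ a : ℂ, a ≠ 0 ∧ (h.1.2 : Module.End ℂ (Fin d → ℂ)) = a • (R : Module.End ℂ (Fin d → ℂ)) := by
  haveI : Nontrivial (Fin d → ℂ) := by
    refine Module.nontrivial_of_finrank_pos (R := ℂ) ?_
    rw [Module.finrank_fin_fun]; omega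
  obtain ⟨a, ha⟩ := schur_scalar σ ((↑R⁻¹ : Module.End ℂ (Fin d → ℂ)) * (h.1.2 : Module.End ℂ (Fin d → ℂ)))
    (fun n => by
      show _ * σ n = σ n * _
      rw [mul_assoc, ((mem_projCover_iff σ _).1 h.2).1 n, ← mul_assoc, ← mul_assoc]
      congr 1
      rw [Units.inv_mul_eq_iff_eq_mul, ← mul_assoc, hR, mul_assoc, Units.mul_inv, mul_one])
  have hX : (h.1.2 : Module.End ℂ (Fin d → ℂ)) = a • (R : Module.End ℂ (Fin d → ℂ)) := by
    have := congrArg (fun f => (R : Module.End ℂ (Fin d → ℂ)) * f) ha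
    simp only [Units.mul_inv_cancel_left] at this
    rw [this, ← Module.End.one_eq_id, mul_smul_comm, mul_one]
  refine ⟨a, fun h0 => ?_, hX⟩
  rw [h0, zero_smul] at hX
  have := h.1.2.ne_zero
  exact this hX

/-- The extension problem for an invariant representation reduces to a linear one on the cover. -/
theorem exists_extension_of_cover (hd : d ≠ 0)
    (hinv : ∀ (g : G) (n : N), σ.character (MulAut.conjNormal g n) = σ.character n)
    (hlin : ∀ c : (N.comap (coverProj σ)) →* ℂˣ,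
      (∀ (h : projCover σ) (z : N.comap (coverProj σ)), c (MulAut.conjNormal h z) = c z) →
      (∀ z : N.comap (coverProj σ), (z.1.1.2 : Module.End ℂ (Fin d → ℂ)) =
        (c z : ℂ) • σ ⟨coverProj σ z.1, z.2⟩) →
      ∃ μ : projCover σ →* ℂˣ, ∀ z : N.comap (coverProj σ), μ (z : projCover σ) = c z) :
    ∃ ρ₀ : Representation ℂ G (Fin d → ℂ), ρ₀.IsIrreducible ∧ ∀ n : N, ρ₀ (n : G) = σ n := by
  classical
  haveI : Nontrivial (Fin d → ℂ) := by
    refine Module.nontrivial_of_finrank_pos (R := ℂ) ?_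
    rw [Module.finrank_fin_fun]; omega
  haveI : Finite (projCover σ) := finite_projCover σ hd
  have hπ := coverProj_surjective σ hd hinv
  have hunit : ∀ n : N, IsUnit (σ n) := fun n => IsUnit.of_mul_eq_one (σ n⁻¹) (by rw [← map_mul, mul_inv_cancel, map_one])
  have huniq := scalar_unique (d := d) hd
  have hscalar := cover_scalar σ hd
  let Z : Subgroup (projCover σ) := N.comap (coverProj σ)
  haveI : Z.Normal := Subgroup.Normal.comap inferInstance _
  have hcex : ∀ z : Z, ∃ a : ℂˣ, (z.1.1.2 : Module.End ℂ (Fin d → ℂ)) = (a : ℂ) • σ ⟨coverProj σ z.1, z.2⟩ := by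
    intro z
    obtain ⟨a, ha, he⟩ := hscalar z.1 (hunit ⟨coverProj σ z.1, z.2⟩).unit (fun n => by
      rw [IsUnit.unit_spec, ← map_mul, ← map_mul]
      congr 1
      apply Subtype.ext
      show (z.1.1.1 : G) * n = _ * z.1.1.1
      rw [MulAut.conjNormal_apply, inv_mul_cancel_right])
    exact ⟨Units.mk0 a ha, by rw [he, IsUnit.unit_spec]; rfl⟩
  choose c hc using hcex
  let cH : Z →* ℂˣ := MonoidHom.mk' c (fun a b => Units.ext (huniq _ _ _ (hunit _) (by
    rw [← hc (a * b)]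
    show _ = _ • σ _
    rw [show (⟨coverProj σ (a * b : Z).1, (a * b).2⟩ : N) = ⟨coverProj σ a.1, a.2⟩ * ⟨coverProj σ b.1, b.2⟩ from
      Subtype.ext (map_mul (coverProj σ) a.1 b.1), map_mul, Units.val_mul]
    rw [show (((a * b : Z).1.1.2 : (Module.End ℂ (Fin d → ℂ))ˣ) : Module.End ℂ (Fin d → ℂ)) =
      (a.1.1.2 : Module.End ℂ (Fin d → ℂ)) * (b.1.1.2 : Module.End ℂ (Fin d → ℂ)) from rfl, hc a, hc b,
      smul_mul_smul_comm])))
  obtain ⟨μ, hμ⟩ := hlin cH (fun h z => Units.ext (huniq _ _ _ (hunit ⟨coverProj σ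
      (MulAut.conjNormal h z).1, (MulAut.conjNormal h z).2⟩) (by
    show ((c (MulAut.conjNormal h z) : ℂˣ) : ℂ) • _ = ((c z : ℂˣ) : ℂ) • _
    rw [← hc]
    set n : N := ⟨coverProj σ z.1, z.2⟩
    rw [show (⟨coverProj σ (MulAut.conjNormal h z).1, (MulAut.conjNormal h z).2⟩ : N) =
      MulAut.conjNormal h.1.1 n from Subtype.ext (by simp [n, MulAut.conjNormal_apply]; rfl)]
    have e : ((MulAut.conjNormal h z).1.1.2 : Module.End ℂ (Fin d → ℂ)) =
        (h.1.2 : Module.End ℂ (Fin d → ℂ)) * (z.1.1.2 : Module.End ℂ (Fin d → ℂ)) *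
          (↑h.1.2⁻¹ : Module.End ℂ (Fin d → ℂ)) := rfl
    rw [e, hc z, mul_smul_comm, smul_mul_assoc, ((mem_projCover_iff σ _).1 h.2).1 n, mul_assoc, Units.mul_inv,
      mul_one]))) hc
  -- the extended representation
  let F : projCover σ →* (Module.End ℂ (Fin d → ℂ))ˣ := MonoidHom.mk'
    (fun h => Units.map (algebraMap ℂ (Module.End ℂ (Fin d → ℂ))).toMonoidHom (μ h)⁻¹ * h.1.2)
    (fun a b => Units.ext (by
      show algebraMap ℂ (Module.End ℂ (Fin d → ℂ)) ((μ (a * b))⁻¹ : ℂˣ) *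
          ((a.1.2 : Module.End ℂ (Fin d → ℂ)) * (b.1.2 : Module.End ℂ (Fin d → ℂ))) =
        algebraMap ℂ (Module.End ℂ (Fin d → ℂ)) ((μ a)⁻¹ : ℂˣ) * (a.1.2 : Module.End ℂ (Fin d → ℂ)) *
          (algebraMap ℂ (Module.End ℂ (Fin d → ℂ)) ((μ b)⁻¹ : ℂˣ) * (b.1.2 : Module.End ℂ (Fin d → ℂ)))
      rw [map_mul, mul_inv, Units.val_mul, map_mul, mul_assoc, mul_assoc]
      congr 1
      rw [← mul_assoc, Algebra.commutes, mul_assoc]))
  have hFker : (coverProj σ).ker ≤ F.ker := by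
    intro h hh
    have hz : h ∈ Z := by
      show coverProj σ h ∈ N
      rw [MonoidHom.mem_ker.1 hh]; exact N.one_mem
    rw [MonoidHom.mem_ker]
    apply Units.ext
    show algebraMap ℂ (Module.End ℂ (Fin d → ℂ)) ((μ h)⁻¹ : ℂˣ) * (h.1.2 : Module.End ℂ (Fin d → ℂ)) = 1
    rw [hc ⟨h, hz⟩, show (⟨coverProj σ h, hz⟩ : N) = 1 from Subtype.ext (MonoidHom.mem_ker.1 hh), map_one,
      show μ h = c ⟨h, hz⟩ from hμ ⟨h, hz⟩, Algebra.algebraMap_eq_smul_one, smul_mul_smul_comm, one_mul,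
      Units.inv_mul, one_smul]
  let R : G →* (Module.End ℂ (Fin d → ℂ))ˣ := (coverProj σ).liftOfSurjective hπ ⟨F, hFker⟩
  let ρ₀ : Representation ℂ G (Fin d → ℂ) := (Units.coeHom _).comp R
  have hres : ∀ n : N, ρ₀ (n : G) = σ n := by
    intro n
    obtain ⟨h, hh⟩ := hπ (n : G)
    have hz : h ∈ Z := by
      show coverProj σ h ∈ N
      rw [hh]; exact n.2
    show ((R (n : G) : (Module.End ℂ (Fin d → ℂ))ˣ) : Module.End ℂ (Fin d → ℂ)) = σ n
    rw [← hh, show R (coverProj σ h) = F h from MonoidHom.liftOfRightInverse_comp_apply _ _ _ ⟨F, hFker⟩ h]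
    show algebraMap ℂ (Module.End ℂ (Fin d → ℂ)) ((μ h)⁻¹ : ℂˣ) * (h.1.2 : Module.End ℂ (Fin d → ℂ)) = σ n
    rw [hc ⟨h, hz⟩, show (⟨coverProj σ h, hz⟩ : N) = n from Subtype.ext hh,
      show μ h = c ⟨h, hz⟩ from hμ ⟨h, hz⟩, Algebra.algebraMap_eq_smul_one, smul_mul_smul_comm, one_mul,
      Units.inv_mul, one_smul]
  have hirr : ρ₀.IsIrreducible := by
    haveI : Nontrivial (Subrepresentation ρ₀) := ⟨⟨⊥, ⊤, fun hbt =>
      bot_ne_top (α := Submodule ℂ (Fin d → ℂ)) (congrArg Subrepresentation.toSubmodule hbt)⟩⟩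
    refine ⟨fun S => ?_⟩
    let S' : Subrepresentation σ := ⟨S.toSubmodule, fun n v hv => by
      rw [← hres n]; exact S.apply_mem_toSubmodule (n : G) hv⟩
    rcases IsSimpleOrder.eq_bot_or_eq_top S' with hb | ht
    · exact Or.inl (Subrepresentation.toSubmodule_injective
        (show S'.toSubmodule = ⊥ from congrArg Subrepresentation.toSubmodule hb))
    · exact Or.inr (Subrepresentation.toSubmodule_injective
        (show S'.toSubmodule = ⊤ from congrArg Subrepresentation.toSubmodule ht))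
  exact ⟨ρ₀, hirr, hres⟩

omit σ in
theorem exists_extension_of_sylow (N : Subgroup G) [hN : N.Normal] {θ : N → ℂ} (hθ : IsIrrCharacter N θ)
    (hinv : ∀ (g : G) (n : N), θ (MulAut.conjNormal g n) = θ n)
    (hsyl : ∀ p : ℕ, p.Prime → ∃ (P : Subgroup G) (hNP : N ≤ P) (η : P → ℂ), Nat.Coprime P.index p ∧
      IsIrrCharacter P η ∧ ∀ n : N, η (Subgroup.inclusion hNP n) = θ n) :
    ∃ χ : G → ℂ, IsIrrCharacter G χ ∧ ∀ n : N, χ n = θ n := by
  classical
  obtain ⟨d, σ, hσ, rfl⟩ := id hθ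
  haveI := hσ
  have hd : d ≠ 0 := fun h0 => irr_one_ne_zero hθ (by simp [h0])
  haveI : Finite (projCover σ) := finite_projCover σ hd
  have hπ := coverProj_surjective σ hd hinv
  have hunit : ∀ n : N, IsUnit (σ n) := fun n => IsUnit.of_mul_eq_one (σ n⁻¹) (by rw [← map_mul, mul_inv_cancel, map_one])
  have huniq := scalar_unique (d := d) hd
  have hscalar := cover_scalar σ hd
  obtain ⟨ρ₀, hirr, hres⟩ := exists_extension_of_cover σ hd hinv fun cH hcinv hc => by
    refine exists_linear_extension _ cH hcinv fun p hp => ?_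
    obtain ⟨P, hNP, η, hcop, hη, hres⟩ := hsyl p hp
    obtain ⟨d', ρ, hρ, rfl⟩ := id hη
    obtain ⟨e⟩ := equiv_of_character_eq (ρ.comp (Subgroup.inclusion hNP)) σ (funext fun n => hres n)
    let L := e.toLinearEquiv
    let ρ' := repTransport ρ L
    have hρN : ∀ n : N, ρ' (Subgroup.inclusion hNP n) = σ n := fun n => LinearMap.ext fun w => by
      rw [repTransport_apply]
      have := LinearMap.congr_fun (e.toIntertwiningMap.isIntertwining' n) (L.symm w)
      refine this.trans ?_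
      show σ n (L (L.symm w)) = σ n w
      rw [L.apply_symm_apply]
    refine ⟨P.comap (coverProj σ), ?_⟩
    have hru : ∀ x : P, IsUnit (ρ' x) := fun x => IsUnit.of_mul_eq_one (ρ' x⁻¹) (by rw [← map_mul, mul_inv_cancel, map_one])
    have hex : ∀ q : P.comap (coverProj σ), ∃ a : ℂˣ, (q.1.1.2 : Module.End ℂ (Fin d → ℂ)) =
        (a : ℂ) • ρ' ⟨coverProj σ q.1, q.2⟩ := by
      intro q
      obtain ⟨a, ha, he⟩ := hscalar q.1 (hru ⟨coverProj σ q.1, q.2⟩).unit (fun n => by
        rw [IsUnit.unit_spec, ← hρN, ← hρN, ← map_mul, ← map_mul]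
        congr 1
        apply Subtype.ext
        show (q.1.1.1 : G) * n = _ * q.1.1.1
        rw [Subgroup.coe_inclusion, MulAut.conjNormal_apply, inv_mul_cancel_right])
      exact ⟨Units.mk0 a ha, by rw [he, IsUnit.unit_spec]; rfl⟩
    choose f hf using hex
    refine ⟨MonoidHom.mk' f (fun a b => Units.ext (huniq _ _ _ (hru _) (by
      rw [← hf (a * b)]
      rw [show (⟨coverProj σ (a * b).1, (a * b).2⟩ : P) = ⟨coverProj σ a.1, a.2⟩ * ⟨coverProj σ b.1, b.2⟩ from
        Subtype.ext (map_mul (coverProj σ) a.1 b.1), map_mul, Units.val_mul]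
      rw [show (((a * b).1.1.2 : (Module.End ℂ (Fin d → ℂ))ˣ) : Module.End ℂ (Fin d → ℂ)) =
        (a.1.1.2 : Module.End ℂ (Fin d → ℂ)) * (b.1.1.2 : Module.End ℂ (Fin d → ℂ)) from rfl, hf a, hf b,
        smul_mul_smul_comm]))), Subgroup.comap_mono hNP, ?_, fun z => Units.ext (huniq _ _ _ (hunit ⟨coverProj σ z.1, z.2⟩) ?_)⟩
    · rw [Subgroup.index_comap_of_surjective _ hπ]; exact hcop
    · have h1 := hf (Subgroup.inclusion (Subgroup.comap_mono hNP) z)
      show _ • _ = ((cH z : ℂˣ) : ℂ) • σ ⟨coverProj σ z.1, z.2⟩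
      rw [← hc z, ← hρN]
      exact h1.symm
  refine ⟨ρ₀.character, isIrrCharacter_character ρ₀ hirr, fun n => ?_⟩
  simp only [Representation.character, hres n]

end Cfsg.Agent.Char
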