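import Cfsg.Agent.Lib.Char.ProjRep
import Cfsg.Agent.Lib.Char.RestrictIrred
import Cfsg.Agent.Lib.Char.Inflate

/-!
# Extending an invariant character along a supplement of p-power index
-/

set_option autoImplicit false
open Cfsg Module
open scoped ComplexConjugate

namespace Cfsg.Agent.Char.ExtPIndex

universe u

variable {G : Type u} [Group G] [Fintype G] {N : Subgroup G} [N.Normal] {d : ℕ}
  (σ : Representation ℂ N (Fin d → ℂ))

/-- Pairs of an element and an operator implementing its conjugation action. -/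
def intw : Subgroup (G × (Module.End ℂ (Fin d → ℂ))ˣ) where
  carrier := {h | ∀ n : N, (h.2 : Module.End ℂ (Fin d → ℂ)) * σ n =
      σ (MulAut.conjNormal h.1 n) * (h.2 : Module.End ℂ (Fin d → ℂ))}
  one_mem' := fun n => by simp
  mul_mem' := fun {a b} ha hb n => by
      simp only [Prod.fst_mul, Prod.snd_mul, Units.val_mul, map_mul, MulAut.mul_apply]
      rw [mul_assoc, hb n, ← mul_assoc, ha, mul_assoc]
  inv_mem' := fun {a} ha n => by
      simp only [Prod.fst_inv, Prod.snd_inv]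
      have h1 := ha ((MulAut.conjNormal a.1)⁻¹ n)
      rw [MulAut.apply_inv_self, ← map_inv] at h1
      calc ((a.2⁻¹ : (Module.End ℂ (Fin d → ℂ))ˣ) : Module.End ℂ (Fin d → ℂ)) * σ n
          = ↑a.2⁻¹ * (σ n * (a.2 : Module.End ℂ (Fin d → ℂ))) * ↑a.2⁻¹ := by
            rw [mul_assoc, mul_assoc (σ n), Units.mul_inv, mul_one]
        _ = ↑a.2⁻¹ * ((a.2 : Module.End ℂ (Fin d → ℂ)) * σ (MulAut.conjNormal a.1⁻¹ n)) * ↑a.2⁻¹ := by rw [h1]
        _ = _ := by rw [← mul_assoc, Units.inv_mul, one_mul]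

theorem mem_intw {h : G × (Module.End ℂ (Fin d → ℂ))ˣ} : h ∈ intw σ ↔
    ∀ n : N, (h.2 : Module.End ℂ (Fin d → ℂ)) * σ n =
      σ (MulAut.conjNormal h.1 n) * (h.2 : Module.End ℂ (Fin d → ℂ)) := Iff.rfl

variable (E : Subgroup G) (ν : E →* ℂˣ)

/-- The eigenspace of a linear character on `E ⊓ N`. -/
def eig : Submodule ℂ (Fin d → ℂ) where
  carrier := {v | ∀ (n : N) (hn : (n : G) ∈ E), σ n v = (ν ⟨(n : G), hn⟩ : ℂ) • v}
  zero_mem' := fun n hn => by simp
  add_mem' := fun {a b} ha hb n hn => by rw [map_add, ha n hn, hb n hn, smul_add]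
  smul_mem' := fun c {a} ha n hn => by rw [map_smul, ha n hn, smul_comm]

/-- The intertwiners over `E`. -/
def intwE : Subgroup (G × (Module.End ℂ (Fin d → ℂ))ˣ) := intw σ ⊓ E.comap (MonoidHom.fst _ _)

theorem intwE_maps {h : intwE σ E} {v : Fin d → ℂ} (hv : v ∈ eig σ E ν) :
    ((h : G × (Module.End ℂ (Fin d → ℂ))ˣ).2 : Module.End ℂ (Fin d → ℂ)) v ∈ eig σ E ν := by
  obtain ⟨⟨g, T⟩, hT, hg⟩ := h
  intro n hn
  have h1 := (mem_intw σ).1 hT (MulAut.conjNormal g⁻¹ n)
  simp only at h1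
  rw [← MulAut.mul_apply, ← map_mul, mul_inv_cancel, map_one, MulAut.one_apply] at h1
  have hg' : g ∈ E := hg
  have hn' : ((MulAut.conjNormal g⁻¹ n : N) : G) ∈ E := by
    rw [MulAut.conjNormal_apply, inv_inv]
    exact E.mul_mem (E.mul_mem (E.inv_mem hg') hn) hg'
  have h2 := LinearMap.congr_fun h1 v
  rw [Module.End.mul_apply, Module.End.mul_apply, hv _ hn', map_smul] at h2
  rw [← h2]
  congr 2
  have : (⟨((MulAut.conjNormal g⁻¹ n : N) : G), hn'⟩ : E) = ⟨g, hg'⟩⁻¹ * ⟨(n : G), hn⟩ * ⟨g, hg'⟩ :=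
    Subtype.ext (by simp [MulAut.conjNormal_apply])
  rw [this, map_mul, map_mul, map_inv, mul_comm (ν ⟨g, hg'⟩)⁻¹, inv_mul_cancel_right]

/-- The action on the eigenspace. -/
noncomputable def eigRep : intwE σ E →* Module.End ℂ (eig σ E ν) where
  toFun h := (((h : G × (Module.End ℂ (Fin d → ℂ))ˣ).2 : Module.End ℂ (Fin d → ℂ))).restrict
    fun _ hv => intwE_maps σ E ν hv
  map_one' := LinearMap.ext fun v => Subtype.ext rfl
  map_mul' a b := LinearMap.ext fun v => Subtype.ext rfl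

/-- The projection to `E`. -/
def projE : intwE σ E →* E :=
  ((MonoidHom.fst G (Module.End ℂ (Fin d → ℂ))ˣ).comp (intwE σ E).subtype).codRestrict E fun h => h.2.2

/-- The determinant on the eigenspace, normalized. -/
noncomputable def normDet : intwE σ E →* ℂˣ :=
  ((LinearMap.det : Module.End ℂ (eig σ E ν) →* ℂ).comp (eigRep σ E ν)).toHomUnits *
    ((powMonoidHom (finrank ℂ (eig σ E ν)) : ℂˣ →* ℂˣ).comp (ν.comp (projE σ E)))⁻¹

theorem normDet_eq_one_iff (h : intwE σ E) : normDet σ E ν h = 1 ↔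
    LinearMap.det (eigRep σ E ν h) = (ν (projE σ E h) : ℂ) ^ finrank ℂ (eig σ E ν) := by
  rw [normDet, MonoidHom.mul_apply, MonoidHom.inv_apply, mul_inv_eq_one, ← Units.val_inj,
    MonoidHom.coe_toHomUnits]
  rfl

theorem eigRep_scalar (h : intwE σ E) (c : ℂ)
    (hc : ((h : G × (Module.End ℂ (Fin d → ℂ))ˣ).2 : Module.End ℂ (Fin d → ℂ)) = c • LinearMap.id) :
    LinearMap.det (eigRep σ E ν h) = c ^ finrank ℂ (eig σ E ν) := by
  have : eigRep σ E ν h = c • LinearMap.id := LinearMap.ext fun v => Subtype.ext (by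
    show (((h : G × (Module.End ℂ (Fin d → ℂ))ˣ).2 : Module.End ℂ (Fin d → ℂ))) (v : Fin d → ℂ) = _
    rw [hc]; rfl)
  rw [this, LinearMap.det_smul, LinearMap.det_id, mul_one]

theorem finrank_eig [Fintype (N.subgroupOf E)] {m : ℕ}
    (hm : classInner (fun x : N.subgroupOf E => σ.character ⟨((x : E) : G), x.2⟩)
      (fun x : N.subgroupOf E => (ν (x : E) : ℂ)) = (m : ℂ)) : finrank ℂ (eig σ E ν) = m := by
  classical
  let ι : N.subgroupOf E →* N :=
    { toFun := fun x => ⟨((x : E) : G), x.2⟩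
      map_one' := rfl
      map_mul' := fun a b => rfl }
  let τ : Representation ℂ (N.subgroupOf E) (Fin d → ℂ) :=
    { toFun := fun x => ((ν (x : E) : ℂˣ) : ℂ)⁻¹ • σ (ι x)
      map_one' := by simp
      map_mul' := fun a b => by
        rw [map_mul, map_mul, Subgroup.coe_mul, map_mul, Units.val_mul, smul_mul_smul_comm, mul_inv] }
  have hinv : τ.invariants = eig σ E ν := by
    ext v
    constructor
    · intro hv n hn
      have h1 := hv ⟨⟨(n : G), hn⟩, n.2⟩
      change ((ν ⟨(n : G), hn⟩ : ℂˣ) : ℂ)⁻¹ • σ n v = v at h1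
      conv_rhs => rw [← h1]
      rw [smul_smul, mul_inv_cancel₀ (Units.ne_zero _), one_smul]
    · intro hv x
      show ((ν (x : E) : ℂˣ) : ℂ)⁻¹ • σ (ι x) v = v
      rw [hv (ι x) (x : E).2, smul_smul]
      exact (congrArg (· • v) (inv_mul_cancel₀ (Units.ne_zero (ν (x : E))))).trans (one_smul ℂ v)
  haveI : Invertible (Nat.card (N.subgroupOf E) : ℂ) := invertibleOfNonzero (Nat.cast_ne_zero.2 Nat.card_pos.ne')
  haveI : Invertible (Fintype.card (N.subgroupOf E) : ℂ) := invertibleOfNonzero (Nat.cast_ne_zero.2 Fintype.card_ne_zero)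
  have h1 := (Representation.isProj_averageMap τ).trace
  rw [hinv] at h1
  have h2 : LinearMap.trace ℂ (Fin d → ℂ) (Representation.averageMap τ) = (m : ℂ) := by
    rw [← hm]
    simp only [Representation.averageMap, GroupAlgebra.average, classInner, map_smul, map_sum,
      Representation.asAlgebraHom_of]
    rw [Nat.card_eq_fintype_card, invOf_eq_inv, smul_eq_mul]
    congr 1
    refine Finset.sum_congr rfl fun x _ => ?_
    show LinearMap.trace ℂ _ (((ν (x : E) : ℂˣ) : ℂ)⁻¹ • σ (ι x)) = σ.character (ι x) * conj ((ν (x : E) : ℂˣ) : ℂ)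
    rw [map_smul, smul_eq_mul, mul_comm]
    congr 1
    rw [← char_inv (isCharacter_linear ν) (x : E), map_inv, Units.val_inv_eq_inv_val]
  rw [h2] at h1
  exact_mod_cast h1.symm

/-- Intertwiners exist with normalized determinant. -/
theorem exists_normalized [σ.IsIrreducible] {m : ℕ} (hm0 : m ≠ 0) (hrank : finrank ℂ (eig σ E ν) = m)
    (hinv : ∀ (g : G) (n : N), σ.character (MulAut.conjNormal g n) = σ.character n) (e : E) :
    ∃ h : intwE σ E, projE σ E h = e ∧ normDet σ E ν h = 1 := by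
  have hd : d ≠ 0 := by
    intro h0
    subst h0
    exact hm0 (hrank ▸ Module.finrank_zero_of_subsingleton)
  obtain ⟨h0, hh0⟩ := coverProj_surjective σ hd hinv (e : G)
  let X : G × (Module.End ℂ (Fin d → ℂ))ˣ := h0.1
  have hX : X ∈ intwE σ E := ⟨((mem_projCover_iff σ _).1 h0.2).1, by
    show X.1 ∈ E
    rw [show X.1 = (e : G) from hh0]; exact e.2⟩
  set r : ℂˣ := normDet σ E ν ⟨X, hX⟩ with hr
  obtain ⟨c, hc⟩ := IsAlgClosed.exists_pow_nat_eq ((r : ℂ))⁻¹ (Nat.pos_of_ne_zero hm0)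
  have hc0 : c ≠ 0 := fun h => by
    rw [h, zero_pow hm0] at hc
    exact inv_ne_zero r.ne_zero hc.symm
  let C : (Module.End ℂ (Fin d → ℂ))ˣ := ⟨c • LinearMap.id, c⁻¹ • LinearMap.id,
    by ext v; simp [smul_smul, hc0], by ext v; simp [smul_smul, hc0]⟩
  have hC : ((1 : G), C) ∈ intwE σ E := ⟨fun n => by
    show (c • LinearMap.id : Module.End ℂ (Fin d → ℂ)) * σ n = σ (MulAut.conjNormal (1 : G) n) * (c • LinearMap.id)
    rw [map_one, MulAut.one_apply, ← Module.End.one_eq_id, smul_one_mul, mul_smul_one], E.one_mem⟩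
  refine ⟨⟨_, hC⟩ * ⟨X, hX⟩, ?_, ?_⟩
  · refine Subtype.ext ?_
    show (1 : G) * X.1 = e
    rw [one_mul]; exact hh0
  · rw [map_mul, ← hr]
    refine Units.ext ?_
    rw [Units.val_mul, Units.val_one]
    have h1 : ((normDet σ E ν ⟨_, hC⟩ : ℂˣ) : ℂ) = c ^ m := by
      rw [normDet, MonoidHom.mul_apply, MonoidHom.inv_apply, Units.val_mul, MonoidHom.coe_toHomUnits,
        MonoidHom.comp_apply, eigRep_scalar σ E ν ⟨_, hC⟩ c rfl, hrank]
      have : projE σ E ⟨_, hC⟩ = 1 := Subtype.ext rfl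
      simp [this]
    rw [h1, hc, inv_mul_cancel₀ r.ne_zero]

/-- An invariant character extends when it contains, with multiplicity prime to `p`, a linear
character of the intersection with a supplement which extends to the supplement. -/
theorem exists_extension {p : ℕ} [Fact p.Prime] (hind : ∃ k : ℕ, N.index = p ^ k) (htop : E ⊔ N = ⊤)
    [Fintype N] {θ : N → ℂ} (hθ : IsIrrCharacter N θ)
    (hinv : ∀ (g : G) (n : N), θ (MulAut.conjNormal g n) = θ n)
    [Fintype (N.subgroupOf E)] {m : ℕ} (hmp : ¬ p ∣ m)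
    (hm : classInner (fun x : N.subgroupOf E => θ ⟨((x : E) : G), x.2⟩)
      (fun x : N.subgroupOf E => (ν (x : E) : ℂ)) = (m : ℂ)) :
    ∃ χ : G → ℂ, IsIrrCharacter G χ ∧ ∀ n : N, χ n = θ n := by
  classical
  have hp := (Fact.out : p.Prime)
  obtain ⟨k, hk⟩ := hind
  obtain ⟨d, σ, hirr, hσ⟩ := hθ
  haveI := hirr
  subst hσ
  have hm0 : m ≠ 0 := fun h => hmp (h ▸ dvd_zero p)
  have hrank := finrank_eig σ E ν hm
  set K1 := (normDet σ E ν).ker with hK1
  let π : K1 →* E := (projE σ E).comp K1.subtype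
  have hπ : Function.Surjective π := fun e => by
    obtain ⟨h, h1, h2⟩ := exists_normalized σ E ν hm0 hrank hinv e
    exact ⟨⟨h, MonoidHom.mem_ker.2 h2⟩, h1⟩
  -- the kernel is scalar
  have hscal : ∀ z : π.ker, ∃ c : ℂˣ, c ^ m = 1 ∧
      (((z : K1) : intwE σ E) : G × (Module.End ℂ (Fin d → ℂ))ˣ).2.val = (c : ℂ) • LinearMap.id := by
    intro z
    have h1 : ((((z : K1) : intwE σ E) : G × (Module.End ℂ (Fin d → ℂ))ˣ)).1 = 1 :=
      congrArg Subtype.val (MonoidHom.mem_ker.1 z.2)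
    obtain ⟨c, hc⟩ := schur_scalar σ _ (fun n => by
      have := (mem_intw σ).1 ((z : K1) : intwE σ E).2.1 n
      rw [h1, map_one, MulAut.one_apply] at this
      exact this)
    have h2 := (normDet_eq_one_iff σ E ν _).1 (MonoidHom.mem_ker.1 (z : K1).2)
    rw [eigRep_scalar σ E ν _ c hc, show projE σ E ((z : K1) : intwE σ E) = 1 from MonoidHom.mem_ker.1 z.2,
      map_one, Units.val_one, one_pow, hrank] at h2
    have hc0 : c ≠ 0 := fun h => by rw [h, zero_pow hm0] at h2; exact zero_ne_one h2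
    exact ⟨Units.mk0 c hc0, Units.ext (by simpa using h2), hc⟩
  choose sc hsc hscv using hscal
  have hd : d ≠ 0 := by
    intro h0
    subst h0
    exact hm0 (hrank ▸ Module.finrank_zero_of_subsingleton)
  obtain ⟨i₀⟩ : Nonempty (Fin d) := ⟨⟨0, Nat.pos_of_ne_zero hd⟩⟩
  have huniq : ∀ a b : ℂ, a • (LinearMap.id : Module.End ℂ (Fin d → ℂ)) = b • LinearMap.id → a = b := fun a b h => by
    have := congrFun (LinearMap.congr_fun h (Pi.single i₀ 1)) i₀
    simpa using this
  let scHom : π.ker →* ℂˣ :=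
    { toFun := sc
      map_one' := Units.ext (huniq _ _ (by rw [← hscv 1, Units.val_one, one_smul]; rfl))
      map_mul' := fun a b => Units.ext (huniq _ _ (by
        rw [← hscv (a * b), Units.val_mul]
        show (((a : K1) : intwE σ E) : G × (Module.End ℂ (Fin d → ℂ))ˣ).2.val *
          (((b : K1) : intwE σ E) : G × (Module.End ℂ (Fin d → ℂ))ˣ).2.val = _
        rw [hscv a, hscv b, smul_mul_smul_comm]; rfl)) }
  have hscinj : Function.Injective scHom := by
    intro a b hab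
    have hab' : sc a = sc b := hab
    refine Subtype.ext (Subtype.ext (Subtype.ext (Prod.ext ?_ (Units.ext ?_))))
    · exact (congrArg Subtype.val (MonoidHom.mem_ker.1 a.2)).trans (congrArg Subtype.val (MonoidHom.mem_ker.1 b.2)).symm
    · rw [hscv a, hscv b, hab']
  haveI : NeZero m := ⟨hm0⟩
  let scR : π.ker →* rootsOfUnity m ℂ := scHom.codRestrict (rootsOfUnity m ℂ) fun z => (mem_rootsOfUnity m _).2 (hsc z)
  have hscRinj : Function.Injective scR := fun a b h => hscinj (congrArg Subtype.val h)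
  haveI : Finite π.ker := Finite.of_injective scR hscRinj
  have hkerdvd : Nat.card π.ker ∣ m :=
    (Subgroup.card_dvd_of_injective scR hscRinj).trans (Complex.card_rootsOfUnity m).dvd
  have hcardK1 : Nat.card K1 = Nat.card π.ker * Nat.card E := by
    rw [← π.ker.card_mul_index, Subgroup.index_ker, MonoidHom.range_eq_top.2 hπ, Subgroup.card_top]
  haveI : Finite K1 := Nat.finite_of_card_ne_zero (by
    rw [hcardK1]; exact Nat.mul_ne_zero Nat.card_pos.ne' Nat.card_pos.ne')
  -- the canonical copy of `E ⊓ N`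
  let σu : N →* (Module.End ℂ (Fin d → ℂ))ˣ := σ.toHomUnits
  have hσu : ∀ n, (σu n : Module.End ℂ (Fin d → ℂ)) = σ n := fun n => MonoidHom.coe_toHomUnits σ n
  let L := N.subgroupOf E
  let ι0 : L →* G × (Module.End ℂ (Fin d → ℂ))ˣ :=
    { toFun := fun x => (((x : E) : G), σu ⟨((x : E) : G), x.2⟩)
      map_one' := Prod.ext rfl (map_one σu)
      map_mul' := fun a b => Prod.ext rfl (map_mul σu ⟨((a : E) : G), a.2⟩ ⟨((b : E) : G), b.2⟩) }
  have hι0 : ∀ x : L, ι0 x ∈ intwE σ E := fun x => ⟨fun n => by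
    show (σu ⟨((x : E) : G), x.2⟩ : Module.End ℂ (Fin d → ℂ)) * σ n =
      σ (MulAut.conjNormal ((x : E) : G) n) * (σu ⟨((x : E) : G), x.2⟩ : Module.End ℂ (Fin d → ℂ))
    rw [hσu, ← map_mul, ← map_mul]
    congr 1
    exact Subtype.ext (by simp [MulAut.conjNormal_apply]), (x : E).2⟩
  let ι1 : L →* intwE σ E := ι0.codRestrict _ hι0
  have hι1 : ∀ x : L, normDet σ E ν (ι1 x) = 1 := fun x => by
    rw [normDet_eq_one_iff]
    have : eigRep σ E ν (ι1 x) = (ν (x : E) : ℂ) • LinearMap.id := LinearMap.ext fun v => Subtype.ext (by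
      show (σu ⟨((x : E) : G), x.2⟩ : Module.End ℂ (Fin d → ℂ)) (v : Fin d → ℂ) = _
      rw [hσu]
      exact v.2 ⟨((x : E) : G), x.2⟩ (x : E).2)
    rw [this, LinearMap.det_smul, LinearMap.det_id, mul_one]
    rfl
  let ι : L →* K1 := ι1.codRestrict K1 fun x => MonoidHom.mem_ker.2 (hι1 x)
  have hιπ : ∀ x, π (ι x) = (x : E) := fun x => rfl
  haveI hLn : L.Normal := Subgroup.Normal.comap inferInstance _
  haveI hRn : ι.range.Normal := ⟨by
    rintro _ ⟨x, rfl⟩ h
    refine ⟨MulAut.conjNormal (π h) x, Subtype.ext (Subtype.ext (Prod.ext ?_ (Units.ext ?_)))⟩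
    · show ((MulAut.conjNormal (π h) x : L) : G) = _
      rw [MulAut.conjNormal_apply]
      rfl
    · have h1 := (mem_intw σ).1 (h : intwE σ E).2.1 ⟨((x : E) : G), x.2⟩
      set T := ((h : intwE σ E) : G × (Module.End ℂ (Fin d → ℂ))ˣ).2
      show (σu _ : Module.End ℂ (Fin d → ℂ)) = (T : Module.End ℂ (Fin d → ℂ)) *
        (σu ⟨((x : E) : G), x.2⟩ : Module.End ℂ (Fin d → ℂ)) * ((T⁻¹ : (Module.End ℂ (Fin d → ℂ))ˣ) : Module.End ℂ (Fin d → ℂ))
      rw [hσu, hσu, h1, mul_assoc, Units.mul_inv, mul_one]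
      congr 1⟩
  have hιinj : Function.Injective ι := fun a b hab => by
    refine Subtype.ext ?_
    rw [← hιπ a, ← hιπ b, hab]
  have hcardR : Nat.card ι.range = Nat.card L :=
    (Nat.card_congr (MonoidHom.ofInjective hιinj).toEquiv).symm
  -- a Sylow subgroup of the quotient
  obtain ⟨j, -, hj⟩ : ∃ j ≤ k, L.index = p ^ j := (Nat.dvd_prime_pow hp).1 (hk ▸ (Subgroup.relIndex_dvd_index_of_normal N E))
  have hcardQ : Nat.card (K1 ⧸ ι.range) = Nat.card π.ker * p ^ j := by
    have h1 := ι.range.card_mul_index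
    rw [hcardR, hcardK1, ← L.card_mul_index, hj, Subgroup.index_eq_card, mul_left_comm] at h1
    exact Nat.eq_of_mul_eq_mul_left Nat.card_pos h1
  have hkerp : ¬ p ∣ Nat.card π.ker := fun h => hmp (h.trans hkerdvd)
  obtain S : Sylow p (K1 ⧸ ι.range) := default
  have hS : Nat.card (S : Subgroup (K1 ⧸ ι.range)) = p ^ j := by
    rw [S.card_eq_multiplicity, hcardQ, Nat.factorization_mul Nat.card_pos.ne' (pow_ne_zero _ hp.ne_zero),
      Finsupp.add_apply, Nat.factorization_eq_zero_of_not_dvd hkerp, zero_add, hp.factorization_pow,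
      Finsupp.single_eq_same]
  set S1 := (S : Subgroup (K1 ⧸ ι.range)).comap (QuotientGroup.mk' ι.range) with hS1
  have hRS : ι.range ≤ S1 := fun x hx => by
    rw [hS1, Subgroup.mem_comap, QuotientGroup.mk'_apply, (QuotientGroup.eq_one_iff x).2 hx]; exact one_mem _
  have hcardS1 : Nat.card S1 = Nat.card E := by
    have h1 := Subgroup.relIndex_mul_index hRS
    have h2 : S1.index = (S : Subgroup (K1 ⧸ ι.range)).index :=
      Subgroup.index_comap_of_surjective _ (QuotientGroup.mk'_surjective _)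
    have h3 := (S : Subgroup (K1 ⧸ ι.range)).card_mul_index
    rw [hS, hcardQ] at h3
    have h4 : Nat.card π.ker = (S : Subgroup (K1 ⧸ ι.range)).index :=
      (Nat.eq_of_mul_eq_mul_left (pow_pos hp.pos j) (h3.trans (mul_comm _ _))).symm
    have h5 := S1.card_mul_index
    rw [h2, ← h4, hcardK1, mul_comm (Nat.card π.ker)] at h5
    exact Nat.eq_of_mul_eq_mul_right Nat.card_pos h5
  let π1 : S1 →* E := π.comp S1.subtype
  have hπ1 : Function.Injective π1 := by
    rw [injective_iff_map_eq_one]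
    intro z hz
    have hzk : (z : K1) ∈ π.ker := hz
    have hq : (QuotientGroup.mk' ι.range (z : K1)) = 1 := by
      rw [← orderOf_eq_one_iff]
      obtain ⟨i, hi⟩ := (IsPGroup.iff_orderOf.1 S.isPGroup') ⟨QuotientGroup.mk' ι.range (z : K1), Subgroup.mem_comap.1 z.2⟩
      rw [Subgroup.orderOf_mk] at hi
      have h1 : orderOf (QuotientGroup.mk' ι.range (z : K1)) ∣ m := by
        refine (orderOf_map_dvd _ _).trans ?_
        rw [← Subgroup.orderOf_mk (z : K1) hzk]
        exact (orderOf_dvd_natCard _).trans hkerdvd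
      exact Nat.eq_one_of_dvd_coprimes ((hp.coprime_iff_not_dvd.2 hmp).pow_left i) hi.dvd h1
    obtain ⟨x, hx⟩ := (QuotientGroup.eq_one_iff _).1 hq
    refine Subtype.ext ?_
    rw [← hx, show x = 1 from Subtype.ext ((hιπ x).symm.trans (by rw [hx]; exact hz)), map_one]
    rfl
  have hbij : Function.Bijective π1 := (Nat.bijective_iff_injective_and_card π1).2 ⟨hπ1, hcardS1⟩
  let T : E →* (Module.End ℂ (Fin d → ℂ))ˣ :=
    ((MonoidHom.snd G _).comp ((intwE σ E).subtype.comp (K1.subtype.comp S1.subtype))).comp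
      (MulEquiv.ofBijective π1 hbij).symm.toMonoidHom
  have hTint : ∀ (e : E) (n : N), (T e : Module.End ℂ (Fin d → ℂ)) * σ n =
      σ (MulAut.conjNormal (e : G) n) * (T e : Module.End ℂ (Fin d → ℂ)) := by
    intro e n
    obtain ⟨z, rfl⟩ := hbij.2 e
    have h1 := (mem_intw σ).1 ((z : K1) : intwE σ E).2.1 n
    have hTz : T (π1 z) = (((z : K1) : intwE σ E) : G × (Module.End ℂ (Fin d → ℂ))ˣ).2 := by
      simp only [T, MonoidHom.comp_apply, MulEquiv.coe_toMonoidHom]
      rw [(MulEquiv.ofBijective π1 hbij).symm_apply_eq.2 (show π1 z = MulEquiv.ofBijective π1 hbij z from rfl)]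
      rfl
    rw [hTz]
    exact h1
  have hTL : ∀ x : L, (T (x : E) : Module.End ℂ (Fin d → ℂ)) = σ ⟨((x : E) : G), x.2⟩ := by
    intro x
    have hz : ι x ∈ S1 := hRS ⟨x, rfl⟩
    have hTz : T (x : E) = (((ι x : K1) : intwE σ E) : G × (Module.End ℂ (Fin d → ℂ))ˣ).2 := by
      simp only [T, MonoidHom.comp_apply, MulEquiv.coe_toMonoidHom]
      rw [(MulEquiv.ofBijective π1 hbij).symm_apply_eq.2
        (show (x : E) = MulEquiv.ofBijective π1 hbij ⟨ι x, hz⟩ from (hιπ x).symm)]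
      rfl
    rw [hTz]
    exact hσu _
  -- glue
  have hdec : ∀ g : G, ∃ n : N, ∃ e : E, (n : G) * e = g := fun g => by
    have hg : g ∈ N ⊔ E := by rw [sup_comm, htop]; exact Subgroup.mem_top g
    obtain ⟨n, hn, e, he, rfl⟩ := Subgroup.mem_sup_of_normal_left.1 hg
    exact ⟨⟨n, hn⟩, ⟨e, he⟩, rfl⟩
  choose dn de hde using hdec
  have hwell : ∀ (g : G) (n : N) (e : E), (n : G) * e = g →
      σ (dn g) * (T (de g) : Module.End ℂ (Fin d → ℂ)) = σ n * (T e : Module.End ℂ (Fin d → ℂ)) := by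
    intro g n e hg
    have h1 : (n : G) * e = (dn g : G) * de g := hg.trans (hde g).symm
    have hmem : ((de g * e⁻¹ : E) : G) = ((dn g)⁻¹ * n : N) := by
      simp only [Subgroup.coe_mul, InvMemClass.coe_inv]
      rw [eq_inv_mul_iff_mul_eq, ← mul_assoc, ← h1, mul_inv_cancel_right]
    have hx : de g * e⁻¹ ∈ L := Subgroup.mem_subgroupOf.2 (hmem ▸ ((dn g)⁻¹ * n).2)
    have h2 : (T (de g) : Module.End ℂ (Fin d → ℂ)) = σ ((dn g)⁻¹ * n) * (T e : Module.End ℂ (Fin d → ℂ)) := by
      have h3 : T (de g) = T (de g * e⁻¹) * T e := by rw [← map_mul, inv_mul_cancel_right]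
      rw [h3, Units.val_mul]
      congr 1
      rw [show (T (de g * e⁻¹) : Module.End ℂ (Fin d → ℂ)) = σ ⟨_, _⟩ from hTL ⟨de g * e⁻¹, hx⟩]
      congr 1
      exact Subtype.ext hmem
    rw [h2, ← mul_assoc, ← map_mul, mul_inv_cancel_left]
  let ρ : Representation ℂ G (Fin d → ℂ) :=
    { toFun := fun g => σ (dn g) * (T (de g) : Module.End ℂ (Fin d → ℂ))
      map_one' := by
        rw [hwell 1 1 1 (by simp), map_one, map_one, Units.val_one, one_mul]
      map_mul' := fun a b => by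
        rw [hwell (a * b) (dn a * MulAut.conjNormal (de a : G) (dn b)) (de a * de b) (by
          conv_rhs => rw [← hde a, ← hde b]
          simp [MulAut.conjNormal_apply, mul_assoc])]
        rw [map_mul, map_mul, Units.val_mul]
        calc σ (dn a) * σ (MulAut.conjNormal (de a : G) (dn b)) * ((T (de a) : Module.End ℂ (Fin d → ℂ)) * (T (de b) : Module.End ℂ (Fin d → ℂ)))
            = σ (dn a) * (σ (MulAut.conjNormal (de a : G) (dn b)) * (T (de a) : Module.End ℂ (Fin d → ℂ))) * (T (de b) : Module.End ℂ (Fin d → ℂ)) := by simp only [mul_assoc]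
          _ = σ (dn a) * ((T (de a) : Module.End ℂ (Fin d → ℂ)) * σ (dn b)) * (T (de b) : Module.End ℂ (Fin d → ℂ)) := by rw [hTint]
          _ = _ := by simp only [mul_assoc] }
  have hρN : ∀ n : N, ρ (n : G) = σ n := fun n => by
    show σ (dn (n : G)) * (T (de (n : G)) : Module.End ℂ (Fin d → ℂ)) = σ n
    rw [hwell (n : G) n 1 (by simp), map_one, Units.val_one, mul_one]
  have hval : ∀ n : N, ρ.character (n : G) = σ.character n := fun n => by
    show LinearMap.trace ℂ _ (ρ (n : G)) = LinearMap.trace ℂ _ (σ n)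
    rw [hρN]
  refine ⟨ρ.character, isIrr_of_comp_irr N.subtype (isCharacter_character ρ) ?_, hval⟩
  rw [show (fun x : N => ρ.character (N.subtype x)) = σ.character from funext hval]
  exact isIrrCharacter_character σ hirr

end Cfsg.Agent.Char.ExtPIndex
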