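import Cfsg.Agent.Lib.Char.Linear
import Cfsg.Agent.Lib.Char.Induction
import Cfsg.Agent.Lib.Solv.Extraspecial

/-!
# Characters of extraspecial groups
-/

set_option autoImplicit false
set_option linter.unusedSectionVars false

open scoped commutatorElement

namespace Cfsg.Agent.Char

open Cfsg Module
open scoped ComplexConjugate

universe u

variable {G : Type u} [Group G] [Fintype G] {p n : ℕ}

/-- Central elements act on an irreducible character by a scalar of modulus one. -/
theorem char_mul_central {χ : G → ℂ} (h : IsIrrCharacter G χ) {z : G}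
    (hz : z ∈ Subgroup.center G) :
    ∃ ω : ℂ, ‖ω‖ = 1 ∧ ∀ x : G, χ (x * z) = ω * χ x := by
  classical
  obtain ⟨m, ρ, hρ, rfl⟩ := h
  haveI := hρ
  have hset : (Finset.univ.filter fun x : G => IsConj z x) = {z} := by
    ext x
    simp only [Finset.mem_filter, Finset.mem_univ, true_and, Finset.mem_singleton]
    refine ⟨fun hx => ?_, fun hx => hx ▸ IsConj.refl z⟩
    obtain ⟨c, hc⟩ := isConj_iff.mp hx
    rw [← hc, Subgroup.mem_center_iff.mp hz c, mul_inv_cancel_right]
  have hω := classSum_eq_omega ρ z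
  rw [hset, Finset.sum_singleton] at hω
  refine ⟨omega ρ.character z, ?_, fun x => ?_⟩
  · have hfull := (eq_scalar_iff ρ z).mpr ⟨_, hω⟩
    have h1 : ρ.character z = omega ρ.character z * (finrank ℂ (Fin m → ℂ) : ℂ) := by
      rw [Representation.character, hω, map_smul, LinearMap.trace_id, smul_eq_mul]
    have hd : (0 : ℝ) < finrank ℂ (Fin m → ℂ) := by
      rw [Nat.cast_pos, Nat.pos_iff_ne_zero]
      intro h0
      exact irr_one_ne_zero (isIrrCharacter_character ρ hρ) (by simp [Representation.char_one, h0])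
    rw [h1, norm_mul, Complex.norm_natCast] at hfull
    exact mul_right_cancel₀ hd.ne' (hfull.trans (one_mul _).symm)
  · rw [Representation.character, map_mul, hω, ← Module.End.one_eq_id, mul_smul_comm, mul_one,
      map_smul, smul_eq_mul]
    rfl

/-- In an extraspecial group a class function moved by the centre vanishes off the centre. -/
theorem extraspecial_vanish [hp : Fact p.Prime] (hP : IsExtraspecial p G) {f : G → ℂ}
    (hf : IsClassFunction G f)
    (h : ∀ z ∈ Subgroup.center G, z ≠ 1 → ∃ c : ℂ, c ≠ 1 ∧ ∀ x, f (x * z) = c * f x)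
    {x : G} (hx : x ∉ Subgroup.center G) : f x = 0 := by
  obtain ⟨y, hy⟩ : ∃ y, y * x ≠ x * y := by
    by_contra hh
    push Not at hh
    exact hx (Subgroup.mem_center_iff.mpr hh)
  have hzc : x⁻¹ * y * x * y⁻¹ ∈ Subgroup.center G := by
    rw [← hP.1.2.2]
    have := Subgroup.commutator_mem_commutator (Subgroup.mem_top x⁻¹) (Subgroup.mem_top y)
    rwa [commutatorElement_def, inv_inv] at this
  obtain ⟨c, hc1, hc⟩ := h _ hzc fun h1 => hy (by
    calc y * x = x * (x⁻¹ * y * x * y⁻¹) * y := by group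
      _ = x * y := by rw [h1, mul_one])
  have h2 := hc x
  rw [show x * (x⁻¹ * y * x * y⁻¹) = y * x * y⁻¹ by group, hf x y] at h2
  by_contra hne
  exact hc1 (mul_right_cancel₀ hne (h2.symm.trans (one_mul _).symm))

/-- A linear character nontrivial at one element of a centre of prime order is nontrivial at all. -/
theorem center_moved [hp : Fact p.Prime] (hP : IsExtraspecial p G) {K : Subgroup G}
    (hK : K ≤ Subgroup.center G) (h1 : K ≠ ⊥) : K = Subgroup.center G := by
  refine Subgroup.eq_of_le_of_card_ge hK ?_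
  rw [hP.2]
  have h2 := Subgroup.card_dvd_of_le hK
  rw [hP.2] at h2
  rcases (Nat.dvd_prime hp.out).mp h2 with h3 | h3
  · exact absurd (Subgroup.card_eq_one.mp h3) h1
  · exact h3.ge

/-- Inducing a linear character, faithful on the centre, from a maximal abelian subgroup. -/
theorem extraspecial_induced [hp : Fact p.Prime] (hP : IsExtraspecial p G)
    (hcard : Nat.card G = p ^ (2 * n + 1)) (A : Subgroup G) [Fintype A]
    (hA : Nat.card A = p ^ (n + 1)) {lam : A → ℂ} (hlam : IsCharacter A lam) (h1 : lam 1 = 1)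
    (hZ : ∃ a : A, (a : G) ∈ Subgroup.center G ∧ lam a ≠ 1) :
    IsIrrCharacter G (indFun A lam) ∧
      ∀ x : G, x ∉ Subgroup.center G → indFun A lam x = 0 := by
  classical
  obtain ⟨l, rfl⟩ := exists_hom_of_degree_one hlam h1
  obtain ⟨a, haZ, ha⟩ := hZ
  have hK : Subgroup.center G ⊓ A = Subgroup.center G := center_moved hP inf_le_left fun hb => by
    have : (a : G) ∈ (⊥ : Subgroup G) := hb ▸ ⟨haZ, a.2⟩
    refine ha ?_
    show (l a : ℂ) = 1
    rw [show a = 1 from Subtype.ext (Subgroup.mem_bot.mp this), map_one, Units.val_one]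
  have hZA : Subgroup.center G ≤ A := hK ▸ inf_le_right
  have hker : (l.ker.map A.subtype ⊓ Subgroup.center G : Subgroup G) = ⊥ := by
    by_contra hb
    have hh : (a : G) ∈ l.ker.map A.subtype :=
      ((center_moved hP inf_le_right hb).symm ▸ haZ :
        (a : G) ∈ l.ker.map A.subtype ⊓ Subgroup.center G).1
    obtain ⟨b, hb', hba⟩ := hh
    exact ha (show (l a : ℂ) = 1 by rw [← show b = a from Subtype.ext hba, MonoidHom.mem_ker.mp hb', Units.val_one])
  have hmul : ∀ (x z : G) (hz : z ∈ Subgroup.center G),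
      indFun A (fun b => (l b : ℂ)) (x * z) =
        (l ⟨z, hZA hz⟩ : ℂ) * indFun A (fun b => (l b : ℂ)) x := fun x z hz => by
    have hcz : ∀ g : G, g⁻¹ * (x * z) * g = g⁻¹ * x * g * z := fun g => by
      rw [mul_assoc, mul_assoc x z g, ← Subgroup.mem_center_iff.mp hz g]
      group
    simp only [indFun, hcz]
    simp only [Finset.mul_sum]
    refine Finset.sum_congr rfl fun g _ => ?_
    rw [mul_left_comm (l ⟨z, hZA hz⟩ : ℂ)]
    congr 1
    by_cases hg : g⁻¹ * x * g ∈ A
    · rw [extendByZero_mem A _ (A.mul_mem hg (hZA hz)), extendByZero_mem A _ hg,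
        show (⟨_, A.mul_mem hg (hZA hz)⟩ : A) = ⟨_, hg⟩ * ⟨z, hZA hz⟩ from rfl, map_mul,
        Units.val_mul, mul_comm]
    · rw [extendByZero_not_mem A _ hg, extendByZero_not_mem A _ fun h =>
        hg ((A.mul_mem_cancel_right (hZA hz)).mp h), mul_zero]
  have hC := isCharacter_indFun A (isCharacter_linear l)
  have hvan : ∀ x : G, x ∉ Subgroup.center G → indFun A (fun b => (l b : ℂ)) x = 0 :=
    fun x => extraspecial_vanish hP (isClassFunction_character hC) fun z hz hz1 =>
      ⟨_, fun hl => hz1 (Subgroup.mem_bot.mp (hker ▸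
        ⟨⟨⟨z, hZA hz⟩, MonoidHom.mem_ker.mpr (Units.ext hl), rfl⟩, hz⟩)), fun x => hmul x z hz⟩
  refine ⟨isIrr_of_norm_one hC ?_, hvan⟩
  have hidx : A.index = p ^ n := by
    have h := A.index_mul_card
    rw [hA, hcard, show 2 * n + 1 = n + (n + 1) by omega, pow_add p n (n + 1)] at h
    exact Nat.eq_of_mul_eq_mul_right (pow_pos hp.out.pos _) h
  rw [classInner, ← Finset.sum_subset (Finset.subset_univ
    (Finset.univ.filter fun g : G => g ∈ Subgroup.center G)) fun g _ hg => by
      rw [hvan g (by simpa using hg), zero_mul]]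
  rw [Finset.sum_congr rfl (g := fun _ => ((p : ℂ) ^ n) * (p : ℂ) ^ n) fun g hg => ?_,
    Finset.sum_const, nsmul_eq_mul]
  · have hc : (Finset.univ.filter fun g : G => g ∈ Subgroup.center G).card = p := by
      rw [← Fintype.card_subtype, ← Nat.card_eq_fintype_card]
      exact hP.2
    rw [hc, hcard, Nat.cast_pow]
    have : (p : ℂ) ≠ 0 := Nat.cast_ne_zero.mpr hp.out.ne_zero
    field_simp
    ring
  · have hg' : g ∈ Subgroup.center G := by simpa using hg
    have e := hmul 1 g hg'
    rw [one_mul] at e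
    rw [e, Complex.mul_conj', norm_mul, indFun_one, hidx, map_one, Units.val_one, mul_one,
      Complex.norm_natCast, norm_of_pow_eq_one' l ⟨g, hZA hg'⟩]
    push_cast
    ring
where
  norm_of_pow_eq_one' {H : Subgroup G} (l : H →* ℂˣ) (z : H) : ‖(l z : ℂ)‖ = 1 :=
    Complex.norm_eq_one_of_pow_eq_one (linear_pow_card l z) (orderOf_pos z).ne'

/-- The degrees of the irreducible characters of an extraspecial group. -/
theorem extraspecial_degrees [hp : Fact p.Prime] (hP : IsExtraspecial p G)
    (hcard : Nat.card G = p ^ (2 * n + 1)) :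
    (∀ χ : IrrCharacter G, (χ : G → ℂ) 1 = 1 ∨ (χ : G → ℂ) 1 = (p : ℂ) ^ n) ∧
      Nat.card {χ : IrrCharacter G // (χ : G → ℂ) 1 = (p : ℂ) ^ n} = p - 1 := by
  classical
  have hp0 : (p : ℂ) ≠ 0 := Nat.cast_ne_zero.mpr hp.out.ne_zero
  obtain ⟨m, hm, hcard', -⟩ := Cfsg.Agent.Solv.extraspecial_card hP
  obtain rfl : m = n := by
    have := Nat.pow_right_injective hp.out.two_le (hcard'.symm.trans hcard)
    omega
  have hall : ∀ χ : IrrCharacter G, (χ : G → ℂ) 1 = 1 ∨ (χ : G → ℂ) 1 = (p : ℂ) ^ m := by
    intro χ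
    have hc := irr_isCharacter χ.2
    choose ω hω1 hω using fun z : Subgroup.center G => char_mul_central χ.2 z.2
    have h1 := irr_one_ne_zero χ.2
    have hωm : ∀ a b, ω (a * b) = ω a * ω b := fun a b => mul_right_cancel₀ h1 (by
      rw [← hω, mul_assoc (ω a), ← hω b 1, one_mul, Subgroup.coe_mul, one_mul, ← hω,
        Subgroup.mem_center_iff.mp a.2 (b : G)])
    by_cases htriv : ∀ z, ω z = 1
    · left
      obtain ⟨k, ρ, hρ, hρχ⟩ := χ.2
      have hid : ∀ c ∈ commutator G, ρ c = LinearMap.id := fun c hc' => by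
        rw [hP.1.2.2] at hc'
        have h := hω ⟨c, hc'⟩ 1
        rw [one_mul, htriv, one_mul] at h
        rw [← eq_id_iff, ← ρ.char_one, hρχ]
        exact h
      have hcomm : ∀ a b : G, ρ a * ρ b = ρ b * ρ a := fun a b => by
        have e : a * b = ⁅a, b⁆ * (b * a) := by rw [commutatorElement_def]; group
        rw [← map_mul, e, map_mul, hid _ (Subgroup.commutator_mem_commutator
          (Subgroup.mem_top a) (Subgroup.mem_top b)), map_mul, ← Module.End.one_eq_id, one_mul]
      exact linear_of_commuting χ ρ hρ hρχ hcomm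
    · right
      have hv : ∀ x : G, x ∉ Subgroup.center G → (χ : G → ℂ) x = 0 := fun x =>
        extraspecial_vanish hP (isClassFunction_character hc) fun z hz hz1 => by
          refine ⟨ω ⟨z, hz⟩, fun hz' => htriv fun w => ?_, fun y => hω ⟨z, hz⟩ y⟩
          have hgen : Subgroup.zpowers z = Subgroup.center G :=
            center_moved hP (Subgroup.zpowers_le.mpr hz) (by simpa using hz1)
          obtain ⟨k, hk⟩ := (isOfFinOrder_of_finite z).mem_powers_iff_mem_zpowers.mpr
            (show (w : G) ∈ Subgroup.zpowers z from hgen.symm ▸ w.2)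
          obtain rfl : w = ⟨z, hz⟩ ^ k := Subtype.ext hk.symm
          clear hk
          induction k with
          | zero => exact mul_right_cancel₀ h1 (by rw [← hω, pow_zero, Subgroup.coe_one, mul_one, one_mul])
          | succ k ih => rw [pow_succ, hωm, ih, hz', mul_one]
      have hn := irr_self χ.2
      rw [classInner, ← Finset.sum_subset (Finset.subset_univ
        (Finset.univ.filter fun g : G => g ∈ Subgroup.center G)) fun g _ hg => by
          rw [hv g (by simpa using hg), zero_mul]] at hn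
      rw [Finset.sum_congr rfl (g := fun _ => (χ : G → ℂ) 1 * (χ : G → ℂ) 1) fun g hg => ?_,
        Finset.sum_const, nsmul_eq_mul] at hn
      · rw [show (Finset.univ.filter fun g : G => g ∈ Subgroup.center G).card = p by
          rw [← Fintype.card_subtype, ← Nat.card_eq_fintype_card]; exact hP.2, hcard] at hn
        rw [char_one_eq_deg hc] at hn ⊢
        push_cast at hn
        field_simp at hn
        have h2 : deg (χ : G → ℂ) ^ 2 = (p ^ m) ^ 2 := by
          have : (p : ℂ) * (deg (χ : G → ℂ) : ℂ) ^ 2 = (p : ℂ) * ((p : ℂ) ^ m) ^ 2 := by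
            rw [← pow_mul]
            linear_combination hn
          exact_mod_cast mul_left_cancel₀ hp0 this
        rw [Nat.pow_left_injective two_ne_zero h2, Nat.cast_pow]
      · have hg' : g ∈ Subgroup.center G := by simpa using hg
        have e := hω ⟨g, hg'⟩ 1
        rw [one_mul] at e
        rw [show (g : G) = ((⟨g, hg'⟩ : Subgroup.center G) : G) from rfl, e, Complex.mul_conj',
          norm_mul, hω1, one_mul, char_one_eq_deg hc, Complex.norm_natCast]
        push_cast
        ring
  refine ⟨hall, ?_⟩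
  set k := Nat.card {χ : IrrCharacter G // (χ : G → ℂ) 1 = (p : ℂ) ^ m}
  have hne : (p : ℂ) ^ m ≠ 1 := by
    rw [← Nat.cast_pow, Ne, Nat.cast_eq_one]
    exact (Nat.one_lt_pow (by omega) hp.out.one_lt).ne'
  have hs := sum_sq_deg (G := G)
  rw [← Finset.sum_filter_add_sum_filter_not Finset.univ fun χ : IrrCharacter G => (χ : G → ℂ) 1 = 1,
    Finset.sum_congr rfl (g := fun _ => (1 : ℂ)) fun χ hχ => by rw [(Finset.mem_filter.mp hχ).2, one_pow],
    Finset.sum_congr (s₂ := Finset.univ.filter fun χ : IrrCharacter G => (χ : G → ℂ) 1 = (p : ℂ) ^ m)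
      (g := fun _ => ((p : ℂ) ^ m) ^ 2) (Finset.filter_congr fun χ _ =>
        ⟨fun h => (hall χ).resolve_left h, fun h h' => hne (h.symm.trans h')⟩)
      fun χ hχ => by rw [(Finset.mem_filter.mp hχ).2],
    Finset.sum_const, Finset.sum_const, nsmul_one, nsmul_eq_mul, ← Fintype.card_subtype,
    ← Fintype.card_subtype, ← Nat.card_eq_fintype_card, ← Nat.card_eq_fintype_card, card_linear,
    hP.1.2.2, hcard] at hs
  have hidx : (Subgroup.center G).index = p ^ (2 * m) := by
    have h := (Subgroup.center G).index_mul_card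
    rw [hP.2, hcard, pow_succ] at h
    exact Nat.eq_of_mul_eq_mul_right hp.out.pos h
  rw [hidx] at hs
  have h3 : p ^ (2 * m) * (k + 1) = p ^ (2 * m) * p := by
    apply Nat.cast_injective (R := ℂ)
    push_cast at hs ⊢
    linear_combination hs
  have h4 := Nat.eq_of_mul_eq_mul_left (pow_pos hp.out.pos _) h3
  omega
where
  linear_of_commuting (χ : IrrCharacter G) {k : ℕ} (ρ : Representation ℂ G (Fin k → ℂ))
      (hρ : ρ.IsIrreducible) (hρχ : ρ.character = (χ : G → ℂ))
      (hc : ∀ a b : G, ρ a * ρ b = ρ b * ρ a) : (χ : G → ℂ) 1 = 1 := by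
    classical
    have hs : ∀ g, ∃ ω : ℂ, ρ g = ω • LinearMap.id := fun g =>
      schur_commute ρ hρ (ρ g) fun h => hc g h
    have hfull : ∀ g, ‖(χ : G → ℂ) g‖ = (deg (χ : G → ℂ) : ℝ) := fun g => by
      rw [← hρχ, (eq_scalar_iff ρ g).mpr (hs g)]
      congr 1
      apply Nat.cast_injective (R := ℂ)
      rw [← char_one_eq_deg (isCharacter_character ρ), Representation.char_one]
    have hn := irr_self χ.2
    rw [classInner, Finset.sum_congr rfl (g := fun _ => ((deg (χ : G → ℂ) : ℂ)) ^ 2) fun g _ => by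
      rw [Complex.mul_conj', hfull g]; push_cast; rfl, Finset.sum_const, nsmul_eq_mul,
      Finset.card_univ, ← Nat.card_eq_fintype_card,
      inv_mul_cancel_left₀ (Nat.cast_ne_zero.mpr Nat.card_pos.ne')] at hn
    have h2 : deg (χ : G → ℂ) ^ 2 = 1 := by exact_mod_cast hn
    rw [char_one_eq_deg (irr_isCharacter χ.2), (Nat.pow_eq_one.mp h2).resolve_right two_ne_zero,
      Nat.cast_one]
  schur_commute {k : ℕ} (ρ : Representation ℂ G (Fin k → ℂ)) (hρ : ρ.IsIrreducible)
      (T : (Fin k → ℂ) →ₗ[ℂ] (Fin k → ℂ)) (hT : ∀ h, T * ρ h = ρ h * T) :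
      ∃ ω : ℂ, T = ω • LinearMap.id := by
    haveI := hρ
    let Ti : ρ.IntertwiningMap ρ := T.intertwiningMap_of_isIntertwiningMap ρ ρ fun h v =>
      LinearMap.congr_fun (hT h) v
    obtain ⟨c, hc⟩ :=
      (Representation.IsIrreducible.algebraMap_intertwiningMap_bijective_of_isAlgClosed
        (ρ := ρ) (k := ℂ)).2 Ti
    refine ⟨c, LinearMap.ext fun v => ?_⟩
    have := congrArg (fun F : ρ.IntertwiningMap ρ => F v) hc
    rw [show T v = Ti v from rfl, ← this]
    rfl

end Cfsg.Agent.Char
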