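import Cfsg.Agent.Lib.Char.BrolineGarrison

/-!
# The Fitting length is at most the number of character degrees
-/

set_option autoImplicit false
open Cfsg

namespace Cfsg.Agent.Char.BG

open TwoDeg

universe u

/-- The degrees of the irreducible characters. -/
noncomputable def degs (G : Type u) [Group G] [Fintype G] : Finset ℕ :=
  Finset.univ.image fun χ : IrrCharacter G => deg (χ : G → ℂ)

/-- A normal series with nilpotent factors. -/
def NilSeries (G : Type u) [Group G] (n : ℕ) : Prop :=
  ∃ N : Fin (n + 1) → Subgroup G, N 0 = ⊥ ∧ N (Fin.last n) = ⊤ ∧ Monotone N ∧ (∀ i, (N i).Normal) ∧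
    ∀ i : Fin n, ∃ k : ℕ, (N i.succ).lowerCentralSeries k ≤ N i.castSucc

theorem nilSeries_of_nilpotent {G : Type u} [Group G] (h : Group.IsNilpotent G) (n : ℕ) :
    NilSeries G (n + 1) := by
  obtain ⟨k, hk⟩ := Subgroup.nilpotent_iff_lowerCentralSeries.1 h
  refine ⟨Fin.cases ⊥ fun _ => ⊤, rfl, ?_, ?_, fun i => ?_, fun i => ⟨k, ?_⟩⟩
  · rw [show Fin.last (n + 1) = (Fin.last n).succ from rfl]; simp only [Fin.cases_succ]
  · intro a b hab
    induction a using Fin.cases with
    | zero => exact bot_le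
    | succ a =>
      induction b using Fin.cases with
      | zero => exact absurd hab (not_le.2 (Fin.succ_pos a))
      | succ b => exact le_rfl
  · induction i using Fin.cases <;> simp only [Fin.cases_zero, Fin.cases_succ] <;> infer_instance
  · simp only [Fin.cases_succ, hk]
    exact bot_le

theorem nilSeries_extend {G : Type u} [Group G] (F : Subgroup G) [F.Normal] (hF : Group.IsNilpotent F)
    {n : ℕ} (h : NilSeries (G ⧸ F) n) : NilSeries G (n + 1) := by
  obtain ⟨N, hN0, hN1, hmono, hn, hfac⟩ := h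
  have hsurj : Function.Surjective (QuotientGroup.mk' F) := QuotientGroup.mk'_surjective F
  refine ⟨Fin.cases ⊥ fun i => (N i).comap (QuotientGroup.mk' F), rfl, ?_, ?_, fun i => ?_, fun i => ?_⟩
  · rw [show Fin.last (n + 1) = (Fin.last n).succ from rfl]; simp only [Fin.cases_succ, hN1, Subgroup.comap_top]
  · intro a b hab
    induction a using Fin.cases with
    | zero => exact bot_le
    | succ a =>
      induction b using Fin.cases with
      | zero => exact absurd hab (not_le.2 (Fin.succ_pos a))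
      | succ b => exact Subgroup.comap_mono (hmono (Fin.succ_le_succ_iff.1 hab))
  · induction i using Fin.cases with
    | zero => simp only [Fin.cases_zero]; infer_instance
    | succ i => simp only [Fin.cases_succ]; exact (hn i).comap _
  · induction i using Fin.cases with
    | zero =>
      obtain ⟨k, hk⟩ := (Subgroup.isNilpotent_iff_lowerCentralSeries F).1 hF
      refine ⟨k, ?_⟩
      simp only [Fin.cases_succ]
      rw [hN0, MonoidHom.comap_bot, QuotientGroup.ker_mk', hk]
      exact bot_le
    | succ i =>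
      obtain ⟨k, hk⟩ := hfac i
      refine ⟨k, ?_⟩
      simp only [← Fin.succ_castSucc, Fin.cases_succ]
      rw [← Subgroup.map_le_iff_le_comap,
        Subgroup.map_lowerCentralSeries, Subgroup.map_comap_eq_self_of_surjective hsurj]
      exact hk

theorem nilSeries_of_degs (n : ℕ) : ∀ (G : Type u) [Group G] [Fintype G], Group.IsSolvable G →
    (degs G).card ≤ n → NilSeries G n := by
  induction n with
  | zero =>
    intro G _ _ _ h
    exact absurd h (not_le.2 (Finset.card_pos.2
      ⟨deg (fun _ : G => (1 : ℂ)), Finset.mem_image.2 ⟨⟨_, isIrrCharacter_one⟩, Finset.mem_univ _, rfl⟩⟩))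
  | succ n IH =>
    intro G _ _ hsolv h
    classical
    haveI := Solv.fittingSubgroup_normal (G := G)
    set F := fittingSubgroup G with hFdef
    by_cases htop : F = ⊤
    · refine nilSeries_of_nilpotent ?_ n
      rw [← Group.isNilpotent_top, ← htop]
      exact Solv.fittingSubgroup_nilpotent
    refine nilSeries_extend F Solv.fittingSubgroup_nilpotent (IH (G ⧸ F) inferInstance ?_)
    haveI : Nonempty (IrrCharacter G) := ⟨⟨_, isIrrCharacter_one⟩⟩
    obtain ⟨χ, hχ⟩ := Finite.exists_max (fun ψ : IrrCharacter G => deg (ψ : G → ℂ))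
    have hnot : ¬ F ≤ kerC χ := by
      intro hle
      have hcase : ¬ kerC χ ≤ F ∨ (kerC χ = F ∧ Group.IsSolvable (G ⧸ kerC χ) ∧ kerC χ ≠ ⊤) := by
        by_cases hK : kerC χ ≤ F
        · exact Or.inr ⟨le_antisymm hK hle, inferInstance, fun hkt => htop (top_le_iff.1 (hkt ▸ hK))⟩
        · exact Or.inl hK
      obtain ⟨ψ, hlt, -⟩ := exists_larger χ hcase
      exact absurd (hχ ψ) (not_le.2 hlt)
    have hsub : degs (G ⧸ F) ⊆ (degs G).erase (deg (χ : G → ℂ)) := by
      intro d hd
      obtain ⟨φ, -, rfl⟩ := Finset.mem_image.1 hd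
      have heq : deg (fun g : G => (φ : G ⧸ F → ℂ) (QuotientGroup.mk g)) = deg (φ : G ⧸ F → ℂ) := by
        simp [deg]
      refine Finset.mem_erase.2 ⟨fun he => ?_, Finset.mem_image.2 ⟨⟨_, isIrr_inflate F φ.2⟩, Finset.mem_univ _, heq⟩⟩
      set ψ : IrrCharacter G := ⟨_, isIrr_inflate F φ.2⟩
      have hψ : deg (ψ : G → ℂ) = deg (χ : G → ℂ) := heq.trans he
      have hFψ : F ≤ kerC ψ := fun x hx => mem_kerC_of_eq ψ (by
        show (φ : G ⧸ F → ℂ) (QuotientGroup.mk x) = (φ : G ⧸ F → ℂ) (QuotientGroup.mk 1)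
        rw [(QuotientGroup.eq_one_iff x).2 hx, QuotientGroup.mk_one])
      have hcase : ¬ kerC ψ ≤ F ∨ (kerC ψ = F ∧ Group.IsSolvable (G ⧸ kerC ψ) ∧ kerC ψ ≠ ⊤) := by
        by_cases hK : kerC ψ ≤ F
        · exact Or.inr ⟨le_antisymm hK hFψ, inferInstance, fun hkt => htop (top_le_iff.1 (hkt ▸ hK))⟩
        · exact Or.inl hK
      obtain ⟨ξ, hlt, -⟩ := exists_larger ψ hcase
      exact absurd (hχ ξ) (not_le.2 (hψ ▸ hlt))
    have h1 := Finset.card_le_card hsub
    rw [Finset.card_erase_of_mem (show deg (χ : G → ℂ) ∈ degs G from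
      Finset.mem_image.2 ⟨χ, Finset.mem_univ _, rfl⟩)] at h1
    exact h1.trans (by show (degs G).card - 1 ≤ n; omega)

theorem isNilpotent_quotient {G : Type u} [Group G] (A B : Subgroup G) [(B.subgroupOf A).Normal] {k : ℕ}
    (h : A.lowerCentralSeries k ≤ B) : Group.IsNilpotent (A ⧸ B.subgroupOf A) := by
  rw [Subgroup.nilpotent_iff_lowerCentralSeries]
  refine ⟨k, ?_⟩
  rw [← Subgroup.map_top_of_surjective _ (QuotientGroup.mk'_surjective (B.subgroupOf A)),
    ← Subgroup.map_lowerCentralSeries, eq_bot_iff, Subgroup.map_le_iff_le_comap, MonoidHom.comap_bot,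
    QuotientGroup.ker_mk']
  intro x hx
  rw [Subgroup.mem_subgroupOf]
  refine h ?_
  rw [← Subgroup.top_subtype_lowerCentralSeries]
  exact Subgroup.mem_map_of_mem A.subtype hx

end Cfsg.Agent.Char.BG
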