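import Cfsg.Agent.Lib.Perm.Fpf.QuatAut
import Cfsg.Agent.Lib.Solv.UniqueSub
import Cfsg.Agent.Lib.Solv.Generation
import Cfsg.Agent.Lib.Solv.PGroupPhi
import Cfsg.Prelude.Def_Transfer

/-!
A noncyclic abelian group of odd prime power order acting on a two-group so that every nontrivial
element fixes at most one involution: the two-group is extraspecial.
-/

set_option autoImplicit false
set_option linter.style.haveILetI false
set_option linter.unusedSectionVars false

open scoped commutatorElement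

universe u

namespace Cfsg.Agent.Char.FixQuatAuts

variable {W : Type u} [Group W]

/-- Fixed subgroup of an automorphism. -/
def fixS (e : MulAut W) : Subgroup W where
  carrier := {x | e x = x}
  mul_mem' {a b} (ha : e a = a) (hb : e b = b) := show e (a * b) = a * b by rw [map_mul, ha, hb]
  one_mem' := map_one e
  inv_mem' {a} (ha : e a = a) := show e a⁻¹ = a⁻¹ by rw [map_inv, ha]

theorem mem_fixS {e : MulAut W} {x : W} : x ∈ fixS e ↔ e x = x := Iff.rfl

theorem gen_fix [Finite W] (E : Subgroup (MulAut W)) (hab : IsMulCommutative E)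
    (hnc : ¬ IsCyclic E) (hco : (Nat.card E).Coprime (Nat.card W)) (H J : Subgroup W)
    (hH : ∀ e ∈ E, ∀ x ∈ H, e x ∈ H) (h : ∀ e ∈ E, e ≠ 1 → H ⊓ fixS e ≤ J) : H ≤ J := by
  haveI : Finite (MulAut W) := Finite.of_injective _ DFunLike.coe_injective
  let G := W ⋊[E.subtype] E
  haveI : Finite G := Finite.of_equiv _ SemidirectProduct.equivProd.symm
  let iW : W →* G := SemidirectProduct.inl
  let iE : E →* G := SemidirectProduct.inr
  haveI : IsMulCommutative (iE.range) := ⟨⟨by
    rintro ⟨_, a, rfl⟩ ⟨_, b, rfl⟩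
    refine Subtype.ext ?_
    show iE a * iE b = iE b * iE a
    rw [← map_mul, ← map_mul, hab.is_comm.comm]⟩⟩
  have hconj : ∀ (a : E) (x : W), iE a * iW x * (iE a)⁻¹ = iW ((a : MulAut W) x) := fun a x => by
    rw [← map_inv]
    exact (SemidirectProduct.inl_aut (φ := E.subtype) a x).symm
  have hn : iE.range ≤ Subgroup.normalizer ((H.map iW : Subgroup G) : Set G) := by
    rintro _ ⟨a, rfl⟩
    rw [Subgroup.mem_normalizer_iff]
    intro g
    constructor
    · rintro ⟨x, hx, rfl⟩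
      exact ⟨_, hH a a.2 x hx, (hconj a x).symm⟩
    · rintro ⟨x, hx, hxe⟩
      refine ⟨((a⁻¹ : E) : MulAut W) x, hH _ (a⁻¹).2 x hx, ?_⟩
      rw [← hconj a⁻¹ x, hxe, map_inv]
      simp [mul_assoc]
  have hcard : (Nat.card iE.range).Coprime (Nat.card (H.map iW)) := by
    rw [show Nat.card iE.range = Nat.card E from Nat.card_congr
      (MonoidHom.ofInjective (SemidirectProduct.inr_injective (φ := E.subtype))).toEquiv.symm,
      Subgroup.card_map_of_injective SemidirectProduct.inl_injective]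
    exact hco.coprime_dvd_right (Subgroup.card_subgroup_dvd_card H)
  have hle : H.map iW ≤ J.map iW := by
    rw [← Solv.gen_eq iE.range (H.map iW) inferInstance hn hcard]
    refine iSup₂_le ?_
    rintro B ⟨hB, g, ⟨a, rfl⟩, hBa⟩
    obtain ⟨b, hbB, hb⟩ : ∃ b ∈ B, b ≠ 1 := by
      by_contra hcon
      push_neg at hcon
      apply hnc
      refine ⟨a, fun x => ?_⟩
      have hx : iE x ∈ B ⊔ Subgroup.zpowers (iE a) := by rw [hBa]; exact ⟨x, rfl⟩
      have hle : B ⊔ Subgroup.zpowers (iE a) ≤ Subgroup.zpowers (iE a) :=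
        sup_le (fun y hy => by rw [hcon y hy]; exact one_mem _) le_rfl
      obtain ⟨k, hk⟩ := hle hx
      exact ⟨k, SemidirectProduct.inr_injective (φ := E.subtype) (by
        rw [map_zpow]; exact hk)⟩
    obtain ⟨c, rfl⟩ := hB hbB
    rintro _ ⟨⟨x, hx, rfl⟩, hC⟩
    have hc : c ≠ 1 := fun e => hb (by rw [e, map_one])
    refine ⟨x, h c c.2 (fun e => hc (Subtype.ext e)) ⟨hx, ?_⟩, rfl⟩
    show (c : MulAut W) x = x
    have h1 := Subgroup.mem_centralizer_iff.1 hC _ hbB
    refine SemidirectProduct.inl_injective (φ := E.subtype) ?_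
    show iW ((c : MulAut W) x) = iW x
    rw [← hconj, h1, mul_inv_cancel_right]
  intro x hx
  obtain ⟨y, hy, e⟩ := hle ⟨x, hx, rfl⟩
  exact SemidirectProduct.inl_injective (φ := E.subtype) e ▸ hy

theorem mem_pair {z : W} (hz : z * z = 1) {x : W} :
    x ∈ Subgroup.zpowers z ↔ x = 1 ∨ x = z := by
  constructor
  · rintro ⟨k, rfl⟩
    rcases Int.even_or_odd k with ⟨m, rfl⟩ | ⟨m, rfl⟩
    · left
      show z ^ (m + m) = 1
      rw [← two_mul, zpow_mul, zpow_two, hz, one_zpow]
    · right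
      show z ^ (2 * m + 1) = z
      rw [zpow_add, zpow_mul, zpow_two, hz, one_zpow, one_mul, zpow_one]
  · rintro (rfl | rfl)
    exacts [one_mem _, Subgroup.mem_zpowers _]

theorem stab2 (g : MulAut W) {z x : W} (hz : z * z = 1) (hgz : g z = z) (hx : g (g (g x)) = x)
    (h : x⁻¹ * g x ∈ Subgroup.zpowers z) : g x = x := by
  rcases (mem_pair hz).1 h with h | h
  · exact (inv_mul_eq_one.1 h).symm
  · have h1 : g x = x * z := inv_mul_eq_iff_eq_mul.1 h
    have h2 : g (g x) = x := by rw [h1, map_mul, hgz, h1, mul_assoc, hz, mul_one]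
    rw [h2] at hx
    exact hx

section Restr

variable (E : Subgroup (MulAut W)) (H : Subgroup W) (hH : ∀ e ∈ E, ∀ x ∈ H, e x ∈ H)

/-- Restriction to an invariant subgroup. -/
def restr : E →* MulAut H where
  toFun e :=
    { toFun := fun x => ⟨(e : MulAut W) x, hH e e.2 x x.2⟩
      invFun := fun x => ⟨(e : MulAut W)⁻¹ x, hH _ (inv_mem e.2) x x.2⟩
      left_inv := fun x => Subtype.ext ((e : MulAut W).symm_apply_apply x)
      right_inv := fun x => Subtype.ext ((e : MulAut W).apply_symm_apply x)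
      map_mul' := fun x y => Subtype.ext (map_mul (e : MulAut W) (x : W) y) }
  map_one' := MulEquiv.ext fun x => Subtype.ext rfl
  map_mul' a b := MulEquiv.ext fun x => Subtype.ext rfl

theorem restr_apply (e : E) (x : H) : ((restr E H hH e x : H) : W) = (e : MulAut W) x := rfl

theorem restr_eq_one {e : E} : restr E H hH e = 1 ↔ ∀ x ∈ H, (e : MulAut W) x = x := by
  constructor
  · intro h x hx
    exact congrArg (fun f : MulAut H => ((f ⟨x, hx⟩ : H) : W)) h
  · exact fun h => MulEquiv.ext fun x => Subtype.ext (h x x.2)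

end Restr

/-- The situation: `E` is noncyclic abelian of odd prime power order, nontrivial elements fix at
most one involution. -/
structure Hyp (p : ℕ) (E : Subgroup (MulAut W)) : Prop where
  hW : IsPGroup 2 W
  hp : p.Prime
  hp2 : p ≠ 2
  hE : IsPGroup p E
  hab : IsMulCommutative E
  hnc : ¬ IsCyclic E
  hfix : ∀ e ∈ E, e ≠ 1 → ∀ x y : W, orderOf x = 2 → orderOf y = 2 → e x = x → e y = y → x = y

variable {p : ℕ} {E : Subgroup (MulAut W)}

theorem fixS_inv (h : Hyp p E) {e : MulAut W} (he : e ∈ E) :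
    ∀ g ∈ E, ∀ x ∈ fixS e, g x ∈ fixS e := by
  intro g hg x hx
  have h1 : e * g = g * e := congrArg Subtype.val (h.hab.is_comm.comm ⟨e, he⟩ ⟨g, hg⟩)
  show e (g x) = g x
  have h2 := congrArg (fun f : MulAut W => f x) h1
  simp only [MulAut.mul_apply] at h2
  rw [h2, mem_fixS.1 hx]

theorem coprime [Finite W] (h : Hyp p E) : (Nat.card E).Coprime (Nat.card W) := by
  haveI : Finite (MulAut W) := Finite.of_injective _ DFunLike.coe_injective
  haveI := Fact.mk h.hp
  obtain ⟨a, ha⟩ := IsPGroup.iff_card.1 h.hE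
  obtain ⟨b, hb⟩ := IsPGroup.iff_card.1 h.hW
  rw [ha, hb]
  exact Nat.Coprime.pow a b ((Nat.coprime_primes h.hp Nat.prime_two).2 h.hp2)

theorem q8_facts : (∀ x : QuaternionGroup 2, x * x * (x * x) = 1) ∧
    (∃ x y : QuaternionGroup 2, x * y ≠ y * x) := by decide +kernel

/-- The fixed subgroup of a nontrivial element: centralised by `E`, or a quaternion group of order
eight on which `E` induces a group of order three. -/
theorem fix_cases [Finite W] (h : Hyp p E) {e : MulAut W} (he : e ∈ E) (he1 : e ≠ 1) :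
    (∀ g ∈ E, ∀ x ∈ fixS e, g x = x) ∨
    (p = 3 ∧ Nat.card (fixS e) = 8 ∧
      (∀ g : E, restr E (fixS e) (fixS_inv h he) g ^ 3 = 1) ∧
      Nat.card (restr E (fixS e) (fixS_inv h he)).range ≤ 3 ∧
      (∀ x ∈ fixS e, x * x * (x * x) = 1) ∧
      ∃ x ∈ fixS e, ∃ y ∈ fixS e, x * y ≠ y * x) := by
  haveI : Finite (MulAut W) := Finite.of_injective _ DFunLike.coe_injective
  haveI := Fact.mk h.hp
  set r := restr E (fixS e) (fixS_inv h he) with hr
  have hodd : Odd (Nat.card E) := by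
    obtain ⟨a, ha⟩ := IsPGroup.iff_card.1 h.hE
    rw [ha]
    exact ((h.hp.odd_of_ne_two h.hp2).pow)
  have hpow : ∀ g : E, r g ^ Nat.card E = 1 := fun g => by
    rw [← map_pow, pow_card_eq_one', map_one]
  have hQ : IsPGroup 2 (fixS e) := h.hW.to_subgroup _
  have hu : Solv.UniqueOrderP 2 (fixS e) := by
    intro x y hx hy hy1
    by_cases hx1 : x = 1
    · rw [hx1]; exact one_mem _
    · have := h.hfix e he he1 x y (by rw [Subgroup.orderOf_coe]; exact orderOf_eq_prime hx hx1)
        (by rw [Subgroup.orderOf_coe]; exact orderOf_eq_prime hy hy1) x.2 y.2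
      rw [Subtype.ext this]
      exact Subgroup.mem_zpowers y
  have triv : (∀ g : E, r g = 1) → (∀ g ∈ E, ∀ x ∈ fixS e, g x = x) := fun hh g hg =>
    (restr_eq_one E _ _).1 (hh ⟨g, hg⟩)
  by_cases hall : ∀ g : E, r g = 1
  · exact Or.inl (triv hall)
  right
  rcases Solv.cyclic_or_quaternion hQ hu with hc | ⟨-, n, ⟨φ⟩⟩
  · exact absurd (fun g => Perm.Fpf.QuatAut.eq_one_of_odd_cyclic hQ hodd (hpow g)) hall
  rcases n with _ | _ | n
  · exfalso
    haveI : IsCyclic (QuaternionGroup (2 ^ 0)) := isCyclic_of_orderOf_eq_card (QuaternionGroup.xa 0)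
      (by rw [QuaternionGroup.orderOf_xa, Nat.card_eq_fintype_card, QuaternionGroup.card]; norm_num)
    haveI : IsCyclic (fixS e) := φ.isCyclic.2 inferInstance
    exact hall fun g => Perm.Fpf.QuatAut.eq_one_of_odd_cyclic hQ hodd (hpow g)
  · have φ' : fixS e ≃* QuaternionGroup 2 := φ
    obtain ⟨π, hπ⟩ := Perm.Fpf.QuatAut.aut_perm
    let ψ : MulAut (fixS e) →* Equiv.Perm (Fin 4) := π.comp (MulAut.congr φ').toMonoidHom
    have hψ : Function.Injective ψ := hπ.comp (MulAut.congr φ').injective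
    have hcR : Nat.card r.range ∣ 24 := by
      have := Subgroup.card_subgroup_dvd_card (r.range.map ψ)
      rw [Subgroup.card_map_of_injective hψ, Nat.card_perm, Nat.card_fin] at this
      simpa [Nat.factorial] using this
    have hRp : IsPGroup p r.range := by
      rw [MonoidHom.range_eq_map]
      exact (h.hE.to_subgroup ⊤).map r
    obtain ⟨k, hk⟩ := IsPGroup.iff_card.1 hRp
    have hk0 : k ≠ 0 := by
      rintro rfl
      apply hall
      intro g
      have hbot : r.range = ⊥ := Subgroup.eq_bot_of_card_eq _ (by rw [hk, pow_zero])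
      exact Subgroup.mem_bot.1 (hbot ▸ ⟨g, rfl⟩)
    have hp3 : p = 3 := by
      have h1 : p ∣ 2 ^ 3 * 3 := by
        norm_num
        exact (dvd_pow_self p hk0).trans (hk ▸ hcR)
      rcases (Nat.Prime.dvd_mul h.hp).1 h1 with h1 | h1
      · exact absurd ((Nat.prime_dvd_prime_iff_eq h.hp Nat.prime_two).1 (h.hp.dvd_of_dvd_pow h1))
          h.hp2
      · exact (Nat.prime_dvd_prime_iff_eq h.hp Nat.prime_three).1 h1
    have hk1 : k ≤ 1 := by
      by_contra hcon
      have h9 : p ^ 2 ∣ 24 := (pow_dvd_pow p (by omega : 2 ≤ k)).trans (hk ▸ hcR)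
      rw [hp3] at h9
      norm_num at h9
    have hkeq : k = 1 := by omega
    rw [hkeq, pow_one, hp3] at hk
    refine ⟨hp3, ?_, fun g => ?_, hk.le, ?_, ?_⟩
    · rw [Nat.card_congr φ'.toEquiv, Nat.card_eq_fintype_card, QuaternionGroup.card]
    · have h3 : (⟨r g, g, rfl⟩ : r.range) ^ 3 = 1 := by rw [← hk]; exact pow_card_eq_one'
      exact congrArg Subtype.val h3
    · intro x hx
      have := q8_facts.1 (φ' ⟨x, hx⟩)
      rw [← map_mul, ← map_mul, ← map_one φ', φ'.injective.eq_iff] at this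
      exact congrArg Subtype.val this
    · obtain ⟨x, y, hxy⟩ := q8_facts.2
      refine ⟨φ'.symm x, (φ'.symm x).2, φ'.symm y, (φ'.symm y).2, fun hh => hxy ?_⟩
      apply φ'.symm.injective
      rw [map_mul, map_mul]
      exact Subtype.ext hh
  · exfalso
    haveI : NeZero (2 ^ (n + 1 + 1)) := ⟨(Nat.two_pow_pos _).ne'⟩
    have hn : 3 ≤ 2 ^ (n + 1 + 1) := by
      have : 2 ^ 2 ≤ 2 ^ (n + 1 + 1) := Nat.pow_le_pow_right (by norm_num) (by omega)
      omega
    apply hall
    intro g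
    apply (MulAut.congr φ).injective
    rw [map_one]
    exact Perm.Fpf.QuatAut.eq_one_of_odd_big hn (hQ.of_equiv φ) hodd (by
      rw [← map_pow, hpow g, map_one])

/-- The common involution. -/
structure Core (p : ℕ) (E : Subgroup (MulAut W)) (z : W) : Prop where
  hyp : Hyp p E
  three : p = 3
  hz : orderOf z = 2
  zfix : ∀ g ∈ E, g z = z

/-- The quaternion fixed subgroups. -/
def Quat (E : Subgroup (MulAut W)) (Q : Subgroup W) : Prop :=
  ∃ e ∈ E, e ≠ 1 ∧ fixS e = Q ∧ ∃ g ∈ E, ∃ x ∈ Q, g x ≠ x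

variable {z : W}

theorem Core.zz (c : Core p E z) : z * z = 1 := by
  rw [← sq, ← c.hz, pow_orderOf_eq_one]

theorem Core.z1 (c : Core p E z) : z ≠ 1 := fun h => by
  have := c.hz
  rw [h, orderOf_one] at this
  omega

theorem Core.cardS [Finite W] (c : Core p E z) : Nat.card (Subgroup.zpowers z) = 2 := by
  rw [Nat.card_zpowers, c.hz]

theorem inv_of_mem_fix (h : Hyp p E) {e : MulAut W} (he : e ∈ E) (he1 : e ≠ 1) {x y : W}
    (hx : orderOf x = 2) (hxe : e x = x) (hy : orderOf y = 2) (hye : e y = y) : x = y :=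
  h.hfix e he he1 x y hx hy hxe hye

theorem exists_inv [Finite W] (hW : IsPGroup 2 W) {x : W} (hx : x ≠ 1) :
    ∃ n : ℕ, orderOf (x ^ n) = 2 := by
  obtain ⟨k, hk⟩ := IsPGroup.iff_orderOf.1 hW x
  have hk0 : k ≠ 0 := by
    rintro rfl
    exact hx (orderOf_eq_one_iff.1 (by simpa using hk))
  refine ⟨2 ^ (k - 1), ?_⟩
  rw [orderOf_pow' _ (Nat.two_pow_pos _).ne', hk,
    Nat.gcd_eq_right (pow_dvd_pow 2 (Nat.sub_le k 1)), Nat.pow_div (Nat.sub_le k 1) (by norm_num),
    show k - (k - 1) = 1 by omega, pow_one]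

theorem exists_core [Finite W] (h : Hyp p E) : ∃ z, Core p E z := by
  haveI : Finite (MulAut W) := Finite.of_injective _ DFunLike.coe_injective
  have hne : ∃ e ∈ E, e ≠ 1 ∧ ¬ ∀ g ∈ E, ∀ x ∈ fixS e, g x = x := by
    by_contra hcon
    push_neg at hcon
    have hbot : ∀ g ∈ E, g = 1 := fun g hg => by
      have := gen_fix E h.hab h.hnc (coprime h) ⊤ (fixS g) (fun _ _ _ _ => Subgroup.mem_top _)
        (fun e he he1 x hx => hcon e he he1 g hg x hx.2)
      exact MulEquiv.ext fun x => this (Subgroup.mem_top x)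
    apply h.hnc
    haveI : Subsingleton E := ⟨fun a b => Subtype.ext ((hbot a a.2).trans (hbot b b.2).symm)⟩
    infer_instance
  obtain ⟨e, he, he1, hne⟩ := hne
  rcases fix_cases h he he1 with h1 | ⟨h3, h8, -⟩
  · exact absurd h1 hne
  haveI := Fact.mk Nat.prime_two
  obtain ⟨z, hz⟩ := exists_prime_orderOf_dvd_card' 2 (show 2 ∣ Nat.card (fixS e) by rw [h8]; norm_num)
  refine ⟨z, h, h3, by rw [Subgroup.orderOf_coe]; exact hz, fun g hg => ?_⟩
  exact h.hfix e he he1 _ _ (by rw [MulEquiv.orderOf_eq, Subgroup.orderOf_coe]; exact hz)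
    (by rw [Subgroup.orderOf_coe]; exact hz) (fixS_inv h he g hg z z.2) z.2

/-- A fixed subgroup is centralised by `E` or is a quaternion member. -/
theorem quat_or_triv {e : MulAut W} (he : e ∈ E) (he1 : e ≠ 1) :
    (∀ g ∈ E, ∀ x ∈ fixS e, g x = x) ∨ Quat E (fixS e) := by
  by_cases hh : ∀ g ∈ E, ∀ x ∈ fixS e, g x = x
  · exact Or.inl hh
  · push_neg at hh
    obtain ⟨g, hg, x, hx, hgx⟩ := hh
    exact Or.inr ⟨e, he, he1, rfl, g, hg, x, hx, hgx⟩

section Quat

variable [Finite W] (c : Core p E z) {Q : Subgroup W} (hQ : Quat E Q)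
include c hQ

theorem quat_data : Nat.card Q = 8 ∧ (∀ g ∈ E, ∀ x ∈ Q, g x ∈ Q) ∧
    (∀ g ∈ E, ∀ x ∈ Q, g (g (g x)) = x) ∧ z ∈ Q ∧
    (∀ x ∈ Q, x * x ∈ Subgroup.zpowers z) ∧ ∃ x ∈ Q, ∃ y ∈ Q, x * y ≠ y * x := by
  obtain ⟨e, he, he1, rfl, g, hg, x, hx, hgx⟩ := hQ
  rcases fix_cases c.hyp he he1 with h1 | ⟨-, h8, h3, -, hsq, hnab⟩
  · exact absurd (h1 g hg x hx) hgx
  refine ⟨h8, fixS_inv c.hyp he, fun f hf y hy => ?_, c.zfix e he, fun y hy => ?_, hnab⟩
  · have := congrArg (fun a : MulAut (fixS e) => ((a ⟨y, hy⟩ : fixS e) : W)) (h3 ⟨f, hf⟩)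
    simpa [pow_succ, pow_zero, MulAut.mul_apply, restr_apply] using this
  · rw [mem_pair c.zz]
    by_cases hy1 : y * y = 1
    · exact Or.inl hy1
    · refine Or.inr (inv_of_mem_fix c.hyp he he1 ?_ ((fixS e).mul_mem hy hy) c.hz (c.zfix e he))
      exact orderOf_eq_prime (by rw [sq]; exact hsq y hy) hy1

theorem S_le : Subgroup.zpowers z ≤ Q := Subgroup.zpowers_le.2 (quat_data c hQ).2.2.2.1

/-- An invariant subgroup of index two is impossible when the action is nontrivial. -/
theorem inv_sub {g : MulAut W} (hg : g ∈ E) (hne : ∃ x ∈ Q, g x ≠ x) (H : Subgroup W)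
    (hHQ : H ≤ Q) (hz : z ∈ H) (hinv : ∀ x ∈ H, g x ∈ H) :
    H = Subgroup.zpowers z ∨ H = Q := by
  obtain ⟨h8, hQi, h3, -, hsq, -⟩ := quat_data c hQ
  have hSH : Subgroup.zpowers z ≤ H := Subgroup.zpowers_le.2 hz
  have hd : Nat.card H ∣ 8 := h8 ▸ Subgroup.card_dvd_of_le hHQ
  have h2 : 2 ≤ Nat.card H := c.cardS ▸ Subgroup.card_le_of_le hSH
  have hcases : Nat.card H = 2 ∨ Nat.card H = 4 ∨ Nat.card H = 8 := by
    obtain ⟨k, hk, hk'⟩ := (Nat.dvd_prime_pow Nat.prime_two).1 (show Nat.card H ∣ 2 ^ 3 by simpa using hd)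
    interval_cases k <;> simp_all
  rcases hcases with hh | hh | hh
  · exact Or.inl (Subgroup.eq_of_le_of_card_ge hSH (by rw [hh, c.cardS])).symm
  · exfalso
    have hidx : (Subgroup.zpowers z).relIndex H = 2 := by
      have := Subgroup.card_mul_index ((Subgroup.zpowers z).subgroupOf H)
      rw [Solv.card_subgroupOf hSH, c.cardS, hh] at this
      unfold Subgroup.relIndex
      omega
    -- `g` fixes `H` pointwise
    have hfixH : ∀ x ∈ H, g x = x := by
      intro x hx
      by_cases hxS : x ∈ Subgroup.zpowers z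
      · rcases (mem_pair c.zz).1 hxS with rfl | rfl
        exacts [map_one g, c.zfix g hg]
      · refine stab2 g c.zz (c.zfix g hg) (h3 g hg x (hHQ hx)) ?_
        have hgxS : g x ∉ Subgroup.zpowers z := fun hh => by
          apply hxS
          rcases (mem_pair c.zz).1 hh with e | e
          · rw [g.injective (e.trans (map_one g).symm)]; exact (Subgroup.zpowers z).one_mem
          · rw [g.injective (e.trans (c.zfix g hg).symm)]; exact Subgroup.mem_zpowers z
        have := (Subgroup.mul_mem_iff_of_index_two (H := (Subgroup.zpowers z).subgroupOf H) hidx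
          (a := (⟨x, hx⟩ : H)⁻¹) (b := ⟨g x, hinv x hx⟩)).2 (by
            simp [Subgroup.mem_subgroupOf, hxS, hgxS])
        simpa [Subgroup.mem_subgroupOf] using this
    obtain ⟨y, hy, hgy⟩ := hne
    have hyH : y ∉ H := fun hh => hgy (hfixH y hh)
    have hgyH : g y ∉ H := fun hh => hgy (g.injective (hfixH _ hh))
    have hidx' : H.relIndex Q = 2 := by
      have := Subgroup.card_mul_index (H.subgroupOf Q)
      rw [Solv.card_subgroupOf hHQ, h8, hh] at this
      unfold Subgroup.relIndex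
      omega
    have hf : y⁻¹ * g y ∈ H := by
      have := (Subgroup.mul_mem_iff_of_index_two (H := H.subgroupOf Q) hidx'
        (a := (⟨y, hy⟩ : Q)⁻¹) (b := ⟨g y, hQi g hg y hy⟩)).2 (by
          simp [Subgroup.mem_subgroupOf, hyH, hgyH])
      simpa [Subgroup.mem_subgroupOf] using this
    set f := y⁻¹ * g y with hfdef
    have h1 : g y = y * f := by rw [hfdef]; group
    have hgf : g f = f := hfixH f hf
    have h33 : y * (f * (f * f)) = y := by
      have := h3 g hg y hy
      rw [h1, map_mul, hgf, h1, map_mul, map_mul, hgf, h1] at this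
      simpa [mul_assoc] using this
    have hf3 : f * (f * f) = 1 := mul_eq_left.1 h33
    apply hgy
    rcases (mem_pair c.zz).1 (hsq f (hHQ hf)) with e | e
    · rw [h1]
      rw [e, mul_one] at hf3
      rw [hf3, mul_one]
    · rw [e] at hf3
      have hfz : f = z := by rw [mul_eq_one_iff_eq_inv.1 hf3, inv_eq_of_mul_eq_one_right c.zz]
      rw [hfz] at e
      exact absurd (e.symm.trans c.zz) c.z1
  · exact Or.inr (Subgroup.eq_of_le_of_card_ge hHQ (by rw [hh, h8]))

/-- Only `z` is fixed by a nontrivial action. -/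
theorem fixed_le {g : MulAut W} (hg : g ∈ E) (hne : ∃ x ∈ Q, g x ≠ x) {x : W} (hx : x ∈ Q)
    (hgx : g x = x) : x ∈ Subgroup.zpowers z := by
  rcases inv_sub c hQ hg hne (Q ⊓ fixS g) inf_le_left
    ⟨(quat_data c hQ).2.2.2.1, c.zfix g hg⟩
    (fun y hy => ⟨(quat_data c hQ).2.1 g hg y hy.1, by
      rw [mem_fixS.1 hy.2]; exact hy.2⟩) with h | h
  · exact h ▸ (show x ∈ Q ⊓ fixS g from ⟨hx, hgx⟩)
  · obtain ⟨y, hy, hgy⟩ := hne
    exact absurd (h.ge hy).2 hgy

theorem exists_act : ∃ g ∈ E, ∃ x ∈ Q, g x ≠ x := by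
  obtain ⟨e, he, he1, rfl, h⟩ := hQ
  exact h

theorem inv_all (H : Subgroup W) (hz : z ∈ H) (hinv : ∀ g ∈ E, ∀ x ∈ H, g x ∈ H) :
    H ⊓ Q = Subgroup.zpowers z ∨ H ⊓ Q = Q := by
  obtain ⟨g, hg, hne⟩ := exists_act c hQ
  exact inv_sub c hQ hg hne (H ⊓ Q) inf_le_right ⟨hz, (quat_data c hQ).2.2.2.1⟩
    (fun y hy => ⟨hinv g hg y hy.1, (quat_data c hQ).2.1 g hg y hy.2⟩)

theorem center_le {x : W} (hx : x ∈ Q) (hc : ∀ y ∈ Q, y * x = x * y) :
    x ∈ Subgroup.zpowers z := by
  obtain ⟨e, he, he1, hQe, -⟩ := id hQ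
  obtain ⟨-, hQi, -, hzQ, -, a, ha, b, hb, hab⟩ := quat_data c hQ
  rcases inv_all c hQ (Subgroup.centralizer (Q : Set W)) (by
      rw [Subgroup.mem_centralizer_iff]
      intro y hy
      -- the involution is central
      by_contra hne
      have h1 : orderOf (y * z * y⁻¹) = 2 := by
        rw [show y * z * y⁻¹ = MulAut.conj y z from rfl, MulEquiv.orderOf_eq, c.hz]
      have h2 : e (y * z * y⁻¹) = y * z * y⁻¹ :=
        mem_fixS.1 (hQe.symm ▸ Q.mul_mem (Q.mul_mem hy hzQ) (Q.inv_mem hy))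
      exact hne (mul_inv_eq_iff_eq_mul.1 (inv_of_mem_fix c.hyp he he1 h1 h2 c.hz (c.zfix e he))))
    (fun g hg w hw => by
      rw [Subgroup.mem_centralizer_iff] at hw ⊢
      intro y hy
      have hy' := hQi g⁻¹ (inv_mem hg) y hy
      have := congrArg g (hw _ hy')
      rwa [map_mul, map_mul, MulAut.inv_def, g.apply_symm_apply] at this) with h | h
  · exact h ▸ (show x ∈ _ ⊓ Q from ⟨Subgroup.mem_centralizer_iff.2 hc, hx⟩)
  · exact absurd (Subgroup.mem_centralizer_iff.1 (h.ge hb).1 a ha) hab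

end Quat

end Cfsg.Agent.Char.FixQuatAuts
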