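import Cfsg.Agent.Lib.Char.FixQuatAuts

/-!
A noncyclic abelian group of odd prime power order acting on a two-group so that every nontrivial
element fixes at most one involution: the conclusion.
-/

set_option autoImplicit false
set_option linter.style.haveILetI false
set_option linter.unusedSectionVars false

open scoped commutatorElement

universe u

namespace Cfsg.Agent.Char.FixQuatAuts

variable {W : Type u} [Group W] [Finite W] {p : ℕ} {E : Subgroup (MulAut W)} {z : W}
  (c : Core p E z)
include c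

theorem z_mem_fix {e : MulAut W} (he : e ∈ E) : Subgroup.zpowers z ≤ fixS e :=
  Subgroup.zpowers_le.2 (c.zfix e he)

theorem gen_in (H J : Subgroup W) (hH : ∀ e ∈ E, ∀ x ∈ H, e x ∈ H)
    (h : ∀ e ∈ E, e ≠ 1 → H ⊓ fixS e ≤ J) : H ≤ J :=
  gen_fix E c.hyp.hab c.hyp.hnc (coprime c.hyp) H J hH h

/-- The common fixed points. -/
theorem fixed_all {x : W} (hx : ∀ g ∈ E, g x = x) : x ∈ Subgroup.zpowers z := by
  by_contra hcon
  have htriv : ∀ e ∈ E, e ≠ 1 → ∀ g ∈ E, ∀ y ∈ fixS e, g y = y := by
    intro e he he1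
    rcases quat_or_triv he he1 with h | hQ
    · exact h
    · obtain ⟨g, hg, hne⟩ := exists_act c hQ
      exact absurd (fixed_le c hQ hg hne (hx e he) (hx g hg)) hcon
  apply c.hyp.hnc
  have hbot : ∀ g ∈ E, g = 1 := fun g hg => by
    have := gen_in c ⊤ (fixS g) (fun _ _ _ _ => Subgroup.mem_top _)
      (fun e he he1 y hy => htriv e he he1 g hg y hy.2)
    exact MulEquiv.ext fun y => this (Subgroup.mem_top y)
  haveI : Subsingleton E := ⟨fun a b => Subtype.ext ((hbot a a.2).trans (hbot b b.2).symm)⟩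
  infer_instance

theorem fix_le_or_quat {e : MulAut W} (he : e ∈ E) (he1 : e ≠ 1) :
    fixS e ≤ Subgroup.zpowers z ∨ Quat E (fixS e) := by
  rcases quat_or_triv he he1 with h | h
  · exact Or.inl fun x hx => fixed_all c fun g hg => h g hg x hx
  · exact Or.inr h

theorem le_of_quat (H J : Subgroup W) (hH : ∀ e ∈ E, ∀ x ∈ H, e x ∈ H)
    (hS : Subgroup.zpowers z ≤ J) (h : ∀ Q, Quat E Q → H ⊓ Q ≤ J) : H ≤ J := by
  refine gen_in c H J hH fun e he he1 => ?_
  rcases fix_le_or_quat c he he1 with h1 | h1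
  · exact inf_le_right.trans (h1.trans hS)
  · exact h _ h1

theorem exists_quat : ∃ Q, Quat E Q := by
  by_contra hcon
  push_neg at hcon
  apply c.hyp.hnc
  have htop : ∀ x : W, x ∈ Subgroup.zpowers z := fun x =>
    le_of_quat c ⊤ (Subgroup.zpowers z) (fun _ _ _ _ => Subgroup.mem_top _) le_rfl
      (fun Q hQ => absurd hQ (hcon Q)) (Subgroup.mem_top x)
  haveI : Subsingleton E := ⟨fun a b => Subtype.ext (MulEquiv.ext fun x => by
    rcases (mem_pair c.zz).1 (htop x) with rfl | rfl
    · rw [map_one, map_one]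
    · rw [c.zfix a a.2, c.zfix b b.2])⟩
  infer_instance

theorem center_eq : Subgroup.center W = Subgroup.zpowers z := by
  obtain ⟨Q₀, hQ₀⟩ := exists_quat c
  haveI : Nontrivial W := ⟨⟨z, 1, c.z1⟩⟩
  haveI := Fact.mk Nat.prime_two
  have hinv : ∀ e ∈ E, ∀ x ∈ Subgroup.center W, e x ∈ Subgroup.center W := by
    intro e _ x hx
    rw [Subgroup.mem_center_iff] at hx ⊢
    intro y
    have := congrArg e (hx (e.symm y))
    rwa [map_mul, map_mul, e.apply_symm_apply] at this
  have hzc : z ∈ Subgroup.center W := by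
    by_contra hcon
    have hbot : Subgroup.center W ≤ ⊥ := gen_in c _ ⊥ hinv fun e he he1 x hx => by
      by_contra hx1
      obtain ⟨n, hn⟩ := exists_inv c.hyp.hW (fun h => hx1 (Subgroup.mem_bot.2 h))
      have h1 : e (x ^ n) = x ^ n := by rw [map_pow, mem_fixS.1 hx.2]
      exact hcon (inv_of_mem_fix c.hyp he he1 hn h1 c.hz (c.zfix e he) ▸ pow_mem hx.1 n)
    haveI := c.hyp.hW.center_nontrivial
    obtain ⟨⟨w, hw⟩, hw1⟩ := exists_ne (1 : Subgroup.center W)
    exact hw1 (Subtype.ext (Subgroup.mem_bot.1 (hbot hw)))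
  refine le_antisymm (le_of_quat c _ _ hinv le_rfl fun Q hQ x hx => ?_)
    (Subgroup.zpowers_le.2 hzc)
  exact center_le c hQ hx.2 fun y _ => Subgroup.mem_center_iff.1 hx.1 y

/-- The second centre. -/
def secondCentre (z : W) : Subgroup W where
  carrier := {x | ∀ y : W, ⁅x, y⁆ ∈ Subgroup.zpowers z ∧ ⁅x, y⁆ ∈ Subgroup.center W}
  one_mem' y := by
    rw [commutatorElement_one_left]
    exact ⟨one_mem _, one_mem _⟩
  mul_mem' {a b} ha hb := fun y => by
    have h : ⁅a * b, y⁆ = a * ⁅b, y⁆ * a⁻¹ * ⁅a, y⁆ := by simp [commutatorElement_def, mul_assoc]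
    rw [h, Subgroup.mem_center_iff.1 (hb y).2 a, mul_inv_cancel_right]
    exact ⟨mul_mem (hb y).1 (ha y).1, mul_mem (hb y).2 (ha y).2⟩
  inv_mem' {a} ha := fun y => by
    have h : ⁅a⁻¹, y⁆ = a⁻¹ * ⁅a, y⁆⁻¹ * a := by simp [commutatorElement_def, mul_assoc]
    rw [h, Subgroup.mem_center_iff.1 (inv_mem (ha y).2) a⁻¹, inv_mul_cancel_right]
    exact ⟨inv_mem (ha y).1, inv_mem (ha y).2⟩

theorem mem_second {x : W} : x ∈ secondCentre z ↔ ∀ y : W, ⁅x, y⁆ ∈ Subgroup.zpowers z :=
  ⟨fun h y => (h y).1, fun h y => ⟨h y, (center_eq c).symm ▸ h y⟩⟩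

theorem second_inv : ∀ e ∈ E, ∀ x ∈ secondCentre z, e x ∈ secondCentre z := by
  intro e he x hx
  rw [mem_second c] at hx ⊢
  intro y
  have h1 : ⁅e x, y⁆ = e ⁅x, e.symm y⁆ := by
    rw [map_commutatorElement, e.apply_symm_apply]
  rw [h1]
  rcases (mem_pair c.zz).1 (hx (e.symm y)) with h | h <;> rw [h]
  · rw [map_one]; exact one_mem _
  · rw [c.zfix e he]; exact Subgroup.mem_zpowers z

theorem z_second : z ∈ secondCentre z := by
  rw [mem_second c]
  intro y
  have hz : z ∈ Subgroup.center W := (center_eq c).symm ▸ Subgroup.mem_zpowers z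
  rw [commutatorElement_eq_one_iff_mul_comm.2 (Subgroup.mem_center_iff.1 hz y).symm]
  exact one_mem _

/-- Two different quaternion members commute if one of them lies in the second centre. -/
theorem commute_pair {Q Q' : Subgroup W} (hQ : Quat E Q) (hQ' : Quat E Q') (hne : Q ≠ Q')
    (hA : Q ≤ secondCentre z) {x y : W} (hx : x ∈ Q) (hy : y ∈ Q') : x * y = y * x := by
  obtain ⟨e, he, he1, hQe, -⟩ := id hQ
  obtain ⟨h8, hQ'i, h3, hzQ', -, -⟩ := quat_data c hQ'
  have hact : ∃ w ∈ Q', e w ≠ w := by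
    by_contra hcon
    push_neg at hcon
    refine hne (Subgroup.eq_of_le_of_card_ge (fun w hw => ?_) ?_).symm
    · exact hQe ▸ (mem_fixS.2 (hcon w hw))
    · rw [h8, (quat_data c hQ).1]
  have hex : e x = x := mem_fixS.1 (hQe.symm ▸ hx)
  have hzc : ∀ w : W, w * z = z * w := fun w =>
    Subgroup.mem_center_iff.1 ((center_eq c).symm ▸ Subgroup.mem_zpowers z) w
  rcases inv_sub c hQ' he hact (Q' ⊓ Subgroup.centralizer ({x} : Set W)) inf_le_left
      ⟨hzQ', Subgroup.mem_centralizer_singleton_iff.2 (hzc x).symm⟩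
      (fun w hw => ⟨hQ'i e he w hw.1, by
        have h1 := congrArg e (Subgroup.mem_centralizer_singleton_iff.1 hw.2)
        rw [map_mul, map_mul, hex] at h1
        exact Subgroup.mem_centralizer_singleton_iff.2 h1⟩) with h | h
  · exfalso
    obtain ⟨w, hw, hew⟩ := hact
    -- the element `w⁻¹ (e w)` commutes with `x`
    have hd : w⁻¹ * e w ∈ Subgroup.zpowers z := by
      rw [← h]
      refine ⟨Q'.mul_mem (Q'.inv_mem hw) (hQ'i e he w hw), ?_⟩
      have hxw := (mem_second c).1 (hA hx) w
      have h1 : ⁅x, e w⁆ = ⁅x, w⁆ := by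
        have : ⁅x, e w⁆ = e ⁅x, w⁆ := by rw [map_commutatorElement, hex]
        rw [this]
        rcases (mem_pair c.zz).1 hxw with h | h <;> rw [h]
        · exact map_one e
        · exact c.zfix e he
      set k := ⁅x, w⁆ with hk
      have e1 : x * w * x⁻¹ = k * w := by rw [hk, commutatorElement_def]; group
      have e2 : x * e w * x⁻¹ = k * e w := by rw [← h1, commutatorElement_def]; group
      refine Subgroup.mem_centralizer_singleton_iff.2 (eq_mul_inv_iff_mul_eq.1 ?_)
      calc w⁻¹ * e w = (k * w)⁻¹ * (k * e w) := by group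
        _ = (x * w * x⁻¹)⁻¹ * (x * e w * x⁻¹) := by rw [e1, e2]
        _ = x * (w⁻¹ * e w) * x⁻¹ := by group
    exact hew (stab2 e c.zz (c.zfix e he) (h3 e he w hw) hd)
  · exact (Subgroup.mem_centralizer_singleton_iff.1 (h.ge hy).2).symm

theorem second_eq_top : secondCentre z = ⊤ := by
  classical
  set A := secondCentre z
  -- every member is in A or centralises A
  have hcases : ∀ Q, Quat E Q → Q ≤ A ∨ A ≤ Subgroup.centralizer (Q : Set W) := by
    intro Q hQ
    rcases inv_all c hQ A (z_second c) (second_inv c) with h | h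
    · right
      have hQA : ¬ Q ≤ A := fun hle => by
        have h8 := (quat_data c hQ).1
        rw [inf_eq_right.2 hle] at h
        rw [h, c.cardS] at h8
        omega
      refine le_of_quat c _ _ (second_inv c) ?_ fun Q' hQ' x hx => ?_
      · refine Subgroup.zpowers_le.2 (Subgroup.center_le_centralizer _ ?_)
        rw [center_eq c]; exact Subgroup.mem_zpowers z
      rcases inv_all c hQ' A (z_second c) (second_inv c) with h' | h'
      · rw [h'] at hx
        refine Subgroup.center_le_centralizer _ ?_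
        rw [center_eq c]; exact hx
      · rw [Subgroup.mem_centralizer_iff]
        intro y hy
        have hQ'A : Q' ≤ A := inf_eq_right.1 h'
        exact (commute_pair c hQ' hQ (fun e => hQA (e ▸ hQ'A)) hQ'A hx.2 hy).symm
    · exact Or.inl (inf_eq_right.1 h)
  set C := Subgroup.centralizer (A : Set W)
  have hZA : Subgroup.zpowers z ≤ A := Subgroup.zpowers_le.2 (z_second c)
  have hgen : (⊤ : Subgroup W) ≤ A ⊔ C := le_of_quat c ⊤ _ (fun _ _ _ _ => Subgroup.mem_top _)
    (hZA.trans le_sup_left) fun Q hQ => by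
      rw [top_inf_eq]
      rcases hcases Q hQ with h | h
      · exact h.trans le_sup_left
      · exact (Subgroup.le_centralizer_iff.1 h).trans le_sup_right
  -- the intersection is central
  have hAC : ∀ x ∈ A, x ∈ C → x ∈ Subgroup.zpowers z := by
    intro x hxA hxC
    rw [← center_eq c, Subgroup.mem_center_iff]
    intro y
    have hle : A ⊔ C ≤ Subgroup.centralizer ({x} : Set W) := sup_le
      (fun a ha => Subgroup.mem_centralizer_singleton_iff.2
        (Subgroup.mem_centralizer_iff.1 hxC a ha))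
      (fun b hb => Subgroup.mem_centralizer_singleton_iff.2
        (Subgroup.mem_centralizer_iff.1 hb x hxA).symm)
    exact Subgroup.mem_centralizer_singleton_iff.1 (hle (hgen (Subgroup.mem_top y)))
  -- C is inside A
  haveI := Fact.mk Nat.prime_two
  haveI : Group.IsNilpotent W := c.hyp.hW.isNilpotent
  have hCn : ∀ x ∈ C, ∀ y : W, ⁅x, y⁆ ∈ C := by
    intro x hx y
    have hAn : ∀ a ∈ A, y⁻¹ * a * y ∈ A := fun a ha => by
      have : y⁻¹ * a * y = ⁅a, y⁻¹⁆⁻¹ * a := by group
      have h2 : ∀ a ∈ A, ∀ w : W, w * a * w⁻¹ ∈ A := fun a ha w => by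
        have h1 : w * a * w⁻¹ = ⁅a, w⁆⁻¹ * a := by group
        rw [h1]
        exact A.mul_mem (A.inv_mem (hZA ((mem_second c).1 ha w))) ha
      simpa using h2 a ha y⁻¹
    have hyx : y * x⁻¹ * y⁻¹ ∈ C := by
      rw [Subgroup.mem_centralizer_iff]
      intro a ha
      have h1 := Subgroup.mem_centralizer_iff.1 (C.inv_mem hx) _ (hAn a ha)
      calc a * (y * x⁻¹ * y⁻¹) = y * ((y⁻¹ * a * y) * x⁻¹) * y⁻¹ := by group
        _ = y * (x⁻¹ * (y⁻¹ * a * y)) * y⁻¹ := by rw [h1]
        _ = y * x⁻¹ * y⁻¹ * a := by group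
    have : ⁅x, y⁆ = x * (y * x⁻¹ * y⁻¹) := by group
    rw [this]
    exact C.mul_mem hx hyx
  have hCA : ∀ n, ∀ x ∈ C, x ∈ Subgroup.upperCentralSeries W n → x ∈ Subgroup.zpowers z := by
    intro n
    induction n with
    | zero =>
      intro x _ hx
      rw [Subgroup.upperCentralSeries_zero, Subgroup.mem_bot] at hx
      rw [hx]; exact one_mem _
    | succ n ih =>
      intro x hxC hx
      rw [Subgroup.mem_upperCentralSeries_succ_iff] at hx
      exact hAC x ((mem_second c).2 fun y => ih _ (hCn x hxC y) (hx y)) hxC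
  rw [eq_top_iff]
  refine hgen.trans (sup_le le_rfl fun x hx => hZA ?_)
  refine hCA (Group.nilpotencyClass W) x hx ?_
  rw [Subgroup.upperCentralSeries_nilpotencyClass]
  exact Subgroup.mem_top x

theorem comm_mem (x y : W) : ⁅x, y⁆ ∈ Subgroup.zpowers z :=
  (mem_second c).1 (second_eq_top c ▸ Subgroup.mem_top x) y

theorem quat_commute {Q Q' : Subgroup W} (hQ : Quat E Q) (hQ' : Quat E Q') (hne : Q ≠ Q')
    {x y : W} (hx : x ∈ Q) (hy : y ∈ Q') : x * y = y * x :=
  commute_pair c hQ hQ' hne (by rw [second_eq_top c]; exact le_top) hx hy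

theorem extraspecial : IsExtraspecial 2 W := by
  haveI := Fact.mk Nat.prime_two
  obtain ⟨Q, hQ⟩ := exists_quat c
  obtain ⟨-, -, -, -, -, a, ha, b, hb, hab⟩ := quat_data c hQ
  have hcomm : commutator W = Subgroup.center W := by
    rw [center_eq c]
    refine le_antisymm ?_ (Subgroup.zpowers_le.2 ?_)
    · rw [commutator_def, Subgroup.commutator_le]
      exact fun x _ y _ => comm_mem c x y
    · have h1 : ⁅a, b⁆ ∈ commutator W :=
        Subgroup.commutator_mem_commutator (Subgroup.mem_top a) (Subgroup.mem_top b)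
      rcases (mem_pair c.zz).1 (comm_mem c a b) with h | h
      · exact absurd (commutatorElement_eq_one_iff_mul_comm.1 h) hab
      · exact h ▸ h1
  refine ⟨⟨c.hyp.hW, le_antisymm ?_ ?_, hcomm⟩, ?_⟩
  · haveI : (Subgroup.center W).Normal := inferInstance
    refine Solv.frattini_le (p := 2) _ (fun x y => (center_eq c).symm ▸ comm_mem c x y) fun x => ?_
    -- squares commute with everything
    rw [Subgroup.mem_center_iff]
    intro y
    refine (commutatorElement_eq_one_iff_mul_comm.1 ?_).symm
    have hk : ∀ w : W, ⁅x, y⁆ * w = w * ⁅x, y⁆ := fun w =>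
      (Subgroup.mem_center_iff.1 ((center_eq c).symm ▸ comm_mem c x y) w).symm
    have : ⁅x ^ 2, y⁆ = x * ⁅x, y⁆ * x⁻¹ * ⁅x, y⁆ := by
      rw [sq]; simp [commutatorElement_def, mul_assoc]
    rw [this, ← hk x, mul_inv_cancel_right]
    rcases (mem_pair c.zz).1 (comm_mem c x y) with h | h <;> rw [h]
    · exact one_mul 1
    · exact c.zz
  · rw [← hcomm]
    exact Solv.commutator_le_frattini_pgroup (p := 2) c.hyp.hW
  · rw [center_eq c, c.cardS]

theorem two_quat : ∃ Q Q', Quat E Q ∧ Quat E Q' ∧ Q ≠ Q' := by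
  obtain ⟨Q, hQ⟩ := exists_quat c
  refine ⟨Q, ?_⟩
  by_contra hcon
  push_neg at hcon
  obtain ⟨e, he, he1, hQe, -⟩ := id hQ
  apply he1
  have := le_of_quat c ⊤ Q (fun _ _ _ _ => Subgroup.mem_top _) (S_le c hQ)
    (fun Q' hQ' => (hcon Q' hQ hQ') ▸ inf_le_right)
  refine MulEquiv.ext fun x => ?_
  have hx := this (Subgroup.mem_top x)
  rw [← hQe] at hx
  exact hx

theorem card_E : Nat.card E = 9 := by
  haveI : Finite (MulAut W) := Finite.of_injective _ DFunLike.coe_injective
  obtain ⟨Q, Q', hQ, hQ', hne⟩ := two_quat c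
  obtain ⟨e, he, he1, rfl, g, hg, x, hx, hgx⟩ := id hQ
  obtain ⟨e', he', he1', rfl, g', hg', x', hx', hgx'⟩ := id hQ'
  rcases fix_cases c.hyp he he1 with h | ⟨-, h8, -, hr, -⟩
  · exact absurd (h g hg x hx) hgx
  rcases fix_cases c.hyp he' he1' with h | ⟨-, h8', -, hr', -⟩
  · exact absurd (h g' hg' x' hx') hgx'
  set r := (restr E (fixS e) (fixS_inv c.hyp he)).rangeRestrict.prod
    (restr E (fixS e') (fixS_inv c.hyp he')).rangeRestrict
  have hinj : Function.Injective r := by
    rw [injective_iff_map_eq_one]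
    intro b hb
    have hb1 := (restr_eq_one E (fixS e) (fixS_inv c.hyp he) (e := b)).1
      (congrArg Subtype.val (congrArg Prod.fst hb))
    have hb2 := (restr_eq_one E (fixS e') (fixS_inv c.hyp he') (e := b)).1
      (congrArg Subtype.val (congrArg Prod.snd hb))
    by_contra hb0
    have hb0' : (b : MulAut W) ≠ 1 := fun e => hb0 (Subtype.ext e)
    rcases fix_le_or_quat c b.2 hb0' with h | h
    · have hle : fixS e ≤ Subgroup.zpowers z := le_trans (fun w hw => hb1 w hw) h
      have := Subgroup.card_le_of_le hle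
      rw [h8, c.cardS] at this
      omega
    · have hb8 := (quat_data c h).1
      apply hne
      have e1 : fixS e ≤ fixS (b : MulAut W) := fun w hw => hb1 w hw
      have e2 : fixS e' ≤ fixS (b : MulAut W) := fun w hw => hb2 w hw
      have f1 := Subgroup.eq_of_le_of_card_ge e1 (by rw [hb8, h8])
      have f2 := Subgroup.eq_of_le_of_card_ge e2 (by rw [hb8, h8'])
      exact f1.trans f2.symm
  have hle := Nat.card_le_card_of_injective r hinj
  rw [Nat.card_prod] at hle
  have h9 : Nat.card E ≤ 9 := hle.trans (le_trans (Nat.mul_le_mul hr hr') le_rfl)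
  obtain ⟨k, hk⟩ := IsPGroup.iff_card.1 (c.three ▸ c.hyp.hE)
  have hk2 : 2 ≤ k := by
    by_contra hcon
    apply c.hyp.hnc
    interval_cases k
    · haveI : Subsingleton E := (Nat.card_eq_one_iff_unique.1 (by simpa using hk)).1
      infer_instance
    · haveI := Fact.mk Nat.prime_three
      exact isCyclic_of_prime_card (by simpa using hk)
  have : k ≤ 2 := by
    by_contra hcon
    have : 3 ^ 3 ≤ 3 ^ k := Nat.pow_le_pow_right (by norm_num) (by omega)
    omega
  rw [hk, show k = 2 by omega]; norm_num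

open Classical in
theorem card_W : Nat.card W = 2 ^ 5 ∨ Nat.card W = 2 ^ 7 ∨ Nat.card W = 2 ^ 9 := by
  haveI : Finite (MulAut W) := Finite.of_injective _ DFunLike.coe_injective
  haveI : Fintype E := Fintype.ofFinite E
  let s : Finset E := Finset.univ.filter fun b => (b : MulAut W) ≠ 1 ∧ Quat E (fixS (b : MulAut W))
  let T : Finset (Subgroup W) := s.image fun b : E => fixS (b : MulAut W)
  have hmem : ∀ Q, Q ∈ T ↔ Quat E Q := by
    intro Q
    simp only [T, s, Finset.mem_image, Finset.mem_filter, Finset.mem_univ, true_and]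
    constructor
    · rintro ⟨b, ⟨-, hb⟩, rfl⟩; exact hb
    · intro hQ
      obtain ⟨e, he, he1, rfl, -⟩ := id hQ
      exact ⟨⟨e, he⟩, ⟨he1, hQ⟩, rfl⟩
  -- every member is the fixed subgroup of at least two elements
  have hT4 : T.card ≤ 4 := by
    have h1 : T.card * 2 ≤ s.card := by
      rw [mul_comm]
      refine Finset.mul_card_image_le_card s 2 fun Q hQ => ?_
      obtain ⟨b, hb, rfl⟩ := Finset.mem_image.1 hQ
      have hfix : fixS ((b⁻¹ : E) : MulAut W) = fixS (b : MulAut W) := by
        ext w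
        show (b : MulAut W).symm w = w ↔ (b : MulAut W) w = w
        rw [MulEquiv.symm_apply_eq]
        exact eq_comm
      have hb' := (Finset.mem_filter.1 hb).2
      have hne : b ≠ b⁻¹ := fun e => by
        have h2 : b ^ 2 = 1 := by rw [sq]; nth_rw 2 [e]; exact mul_inv_cancel b
        have h9 : b ^ 9 = 1 := by rw [← card_E c]; exact pow_card_eq_one'
        have h81 : b ^ 9 = b := by
          rw [show (9 : ℕ) = 2 * 4 + 1 from rfl, pow_add, pow_mul, h2, one_pow, one_mul, pow_one]
        exact hb'.1 (by rw [← h81, h9]; rfl)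
      calc 2 = ({b, b⁻¹} : Finset E).card := by rw [Finset.card_pair hne]
        _ ≤ _ := Finset.card_le_card (by
          intro w hw
          rw [Finset.mem_insert, Finset.mem_singleton] at hw
          rw [Finset.mem_filter]
          rcases hw with rfl | rfl
          · exact ⟨hb, rfl⟩
          · refine ⟨Finset.mem_filter.2 ⟨Finset.mem_univ _, ?_, ?_⟩, hfix⟩
            · exact fun h => hb'.1 (inv_eq_one.1 h)
            · rw [hfix]; exact hb'.2)
    have h2 : s.card + 1 ≤ Fintype.card E := by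
      have h3 : s ⊆ Finset.univ.erase 1 := fun b hb =>
        Finset.mem_erase.2 ⟨fun e => (Finset.mem_filter.1 hb).2.1 (by rw [e]; rfl), Finset.mem_univ _⟩
      have := Finset.card_le_card h3
      rw [Finset.card_erase_of_mem (Finset.mem_univ _), Finset.card_univ] at this
      have := Fintype.card_pos (α := E)
      omega
    rw [← Nat.card_eq_fintype_card, card_E c] at h2
    omega
  have hT2 : 2 ≤ T.card := by
    obtain ⟨Q, Q', hQ, hQ', hne⟩ := two_quat c
    calc 2 = ({Q, Q'} : Finset (Subgroup W)).card := by rw [Finset.card_pair hne]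
      _ ≤ T.card := Finset.card_le_card (by
        intro w hw
        rw [Finset.mem_insert, Finset.mem_singleton] at hw
        rcases hw with rfl | rfl
        exacts [(hmem _).2 hQ, (hmem _).2 hQ'])
  have hcount : ∀ U : Finset (Subgroup W), (∀ Q ∈ U, Quat E Q) →
      Nat.card (Subgroup.zpowers z ⊔ U.sup id : Subgroup W) = 2 ^ (2 * U.card + 1) := by
    intro U
    induction U using Finset.induction_on with
    | empty => intro _; rw [Finset.sup_empty, sup_bot_eq, c.cardS]; rfl
    | @insert Q U hQU ih =>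
      intro hU
      have hQ : Quat E Q := hU Q (Finset.mem_insert_self _ _)
      have ih' := ih fun R hR => hU R (Finset.mem_insert_of_mem hR)
      set P := Subgroup.zpowers z ⊔ U.sup id with hP
      have hPC : P ≤ Subgroup.centralizer (Q : Set W) := by
        refine sup_le ?_ (Finset.sup_le fun R hR => ?_)
        · exact (center_eq c).ge.trans (Subgroup.center_le_centralizer _)
        · intro x hx
          rw [Subgroup.mem_centralizer_iff]
          intro y hy
          exact quat_commute c hQ (hU R (Finset.mem_insert_of_mem hR)) (fun e => hQU (e ▸ hR)) hy hx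
      have hinf : P ⊓ Q = Subgroup.zpowers z := by
        refine le_antisymm (fun x hx => center_le c hQ hx.2 fun y hy => ?_)
          (le_inf le_sup_left (S_le c hQ))
        exact Subgroup.mem_centralizer_iff.1 (hPC hx.1) y hy
      have hn : Q ≤ Subgroup.normalizer (P : Set W) :=
        le_trans (Subgroup.le_centralizer_iff.1 hPC) (Subgroup.centralizer_le_normalizer _)
      have h := Solv.card_sup_mul_card_inf' P Q hn
      rw [hinf, c.cardS, ih', (quat_data c hQ).1] at h
      have hins : Subgroup.zpowers z ⊔ (insert Q U).sup id = P ⊔ Q := by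
        rw [Finset.sup_insert, hP, id, sup_assoc, sup_comm Q]
      rw [hins, Finset.card_insert_of_notMem hQU]
      have he : 2 ^ (2 * (U.card + 1) + 1) * 2 = 2 ^ (2 * U.card + 1) * 8 := by ring
      omega
  have htop : Subgroup.zpowers z ⊔ T.sup id = ⊤ := eq_top_iff.2
    (le_of_quat c ⊤ _ (fun _ _ _ _ => Subgroup.mem_top _) le_sup_left fun Q hQ =>
      inf_le_right.trans ((Finset.le_sup (f := id) ((hmem Q).2 hQ)).trans le_sup_right))
  have h := hcount T fun Q hQ => (hmem Q).1 hQ
  rw [htop, Subgroup.card_top] at h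
  rw [h]
  obtain hh | hh | hh : T.card = 2 ∨ T.card = 3 ∨ T.card = 4 := by omega
  all_goals rw [hh]; simp

omit c in
/-- The statement. -/
theorem main (h : Hyp p E) : Nat.card E = 9 ∧ IsExtraspecial 2 W ∧
    (Nat.card W = 2 ^ 5 ∨ Nat.card W = 2 ^ 7 ∨ Nat.card W = 2 ^ 9) ∧
    {x : W | ∀ e ∈ E, e x = x} = (Subgroup.center W : Set W) := by
  obtain ⟨z, c⟩ := exists_core h
  refine ⟨card_E c, extraspecial c, card_W c, Set.ext fun x => ?_⟩
  rw [center_eq c]
  constructor
  · exact fun hx => fixed_all c hx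
  · intro hx e he
    exact z_mem_fix c he hx

end Cfsg.Agent.Char.FixQuatAuts
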