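import Cfsg.Agent.Lib.Char.CoprimeFixAverage
import Cfsg.Agent.Lib.Solv.Basic

/-!
# On average an irreducible solvable group fixes at most half of its module
-/

set_option autoImplicit false
set_option linter.unusedSectionVars false

namespace Cfsg.Agent.Char.FixHalf

open Cfsg.Agent.Char.FixAverage
open scoped Classical

universe u v

variable {V : Type v} [CommGroup V] [Finite V] {G : Type u} [Group G] [Fintype G]
  (φ : G →* MulAut V) (N : Subgroup G)

/-- The vectors of `W` fixed by `M`. -/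
def fixBy (W : Subgroup V) (M : Subgroup G) : Subgroup V where
  carrier := {v | v ∈ W ∧ ∀ a ∈ M, φ a v = v}
  one_mem' := ⟨one_mem _, fun a _ => map_one _⟩
  mul_mem' := fun {x y} hx hy =>
    ⟨mul_mem hx.1 hy.1, fun a ha => by rw [map_mul, hx.2 a ha, hy.2 a ha]⟩
  inv_mem' := fun {x} hx => ⟨inv_mem hx.1, fun a ha => by rw [map_inv, hx.2 a ha]⟩

theorem mem_fixBy {W : Subgroup V} {M : Subgroup G} {v : V} :
    v ∈ fixBy φ W M ↔ v ∈ W ∧ ∀ a ∈ M, φ a v = v := Iff.rfl

/-- The product over a subgroup. -/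
noncomputable def nrm (M : Subgroup G) : V →* V where
  toFun v := ∏ a : M, φ a v
  map_one' := by simp
  map_mul' x y := by simp [Finset.prod_mul_distrib]

theorem nrm_fixed (M : Subgroup G) (v : V) {a : G} (ha : a ∈ M) :
    φ a (nrm φ M v) = nrm φ M v := by
  show φ a (∏ b : M, φ b v) = ∏ b : M, φ b v
  rw [map_prod]
  refine Fintype.prod_equiv (Equiv.mulLeft (⟨a, ha⟩ : M)) _ _ fun b => ?_
  rw [← apply_mul]
  rfl

theorem nrm_of_fixed {M : Subgroup G} {v : V} (h : ∀ a ∈ M, φ a v = v) :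
    nrm φ M v = v ^ Nat.card M := by
  show ∏ b : M, φ b v = _
  rw [Finset.prod_congr rfl fun (b : M) _ => h b b.2, Finset.prod_const, Finset.card_univ,
    Nat.card_eq_fintype_card]

theorem nrm_map (M : Subgroup G) (x : G) (v : V) :
    φ x (nrm φ M v) = nrm φ (M.map (MulAut.conj x).toMonoidHom) (φ x v) := by
  show φ x (∏ b : M, φ b v) = ∏ c : M.map (MulAut.conj x).toMonoidHom, φ c (φ x v)
  rw [map_prod]
  refine Fintype.prod_equiv
    (M.equivMapOfInjective (MulAut.conj x).toMonoidHom (MulAut.conj x).injective).toEquiv _ _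
    fun b => ?_
  rw [← apply_mul, ← apply_mul]
  refine congrArg (fun y => φ y v) ?_
  show x * b = x * b * x⁻¹ * x
  group

theorem nrm_mem {W : Subgroup V} {M : Subgroup G} (hM : ∀ a ∈ M, ∀ v ∈ W, φ a v ∈ W) {v : V}
    (hv : v ∈ W) : nrm φ M v ∈ W :=
  Subgroup.prod_mem W fun (a : M) _ => hM a a.2 v hv

/-- The product of the fixed spaces along a coset of an abelian normal subgroup. -/
theorem coset_bound [hNn : N.Normal] (hab : ∀ a ∈ N, ∀ b ∈ N, a * b = b * a)
    (hco : (Nat.card N).Coprime (Nat.card V)) (g : G) (W : Subgroup V) :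
    (∀ x ∈ Subgroup.zpowers g ⊔ N, ∀ v ∈ W, φ x v ∈ W) →
      (∀ v ∈ W, (∀ n ∈ N, φ n v = v) → v = 1) →
      (∏ n : N, Nat.card (fixIn φ W (g * n))) ^ 2 ≤ Nat.card W ^ Nat.card N := by
  induction W using (wellFounded_lt (α := Subgroup V)).induction with
  | _ W ih =>
  intro hW hfix
  by_cases hW1 : W = ⊥
  · subst hW1
    have h1 : ∀ n : N, Nat.card (fixIn φ (⊥ : Subgroup V) (g * n)) = 1 := fun n => by
      rw [Subgroup.card_eq_one, eq_bot_iff]
      exact fun v hv => hv.1
    rw [Finset.prod_congr rfl fun n _ => h1 n, Finset.prod_const_one]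
    simp
  -- a maximal kernel
  obtain ⟨M, -, hM⟩ := Finite.exists_le_maximal
    (p := fun M : Subgroup G => M ≤ N ∧ fixBy φ W M ≠ ⊥) (a := ⊥)
    ⟨bot_le, fun h => hW1 (eq_bot_iff.2 fun v hv => by
      rw [← h]
      exact ⟨hv, fun a ha => by rw [Subgroup.mem_bot.1 ha, map_one]; rfl⟩)⟩
  obtain ⟨hMN, hMne⟩ := hM.1
  let T : G → Subgroup G := fun x => M.map (MulAut.conj x).toMonoidHom
  let O : Finset (Subgroup G) :=
    Finset.univ.filter fun M' => ∃ x ∈ Subgroup.zpowers g, T x = M'
  have hTmul : ∀ x y, (T y).map (MulAut.conj x).toMonoidHom = T (x * y) := fun x y => by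
    show (M.map _).map _ = M.map _
    rw [Subgroup.map_map]
    refine congrArg (fun f => M.map f) (MonoidHom.ext fun a => ?_)
    simp [mul_assoc]
  have hT1 : T 1 = M := by
    show M.map _ = M
    rw [show (MulAut.conj (1 : G)).toMonoidHom = MonoidHom.id G from MonoidHom.ext fun a => by simp,
      Subgroup.map_id]
  have hMO : M ∈ O := Finset.mem_filter.2 ⟨Finset.mem_univ _, 1, one_mem _, hT1⟩
  have hONle : ∀ M' ∈ O, M' ≤ N := fun M' hM' => by
    obtain ⟨x, -, rfl⟩ := (Finset.mem_filter.1 hM').2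
    rintro _ ⟨a, ha, rfl⟩
    exact hNn.conj_mem a (hMN ha) x
  have hOmap : ∀ x ∈ Subgroup.zpowers g, ∀ M' ∈ O, M'.map (MulAut.conj x).toMonoidHom ∈ O := by
    intro x hx M' hM'
    obtain ⟨y, hy, rfl⟩ := (Finset.mem_filter.1 hM').2
    exact Finset.mem_filter.2 ⟨Finset.mem_univ _, x * y, mul_mem hx hy, (hTmul x y).symm⟩
  have hxW : ∀ x ∈ Subgroup.zpowers g, ∀ v ∈ W, φ x v ∈ W := fun x hx =>
    hW x (Subgroup.mem_sup_left hx)
  have hnW : ∀ n ∈ N, ∀ v ∈ W, φ n v ∈ W := fun n hn => hW n (Subgroup.mem_sup_right hn)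
  have hmax : ∀ M' ∈ O, ∀ A : Subgroup G, A ≤ N → fixBy φ W A ≠ ⊥ → M' ≤ A → A ≤ M' := by
    intro M' hM' A hAN hA hle
    obtain ⟨x, hx, rfl⟩ := (Finset.mem_filter.1 hM').2
    have hA' : A.comap (MulAut.conj x).toMonoidHom ≤ M := hM.2
      ⟨fun a ha => by
        have := hNn.conj_mem _ (hAN ha) x⁻¹
        simpa [mul_assoc] using this, fun h => hA (eq_bot_iff.2 fun v hv => by
        have h2 : φ x⁻¹ v ∈ fixBy φ W (A.comap (MulAut.conj x).toMonoidHom) :=
          ⟨hxW _ (inv_mem hx) v hv.1, fun a ha => by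
            rw [← apply_mul, show a * x⁻¹ = x⁻¹ * (x * a * x⁻¹) by group, apply_mul]
            exact congrArg (φ x⁻¹) (hv.2 _ ha)⟩
        rw [h, Subgroup.mem_bot] at h2
        rw [Subgroup.mem_bot]
        exact (φ x⁻¹).injective (h2.trans (map_one _).symm))⟩
      (Subgroup.map_le_iff_le_comap.1 hle)
    intro a ha
    exact ⟨x⁻¹ * a * x, hA' (by
      show x * (x⁻¹ * a * x) * x⁻¹ ∈ A
      simpa [mul_assoc] using ha), by simp [mul_assoc]⟩
  -- the norms along the orbit
  have hpow : ∀ M' : Subgroup G, M' ≤ N → ∀ v : V, v ^ Nat.card M' = 1 → v = 1 := fun M' hle v hv =>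
    (powCoprime (hco.symm.coprime_dvd_right (Subgroup.card_dvd_of_le hle))).injective
      (show v ^ Nat.card M' = 1 ^ Nat.card M' by rw [hv, one_pow])
  have hnM : ∀ M' ∈ O, ∀ v ∈ W, nrm φ M' v ∈ fixBy φ W M' := fun M' hM' v hv =>
    ⟨nrm_mem φ (fun a ha => hnW a (hONle M' hM' ha)) hv, fun a ha => nrm_fixed φ M' v ha⟩
  have horth : ∀ M' ∈ O, ∀ M'' ∈ O, M' ≠ M'' → ∀ v ∈ fixBy φ W M'', nrm φ M' v = 1 := by
    intro M' hM' M'' hM'' hne v hv
    have hmem : nrm φ M' v ∈ fixBy φ W (M' ⊔ M'') := by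
      refine ⟨(hnM M' hM' v hv.1).1, fun a ha => ?_⟩
      let St : Subgroup G :=
        { carrier := {a | φ a (nrm φ M' v) = nrm φ M' v}
          one_mem' := by show φ 1 _ = _; rw [map_one]; rfl
          mul_mem' := fun {a b} h1 h2 => by show φ (a * b) _ = _; rw [apply_mul, h2, h1]
          inv_mem' := fun {a} h1 => by
            show φ a⁻¹ _ = _
            conv_lhs => rw [← show φ a (nrm φ M' v) = nrm φ M' v from h1]
            rw [← apply_mul, inv_mul_cancel, map_one]; rfl }
      refine (sup_le (fun b hb => nrm_fixed φ M' v hb) (fun b hb => ?_) : M' ⊔ M'' ≤ St) ha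
      show φ b (∏ c : M', φ c v) = ∏ c : M', φ c v
      rw [map_prod]
      refine Finset.prod_congr rfl fun (c : M') _ => ?_
      rw [← apply_mul, hab b (hONle M'' hM'' hb) c (hONle M' hM' c.2), apply_mul, hv.2 b hb]
    by_contra hn1
    have hne' : fixBy φ W (M' ⊔ M'') ≠ ⊥ := fun h => hn1 (by rw [h] at hmem; exact hmem)
    have hle := sup_le (hONle M' hM') (hONle M'' hM'')
    exact hne (le_antisymm (le_sup_left.trans (hmax M'' hM'' _ hle hne' le_sup_right))
      (le_sup_right.trans (hmax M' hM' _ hle hne' le_sup_left)))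
  let t : V →* V := ∏ M' ∈ O, nrm φ M'
  have ht : ∀ v, t v = ∏ M' ∈ O, nrm φ M' v := fun v => by
    simp [t, MonoidHom.finsetProd_apply]
  have htW : ∀ v ∈ W, t v ∈ W := fun v hv => by
    rw [ht]
    exact Subgroup.prod_mem W fun M' hM' => (hnM M' hM' v hv).1
  have hnt : ∀ M' ∈ O, ∀ v ∈ W, nrm φ M' (t v) = nrm φ M' v ^ Nat.card M' := by
    intro M' hM' v hv
    rw [ht, map_prod, Finset.prod_eq_single M' (fun M'' hM'' hne =>
      horth M' hM' M'' hM'' hne.symm _ (hnM M'' hM'' v hv)) (fun h => absurd hM' h)]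
    exact nrm_of_fixed φ (hnM M' hM' v hv).2
  have hteq : ∀ v ∈ W, (t v = 1 ↔ ∀ M' ∈ O, nrm φ M' v = 1) := fun v hv => by
    refine ⟨fun h M' hM' => hpow M' (hONle M' hM') _ ?_, fun h => by rw [ht]; exact Finset.prod_eq_one h⟩
    rw [← hnt M' hM' v hv, h, map_one]
  have htx : ∀ x ∈ Subgroup.zpowers g ⊔ N, ∀ v, φ x (t v) = t (φ x v) := by
    intro x hx v
    obtain ⟨y, hy, n, hn, rfl⟩ := Subgroup.mem_sup_of_normal_right.1 hx
    have hn' : ∀ w, φ n (t w) = t (φ n w) := fun w => by
      rw [ht, ht, map_prod]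
      refine Finset.prod_congr rfl fun M' hM' => ?_
      rw [nrm_map]
      refine congrArg (fun A => nrm φ A (φ n w)) ?_
      ext a
      constructor
      · rintro ⟨b, hb, rfl⟩
        show n * b * n⁻¹ ∈ M'
        rw [hab n hn b (hONle M' hM' hb), mul_inv_cancel_right]
        exact hb
      · exact fun ha => ⟨a, ha, show n * a * n⁻¹ = a by
          rw [hab n hn a (hONle M' hM' ha), mul_inv_cancel_right]⟩
    rw [apply_mul, hn', apply_mul, ht, ht, map_prod]
    refine Finset.prod_bij (fun M' _ => M'.map (MulAut.conj y).toMonoidHom)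
      (fun M' hM' => hOmap y hy M' hM')
      (fun A _ B _ h => Subgroup.map_injective (MulAut.conj y).injective h)
      (fun A hA => ⟨A.map (MulAut.conj y⁻¹).toMonoidHom, hOmap _ (inv_mem hy) A hA, ?_⟩)
      fun M' _ => nrm_map φ M' y _
    rw [Subgroup.map_map]
    conv_rhs => rw [← Subgroup.map_id A]
    refine congrArg (fun f => A.map f) (MonoidHom.ext fun a => ?_)
    simp [mul_assoc]
  let U : Subgroup V := W.map t
  let W₂ : Subgroup V := W ⊓ t.ker
  have hUW : U ≤ W := by
    rintro _ ⟨v, hv, rfl⟩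
    exact htW v hv
  have hdis : ∀ v ∈ U, t v = 1 → v = 1 := by
    rintro _ ⟨w, hw, rfl⟩ h
    rw [hteq _ (htW w hw)] at h
    exact (hteq w hw).2 fun M' hM' => hpow M' (hONle M' hM') _ (by rw [← hnt M' hM' w hw]; exact h M' hM')
  have hle1 : ∀ M' ∈ O, fixBy φ W M' ≤ U := by
    intro M' hM' v hv
    let e := powCoprime (G := V)
      (hco.symm.coprime_dvd_right (Subgroup.card_dvd_of_le (hONle M' hM')))
    have hu : (e.symm v) ^ Nat.card M' = v := e.apply_symm_apply v
    have huM : e.symm v ∈ fixBy φ W M' := by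
      obtain ⟨j, hj⟩ := exists_pow_eq_self_of_coprime (x := e.symm v) (n := Nat.card M')
        ((hco.coprime_dvd_left (Subgroup.card_dvd_of_le (hONle M' hM'))).coprime_dvd_right
          (orderOf_dvd_natCard _))
      rw [← hj, hu]
      exact pow_mem hv j
    refine ⟨e.symm v, huM.1, ?_⟩
    rw [ht, Finset.prod_eq_single M' (fun M'' hM'' hne => horth M'' hM'' M' hM' hne _ huM)
      (fun h => absurd hM' h), nrm_of_fixed φ huM.2, hu]
  have hW2 : W₂ < W := lt_of_le_of_ne inf_le_left fun h => hMne (eq_bot_iff.2 fun v hv => by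
    refine Subgroup.mem_bot.2 (hdis v (hle1 M hMO hv) ?_)
    exact (h.symm ▸ hv.1 : v ∈ W₂).2)
  have hmul : Nat.card U * Nat.card W₂ ≤ Nat.card W := by
    rw [← Nat.card_prod]
    refine Nat.card_le_card_of_injective (fun p : U × W₂ =>
      (⟨(p.1 : V) * p.2, W.mul_mem (hUW p.1.2) p.2.2.1⟩ : W)) ?_
    rintro ⟨x, y⟩ ⟨x', y'⟩ h
    have h' : (x : V) * y = x' * y' := congrArg Subtype.val h
    have e : (x' : V)⁻¹ * x = y' * (y : V)⁻¹ := by
      rw [eq_mul_inv_iff_mul_eq, mul_assoc, h', inv_mul_cancel_left]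
    have hxx := inv_mul_eq_one.1 (hdis _ (mul_mem (inv_mem x'.2) x.2)
      (e ▸ (mul_mem y'.2 (inv_mem y.2) : _ ∈ W₂).2))
    refine Prod.ext (Subtype.ext hxx.symm) (Subtype.ext ?_)
    rw [← hxx] at h'
    exact mul_left_cancel h'
  have hsub : ∀ n : N, Nat.card (fixIn φ W (g * n)) ≤
      Nat.card (fixIn φ W₂ (g * n)) * Nat.card (fixIn φ U (g * n)) := fun n =>
    card_le_mul (fixIn φ W (g * n)) (fixIn φ W₂ (g * n)) t (fun v hv h1 => ⟨⟨hv.1, h1⟩, hv.2⟩)
      (fixIn φ U (g * n))
      fun v hv => ⟨Subgroup.mem_map_of_mem t hv.1, by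
        show φ (g * n) (t v) = t v
        rw [htx _ (mul_mem (Subgroup.mem_sup_left (Subgroup.mem_zpowers g))
          (Subgroup.mem_sup_right n.2)) v, show φ (g * n) v = v from hv.2]⟩
  have h2 := ih W₂ hW2 (fun x hx v hv => ⟨hW x hx v hv.1, by
      show t (φ x v) = 1
      rw [← htx x hx v, show t v = 1 from hv.2, map_one]⟩)
    fun v hv h => hfix v hv.1 h
  -- the part along the orbit
  have hU : (∏ n : N, Nat.card (fixIn φ U (g * n))) ^ 2 ≤ Nat.card U ^ Nat.card N := by
    have hgM : g ∈ Subgroup.zpowers g := Subgroup.mem_zpowers g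
    by_cases hgfix : T g = M
    · -- a single kernel
      have hOM : ∀ M' ∈ O, M' = M := fun M' hM' => by
        obtain ⟨x, hx, rfl⟩ := (Finset.mem_filter.1 hM').2
        let St : Subgroup G :=
          { carrier := {x | T x = M}
            one_mem' := hT1
            mul_mem' := fun {a b} ha hb => by
              show T (a * b) = M
              rw [← hTmul, hb]; exact ha
            inv_mem' := fun {a} ha => by
              show T a⁻¹ = M
              conv_rhs => rw [← hT1, ← inv_mul_cancel a, ← hTmul, show T a = M from ha] }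
        exact (Subgroup.zpowers_le.2 hgfix : Subgroup.zpowers g ≤ St) hx
      have hUM : U ≤ fixBy φ W M := by
        rintro _ ⟨v, hv, rfl⟩
        rw [ht]
        refine Subgroup.prod_mem _ fun M' hM' => ?_
        rw [hOM M' hM']
        exact hnM M hMO v hv
      obtain ⟨n₀, hn₀, hn₀M⟩ : ∃ n₀ ∈ N, n₀ ∉ M := by
        by_contra hno
        push Not at hno
        exact hMne (eq_bot_iff.2 fun v hv =>
          Subgroup.mem_bot.2 (hfix v hv.1 fun n hn => hv.2 n (hno n hn)))
      have hfix₀ : ∀ v ∈ U, φ n₀ v = v → v = 1 := fun v hv h => by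
        by_contra hv1
        have hne' : fixBy φ W (M ⊔ Subgroup.zpowers n₀) ≠ ⊥ := fun hb => hv1 (by
          have hmem : v ∈ fixBy φ W (M ⊔ Subgroup.zpowers n₀) := by
            refine ⟨hUW hv, fun a ha => ?_⟩
            let St : Subgroup G :=
              { carrier := {a | φ a v = v}
                one_mem' := by show φ 1 v = v; rw [map_one]; rfl
                mul_mem' := fun {a b} h1 h2 => by show φ (a * b) v = v; rw [apply_mul, h2, h1]
                inv_mem' := fun {a} h1 => by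
                  show φ a⁻¹ v = v
                  conv_lhs => rw [← show φ a v = v from h1]
                  rw [← apply_mul, inv_mul_cancel, map_one]; rfl }
            exact (sup_le (hUM hv).2 (Subgroup.zpowers_le.2 h) : M ⊔ Subgroup.zpowers n₀ ≤ St) ha
          rw [hb] at hmem
          exact hmem)
        exact hn₀M (hmax M hMO _ (sup_le hMN (Subgroup.zpowers_le.2 hn₀)) hne' le_sup_left
          (Subgroup.mem_sup_right (Subgroup.mem_zpowers n₀)))
      have key : ∀ n : N, Nat.card (fixIn φ U (g * n)) *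
          Nat.card (fixIn φ U (g * ↑(n * ⟨n₀, hn₀⟩))) ≤ Nat.card U := by
        intro n
        rw [← Nat.card_prod]
        refine Nat.card_le_card_of_injective
          (fun p : fixIn φ U (g * n) × fixIn φ U (g * ↑(n * ⟨n₀, hn₀⟩)) =>
          (⟨(p.1 : V) * p.2, U.mul_mem p.1.2.1 p.2.2.1⟩ : U)) ?_
        rintro ⟨x, y⟩ ⟨x', y'⟩ h
        have h' : (x : V) * y = x' * y' := congrArg Subtype.val h
        have e : (x' : V)⁻¹ * x = y' * (y : V)⁻¹ := by
          rw [eq_mul_inv_iff_mul_eq, mul_assoc, h', inv_mul_cancel_left]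
        have hx := (mul_mem (inv_mem x'.2) x.2 : _ ∈ fixIn φ U (g * n))
        have hy : φ (g * ↑(n * ⟨n₀, hn₀⟩)) ((x' : V)⁻¹ * x) = (x' : V)⁻¹ * x :=
          e ▸ (mul_mem y'.2 (inv_mem y.2) : _ ∈ fixIn φ U (g * ↑(n * ⟨n₀, hn₀⟩))).2
        rw [Subgroup.coe_mul, ← mul_assoc, apply_mul] at hy
        have hxx := inv_mul_eq_one.1 (hfix₀ _ hx.1 ((φ (g * n)).injective (hy.trans hx.2.symm)))
        refine Prod.ext (Subtype.ext hxx.symm) (Subtype.ext ?_)
        rw [← hxx] at h'
        exact mul_left_cancel h'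
      calc (∏ n : N, Nat.card (fixIn φ U (g * n))) ^ 2
          = ∏ n : N, Nat.card (fixIn φ U (g * n)) *
              Nat.card (fixIn φ U (g * ↑(n * ⟨n₀, hn₀⟩))) := by
            rw [pow_two, Finset.prod_mul_distrib]
            exact congrArg _ (Fintype.prod_equiv (Equiv.mulRight (⟨n₀, hn₀⟩ : N))
              (fun n : N => Nat.card (fixIn φ U (g * ↑(n * ⟨n₀, hn₀⟩))))
              (fun n : N => Nat.card (fixIn φ U (g * n))) fun n => rfl).symm
        _ ≤ ∏ _n : N, Nat.card U := Finset.prod_le_prod' fun n _ => key n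
        _ = _ := by rw [Finset.prod_const, Finset.card_univ, Nat.card_eq_fintype_card (α := N)]
    · -- the kernels move
      have hTO : T g ∈ O := Finset.mem_filter.2 ⟨Finset.mem_univ _, g, hgM, rfl⟩
      have hsq : Nat.card (fixBy φ W M) * Nat.card (fixBy φ W M) ≤ Nat.card U := by
        have hcard : Nat.card (fixBy φ W M) ≤ Nat.card (fixBy φ W (T g)) :=
          Nat.card_le_card_of_injective (fun v : fixBy φ W M =>
            (⟨φ g v, hxW g hgM v v.2.1, by
              rintro _ ⟨a, ha, rfl⟩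
              show φ (g * a * g⁻¹) (φ g (v : V)) = φ g (v : V)
              rw [← apply_mul, inv_mul_cancel_right, apply_mul, v.2.2 a ha]⟩ : fixBy φ W (T g)))
            fun a b h => Subtype.ext ((φ g).injective (congrArg Subtype.val h))
        refine (Nat.mul_le_mul_left _ hcard).trans ?_
        rw [← Nat.card_prod]
        refine Nat.card_le_card_of_injective (fun p : fixBy φ W M × fixBy φ W (T g) =>
          (⟨(p.1 : V) * p.2, U.mul_mem (hle1 M hMO p.1.2) (hle1 _ hTO p.2.2)⟩ : U)) ?_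
        rintro ⟨x, y⟩ ⟨x', y'⟩ h
        have h' : (x : V) * y = x' * y' := congrArg Subtype.val h
        have e : (x' : V)⁻¹ * x = y' * (y : V)⁻¹ := by
          rw [eq_mul_inv_iff_mul_eq, mul_assoc, h', inv_mul_cancel_left]
        have hx := (mul_mem (inv_mem x'.2) x.2 : _ ∈ fixBy φ W M)
        have hy : (x' : V)⁻¹ * x ∈ fixBy φ W (T g) := e ▸ mul_mem y'.2 (inv_mem y.2)
        have hp := (nrm_of_fixed φ hx.2).symm.trans
          (horth M hMO (T g) hTO (Ne.symm hgfix) _ hy)
        have hxx := inv_mul_eq_one.1 (hpow M hMN _ hp)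
        refine Prod.ext (Subtype.ext hxx.symm) (Subtype.ext ?_)
        rw [← hxx] at h'
        exact mul_left_cancel h'
      have key : ∀ n : N, Nat.card (fixIn φ U (g * n)) ^ 2 ≤ Nat.card U := by
        intro n
        refine le_trans (Nat.pow_le_pow_left ?_ 2) (by rw [pow_two]; exact hsq)
        refine Nat.card_le_card_of_injective (fun v : fixIn φ U (g * n) =>
          (⟨nrm φ M v, hnM M hMO v (hUW v.2.1)⟩ : fixBy φ W M)) fun v w h => ?_
        have h0 : nrm φ M ((v : V) * (w : V)⁻¹) = 1 := by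
          rw [map_mul, map_inv, show nrm φ M (v : V) = nrm φ M (w : V) from congrArg Subtype.val h,
            mul_inv_cancel]
        have hu : (v : V) * (w : V)⁻¹ ∈ fixIn φ U (g * n) := mul_mem v.2 (inv_mem w.2)
        refine Subtype.ext (mul_inv_eq_one.1 ?_)
        set u := (v : V) * (w : V)⁻¹
        refine hdis u hu.1 ((hteq u (hUW hu.1)).2 fun M' hM' => ?_)
        obtain ⟨x, hx, rfl⟩ := (Finset.mem_filter.1 hM').2
        have hstep : ∀ y, nrm φ (T y) u = 1 → y ∈ Subgroup.zpowers g →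
            nrm φ (T (g * y)) u = 1 := fun y hy hyz => by
          have h1 := congrArg (φ (g * n)) hy
          rw [map_one, nrm_map, show φ (g * n) u = u from hu.2] at h1
          rw [← hTmul]
          convert h1 using 3
          ext a
          constructor
          · rintro ⟨b, hb, rfl⟩
            refine ⟨b, hb, ?_⟩
            show g * n * b * (g * n)⁻¹ = g * b * g⁻¹
            rw [mul_assoc g (n : G) b, hab n n.2 b
              (hONle (T y) (Finset.mem_filter.2 ⟨Finset.mem_univ _, y, hyz, rfl⟩) hb)]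
            group
          · rintro ⟨b, hb, rfl⟩
            refine ⟨b, hb, ?_⟩
            show g * b * g⁻¹ = g * n * b * (g * n)⁻¹
            rw [mul_assoc g (n : G) b, hab n n.2 b
              (hONle (T y) (Finset.mem_filter.2 ⟨Finset.mem_univ _, y, hyz, rfl⟩) hb)]
            group
        obtain ⟨i, rfl⟩ : ∃ i : ℕ, g ^ i = x :=
          (Submonoid.mem_powers_iff _ _).1 ((isOfFinOrder_of_finite g).mem_powers_iff_mem_zpowers.2 hx)
        clear hM' hx
        induction i with
        | zero => rw [pow_zero, hT1]; exact h0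
        | succ i IH =>
          rw [pow_succ']
          exact hstep _ IH (pow_mem hgM i)
      rw [← Finset.prod_pow, Nat.card_eq_fintype_card (α := N)]
      calc ∏ n : N, Nat.card (fixIn φ U (g * n)) ^ 2 ≤ ∏ _n : N, Nat.card U :=
            Finset.prod_le_prod' fun n _ => key n
        _ = _ := by rw [Finset.prod_const, Finset.card_univ]
  calc (∏ n : N, Nat.card (fixIn φ W (g * n))) ^ 2
      ≤ (∏ n : N, Nat.card (fixIn φ W₂ (g * n)) * Nat.card (fixIn φ U (g * n))) ^ 2 :=
        Nat.pow_le_pow_left (Finset.prod_le_prod' fun n _ => hsub n) 2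
    _ = (∏ n : N, Nat.card (fixIn φ W₂ (g * n))) ^ 2 *
          (∏ n : N, Nat.card (fixIn φ U (g * n))) ^ 2 := by rw [Finset.prod_mul_distrib, mul_pow]
    _ ≤ Nat.card W₂ ^ Nat.card N * Nat.card U ^ Nat.card N := Nat.mul_le_mul h2 hU
    _ ≤ _ := by
      rw [← mul_pow, mul_comm (Nat.card W₂)]
      exact Nat.pow_le_pow_left hmul _

/-- An irreducible nontrivial solvable group fixes at most half of its module on average. -/
theorem prod_sq_le_irreducible {p : ℕ} [Fact p.Prime] (hV : IsPGroup p V)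
    (hirr : ∀ W : Subgroup V, (∀ g, ∀ v ∈ W, φ g v ∈ W) → W = ⊥ ∨ W = ⊤)
    (hne : ∃ g v, φ g v ≠ v) (hsolv : Group.IsSolvable G) :
    (∏ g : G, Nat.card (fixIn φ ⊤ g)) ^ 2 ≤ Nat.card V ^ Fintype.card G := by
  haveI := hsolv
  let A : Subgroup (MulAut V) := φ.range
  haveI : Group.IsSolvable A := Group.isSolvable_of_surjective φ.rangeRestrict_surjective
  haveI : Fintype A := Fintype.ofFinite _
  haveI : Nontrivial A := by
    rw [Subgroup.nontrivial_iff_ne_bot, Ne, MonoidHom.range_eq_bot_iff]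
    intro h
    obtain ⟨g, v, hgv⟩ := hne
    exact hgv (by rw [h]; rfl)
  obtain ⟨N, hN, hNne, hmin⟩ := Solv.exists_minimal_normal (G := A)
  haveI := hN
  obtain ⟨hNab, q, hq, hNexp, hNq⟩ :=
    Solv.minimal_normal_elementaryAbelian N inferInstance hNne hmin
  have hqp : q ≠ p := by
    rintro rfl
    -- the fixed points are invariant
    let F : Subgroup V := fixBy A.subtype ⊤ N
    have hF : ∀ g, ∀ v ∈ F, φ g v ∈ F := fun g v hv => ⟨Subgroup.mem_top _, fun a ha => by
      have h2 := hv.2 _ (hN.conj_mem' a ha ⟨φ g, g, rfl⟩)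
      have h3 := congrArg (φ g) h2
      simp only [Subgroup.coe_subtype, Subgroup.coe_mul, Subgroup.coe_inv, MulAut.mul_apply,
        MulAut.apply_inv_self] at h3
      exact h3⟩
    rcases hirr F hF with h | h
    · haveI : Nontrivial V := by
        obtain ⟨g, v, hgv⟩ := hne
        exact nontrivial_of_ne _ _ hgv
      letI : MulAction N V := MulAction.compHom V (A.subtype.comp N.subtype)
      haveI : Fintype N := Fintype.ofFinite _
      have h1 : (1 : V) ∈ MulAction.fixedPoints N V := fun a => map_one ((a : A) : MulAut V)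
      obtain ⟨w, hw, hw1⟩ := hNq.exists_fixed_point_of_prime_dvd_card_of_fixed_point V
        (by
          obtain ⟨k, hk⟩ := IsPGroup.iff_card.1 hV
          rw [hk]
          refine dvd_pow_self q fun hk0 => ?_
          rw [hk0, pow_zero] at hk
          exact (Finite.one_lt_card (α := V)).ne' hk) h1
      have : w ∈ F := ⟨Subgroup.mem_top _, fun a ha => hw ⟨a, ha⟩⟩
      rw [h, Subgroup.mem_bot] at this
      exact hw1 this.symm
    · refine hNne (eq_bot_iff.2 fun a ha => Subgroup.mem_bot.2 (Subtype.ext (MulEquiv.ext fun v => ?_)))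
      exact (h.symm ▸ Subgroup.mem_top v : v ∈ F).2 a ha
  haveI : Fact q.Prime := ⟨hq⟩
  have hco : (Nat.card N).Coprime (Nat.card V) := by
    obtain ⟨i, hi⟩ := IsPGroup.iff_card.1 hNq
    obtain ⟨j, hj⟩ := IsPGroup.iff_card.1 hV
    rw [hi, hj]
    exact Nat.Coprime.pow _ _ ((Nat.coprime_primes hq (Fact.out : p.Prime)).2 hqp)
  have hfix : ∀ v ∈ (⊤ : Subgroup V), (∀ n ∈ N, A.subtype n v = v) → v = 1 := by
    let F : Subgroup V := fixBy A.subtype ⊤ N
    have hF : ∀ g, ∀ v ∈ F, φ g v ∈ F := fun g v hv => ⟨Subgroup.mem_top _, fun a ha => by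
      have h2 := hv.2 _ (hN.conj_mem' a ha ⟨φ g, g, rfl⟩)
      have h3 := congrArg (φ g) h2
      simp only [Subgroup.coe_subtype, Subgroup.coe_mul, Subgroup.coe_inv, MulAut.mul_apply,
        MulAut.apply_inv_self] at h3
      exact h3⟩
    rcases hirr F hF with h | h
    · intro v _ hv
      have : v ∈ F := ⟨Subgroup.mem_top _, hv⟩
      rw [h] at this
      exact this
    · exfalso
      refine hNne (eq_bot_iff.2 fun a ha => Subgroup.mem_bot.2 (Subtype.ext (MulEquiv.ext fun v => ?_)))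
      exact (h.symm ▸ Subgroup.mem_top v : v ∈ F).2 a ha
  have hab : ∀ a ∈ N, ∀ b ∈ N, a * b = b * a := fun a ha b hb =>
    congrArg Subtype.val (hNab.is_comm.comm (⟨a, ha⟩ : N) ⟨b, hb⟩)
  choose s hs using fun n : N => (n : A).2
  refine (Nat.pow_le_pow_iff_left (Nat.card_pos (α := N)).ne').1 ?_
  calc ((∏ g : G, Nat.card (fixIn φ ⊤ g)) ^ 2) ^ Nat.card N
      = ∏ n : N, (∏ g : G, Nat.card (fixIn φ ⊤ (g * s n))) ^ 2 := by
        rw [Nat.card_eq_fintype_card, ← Finset.card_univ, ← Finset.prod_const]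
        refine Finset.prod_congr rfl fun n _ => congrArg (· ^ 2) ?_
        exact (Fintype.prod_equiv (Equiv.mulRight (s n)) (fun g => Nat.card (fixIn φ ⊤ (g * s n)))
          (fun g => Nat.card (fixIn φ ⊤ g)) fun g => rfl).symm
    _ = ∏ g : G, (∏ n : N, Nat.card (fixIn A.subtype ⊤ ((⟨φ g, g, rfl⟩ : A) * n))) ^ 2 := by
        rw [Finset.prod_pow, Finset.prod_pow, Finset.prod_comm]
        refine congrArg (· ^ 2) (Finset.prod_congr rfl fun g _ => Finset.prod_congr rfl fun n _ => ?_)
        refine congrArg (fun W : Subgroup V => Nat.card W) (Subgroup.ext fun v => ?_)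
        rw [mem_fixIn, mem_fixIn]
        simp [map_mul, hs]
    _ ≤ ∏ _g : G, Nat.card (⊤ : Subgroup V) ^ Nat.card N :=
        Finset.prod_le_prod' fun g _ =>
          coset_bound A.subtype N hab hco _ ⊤ (fun _ _ _ _ => Subgroup.mem_top _) hfix
    _ = _ := by rw [Finset.prod_const, Finset.card_univ, Subgroup.card_top, pow_right_comm]

end Cfsg.Agent.Char.FixHalf
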