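import Mathlib
import Cfsg.Agent.Lib.Char.LocalRing

/-!
# The trace of an element of order `p` on a relatively projective lattice
-/

set_option autoImplicit false

namespace Cfsg.Agent.Char

open Cfsg Module Matrix

universe u v

section Residue

variable {k : Type*} [Field k] {p : ℕ}

theorem geom_sum_eq_sub_one_pow {A : Type*} [Ring A] [Algebra k A] [CharP k p] (hp : p.Prime)
    (z : A) : ∑ j ∈ Finset.range p, z ^ j = (z - 1) ^ (p - 1) := by
  haveI := Fact.mk hp
  haveI : CharP (Polynomial k) p := inferInstance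
  have h : ∑ j ∈ Finset.range p, (Polynomial.X : Polynomial k) ^ j = (Polynomial.X - 1) ^ (p - 1) := by
    have hX : (Polynomial.X - 1 : Polynomial k) ≠ 0 := by
      simpa using Polynomial.X_sub_C_ne_zero (1 : k)
    apply mul_right_cancel₀ hX
    rw [geom_sum_mul, ← pow_succ, Nat.sub_add_cancel hp.one_le,
      sub_pow_char (p := p), one_pow]
  simpa using congrArg (Polynomial.aeval z) h

variable {n : ℕ}

/-- A basis permuted by `z`. -/
theorem exists_free_family [CharP k p] (hp : p.Prime) (z φ : (Fin n → k) →ₗ[k] (Fin n → k))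
    (hz : z ^ p = 1) (htr : ∑ j ∈ Finset.range p, z ^ j * φ * z ^ (p - j) = 1) :
    ∃ (r : ℕ) (v : Fin r → (Fin n → k)), r * p = n ∧
      Submodule.span k (Set.range fun t : Fin r × Fin p => (z ^ (t.2 : ℕ)) (v t.1)) = ⊤ := by
  classical
  haveI := Fact.mk hp
  set N := z - 1 with hN
  have hsum : N ^ (p - 1) = ∑ j ∈ Finset.range p, z ^ j := (geom_sum_eq_sub_one_pow (k := k) hp z).symm
  have hNp : N ^ p = 0 := by
    rw [← Nat.sub_add_cancel hp.one_le, pow_succ, hsum, hN, geom_sum_mul, hz, sub_self]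
  have hker : ∀ x, N x = 0 → x ∈ LinearMap.range (N ^ (p - 1)) := by
    intro x hx
    have hfix : ∀ i, (z ^ i) x = x := by
      intro i
      induction i with
      | zero => rfl
      | succ i ih =>
        rw [pow_succ, Module.End.mul_apply, show z x = x from sub_eq_zero.mp hx, ih]
    refine ⟨φ x, ?_⟩
    conv_rhs => rw [show x = (1 : Module.End k (Fin n → k)) x from rfl, ← htr]
    rw [hsum, LinearMap.sum_apply, LinearMap.sum_apply]
    exact Finset.sum_congr rfl fun j _ => by simp [Module.End.mul_apply, hfix]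
  let W := LinearMap.range (N ^ (p - 1))
  let b := Module.finBasis k W
  choose v hv using fun i => LinearMap.mem_range.mp (b i).2
  refine ⟨Module.finrank k W, v, ?_⟩
  let F : Fin (Module.finrank k W) × Fin p → (Fin n → k) := fun t => (N ^ (t.2 : ℕ)) (v t.1)
  have hNj : ∀ a j x, (N ^ a) ((N ^ j) x) = (N ^ (a + j)) x := fun a j x => by
    rw [pow_add, Module.End.mul_apply]
  -- spanning
  have hspan : ∀ i, i ≤ p → ∀ x, (N ^ i) x = 0 → x ∈ Submodule.span k (Set.range F) := by
    intro i
    induction i with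
    | zero => intro _ x hx; rw [show x = 0 from hx]; exact Submodule.zero_mem _
    | succ i ih =>
      intro hi x hx
      have h1 : N ((N ^ i) x) = 0 := by rw [← Module.End.mul_apply, ← pow_succ']; exact hx
      set w : W := ⟨(N ^ i) x, hker _ h1⟩ with hw
      set y : Fin n → k := ∑ t, b.repr w t • (N ^ (p - 1 - i)) (v t) with hy
      have hyS : y ∈ Submodule.span k (Set.range F) :=
        Submodule.sum_mem _ fun t _ => Submodule.smul_mem _ _
          (Submodule.subset_span ⟨(t, ⟨p - 1 - i, by omega⟩), rfl⟩)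
      have h2 : (N ^ i) (x - y) = 0 := by
        rw [map_sub, hy, map_sum, sub_eq_zero]
        simp only [map_smul, hNj, show i + (p - 1 - i) = p - 1 by omega, hv]
        have := congrArg Subtype.val (b.sum_repr w)
        rw [AddSubmonoidClass.coe_finsetSum] at this
        exact this.symm
      simpa using Submodule.add_mem _ (ih (by omega) _ h2) hyS
  have htop : Submodule.span k (Set.range F) = ⊤ :=
    eq_top_iff.mpr fun x _ => hspan p le_rfl x (by rw [hNp]; rfl)
  -- independence
  have hind : LinearIndependent k F := by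
    rw [Fintype.linearIndependent_iff]
    intro c hc
    suffices h : ∀ (j : ℕ) (hj : j < p) (t : Fin (Module.finrank k W)), c (t, ⟨j, hj⟩) = 0 by
      rintro ⟨t, ⟨j, hj⟩⟩
      exact h j hj t
    intro j
    induction j using Nat.strong_induction_on with
    | _ j ih =>
      intro hj t
      have h := congrArg (N ^ (p - 1 - j)) hc
      rw [map_sum, map_zero, Fintype.sum_prod_type] at h
      simp only [F, map_smul, hNj] at h
      have h' : ∀ s : Fin (Module.finrank k W),
          ∑ i : Fin p, c (s, i) • (N ^ (p - 1 - j + (i : ℕ))) (v s) = c (s, ⟨j, hj⟩) • (b s : Fin n → k) := by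
        intro s
        rw [Finset.sum_eq_single (⟨j, hj⟩ : Fin p)]
        · rw [← hv s]
          congr 3
          simp only
          omega
        · intro i _ hi
          rcases Nat.lt_or_ge (i : ℕ) j with hlt | hge
          · rw [show i = ⟨(i : ℕ), i.2⟩ from rfl, ih _ hlt i.2 s, zero_smul]
          · have hne : (i : ℕ) ≠ j := fun e => hi (Fin.ext e)
            obtain ⟨m, hm⟩ := Nat.exists_eq_add_of_le (show p ≤ p - 1 - j + (i : ℕ) by omega)
            rw [hm, pow_add, hNp, zero_mul, LinearMap.zero_apply, smul_zero]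
        · simp
      rw [Finset.sum_congr rfl fun s _ => h' s] at h
      exact Fintype.linearIndependent_iff.mp
        (b.linearIndependent.map' W.subtype W.ker_subtype) (fun s => c (s, ⟨j, hj⟩)) h t
  have hcard : Module.finrank k W * p = n := by
    have := Module.finrank_eq_card_basis (Basis.mk hind htop.ge)
    simpa using this.symm
  refine ⟨hcard, eq_top_iff.mpr (htop.ge.trans (Submodule.span_le.mpr ?_))⟩
  set S := Submodule.span k
    (Set.range fun t : Fin (Module.finrank k W) × Fin p => (z ^ (t.2 : ℕ)) (v t.1)) with hS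
  have hzS : ∀ x ∈ S, z x ∈ S := by
    intro x hx
    induction hx using Submodule.span_induction with
    | mem x hx =>
      obtain ⟨⟨t, j⟩, rfl⟩ := hx
      show z ((z ^ (j : ℕ)) (v t)) ∈ S
      rw [← Module.End.mul_apply, ← pow_succ']
      by_cases hj : (j : ℕ) + 1 < p
      · exact Submodule.subset_span ⟨(t, ⟨(j : ℕ) + 1, hj⟩), rfl⟩
      · rw [show (j : ℕ) + 1 = p by omega, hz]
        exact Submodule.subset_span ⟨(t, ⟨0, hp.pos⟩), rfl⟩
    | zero => simp
    | add x y _ _ hx hy => rw [map_add]; exact Submodule.add_mem _ hx hy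
    | smul a x _ hx => rw [map_smul]; exact Submodule.smul_mem _ _ hx
  rintro _ ⟨⟨t, j⟩, rfl⟩
  show (N ^ (j : ℕ)) (v t) ∈ S
  induction (j : ℕ) with
  | zero => exact Submodule.subset_span ⟨(t, ⟨0, hp.pos⟩), rfl⟩
  | succ i ih =>
    rw [pow_succ', Module.End.mul_apply, hN, LinearMap.sub_apply, Module.End.one_apply]
    exact Submodule.sub_mem _ (hzS _ ih) ih

end Residue

section Lift

variable {R : Type*} [CommRing R] [IsLocalRing R] {p n : ℕ}

theorem trace_eq_zero_of_relProj (hp : p.Prime) (hpR : ¬ IsUnit (p : R))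
    (z φ : Matrix (Fin n) (Fin n) R) (hz : z ^ p = 1)
    (htr : ∑ j ∈ Finset.range p, z ^ j * φ * z ^ (p - j) = 1) : z.trace = 0 := by
  classical
  haveI := Fact.mk hp
  set k := IsLocalRing.ResidueField R
  set res : R →+* k := IsLocalRing.residue R with hres
  have hpk : (p : k) = 0 := by
    rw [← map_natCast res]
    exact (IsLocalRing.residue_eq_zero_iff _).mpr hpR
  haveI : CharP k p := (CharP.charP_iff_prime_eq_zero hp).mpr hpk
  let L : Matrix (Fin n) (Fin n) R →+* Module.End k (Fin n → k) :=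
    (Matrix.toLinAlgEquiv' : Matrix (Fin n) (Fin n) k ≃ₐ[k] _).toRingEquiv.toRingHom.comp
      res.mapMatrix
  obtain ⟨r, v, hcard, hspan⟩ := exists_free_family hp (L z) (L φ)
    (by rw [← map_pow, hz, map_one])
    (by simp only [← map_pow, ← map_mul, ← map_sum, htr, map_one])
  let w : Fin r → Fin n → R := fun i a => Function.surjInv IsLocalRing.residue_surjective (v i a)
  have hw : ∀ i, res ∘ w i = v i := fun i => funext fun a =>
    Function.surjInv_eq IsLocalRing.residue_surjective _
  let e : Fin n ≃ Fin r × Fin p := (finCongr hcard.symm).trans finProdFinEquiv.symm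
  let P : Matrix (Fin n) (Fin n) R :=
    Matrix.of fun a t => ((z ^ ((e t).2 : ℕ)) *ᵥ w (e t).1) a
  have hcol : (res.mapMatrix P).col =
      (fun t : Fin r × Fin p => ((L z) ^ (t.2 : ℕ)) (v t.1)) ∘ e := by
    funext t a
    rw [Function.comp_apply, ← map_pow, ← hw (e t).1]
    show res (((z ^ ((e t).2 : ℕ)) *ᵥ w (e t).1) a) =
      ((res.mapMatrix (z ^ ((e t).2 : ℕ))) *ᵥ (res ∘ w (e t).1)) a
    rw [RingHom.map_mulVec]
    rfl
  have htop : Submodule.span k (Set.range (res.mapMatrix P).col) = ⊤ := by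
    rw [hcol, Set.range_comp, e.range_eq_univ, Set.image_univ]
    exact hspan
  have hli : LinearIndependent k (res.mapMatrix P).col :=
    linearIndependent_of_top_le_span_of_card_eq_finrank htop.ge (by simp)
  have hu : IsUnit P := by
    rw [Matrix.isUnit_iff_isUnit_det]
    have h1 := (Matrix.isUnit_iff_isUnit_det _).mp (Matrix.linearIndependent_cols_iff_isUnit.mp hli)
    rw [← RingHom.map_det] at h1
    exact (isUnit_map_iff res _).mp h1
  -- `z` permutes the columns
  let σ : Fin n ≃ Fin n := e.trans ((Equiv.prodCongr (Equiv.refl (Fin r)) (finRotate p)).trans e.symm)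
  let S : Matrix (Fin n) (Fin n) R := Matrix.of fun a t => if a = σ t then 1 else 0
  have hσ : ∀ t, σ t ≠ t := by
    intro t h
    have h1 : (e (σ t)).2 = (e t).2 := by rw [h]
    simp only [σ, Equiv.trans_apply, Equiv.apply_symm_apply, Equiv.prodCongr_apply, Prod.map_snd] at h1
    obtain ⟨q, rfl⟩ : ∃ q, p = q + 2 := ⟨p - 2, by have := hp.two_le; omega⟩
    rw [finRotate_succ_apply] at h1
    simp at h1
  have hzP : z * P = P * S := by
    ext a t
    simp only [Matrix.mul_apply, S, Matrix.of_apply, mul_ite, mul_one, mul_zero, Finset.sum_ite_eq',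
      Finset.mem_univ, if_true]
    have hst : e (σ t) = ((e t).1, finRotate p (e t).2) := by
      show e (e.symm (Prod.map id (finRotate p) (e t))) = _
      rw [Equiv.apply_symm_apply]
      rfl
    show ∑ i, z a i * ((z ^ ((e t).2 : ℕ)) *ᵥ w (e t).1) i =
      ((z ^ ((e (σ t)).2 : ℕ)) *ᵥ w (e (σ t)).1) a
    rw [show ∑ i, z a i * ((z ^ ((e t).2 : ℕ)) *ᵥ w (e t).1) i =
      (z *ᵥ ((z ^ ((e t).2 : ℕ)) *ᵥ w (e t).1)) a from rfl, Matrix.mulVec_mulVec, ← pow_succ', hst]
    obtain ⟨q, rfl⟩ : ∃ q, p = q + 1 := ⟨p - 1, by have := hp.one_le; omega⟩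
    simp only [finRotate_succ_apply, Fin.val_add_one]
    split_ifs with hlast
    · rw [hlast, Fin.val_last, hz]
      simp
    · rfl
  obtain ⟨P', hP'⟩ := hu
  rw [← hP'] at hzP
  have hzS : z = P' * S * (↑P'⁻¹ : Matrix (Fin n) (Fin n) R) := by
    rw [← hzP, mul_assoc, Units.mul_inv, mul_one]
  rw [hzS, Matrix.trace_mul_comm, ← mul_assoc, Units.inv_mul, one_mul]
  exact Finset.sum_eq_zero fun t _ => if_neg (Ne.symm (hσ t))

end Lift

end Cfsg.Agent.Char

namespace Cfsg.Agent.Char

open Cfsg Module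

variable {V : ValuationSubring ℂ} {p : ℕ}

theorem mem_of_pow_eq_one (V : ValuationSubring ℂ) {c : ℂ} {m : ℕ} (hm : m ≠ 0) (hc : c ^ m = 1) :
    c ∈ V := by
  rcases V.mem_or_inv_mem c with h | h
  · exact h
  · have e : c = (c⁻¹) ^ (m - 1) := by
      rw [inv_pow]
      exact eq_inv_of_mul_eq_one_left
        (by rw [← pow_succ', Nat.sub_add_cancel (Nat.one_le_iff_ne_zero.mpr hm), hc])
    rw [e]
    exact pow_mem h _

/-- Operators preserving a lattice. -/
def Stab {W : Type*} [AddCommGroup W] [Module ℂ W] (Λ : Submodule V W) (f : Module.End ℂ W) : Prop :=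
  ∀ x ∈ Λ, f x ∈ Λ

/-- Green's vanishing for a cyclic group: the trace on a lattice part vanishes. -/
theorem trace_range_eq_zero (hp : p.Prime) (hpV : ¬ IsUnit (p : V)) {d : ℕ}
    (Λ : Submodule V (Fin d → ℂ)) (hfg : Λ.FG) (hspan : Submodule.span ℂ (Λ : Set (Fin d → ℂ)) = ⊤)
    (e h Φ : Module.End ℂ (Fin d → ℂ)) {c : ℂ} (hc : c ≠ 0) (hcV : c⁻¹ ∈ V) (he : e * e = e)
    (heh : e * h = h * e) (heΦ : e * Φ = Φ * e) (hpow : h ^ p * e = c ^ p • e)
    (hsum : (∑ j ∈ Finset.range p, c⁻¹ ^ p • (h ^ j * Φ * h ^ (p - j))) * e = e)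
    (hh : Stab Λ h) (hΦ : Stab Λ Φ) : LinearMap.trace ℂ _ (e * h) = 0 := by
  classical
  let eV : (Fin d → ℂ) →ₗ[V] (Fin d → ℂ) := e.restrictScalars V
  let U : Submodule V (Fin d → ℂ) := Λ.map eV
  haveI : Module.Finite V U := Module.Finite.iff_fg.mpr (hfg.map eV)
  haveI : Module.Flat V U := by
    rw [Module.Flat.flat_iff_torsion_eq_bot_of_isBezout, ← Submodule.isTorsionFree_iff_torsion_eq_bot]
    infer_instance
  haveI : Module.Free V U := Module.free_of_flat_of_isLocalRing
  set s := Module.finrank V U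
  let b : Basis (Fin s) V U := Module.finBasis V U
  -- the action on `U`
  have hU : ∀ f : Module.End ℂ (Fin d → ℂ), Stab Λ f → e * f = f * e →
      ∀ x ∈ U, c⁻¹ • f x ∈ U := by
    rintro f hf hef _ ⟨y, hy, rfl⟩
    refine ⟨(⟨c⁻¹, hcV⟩ : V) • f y, Λ.smul_mem _ (hf y hy), ?_⟩
    show e (c⁻¹ • f y) = c⁻¹ • f (e y)
    rw [map_smul, ← Module.End.mul_apply, hef]
    rfl
  have hΦU : ∀ x ∈ U, Φ x ∈ U := by
    rintro _ ⟨y, hy, rfl⟩
    refine ⟨Φ y, hΦ y hy, ?_⟩
    show e (Φ y) = Φ (e y)
    rw [← Module.End.mul_apply, heΦ, Module.End.mul_apply]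
  have hfix : ∀ x ∈ U, e x = x := by
    rintro _ ⟨y, -, rfl⟩
    show e (e y) = e y
    rw [← Module.End.mul_apply, he]
  let zU : Module.End V U :=
    { toFun := fun x => ⟨c⁻¹ • h x, hU h hh heh x x.2⟩
      map_add' := fun x y => Subtype.ext (by simp)
      map_smul' := fun a x => Subtype.ext (by
        show c⁻¹ • h (a • (x : Fin d → ℂ)) = a • (c⁻¹ • h (x : Fin d → ℂ))
        show c⁻¹ • h ((a : ℂ) • (x : Fin d → ℂ)) = (a : ℂ) • (c⁻¹ • h (x : Fin d → ℂ))
        rw [map_smul, smul_comm]) }
  let φU : Module.End V U :=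
    { toFun := fun x => ⟨Φ x, hΦU x x.2⟩
      map_add' := fun x y => Subtype.ext (by simp)
      map_smul' := fun a x => Subtype.ext (by
        show Φ ((a : ℂ) • (x : Fin d → ℂ)) = (a : ℂ) • Φ (x : Fin d → ℂ)
        rw [map_smul]) }
  have hzpow : ∀ (i : ℕ) (x : U), (((zU ^ i) x : U) : Fin d → ℂ) = c⁻¹ ^ i • (h ^ i) x := by
    intro i
    induction i with
    | zero => intro x; simp
    | succ i ih =>
      intro x
      rw [pow_succ' zU, Module.End.mul_apply]
      show c⁻¹ • h ((((zU ^ i) x : U) : Fin d → ℂ)) = _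
      rw [ih, map_smul, smul_smul, ← pow_succ', pow_succ' h]
      rfl
  have hz : zU ^ p = 1 := by
    refine LinearMap.ext fun x => Subtype.ext ?_
    rw [hzpow]
    have h1 := congrArg (fun F : Module.End ℂ (Fin d → ℂ) => F x) hpow
    simp only [Module.End.mul_apply, hfix x x.2, LinearMap.smul_apply] at h1
    rw [h1, smul_smul, inv_pow, inv_mul_cancel₀ (pow_ne_zero _ hc), one_smul]
    rfl
  have htr : ∑ j ∈ Finset.range p, zU ^ j * φU * zU ^ (p - j) = 1 := by
    refine LinearMap.ext fun x => Subtype.ext ?_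
    rw [LinearMap.sum_apply, AddSubmonoidClass.coe_finsetSum]
    have h1 := congrArg (fun F : Module.End ℂ (Fin d → ℂ) => F x) hsum
    simp only [Module.End.mul_apply, LinearMap.sum_apply, LinearMap.smul_apply, hfix x x.2] at h1
    refine (Finset.sum_congr rfl fun j hj => ?_).trans h1
    have hj' := Finset.mem_range.mp hj
    rw [Module.End.mul_apply, Module.End.mul_apply, hzpow,
      show ((φU ((zU ^ (p - j)) x) : U) : Fin d → ℂ) = Φ (((zU ^ (p - j)) x : U) : Fin d → ℂ) from rfl,
      hzpow, map_smul, map_smul, smul_smul, ← pow_add, show j + (p - j) = p by omega]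
  let toM := LinearMap.toMatrixAlgEquiv b
  set Z := toM zU with hZdef
  have hZ0 : Z.trace = 0 := trace_eq_zero_of_relProj hp hpV Z (toM φU)
    (by rw [hZdef, ← map_pow, hz, map_one])
    (by simp only [hZdef, ← map_pow, ← map_mul, ← map_sum, htr, map_one])
  -- the complex basis of the range
  have hliV : LinearIndependent V fun i => ((b i : U) : Fin d → ℂ) :=
    b.linearIndependent.map' U.subtype U.ker_subtype
  have hli := (LinearIndependent.iff_fractionRing V ℂ).mp hliV
  let Bl : (Fin s → ℂ) →ₗ[ℂ] (Fin d → ℂ) := Fintype.linearCombination ℂ fun i => ((b i : U) : Fin d → ℂ)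
  have hBinj : LinearMap.ker Bl = ⊥ := LinearMap.ker_eq_bot.mpr
    (linearIndependent_iff_injective_fintypeLinearCombination.mp hli)
  obtain ⟨Li, hLi⟩ := Bl.exists_leftInverse_of_injective hBinj
  have hUB : ∀ x ∈ U, x ∈ LinearMap.range Bl := by
    intro x hx
    refine ⟨fun i => ((b.repr ⟨x, hx⟩ i : V) : ℂ), ?_⟩
    rw [Fintype.linearCombination_apply]
    have := congrArg Subtype.val (b.sum_repr ⟨x, hx⟩)
    rw [AddSubmonoidClass.coe_finsetSum] at this
    exact this
  have hrange : ∀ x, e x ∈ LinearMap.range Bl := by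
    intro x
    have hx : x ∈ Submodule.span ℂ (Λ : Set (Fin d → ℂ)) := hspan ▸ Submodule.mem_top
    induction hx using Submodule.span_induction with
    | mem y hy => exact hUB _ ⟨y, hy, rfl⟩
    | zero => simp
    | add y y' _ _ hy hy' => rw [map_add]; exact Submodule.add_mem _ hy hy'
    | smul a y _ hy => rw [map_smul]; exact Submodule.smul_mem _ _ hy
  let Ac : (Fin d → ℂ) →ₗ[ℂ] (Fin s → ℂ) := Li ∘ₗ e
  have heB : Bl ∘ₗ Ac = e := by
    refine LinearMap.ext fun x => ?_
    obtain ⟨y, hy⟩ := hrange x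
    show Bl (Li (e x)) = e x
    rw [← hy, show Li (Bl y) = y from LinearMap.congr_fun hLi y]
  have hcomp : Bl ∘ₗ (c • Matrix.toLin' (Z.map (V.subtype))) = h ∘ₗ Bl := by
    refine (Pi.basisFun ℂ (Fin s)).ext fun i => ?_
    simp only [LinearMap.comp_apply, LinearMap.smul_apply, map_smul, Pi.basisFun_apply,
      Matrix.toLin'_apply, Matrix.mulVec_single_one]
    rw [show Bl (Pi.single i 1) = ((b i : U) : Fin d → ℂ) from by
      simp [Bl]]
    have h1 : ((zU (b i) : U) : Fin d → ℂ) = c⁻¹ • h (b i : Fin d → ℂ) := rfl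
    have h2 : ((zU (b i) : U) : Fin d → ℂ) = Bl ((Z.map V.subtype).col i) := by
      rw [Fintype.linearCombination_apply]
      have := congrArg Subtype.val (b.sum_repr (zU (b i)))
      rw [AddSubmonoidClass.coe_finsetSum] at this
      refine this.symm.trans (Finset.sum_congr rfl fun j _ => ?_)
      simp only [hZdef, toM, Matrix.col_apply, Matrix.map_apply, LinearMap.toMatrixAlgEquiv_apply]
      rfl
    rw [← h2, h1, smul_smul, mul_inv_cancel₀ hc, one_smul]
  have hAB : Ac ∘ₗ Bl = LinearMap.id := by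
    refine (Pi.basisFun ℂ (Fin s)).ext fun i => ?_
    simp only [Ac, LinearMap.comp_apply, Pi.basisFun_apply, LinearMap.id_apply]
    rw [show e (Bl (Pi.single i 1)) = Bl (Pi.single i 1) from ?_]
    · exact LinearMap.congr_fun hLi _
    · rw [show Bl (Pi.single i 1) = ((b i : U) : Fin d → ℂ) from by simp [Bl]]
      exact hfix _ (b i).2
  have heh' : e * h = Bl ∘ₗ (Ac ∘ₗ h) := by rw [← LinearMap.comp_assoc, heB]; rfl
  rw [heh', LinearMap.trace_comp_comm', LinearMap.comp_assoc, ← hcomp, ← LinearMap.comp_assoc, hAB,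
    LinearMap.id_comp, map_smul, Matrix.trace_toLin'_eq]
  rw [show (Z.map V.subtype).trace = V.subtype Z.trace from (map_sum V.subtype _ _).symm,
    hZ0, map_zero, smul_zero]

end Cfsg.Agent.Char
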