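import Cfsg.Agent.Lib.Char.ModTrace
import Cfsg.Agent.Lib.Char.RelProj
import Mathlib

/-!
# Fixed points modulo traces for a subgroup of prime order

For an irreducible representation in characteristic `p` of a group whose Sylow subgroup `P` has
order `p`, the fixed points of `P` modulo the traces from `1` form a space of dimension at most one.
-/

set_option autoImplicit false
set_option linter.unusedSectionVars false

namespace Cfsg.Agent.Char

open Cfsg Module

universe u v w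

variable {k : Type v} [Field k] {G : Type u} [Group G] [Finite G] {p : ℕ}

section Orbit

variable {A : Type*} [AddCommGroup A] {Q : Type*} [Group Q] [Fintype Q] {α : Type*} [Fintype α]

open scoped Classical in
/-- An equivariant sum is, up to a trace, the sum over the fixed points. -/
theorem sum_equivariant_fixed (hQ : (Nat.card Q).Prime) (act : Q → α → α)
    (h1 : ∀ a, act 1 a = a) (hmul : ∀ y z a, act (y * z) a = act y (act z a))
    (T : Q → A →+ A) (F : α → A) (hF : ∀ y a, F (act y a) = T y (F a)) :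
    ∃ t : A, ∑ a, F a = ∑ a with ∀ y, act y a = a, F a + ∑ y, T y t := by
  have hinv : ∀ y a, act y⁻¹ (act y a) = a := fun y a => by rw [← hmul, inv_mul_cancel, h1]
  -- a point is fixed or has a regular orbit
  have hfree : ∀ a y, ¬ (∀ z, act z a = a) → act y a = a → y = 1 := by
    intro a y hne hy
    by_contra hy1
    refine hne fun z => ?_
    let S : Subgroup Q :=
      { carrier := {z | act z a = a}
        mul_mem' := fun {b c} hb hc => by
          show act (b * c) a = a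
          rw [hmul, show act c a = a from hc, show act b a = a from hb]
        one_mem' := h1 a
        inv_mem' := fun {b} hb => by
          show act b⁻¹ a = a
          conv_lhs => rw [← show act b a = a from hb]
          exact hinv b a }
    haveI := Fact.mk hQ
    have : S = ⊤ := (S.eq_bot_or_eq_top_of_prime_card).resolve_left fun e =>
      hy1 (Subgroup.mem_bot.mp (e ▸ (show y ∈ S from hy)))
    exact (show z ∈ S from this ▸ Subgroup.mem_top z)
  let s : Setoid α :=
    { r := fun a b => ∃ y, act y a = b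
      iseqv := ⟨fun a => ⟨1, h1 a⟩, fun {a b} ⟨y, hy⟩ => ⟨y⁻¹, hy ▸ hinv y a⟩,
        fun {a b c} ⟨y, hy⟩ ⟨z, hz⟩ => ⟨z * y, by rw [hmul, hy, hz]⟩⟩ }
  let R := (Finset.univ : Finset α).filter fun a =>
    (¬ ∀ z, act z a = a) ∧ (Quotient.mk s a).out = a
  refine ⟨∑ a ∈ R, F a, ?_⟩
  rw [← Finset.sum_filter_add_sum_filter_not Finset.univ (fun a => ∀ y, act y a = a) F]
  refine congrArg₂ (· + ·) rfl ?_
  simp only [map_sum, ← hF]
  rw [← Finset.sum_product']
  have hclass : ∀ y a, Quotient.mk s (act y a) = Quotient.mk s a := fun y a =>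
    Quotient.sound ⟨y⁻¹, hinv y a⟩
  symm
  refine Finset.sum_bij (fun q _ => act q.1 q.2) (fun q hq => ?_) (fun q hq q' hq' e => ?_)
    (fun b hb => ?_) (fun q _ => rfl)
  · have hne := (Finset.mem_filter.mp (Finset.mem_product.mp hq).2).2.1
    simp only [Finset.mem_filter, Finset.mem_univ, true_and]
    intro hall
    refine hne ?_
    intro z
    have e := hall (q.1 * z * q.1⁻¹)
    rw [← hmul, inv_mul_cancel_right, hmul] at e
    have := congrArg (act q.1⁻¹) e
    rwa [hinv, hinv] at this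
  · have hq2 := (Finset.mem_filter.mp (Finset.mem_product.mp hq).2).2
    have hq2' := (Finset.mem_filter.mp (Finset.mem_product.mp hq').2).2
    have e2 : q.2 = q'.2 := by
      rw [← hq2.2, ← hq2'.2, ← hclass q.1 q.2, e, hclass]
    rw [← e2] at e
    have e1 : q'.1⁻¹ * q.1 = 1 := hfree q.2 _ hq2.1 (by rw [hmul, e, hinv])
    exact Prod.ext (inv_mul_eq_one.mp e1).symm e2
  · have hb' : ¬ ∀ z, act z b = b := (Finset.mem_filter.mp hb).2
    obtain ⟨y, hy⟩ : s.r (Quotient.mk s b).out b := Quotient.exact (Quotient.out_eq _)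
    refine ⟨(y, (Quotient.mk s b).out), ?_, hy⟩
    simp only [Finset.mem_product, Finset.mem_univ, true_and, R, Finset.mem_filter]
    refine ⟨fun hall => hb' fun z => ?_, by rw [Quotient.out_eq]⟩
    have hbo : b = (Quotient.mk s b).out := hy.symm.trans (hall y)
    rw [hbo]
    exact hall z

end Orbit

variable {W : Type w} [AddCommGroup W] [Module k W] (ρ : G →* Module.End k W) (P K : Subgroup G)
  [Fintype ↥P] [Fintype ↥K]

/-- The trace from the trivial subgroup to `P`. -/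
def trEnd : Module.End k W := ∑ y : ↥P, ρ (y : G)

/-- A fixed vector of `P` that is an eigenvector of `K`. -/
def FixEig (lam : ↥K →* k) (v : W) : Prop :=
  (∀ y : ↥P, ρ (y : G) v = v) ∧ ∀ n : ↥K, ρ (n : G) v = lam n • v

/-- The projection on an eigenspace of `K`. -/
noncomputable def eigProj (lam : ↥K →* k) : Module.End k W :=
  (Nat.card ↥K : k)⁻¹ • ∑ n : ↥K, lam n⁻¹ • ρ (n : G)

variable {ρ P K}

theorem trEnd_fixed (y : ↥P) (t : W) : ρ (y : G) (trEnd ρ P t) = trEnd ρ P t := by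
  simp only [trEnd, LinearMap.sum_apply, map_sum, ← Module.End.mul_apply, ← map_mul]
  exact Fintype.sum_equiv (Equiv.mulLeft y) _ _ fun z => rfl

theorem eigProj_eig (lam : ↥K →* k) (n : ↥K) (x : W) :
    ρ (n : G) (eigProj ρ K lam x) = lam n • eigProj ρ K lam x := by
  simp only [eigProj, LinearMap.smul_apply, LinearMap.sum_apply, map_smul, map_sum,
    Finset.smul_sum, smul_smul]
  refine Fintype.sum_equiv (Equiv.mulLeft n) _ _ fun z => ?_
  rw [Equiv.coe_mulLeft, ← Module.End.mul_apply, ← map_mul, Subgroup.coe_mul, mul_inv_rev, map_mul, map_mul]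
  congr 1
  have : lam n * lam n⁻¹ = 1 := by rw [← map_mul, mul_inv_cancel, map_one]
  linear_combination (Nat.card ↥K : k)⁻¹ * lam z⁻¹ * (-this)

theorem eigProj_of_eig (hK : (Nat.card ↥K : k) ≠ 0) {lam : ↥K →* k} {x : W}
    (hx : ∀ n : ↥K, ρ (n : G) x = lam n • x) : eigProj ρ K lam x = x := by
  simp only [eigProj, LinearMap.smul_apply, LinearMap.sum_apply, hx, smul_smul,
    ← map_mul, inv_mul_cancel, map_one, one_smul, Finset.sum_const, Finset.card_univ,
    ← Nat.card_eq_fintype_card]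
  rw [← Nat.cast_smul_eq_nsmul k, smul_smul, inv_mul_cancel₀ hK, one_smul]

theorem eigProj_scalar {lam mu : ↥K →* k} {x : W} (hx : ∀ n : ↥K, ρ (n : G) x = lam n • x) :
    ∃ c : k, eigProj ρ K mu x = c • x :=
  ⟨(Nat.card ↥K : k)⁻¹ * ∑ n : ↥K, mu n⁻¹ * lam n, by
    simp only [eigProj, LinearMap.smul_apply, LinearMap.sum_apply, hx, Finset.mul_sum,
      Finset.sum_smul, smul_smul, Finset.smul_sum, mul_assoc]⟩

theorem eigProj_fixed (hnorm : ∀ n : ↥K, ∀ y ∈ P, (n : G)⁻¹ * y * n ∈ P) (lam : ↥K →* k) {x : W}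
    (hx : ∀ y : ↥P, ρ (y : G) x = x) (y : ↥P) :
    ρ (y : G) (eigProj ρ K lam x) = eigProj ρ K lam x := by
  simp only [eigProj, LinearMap.smul_apply, LinearMap.sum_apply, map_smul, map_sum]
  congr 1
  refine Finset.sum_congr rfl fun n _ => ?_
  congr 1
  rw [← Module.End.mul_apply, ← map_mul,
    show (y : G) * n = n * ((n : G)⁻¹ * y * n) by group, map_mul, Module.End.mul_apply]
  exact congrArg _ (hx ⟨_, hnorm n (y : G) y.2⟩)

theorem eigProj_trEnd (hnorm : ∀ n : ↥K, ∀ y ∈ P, (n : G)⁻¹ * y * n ∈ P) (lam : ↥K →* k) (t : W) :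
    eigProj ρ K lam (trEnd ρ P t) = trEnd ρ P (eigProj ρ K lam t) := by
  simp only [eigProj, trEnd, LinearMap.smul_apply, LinearMap.sum_apply, map_smul, map_sum,
    Finset.smul_sum]
  rw [Finset.sum_comm (s := (Finset.univ : Finset ↥P))]
  refine Finset.sum_congr rfl fun n _ => ?_
  let f : ↥P → ↥P := fun y => ⟨(n : G)⁻¹ * y * n, hnorm n (y : G) y.2⟩
  have hf : Function.Bijective f := Finite.injective_iff_bijective.mp fun a b e => by
    have := congrArg Subtype.val e
    simp only [f, mul_left_inj, mul_right_inj] at this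
    exact Subtype.ext this
  refine (Fintype.sum_bijective f hf _ _ fun y => ?_).symm
  rw [← Module.End.mul_apply, ← Module.End.mul_apply, ← map_mul, ← map_mul]
  congr 4
  show (y : G) * n = n * ((n : G)⁻¹ * y * n)
  group

/-- The standing hypotheses on `P` and a complement `K` in its normalizer `N`. -/
structure PrimeSetup (P K N : Subgroup G) (p : ℕ) : Prop where
  prime : p.Prime
  card : Nat.card ↥P = p
  coprime : ¬ p ∣ Nat.card ↥K
  norm : ∀ n : ↥K, ∀ y ∈ P, (n : G)⁻¹ * y * n ∈ P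
  leP : P ≤ N
  leK : K ≤ N
  gen : ∀ x ∈ N, ∃ y ∈ P, ∃ n ∈ K, x = y * n
  fix : ∀ g : G, (∀ y ∈ P, g⁻¹ * y * g ∈ N) → g ∈ N

variable {N : Subgroup G} [CharP k p]

theorem PrimeSetup.card_ne (hS : PrimeSetup P K N p) : (Nat.card ↥K : k) ≠ 0 := by
  rw [Ne, CharP.cast_eq_zero_iff k p]
  exact hS.coprime

theorem PrimeSetup.trEnd_eq (hS : PrimeSetup P K N p) {y₀ : G}
    (hy₀ : Subgroup.zpowers y₀ = P) : trEnd ρ P = (ρ y₀ - 1) ^ (p - 1) := by
  have hord : orderOf y₀ = p := by rw [← Nat.card_zpowers, hy₀, hS.card]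
  rw [← geom_sum_eq_sub_one_pow (k := k) hS.prime, trEnd]
  symm
  refine Finset.sum_bij (fun i _ => (⟨y₀ ^ i, hy₀ ▸ Subgroup.pow_mem _ (Subgroup.mem_zpowers _) i⟩ : ↥P))
    (fun i _ => Finset.mem_univ _) (fun i hi j hj e => ?_) (fun y _ => ?_) (fun i _ => (map_pow ρ y₀ i).symm)
  · have e' := congrArg Subtype.val e
    exact pow_injOn_Iio_orderOf (by simpa [hord] using hi) (by simpa [hord] using hj) e'
  · have hy : (y : G) ∈ Submonoid.powers y₀ :=
      mem_powers_iff_mem_zpowers.mpr (hy₀.symm ▸ y.2)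
    obtain ⟨i, hi⟩ := hy
    exact ⟨i % p, Finset.mem_range.mpr (Nat.mod_lt _ hS.prime.pos), Subtype.ext (by
      show y₀ ^ (i % p) = (y : G)
      rw [← hord, pow_mod_orderOf]; exact hi)⟩

theorem PrimeSetup.range_pow_inv (hS : PrimeSetup P K N p) {y₀ : G}
    (hy₀ : Subgroup.zpowers y₀ = P) (j : ℕ) (n : ↥K) {x : W}
    (hx : x ∈ LinearMap.range ((ρ y₀ - 1) ^ j)) :
    ρ (n : G) x ∈ LinearMap.range ((ρ y₀ - 1) ^ j) := by
  obtain ⟨t, rfl⟩ := hx
  have hmem : (n : G) * y₀ * (n : G)⁻¹ ∈ P := by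
    have := hS.norm n⁻¹ y₀ (hy₀ ▸ Subgroup.mem_zpowers y₀)
    simpa using this
  obtain ⟨i, hi⟩ : (n : G) * y₀ * (n : G)⁻¹ ∈ Submonoid.powers y₀ :=
    mem_powers_iff_mem_zpowers.mpr (hy₀.symm ▸ hmem)
  have h1 : ρ (n : G) * (ρ y₀ - 1) = (ρ y₀ ^ i - 1) * ρ (n : G) := by
    rw [mul_sub, sub_mul, mul_one, one_mul, ← map_pow, ← map_mul, ← map_mul]
    congr 2
    have hi' : y₀ ^ i = (n : G) * y₀ * (n : G)⁻¹ := hi
    rw [hi']
    group
  have h2 : ρ (n : G) * (ρ y₀ - 1) ^ j = (ρ y₀ ^ i - 1) ^ j * ρ (n : G) :=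
    (SemiconjBy.pow_right (show SemiconjBy (ρ (n : G)) (ρ y₀ - 1) (ρ y₀ ^ i - 1) from h1) j).eq
  refine ⟨((∑ l ∈ Finset.range i, ρ y₀ ^ l) ^ j) (ρ (n : G) t), ?_⟩
  have hc : Commute (ρ y₀ - 1) (∑ l ∈ Finset.range i, ρ y₀ ^ l) :=
    Commute.sum_right _ _ _ fun l _ =>
      ((Commute.refl (ρ y₀)).pow_right l).sub_left (Commute.one_left _)
  have h3 : (ρ y₀ ^ i - 1) ^ j = (ρ y₀ - 1) ^ j * (∑ l ∈ Finset.range i, ρ y₀ ^ l) ^ j := by
    rw [← mul_geom_sum, hc.mul_pow]
  rw [← Module.End.mul_apply (ρ (n : G)), h2, h3]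
  rfl

/-- Two separated eigenvectors of fixed classes cannot occur in an irreducible representation. -/
theorem PrimeSetup.no_separated [FiniteDimensional k W] (hS : PrimeSetup P K N p)
    (hρ : SimpleRep ρ) {y₀ : G} (hy₀ : Subgroup.zpowers y₀ = P) {lam mu : ↥K →* k} {v v' : W}
    (hv : FixEig ρ P K lam v) (hv' : FixEig ρ P K mu v') {j : ℕ} (hj : j + 1 ≤ p - 1)
    (hvj : v ∈ LinearMap.range ((ρ y₀ - 1) ^ j))
    (hvn : v ∉ LinearMap.range ((ρ y₀ - 1) ^ (j + 1)))
    (hsep : ∀ c : k, v' - c • v ∉ LinearMap.range ((ρ y₀ - 1) ^ (j + 1))) : False := by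
  classical
  set X := ρ y₀ - 1 with hX
  obtain ⟨w, hw⟩ := hvj
  have hy₀P : y₀ ∈ P := hy₀ ▸ Subgroup.mem_zpowers y₀
  have hXv : X v = 0 := by
    have := hv.1 ⟨y₀, hy₀P⟩
    simp only [hX, LinearMap.sub_apply, Module.End.one_apply]
    rw [this, sub_self]
  have hXv' : X v' = 0 := by
    have := hv'.1 ⟨y₀, hy₀P⟩
    simp only [hX, LinearMap.sub_apply, Module.End.one_apply]
    rw [this, sub_self]
  -- a functional separating the two vectors
  set U : Submodule k W := Submodule.span k {v'} ⊔ LinearMap.range (X ^ (j + 1)) with hU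
  have hvU : v ∉ U := by
    intro hmem
    obtain ⟨a, ha, r, hr, har⟩ := Submodule.mem_sup.mp hmem
    obtain ⟨c, rfl⟩ := Submodule.mem_span_singleton.mp ha
    by_cases hc : c = 0
    · rw [hc, zero_smul, zero_add] at har
      exact hvn (har ▸ hr)
    · refine hsep c⁻¹ ?_
      rw [← har, smul_add, smul_smul, inv_mul_cancel₀ hc, one_smul, sub_add_cancel_left]
      exact Submodule.neg_mem _ (Submodule.smul_mem _ _ hr)
  obtain ⟨h₀, hh₀, hh₀U⟩ := Submodule.exists_dual_map_eq_bot_of_notMem hvU inferInstance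
  set h : Module.Dual k W := (h₀ v)⁻¹ • h₀ with hh
  have hhv : h v = 1 := by simp [hh, inv_mul_cancel₀ hh₀]
  have hhU : ∀ x ∈ U, h x = 0 := fun x hx => by
    have : h₀ x ∈ U.map h₀ := ⟨x, hx, rfl⟩
    rw [hh₀U, Submodule.mem_bot] at this
    simp [hh, this]
  -- the endomorphism
  let φ : Module.End k W := ∑ i ∈ Finset.range (j + 1),
    (h.comp (X ^ (j - i))).smulRight ((X ^ i) w)
  have hφ : ∀ x, φ x = ∑ i ∈ Finset.range (j + 1), h ((X ^ (j - i)) x) • (X ^ i) w := fun x => by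
    simp [φ]
  have hφX : Commute X φ := by
    refine LinearMap.ext fun x => ?_
    show X (φ x) = φ (X x)
    simp only [hφ, map_sum, map_smul]
    set F : ℕ → W := fun i => h ((X ^ (j + 1 - i)) x) • (X ^ i) w with hF
    have e1 : ∀ i ∈ Finset.range (j + 1), h ((X ^ (j - i)) x) • X ((X ^ i) w) = F (i + 1) :=
      fun i hi => by
        simp only [hF, Nat.add_sub_add_right, pow_succ', Module.End.mul_apply]
    have e2 : ∀ i ∈ Finset.range (j + 1), h ((X ^ (j - i)) (X x)) • (X ^ i) w = F i :=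
      fun i hi => by
        rw [Finset.mem_range] at hi
        simp only [hF, show j + 1 - i = j - i + 1 by omega, pow_succ, Module.End.mul_apply]
    rw [Finset.sum_congr rfl e1, Finset.sum_congr rfl e2]
    have hF0 : F 0 = 0 := by
      simp only [hF, Nat.sub_zero]
      rw [hhU _ (Submodule.mem_sup_right ⟨x, rfl⟩), zero_smul]
    have hFj : F (j + 1) = 0 := by
      simp only [hF, pow_succ', Module.End.mul_apply, hw, hXv, smul_zero]
    have s1 := Finset.sum_range_succ' F (j + 1)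
    have s2 := Finset.sum_range_succ F (j + 1)
    rw [hF0, add_zero] at s1
    rw [hFj, add_zero] at s2
    rw [← s1, s2]
  have hXpow : ∀ x, X x = 0 → ∀ i, 0 < i → (X ^ i) x = 0 := fun x hx i hi => by
    obtain ⟨i', rfl⟩ : ∃ i', i = i' + 1 := ⟨i - 1, by omega⟩
    rw [pow_succ, Module.End.mul_apply, hx, map_zero]
  have hφv : φ v = v := by
    rw [hφ, Finset.sum_eq_single j]
    · rw [Nat.sub_self, pow_zero, Module.End.one_apply, hhv, one_smul, hw]
    · intro i hi hij
      rw [Finset.mem_range] at hi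
      rw [hXpow v hXv _ (by omega), map_zero, zero_smul]
    · intro hn
      exact absurd (Finset.mem_range.mpr (Nat.lt_succ_self j)) hn
  have hφv' : φ v' = 0 := by
    rw [hφ]
    refine Finset.sum_eq_zero fun i hi => ?_
    rw [Finset.mem_range] at hi
    rcases Nat.eq_zero_or_pos (j - i) with e | e
    · rw [e, pow_zero, Module.End.one_apply,
        hhU v' (Submodule.mem_sup_left (Submodule.mem_span_singleton_self v')), zero_smul]
    · rw [hXpow v' hXv' _ e, map_zero, zero_smul]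
  have hφP : ∀ y ∈ P, Commute (ρ y) φ := by
    intro y hy
    obtain ⟨i, hi⟩ : y ∈ Submonoid.powers y₀ := mem_powers_iff_mem_zpowers.mpr (hy₀.symm ▸ hy)
    have hi' : y₀ ^ i = y := hi
    have : Commute (ρ y₀) φ := by
      have h2 := hφX.add_left (Commute.one_left φ)
      rwa [hX, sub_add_cancel] at h2
    rw [← hi', map_pow]
    exact this.pow_left i
  -- averaging over `K`
  set ψ : Module.End k W :=
    (Nat.card ↥K : k)⁻¹ • ∑ n : ↥K, ρ (n : G) * φ * ρ (n : G)⁻¹ with hψ
  have hψP : ∀ y ∈ P, Commute (ρ y) ψ := by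
    intro y hy
    refine Commute.smul_right (Commute.sum_right _ _ _ fun n _ => ?_) _
    have hy' := hS.norm n y hy
    have hc := hφP _ hy'
    show ρ y * (ρ (n : G) * φ * ρ (n : G)⁻¹) = ρ (n : G) * φ * ρ (n : G)⁻¹ * ρ y
    have e1 : ρ y * ρ (n : G) = ρ (n : G) * ρ ((n : G)⁻¹ * y * n) := by
      rw [← map_mul, ← map_mul]
      congr 1
      group
    have e2 : ρ ((n : G)⁻¹ * y * n) * ρ (n : G)⁻¹ = ρ (n : G)⁻¹ * ρ y := by
      rw [← map_mul, ← map_mul]
      congr 1
      group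
    calc ρ y * (ρ (n : G) * φ * ρ (n : G)⁻¹)
        = ρ y * ρ (n : G) * φ * ρ (n : G)⁻¹ := by simp only [mul_assoc]
      _ = ρ (n : G) * (ρ ((n : G)⁻¹ * y * n) * φ) * ρ (n : G)⁻¹ := by
          rw [e1]; simp only [mul_assoc]
      _ = ρ (n : G) * φ * (ρ ((n : G)⁻¹ * y * n) * ρ (n : G)⁻¹) := by
          rw [hc.eq]; simp only [mul_assoc]
      _ = _ := by rw [e2]; simp only [mul_assoc]
  have hψK : ∀ m ∈ K, Commute (ρ m) ψ := by
    intro m hm
    refine Commute.smul_right ?_ _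
    show ρ m * _ = _ * ρ m
    rw [Finset.mul_sum, Finset.sum_mul]
    refine Fintype.sum_equiv (Equiv.mulLeft (⟨m, hm⟩ : ↥K)) _ _ fun n => ?_
    simp only [Equiv.coe_mulLeft, Subgroup.coe_mul, mul_assoc, ← map_mul]
    rw [← mul_assoc (ρ m), ← map_mul]
    congr 3
    group
  have hψN : ∀ x ∈ N, Commute (ρ x) ψ := by
    intro x hx
    obtain ⟨y, hy, n, hn, rfl⟩ := hS.gen x hx
    rw [map_mul]
    exact (hψP y hy).mul_left (hψK n hn)
  have hψv : ψ v = v := by
    simp only [hψ, LinearMap.smul_apply, LinearMap.sum_apply, Module.End.mul_apply]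
    have e : ∀ n : ↥K, ρ (n : G) (φ (ρ (n : G)⁻¹ v)) = v := fun n => by
      rw [show ρ (n : G)⁻¹ v = lam n⁻¹ • v from hv.2 n⁻¹, map_smul, hφv, map_smul, hv.2 n,
        smul_smul, ← map_mul, inv_mul_cancel, map_one, one_smul]
    simp only [e, Finset.sum_const, Finset.card_univ, ← Nat.card_eq_fintype_card]
    rw [← Nat.cast_smul_eq_nsmul k, smul_smul, inv_mul_cancel₀ hS.card_ne, one_smul]
  have hψv' : ψ v' = 0 := by
    simp only [hψ, LinearMap.smul_apply, LinearMap.sum_apply, Module.End.mul_apply]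
    rw [Finset.sum_eq_zero fun n _ => ?_, smul_zero]
    rw [show ρ (n : G)⁻¹ v' = mu n⁻¹ • v' from hv'.2 n⁻¹, map_smul, hφv', smul_zero, map_zero]
  -- the transfer to the whole group
  haveI := Fintype.ofFinite G
  haveI := Fintype.ofFinite (G ⧸ N)
  let Fq : G ⧸ N → Module.End k W := fun q => ρ q.out * ψ * ρ q.out⁻¹
  have hFq : ∀ g : G, Fq (g : G ⧸ N) = ρ g * ψ * ρ g⁻¹ := by
    intro g
    obtain ⟨n, hn⟩ := QuotientGroup.mk_out_eq_mul N g
    show ρ _ * ψ * ρ _ = _
    rw [hn, mul_inv_rev, map_mul, map_mul]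
    calc ρ g * ρ (n : G) * ψ * (ρ (n : G)⁻¹ * ρ g⁻¹)
        = ρ g * (ρ (n : G) * ψ * ρ (n : G)⁻¹) * ρ g⁻¹ := by simp only [mul_assoc]
      _ = ρ g * ψ * ρ g⁻¹ := by
          rw [(hψN n n.2).eq, mul_assoc ψ, ← map_mul, mul_inv_cancel, map_one, mul_one]
  have hFsmul : ∀ (g : G) (q : G ⧸ N), Fq (g • q) = ρ g * Fq q * ρ g⁻¹ := by
    intro g q
    induction q using QuotientGroup.induction_on with
    | H a =>
      rw [MulAction.Quotient.smul_coe, smul_eq_mul, hFq, hFq, mul_inv_rev, map_mul, map_mul]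
      simp only [mul_assoc]
  set Φ : Module.End k W := ∑ q, Fq q with hΦ
  have hΦG : EquivMap ρ ρ Φ := by
    intro g x
    simp only [hΦ, LinearMap.sum_apply, map_sum]
    refine (Fintype.sum_equiv (MulAction.toPerm g) _ _ fun q => ?_).symm
    rw [MulAction.toPerm_apply, hFsmul]
    show _ = ρ g (Fq q (ρ g⁻¹ (ρ g x)))
    rw [← Module.End.mul_apply (ρ g⁻¹) (ρ g), ← map_mul, inv_mul_cancel, map_one,
      Module.End.one_apply]
  have hΦfix : ∀ x : W, (∀ y : ↥P, ρ (y : G) x = x) → ∃ t, Φ x = ψ x + trEnd ρ P t := by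
    intro x hx
    obtain ⟨t, ht⟩ := sum_equivariant_fixed (Q := ↥P) (α := G ⧸ N) (by rw [hS.card]; exact hS.prime)
      (fun y q => (y : G) • q) (fun q => one_smul _ q) (fun y z q => mul_smul _ _ q)
      (fun y => (ρ (y : G)).toAddMonoidHom) (fun q => Fq q x) (fun y q => by
        rw [hFsmul, Module.End.mul_apply, Module.End.mul_apply,
          show ρ (y : G)⁻¹ x = x from hx y⁻¹]
        rfl)
    refine ⟨t, ?_⟩
    rw [hΦ, LinearMap.sum_apply, ht, Finset.sum_eq_single (((1 : G) : G ⧸ N))]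
    · rw [hFq]
      simp [trEnd]
    · intro q hq hq1
      refine absurd ?_ hq1
      induction q using QuotientGroup.induction_on with
      | H a =>
        refine (QuotientGroup.eq.mpr ?_).symm
        rw [inv_one, one_mul]
        refine hS.fix a fun y hy => ?_
        simp only [Finset.mem_filter, Finset.mem_univ, true_and] at hq
        have h3 := hq (⟨y, hy⟩⁻¹ : ↥P)
        rw [MulAction.Quotient.smul_coe, smul_eq_mul, QuotientGroup.eq, mul_inv_rev,
          Subgroup.coe_inv, inv_inv] at h3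
        exact h3
    · intro hn
      simp only [Finset.mem_filter, Finset.mem_univ, true_and] at hn
      refine absurd (fun y => ?_) hn
      rw [MulAction.Quotient.smul_coe, smul_eq_mul, mul_one, QuotientGroup.eq, mul_one]
      exact N.inv_mem (hS.leP y.2)
  have hle : ∀ x, x ∈ LinearMap.range (trEnd ρ P) → x ∈ LinearMap.range (X ^ (j + 1)) := by
    rintro _ ⟨t, rfl⟩
    rw [hS.trEnd_eq hy₀, ← hX, show p - 1 = (j + 1) + (p - 1 - (j + 1)) by omega, pow_add X (j + 1),
      Module.End.mul_apply]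
    exact ⟨_, rfl⟩
  obtain ⟨t, ht⟩ := hΦfix v hv.1
  obtain ⟨t', ht'⟩ := hΦfix v' hv'.1
  rw [hψv] at ht
  rw [hψv', zero_add] at ht'
  by_cases hΦ0 : Φ = 0
  · rw [hΦ0, LinearMap.zero_apply] at ht
    exact hvn (hle v ⟨-t, by rw [map_neg, ← eq_neg_of_add_eq_zero_left ht.symm]⟩)
  · obtain ⟨hinj, hsurj⟩ := bijective_of_equivMap hρ hρ hΦG hΦ0
    obtain ⟨t'', ht''⟩ := hsurj t'
    refine hsep 0 ?_
    rw [zero_smul, sub_zero]
    refine hle v' ⟨t'', hinj ?_⟩
    rw [ht', ← ht'']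
    simp only [trEnd, LinearMap.sum_apply, map_sum]
    exact Finset.sum_congr rfl fun y _ => hΦG _ _

/-- The classes of fixed eigenvectors modulo traces form a line. -/
theorem PrimeSetup.fixed_line [FiniteDimensional k W] (hS : PrimeSetup P K N p)
    (hρ : SimpleRep ρ) {lam mu : ↥K →* k} {v v' : W} (hv : FixEig ρ P K lam v)
    (hvt : v ∉ LinearMap.range (trEnd ρ P)) (hv' : FixEig ρ P K mu v') :
    ∃ c : k, v' - c • v ∈ LinearMap.range (trEnd ρ P) := by
  classical
  haveI := Fact.mk hS.prime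
  obtain ⟨g, hg⟩ : ∃ g : ↥P, g ≠ 1 := by
    haveI : Nontrivial ↥P := Finite.one_lt_card_iff_nontrivial.mp (hS.card ▸ hS.prime.one_lt)
    exact exists_ne 1
  have hy₀ : Subgroup.zpowers (g : G) = P := by
    have h1 := congrArg (Subgroup.map P.subtype) (zpowers_eq_top_of_prime_card hS.card hg)
    rwa [MonoidHom.map_zpowers, ← MonoidHom.range_eq_map, Subgroup.range_subtype] at h1
  set y₀ : G := (g : G)
  set X := ρ y₀ - 1 with hX
  have htr : trEnd ρ P = X ^ (p - 1) := hS.trEnd_eq hy₀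
  have hlev : ∀ x : W, x ∉ LinearMap.range (trEnd ρ P) → ∃ j, j + 1 ≤ p - 1 ∧
      x ∈ LinearMap.range (X ^ j) ∧ x ∉ LinearMap.range (X ^ (j + 1)) := by
    intro x hx
    rw [htr] at hx
    have hex : ∃ i, x ∉ LinearMap.range (X ^ i) := ⟨p - 1, hx⟩
    set i := Nat.find hex with hi
    have hi0 : i ≠ 0 := fun e => Nat.find_spec hex (by
      rw [← hi, e, pow_zero]; exact ⟨x, rfl⟩)
    refine ⟨i - 1, ?_, not_not.mp (Nat.find_min hex (by omega)), ?_⟩
    · rw [Nat.sub_add_cancel (Nat.pos_of_ne_zero hi0)]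
      exact Nat.find_le hx
    · rw [Nat.sub_add_cancel (Nat.pos_of_ne_zero hi0)]
      exact Nat.find_spec hex
  obtain ⟨j, hj, hvj, hvn⟩ := hlev v hvt
  by_contra hno
  push Not at hno
  by_cases hex : ∃ c : k, v' - c • v ∈ LinearMap.range (X ^ (j + 1))
  · obtain ⟨c, hc⟩ := hex
    obtain ⟨c₂, hc₂⟩ := eigProj_scalar (mu := mu) hv.2
    set z := v' - (c * c₂) • v with hz
    have hz' : z = eigProj ρ K mu (v' - c • v) := by
      rw [hz, map_sub, map_smul, eigProj_of_eig hS.card_ne hv'.2, hc₂, smul_smul]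
    have hzfix : FixEig ρ P K mu z := by
      refine ⟨fun y => ?_, fun n => hz' ▸ eigProj_eig mu n _⟩
      rw [hz, map_sub, map_smul, hv.1, hv'.1]
    have hzX : z ∈ LinearMap.range (X ^ (j + 1)) := by
      rw [hz', eigProj, LinearMap.smul_apply, LinearMap.sum_apply]
      refine Submodule.smul_mem _ _ (Submodule.sum_mem _ fun n _ => ?_)
      exact Submodule.smul_mem _ _ (hS.range_pow_inv hy₀ _ n hc)
    obtain ⟨i, hi, hzi, hzn⟩ := hlev z (hno _)
    have hij : j + 1 ≤ i := by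
      by_contra hlt
      exact hzn (by
        obtain ⟨t, ht⟩ := hzX
        refine ⟨(X ^ (j + 1 - (i + 1))) t, ?_⟩
        rw [← ht, ← Module.End.mul_apply, ← pow_add]
        congr 2
        omega)
    refine hS.no_separated hρ hy₀ hzfix hv hi hzi hzn fun d hd => ?_
    refine hvn ?_
    have hd' : v - d • z ∈ LinearMap.range (X ^ (j + 1)) := by
      obtain ⟨t, ht⟩ := hd
      refine ⟨(X ^ (i + 1 - (j + 1))) t, ?_⟩
      rw [← ht, ← Module.End.mul_apply, ← pow_add]
      congr 2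
      omega
    have := Submodule.add_mem _ hd' (Submodule.smul_mem _ d hzX)
    rwa [sub_add_cancel] at this
  · push Not at hex
    exact hS.no_separated hρ hy₀ hv hv' hj hvj hvn hex

end Cfsg.Agent.Char
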