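import Cfsg.Agent.Lib.Char.IdemSubgroup

/-!
# Corners of minimal idempotents in subalgebras of the group algebra over the local ring

The corner of a minimal idempotent consists of scalars plus elements nilpotent modulo `M`. An invariant attached
to minimal idempotents is summed over a decomposition of a fixed idempotent lying in the image of a relative
trace: the sum is divisible by `p`.
-/

set_option autoImplicit false
set_option linter.unusedSectionVars false

namespace Cfsg.Agent.Char.Fixed

open Cfsg Module Polynomial IdemAlg IdemSub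

universe u

variable {G : Type u} [Group G] [Fintype G] {M : Ideal AlgInt} {p : ℕ} {hP : M.IsPrime}

/-- All coefficients lie in the local ideal. -/
def Small (x : OA hP G) : Prop := ∀ g, MemLocalIdeal M (co x g)

theorem small_zero : Small (0 : OA hP G) := fun g => by rw [co_zero]; exact memLI_zero hP

theorem Small.add {x y : OA hP G} (hx : Small x) (hy : Small y) : Small (x + y) := fun g => by
  rw [co_add]; exact memLI_add hP (hx g) (hy g)

theorem Small.sub {x y : OA hP G} (hx : Small x) (hy : Small y) : Small (x - y) := fun g => by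
  rw [co_sub]; exact memLI_sub hP (hx g) (hy g)

theorem Small.mul_left {x : OA hP G} (hx : Small x) (w : OA hP G) : Small (w * x) := fun g => by
  rw [co_mul]; exact memLI_sum hP _ _ fun _ _ => memLI_mul_left hP (memLR_co w _) (hx _)

theorem Small.mul_right {x : OA hP G} (hx : Small x) (w : OA hP G) : Small (x * w) := fun g => by
  rw [co_mul]; exact memLI_sum hP _ _ fun _ _ => memLI_mul_right hP (hx _) (memLR_co w _)

theorem Small.smul {x : OA hP G} (hx : Small x) (c : locRing hP) : Small (c • x) := fun g => by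
  rw [co_smul]; exact memLI_mul_left hP c.2 (hx g)

theorem small_smul_of_mem {c : locRing hP} (hc : MemLocalIdeal M (c : ℂ)) (x : OA hP G) : Small (c • x) :=
  fun g => by rw [co_smul]; exact memLI_mul_right hP hc (memLR_co x g)

theorem small_sum {ι : Type*} (s : Finset ι) (f : ι → OA hP G) (h : ∀ i ∈ s, Small (f i)) :
    Small (∑ i ∈ s, f i) :=
  Finset.sum_induction f Small (fun _ _ => Small.add) small_zero h

theorem Small.pow_congr {x y : OA hP G} (h : Small (x - y)) (n : ℕ) : Small (x ^ n - y ^ n) := by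
  induction n with
  | zero => simpa using small_zero
  | succ n ih =>
    rw [show x ^ (n + 1) - y ^ (n + 1) = (x ^ n - y ^ n) * x + y ^ n * (x - y) by
      rw [pow_succ, pow_succ, sub_mul, mul_sub]; abel]
    exact (ih.mul_right _).add (h.mul_left _)

theorem idem_small_eq_zero {e : OA hP G} (he : IsIdempotentElem e) (h : Small e) : e = 0 := by
  obtain ⟨f, hf⟩ := exists_inv_one_sub e h
  have := congrArg (· * e) hf
  simp only [mul_assoc, sub_mul, one_mul, he.eq, sub_self, mul_zero] at this
  exact this.symm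

/-- Nilpotent modulo `M`. -/
def Nil (x : OA hP G) : Prop := ∃ N : ℕ, Small (x ^ N)

theorem Nil.of_small {x : OA hP G} (h : Small x) : Nil x := ⟨1, by rwa [pow_one]⟩

theorem Nil.mono {x : OA hP G} {N : ℕ} (h : Small (x ^ N)) {K : ℕ} (hK : N ≤ K) : Small (x ^ K) := by
  obtain ⟨d, rfl⟩ := Nat.exists_eq_add_of_le hK
  rw [pow_add]; exact h.mul_right _

theorem Nil.swap {x y : OA hP G} (h : Nil (x * y)) : Nil (y * x) := by
  obtain ⟨N, hN⟩ := h
  refine ⟨N + 1, ?_⟩
  have e : ∀ n : ℕ, (y * x) ^ (n + 1) = y * (x * y) ^ n * x := by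
    intro n
    induction n with
    | zero => simp
    | succ n ih => rw [pow_succ, ih, pow_succ]; simp only [mul_assoc]
  rw [e]
  exact (hN.mul_left _).mul_right _

theorem Nil.smul {x : OA hP G} (h : Nil x) (c : locRing hP) : Nil (c • x) := by
  obtain ⟨N, hN⟩ := h
  exact ⟨N, by rw [_root_.smul_pow]; exact hN.smul _⟩

theorem Nil.neg {x : OA hP G} (h : Nil x) : Nil (-x) := by
  simpa using h.smul (-1)

theorem Nil.add_commute {x y : OA hP G} (hx : Nil x) (hy : Nil y) (hc : Commute x y) : Nil (x + y) := by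
  obtain ⟨N, hN⟩ := hx
  obtain ⟨K, hK⟩ := hy
  refine ⟨N + K, ?_⟩
  rw [hc.add_pow]
  refine small_sum _ _ fun i _ => ?_
  rcases Nat.lt_or_ge i N with h | h
  · exact (((Nil.mono hK (by omega : K ≤ N + K - i))).mul_left _).mul_right _
  · exact (((Nil.mono hN h)).mul_right _).mul_right _

theorem not_nil_idem {e : OA hP G} (he : IsIdempotentElem e) (hne : e ≠ 0) : ¬ Nil e := by
  rintro ⟨N, hN⟩
  have h := hN.mul_right e
  rw [← pow_succ, he.pow_succ_eq] at h
  exact hne (idem_small_eq_zero he h)

/-- A minimal idempotent of a subalgebra. -/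
structure Min (A : Subalgebra (locRing hP) (OA hP G)) (e : OA hP G) : Prop where
  mem : e ∈ A
  idem : IsIdempotentElem e
  ne : e ≠ 0
  min : ∀ u ∈ A, IsIdempotentElem u → e * u = u → u * e = u → u = 0 ∨ u = e

/-- The corner of an idempotent. -/
structure Corner (A : Subalgebra (locRing hP) (OA hP G)) (e x : OA hP G) : Prop where
  mem : x ∈ A
  left : e * x = x
  right : x * e = x

variable {A : Subalgebra (locRing hP) (OA hP G)} {e : OA hP G}

theorem Corner.self (heA : e ∈ A) (he : IsIdempotentElem e) : Corner A e e := ⟨heA, he.eq, he.eq⟩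

theorem Corner.add {x y : OA hP G} (hx : Corner A e x) (hy : Corner A e y) : Corner A e (x + y) :=
  ⟨add_mem hx.mem hy.mem, by rw [mul_add, hx.left, hy.left], by rw [add_mul, hx.right, hy.right]⟩

theorem Corner.sub {x y : OA hP G} (hx : Corner A e x) (hy : Corner A e y) : Corner A e (x - y) :=
  ⟨sub_mem hx.mem hy.mem, by rw [mul_sub, hx.left, hy.left], by rw [sub_mul, hx.right, hy.right]⟩

theorem Corner.smul {x : OA hP G} (hx : Corner A e x) (c : locRing hP) : Corner A e (c • x) :=
  ⟨A.smul_mem hx.mem c, by rw [mul_smul_comm, hx.left], by rw [smul_mul_assoc, hx.right]⟩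

theorem Corner.mul {x y : OA hP G} (hx : Corner A e x) (hy : Corner A e y) : Corner A e (x * y) :=
  ⟨mul_mem hx.mem hy.mem, by rw [← mul_assoc, hx.left], by rw [mul_assoc, hy.right]⟩

theorem Corner.sandwich (heA : e ∈ A) (he : IsIdempotentElem e) {z : OA hP G} (hz : z ∈ A) :
    Corner A e (e * z * e) :=
  ⟨mul_mem (mul_mem heA hz) heA, by rw [← mul_assoc, ← mul_assoc, he.eq], by rw [mul_assoc _ e e, he.eq]⟩

theorem Corner.eq_sandwich {x : OA hP G} (hx : Corner A e x) : e * x * e = x := by rw [hx.left, hx.right]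

open scoped Classical in
/-- Every element of the corner is a scalar plus an element nilpotent modulo `M`. -/
theorem exists_scalar (he : Min A e) {x : OA hP G} (hx : Corner A e x) :
    ∃ c : locRing hP, Nil (x - c • e) := by
  suffices key : ∀ (n : ℕ) (s : Multiset (locRing hP)), s.card = n →
      e * aeval x (s.map fun a => X - C a).prod = 0 → ∃ c : locRing hP, Nil (x - c • e) by
    obtain ⟨P, hPm, hPx⟩ := exists_monic x
    obtain ⟨s, rfl⟩ := IdemLift.exists_roots hP hPm
    exact key _ s rfl (by rw [hPx, mul_zero])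
  intro n
  induction n using Nat.strong_induction_on with
  | _ n ih =>
  intro s hs hann
  rcases s.empty_or_exists_mem with rfl | ⟨a, ha⟩
  · simp only [Multiset.map_zero, Multiset.prod_zero, map_one, mul_one] at hann
    exact absurd hann he.ne
  set q : locRing hP → Prop := fun b => MemLocalIdeal M (((b : locRing hP) : ℂ) - (a : ℂ)) with hq
  have hqa : q a := by simp only [hq, sub_self]; exact memLI_zero hP
  have hcomm : Commute e x := hx.left.trans hx.right.symm
  by_cases hall : ∀ b ∈ s, q b
  · refine ⟨a, s.card + 1, ?_⟩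
    have e1 : x - a • e = e * (x - algebraMap (locRing hP) (OA hP G) a) := by
      rw [mul_sub, hx.left, ← Algebra.commutes, ← Algebra.smul_def]
    have e2 : (x - a • e) ^ (s.card + 1) = e * aeval x ((X - C a) ^ (s.card + 1)) := by
      rw [e1, Commute.mul_pow (hcomm.sub_right (Algebra.commutes a e).symm), he.idem.pow_succ_eq, map_pow,
        map_sub, aeval_X, aeval_C]
    intro g
    have h := memLI_eval_congr (x := x) (A := (X - C a) ^ s.card) (B := (s.map fun b => X - C b).prod)
      (coeff_congr_of_map ?_)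
    · have h2 : Small (e * (aeval x ((X - C a) ^ s.card) - aeval x (s.map fun b => X - C b).prod)) :=
        Small.mul_left h e
      rw [mul_sub, hann, sub_zero] at h2
      rw [e2, pow_succ, map_mul, ← mul_assoc]
      exact h2.mul_right _ g
    · rw [Polynomial.map_pow, Polynomial.map_multiset_prod, Multiset.map_map,
        Multiset.map_congr rfl (g := fun _ => (X - C a).map (redHom hP)) fun b hb => ?_, Multiset.map_const',
        Multiset.prod_replicate]
      have : redHom hP b = redHom hP a := by
        rw [redHom_apply, redHom_apply]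
        exact (red_eq_iff hP b.2 a.2).mpr (hall b hb)
      simp [this]
  set P1 := ((s.filter q).map fun b => X - C b).prod with hP1
  set P2 := ((s.filter fun b => ¬ q b).map fun b => X - C b).prod with hP2
  have hP' : (s.map fun b => X - C b).prod = P1 * P2 := by
    rw [hP1, hP2, ← Multiset.prod_add, ← Multiset.map_add, Multiset.filter_add_not]
  have hunit : ∀ b d : locRing hP, q b → ¬ q d → IsUnit (b - d) := by
    intro b d hb hd
    refine IdemLift.isUnit_of_not_mem hP fun h => hd ?_
    have := memLI_sub hP hb h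
    simpa [hq] using this
  have hco : IsCoprime P1 P2 := by
    have key : ∀ (t : Multiset (locRing hP)) (C0 : (locRing hP)[X]),
        (∀ b ∈ t, IsCoprime (X - C b) C0) → IsCoprime (t.map fun b => X - C b).prod C0 := by
      intro t C0
      induction t using Multiset.induction_on with
      | empty => intro _; simpa using isCoprime_one_left
      | cons b t ih =>
        intro h
        rw [Multiset.map_cons, Multiset.prod_cons]
        exact (h b (Multiset.mem_cons_self b t)).mul_left (ih fun d hd => h d (Multiset.mem_cons_of_mem hd))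
    refine key _ _ fun b hb => ((key _ _ fun d hd => ?_).symm)
    exact (isCoprime_X_sub_C_of_isUnit_sub (hunit b d (Multiset.mem_filter.mp hb).2
      (Multiset.mem_filter.mp hd).2)).symm
  obtain ⟨u, v, huv⟩ := hco
  set E := v * P2 with hE
  rw [hP'] at hann
  have hAx : ∀ f : (locRing hP)[X], aeval x f ∈ A := fun f => by
    rw [aeval_eq_sum_range]
    exact sum_mem fun i _ => A.smul_mem (pow_mem hx.mem i) _
  have hec : ∀ f : (locRing hP)[X], Commute e (aeval x f) := fun f => by
    rw [aeval_eq_sum_range]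
    exact Commute.sum_right _ _ _ fun i _ => (hcomm.pow_right i).smul_right _
  have hEE : e * aeval x (E * E) = e * aeval x E := by
    rw [← sub_eq_zero, ← mul_sub, ← map_sub,
      show E * E - E = (P1 * P2) * (-(v * u)) by rw [hE]; linear_combination (v * P2) * huv,
      map_mul, ← mul_assoc, hann, zero_mul]
  have hidem : IsIdempotentElem (e * aeval x E) := by
    show e * aeval x E * (e * aeval x E) = _
    rw [mul_assoc, ← mul_assoc (aeval x E), ← (hec E).eq, ← mul_assoc, ← mul_assoc, he.idem.eq,
      mul_assoc, ← map_mul, hEE]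
  rcases he.min _ (mul_mem he.mem (hAx E)) hidem (by rw [← mul_assoc, he.idem.eq])
      (by rw [mul_assoc, ← (hec E).eq, ← mul_assoc, he.idem.eq]) with h0 | h1
  · refine ih _ ?_ (s.filter fun b => ¬ q b) rfl ?_
    · rw [← hs]
      refine Multiset.card_lt_card (lt_of_le_of_ne (Multiset.filter_le _ _) fun hh => ?_)
      have := hh.symm ▸ ha
      exact (Multiset.mem_filter.mp this).2 hqa
    · calc e * aeval x P2 = e * aeval x ((u * P1 + E) * P2) := by rw [hE, huv, one_mul]
        _ = e * aeval x (P1 * P2) * aeval x u + e * aeval x E * aeval x P2 := by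
          rw [add_mul, map_add, mul_add, show u * P1 * P2 = P1 * P2 * u by ring, map_mul (aeval x) (P1 * P2),
            map_mul (aeval x) E, mul_assoc, mul_assoc]
        _ = 0 := by rw [hann, zero_mul, h0, zero_mul, add_zero]
  · refine ih _ ?_ (s.filter q) rfl ?_
    · rw [← hs]
      refine Multiset.card_lt_card (lt_of_le_of_ne (Multiset.filter_le _ _) fun hh => hall fun b hb => ?_)
      exact (Multiset.mem_filter.mp (hh.symm ▸ hb)).2
    · calc e * aeval x P1 = e * aeval x E * aeval x P1 := by rw [h1]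
        _ = e * aeval x (P1 * P2) * aeval x v := by
          rw [hE, mul_assoc, mul_assoc, ← map_mul, ← map_mul, show v * P2 * P1 = P1 * P2 * v by ring]
        _ = 0 := by rw [hann, zero_mul]

/-- The scalar of an element of the corner. -/
noncomputable def res (e x : OA hP G) : locRing hP :=
  Classical.epsilon fun c : locRing hP => Nil (x - c • e)

theorem res_spec (he : Min A e) {x : OA hP G} (hx : Corner A e x) : Nil (x - res e x • e) :=
  Classical.epsilon_spec (exists_scalar he hx)

theorem scalar_mem (he : Min A e) {c : locRing hP} (h : Nil (c • e)) : MemLocalIdeal M (c : ℂ) := by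
  obtain ⟨N, hN⟩ := h
  have h1 := Nil.mono hN N.le_succ
  rw [_root_.smul_pow, he.idem.pow_succ_eq] at h1
  obtain ⟨g, hg⟩ : ∃ g, ¬ MemLocalIdeal M (co e g) := by
    by_contra hne
    push Not at hne
    exact he.ne (idem_small_eq_zero he.idem hne)
  have h2 := h1 g
  rw [co_smul, Pi.smul_apply, smul_eq_mul] at h2
  exact memLI_pow_mem hP c.2 (N + 1)
    (by simpa using (memLI_mul_mem hP (Subtype.prop _) (memLR_co e g) h2).resolve_right hg)

theorem exists_inv (he : Min A e) {x : OA hP G} (hx : Corner A e x) (h : ¬ Nil x) :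
    ∃ y, Corner A e y ∧ x * y = e ∧ y * x = e := by
  set c := res e x with hc
  obtain ⟨N, hN⟩ := res_spec he hx
  have hcu : ¬ MemLocalIdeal M (c : ℂ) := fun hI => h ⟨N + 1, by
    have h1 : Small (x - (x - c • e)) := by rw [sub_sub_cancel]; exact small_smul_of_mem hI e
    have h2 := (h1.pow_congr (N + 1)).add (Nil.mono hN N.le_succ)
    rwa [← hc, sub_add_cancel] at h2⟩
  obtain ⟨d, hd⟩ := isUnit_iff_exists_inv.mp (IdemLift.isUnit_of_not_mem hP hcu)
  set m : OA hP G := (-d) • (x - c • e) with hm
  have hxm : x = c • (e - m) := by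
    rw [hm, neg_smul, sub_neg_eq_add, smul_add, smul_smul, hd, one_smul]
    abel
  have hmc : Corner A e m := (hx.sub ((Corner.self he.mem he.idem).smul c)).smul _
  have hsmall : Small (m ^ N) := by rw [hm, _root_.smul_pow]; exact hN.smul _
  obtain ⟨f, hf⟩ := exists_inv_one_sub (m ^ N) hsmall
  set g : (locRing hP)[X] := (∑ i ∈ Finset.range N, X ^ i) * f.comp (X ^ N) with hg
  have hgeo : (1 - m) * aeval m g = 1 := by
    have hcm : Commute (m ^ N) (aeval (m ^ N) f) := by
      rw [aeval_eq_sum_range]
      exact Commute.sum_right _ _ _ fun i _ => ((Commute.refl _).pow_right i).smul_right _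
    have hcf : Commute (1 - m ^ N) (aeval (m ^ N) f) := (Commute.one_left _).sub_left hcm
    rw [hg, map_mul, map_sum, aeval_comp]
    simp only [map_pow, aeval_X]
    rw [← mul_assoc, mul_neg_geom_sum, hcf.eq, hf]
  have hem : Commute e m := hmc.left.trans hmc.right.symm
  have hgc : Commute e (aeval m g) := by
    rw [aeval_eq_sum_range]
    exact Commute.sum_right _ _ _ fun i _ => (hem.pow_right i).smul_right _
  have hgA : aeval m g ∈ A := by
    rw [aeval_eq_sum_range]
    exact sum_mem fun i _ => A.smul_mem (pow_mem hmc.mem i) _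
  have hgx : Commute (e - m) (aeval m g) := hgc.sub_left (by
    rw [aeval_eq_sum_range]
    exact Commute.sum_right _ _ _ fun i _ => ((Commute.refl m).pow_right i).smul_right _)
  have hem1 : e - m = (1 - m) * e := by rw [sub_mul, one_mul, hmc.right]
  refine ⟨d • (e * aeval m g), (Corner.mk (mul_mem he.mem hgA) (by rw [← mul_assoc, he.idem.eq])
    (by rw [mul_assoc, ← hgc.eq, ← mul_assoc, he.idem.eq])).smul d, ?_, ?_⟩
  · rw [hxm, smul_mul_smul_comm, hd, one_smul, hem1, mul_assoc, ← mul_assoc e e, he.idem.eq, hgc.eq, ← mul_assoc,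
      hgeo, one_mul]
  · rw [hxm, smul_mul_smul_comm, mul_comm d c, hd, one_smul, mul_assoc, ← hgx.eq, hem1, mul_assoc,
      ← mul_assoc, ← mul_assoc]
    rw [show e * (1 - m) = (1 - m) * e from ((Commute.one_right e).sub_right hem).eq, mul_assoc (1 - m) e e,
      he.idem.eq, mul_assoc, hgc.eq, ← mul_assoc, hgeo, one_mul]

theorem Nil.mul_corner (he : Min A e) {n z : OA hP G} (hn : Corner A e n) (hz : Corner A e z) (h : Nil n) :
    Nil (n * z) := by
  by_contra hnil
  obtain ⟨w, hw, hw1, -⟩ := exists_inv he (hn.mul hz) hnil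
  obtain ⟨N, hN⟩ := h
  have hr : n * (z * w) = e := by rw [← mul_assoc, hw1]
  have key : ∀ k : ℕ, n ^ (k + 1) * (z * w) ^ (k + 1) = e := by
    intro k
    induction k with
    | zero => simpa using hr
    | succ k ih =>
      rw [pow_succ n, pow_succ' (z * w), mul_assoc, ← mul_assoc n, hr,
        ← mul_assoc, pow_succ n k, mul_assoc _ n e, hn.right, ← pow_succ, ih]
  have h1 := (Nil.mono hN N.le_succ).mul_right ((z * w) ^ (N + 1))
  rw [key] at h1
  exact he.ne (idem_small_eq_zero he.idem h1)

theorem Nil.corner_mul (he : Min A e) {n z : OA hP G} (hn : Corner A e n) (hz : Corner A e z) (h : Nil n) :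
    Nil (z * n) := (h.mul_corner he hn hz).swap

theorem Nil.add_corner (he : Min A e) {a b : OA hP G} (ha : Corner A e a) (hb : Corner A e b) (h1 : Nil a)
    (h2 : Nil b) : Nil (a + b) := by
  by_contra hnil
  obtain ⟨w, hw, hw1, -⟩ := exists_inv he (ha.add hb) hnil
  rw [add_mul] at hw1
  have hc : Commute (a * w) (b * w) := by
    show a * w * (b * w) = b * w * (a * w)
    rw [show b * w = e - a * w from eq_sub_of_add_eq' hw1, mul_sub, sub_mul,
      (ha.mul hw).right, (ha.mul hw).left]
  have := (h1.mul_corner he ha hw).add_commute (h2.mul_corner he hb hw) hc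
  rw [hw1] at this
  exact not_nil_idem he.idem he.ne this

theorem nil_sum (he : Min A e) {ι : Type*} (s : Finset ι) (f : ι → OA hP G)
    (hf : ∀ i ∈ s, Corner A e (f i) ∧ Nil (f i)) : Nil (∑ i ∈ s, f i) := by
  refine (Finset.sum_induction f (fun x => Corner A e x ∧ Nil x) ?_ ?_ hf).2
  · exact fun a b ha hb => ⟨ha.1.add hb.1, ha.2.add_corner he ha.1 hb.1 hb.2⟩
  · exact ⟨⟨zero_mem _, mul_zero _, zero_mul _⟩, Nil.of_small small_zero⟩

/-- The scalar is unique modulo `M`. -/
theorem res_unique (he : Min A e) {x : OA hP G} (hx : Corner A e x) {c : locRing hP} (h : Nil (x - c • e)) :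
    MemLocalIdeal M ((res e x : ℂ) - (c : ℂ)) := by
  have hs := (Corner.self he.mem he.idem)
  have h1 := h.add_corner he (hx.sub (hs.smul c)) (e := e) (b := -(x - res e x • e)) ?_ (res_spec he hx).neg
  · rw [show x - c • e + -(x - res e x • e) = (res e x - c) • e by rw [sub_smul]; abel] at h1
    simpa using scalar_mem he h1
  · have := (hx.sub (hs.smul (res e x))).smul (-1)
    simpa using this

theorem res_add (he : Min A e) {x y : OA hP G} (hx : Corner A e x) (hy : Corner A e y) :
    MemLocalIdeal M ((res e (x + y) : ℂ) - ((res e x : ℂ) + (res e y : ℂ))) := by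
  have hs := (Corner.self he.mem he.idem)
  have h := res_unique he (hx.add hy) (c := res e x + res e y) (by
    rw [show x + y - (res e x + res e y) • e = (x - res e x • e) + (y - res e y • e) by
      rw [add_smul]; abel]
    exact (res_spec he hx).add_corner he (hx.sub (hs.smul _)) (hy.sub (hs.smul _)) (res_spec he hy))
  simpa using h

theorem res_smul (he : Min A e) {x : OA hP G} (hx : Corner A e x) (d : locRing hP) :
    MemLocalIdeal M ((res e (d • x) : ℂ) - (d : ℂ) * (res e x : ℂ)) := by
  have h := res_unique he (hx.smul d) (c := d * res e x) (by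
    rw [show d • x - (d * res e x) • e = d • (x - res e x • e) by rw [smul_sub, smul_smul]]
    exact (res_spec he hx).smul d)
  simpa using h

theorem res_nil (he : Min A e) {x : OA hP G} (hx : Corner A e x) (h : Nil x) :
    MemLocalIdeal M (res e x : ℂ) := by
  simpa using res_unique he hx (c := 0) (by simpa using h)

theorem res_self (he : Min A e) : MemLocalIdeal M ((res e e : ℂ) - 1) := by
  simpa using res_unique he (Corner.self he.mem he.idem) (c := 1) (by
    rw [one_smul, sub_self]; exact Nil.of_small small_zero)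

/-- A unit product between two corners gives an association. -/
theorem assoc_of_not_nil (he : Min A e) {f : OA hP G} (hf : Min A f) {a b : OA hP G} (ha : a ∈ A) (hb : b ∈ A)
    (hea : e * a = a) (haf : a * f = a) (hfb : f * b = b) (hbe : b * e = b) (h : ¬ Nil (a * b)) :
    ∃ y ∈ A, f * y = y ∧ y * e = y ∧ a * y = e ∧ y * a = f := by
  have hab : Corner A e (a * b) := ⟨mul_mem ha hb, by rw [← mul_assoc, hea], by rw [mul_assoc, hbe]⟩
  obtain ⟨w, hw, hw1, -⟩ := exists_inv he hab h
  set y := b * w with hy
  have hay : a * y = e := by rw [hy, ← mul_assoc, hw1]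
  have hfy : f * y = y := by rw [hy, ← mul_assoc, hfb]
  have hye : y * e = y := by rw [hy, mul_assoc, hw.right]
  refine ⟨y, mul_mem hb hw.mem, hfy, hye, hay, ?_⟩
  rcases hf.min (y * a) (mul_mem (mul_mem hb hw.mem) ha)
    (show y * a * (y * a) = y * a by rw [mul_assoc, ← mul_assoc a, hay, hea]) (by rw [← mul_assoc, hfy])
    (by rw [mul_assoc, haf]) with h0 | h1
  · exfalso
    refine he.ne ?_
    calc e = a * y * (a * y) := by rw [hay, he.idem.eq]
      _ = a * (y * a) * y := by simp only [mul_assoc]
      _ = 0 := by rw [h0, mul_zero, zero_mul]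
  · exact h1

/-- The two scalars of a product between corners agree. -/
theorem res_swap (he : Min A e) {f : OA hP G} (hf : Min A f) {a b : OA hP G} (ha : a ∈ A) (hb : b ∈ A)
    (hea : e * a = a) (haf : a * f = a) (hfb : f * b = b) (hbe : b * e = b) :
    MemLocalIdeal M ((res e (a * b) : ℂ) - (res f (b * a) : ℂ)) := by
  have hab : Corner A e (a * b) := ⟨mul_mem ha hb, by rw [← mul_assoc, hea], by rw [mul_assoc, hbe]⟩
  have hba : Corner A f (b * a) := ⟨mul_mem hb ha, by rw [← mul_assoc, hfb], by rw [mul_assoc, haf]⟩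
  by_cases h : Nil (a * b)
  · exact memLI_sub hP (res_nil he hab h) (res_nil hf hba h.swap)
  obtain ⟨w, hw, -, hw2⟩ := exists_inv hf hba fun h' => h h'.swap
  set c := res e (a * b) with hc
  obtain ⟨N, hN⟩ := res_spec he hab
  set n := a * b - c • e
  set m := b * a - c • f
  have hmb : m * b = b * n := by
    simp only [m, n, sub_mul, mul_sub, smul_mul_assoc, mul_smul_comm, hfb, hbe, mul_assoc]
  have hk : ∀ k : ℕ, m ^ k * b = b * n ^ k := by
    intro k
    induction k with
    | zero => simp
    | succ k ih => rw [pow_succ, pow_succ, mul_assoc, hmb, ← mul_assoc, ih, mul_assoc]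
  have hmc : Corner A f m := hba.sub ((Corner.self hf.mem hf.idem).smul c)
  refine memLI_symm hP (res_unique hf hba ⟨N + 1, ?_⟩)
  have h1 : Small (m ^ (N + 1) * (b * a)) := by
    rw [← mul_assoc, hk]
    exact ((Nil.mono hN N.le_succ).mul_left b).mul_right a
  have h2 := h1.mul_right w
  rwa [mul_assoc, show b * a * w = f by
      rw [← hba.eq_sandwich]
      obtain ⟨w', hw', hw'1, hw'2⟩ := exists_inv hf hba fun h' => h h'.swap
      rw [show w = w' by
        calc w = w * f := hw.right.symm
          _ = w * (b * a * w') := by rw [hw'1]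
          _ = f * w' := by rw [← mul_assoc, hw2]
          _ = w' := hw'.left, hba.eq_sandwich, hw'1],
    pow_succ, mul_assoc, hmc.right, ← pow_succ] at h2

/-- An orthogonal decomposition into minimal idempotents. -/
structure Decomp (A : Subalgebra (locRing hP) (OA hP G)) (j : OA hP G) (J : Finset (OA hP G)) : Prop where
  min : ∀ k ∈ J, Min A k
  orth : ∀ k ∈ J, ∀ l ∈ J, k ≠ l → k * l = 0
  sum : ∑ k ∈ J, k = j

theorem Decomp.mul_left {j : OA hP G} {J : Finset (OA hP G)} (h : Decomp A j J) {k : OA hP G} (hk : k ∈ J) :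
    k * j = k := by
  classical
  rw [← h.sum, Finset.mul_sum, Finset.sum_eq_single k (fun l hl hne => h.orth k hk l hl (Ne.symm hne))
    (fun hn => absurd hk hn), (h.min k hk).idem.eq]

theorem Decomp.mul_right {j : OA hP G} {J : Finset (OA hP G)} (h : Decomp A j J) {k : OA hP G} (hk : k ∈ J) :
    j * k = k := by
  classical
  rw [← h.sum, Finset.sum_mul, Finset.sum_eq_single k (fun l hl hne => h.orth l hl k hk hne)
    (fun hn => absurd hk hn), (h.min k hk).idem.eq]

theorem exists_decomp {j : OA hP G} (hjA : j ∈ A) (hj : IsIdempotentElem j) : ∃ J, Decomp A j J := by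
  classical
  suffices key : ∀ n : ℕ, ∀ j : OA hP G, j ∈ A → IsIdempotentElem j → (Nat.card G : ℂ) * co j 1 = n →
      ∃ J, Decomp A j J by
    obtain ⟨n, hn, -⟩ := exists_rank hj
    exact key n j hjA hj hn
  intro n
  induction n using Nat.strong_induction_on with
  | _ n ih =>
  intro j hjA hj hn
  by_cases hj0 : j = 0
  · exact ⟨∅, ⟨by simp, by simp, by simp [hj0]⟩⟩
  by_cases hmin : ∀ u ∈ A, IsIdempotentElem u → j * u = u → u * j = u → u = 0 ∨ u = j
  · exact ⟨{j}, ⟨by simpa using ⟨hjA, hj, hj0, hmin⟩, by simp, by simp⟩⟩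
  push Not at hmin
  obtain ⟨u, huA, hu, hju, huj, hu0, huj'⟩ := hmin
  have hw : IsIdempotentElem (j - u) := by
    show (j - u) * (j - u) = j - u
    rw [sub_mul, mul_sub, mul_sub, hj.eq, hju, huj, hu.eq, sub_self, sub_zero]
  obtain ⟨r1, hr1, hr10⟩ := exists_rank hu
  obtain ⟨r2, hr2, hr20⟩ := exists_rank hw
  have hsum : r1 + r2 = n := by
    have : ((r1 + r2 : ℕ) : ℂ) = (n : ℂ) := by
      push_cast
      rw [← hr1, ← hr2, ← hn, co_sub, Pi.sub_apply]
      ring
    exact_mod_cast this
  have h1 : r1 ≠ 0 := fun h => hu0 (hr10 h)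
  have h2 : r2 ≠ 0 := fun h => huj' (sub_eq_zero.mp (hr20 h)).symm
  obtain ⟨J1, hJ1⟩ := ih r1 (by omega) u huA hu hr1
  obtain ⟨J2, hJ2⟩ := ih r2 (by omega) _ (sub_mem hjA huA) hw hr2
  have h12 : u * (j - u) = 0 := by rw [mul_sub, huj, hu.eq, sub_self]
  have h21 : (j - u) * u = 0 := by rw [sub_mul, hju, hu.eq, sub_self]
  have ho : ∀ k ∈ J1, ∀ l ∈ J2, k * l = 0 ∧ l * k = 0 := fun k hk l hl => ⟨by
    rw [← hJ1.mul_left hk, ← hJ2.mul_right hl, mul_assoc, ← mul_assoc u, h12, zero_mul, mul_zero], by
    rw [← hJ2.mul_left hl, ← hJ1.mul_right hk, mul_assoc, ← mul_assoc (j - u), h21, zero_mul, mul_zero]⟩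
  have hdis : Disjoint J1 J2 := Finset.disjoint_left.mpr fun k h1 h2 =>
    (hJ1.min k h1).ne (by rw [← (hJ1.min k h1).idem.eq, (ho k h1 k h2).1])
  refine ⟨J1 ∪ J2, ⟨fun k hk => ?_, fun k hk l hl hne => ?_, by
    rw [Finset.sum_union hdis, hJ1.sum, hJ2.sum, add_sub_cancel]⟩⟩
  · rcases Finset.mem_union.mp hk with h | h
    exacts [hJ1.min k h, hJ2.min k h]
  · rcases Finset.mem_union.mp hk with h | h <;> rcases Finset.mem_union.mp hl with h' | h'
    exacts [hJ1.orth k h l h' hne, (ho k h l h').1, (ho l h' k h).2, hJ2.orth k h l h' hne]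

/-- A minimal idempotent is associated with a member of a decomposition above it. -/
theorem exists_assoc {j : OA hP G} {J : Finset (OA hP G)} (hJ : Decomp A j J) {e : OA hP G} (he : Min A e)
    (hej : e * j = e) : ∃ k ∈ J, ∃ x ∈ A, ∃ y ∈ A, e * x = x ∧ x * k = x ∧ k * y = y ∧ y * e = y ∧
      x * y = e ∧ y * x = k := by
  classical
  have hex : ∃ k ∈ J, ¬ Nil (e * k * (k * e)) := by
    by_contra hne
    push Not at hne
    refine not_nil_idem he.idem he.ne ?_
    have := nil_sum he J (fun k => e * k * (k * e)) fun k hk => ⟨by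
      rw [show e * k * (k * e) = e * (k * k) * e by simp only [mul_assoc]]
      exact Corner.sandwich he.mem he.idem (mul_mem (hJ.min k hk).mem (hJ.min k hk).mem), hne k hk⟩
    rw [Finset.sum_congr rfl fun k hk => show e * k * (k * e) = e * k * e by
      rw [mul_assoc e k (k * e), ← mul_assoc k, (hJ.min k hk).idem.eq, mul_assoc]] at this
    rwa [← Finset.sum_mul, ← Finset.mul_sum, hJ.sum, hej, he.idem.eq] at this
  obtain ⟨k, hk, hnil⟩ := hex
  have hkm := hJ.min k hk
  have hek : e * (e * k) = e * k := by rw [← mul_assoc, he.idem.eq]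
  have hekk : e * k * k = e * k := by rw [mul_assoc, hkm.idem.eq]
  obtain ⟨y, hy, hky, hye, h1, h2⟩ := assoc_of_not_nil he hkm (mul_mem he.mem hkm.mem) (mul_mem hkm.mem he.mem)
    hek hekk (by rw [← mul_assoc, hkm.idem.eq]) (by rw [mul_assoc, he.idem.eq]) hnil
  exact ⟨k, hk, e * k, mul_mem he.mem hkm.mem, y, hy, hek, hekk, hky, hye, h1, h2⟩

/-- Conjugation by a group element. -/
noncomputable def conjA (v : G) (x : OA hP G) : OA hP G := gen hP v * x * gen hP v⁻¹

theorem gen_cancel (v : G) : gen hP v⁻¹ * gen hP v = 1 := by rw [← gen_mul, inv_mul_cancel, gen_one]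

theorem gen_cancel' (v : G) : gen hP v * gen hP v⁻¹ = 1 := by rw [← gen_mul, mul_inv_cancel, gen_one]

theorem conjA_mul (v : G) (x y : OA hP G) : conjA v (x * y) = conjA v x * conjA v y := by
  rw [conjA, conjA, conjA]
  calc gen hP v * (x * y) * gen hP v⁻¹
      = gen hP v * x * (gen hP v⁻¹ * gen hP v) * y * gen hP v⁻¹ := by
        rw [gen_cancel, mul_one]; simp only [mul_assoc]
    _ = _ := by simp only [mul_assoc]

theorem conjA_add (v : G) (x y : OA hP G) : conjA v (x + y) = conjA v x + conjA v y := by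
  simp only [conjA, mul_add, add_mul]

theorem conjA_zero (v : G) : conjA v (0 : OA hP G) = 0 := by simp [conjA]

theorem conjA_smul (v : G) (c : locRing hP) (x : OA hP G) : conjA v (c • x) = c • conjA v x := by
  simp only [conjA, mul_smul_comm, smul_mul_assoc]

theorem conjA_sum {ι : Type*} (v : G) (s : Finset ι) (f : ι → OA hP G) :
    conjA v (∑ i ∈ s, f i) = ∑ i ∈ s, conjA v (f i) := by
  simp only [conjA, Finset.mul_sum, Finset.sum_mul]

theorem conjA_conjA (v w : G) (x : OA hP G) : conjA v (conjA w x) = conjA (v * w) x := by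
  simp only [conjA, mul_inv_rev, gen_mul, mul_assoc]

theorem conjA_one (x : OA hP G) : conjA (1 : G) x = x := by simp [conjA, gen_one]

theorem co_conjA (v : G) (x : OA hP G) (g : G) : co (conjA v x) g = co x (v⁻¹ * g * v) := co_conj v x g

theorem Small.conj {x : OA hP G} (h : Small x) (v : G) : Small (conjA v x) := fun g => by
  rw [co_conjA]; exact h _

theorem Nil.conj {x : OA hP G} (h : Nil x) (v : G) : Nil (conjA v x) := by
  obtain ⟨N, hN⟩ := h
  refine ⟨N + 1, ?_⟩
  have e : ∀ n : ℕ, conjA v x ^ (n + 1) = conjA v (x ^ (n + 1)) := by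
    intro n
    induction n with
    | zero => simp
    | succ n ih => rw [pow_succ, ih, ← conjA_mul, ← pow_succ]
  rw [e]
  exact (Nil.mono hN N.le_succ).conj v

theorem Min.conj {v : G} (hv : ∀ z ∈ A, conjA v z ∈ A ∧ conjA v⁻¹ z ∈ A) (he : Min A e) :
    Min A (conjA v e) := by
  refine ⟨(hv _ he.mem).1, by rw [IsIdempotentElem, ← conjA_mul, he.idem.eq], fun h => he.ne ?_,
    fun u hu hui h1 h2 => ?_⟩
  · have := congrArg (conjA v⁻¹) h
    rwa [conjA_conjA, inv_mul_cancel, conjA_one, conjA_zero] at this
  · have hb : conjA v (conjA v⁻¹ u) = u := by rw [conjA_conjA, mul_inv_cancel, conjA_one]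
    have ha : conjA v⁻¹ (conjA v e) = e := by rw [conjA_conjA, inv_mul_cancel, conjA_one]
    rcases he.min (conjA v⁻¹ u) (hv u hu).2 (by rw [IsIdempotentElem, ← conjA_mul, hui.eq])
      (by conv_lhs => arg 1; rw [← ha]
          rw [← conjA_mul, h1])
      (by conv_lhs => arg 2; rw [← ha]
          rw [← conjA_mul, h2]) with h | h
    · exact Or.inl (by rw [← hb, h, conjA_zero])
    · exact Or.inr (by rw [← hb, h])

open scoped Classical in
/-- An invariant count over a decomposition of a relatively traced idempotent is divisible by `p`. -/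
theorem dvd_sum (hM : IsPModular p M) {v : G} (hvA : ∀ z ∈ A, conjA v z ∈ A ∧ conjA v⁻¹ z ∈ A)
    {j : OA hP G} (hjA : j ∈ A) (hj : IsIdempotentElem j) (hjv : conjA v j = j) {a : OA hP G}
    (ha : Corner A j a) (hsum : ∑ i ∈ Finset.range p, conjA (v ^ i) a = j)
    {J : Finset (OA hP G)} (hJ : Decomp A j J) (c : OA hP G → ℕ)
    (hassoc : ∀ e e', Min A e → Min A e' → ∀ x ∈ A, ∀ y ∈ A, e * x = x → x * e' = x → e' * y = y →
      y * e = y → x * y = e → y * x = e' → c e = c e')
    (hσ : ∀ e, Min A e → c (conjA v e) = c e) : p ∣ ∑ k ∈ J, c k := by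
  let τ : OA hP G → ℂ := fun z => ∑ k ∈ J, (c k : ℂ) * (res k (k * z * k) : ℂ)
  have hc : ∀ {k z}, k ∈ J → z ∈ A → Corner A k (k * z * k) := fun {k z} hk hz =>
    Corner.sandwich (hJ.min k hk).mem (hJ.min k hk).idem hz
  have hcR : ∀ k, MemLocalRing M (c k : ℂ) := fun k => memLR_natCast hP _
  have hτR : ∀ z, MemLocalRing M (τ z) := fun z =>
    memLR_sum hP _ _ fun k _ => memLR_mul hP (hcR k) (Subtype.prop _)
  have hadd : ∀ y z, y ∈ A → z ∈ A → MemLocalIdeal M (τ (y + z) - (τ y + τ z)) := by
    intro y z hy hz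
    simp only [τ, ← Finset.sum_add_distrib, ← Finset.sum_sub_distrib]
    refine memLI_sum hP _ _ fun k hk => ?_
    rw [← mul_add, ← mul_sub, mul_add k, add_mul]
    exact memLI_mul_left hP (hcR k) (res_add (hJ.min k hk) (hc hk hy) (hc hk hz))
  have hsmul : ∀ (d : locRing hP) z, z ∈ A → MemLocalIdeal M (τ (d • z) - (d : ℂ) * τ z) := by
    intro d z hz
    simp only [τ, Finset.mul_sum, ← Finset.sum_sub_distrib]
    refine memLI_sum hP _ _ fun k hk => ?_
    rw [mul_left_comm (d : ℂ), ← mul_sub, mul_smul_comm, smul_mul_assoc]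
    exact memLI_mul_left hP (hcR k) (res_smul (hJ.min k hk) (hc hk hz) d)
  have hτ0 : MemLocalIdeal M (τ 0) := memLI_sum hP _ _ fun k hk => memLI_mul_left hP (hcR k)
    (res_nil (hJ.min k hk) (hc hk (zero_mem A)) (by rw [mul_zero, zero_mul]; exact Nil.of_small small_zero))
  have hsumτ : ∀ {ι : Type u} (s : Finset ι) (f : ι → OA hP G), (∀ i ∈ s, f i ∈ A) →
      MemLocalIdeal M (τ (∑ i ∈ s, f i) - ∑ i ∈ s, τ (f i)) := by
    intro ι s f
    induction s using Finset.induction_on with
    | empty =>
      intro _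
      rw [Finset.sum_empty, Finset.sum_empty, sub_zero]
      exact hτ0
    | insert b s hb ih =>
      intro hf
      rw [Finset.sum_insert hb, Finset.sum_insert hb]
      have h1 := hadd (f b) (∑ i ∈ s, f i) (hf b (Finset.mem_insert_self b s))
        (sum_mem fun i hi => hf i (Finset.mem_insert_of_mem hi))
      refine memLI_trans hP h1 ?_
      rw [add_sub_add_left_eq_sub]
      exact ih fun i hi => hf i (Finset.mem_insert_of_mem hi)
  have hswap : ∀ x y, Corner A j x → Corner A j y → MemLocalIdeal M (τ (x * y) - τ (y * x)) := by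
    intro x y hx hy
    have e : ∀ x y, Corner A j x → Corner A j y → MemLocalIdeal M (τ (x * y) -
        ∑ k ∈ J, ∑ l ∈ J, (c k : ℂ) * (res k ((k * x * l) * (l * y * k)) : ℂ)) := by
      intro x y hx hy
      rw [← Finset.sum_sub_distrib]
      refine memLI_sum hP _ _ fun k hk => ?_
      rw [← Finset.mul_sum, ← mul_sub]
      refine memLI_mul_left hP (hcR k) ?_
      have he : k * (x * y) * k = ∑ l ∈ J, (k * x * l) * (l * y * k) := by
        rw [show k * (x * y) * k = k * x * (∑ l ∈ J, l) * (y * k) by
          rw [hJ.sum, mul_assoc k x j, hx.right, mul_assoc, mul_assoc, mul_assoc], Finset.mul_sum,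
          Finset.sum_mul]
        refine Finset.sum_congr rfl fun l hl => ?_
        conv_lhs => rw [← (hJ.min l hl).idem.eq]
        simp only [mul_assoc]
      have hcl : ∀ l ∈ J, Corner A k (k * x * l * (l * y * k)) := fun l hl => by
        rw [show k * x * l * (l * y * k) = k * (x * l * (l * y)) * k by simp only [mul_assoc]]
        exact hc hk (mul_mem (mul_mem hx.mem (hJ.min l hl).mem) (mul_mem (hJ.min l hl).mem hy.mem))
      have hk' := hJ.min k hk
      have key : ∀ s ⊆ J, Corner A k (∑ l ∈ s, k * x * l * (l * y * k)) ∧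
          MemLocalIdeal M ((res k (∑ l ∈ s, k * x * l * (l * y * k)) : ℂ) -
            ∑ l ∈ s, (res k (k * x * l * (l * y * k)) : ℂ)) := by
        intro s
        induction s using Finset.induction_on with
        | empty =>
          intro _
          have h0 : Corner A k 0 := ⟨zero_mem _, mul_zero _, zero_mul _⟩
          rw [Finset.sum_empty, Finset.sum_empty, sub_zero]
          exact ⟨h0, res_nil hk' h0 (Nil.of_small small_zero)⟩
        | insert b s hb ih =>
          intro hs
          obtain ⟨hs1, hs2⟩ := ih ((Finset.subset_insert b s).trans hs)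
          have hb' := hcl b (hs (Finset.mem_insert_self b s))
          rw [Finset.sum_insert hb, Finset.sum_insert hb]
          refine ⟨hb'.add hs1, memLI_trans hP (res_add hk' hb' hs1) ?_⟩
          rwa [add_sub_add_left_eq_sub]
      rw [he]
      exact (key J subset_rfl).2
    refine memLI_trans hP (e x y hx hy) (memLI_trans hP ?_ (memLI_symm hP (e y x hy hx)))
    rw [Finset.sum_comm (f := fun k l => (c k : ℂ) * (res k ((k * y * l) * (l * x * k)) : ℂ)),
      ← Finset.sum_sub_distrib]
    refine memLI_sum hP _ _ fun k hk => ?_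
    rw [← Finset.sum_sub_distrib]
    refine memLI_sum hP _ _ fun l hl => ?_
    have hkm := hJ.min k hk
    have hlm := hJ.min l hl
    set a' := k * x * l with ha'
    set b' := l * y * k with hb'
    have haA : a' ∈ A := mul_mem (mul_mem hkm.mem hx.mem) hlm.mem
    have hbA : b' ∈ A := mul_mem (mul_mem hlm.mem hy.mem) hkm.mem
    have h1 : k * a' = a' := by rw [ha', ← mul_assoc, ← mul_assoc, hkm.idem.eq]
    have h2 : a' * l = a' := by rw [ha', mul_assoc _ l l, hlm.idem.eq]
    have h3 : l * b' = b' := by rw [hb', ← mul_assoc, ← mul_assoc, hlm.idem.eq]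
    have h4 : b' * k = b' := by rw [hb', mul_assoc _ k k, hkm.idem.eq]
    have hswap' := res_swap hkm hlm haA hbA h1 h2 h3 h4
    by_cases hnil : Nil (a' * b')
    · refine memLI_sub hP (memLI_mul_left hP (hcR k) (res_nil hkm ⟨mul_mem haA hbA, by rw [← mul_assoc, h1],
        by rw [mul_assoc, h4]⟩ hnil)) (memLI_mul_left hP (hcR l) (res_nil hlm ⟨mul_mem hbA haA,
          by rw [← mul_assoc, h3], by rw [mul_assoc, h2]⟩ hnil.swap))
    · obtain ⟨w, hw, hfw, hwe, hxw, hwx⟩ := assoc_of_not_nil hkm hlm haA hbA h1 h2 h3 h4 hnil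
      rw [hassoc k l hkm hlm a' haA w hw h1 h2 hfw hwe hxw hwx, ← mul_sub]
      exact memLI_mul_left hP (hcR l) hswap'
  have hk1 : ∀ k ∈ J, MemLocalIdeal M (τ k - c k) := by
    intro k hk
    simp only [τ]
    rw [← Finset.add_sum_erase J _ hk, add_sub_right_comm]
    refine memLI_add hP ?_ (memLI_sum hP _ _ fun l hl => ?_)
    · rw [(hJ.min k hk).idem.eq, (hJ.min k hk).idem.eq, ← mul_sub_one]
      exact memLI_mul_left hP (hcR k) (res_self (hJ.min k hk))
    · obtain ⟨hne, hl⟩ := Finset.mem_erase.mp hl
      rw [hJ.orth l hl k hk hne, zero_mul]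
      exact memLI_mul_left hP (hcR l) (res_nil (hJ.min l hl)
        ⟨zero_mem _, mul_zero _, zero_mul _⟩ (Nil.of_small small_zero))
  have hkj : ∀ {k z}, k ∈ J → z ∈ A → Corner A j (k * z * k) := fun {k z} hk hz =>
    ⟨(hc hk hz).mem, by rw [← mul_assoc, ← mul_assoc, hJ.mul_right hk],
      by rw [mul_assoc, hJ.mul_left hk]⟩
  have hjc : ∀ {z}, Corner A j z → Corner A j (conjA v z) := fun {z} hz =>
    ⟨(hvA z hz.mem).1, by conv_lhs => arg 1; rw [← hjv]
                          rw [← conjA_mul, hz.left],
      by conv_lhs => arg 2; rw [← hjv]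
         rw [← conjA_mul, hz.right]⟩
  have hinv : ∀ z, Corner A j z → MemLocalIdeal M (τ (conjA v z) - τ z) := by
    intro z hz
    have hz' : z = ∑ k ∈ J, ∑ l ∈ J, k * z * l := by
      conv_lhs => rw [← hz.eq_sandwich, ← hJ.sum, Finset.sum_mul, Finset.sum_mul]
      exact Finset.sum_congr rfl fun k _ => Finset.mul_sum _ _ _
    have hmem : ∀ k ∈ J, ∀ l ∈ J, Corner A j (k * z * l) := fun k hk l hl =>
      ⟨mul_mem (mul_mem (hJ.min k hk).mem hz.mem) (hJ.min l hl).mem,
        by rw [← mul_assoc, ← mul_assoc, hJ.mul_right hk], by rw [mul_assoc, hJ.mul_left hl]⟩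
    have hoff : ∀ k ∈ J, ∀ l ∈ J, k ≠ l → MemLocalIdeal M (τ (conjA v (k * z * l))) := by
      intro k hk l hl hne
      have hkk := hkj hk (one_mem A)
      rw [mul_one, (hJ.min k hk).idem.eq] at hkk
      have h := hswap _ _ (hjc hkk) (hjc (hmem k hk l hl))
      rw [← conjA_mul, ← conjA_mul, ← mul_assoc, ← mul_assoc, (hJ.min k hk).idem.eq, mul_assoc _ l k,
        hJ.orth l hl k hk (Ne.symm hne), mul_zero, conjA_zero] at h
      exact memLI_congr hP h hτ0
    have hdiag : ∀ k ∈ J, MemLocalIdeal M (τ (conjA v (k * z * k)) - (c k : ℂ) * (res k (k * z * k) : ℂ)) := by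
      intro k hk
      have hkm := hJ.min k hk
      set r := res k (k * z * k) with hr
      set n := k * z * k - r • k with hn
      have hnc : Corner A k n := (hc hk hz.mem).sub ((Corner.self hkm.mem hkm.idem).smul r)
      have hσk := hkm.conj hvA
      have hσkj : conjA v k * j = conjA v k := by
        conv_lhs => arg 2; rw [← hjv]
        rw [← conjA_mul, hJ.mul_left hk]
      have hjσk : j * conjA v k = conjA v k := by
        conv_lhs => arg 1; rw [← hjv]
        rw [← conjA_mul, hJ.mul_right hk]
      obtain ⟨l, hl, x, hx, y, hy, hex, hxl, hly, hye, hxy, hyx⟩ := exists_assoc hJ hσk hσkj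
      have hxj : Corner A j x := ⟨hx, by rw [← hex, ← mul_assoc, hjσk], by rw [← hxl, mul_assoc, hJ.mul_left hl]⟩
      have hyj : Corner A j y := ⟨hy, by rw [← hly, ← mul_assoc, hJ.mul_right hl], by rw [← hye, mul_assoc, hσkj]⟩
      have h1 : MemLocalIdeal M (τ (conjA v k) - (c k : ℂ)) := by
        rw [← hσ k hkm, hassoc _ l hσk (hJ.min l hl) x hx y hy hex hxl hly hye hxy hyx]
        have h := hswap x y hxj hyj
        rw [hxy, hyx] at h
        exact memLI_trans hP h (hk1 l hl)
      set n' := conjA v n with hn'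
      have hn'1 : conjA v k * n' = n' := by rw [hn', ← conjA_mul, hnc.left]
      have hn'2 : n' * conjA v k = n' := by rw [hn', ← conjA_mul, hnc.right]
      have hn'A : n' ∈ A := (hvA n hnc.mem).1
      have h2 : MemLocalIdeal M (τ n') := by
        have hn'j : Corner A j n' := ⟨hn'A, by rw [← hn'1, ← mul_assoc, hjσk],
          by rw [← hn'2, mul_assoc, hσkj]⟩
        have h := hswap (n' * x) y (hn'j.mul hxj) hyj
        rw [mul_assoc, hxy, hn'2] at h
        refine memLI_congr hP h ?_
        refine memLI_sum hP _ _ fun i hi => memLI_mul_left hP (hcR i) (res_nil (hJ.min i hi)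
          (hc hi (mul_mem hy (mul_mem hn'A hx))) ?_)
        by_cases hil : i = l
        · subst hil
          rw [show i * (y * (n' * x)) * i = y * n' * x by
            rw [← mul_assoc i y, hly, mul_assoc, mul_assoc, hxl, ← mul_assoc]]
          obtain ⟨N, hN⟩ := (res_spec hkm (hc hk hz.mem)).conj v
          refine ⟨N + 1, ?_⟩
          have e : ∀ m : ℕ, (y * n' * x) ^ (m + 1) = y * n' ^ (m + 1) * x := by
            intro m
            induction m with
            | zero => simp
            | succ m ih =>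
              rw [pow_succ, ih, pow_succ n' (m + 1)]
              calc y * n' ^ (m + 1) * x * (y * n' * x) = y * n' ^ (m + 1) * (x * y * n') * x := by
                    simp only [mul_assoc]
                _ = _ := by rw [hxy, hn'1]; simp only [mul_assoc]
          rw [e]
          exact ((Nil.mono hN N.le_succ).mul_left y).mul_right x
        · rw [show i * (y * (n' * x)) * i = i * l * (y * (n' * x)) * i by
            rw [mul_assoc i l, ← mul_assoc l y, hly], hJ.orth i hi l hl hil, zero_mul, zero_mul]
          exact Nil.of_small small_zero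
      have e : conjA v (k * z * k) = r • conjA v k + n' := by
        rw [hn', ← conjA_smul, ← conjA_add, hn, add_sub_cancel]
      rw [e]
      have h3 := memLI_trans hP (hsmul r _ hσk.mem)
        (show MemLocalIdeal M ((r : ℂ) * τ (conjA v k) - (c k : ℂ) * (r : ℂ)) by
          rw [mul_comm (c k : ℂ), ← mul_sub]; exact memLI_mul_left hP r.2 h1)
      refine memLI_trans hP (hadd _ _ (A.smul_mem hσk.mem r) hn'A) ?_
      rw [add_sub_right_comm]
      exact memLI_add hP h3 h2
    have hA : ∀ k ∈ J, ∀ l ∈ J, conjA v (k * z * l) ∈ A := fun k hk l hl =>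
      (hvA _ (hmem k hk l hl).mem).1
    have e1 : conjA v z = ∑ k ∈ J, ∑ l ∈ J, conjA v (k * z * l) := by
      conv_lhs => rw [hz']
      simp only [conjA_sum]
    rw [e1]
    refine memLI_trans hP (hsumτ J _ fun k hk => sum_mem fun l hl => hA k hk l hl) ?_
    simp only [τ]
    rw [← Finset.sum_sub_distrib]
    refine memLI_sum hP _ _ fun k hk => ?_
    refine memLI_trans hP (hsumτ J _ fun l hl => hA k hk l hl) ?_
    rw [← Finset.add_sum_erase J _ hk, add_sub_right_comm]
    exact memLI_add hP (hdiag k hk) (memLI_sum hP _ _ fun l hl =>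
      hoff k hk l (Finset.mem_erase.mp hl).2 (Finset.mem_erase.mp hl).1.symm)
  have hpow : ∀ i : ℕ, Corner A j (conjA (v ^ i) a) ∧ MemLocalIdeal M (τ (conjA (v ^ i) a) - τ a) := by
    intro i
    induction i with
    | zero => rw [pow_zero, conjA_one, sub_self]; exact ⟨ha, memLI_zero hP⟩
    | succ i ih =>
      rw [pow_succ', ← conjA_conjA]
      exact ⟨hjc ih.1, memLI_trans hP (hinv _ ih.1) ih.2⟩
  have hlhs : MemLocalIdeal M (τ j - ∑ k ∈ J, (c k : ℂ)) := by
    refine memLI_trans hP (y := ∑ k ∈ J, τ k) ?_ ?_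
    · conv => arg 2; arg 1; rw [← hJ.sum]
      exact hsumτ J _ fun k hk => (hJ.min k hk).mem
    · rw [← Finset.sum_sub_distrib]
      exact memLI_sum hP _ _ hk1
  have hrhs : MemLocalIdeal M (τ j) := by
    have key : ∀ n : ℕ, (∑ i ∈ Finset.range n, conjA (v ^ i) a) ∈ A ∧
        MemLocalIdeal M (τ (∑ i ∈ Finset.range n, conjA (v ^ i) a) - (n : ℂ) * τ a) := by
      intro n
      induction n with
      | zero => exact ⟨by simp, by simpa using hτ0⟩
      | succ n ih =>
        rw [Finset.sum_range_succ]
        refine ⟨add_mem ih.1 (hpow n).1.mem, memLI_trans hP (hadd _ _ ih.1 (hpow n).1.mem) ?_⟩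
        rw [Nat.cast_succ, add_mul, one_mul, add_sub_add_comm]
        exact memLI_add hP ih.2 (hpow n).2
    rw [← hsum]
    exact memLI_congr hP (key p).2 (memLI_mul_right hP (memLI_p hM) (hτR a))
  have := memLI_congr hP (memLI_symm hP hlhs) hrhs
  rw [← Nat.cast_sum] at this
  exact (memLI_natCast_iff hM _).mp this

end Cfsg.Agent.Char.Fixed
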