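import Cfsg.Agent.Lib.Char.IdemSubgroup
import Cfsg.Agent.Lib.Char.BelowData

/-!
# An idempotent of the fixed points lifting one local block at every level

For a maximal pair `(D, c)` with `D` abelian a minimal `D`-stable idempotent of the group algebra with a given
image on `C(D)` lies, on the centralizer of every subgroup `S` of `D`, in the block below `(D, c)`. Under free
action its traces on these blocks are natural numbers prime to `p`.
-/

set_option autoImplicit false
set_option linter.unusedSectionVars false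
set_option linter.style.haveILetI false

namespace Cfsg.Agent.Char.LocalIdem

open Cfsg Module Polynomial IdemAlg IdemSub
open scoped ComplexConjugate

universe u

variable {G : Type u} [Group G] [Fintype G] {M : Ideal AlgInt} {p : ℕ}

/-- The fixed elements vanishing modulo `M` on the centralizer of `S`. -/
noncomputable def kerS (hM : IsPModular p M) (S : Subgroup G) :
    Submodule (locRing (pmod_prime hM)) (OA (pmod_prime hM) G) where
  carrier := {j | (∀ u ∈ S, Commute (gen (pmod_prime hM) u) j) ∧
    ∀ g ∈ Subgroup.centralizer (S : Set G), MemLocalIdeal M (co j g)}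
  add_mem' := fun {a b} ha hb => ⟨fun u hu => (ha.1 u hu).add_right (hb.1 u hu), fun g hg => by
    rw [co_add]; exact memLI_add (pmod_prime hM) (ha.2 g hg) (hb.2 g hg)⟩
  zero_mem' := ⟨fun u _ => Commute.zero_right _, fun g _ => by rw [co_zero]; exact memLI_zero (pmod_prime hM)⟩
  smul_mem' := fun c j hj => ⟨fun u hu => (hj.1 u hu).smul_right c, fun g hg => by
    rw [co_smul]; exact memLI_mul_left (pmod_prime hM) c.2 (hj.2 g hg)⟩

variable (hM : IsPModular p M) {S : Subgroup G} (hS : IsPGroup p S)

include hS in
theorem kerS_mul {x j : OA (pmod_prime hM) G} (hx : ∀ u ∈ S, Commute (gen _ u) x)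
    (hj : j ∈ kerS hM S) : x * j ∈ kerS hM S ∧ j * x ∈ kerS hM S := by
  classical
  have hP := pmod_prime hM
  refine ⟨⟨fun u hu => (hx u hu).mul_right (hj.1 u hu), fun g hg => ?_⟩,
    ⟨fun u hu => (hj.1 u hu).mul_right (hx u hu), fun g hg => ?_⟩⟩
  · refine memLI_congr hP (mul_congr hM hS hx hj.1 hg) (memLI_sum hP _ _ fun w hw => ?_)
    have hw' := (Finset.mem_filter.mp hw).2
    exact memLI_mul_left hP (memLR_co x w) (hj.2 _ (mul_mem (inv_mem hw') hg))
  · refine memLI_congr hP (mul_congr hM hS hj.1 hx hg) (memLI_sum hP _ _ fun w hw => ?_)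
    exact memLI_mul_right hP (hj.2 w (Finset.mem_filter.mp hw).2) (memLR_co x _)

variable [Fintype (Subgroup.centralizer (S : Set G))]

include hS in
/-- Restriction to the centralizer is multiplicative modulo `M`. -/
theorem res_mul {x y : OA (pmod_prime hM) G} (hx : ∀ u ∈ S, Commute (gen _ u) x)
    (hy : ∀ u ∈ S, Commute (gen _ u) y) (h : Subgroup.centralizer (S : Set G)) :
    MemLocalIdeal M (co (res (Subgroup.centralizer (S : Set G)) (x * y)) h -
      co (res (Subgroup.centralizer (S : Set G)) x * res (Subgroup.centralizer (S : Set G)) y) h) := by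
  classical
  rw [co_res]
  convert mul_congr hM hS hx hy h.2 using 2
  rw [co_mul, conv]
  refine Finset.sum_bij (fun (k : Subgroup.centralizer (S : Set G)) _ => (k : G))
    (fun k _ => Finset.mem_filter.mpr ⟨Finset.mem_univ _, k.2⟩) (fun a _ b _ e => Subtype.ext e)
    (fun g hg => ⟨⟨g, (Finset.mem_filter.mp hg).2⟩, Finset.mem_univ _, rfl⟩)
    (fun k _ => by rw [co_res, co_res, Subgroup.coe_mul, Subgroup.coe_inv])

/-- The embedding of the group algebra of the centralizer. -/
noncomputable abbrev emb : OA (pmod_prime hM) (Subgroup.centralizer (S : Set G)) →ₐ[locRing (pmod_prime hM)]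
    OA (pmod_prime hM) G :=
  push (Subgroup.centralizer (S : Set G)).subtype

theorem res_emb (x : OA (pmod_prime hM) (Subgroup.centralizer (S : Set G))) :
    res (Subgroup.centralizer (S : Set G)) (emb hM x) = x :=
  ext_co fun h => by
    rw [co_res]
    exact co_push (Subgroup.centralizer (S : Set G)).subtype Subtype.val_injective x h

theorem commute_emb {A : Subgroup G} (hA : A ≤ Subgroup.centralizer (S : Set G))
    {x : OA (pmod_prime hM) (Subgroup.centralizer (S : Set G))}
    (hx : ∀ a : Subgroup.centralizer (S : Set G), (a : G) ∈ A → Commute (gen _ a) x) :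
    ∀ u ∈ A, Commute (gen (pmod_prime hM) u) (emb hM x) := by
  intro u hu
  have h := (hx ⟨u, hA hu⟩ hu).map (emb hM (S := S))
  rwa [push_gen] at h

theorem commute_res {A : Subgroup G} {x : OA (pmod_prime hM) G} (hx : ∀ u ∈ A, Commute (gen _ u) x) :
    ∀ a : Subgroup.centralizer (S : Set G), (a : G) ∈ A →
      Commute (gen (pmod_prime hM) a) (res (Subgroup.centralizer (S : Set G)) x) := by
  intro a ha
  refine (commute_gen_iff a _).mpr fun k => ?_
  rw [co_res, co_res, Subgroup.coe_mul, Subgroup.coe_mul, Subgroup.coe_inv]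
  exact (commute_gen_iff (a : G) x).mp (hx _ ha) k

include hS in
/-- A fixed element whose restriction lies in the ideal. -/
theorem mem_kerS_iff_res {x : OA (pmod_prime hM) G} (hx : ∀ u ∈ S, Commute (gen _ u) x) :
    x ∈ kerS hM S ↔ ∀ h, MemLocalIdeal M (co (res (Subgroup.centralizer (S : Set G)) x) h) := by
  refine ⟨fun h k => ?_, fun h => ⟨hx, fun g hg => ?_⟩⟩
  · rw [co_res]; exact h.2 _ k.2
  · have := h ⟨g, hg⟩
    rwa [co_res] at this

omit S hS

/-- A central function taking the value one at a block fixes it modulo `M`. -/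
theorem blockElt_mul_congr {H : Type u} [Group H] [Fintype H] {f : Set (IrrCharacter H)} (hf : IsPBlock M f)
    (F : OA (pmod_prime hM) H) (hFc : IsClassFunction H (co F))
    (hFF : ∀ h, MemLocalIdeal M (co (F * F) h - co F h))
    (h1 : ∀ ξ ∈ f, MemLocalIdeal M (lam (ξ : H → ℂ) (co F) - 1)) (h : H) :
    MemLocalIdeal M (co (blockElt hM hf * F) h - co (blockElt hM hf) h) := by
  have hP := pmod_prime hM
  have hFI : IsModIdem M (co F) := ⟨⟨hFc, memLR_co F⟩, fun x => by rw [← co_mul]; exact hFF x⟩
  have hb : IsIntClassFun M (blockCoeff f) := isIntClassFun_blockCoeff hM hf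
  have hbI : IsModIdem M (blockCoeff f) := ⟨hb, fun x => by rw [conv_blockCoeff, sub_self]; exact memLI_zero hP⟩
  have hz : CEq M (conv (blockCoeff f) (delta - co F)) 0 := by
    refine IsModIdem.eq_zero hM (hbI.mul hP (hFI.compl hP)) fun ψ => ?_
    rw [lam_conv ψ.2 hb.1 (hFI.compl hP).1.1, lam_sub, lam_delta ψ.2, lam_blockCoeff]
    split_ifs with hψ
    · rw [one_mul]; exact memLI_symm hP (h1 ψ hψ)
    · rw [zero_mul]; exact memLI_zero hP
  have h2 := hz h
  rw [Pi.zero_apply, sub_zero, conv_sub_right, Pi.sub_apply,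
    conv_comm _ (isClassFunction_delta), delta_conv] at h2
  rw [co_mul, co_blockElt]
  exact memLI_symm hP h2

variable {B : Set (IrrCharacter G)} {D : Subgroup G} {c : Set (IrrCharacter (Subgroup.centralizer (D : Set G)))}

/-- The data below a maximal pair: an idempotent of the fixed points and a unit trace. -/
structure Data (ι : OA (pmod_prime hM) G) (hB : IsPBlock M B) (D : Subgroup G)
    (c : Set (IrrCharacter (Subgroup.centralizer (D : Set G)))) : Prop where
  idem : IsIdempotentElem ι
  comm : ∀ d ∈ D, Commute (gen (pmod_prime hM) d) ι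
  block : ι * blockElt hM hB = ι
  local_block : ∀ (S : Subgroup G) [Fintype (Subgroup.centralizer (S : Set G))]
    (f : Set (IrrCharacter (Subgroup.centralizer (S : Set G)))) (hn : IsNormalSubpair p M S f D c)
    (h : Subgroup.centralizer (S : Set G)),
      MemLocalIdeal M (co (res (Subgroup.centralizer (S : Set G)) ι * blockElt hM hn.1.2) h -
        co (res (Subgroup.centralizer (S : Set G)) ι) h)
  top : ∀ [Fintype (Subgroup.centralizer (D : Set G))], ∃ θ ∈ c,
    ¬ MemLocalIdeal M (trC (θ : Subgroup.centralizer (D : Set G) → ℂ)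
      (res (Subgroup.centralizer (D : Set G)) ι))

variable (hmax : IsMaximalBrauerPair p M B D c) (hab : ∀ x ∈ D, ∀ y ∈ D, x * y = y * x)
include hmax hab

open scoped Classical in
set_option maxHeartbeats 1000000 in
/-- Existence. -/
theorem exists_data : ∃ ι, Data hM ι hmax.1.2.1 D c := by
  have hP := pmod_prime hM
  haveI : Fintype (Subgroup.centralizer (D : Set G)) := Fintype.ofFinite _
  have hDC : D ≤ Subgroup.centralizer (D : Set G) := BelowData.le_centralizer hab le_rfl
  set ec := blockElt hM hmax.1.1.2 with hec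
  -- an idempotent on the top level
  obtain ⟨θ, hθ⟩ := block_nonempty hP hmax.1.1.2
  obtain ⟨χ0, hχ0, h0⟩ := exists_height_zero (p := p) (block_nonempty hP hmax.1.2.1)
  obtain ⟨f0, hf0⟩ := BelowData.exists_below hM hmax hab (le_refl D)
  have hf0c : f0 = c := eq_of_heq (Sigma.mk.inj_iff.mp (eq_of_rel_card hM (a := (⟨D, f0⟩ : BrauerPairIdx G))
    (b := (⟨D, c⟩ : BrauerPairIdx G))
    (Relation.ReflTransGen.single (show NormalSubpairRel p M (⟨D, f0⟩ : BrauerPairIdx G) ⟨D, c⟩ from hf0))
    le_rfl)).2
  subst hf0c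
  obtain ⟨n, hn⟩ := exists_decomposition (isCharacter_comp (Subgroup.centralizer (D : Set G)).subtype (irr_isCharacter χ0.2))
  have hfree : ∀ t ∈ pairStab hP hmax.1.1.2, (∀ u ∈ D, t * u = u * t) → t ∈ (Subgroup.centralizer (D : Set G)) := fun t _ ht u hu =>
    (ht u hu).symm
  obtain ⟨x, hx⟩ := (BelowData.mult_unit hM hmax hab hf0 hfree hχ0 h0 hn).2 θ hθ
  obtain ⟨g, hgi, ⟨F, hgy⟩, hgu⟩ := exists_idem_unit (irr_isCharacter θ.2) (y := gen hP x * ec) (by
    rw [hec, trC_gen_mul_blockElt, lam_blockCoeff, if_pos hθ, one_mul]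
    exact hx)
  have hgec : g * ec = g := by
    have h1 : ec * g = g := by
      rw [hgy, ← mul_assoc, ← mul_assoc, (commute_blockElt hM hmax.1.1.2 (gen hP x)).eq, mul_assoc (gen hP x),
        (isIdem_blockElt hM hmax.1.1.2).eq]
    rw [← (commute_blockElt hM hmax.1.1.2 g).eq, h1]
  have hgD : ∀ a : (Subgroup.centralizer (D : Set G)), (a : G) ∈ D → Commute (gen hP a) g := fun a ha =>
    (commute_gen_iff a g).mpr fun k => by
      congr 1
      refine Subtype.ext ?_
      rw [Subgroup.coe_mul, Subgroup.coe_mul, Subgroup.coe_inv]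
      rw [show (a : G) * (k : G) = (k : G) * a from k.2 _ ha, mul_inv_cancel_right]
  -- minimal lifts
  set I0 := emb hM g with hI0
  set T := {ι : OA hP G | IsIdempotentElem ι ∧ (∀ d ∈ D, Commute (gen hP d) ι) ∧
    ι - I0 ∈ kerS hM D} with hT
  have hI0T : I0 ∈ T := ⟨hgi.map _, commute_emb hM hDC hgD, by
    rw [sub_self]; exact Submodule.zero_mem _⟩
  have hex : ∃ r : ℕ, ∃ ι ∈ T, (Nat.card G : ℂ) * co ι 1 = r :=
    ⟨_, I0, hI0T, (exists_rank hI0T.1).choose_spec.1⟩
  obtain ⟨ι, hιT, hιr⟩ := Nat.find_spec hex
  obtain ⟨hιi, hιc, hι0⟩ := hιT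
  have hDp : IsPGroup p D := hmax.1.1.1
  have hmin : ∀ u : OA hP G, IsIdempotentElem u → (∀ d ∈ D, Commute (gen hP d) u) → ι * u = u →
      u * ι = u → u ∈ kerS hM D → u = 0 := by
    intro u hui huc hιu huι huD
    have hidem : IsIdempotentElem (ι - u) := by
      show (ι - u) * (ι - u) = ι - u
      rw [sub_mul, mul_sub, mul_sub, hιi.eq, hιu, huι, hui.eq, sub_self, sub_zero]
    obtain ⟨r1, hr1, hr10⟩ := exists_rank hui
    obtain ⟨r2, hr2, -⟩ := exists_rank hidem
    have hle : Nat.find hex ≤ r2 := Nat.find_le ⟨ι - u, ⟨hidem, fun d hd => (hιc d hd).sub_right (huc d hd), by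
      rw [sub_sub, add_comm, ← sub_sub]
      exact Submodule.sub_mem _ hι0 huD⟩, hr2⟩
    have hsum : r1 + r2 = Nat.find hex := by
      have : ((r1 + r2 : ℕ) : ℂ) = (Nat.find hex : ℂ) := by
        push_cast
        rw [← hr1, ← hr2, ← hιr, co_sub, Pi.sub_apply]
        ring
      exact_mod_cast this
    exact hr10 (by omega)
  -- the image on `C(D)`
  have hιg : ∀ h, MemLocalIdeal M (co (res (Subgroup.centralizer (D : Set G)) ι) h - co g h) := by
    intro h
    have := hι0.2 (h : G) h.2
    rw [co_sub, Pi.sub_apply] at this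
    rw [co_res]
    rwa [show co g h = co I0 (h : G) from (co_push (Subgroup.centralizer (D : Set G)).subtype Subtype.val_injective g h).symm]
  have key : ∀ F : OA hP (Subgroup.centralizer (D : Set G)), (∀ h, MemLocalIdeal M (co (ec * F) h - co ec h)) →
      ∀ h, MemLocalIdeal M (co (res (Subgroup.centralizer (D : Set G)) ι * F) h - co (res (Subgroup.centralizer (D : Set G)) ι) h) := by
    intro F hF h
    have e1 : ∀ (a b : OA hP (Subgroup.centralizer (D : Set G))) (k : (Subgroup.centralizer (D : Set G))), (∀ k, MemLocalIdeal M (co a k - co b k)) →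
        MemLocalIdeal M (co (a * F) k - co (b * F) k) := fun a b k hab' => by
      rw [co_mul, co_mul, conv, conv, ← Finset.sum_sub_distrib]
      simp only [← sub_mul]
      exact memLI_sum hP _ _ fun w _ => memLI_mul_right hP (hab' w) (memLR_co F _)
    refine memLI_trans hP (e1 _ g h hιg) (memLI_trans hP ?_ (memLI_symm hP (hιg h)))
    rw [show g * F = g * (ec * F) by rw [← mul_assoc, hgec], show co g h = co (g * ec) h by rw [hgec],
      co_mul g (ec * F), co_mul g ec, conv, conv, ← Finset.sum_sub_distrib]
    simp only [← mul_sub]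
    exact memLI_sum hP _ _ fun w _ => memLI_mul_left hP (memLR_co g _) (hF _)
  have hιec : ∀ h, MemLocalIdeal M (co (ec * 1) h - co ec h) := fun h => by
    rw [mul_one, sub_self]; exact memLI_zero hP
  refine ⟨ι, hιi, hιc, ?_, fun S _ f hn => ?_, fun {inst} => ⟨θ, hθ, ?_⟩⟩
  · -- the block
    set E := blockElt hM hmax.1.2.1 with hE
    set y := ι * (1 - E) with hy
    have hEc : ∀ w : OA hP G, Commute E w := commute_blockElt hM hmax.1.2.1
    have hyi : IsIdempotentElem y := hιi.mul_of_commute ((Commute.one_right ι).sub_right (hEc ι).symm)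
      (isIdem_blockElt hM hmax.1.2.1).one_sub
    have hyc : ∀ d ∈ D, Commute (gen hP d) y := fun d hd =>
      (hιc d hd).mul_right ((Commute.one_right _).sub_right (hEc _).symm)
    have h1 : ι * y = y := by rw [hy, ← mul_assoc, hιi.eq]
    have h2 : y * ι = y := by
      rw [hy, mul_assoc, ((Commute.one_left ι).sub_left (hEc ι)).eq, ← mul_assoc, hιi.eq]
    have hy0 : y = 0 := by
      refine hmin y hyi hyc h1 h2 ((mem_kerS_iff_res hM hDp hyc).mpr fun h => ?_)
      have hr := res_mul hM hDp hιc (fun d _ => ((Commute.one_right _).sub_right (hEc _).symm)) h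
        (y := 1 - E)
      rw [← hy] at hr
      refine memLI_congr hP hr ?_
      have h1E : res (Subgroup.centralizer (D : Set G)) (1 - E) = 1 - res (Subgroup.centralizer (D : Set G)) E := ext_co fun k => by
        rw [co_res, co_sub, co_sub, Pi.sub_apply, Pi.sub_apply, co_res, co_one, co_one, delta_apply, delta_apply]
        simp
      rw [h1E, mul_sub, mul_one, co_sub, Pi.sub_apply]
      refine memLI_symm hP (key (res (Subgroup.centralizer (D : Set G)) E) (blockElt_mul_congr hM hmax.1.1.2 _ ?_ ?_ ?_) h)
      · intro a k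
        rw [co_res, co_res, co_blockElt, Subgroup.coe_mul, Subgroup.coe_mul, Subgroup.coe_inv]
        exact isClassFunction_blockCoeff B _ _
      · intro k
        have := res_mul hM hDp (x := E) (y := E) (fun d _ => (hEc _).symm) (fun d _ => (hEc _).symm) k
        rw [(isIdem_blockElt hM hmax.1.2.1).eq] at this
        exact memLI_symm hP this
      · intro ξ hξ
        have := hmax.1.2.2 ξ hξ
        rw [brauerOmega_eq] at this
        convert this using 3
        funext k
        rw [co_res, co_blockElt]
        rfl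
    rw [hy, mul_sub, mul_one, sub_eq_zero] at hy0
    exact hy0.symm
  · -- the local blocks
    have hQD : S ≤ D := hn.2.2.1
    have hSC : D ≤ Subgroup.centralizer (S : Set G) := BelowData.le_centralizer hab hQD
    have hSp : IsPGroup p S := hDp.to_le hQD
    set ef := blockElt hM hn.1.2 with hef
    set X := emb hM (1 - ef) with hX
    have hXi : IsIdempotentElem X := (isIdem_blockElt hM hn.1.2).one_sub.map _
    have hXc : ∀ d ∈ D, Commute (gen hP d) X := commute_emb hM hSC fun a _ =>
      (Commute.one_right _).sub_right (commute_blockElt hM hn.1.2 _).symm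
    have hιS : ∀ u ∈ S, Commute (gen hP u) ι := fun u hu => hιc u (hQD hu)
    have hXS : ∀ u ∈ S, Commute (gen hP u) X := fun u hu => hXc u (hQD hu)
    set y := ι * X * ι with hy
    have hyc : ∀ d ∈ D, Commute (gen hP d) y := fun d hd =>
      ((hιc d hd).mul_right (hXc d hd)).mul_right (hιc d hd)
    have hyS : ∀ u ∈ S, Commute (gen hP u) y := fun u hu => hyc u (hQD hu)
    have hresX : res (Subgroup.centralizer (S : Set G)) X = 1 - ef := res_emb hM _
    have hcom : ι * X - X * ι ∈ kerS hM S := by
      refine (mem_kerS_iff_res hM hSp fun u hu =>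
        ((hιS u hu).mul_right (hXS u hu)).sub_right ((hXS u hu).mul_right (hιS u hu))).mpr fun h => ?_
      have e : co (res (Subgroup.centralizer (S : Set G)) (ι * X - X * ι)) h = co (res (Subgroup.centralizer (S : Set G)) (ι * X)) h - co (res (Subgroup.centralizer (S : Set G)) (X * ι)) h := by
        simp only [co_res, co_sub, Pi.sub_apply]
      rw [e]
      refine memLI_trans hP (res_mul hM hSp hιS hXS h) (memLI_symm hP ?_)
      rw [hresX, ← ((Commute.one_left (res (Subgroup.centralizer (S : Set G)) ι)).sub_left (commute_blockElt hM hn.1.2 (res (Subgroup.centralizer (S : Set G)) ι))).eq]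
      rw [← hresX]
      exact res_mul hM hSp hXS hιS h
    have hyy : y * y - y ∈ kerS hM S := by
      have e : y * y - y = ι * X * (ι * X - X * ι) * ι := by
        rw [hy, mul_sub, sub_mul, mul_assoc ι X (X * ι), ← mul_assoc X X ι, hXi.eq, mul_assoc ι (X * ι) ι,
          mul_assoc X ι ι, hιi.eq, ← mul_assoc ι X ι, mul_assoc (ι * X) ι (ι * X * ι), ← mul_assoc ι (ι * X) ι,
          ← mul_assoc ι ι X, hιi.eq, mul_assoc (ι * X) (ι * X) ι]
      rw [e]
      exact (kerS_mul hM hSp hιS (kerS_mul hM hSp (fun u hu => (hιS u hu).mul_right (hXS u hu)) hcom).1).2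
    obtain ⟨P, hPm, hPy⟩ := exists_monic y
    obtain ⟨sep, hs0, hsd, hs1⟩ := IdemLift.exists_separator hP hPm
    set u := aeval y sep with hu
    have huy : u - y ∈ kerS hM S := IdemLift.aeval_sub_mem hs0 hs1 hPy (kerS hM S)
      (fun j hj => (kerS_mul hM hSp hyS hj).1)
      (fun a ha => ⟨fun v hv => (hyS v hv).smul_right a, fun k _ => by
        rw [co_smul]; exact memLI_mul_right hP ha (memLR_co y k)⟩) hyy
    obtain ⟨f', hf'⟩ : (Polynomial.X : (locRing hP)[X]) ∣ sep :=
      X_dvd_iff.mpr (by rw [coeff_zero_eq_eval_zero, hs0])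
    have hu' : u = y * aeval y f' := by rw [hu, hf', map_mul, aeval_X]
    have hu'' : u = aeval y f' * y := by rw [hu, hf', mul_comm, map_mul, aeval_X]
    have huc : ∀ d ∈ D, Commute (gen hP d) u := fun d hd => by
      rw [hu, aeval_eq_sum_range]
      exact Commute.sum_right _ _ _ fun i _ => ((hyc d hd).pow_right i).smul_right _
    have hιy : ι * y = y := by rw [hy, ← mul_assoc, ← mul_assoc, hιi.eq]
    have hyι : y * ι = y := by rw [hy, mul_assoc _ ι ι, hιi.eq]
    have hyD : y ∈ kerS hM D := by
      have h1 : ι * X ∈ kerS hM D := by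
        refine (mem_kerS_iff_res hM hDp fun d hd => (hιc d hd).mul_right (hXc d hd)).mpr fun h => ?_
        refine memLI_congr hP (res_mul hM hDp hιc hXc h) ?_
        set F := res (Subgroup.centralizer (D : Set G)) (emb hM ef) with hF
        have h1E : res (Subgroup.centralizer (D : Set G)) X = 1 - F := ext_co fun k => by
          rw [hX, map_sub, map_one, co_res, co_sub, co_sub, Pi.sub_apply, Pi.sub_apply, hF, co_res, co_one,
            co_one, delta_apply, delta_apply]
          simp
        rw [h1E, mul_sub, mul_one, co_sub, Pi.sub_apply]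
        have hFD : ∀ d ∈ D, Commute (gen hP d) (emb hM ef) := commute_emb hM hSC fun a _ =>
          (commute_blockElt hM hn.1.2 _).symm
        have hCle : (Subgroup.centralizer (D : Set G)) ≤ (Subgroup.centralizer (S : Set G)) := Subgroup.centralizer_le hQD
        have hcoF : ∀ k : (Subgroup.centralizer (D : Set G)), co F k = blockCoeff f (⟨(k : G), hCle k.2⟩ : (Subgroup.centralizer (S : Set G))) := fun k => by
          rw [hF, co_res]
          refine Eq.trans (co_push (Subgroup.centralizer (S : Set G)).subtype Subtype.val_injective ef (⟨(k : G), hCle k.2⟩ : (Subgroup.centralizer (S : Set G)))) ?_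
          rw [hef, co_blockElt]
        refine memLI_symm hP (key F (blockElt_mul_congr hM hmax.1.1.2 F ?_ ?_ ?_) h)
        · intro a k
          rw [hcoF, hcoF]
          exact isClassFunction_blockCoeff f (⟨(a : G), hCle a.2⟩ : (Subgroup.centralizer (S : Set G))) ⟨(k : G), hCle k.2⟩
        · intro k
          have := res_mul hM hDp hFD hFD k
          rw [← map_mul, (isIdem_blockElt hM hn.1.2).eq] at this
          exact memLI_symm hP this
        · intro ξ hξ
          have := hn.2.2.2.2.2 ξ hξ
          rw [brauerOmega_eq, subgroupBlockCoeff_eq] at this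
          convert this using 3
          funext k
          rw [hcoF, tr_apply, extendByZero_mem (Subgroup.centralizer (S : Set G)) _ (hCle k.2)]
      exact (kerS_mul hM hDp hιc h1).2
    have hu0 : u = 0 := hmin u (IdemLift.idem_of_dvd hsd hPy) huc
      (by rw [hu', ← mul_assoc, hιy]) (by rw [hu'', mul_assoc, hyι])
      (by rw [hu'']; exact (kerS_mul hM hDp (fun d hd => by
        rw [aeval_eq_sum_range]
        exact Commute.sum_right _ _ _ fun i _ => ((hyc d hd).pow_right i).smul_right _) hyD).1)
    intro h
    have hιX : ι * X ∈ kerS hM S := by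
      have e : ι * X = ι * (ι * X - X * ι) + y := by
        rw [mul_sub, ← mul_assoc, ← mul_assoc, hιi.eq, hy, sub_add_cancel]
      rw [e]
      refine Submodule.add_mem _ (kerS_mul hM hSp hιS hcom).1 ?_
      rw [hu0, zero_sub] at huy
      simpa using Submodule.neg_mem _ huy
    have h1 := (mem_kerS_iff_res hM hSp fun v hv => (hιS v hv).mul_right (hXS v hv)).mp hιX h
    have h2 := memLI_congr hP (memLI_symm hP (res_mul hM hSp hιS hXS h)) h1
    rw [hresX, mul_sub, mul_one, co_sub, Pi.sub_apply] at h2
    exact memLI_symm hP h2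
  · intro h
    refine hgu ?_
    convert memLI_congr hP (memLI_symm hP (memLI_trC_sub (fun k => memLR_char hP (irr_isCharacter θ.2) k)
      hιg)) (by convert h using 3) using 3

end Cfsg.Agent.Char.LocalIdem
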