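import Cfsg.Agent.Lib.Char.FixedCorner
import Cfsg.Agent.Lib.Char.LocalIdem
import Cfsg.Agent.Lib.Char.BlockFusion

/-!
# Local blocks of minimal idempotents fixed by a `p`-subgroup

A minimal idempotent of the fixed points of `Q` either does not vanish modulo `M` on `C(Q)`, and then it lies in
one block there and, on the centralizer of each subgroup of `Q`, in the block below it; or it is a relative trace
from a normal subgroup of index `p`, and vanishes modulo `M` on the centralizers of the elements outside.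
-/

set_option autoImplicit false
set_option linter.unusedSectionVars false
set_option linter.style.haveILetI false

namespace Cfsg.Agent.Char.Fixed

open Cfsg Module IdemAlg IdemSub

universe u

variable {G : Type u} [Group G] [Fintype G] {M : Ideal AlgInt} {p : ℕ} {hP : M.IsPrime}

/-- The fixed points of a subgroup. -/
noncomputable def fix (hP : M.IsPrime) (Q : Subgroup G) : Subalgebra (locRing hP) (OA hP G) :=
  Subalgebra.centralizer (locRing hP) (gen hP '' (Q : Set G))

theorem mem_fix {Q : Subgroup G} {x : OA hP G} : x ∈ fix hP Q ↔ ∀ u ∈ Q, Commute (gen hP u) x := by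
  rw [fix, Subalgebra.mem_centralizer_iff]
  exact ⟨fun h u hu => h _ ⟨u, hu, rfl⟩, by rintro h _ ⟨u, hu, rfl⟩; exact h u hu⟩

theorem fix_antitone {S Q : Subgroup G} (h : S ≤ Q) {x : OA hP G} (hx : x ∈ fix hP Q) : x ∈ fix hP S :=
  mem_fix.mpr fun u hu => mem_fix.mp hx u (h hu)

theorem commute_iff_conjA {v : G} {x : OA hP G} : Commute (gen hP v) x ↔ conjA v x = x := by
  constructor
  · intro h
    rw [conjA, h.eq, mul_assoc, gen_cancel', mul_one]
  · intro h
    show gen hP v * x = x * gen hP v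
    conv_rhs => rw [← h, conjA, mul_assoc, gen_cancel, mul_one]

theorem conjA_mem_fix {Q : Subgroup G} {v : G} (hv : v ∈ Subgroup.normalizer (Q : Set G)) {x : OA hP G}
    (hx : x ∈ fix hP Q) : conjA v x ∈ fix hP Q := by
  refine mem_fix.mpr fun u hu => commute_iff_conjA.mpr ?_
  have h1 : v⁻¹ * u * v ∈ Q := by simpa using (Subgroup.mem_normalizer_iff.mp (inv_mem hv) u).mp hu
  have h2 := commute_iff_conjA.mp (mem_fix.mp hx _ h1)
  conv_rhs => rw [← h2, conjA_conjA]
  rw [conjA_conjA]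
  congr 1
  group

/-- Congruence modulo `M` on the centralizer of a subgroup. -/
def Eqv (S : Subgroup G) (x y : OA hP G) : Prop :=
  ∀ g ∈ Subgroup.centralizer (S : Set G), MemLocalIdeal M (co x g - co y g)

theorem Eqv.refl (S : Subgroup G) (x : OA hP G) : Eqv S x x := fun g _ => by
  rw [sub_self]; exact memLI_zero hP

theorem Eqv.symm {S : Subgroup G} {x y : OA hP G} (h : Eqv S x y) : Eqv S y x := fun g hg =>
  memLI_symm hP (h g hg)

theorem Eqv.trans {S : Subgroup G} {x y z : OA hP G} (h : Eqv S x y) (h' : Eqv S y z) : Eqv S x z :=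
  fun g hg => memLI_trans hP (h g hg) (h' g hg)

theorem Eqv.of_small_sub {x y : OA hP G} (h : Small (x - y)) (S : Subgroup G) : Eqv S x y := fun g _ => by
  have := h g
  rwa [co_sub] at this

theorem Eqv.sub {S : Subgroup G} {x x' y y' : OA hP G} (h : Eqv S x x') (h' : Eqv S y y') :
    Eqv S (x - y) (x' - y') := fun g hg => by
  rw [co_sub, co_sub, Pi.sub_apply, Pi.sub_apply, sub_sub_sub_comm]
  exact memLI_sub hP (h g hg) (h' g hg)

theorem Eqv.add {S : Subgroup G} {x x' y y' : OA hP G} (h : Eqv S x x') (h' : Eqv S y y') :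
    Eqv S (x + y) (x' + y') := fun g hg => by
  rw [co_add, co_add, Pi.add_apply, Pi.add_apply, add_sub_add_comm]
  exact memLI_add hP (h g hg) (h' g hg)

theorem eqv_sum {ι : Type*} {S : Subgroup G} (s : Finset ι) (f f' : ι → OA hP G)
    (h : ∀ i ∈ s, Eqv S (f i) (f' i)) : Eqv S (∑ i ∈ s, f i) (∑ i ∈ s, f' i) := fun g hg => by
  rw [co_sum, co_sum, Finset.sum_apply, Finset.sum_apply, ← Finset.sum_sub_distrib]
  exact memLI_sum hP _ _ fun i hi => h i hi g hg

theorem Eqv.mul (hM : IsPModular p M) {S : Subgroup G} (hS : IsPGroup p S)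
    {x x' y y' : OA (pmod_prime hM) G} (hx : x ∈ fix _ S) (hx' : x' ∈ fix _ S) (hy : y ∈ fix _ S)
    (hy' : y' ∈ fix _ S) (h : Eqv S x x') (h' : Eqv S y y') : Eqv S (x * y) (x' * y') := by
  have h1 : x - x' ∈ LocalIdem.kerS hM S := ⟨mem_fix.mp (sub_mem hx hx'), fun g hg => by
    rw [co_sub]; exact h g hg⟩
  have h2 : y - y' ∈ LocalIdem.kerS hM S := ⟨mem_fix.mp (sub_mem hy hy'), fun g hg => by
    rw [co_sub]; exact h' g hg⟩
  have h3 := (LocalIdem.kerS hM S).add_mem (LocalIdem.kerS_mul hM hS (mem_fix.mp hy) h1).2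
    (LocalIdem.kerS_mul hM hS (mem_fix.mp hx') h2).1
  intro g hg
  have h4 := h3.2 g hg
  rwa [show (x - x') * y + x' * (y - y') = x * y - x' * y' by rw [sub_mul, mul_sub]; abel, co_sub,
    Pi.sub_apply] at h4

section Elt

variable (hM : IsPModular p M)

open scoped Classical in
/-- The idempotent of a block of a centralizer, in the group algebra. -/
noncomputable def bElt (a : BrauerPairIdx G) : OA (pmod_prime hM) G :=
  if h : IsPBlock M a.2 then
    haveI := Fintype.ofFinite (Subgroup.centralizer (a.1 : Set G))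
    push (Subgroup.centralizer (a.1 : Set G)).subtype (blockElt hM h)
  else 0

theorem bElt_eq {Q : Subgroup G} [Fintype (Subgroup.centralizer (Q : Set G))]
    {f : Set (IrrCharacter (Subgroup.centralizer (Q : Set G)))} (hf : IsPBlock M f) :
    bElt hM ⟨Q, f⟩ = push (Subgroup.centralizer (Q : Set G)).subtype (blockElt hM hf) := by
  rw [bElt, dif_pos hf]
  convert rfl

theorem co_bElt {a : BrauerPairIdx G} (ha : IsPBlock M a.2) :
    co (bElt hM a) = subgroupBlockCoeff (Subgroup.centralizer (a.1 : Set G)) a.2 := by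
  obtain ⟨Q, f⟩ := a
  haveI := Fintype.ofFinite (Subgroup.centralizer (Q : Set G))
  funext g
  rw [bElt_eq hM ha, subgroupBlockCoeff_eq]
  by_cases hg : g ∈ Subgroup.centralizer (Q : Set G)
  · rw [extendByZero_mem _ _ hg]
    refine (co_push (Subgroup.centralizer (Q : Set G)).subtype Subtype.val_injective _ ⟨g, hg⟩).trans ?_
    rw [co_blockElt]
  · rw [extendByZero_not_mem _ _ hg, co_push_not_mem]
    rintro ⟨⟨x, hx⟩, rfl⟩
    exact hg hx

theorem isIdem_bElt (a : BrauerPairIdx G) : IsIdempotentElem (bElt hM a) := by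
  obtain ⟨Q, f⟩ := a
  haveI := Fintype.ofFinite (Subgroup.centralizer (Q : Set G))
  by_cases hf : IsPBlock M f
  · rw [bElt_eq hM hf]
    exact (isIdem_blockElt hM hf).map _
  · rw [bElt, dif_neg hf]
    exact IsIdempotentElem.zero

theorem conjA_bElt (w : G) {a : BrauerPairIdx G} (ha : IsPBlock M a.2) :
    conjA w (bElt hM a) = bElt hM (conjIdx w a) := by
  refine ext_co fun g => ?_
  rw [co_conjA, co_bElt hM ha, co_bElt hM (show IsPBlock M (conjIdx w a).2 from isPBlock_conjBlock w ha)]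
  rw [show (subgroupBlockCoeff (Subgroup.centralizer ((conjIdx w a).1 : Set G)) (conjIdx w a).2) g =
    subgroupBlockCoeff (Subgroup.centralizer ((conjIdx w a).1 : Set G)) (conjIdx w a).2
      (w * (w⁻¹ * g * w) * w⁻¹) by congr 1; group]
  exact (subgroupBlockCoeff_conj a.1 w a.2 _).symm

theorem commute_bElt_of_mem {Q : Subgroup G} {f : Set (IrrCharacter (Subgroup.centralizer (Q : Set G)))}
    {u : G} (hu : u ∈ Subgroup.centralizer (Q : Set G)) :
    Commute (gen (pmod_prime hM) u) (bElt hM ⟨Q, f⟩) := by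
  haveI := Fintype.ofFinite (Subgroup.centralizer (Q : Set G))
  by_cases hf : IsPBlock M f
  · rw [bElt_eq hM hf]
    have := ((commute_blockElt hM hf (gen (pmod_prime hM) ⟨u, hu⟩)).symm).map
      (push (Subgroup.centralizer (Q : Set G)).subtype)
    rwa [push_gen] at this
  · rw [bElt, dif_neg hf]
    exact Commute.zero_right _

theorem bElt_mem_fix {Q T : Subgroup G} {f : Set (IrrCharacter (Subgroup.centralizer (Q : Set G)))}
    (hT : T ≤ Subgroup.centralizer (Q : Set G)) : bElt hM ⟨Q, f⟩ ∈ fix _ T :=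
  mem_fix.mpr fun _ hu => commute_bElt_of_mem hM (hT hu)

theorem bElt_mem_fix_self {Q : Subgroup G} {f : Set (IrrCharacter (Subgroup.centralizer (Q : Set G)))} :
    bElt hM ⟨Q, f⟩ ∈ fix _ Q := by
  haveI := Fintype.ofFinite (Subgroup.centralizer (Q : Set G))
  refine mem_fix.mpr fun u hu => (commute_gen_iff u _).mpr fun g => ?_
  by_cases hf : IsPBlock M f
  · rw [co_bElt hM hf, subgroupBlockCoeff_eq]
    by_cases hg : g ∈ Subgroup.centralizer (Q : Set G)
    · rw [show u * g * u⁻¹ = g by rw [hg u hu]; group]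
    · rw [extendByZero_not_mem _ _ hg, extendByZero_not_mem]
      exact fun h => hg (by simpa [mul_assoc] using conj_mem_centralizer (inv_mem (Subgroup.le_normalizer hu)) h)
  · rw [bElt, dif_neg hf, co_zero, Pi.zero_apply, Pi.zero_apply]

theorem bElt_mem_fix_step {Q T : Subgroup G} {f : Set (IrrCharacter (Subgroup.centralizer (Q : Set G)))}
    (hf : IsPBlock M f) (hT : ∀ x ∈ T, conjIdx x (⟨Q, f⟩ : BrauerPairIdx G) = ⟨Q, f⟩) :
    bElt hM ⟨Q, f⟩ ∈ fix _ T :=
  mem_fix.mpr fun u hu => commute_iff_conjA.mpr (by rw [conjA_bElt hM u hf, hT u hu])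

theorem bElt_stable {Q T : Subgroup G} {f : Set (IrrCharacter (Subgroup.centralizer (Q : Set G)))}
    {r : Set (IrrCharacter (Subgroup.centralizer (T : Set G)))} (h : IsNormalSubpair p M Q f T r) :
    bElt hM ⟨Q, f⟩ ∈ fix _ T :=
  bElt_mem_fix_step hM h.1.2 fun _ hx =>
    ((stabCtx_pairStab hM h.1.1 h.1.2).fix (pmod_prime hM) (over_le_pairStab hM h hx))

/-- Block idempotents of a centralizer are central modulo `M` among the fixed points. -/
theorem eqv_central {S : Subgroup G} (hS : IsPGroup p S)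
    {f : Set (IrrCharacter (Subgroup.centralizer (S : Set G)))} {x : OA (pmod_prime hM) G} (hx : x ∈ fix _ S) :
    Eqv S (x * bElt hM ⟨S, f⟩) (bElt hM ⟨S, f⟩ * x) := by
  haveI := Fintype.ofFinite (Subgroup.centralizer (S : Set G))
  by_cases hf : IsPBlock M f
  · intro g hg
    have h1 := LocalIdem.res_mul hM hS (mem_fix.mp hx) (mem_fix.mp (bElt_mem_fix_self hM (f := f))) ⟨g, hg⟩
    have h2 := LocalIdem.res_mul hM hS (mem_fix.mp (bElt_mem_fix_self hM (f := f))) (mem_fix.mp hx) ⟨g, hg⟩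
    have e : IdemSub.res (Subgroup.centralizer (S : Set G)) (bElt hM ⟨S, f⟩) = blockElt hM hf := by
      rw [bElt_eq hM hf]; exact LocalIdem.res_emb hM _
    rw [e] at h1 h2
    rw [(commute_blockElt hM hf _).eq] at h2
    simp only [co_res] at h1 h2
    exact memLI_trans (pmod_prime hM) h1 (memLI_symm (pmod_prime hM) h2)
  · rw [bElt, dif_neg hf, mul_zero, zero_mul]
    exact Eqv.refl _ _

/-- Above a normal step the smaller block idempotent fixes the larger one. -/
theorem eqv_step {S R : Subgroup G} {f : Set (IrrCharacter (Subgroup.centralizer (S : Set G)))}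
    {r : Set (IrrCharacter (Subgroup.centralizer (R : Set G)))} (h : IsNormalSubpair p M S f R r) :
    Eqv R (bElt hM ⟨R, r⟩ * bElt hM ⟨S, f⟩) (bElt hM ⟨R, r⟩) := by
  haveI := Fintype.ofFinite (Subgroup.centralizer (S : Set G))
  haveI := Fintype.ofFinite (Subgroup.centralizer (R : Set G))
  have hP := pmod_prime hM
  have hf := h.1.2
  have hr := h.2.1.2
  have hR := h.2.1.1
  have hfR := bElt_stable hM h
  intro g hg
  have h1 := LocalIdem.res_mul hM hR (mem_fix.mp (bElt_mem_fix_self hM (f := r))) (mem_fix.mp hfR) ⟨g, hg⟩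
  have e : IdemSub.res (Subgroup.centralizer (R : Set G)) (bElt hM ⟨R, r⟩) = blockElt hM hr := by
    rw [bElt_eq hM hr]; exact LocalIdem.res_emb hM _
  rw [e, co_res] at h1
  have hCle : Subgroup.centralizer (R : Set G) ≤ Subgroup.centralizer (S : Set G) :=
    Subgroup.centralizer_le h.2.2.1
  have hcoF : ∀ k : Subgroup.centralizer (R : Set G), co (IdemSub.res (Subgroup.centralizer (R : Set G)) (bElt hM ⟨S, f⟩)) k =
      blockCoeff f (⟨(k : G), hCle k.2⟩ : Subgroup.centralizer (S : Set G)) := fun k => by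
    rw [co_res, co_bElt hM hf, subgroupBlockCoeff_eq, extendByZero_mem (Subgroup.centralizer (S : Set G)) _ (hCle k.2)]
  refine memLI_trans hP h1 (memLI_trans hP (LocalIdem.blockElt_mul_congr hM hr _ ?_ ?_ ?_ ⟨g, hg⟩) ?_)
  · intro a k
    rw [hcoF, hcoF]
    exact isClassFunction_blockCoeff f (⟨(a : G), hCle a.2⟩ : Subgroup.centralizer (S : Set G)) ⟨(k : G), hCle k.2⟩
  · intro k
    have := LocalIdem.res_mul hM hR (mem_fix.mp hfR) (mem_fix.mp hfR) k
    rw [(isIdem_bElt hM ⟨S, f⟩).eq] at this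
    exact memLI_symm hP this
  · intro ξ hξ
    have := h.2.2.2.2.2 ξ hξ
    rw [brauerOmega_eq, subgroupBlockCoeff_eq] at this
    convert this using 3
    funext k
    rw [hcoF, tr_apply, extendByZero_mem (Subgroup.centralizer (S : Set G)) _ (hCle k.2)]
  · rw [← e, co_res, sub_self]
    exact memLI_zero hP

variable {Q : Subgroup G}

/-- The image on `C(Q)` lies in one block. -/
def Single (j : OA (pmod_prime hM) G) (Q : Subgroup G)
    (f : Set (IrrCharacter (Subgroup.centralizer (Q : Set G)))) : Prop :=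
  Eqv Q (j * bElt hM ⟨Q, f⟩) j

variable {j : OA (pmod_prime hM) G}

/-- An element of the corner equal to zero on `C(Q)` modulo `M` is nilpotent. -/
theorem nil_of_eqv_zero (hQ : IsPGroup p Q) (hj : Min (fix _ Q) j) (hnz : ¬ Eqv Q j 0)
    {x : OA (pmod_prime hM) G} (hx : Corner (fix _ Q) j x) (h0 : Eqv Q x 0) : Nil x := by
  by_contra hnil
  obtain ⟨w, hw, hxw, -⟩ := exists_inv hj hx hnil
  refine hnz ?_
  have := h0.mul hM hQ hx.mem (zero_mem _) hw.mem hw.mem (Eqv.refl Q w)
  rwa [hxw, zero_mul] at this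

theorem eqv_pow (hQ : IsPGroup p Q) {z : OA (pmod_prime hM) G} (hz : z ∈ fix _ Q) (h : Eqv Q (z * z) z) (n : ℕ) :
    Eqv Q (z ^ (n + 1)) z := by
  induction n with
  | zero => rw [pow_one]; exact Eqv.refl _ _
  | succ n ih =>
    rw [pow_succ]
    exact (ih.mul hM hQ (pow_mem hz _) hz hz hz (Eqv.refl Q z)).trans h

theorem exists_single (hQ : IsPGroup p Q) (hj : Min (fix _ Q) j) (hnz : ¬ Eqv Q j 0) :
    ∃ f : Set (IrrCharacter (Subgroup.centralizer (Q : Set G))), IsPBlock M f ∧ Single hM j Q f := by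
  classical
  haveI := Fintype.ofFinite (Subgroup.centralizer (Q : Set G))
  have hP := pmod_prime hM
  obtain ⟨f, hf, hne⟩ : ∃ f : Set (IrrCharacter (Subgroup.centralizer (Q : Set G))), IsPBlock M f ∧
      ¬ Eqv Q (j * bElt hM ⟨Q, f⟩) 0 := by
    by_contra hne
    push Not at hne
    refine hnz ?_
    have hsum : ∑ f ∈ (Finset.univ : Finset (IrrCharacter (Subgroup.centralizer (Q : Set G)))).image
        (fun χ : IrrCharacter (Subgroup.centralizer (Q : Set G)) => blockOf M (χ : _ → ℂ)),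
        bElt hM (⟨Q, f⟩ : BrauerPairIdx G) = 1 := by
      have h1 : ∑ f ∈ (Finset.univ : Finset (IrrCharacter (Subgroup.centralizer (Q : Set G)))).image
          (fun χ : IrrCharacter (Subgroup.centralizer (Q : Set G)) => blockOf M (χ : _ → ℂ)),
          co (bElt hM (⟨Q, f⟩ : BrauerPairIdx G)) =
          fun g => extendByZero (Subgroup.centralizer (Q : Set G)) delta g := by
        funext g
        rw [Finset.sum_apply, delta_eq_sum_blocks hP]
        rw [Finset.sum_congr rfl (g := fun f => extendByZero (Subgroup.centralizer (Q : Set G)) (blockCoeff f) g) fun f hf => by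
          obtain ⟨χ, -, rfl⟩ := Finset.mem_image.mp hf
          rw [co_bElt hM (a := ⟨Q, blockOf M (χ : _ → ℂ)⟩) (isPBlock_blockOf M χ), subgroupBlockCoeff_eq]]
        by_cases hg : g ∈ Subgroup.centralizer (Q : Set G)
        · simp only [extendByZero_mem _ _ hg, Finset.sum_apply]
        · simp [extendByZero_not_mem _ _ hg]
      refine ext_co fun g => ?_
      rw [co_sum, h1, co_one]
      show extendByZero (Subgroup.centralizer (Q : Set G)) delta g = delta g
      by_cases hg : g ∈ Subgroup.centralizer (Q : Set G)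
      · rw [extendByZero_mem _ _ hg, delta_apply, delta_apply]
        simp only [Subgroup.mk_eq_one]
      · rw [extendByZero_not_mem _ _ hg, delta_apply, if_neg fun h : g = 1 => hg (h ▸ one_mem _)]
    rw [← mul_one j, ← hsum, Finset.mul_sum]
    refine (eqv_sum _ _ (fun _ => 0) fun f hf => ?_).trans (by rw [Finset.sum_const_zero]; exact Eqv.refl _ _)
    obtain ⟨χ, -, rfl⟩ := Finset.mem_image.mp hf
    exact hne _ (isPBlock_blockOf M χ)
  refine ⟨f, hf, ?_⟩
  set X := bElt hM (⟨Q, f⟩ : BrauerPairIdx G) with hX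
  have hXf : X ∈ fix hP Q := bElt_mem_fix_self hM
  have hy : Corner (fix hP Q) j (j * X * j) := Corner.sandwich hj.mem hj.idem hXf
  have hc : Eqv Q (j * X * j) (j * X) := by
    have h1 := (eqv_central hM hQ (f := f) hj.mem).symm
    have h2 := (Eqv.refl Q j).mul hM hQ hj.mem hj.mem (mul_mem hXf hj.mem) (mul_mem hj.mem hXf) h1
    rwa [← mul_assoc, ← mul_assoc, hj.idem.eq] at h2
  have hyy : Eqv Q (j * X * j * (j * X * j)) (j * X * j) := by
    have h1 := hc.mul hM hQ hy.mem (mul_mem hj.mem hXf) hy.mem hy.mem (Eqv.refl Q (j * X * j))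
    refine h1.trans ?_
    have h2 := (eqv_central hM hQ (f := f) hj.mem).mul hM hQ (mul_mem hj.mem hXf) (mul_mem hXf hj.mem)
      hy.mem hy.mem (Eqv.refl Q (j * X * j))
    refine h2.trans ?_
    have e : X * j * (j * X * j) = X * (j * X * j) := by
      rw [mul_assoc X j, hy.left]
    rw [e]
    have h3 := (Eqv.refl Q X).mul hM hQ hXf hXf hy.mem (mul_mem hj.mem hXf) hc
    refine h3.trans ?_
    have h4 := (eqv_central hM hQ (f := f) hj.mem).symm.mul hM hQ (mul_mem hXf hj.mem) (mul_mem hj.mem hXf)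
      hXf hXf (Eqv.refl Q X)
    rw [mul_assoc X j X] at h4
    refine h4.trans ?_
    rw [mul_assoc, (isIdem_bElt hM ⟨Q, f⟩).eq]
    exact hc.symm
  obtain ⟨w, hw, hyw, -⟩ := exists_inv hj hy fun ⟨N, hN⟩ => hne (hc.symm.trans ((eqv_pow hM hQ hy.mem hyy N).symm.trans
    (Eqv.of_small_sub (by rw [sub_zero, pow_succ]; exact hN.mul_right _) Q)))
  refine hc.symm.trans ?_
  have h := hyy.mul hM hQ (mul_mem hy.mem hy.mem) hy.mem hw.mem hw.mem (Eqv.refl Q w)
  rwa [mul_assoc, hyw, hy.right] at h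

theorem single_step (hQ : IsPGroup p Q) (hj : j ∈ fix _ Q) {S R : Subgroup G}
    {f : Set (IrrCharacter (Subgroup.centralizer (S : Set G)))}
    {r : Set (IrrCharacter (Subgroup.centralizer (R : Set G)))} (hRQ : R ≤ Q) (h : IsNormalSubpair p M S f R r)
    (hs : Single hM j R r) : Eqv R (j * bElt hM ⟨S, f⟩) j := by
  have hR := hQ.to_le hRQ
  have hjR := fix_antitone hRQ hj
  have hX := bElt_stable hM h
  have hY : bElt hM ⟨R, r⟩ ∈ fix _ R := bElt_mem_fix_self hM
  have h1 := hs.symm.mul hM hR hjR (mul_mem hjR hY) hX hX (Eqv.refl R (bElt hM ⟨S, f⟩))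
  rw [mul_assoc] at h1
  exact h1.trans (((Eqv.refl R j).mul hM hR hjR hjR (mul_mem hY hX) hY (eqv_step hM h)).trans hs)

open scoped Classical in
/-- Below its block on `C(Q)` a minimal idempotent lies in the block below. -/
theorem single_below (hQ : IsPGroup p Q) (hj : Min (fix _ Q) j) (hnz : ¬ Eqv Q j 0)
    {b : Set (IrrCharacter (Subgroup.centralizer (Q : Set G)))} (hb : IsPBlock M b) (hs : Single hM j Q b)
    {S : Subgroup G} (hSQ : S ≤ Q) {f : Set (IrrCharacter (Subgroup.centralizer (S : Set G)))}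
    (hf : SubpairLE p M S f Q b) : Single hM j S f := by
  suffices key : ∀ (n : ℕ) (S : Subgroup G), Nat.card Q - Nat.card S = n → S ≤ Q →
      ∀ f : Set (IrrCharacter (Subgroup.centralizer (S : Set G))), SubpairLE p M S f Q b → Single hM j S f from
    key _ S rfl hSQ f hf
  intro n
  induction n using Nat.strong_induction_on with
  | _ n ih =>
  intro S hn hSQ f hf
  have hP := pmod_prime hM
  haveI := Fact.mk hM.1
  have hQb : IsBrauerPair p M Q b := ⟨hQ, hb⟩
  have hS := hQ.to_le hSQ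
  rcases hSQ.eq_or_lt with rfl | hlt
  · obtain rfl : f = b := (existsUnique_subpair hM hQb le_rfl).unique
      ⟨(isBrauerPair_of_le hQb hf).2, hf⟩ ⟨hb, Relation.ReflTransGen.refl⟩
    exact hs
  -- normalizers grow
  have hgrow : ∀ C : Subgroup G, S < C → C ≤ Q → S < C ⊓ Subgroup.normalizer (S : Set G) := by
    intro C hSC hCQ
    refine lt_of_le_of_ne (le_inf hSC.le Subgroup.le_normalizer) fun he => ?_
    haveI := (hQ.to_le hCQ).isNilpotent
    have h1 := Group.normalizerCondition_of_isNilpotent (G := C) (S.subgroupOf C) (lt_of_le_of_ne le_top fun h => by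
      rw [Subgroup.subgroupOf_eq_top] at h
      exact hSC.not_ge h)
    obtain ⟨x, hx, hxS⟩ := SetLike.exists_of_lt h1
    refine hxS ?_
    rw [Subgroup.mem_subgroupOf, he]
    refine ⟨x.2, Subgroup.mem_normalizer_iff.mpr fun y => ?_⟩
    have h2 := Subgroup.mem_normalizer_iff.mp hx
    constructor
    · intro hy
      simpa [Subgroup.mem_subgroupOf] using (h2 ⟨y, hSC.le hy⟩).mp (by simpa [Subgroup.mem_subgroupOf] using hy)
    · intro hy
      have hyC : y ∈ C := by
        simpa [mul_assoc] using mul_mem (mul_mem (inv_mem x.2) (hSC.le hy)) x.2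
      simpa [Subgroup.mem_subgroupOf] using (h2 ⟨y, hyC⟩).mpr (by simpa [Subgroup.mem_subgroupOf] using hy)
  have hjS := fix_antitone hSQ hj.mem
  set X := bElt hM (⟨S, f⟩ : BrauerPairIdx G) with hX
  have hfb : IsPBlock M f := (isBrauerPair_of_le hQb hf).2
  have hXS : X ∈ fix hP S := bElt_mem_fix_self hM
  have hX1 : (1 : OA hP G) - X ∈ fix hP S := sub_mem (one_mem _) hXS
  set z := j * (1 - X) * j with hz
  have hzS : z ∈ fix hP S := mul_mem (mul_mem hjS hX1) hjS
  -- `z` vanishes where the stabilizer in `Q` is larger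
  have hzero : ∀ g ∈ Subgroup.centralizer (S : Set G), S < Q ⊓ Subgroup.centralizer ({g} : Set G) →
      MemLocalIdeal M (co z g) := by
    intro g hg hlt'
    set R := Q ⊓ Subgroup.centralizer ({g} : Set G) ⊓ Subgroup.normalizer (S : Set G) with hR
    have hSR : S < R := hgrow _ hlt' inf_le_left
    have hRQ : R ≤ Q := inf_le_left.trans inf_le_left
    obtain ⟨r, hr, hrQ⟩ := over_below hM hQb hf hRQ hSR.le inf_le_right
    have hsR : Single hM j R r := by
      refine ih _ ?_ R rfl hRQ r hrQ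
      rw [← hn]
      have h1 : Nat.card S < Nat.card R := Set.Finite.card_lt_card (Set.toFinite _) hSR
      have h2 := Subgroup.card_le_of_le hRQ
      omega
    have hstep := single_step hM hQ hj.mem hRQ hr hsR
    have hjR := fix_antitone hRQ hj.mem
    have hXR := bElt_stable hM hr
    have hR' := hQ.to_le hRQ
    have h1 : Eqv R (j * (1 - X)) 0 := by
      have := (Eqv.refl R j).sub hstep
      rwa [sub_self, ← mul_one_sub] at this
    have h2 := h1.mul hM hR' (mul_mem hjR (sub_mem (one_mem _) hXR)) (zero_mem _) hjR hjR (Eqv.refl R j)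
    rw [zero_mul, ← hz] at h2
    have hgR : g ∈ Subgroup.centralizer (R : Set G) := fun y hy =>
      (Subgroup.mem_centralizer_singleton_iff.mp hy.1.2)
    have := h2 g hgR
    rwa [co_zero, Pi.zero_apply, sub_zero] at this
  set T := Q ⊓ Subgroup.normalizer (S : Set G) with hT
  have hXT : X ∈ fix hP T := by
    obtain ⟨g, hg, -⟩ := over_normalizerIn hM hQb hf
    exact bElt_stable hM hg
  have hzT : z ∈ fix hP T := mul_mem (mul_mem (fix_antitone inf_le_left hj.mem) (sub_mem (one_mem _) hXT))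
    (fix_antitone inf_le_left hj.mem)
  -- transport `z` along the conjugates
  let st : G → Subgroup G := fun g => Q ⊓ Subgroup.centralizer ({g} : Set G)
  have hst : ∀ y ∈ Q, ∀ g, st (y * g * y⁻¹) = (st g).map (MulAut.conj y).toMonoidHom := by
    intro y hy g
    ext x
    simp only [st, Subgroup.mem_inf, Subgroup.mem_centralizer_singleton_iff, Subgroup.mem_map]
    constructor
    · rintro ⟨hx, hxg⟩
      refine ⟨y⁻¹ * x * y, ⟨mul_mem (mul_mem (inv_mem hy) hx) hy, ?_⟩, ?_⟩
      · calc y⁻¹ * x * y * g = y⁻¹ * (x * (y * g * y⁻¹)) * y := by group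
          _ = y⁻¹ * (y * g * y⁻¹ * x) * y := by rw [hxg]
          _ = g * (y⁻¹ * x * y) := by group
      · show y * (y⁻¹ * x * y) * y⁻¹ = x
        group
    · rintro ⟨x', ⟨hx', hxg⟩, rfl⟩
      refine ⟨mul_mem (mul_mem hy hx') (inv_mem hy), ?_⟩
      show y * x' * y⁻¹ * (y * g * y⁻¹) = y * g * y⁻¹ * (y * x' * y⁻¹)
      calc y * x' * y⁻¹ * (y * g * y⁻¹) = y * (x' * g) * y⁻¹ := by group
        _ = y * (g * x') * y⁻¹ := by rw [hxg]
        _ = _ := by group
  let A0f : G → ℂ := fun g => if h : ∃ y ∈ Q, st (y * g * y⁻¹) = S then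
    co z (h.choose * g * h.choose⁻¹) else 0
  have hA0v : ∀ g y, y ∈ Q → st (y * g * y⁻¹) = S → A0f g = co z (y * g * y⁻¹) := by
    intro g y hy hyS
    have hex : ∃ y ∈ Q, st (y * g * y⁻¹) = S := ⟨y, hy, hyS⟩
    simp only [A0f, dif_pos hex]
    obtain ⟨hc, hcS⟩ := hex.choose_spec
    set t := y * hex.choose⁻¹ with ht
    have htQ : t ∈ Q := mul_mem hy (inv_mem hc)
    have htT : t ∈ T := by
      refine ⟨htQ, Subgroup.mem_normalizer_iff_map_conj_eq.mpr ?_⟩
      have h1 := hst t htQ (hex.choose * g * hex.choose⁻¹)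
      rw [hcS] at h1
      rw [show t * (hex.choose * g * hex.choose⁻¹) * t⁻¹ = y * g * y⁻¹ by rw [ht]; group, hyS] at h1
      exact h1.symm
    rw [← (commute_gen_iff t z).mp (mem_fix.mp hzT t htT) (hex.choose * g * hex.choose⁻¹)]
    congr 1
    rw [ht]
    group
  have hA0R : ∀ g, MemLocalRing M (A0f g) := fun g => by
    simp only [A0f]
    split_ifs
    exacts [memLR_co z _, memLR_zero hP]
  set A0 := ofFun hP A0f hA0R with hA0
  have hA0Q : A0 ∈ fix hP Q := by
    refine mem_fix.mpr fun t ht => (commute_gen_iff t A0).mpr fun g => ?_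
    rw [hA0, co_ofFun]
    by_cases hex : ∃ y ∈ Q, st (y * g * y⁻¹) = S
    · obtain ⟨y, hy, hyS⟩ := hex
      rw [hA0v g y hy hyS, hA0v (t * g * t⁻¹) (y * t⁻¹) (mul_mem hy (inv_mem ht)) (by
        rw [← hyS]; congr 1; group)]
      congr 1
      group
    · have hex' : ¬ ∃ y ∈ Q, st (y * (t * g * t⁻¹) * y⁻¹) = S := fun ⟨y, hy, hyS⟩ =>
        hex ⟨y * t, mul_mem hy ht, by rw [← hyS]; congr 1; group⟩
      simp only [A0f, dif_neg hex, dif_neg hex']
  have hA0top : Eqv Q A0 0 := by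
    intro g hg
    rw [hA0, co_ofFun, co_zero, Pi.zero_apply, sub_zero]
    simp only [A0f]
    split_ifs with hex
    · exfalso
      obtain ⟨hy, hyS⟩ := hex.choose_spec
      refine hlt.not_ge (hyS ▸ le_inf le_rfl fun x hx => Subgroup.mem_centralizer_singleton_iff.mpr ?_)
      rw [show hex.choose * g * hex.choose⁻¹ = g by rw [hg _ hy]; group]
      exact hg x hx
    · exact memLI_zero hP
  have hA0S : Eqv S A0 z := by
    intro g hg
    rw [hA0, co_ofFun]
    have hle : S ≤ st g := le_inf hlt.le fun x hx =>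
      Subgroup.mem_centralizer_singleton_iff.mpr (hg x hx)
    rcases hle.eq_or_lt with he | hlt'
    · rw [hA0v g 1 (one_mem Q) (by simp [← he]), one_mul, inv_one, mul_one, sub_self]
      exact memLI_zero hP
    · have hex : ¬ ∃ y ∈ Q, st (y * g * y⁻¹) = S := by
        rintro ⟨y, hy, hyS⟩
        rw [hst y hy g] at hyS
        have h1 : Nat.card S < Nat.card (st g) := Set.Finite.card_lt_card (Set.toFinite _) hlt'
        have h2 : Nat.card ((st g).map (MulAut.conj y).toMonoidHom) = Nat.card (st g) :=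
          Subgroup.card_map_of_injective (MulEquiv.injective _)
        rw [hyS] at h2
        omega
      simp only [A0f, dif_neg hex, zero_sub]
      exact memLI_neg hP (hzero g hg hlt')
  have hAc : Corner (fix hP Q) j (j * A0 * j) := Corner.sandwich hj.mem hj.idem hA0Q
  have hAnil : Nil (j * A0 * j) := by
    refine nil_of_eqv_zero hM hQ hj hnz hAc ?_
    have h1 := ((Eqv.refl Q j).mul hM hQ hj.mem hj.mem hA0Q (zero_mem _) hA0top).mul hM hQ
      (mul_mem hj.mem hA0Q) (mul_mem hj.mem (zero_mem _)) hj.mem hj.mem (Eqv.refl Q j)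
    rwa [mul_zero, zero_mul] at h1
  have hA0S' := fix_antitone hSQ hA0Q
  have hAz : Eqv S (j * A0 * j) z := by
    have h1 := ((Eqv.refl S j).mul hM hS hjS hjS hA0S' hzS hA0S).mul hM hS (mul_mem hjS hA0S')
      (mul_mem hjS hzS) hjS hjS (Eqv.refl S j)
    rwa [show j * z * j = z by rw [hz, ← mul_assoc, ← mul_assoc, hj.idem.eq, mul_assoc _ j j, hj.idem.eq]] at h1
  have hc : Eqv S z (j * (1 - X)) := by
    have h0 : Eqv S (j * (1 - X)) ((1 - X) * j) := by
      rw [mul_one_sub, one_sub_mul]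
      exact (Eqv.refl S j).sub (eqv_central hM hS hjS)
    have h1 := h0.symm
    have h2 := (Eqv.refl S j).mul hM hS hjS hjS (mul_mem hX1 hjS) (mul_mem hjS hX1) h1
    rwa [← mul_assoc, ← mul_assoc, hj.idem.eq, ← hz] at h2
  have hzz : Eqv S (z * z) z := by
    have h1 := hc.mul hM hS hzS (mul_mem hjS hX1) hzS (mul_mem hjS hX1) hc
    refine h1.trans (Eqv.trans ?_ hc.symm)
    have h3 : Eqv S ((1 - X) * j) (j * (1 - X)) := by
      rw [mul_one_sub, one_sub_mul]
      exact (Eqv.refl S j).sub (eqv_central hM hS hjS).symm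
    have h4 := ((Eqv.refl S j).mul hM hS hjS hjS (mul_mem hX1 hjS) (mul_mem hjS hX1) h3).mul hM hS
      (mul_mem hjS (mul_mem hX1 hjS)) (mul_mem hjS (mul_mem hjS hX1)) hX1 hX1 (Eqv.refl S (1 - X))
    have e1 : j * ((1 - X) * j) * (1 - X) = j * (1 - X) * (j * (1 - X)) := by simp only [mul_assoc]
    have e2 : j * (j * (1 - X)) * (1 - X) = j * (1 - X) := by
      rw [← mul_assoc, hj.idem.eq, mul_assoc, (isIdem_bElt hM ⟨S, f⟩).one_sub.eq]
    rwa [e1, e2] at h4
  obtain ⟨N, hN⟩ := hAnil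
  have hAA : Eqv S ((j * A0 * j) ^ (N + 1)) (z ^ (N + 1)) := by
    have hAS := fix_antitone hSQ hAc.mem
    suffices h : ∀ m : ℕ, Eqv S ((j * A0 * j) ^ m) (z ^ m) from h _
    intro m
    induction m with
    | zero => rw [pow_zero, pow_zero]; exact Eqv.refl _ _
    | succ m ih =>
      rw [pow_succ, pow_succ]
      exact ih.mul hM hS (pow_mem hAS _) (pow_mem hzS _) hAS hzS hAz
  have hz0 : Eqv S z 0 := (eqv_pow hM hS hzS hzz N).symm.trans (hAA.symm.trans
    (Eqv.of_small_sub (by rw [sub_zero, pow_succ]; exact hN.mul_right _) S))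
  have h5 := (Eqv.refl S j).sub (hc.symm.trans hz0)
  rwa [mul_one_sub, sub_sub_cancel, sub_zero] at h5

open scoped Classical in
/-- A minimal idempotent vanishing on `C(Q)` is a relative trace from a normal subgroup of index `p`. -/
theorem exists_trace (hQ : IsPGroup p Q) (hj : Min (fix _ Q) j) (hz : Eqv Q j 0) :
    ∃ (T : Subgroup G) (v : G) (a : OA (pmod_prime hM) G), T ≤ Q ∧ T.relIndex Q = p ∧
      Q ≤ Subgroup.normalizer (T : Set G) ∧ v ∈ Q ∧ v ∉ T ∧ Corner (fix _ T) j a ∧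
      ∑ i ∈ Finset.range p, conjA (v ^ i) a = j ∧
      ∀ u ∈ Q, u ∉ T → Eqv (Subgroup.zpowers u) j 0 := by
  have hP := pmod_prime hM
  haveI := Fact.mk hM.1
  have hne : ∃ R : Subgroup G, R ≤ Q ∧ ¬ Eqv R j 0 := by
    refine ⟨⊥, bot_le, fun h => hj.ne (idem_small_eq_zero hj.idem fun g => ?_)⟩
    have := h g (fun x hx => by rw [(Subgroup.mem_bot).mp hx, one_mul, mul_one])
    rwa [co_zero, Pi.zero_apply, sub_zero] at this
  obtain ⟨R, ⟨hRQ, hR⟩, hmax⟩ := Set.exists_max_image {R : Subgroup G | R ≤ Q ∧ ¬ Eqv R j 0}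
    (fun R => Nat.card R) (Set.toFinite _) hne
  have hlt : R < Q := lt_of_le_of_ne hRQ fun h => hR (h ▸ hz)
  obtain ⟨T0, hT0⟩ : ∃ T0 : Subgroup Q, R.subgroupOf Q ≤ T0 ∧ T0.index = p := by
    obtain ⟨n, hn⟩ := IsPGroup.iff_card.mp hQ
    obtain ⟨m, hm⟩ := IsPGroup.iff_card.mp (hQ.to_le hRQ)
    have hm' : Nat.card (R.subgroupOf Q) = p ^ m := by
      rw [Nat.card_congr (Subgroup.subgroupOfEquivOfLe hRQ).toEquiv, hm]
    have hlt' : p ^ m < p ^ n := by
      rw [← hm, ← hn]; exact Set.Finite.card_lt_card (Set.toFinite _) hlt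
    have hmn : m < n := (Nat.pow_lt_pow_iff_right hM.1.one_lt).mp hlt'
    obtain ⟨T0, hT0c, hT0R⟩ := Sylow.exists_subgroup_card_pow_prime_le (G := Q) p (n := m) (m := n - 1)
      (by rw [hn]; exact pow_dvd_pow _ (Nat.sub_le n 1)) (R.subgroupOf Q) hm' (by omega)
    refine ⟨T0, hT0R, ?_⟩
    have h1 := T0.card_mul_index
    rw [hT0c, hn, show p ^ n = p ^ (n - 1) * p by rw [← pow_succ, Nat.sub_add_cancel (by omega : 1 ≤ n)]] at h1
    exact Nat.eq_of_mul_eq_mul_left (pow_pos hM.1.pos _) h1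
  obtain ⟨hT0R, hT0i⟩ := hT0
  haveI hT0n : T0.Normal := Subgroup.normal_of_index_eq_minFac_card (by
    obtain ⟨n, hn⟩ := IsPGroup.iff_card.mp hQ
    have hn0 : n ≠ 0 := by
      rintro rfl
      have := T0.index_dvd_card
      rw [hT0i, hn, pow_zero, Nat.dvd_one] at this
      exact hM.1.ne_one this
    rw [hT0i, hn, hM.1.pow_minFac hn0])
  set T := T0.map Q.subtype with hT
  have hTQ : T ≤ Q := Subgroup.map_subtype_le _
  have hmemT : ∀ x : Q, (x : G) ∈ T ↔ x ∈ T0 := fun x => by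
    rw [hT]; exact Subgroup.mem_map_iff_mem Subtype.val_injective
  have hRT : R ≤ T := fun x hx => (hmemT ⟨x, hRQ hx⟩).mpr (hT0R hx)
  have hTN : Q ≤ Subgroup.normalizer (T : Set G) := fun y hy => Subgroup.mem_normalizer_iff.mpr fun x => by
    constructor
    · intro hx
      exact (hmemT (⟨y, hy⟩ * ⟨x, hTQ hx⟩ * ⟨y, hy⟩⁻¹)).mpr (hT0n.conj_mem _ ((hmemT ⟨x, hTQ hx⟩).mp hx) _)
    · intro hx
      have := (hmemT (⟨y, hy⟩⁻¹ * ⟨y * x * y⁻¹, hTQ hx⟩ * (⟨y, hy⟩⁻¹)⁻¹)).mpr
        (hT0n.conj_mem _ ((hmemT ⟨y * x * y⁻¹, hTQ hx⟩).mp hx) _)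
      simpa [mul_assoc] using this
  obtain ⟨v0, hv0⟩ : ∃ v0 : Q, v0 ∉ T0 := by
    by_contra h
    push Not at h
    rw [show T0 = ⊤ from eq_top_iff.mpr fun x _ => h x, Subgroup.index_top] at hT0i
    exact hM.1.ne_one hT0i.symm
  set v : G := (v0 : G) with hv
  have hvQ : v ∈ Q := v0.2
  -- cosets of `T`
  have hcard : Nat.card (Q ⧸ T0) = p := by rw [← Subgroup.index_eq_card, hT0i]
  have hcos : ∀ y ∈ Q, ∃! i, i < p ∧ (v ^ i)⁻¹ * y ∈ T := by
    intro y hy
    set q : Q ⧸ T0 := QuotientGroup.mk v0 with hq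
    have hq1 : q ≠ 1 := fun h => hv0 ((QuotientGroup.eq_one_iff v0).mp h)
    have hord : orderOf q = p := by
      rcases hM.1.eq_one_or_self_of_dvd _ (hcard ▸ orderOf_dvd_natCard q) with h | h
      · exact absurd (orderOf_eq_one_iff.mp h) hq1
      · exact h
    have htop : Subgroup.zpowers q = ⊤ := Subgroup.eq_top_of_card_eq _ (by rw [Nat.card_zpowers, hord, hcard])
    have hiff : ∀ i : ℕ, (v ^ i)⁻¹ * y ∈ T ↔ q ^ i = QuotientGroup.mk ⟨y, hy⟩ := fun i => by
      rw [hq, ← QuotientGroup.mk_pow, QuotientGroup.eq, ← hmemT]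
      rfl
    obtain ⟨i, hi, hiq⟩ : ∃ i, i < p ∧ q ^ i = QuotientGroup.mk ⟨y, hy⟩ := by
      obtain ⟨i, hi⟩ := (isOfFinOrder_of_finite q).mem_powers_iff_mem_zpowers.mpr
        (htop ▸ Subgroup.mem_top (QuotientGroup.mk ⟨y, hy⟩ : Q ⧸ T0))
      exact ⟨i % p, Nat.mod_lt _ hM.1.pos, by rw [← hord, pow_mod_orderOf]; exact hi⟩
    refine ⟨i, ⟨hi, (hiff i).mpr hiq⟩, fun i' hi' => ?_⟩
    exact pow_injOn_Iio_orderOf (hord.symm ▸ hi'.1 : i' < orderOf q) (hord.symm ▸ hi : i < orderOf q)
      (((hiff i').mp hi'.2).trans hiq.symm)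
  -- the truncation
  let st : G → Subgroup G := fun g => Q ⊓ Subgroup.centralizer ({g} : Set G)
  have hst : ∀ y ∈ Q, ∀ g x, x ∈ st g → y * x * y⁻¹ ∈ st (y * g * y⁻¹) := by
    rintro y hy g x ⟨hx, hxg⟩
    refine Subgroup.mem_inf.mpr ⟨mul_mem (mul_mem hy hx) (inv_mem hy), Subgroup.mem_centralizer_singleton_iff.mpr ?_⟩
    have hxg' := Subgroup.mem_centralizer_singleton_iff.mp hxg
    calc y * x * y⁻¹ * (y * g * y⁻¹) = y * (x * g) * y⁻¹ := by group
      _ = y * (g * x) * y⁻¹ := by rw [hxg']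
      _ = _ := by group
  let P0 : G → Prop := fun g => ∃ y ∈ Q, ∀ x, x ∈ st g ↔ y⁻¹ * x * y ∈ R
  have hP0conj : ∀ t ∈ Q, ∀ g, P0 g → P0 (t * g * t⁻¹) := by
    rintro t ht g ⟨y, hy, hyR⟩
    refine ⟨t * y, mul_mem ht hy, fun x => ?_⟩
    rw [show (t * y)⁻¹ * x * (t * y) = y⁻¹ * (t⁻¹ * x * t) * y by group, ← hyR]
    constructor
    · intro hx
      have := hst t⁻¹ (inv_mem ht) _ x hx
      rwa [show t⁻¹ * (t * g * t⁻¹) * t⁻¹⁻¹ = g by group, inv_inv] at this
    · intro hx
      have := hst t ht _ _ hx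
      rwa [show t * (t⁻¹ * x * t) * t⁻¹ = x by group] at this
  have hPT : ∀ g, P0 g → st g ≤ T := by
    rintro g ⟨y, hy, hyR⟩ x hx
    exact (Subgroup.mem_normalizer_iff.mp (hTN hy) _).mp (hRT ((hyR x).mp hx)) |> fun h => by
      simpa [mul_assoc] using h
  let A0f : G → ℂ := fun g => if P0 g then co j g else 0
  have hA0R : ∀ g, MemLocalRing M (A0f g) := fun g => by
    simp only [A0f]
    split_ifs
    exacts [memLR_co j g, memLR_zero hP]
  have hA0inv : ∀ t ∈ Q, ∀ g, A0f (t * g * t⁻¹) = A0f g := by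
    intro t ht g
    simp only [A0f, (commute_gen_iff t j).mp (mem_fix.mp hj.mem t ht) g]
    refine if_congr ⟨fun h => ?_, hP0conj t ht g⟩ rfl rfl
    have := hP0conj t⁻¹ (inv_mem ht) _ h
    rwa [show t⁻¹ * (t * g * t⁻¹) * t⁻¹⁻¹ = g by group] at this
  set A0 := ofFun hP A0f hA0R with hA0
  have hA0Q : A0 ∈ fix hP Q := mem_fix.mpr fun t ht => (commute_gen_iff t A0).mpr fun g => by
    rw [hA0, co_ofFun]; exact hA0inv t ht g
  have hA0R' : Eqv R A0 j := by
    intro g hg
    rw [hA0, co_ofFun]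
    simp only [A0f]
    split_ifs with h
    · rw [sub_self]; exact memLI_zero hP
    · rw [zero_sub]
      refine memLI_neg hP ?_
      have hle : R ≤ st g := le_inf hRQ fun x hx => Subgroup.mem_centralizer_singleton_iff.mpr (hg x hx)
      have hlt' : R < st g := lt_of_le_of_ne hle fun he => h ⟨1, one_mem Q, fun x => by simp [he]⟩
      have h0 : Eqv (st g) j 0 := by
        by_contra hne'
        exact absurd (hmax (st g) ⟨inf_le_left, hne'⟩)
          (not_le.mpr (Set.Finite.card_lt_card (Set.toFinite _) hlt'))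
      have := h0 g fun x hx => Subgroup.mem_centralizer_singleton_iff.mp hx.2
      rwa [co_zero, Pi.zero_apply, sub_zero] at this
  have hAc : Corner (fix hP Q) j (j * A0 * j) := Corner.sandwich hj.mem hj.idem hA0Q
  have hjR := fix_antitone hRQ hj.mem
  have hAR : Eqv R (j * A0 * j) j := by
    have h1 := ((Eqv.refl R j).mul hM (hQ.to_le hRQ) hjR hjR (fix_antitone hRQ hA0Q) hjR hA0R').mul hM
      (hQ.to_le hRQ) (mul_mem hjR (fix_antitone hRQ hA0Q)) (mul_mem hjR hjR) hjR hjR (Eqv.refl R j)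
    rwa [hj.idem.eq, hj.idem.eq] at h1
  obtain ⟨w, hw, hAw, -⟩ := exists_inv hj hAc fun hnil => hR (by
    obtain ⟨N, hN⟩ := hnil
    have hpw : ∀ m : ℕ, Eqv R ((j * A0 * j) ^ (m + 1)) j := by
      intro m
      induction m with
      | zero => rw [pow_one]; exact hAR
      | succ m ih =>
        rw [pow_succ]
        have := ih.mul hM (hQ.to_le hRQ) (pow_mem (fix_antitone hRQ hAc.mem) _) hjR
          (fix_antitone hRQ hAc.mem) hjR hAR
        rwa [hj.idem.eq] at this
    exact (hpw N).symm.trans (Eqv.of_small_sub (by rw [sub_zero, pow_succ]; exact hN.mul_right _) R))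
  -- a representative of each orbit under `T`
  let pick : Set G → G := fun s => if h : s.Nonempty then h.some else 1
  let orb : G → Set G := fun g => {x | ∃ y ∈ Q, y * x * y⁻¹ = g}
  have horb : ∀ y ∈ Q, ∀ g, orb (y * g * y⁻¹) = orb g := by
    intro y hy g
    ext x
    constructor
    · rintro ⟨z, hzQ, hz'⟩
      refine ⟨y⁻¹ * z, mul_mem (inv_mem hy) hzQ, ?_⟩
      calc y⁻¹ * z * x * (y⁻¹ * z)⁻¹ = y⁻¹ * (z * x * z⁻¹) * y := by group
        _ = g := by rw [hz']; group
    · rintro ⟨z, hzQ, rfl⟩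
      exact ⟨y * z, mul_mem hy hzQ, by group⟩
  let rep : G → G := fun g => pick (orb g)
  have hrepc : ∀ y ∈ Q, ∀ g, rep (y * g * y⁻¹) = rep g := fun y hy g => by simp only [rep, horb y hy g]
  have hrep : ∀ g, ∃ y ∈ Q, y * rep g * y⁻¹ = g := fun g => by
    have hne' : (orb g).Nonempty := ⟨g, 1, one_mem Q, by group⟩
    simp only [rep, pick, dif_pos hne']
    exact hne'.some_mem
  let a0f : G → ℂ := fun g => if ∃ t ∈ T, t * rep g * t⁻¹ = g then A0f g else 0
  have ha0R : ∀ g, MemLocalRing M (a0f g) := fun g => by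
    simp only [a0f]
    split_ifs
    exacts [hA0R g, memLR_zero hP]
  set a0 := ofFun hP a0f ha0R with ha0
  have ha0T : a0 ∈ fix hP T := by
    refine mem_fix.mpr fun t ht => (commute_gen_iff t a0).mpr fun g => ?_
    rw [ha0, co_ofFun]
    simp only [a0f, hA0inv t (hTQ ht) g, hrepc t (hTQ ht) g]
    refine if_congr ⟨?_, ?_⟩ rfl rfl
    · rintro ⟨s, hs, he⟩
      refine ⟨t⁻¹ * s, mul_mem (inv_mem ht) hs, ?_⟩
      calc t⁻¹ * s * rep g * (t⁻¹ * s)⁻¹ = t⁻¹ * (s * rep g * s⁻¹) * t := by group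
        _ = g := by rw [he]; group
    · rintro ⟨s, hs, he⟩
      refine ⟨t * s, mul_mem ht hs, ?_⟩
      calc t * s * rep g * (t * s)⁻¹ = t * (s * rep g * s⁻¹) * t⁻¹ := by group
        _ = _ := by rw [he]
  have hsum : ∑ i ∈ Finset.range p, conjA (v ^ i) a0 = A0 := by
    refine ext_co fun g => ?_
    rw [co_sum, Finset.sum_apply, hA0, co_ofFun]
    have hval : ∀ i, co (conjA (v ^ i) a0) g =
        if ∃ t ∈ T, t * rep g * t⁻¹ = (v ^ i)⁻¹ * g * v ^ i then A0f g else 0 := by
      intro i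
      have hvi : (v ^ i)⁻¹ ∈ Q := inv_mem (pow_mem hvQ i)
      have e1 := hA0inv _ hvi g
      have e2 := hrepc _ hvi g
      rw [inv_inv] at e1 e2
      rw [co_conjA, ha0, co_ofFun]
      simp only [a0f, e1, e2]
    simp only [hval]
    by_cases hA : A0f g = 0
    · simp [hA]
    obtain ⟨y, hy, hyg⟩ := hrep g
    obtain ⟨i0, ⟨hi0, hi0T⟩, huniq⟩ := hcos y hy
    rw [Finset.sum_eq_single i0]
    · rw [if_pos]
      refine ⟨(v ^ i0)⁻¹ * y, hi0T, ?_⟩
      rw [show (v ^ i0)⁻¹ * y * rep g * ((v ^ i0)⁻¹ * y)⁻¹ = (v ^ i0)⁻¹ * (y * rep g * y⁻¹) * v ^ i0 by group,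
        hyg]
    · intro i hi hne'
      rw [if_neg]
      rintro ⟨t, ht, he⟩
      refine hne' (huniq i ⟨Finset.mem_range.mp hi, ?_⟩)
      have hPg : P0 g := by
        by_contra h
        exact hA (if_neg h)
      have hs : v ^ i * t * y⁻¹ ∈ st g := by
        refine Subgroup.mem_inf.mpr ⟨mul_mem (mul_mem (pow_mem hvQ i) (hTQ ht)) (inv_mem hy),
          Subgroup.mem_centralizer_singleton_iff.mpr ?_⟩
        calc v ^ i * t * y⁻¹ * g = v ^ i * t * (y⁻¹ * (y * rep g * y⁻¹)) := by rw [hyg]; group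
          _ = v ^ i * (t * rep g * t⁻¹) * (v ^ i)⁻¹ * (v ^ i * t * y⁻¹) := by group
          _ = g * (v ^ i * t * y⁻¹) := by rw [he]; group
      have hsT := hPT g hPg hs
      have h2 : (v ^ i)⁻¹ * (v ^ i * t * y⁻¹)⁻¹ * v ^ i ∈ T := by
        have := (Subgroup.mem_normalizer_iff.mp (hTN (inv_mem (pow_mem hvQ i))) _).mp (inv_mem hsT)
        rwa [inv_inv] at this
      have h3 : (v ^ i)⁻¹ * y = (v ^ i)⁻¹ * (v ^ i * t * y⁻¹)⁻¹ * v ^ i * t := by group
      rw [h3]
      exact mul_mem h2 ht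
    · exact fun h => absurd (Finset.mem_range.mpr hi0) h
  refine ⟨T, v, j * a0 * (j * w), hTQ, ?_, hTN, hvQ, fun h => hv0 ((hmemT v0).mp h), ?_, ?_, ?_⟩
  · rw [hT, Subgroup.relIndex, Subgroup.subgroupOf, Subgroup.comap_map_eq_self_of_injective Subtype.val_injective]
    exact hT0i
  · have hjT := fix_antitone hTQ hj.mem
    exact ⟨mul_mem (mul_mem hjT ha0T) (mul_mem hjT (fix_antitone hTQ hw.mem)),
      by simp only [← mul_assoc, hj.idem.eq], by rw [mul_assoc, mul_assoc j w j, hw.right]⟩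
  · have hfix : ∀ {x : OA hP G}, x ∈ fix hP Q → ∀ i : ℕ, conjA (v ^ i) x = x := fun hx i =>
      commute_iff_conjA.mp (mem_fix.mp hx _ (pow_mem hvQ i))
    calc ∑ i ∈ Finset.range p, conjA (v ^ i) (j * a0 * (j * w))
        = ∑ i ∈ Finset.range p, j * conjA (v ^ i) a0 * (j * w) := Finset.sum_congr rfl fun i _ => by
          rw [conjA_mul, conjA_mul, hfix hj.mem, hfix (mul_mem hj.mem hw.mem)]
      _ = j * A0 * j * w := by rw [← Finset.sum_mul, ← Finset.mul_sum, hsum, mul_assoc _ j w]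
      _ = j := hAw
  · intro u hu huT
    have hzp : Subgroup.zpowers u ≤ Q := Subgroup.zpowers_le.mpr hu
    have h0 : Eqv (Subgroup.zpowers u) A0 0 := by
      intro g hg
      rw [hA0, co_ofFun, co_zero, Pi.zero_apply, sub_zero]
      simp only [A0f]
      rw [if_neg]
      · exact memLI_zero hP
      · intro hPg
        exact huT (hPT g hPg ⟨hu, Subgroup.mem_centralizer_singleton_iff.mpr (hg u (Subgroup.mem_zpowers u))⟩)
    have hju := fix_antitone hzp hj.mem
    have hwu := fix_antitone hzp hw.mem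
    have hA0u := fix_antitone hzp hA0Q
    have hz' := hQ.to_le hzp
    have h1 := (((Eqv.refl (Subgroup.zpowers u) j).mul hM hz' hju hju hA0u (zero_mem _) h0).mul hM hz'
      (mul_mem hju hA0u) (mul_mem hju (zero_mem _)) hju hju (Eqv.refl _ j)).mul hM hz'
      (mul_mem (mul_mem hju hA0u) hju) (mul_mem (mul_mem hju (zero_mem _)) hju) hwu hwu (Eqv.refl _ w)
    rw [mul_zero, zero_mul, zero_mul, hAw] at h1
    exact h1

end Elt

end Cfsg.Agent.Char.Fixed
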