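import Cfsg.Agent.Lib.Char.CliffordInd
import Cfsg.Agent.Lib.Char.Gallagher
import Cfsg.Agent.Lib.Char.CoverBlocks
import Cfsg.Agent.Lib.Char.Coprime
import Cfsg.Agent.Lib.Char.ExtendSylow
import Cfsg.Agent.Lib.Char.LinearExt
import Cfsg.Agent.Lib.Char.Restrict
import Cfsg.Agent.Lib.Char.GaloisConj

/-!
# Characters fixed by a power map over a fixed character of a subgroup of odd index
-/

set_option autoImplicit false
set_option linter.unusedSectionVars false
set_option linter.style.haveILetI false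

namespace Cfsg.Agent.Char

open Cfsg
open scoped ComplexConjugate

universe u

variable {G : Type u} [Group G] [Fintype G] (N : Subgroup G) [hN : N.Normal]

/-- In a quotient of odd order the power map inverts. -/
theorem quot_pow_eq_inv (hodd : Odd N.index) {k : ℕ}
    (hk₂ : ∀ g : G, Odd (orderOf g) → g ^ k = g⁻¹) (g : G) :
    (QuotientGroup.mk g : G ⧸ N) ^ k = (QuotientGroup.mk g)⁻¹ := by
  set q : G ⧸ N := QuotientGroup.mk g with hq
  have hqodd : Odd (orderOf q) := hodd.of_dvd_nat (by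
    rw [Subgroup.index_eq_card]; exact orderOf_dvd_natCard q)
  set e := (orderOf g).factorization 2
  obtain ⟨t, ht1, -⟩ := Nat.chineseRemainder
    ((Nat.coprime_two_left.mpr hqodd).pow_left e).symm 1 0
  obtain ⟨s, hs⟩ : ∃ s, (2 ^ e * s) ≡ 1 [MOD orderOf q] := by
    obtain ⟨t, ht1, ht0⟩ := Nat.chineseRemainder
      ((Nat.coprime_two_left.mpr hqodd).pow_left e).symm 1 0
    obtain ⟨s, rfl⟩ := Nat.modEq_zero_iff_dvd.mp ht0
    exact ⟨s, ht1⟩
  have hord : Odd (orderOf (g ^ (2 ^ e * s))) := by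
    refine Odd.of_dvd_nat (n := orderOf g / 2 ^ e) ?_ ?_
    · rw [← Nat.not_even_iff_odd, even_iff_two_dvd]
      exact Nat.not_dvd_ordCompl Nat.prime_two (orderOf_pos g).ne'
    · rw [orderOf_dvd_iff_pow_eq_one, ← pow_mul, ← orderOf_dvd_iff_pow_eq_one]
      conv_lhs => rw [← Nat.ordProj_mul_ordCompl_eq_self (orderOf g) 2]
      exact Dvd.intro s (by ring)
  have h := congrArg (QuotientGroup.mk' N) (hk₂ _ hord)
  rw [map_pow, map_inv, map_pow, QuotientGroup.mk'_apply, ← hq,
    pow_eq_pow_iff_modEq.mpr hs, pow_one] at h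
  exact h

theorem eq_one_of_conj_inv {Q : Type*} [Group Q] [Finite Q] (hodd : Odd (Nat.card Q)) {q c : Q}
    (h : c * q * c⁻¹ = q⁻¹) : q = 1 := by
  have h2 : Commute (c ^ 2) q := by
    have h' : c * q⁻¹ * c⁻¹ = q := by
      have := congrArg (fun x => x⁻¹) h
      simpa [mul_assoc] using this
    rw [Commute, SemiconjBy, ← mul_inv_eq_iff_eq_mul, pow_two]
    calc c * c * q * (c * c)⁻¹ = c * (c * q * c⁻¹) * c⁻¹ := by group
      _ = c * q⁻¹ * c⁻¹ := by rw [h]
      _ = q := h'
  obtain ⟨m, hm⟩ := exists_pow_eq_self_of_coprime (x := c) (n := 2)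
    (Nat.coprime_two_left.mpr (hodd.of_dvd_nat (orderOf_dvd_natCard c)))
  have h3 : Commute c q := hm ▸ h2.pow_left m
  rw [h3.eq, mul_inv_cancel_right] at h
  have h4 : q ^ 2 = 1 := by rw [pow_two]; nth_rewrite 2 [h]; rw [mul_inv_cancel]
  refine orderOf_eq_one_iff.mp (Nat.eq_one_of_dvd_coprimes (Nat.coprime_two_left.mpr hodd)
    (orderOf_dvd_of_pow_eq_one h4) (orderOf_dvd_natCard q))

open scoped Classical in
/-- Exactly one constituent is fixed. -/
theorem card_fixed_over [Fintype N] (hodd : Odd N.index) {k : ℕ} (hk : k.Coprime (Nat.card G))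
    (hk₂ : ∀ g : G, Odd (orderOf g) → g ^ k = g⁻¹) (θ : IrrCharacter N)
    (hθ : ∀ n : N, (θ : N → ℂ) (n ^ k) = (θ : N → ℂ) n) :
    (Finset.univ.filter fun χ : IrrCharacter G =>
      classInner (fun n : N => (χ : G → ℂ) n) (θ : N → ℂ) ≠ 0 ∧
        ∀ g : G, (χ : G → ℂ) (g ^ k) = (χ : G → ℂ) g).card = 1 := by
  choose m hm using fun χ : IrrCharacter G => classInner_natCast
    (isCharacter_comp N.subtype (irr_isCharacter χ.2)) (irr_isCharacter θ.2)
  have hm' : ∀ χ : IrrCharacter G,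
      classInner (fun n : N => (χ : G → ℂ) n) (θ : N → ℂ) = (m χ : ℂ) := hm
  set S := Finset.univ.filter fun χ : IrrCharacter G => m χ ≠ 0 with hS
  set O : N → ℂ := ∑ ψ ∈ cliffOrbit N θ, (ψ : N → ℂ) with hO
  set r := (cliffOrbit N θ).card with hr
  have hr0 : r ≠ 0 := Finset.card_ne_zero.mpr ⟨θ, self_mem_cliffOrbit θ⟩
  have hθ1 := irr_one_ne_zero θ.2
  have hOne : O 1 = (r : ℂ) * (θ : N → ℂ) 1 := by
    rw [hO, Finset.sum_apply, Finset.sum_congr rfl (g := fun _ => (θ : N → ℂ) 1) fun ψ hψ => ?_,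
      Finset.sum_const, nsmul_eq_mul]
    obtain ⟨g, rfl⟩ := mem_cliffOrbit.mp hψ
    rw [irrComp_apply, map_one]
  have hOfix : ∀ n : N, O (n ^ k) = O n := fun n => by
    rw [hO, Finset.sum_apply, Finset.sum_apply]
    refine Finset.sum_congr rfl fun ψ hψ => ?_
    obtain ⟨g, rfl⟩ := mem_cliffOrbit.mp hψ
    rw [irrComp_apply, irrComp_apply, map_pow, hθ]
  have hres : ∀ χ ∈ S, (fun n : N => (χ : G → ℂ) n) = (m χ : ℂ) • O := fun χ hχ => by
    rw [← hm', hO]
    exact clifford_restrict χ θ (by rw [hm']; exact Nat.cast_ne_zero.mpr (Finset.mem_filter.mp hχ).2)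
  have hnorm : ∀ χ ∈ S, ∑ n : N, (χ : G → ℂ) n * conj ((χ : G → ℂ) n) =
      (Nat.card N : ℂ) * ((m χ : ℂ) ^ 2 * r) := fun χ hχ => by
    have h1 : classInner (fun n : N => (χ : G → ℂ) n) (fun n : N => (χ : G → ℂ) n) =
        (m χ : ℂ) ^ 2 * r := by
      rw [hres χ hχ, classInner_smul_left, classInner_smul_right, map_natCast]
      have : classInner O O = (r : ℂ) := by
        rw [hO, classInner_sum_left, Finset.sum_congr rfl (g := fun _ => (1 : ℂ)) fun ψ hψ => ?_,
          Finset.sum_const, nsmul_one]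
        rw [classInner_sum_right, Finset.sum_congr rfl fun φ _ => irrC_orth ψ φ,
          Finset.sum_ite_eq, if_pos hψ]
      rw [this]; ring
    rw [← h1, classInner, ← mul_assoc, mul_inv_cancel₀ (Nat.cast_ne_zero.mpr Nat.card_pos.ne'),
      one_mul]
  have hχ1 : ∀ χ ∈ S, (χ : G → ℂ) 1 = (m χ : ℂ) * ((r : ℂ) * (θ : N → ℂ) 1) := fun χ hχ => by
    rw [← hOne]
    have h := congrFun (hres χ hχ) 1
    simpa using h
  -- the weight function
  set E : G → ℂ := fun x => conj (indFun N (θ : N → ℂ) x) with hE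
  have hEc : IsClassFunction G E := fun a c => by
    simp only [hE, isClassFunction_indFun N (θ : N → ℂ) a c]
  set C : ℂ := (Nat.card G : ℂ) / ((r : ℂ) * (θ : N → ℂ) 1) with hC
  have hw : ∀ χ : IrrCharacter G, lam (χ : G → ℂ) E = if χ ∈ S then C else 0 := fun χ => by
    have h1 : lam (χ : G → ℂ) E = (Nat.card G : ℂ) * (m χ : ℂ) / (χ : G → ℂ) 1 := by
      rw [lam, ← hm', ← frobenius_right N (θ : N → ℂ) (isClassFunction_character (irr_isCharacter χ.2)),
        classInner, ← mul_assoc, mul_inv_cancel₀ (Nat.cast_ne_zero.mpr Nat.card_pos.ne'), one_mul]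
      congr 1
      exact Finset.sum_congr rfl fun x _ => by rw [hE]; ring
    rw [h1]
    split_ifs with hχ
    · rw [hχ1 χ hχ, hC]
      have : (m χ : ℂ) ≠ 0 := Nat.cast_ne_zero.mpr (Finset.mem_filter.mp hχ).2
      field_simp
    · have : m χ = 0 := by simpa [hS] using hχ
      simp [this]
  have hvan : ∀ g : G, g ∉ N → ∑ χ : IrrCharacter G,
      lam (χ : G → ℂ) E * ((χ : G → ℂ) (g ^ k) * conj ((χ : G → ℂ) g)) = 0 := by
    intro g hg
    rw [Finset.sum_congr rfl fun χ _ => by
      rw [← mul_assoc, ← sum_mul_shift χ.2 hEc (g ^ k), Finset.sum_mul], Finset.sum_comm]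
    refine Finset.sum_eq_zero fun x _ => ?_
    rw [Finset.sum_congr rfl fun χ _ => mul_assoc (E x) _ _, ← Finset.mul_sum, second_orth]
    by_cases hx : x ∈ N
    · rw [if_neg, mul_zero]
      intro hc
      have hc' := (QuotientGroup.mk' N).map_isConj hc
      rw [map_mul, map_pow, QuotientGroup.mk'_apply, QuotientGroup.mk'_apply,
        (QuotientGroup.eq_one_iff x).mpr hx, one_mul, quot_pow_eq_inv N hodd hk₂] at hc'
      obtain ⟨c, hcc⟩ := isConj_iff.mp hc'.symm
      exact hg ((QuotientGroup.eq_one_iff g).mp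
        (eq_one_of_conj_inv (by rw [← Subgroup.index_eq_card]; exact hodd) hcc))
    · rw [hE]
      simp [indFun_normal_not_mem N _ hx]
  set F := S.filter fun χ : IrrCharacter G => ∀ g : G, (χ : G → ℂ) (g ^ k) = (χ : G → ℂ) g with hF
  have hLHS : ∑ g : G, ∑ χ : IrrCharacter G,
      lam (χ : G → ℂ) E * ((χ : G → ℂ) (g ^ k) * conj ((χ : G → ℂ) g)) =
        (F.card : ℂ) * (C * (Nat.card G : ℂ)) := by
    rw [Finset.sum_comm]
    have hin : ∀ χ : IrrCharacter G, ∑ g : G, (χ : G → ℂ) (g ^ k) * conj ((χ : G → ℂ) g) =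
        (Nat.card G : ℂ) * if (∀ g : G, (χ : G → ℂ) (g ^ k) = (χ : G → ℂ) g) then 1 else 0 := fun χ => by
      have h := irr_orth (isIrrCharacter_pow χ.2 hk) χ.2
      simp only [funext_iff] at h
      rw [← h, classInner, ← mul_assoc, mul_inv_cancel₀ (Nat.cast_ne_zero.mpr Nat.card_pos.ne'),
        one_mul]
    rw [Finset.sum_congr rfl fun χ _ => by rw [← Finset.mul_sum, hin χ, hw χ]]
    simp only [ite_mul, zero_mul, mul_ite, mul_one, mul_zero]
    rw [← Finset.sum_filter, ← Finset.sum_filter, Finset.sum_const, nsmul_eq_mul]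
    congr 3
    ext χ
    simp [hF, and_comm]
  have hRHS : ∑ g : G, ∑ χ : IrrCharacter G,
      lam (χ : G → ℂ) E * ((χ : G → ℂ) (g ^ k) * conj ((χ : G → ℂ) g)) =
        C * (Nat.card G : ℂ) := by
    rw [← Finset.sum_subset (Finset.subset_univ (Finset.univ.filter fun g : G => g ∈ N))
      fun g _ hg => hvan g (by simpa using hg), Finset.sum_subtype (p := (· ∈ N)) _ (fun g => by simp),
      Finset.sum_comm]
    rw [Finset.sum_congr rfl fun χ _ => by rw [← Finset.mul_sum, hw χ]]
    simp only [ite_mul, zero_mul]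
    rw [← Finset.sum_filter, Finset.filter_univ_mem, ← Finset.mul_sum]
    congr 1
    have hdec : ∑ χ ∈ S, (m χ : ℂ) * (χ : G → ℂ) 1 = (N.index : ℂ) * (θ : N → ℂ) 1 := by
      have h := congrFun (classFun_expansion (isClassFunction_indFun N (θ : N → ℂ))) 1
      rw [indFun_one, Finset.sum_apply] at h
      rw [h, hS, Finset.sum_filter]
      refine Finset.sum_congr rfl fun χ _ => ?_
      rw [Pi.smul_apply, smul_eq_mul, frobenius N _ (isClassFunction_character (irr_isCharacter χ.2)),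
        ← classInner_symm, hm', map_natCast]
      split_ifs with h0
      · rfl
      · rw [not_not.mp h0]; simp
    have hinner : ∀ χ ∈ S, ∑ g : {x // x ∈ N},
        (χ : G → ℂ) ((g : G) ^ k) * conj ((χ : G → ℂ) g) =
          (Nat.card N : ℂ) * ((m χ : ℂ) ^ 2 * r) := fun χ hχ => by
      rw [← hnorm χ hχ]
      refine Finset.sum_congr rfl fun n _ => ?_
      congr 1
      have h1 := congrFun (hres χ hχ) (n ^ k)
      have h2 := congrFun (hres χ hχ) n
      simp only [Pi.smul_apply, hOfix, Subgroup.coe_pow] at h1 h2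
      rw [h1, h2]
    rw [Finset.sum_congr rfl hinner, ← Finset.mul_sum, ← N.index_mul_card, Nat.cast_mul,
      mul_comm (N.index : ℂ)]
    congr 1
    refine mul_right_cancel₀ hθ1 ?_
    rw [← hdec, Finset.sum_mul]
    exact Finset.sum_congr rfl fun χ hχ => by rw [hχ1 χ hχ]; ring
  have hFeq : F = Finset.univ.filter fun χ : IrrCharacter G =>
      classInner (fun n : N => (χ : G → ℂ) n) (θ : N → ℂ) ≠ 0 ∧
        ∀ g : G, (χ : G → ℂ) (g ^ k) = (χ : G → ℂ) g := by
    rw [hF, hS, Finset.filter_filter]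
    refine Finset.filter_congr fun χ _ => and_congr_left fun _ => ?_
    rw [hm', Nat.cast_ne_zero]
  rw [← hFeq]
  have hCG : C * (Nat.card G : ℂ) ≠ 0 := by
    have hG : (Nat.card G : ℂ) ≠ 0 := Nat.cast_ne_zero.mpr Nat.card_pos.ne'
    have hrc : (r : ℂ) ≠ 0 := Nat.cast_ne_zero.mpr hr0
    rw [hC]
    exact mul_ne_zero (div_ne_zero hG (mul_ne_zero hrc hθ1)) hG
  have h := hLHS.symm.trans hRHS
  exact Nat.cast_eq_one.mp (mul_right_cancel₀ hCG (h.trans (one_mul _).symm))

theorem fixed_over_unique [Fintype N] (hodd : Odd N.index) {k : ℕ} (hk : k.Coprime (Nat.card G))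
    (hk₂ : ∀ g : G, Odd (orderOf g) → g ^ k = g⁻¹) (θ : IrrCharacter N)
    (hθ : ∀ n : N, (θ : N → ℂ) (n ^ k) = (θ : N → ℂ) n) :
    ∃! χ : IrrCharacter G, classInner (fun n : N => (χ : G → ℂ) n) (θ : N → ℂ) ≠ 0 ∧
        ∀ g : G, (χ : G → ℂ) (g ^ k) = (χ : G → ℂ) g := by
  classical
  obtain ⟨χ, hχ⟩ := Finset.card_eq_one.mp (card_fixed_over N hodd hk hk₂ θ hθ)
  simp only [Finset.ext_iff, Finset.mem_filter, Finset.mem_univ, true_and, Finset.mem_singleton] at hχ
  exact ⟨χ, (hχ χ).mpr rfl, fun χ' h' => (hχ χ').mp h'⟩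

/-- An extension can be twisted to a fixed one. -/
theorem exists_fixed_extension_of_extension [Fintype N] (hodd : Odd N.index) {k : ℕ}
    (hk : k.Coprime (Nat.card G)) (hk₂ : ∀ g : G, Odd (orderOf g) → g ^ k = g⁻¹)
    {θ : N → ℂ} (hθirr : IsIrrCharacter N θ) (hθ : ∀ n : N, θ (n ^ k) = θ n) {χ₁ : G → ℂ}
    (hχ₁ : IsIrrCharacter G χ₁) (hext : ∀ n : N, χ₁ n = θ n) :
    ∃ χ : G → ℂ, IsIrrCharacter G χ ∧ (∀ n : N, χ n = θ n) ∧ ∀ g : G, χ (g ^ k) = χ g := by
  classical
  have hinv : ∀ (g : G) (n : N), θ (MulAut.conjNormal g n) = θ n := fun g n => by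
    rw [← hext, ← hext, MulAut.conjNormal_apply]
    exact isClassFunction_character (irr_isCharacter hχ₁) _ _
  have hone : (fun _ : N => (1 : ℂ)) * θ = θ := funext fun n => one_mul _
  have hgal := gallagher N (fun _ : N => (1 : ℂ)) θ isIrrCharacter_one (fun _ _ => rfl) hinv
    (by rw [hone]; exact hθirr) (irr_isCharacter hχ₁) hext
  set ψ : G → ℂ := fun g => χ₁ (g ^ k) with hψ
  have hψirr : IsIrrCharacter G ψ := isIrrCharacter_pow hχ₁ hk
  have hψN : (fun n : N => ψ n) = θ := funext fun n => by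
    show χ₁ ((n : G) ^ k) = θ n
    rw [← Subgroup.coe_pow, hext, hθ]
  obtain ⟨β, ⟨hβ, hβc⟩, hβe⟩ := hgal.surjOn (a := ψ) ⟨hψirr, by
    rw [hone, frobenius N θ (isClassFunction_character (irr_isCharacter hψirr)), hψN, irr_self hθirr]
    exact one_ne_zero⟩
  have hβN := (constituent_indFun_one_iff N hβ).mp hβc
  have hχ11 := irr_one_ne_zero hχ₁
  have hβ1 : β 1 = 1 := mul_right_cancel₀ hχ11 (by
    have := congrFun hβe 1
    simp only [Pi.mul_apply, hψ, one_pow] at this
    rw [this, one_mul])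
  obtain ⟨l, rfl⟩ := exists_hom_of_degree_one (irr_isCharacter hβ) hβ1
  have hlN : ∀ n : N, l (n : G) = 1 := fun n => Units.ext (by
    rw [Units.val_one]; exact (hβN n).trans hβ1)
  obtain ⟨a, ha⟩ := hodd
  set μ := l ^ (a + 1) with hμ
  have hμ2 : μ * μ = l := by
    refine MonoidHom.ext fun g => ?_
    rw [MonoidHom.mul_apply, hμ, MonoidHom.pow_apply, ← pow_add,
      show a + 1 + (a + 1) = N.index + 1 by omega, pow_succ, ← MonoidHom.pow_apply,
      hom_pow_index N hlN, MonoidHom.one_apply, one_mul]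
  have hμk : ∀ g : G, μ (g ^ k) = (μ g)⁻¹ := fun g => by
    rw [eq_inv_iff_mul_eq_one, ← map_mul, hμ, MonoidHom.pow_apply]
    have hm : g ^ k * g ∈ N := by
      rw [← QuotientGroup.eq_one_iff, QuotientGroup.mk_mul, QuotientGroup.mk_pow,
        quot_pow_eq_inv N ⟨a, ha⟩ hk₂, inv_mul_cancel]
    rw [hlN ⟨_, hm⟩, one_pow]
  refine ⟨fun g => χ₁ g * (μ g : ℂ), ?_, fun n => ?_, fun g => ?_⟩
  · refine isIrr_of_norm_one (isCharacter_mul (irr_isCharacter hχ₁) (isCharacter_linear μ)) ?_
    rw [← irr_self hχ₁]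
    simp only [classInner]
    congr 1
    refine Finset.sum_congr rfl fun g _ => ?_
    rw [map_mul, mul_mul_mul_comm, Complex.mul_conj', Complex.mul_conj',
      Complex.norm_eq_one_of_pow_eq_one (linear_pow_card μ g) (orderOf_pos g).ne']
    simp
  · show χ₁ n * (μ n : ℂ) = θ n
    rw [hext, hμ, MonoidHom.pow_apply, hlN, one_pow, Units.val_one, mul_one]
  · have h1 := congrFun hβe g
    simp only [Pi.mul_apply, hψ] at h1
    show χ₁ (g ^ k) * (μ (g ^ k) : ℂ) = χ₁ g * (μ g : ℂ)
    rw [hμk, Units.val_inv_eq_inv_val, ← h1, ← hμ2, MonoidHom.mul_apply, Units.val_mul]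
    field_simp

/-- Over a quotient of odd prime power order a fixed invariant character extends. -/
theorem exists_extension_p {p : ℕ} [Fact p.Prime] :
    ∀ (n : ℕ) {G : Type u} [Group G] [Fintype G] (N : Subgroup G) [N.Normal], N.index = n →
      IsPGroup p (G ⧸ N) → Odd N.index → ∀ (k : ℕ), k.Coprime (Nat.card G) →
      (∀ g : G, Odd (orderOf g) → g ^ k = g⁻¹) → ∀ (θ : N → ℂ), IsIrrCharacter N θ →
      (∀ (g : G) (x : N), θ (MulAut.conjNormal g x) = θ x) → (∀ x : N, θ (x ^ k) = θ x) →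
      ∃ χ : G → ℂ, IsIrrCharacter G χ ∧ ∀ x : N, χ x = θ x := by
  intro n
  induction n using Nat.strong_induction_on with
  | _ n ih =>
    intro G _ _ N _ hn hQ hodd k hk hk₂ θ hθ hinv hfix
    rcases subsingleton_or_nontrivial (G ⧸ N) with hs | hnt
    · exact exists_extension_cyclic N isCyclic_of_subsingleton hθ hinv
    haveI : Nontrivial (Subgroup.center (G ⧸ N)) := hQ.center_nontrivial
    obtain ⟨⟨z, hz⟩, hz1⟩ := exists_ne (1 : Subgroup.center (G ⧸ N))
    have hz1' : z ≠ 1 := fun h => hz1 (Subtype.ext h)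
    haveI hZn : (Subgroup.zpowers z).Normal := ⟨fun y hy g => by
      have hyc : y ∈ Subgroup.center (G ⧸ N) := (Subgroup.zpowers_le.2 hz) hy
      rw [Subgroup.mem_center_iff.1 hyc g]
      simpa using hy⟩
    set M := (Subgroup.zpowers z).comap (QuotientGroup.mk' N) with hM
    have hNM : N ≤ M := fun x hx => by
      rw [hM, Subgroup.mem_comap, QuotientGroup.mk'_apply, (QuotientGroup.eq_one_iff x).mpr hx]
      exact one_mem _
    haveI : M.Normal := Subgroup.Normal.comap hZn _
    haveI := Fintype.ofFinite M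
    haveI := Fintype.ofFinite N
    haveI : Fintype (N.subgroupOf M) := Fintype.ofFinite _
    haveI : (N.subgroupOf M).Normal := Subgroup.Normal.comap inferInstance _
    let ι : N.subgroupOf M ≃* N := Subgroup.subgroupOfEquivOfLe hNM
    have hcycM : IsCyclic (M ⧸ N.subgroupOf M) := by
      let f : M →* Subgroup.zpowers z :=
        ((QuotientGroup.mk' N).comp M.subtype).codRestrict _ fun x => x.2
      have hker : N.subgroupOf M = f.ker := by
        ext x
        rw [Subgroup.mem_subgroupOf, MonoidHom.mem_ker, Subtype.ext_iff]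
        exact (QuotientGroup.eq_one_iff (x : G)).symm
      refine isCyclic_of_injective (f := QuotientGroup.lift (N.subgroupOf M) f hker.le)
        ((injective_iff_map_eq_one _).mpr fun q hq => ?_)
      induction q using QuotientGroup.induction_on with | _ x =>
      exact (QuotientGroup.eq_one_iff x).mpr (hker ▸ MonoidHom.mem_ker.mpr hq)
    have hkM : k.Coprime (Nat.card M) := hk.coprime_dvd_right (Subgroup.card_subgroup_dvd_card M)
    have hk₂M : ∀ g : M, Odd (orderOf g) → g ^ k = g⁻¹ := fun g hg => Subtype.ext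
      (hk₂ (g : G) (by rwa [Subgroup.orderOf_coe]))
    have hoddM : Odd (N.subgroupOf M).index :=
      hodd.of_dvd_nat (Subgroup.relIndex_dvd_index_of_le hNM)
    set θM : N.subgroupOf M → ℂ := fun x => θ (ι x) with hθM
    have hθMirr : IsIrrCharacter (N.subgroupOf M) θM := isIrrCharacter_comp_equiv ι hθ
    have hθMfix : ∀ x, θM (x ^ k) = θM x := fun x => by simp only [hθM, map_pow, hfix]
    obtain ⟨ψ₁, hψ₁, hψ₁e⟩ := exists_extension_cyclic (N.subgroupOf M) hcycM hθMirr fun g x =>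
      (congrArg θ (Subtype.ext rfl)).trans (hinv (g : G) (ι x))
    obtain ⟨ψ, hψ, hψe, hψf⟩ :=
      exists_fixed_extension_of_extension (N.subgroupOf M) hoddM hkM hk₂M hθMirr hθMfix hψ₁ hψ₁e
    obtain ⟨χu, -, huniq⟩ :=
      fixed_over_unique (N.subgroupOf M) hoddM hkM hk₂M ⟨θM, hθMirr⟩ hθMfix
    have hψinv : ∀ (g : G) (x : M), ψ (MulAut.conjNormal g x) = ψ x := by
      intro g
      have key : ∀ φ : M → ℂ, (hφ : IsIrrCharacter M φ) → (∀ x : N.subgroupOf M, φ x = θM x) →
          classInner (fun x : N.subgroupOf M => φ x) θM ≠ 0 := fun φ _ he => by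
        rw [show (fun x : N.subgroupOf M => φ x) = θM from funext he, irr_self hθMirr]
        exact one_ne_zero
      have hc : IsIrrCharacter M (fun x => ψ (MulAut.conjNormal g x)) :=
        isIrrCharacter_comp_equiv (MulAut.conjNormal g : MulAut M) hψ
      have hce : ∀ x : N.subgroupOf M, ψ (MulAut.conjNormal g (x : M)) = θM x := fun x => by
        have hm : (MulAut.conjNormal g (x : M) : M) ∈ N.subgroupOf M := by
          rw [Subgroup.mem_subgroupOf, MulAut.conjNormal_apply]
          exact (inferInstance : N.Normal).conj_mem _ (Subgroup.mem_subgroupOf.mp x.2) g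
        rw [show (MulAut.conjNormal g (x : M) : M) = ((⟨_, hm⟩ : N.subgroupOf M) : M) from rfl, hψe]
        exact (congrArg θ (Subtype.ext (by simp [ι, MulAut.conjNormal_apply]))).trans (hinv g (ι x))
      have h1 := huniq ⟨_, hc⟩ ⟨key _ hc hce, fun x => by
        show ψ (MulAut.conjNormal g (x ^ k)) = ψ (MulAut.conjNormal g x)
        rw [map_pow, hψf]⟩
      have h2 := huniq ⟨_, hψ⟩ ⟨key _ hψ hψe, hψf⟩
      exact fun x => congrFun (congrArg Subtype.val (h1.trans h2.symm)) x
    have hlt : M.index < n := by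
      rw [← hn, hM, Subgroup.index_comap_of_surjective _ (QuotientGroup.mk'_surjective N),
        Subgroup.index_eq_card N, ← (Subgroup.zpowers z).index_mul_card]
      refine lt_mul_of_one_lt_right (Nat.pos_of_ne_zero Subgroup.index_ne_zero_of_finite) ?_
      rw [Nat.card_zpowers]
      exact Nat.one_lt_iff_ne_zero_and_ne_one.mpr
        ⟨(orderOf_pos z).ne', fun h => hz1' (orderOf_eq_one_iff.mp h)⟩
    have hQM : IsPGroup p (G ⧸ M) :=
      hQ.of_surjective (QuotientGroup.map N M (MonoidHom.id G) hNM) fun q => by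
        obtain ⟨g, rfl⟩ := QuotientGroup.mk_surjective q
        exact ⟨QuotientGroup.mk g, rfl⟩
    obtain ⟨χ, hχ, hχe⟩ := ih M.index hlt M rfl hQM (hodd.of_dvd_nat (Subgroup.index_dvd_of_le hNM))
      k hk hk₂ ψ hψ hψinv hψf
    refine ⟨χ, hχ, fun x => ?_⟩
    rw [show (x : G) = ((⟨x, hNM x.2⟩ : M) : G) from rfl, hχe,
      show (⟨x, hNM x.2⟩ : M) = ((ι.symm x : N.subgroupOf M) : M) from Subtype.ext rfl, hψe, hθM]
    simp

/-- A fixed invariant character of a subgroup of odd index has a fixed extension. -/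
theorem exists_fixed_extension [Fintype N] (hodd : Odd N.index) {k : ℕ} (hk : k.Coprime (Nat.card G))
    (hk₂ : ∀ g : G, Odd (orderOf g) → g ^ k = g⁻¹) {θ : N → ℂ} (hθ : IsIrrCharacter N θ)
    (hinv : ∀ (g : G) (x : N), θ (MulAut.conjNormal g x) = θ x) (hfix : ∀ x : N, θ (x ^ k) = θ x) :
    ∃ χ : G → ℂ, IsIrrCharacter G χ ∧ (∀ x : N, χ x = θ x) ∧ ∀ g : G, χ (g ^ k) = χ g := by
  obtain ⟨χ₁, hχ₁, hext⟩ := exists_extension_of_sylow N hθ hinv fun p hp => by
    haveI := Fact.mk hp
    obtain ⟨S⟩ := (inferInstance : Nonempty (Sylow p (G ⧸ N)))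
    set P := (S : Subgroup (G ⧸ N)).comap (QuotientGroup.mk' N) with hP
    have hNP : N ≤ P := fun x hx => by
      rw [hP, Subgroup.mem_comap, QuotientGroup.mk'_apply, (QuotientGroup.eq_one_iff x).mpr hx]
      exact one_mem _
    haveI := Fintype.ofFinite P
    haveI : Fintype (N.subgroupOf P) := Fintype.ofFinite _
    haveI : (N.subgroupOf P).Normal := Subgroup.Normal.comap hN _
    let ι : N.subgroupOf P ≃* N := Subgroup.subgroupOfEquivOfLe hNP
    have hpg : IsPGroup p (P ⧸ N.subgroupOf P) := by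
      let f : P →* (S : Subgroup (G ⧸ N)) :=
        ((QuotientGroup.mk' N).comp P.subtype).codRestrict _ fun x => x.2
      have hker : N.subgroupOf P = f.ker := by
        ext x
        rw [Subgroup.mem_subgroupOf, MonoidHom.mem_ker, Subtype.ext_iff]
        exact (QuotientGroup.eq_one_iff (x : G)).symm
      exact S.isPGroup'.of_injective (QuotientGroup.lift (N.subgroupOf P) f hker.le)
        ((injective_iff_map_eq_one _).mpr fun q hq => by
          induction q using QuotientGroup.induction_on with | _ x =>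
          exact (QuotientGroup.eq_one_iff x).mpr (hker ▸ MonoidHom.mem_ker.mpr hq))
    obtain ⟨η, hη, hηe⟩ := exists_extension_p (p := p) _ (N.subgroupOf P) rfl hpg
      (hodd.of_dvd_nat (Subgroup.relIndex_dvd_index_of_le hNP)) k
      (hk.coprime_dvd_right (Subgroup.card_subgroup_dvd_card P))
      (fun g hg => Subtype.ext (hk₂ (g : G) (by rwa [Subgroup.orderOf_coe])))
      (fun x => θ (ι x)) (isIrrCharacter_comp_equiv ι hθ)
      (fun g x => (congrArg θ (Subtype.ext rfl)).trans (hinv (g : G) (ι x)))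
      (fun x => by simp only [map_pow, hfix])
    refine ⟨P, hNP, η, ?_, hη, fun x => ?_⟩
    · rw [hP, Subgroup.index_comap_of_surjective _ (QuotientGroup.mk'_surjective N)]
      exact ((hp.coprime_iff_not_dvd).mpr S.not_dvd_index).symm
    · rw [show Subgroup.inclusion hNP x = ((ι.symm x : N.subgroupOf P) : P) from Subtype.ext rfl, hηe]
      simp
  exact exists_fixed_extension_of_extension N hodd hk hk₂ hθ hfix hχ₁ hext

end Cfsg.Agent.Char
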