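import Cfsg.Agent.Lib.Char.FongPrime

/-!
# Fong characters: the step along a normal `p'`-quotient
-/

open scoped ComplexConjugate
open Cfsg Module

set_option autoImplicit false
set_option linter.style.haveILetI false
set_option linter.unusedSectionVars false

namespace Cfsg.Agent.Char.Fong

universe u

variable {G : Type u} [Group G] [Fintype G] {p : ℕ}

theorem data_prime_step (hp : p.Prime) (H N M : Subgroup G) [N.Normal] [M.Normal] [Fintype M]
    [∀ T : Subgroup G, Fintype T] (hNM : N ≤ M) (hco : (N.relIndex M).Coprime p) (τ : IrrCharacter N)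
    (h : Ctx p H N τ)
    (ih : ∀ (μ : IrrCharacter M) (μ' : IrrCharacter (M.subgroupOf (inert M μ))),
      Ctx p (H.subgroupOf (inert M μ)) (M.subgroupOf (inert M μ)) μ' →
      Data p (H.subgroupOf (inert M μ)) (M.subgroupOf (inert M μ)) (μ' : M.subgroupOf (inert M μ) → ℂ)) :
    Data p H N (τ : N → ℂ) := by
  classical
  haveI := Fintype.ofFinite (N.subgroupOf M)
  haveI := Fintype.ofFinite (H.subgroupOf M)
  obtain ⟨τ', hτ', hinv', hirr, hinj⟩ := res_facts hp H N M hNM hco τ h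
  let Ov : IrrCharacter M → Prop := fun μ =>
    classInner (fun n : N.subgroupOf M => (μ : M → ℂ) n) (τ' : N.subgroupOf M → ℂ) ≠ 0
  -- conjugates stay over τ
  have hOv : ∀ (g : G) (μ : IrrCharacter M), Ov μ → Ov (irrComp (MulAut.conjNormal g) μ) := by
    intro g μ hμ
    obtain ⟨e, he0, he⟩ := restrict_eq_mul (N.subgroupOf M) τ' hinv' μ hμ
    have hcst : ∀ n : N.subgroupOf M, (irrComp (MulAut.conjNormal g) μ : M → ℂ) n =
        (e : ℂ) * (τ' : N.subgroupOf M → ℂ) n := by
      intro n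
      have hmem : MulAut.conjNormal g (n : M) ∈ N.subgroupOf M := by
        rw [Subgroup.mem_subgroupOf, MulAut.conjNormal_apply]
        exact Subgroup.Normal.conj_mem (inferInstance : N.Normal) _ (Subgroup.mem_subgroupOf.1 n.2) g
      rw [irrComp_apply, show (μ : M → ℂ) (MulAut.conjNormal g (n : M)) = _ from he ⟨_, hmem⟩, hτ', hτ',
        ← h.inv g ⟨((n : M) : G), n.2⟩]
      congr 2
    show classInner _ _ ≠ 0
    rw [show (fun n : N.subgroupOf M => (irrComp (MulAut.conjNormal g) μ : M → ℂ) n) =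
      (e : ℂ) • (τ' : N.subgroupOf M → ℂ) from funext hcst, classInner_smul_left, irr_self τ'.2, mul_one]
    exact Nat.cast_ne_zero.2 he0
  -- representatives
  let rep : IrrCharacter M → IrrCharacter M := fun μ =>
    @Classical.epsilon _ ⟨μ⟩ fun ν => ν ∈ cliffOrbit M μ ∧ ∃ n, (H.subgroupOf (inert M ν)).index = p ^ n
  have hrep : ∀ μ, rep μ ∈ cliffOrbit M μ ∧ ∃ n, (H.subgroupOf (inert M (rep μ))).index = p ^ n := fun μ =>
    Classical.epsilon_spec (exists_good hp h.psolv H M h.cop h.idx μ)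
  have hrep_eq : ∀ μ ν, ν ∈ cliffOrbit M μ → rep ν = rep μ := by
    intro μ ν hν
    show @Classical.epsilon _ ⟨ν⟩ _ = @Classical.epsilon _ ⟨μ⟩ _
    rw [cliffOrbit_eq hν]
  have hrepOv : ∀ μ, Ov μ → Ov (rep μ) ∧ rep (rep μ) = rep μ := by
    intro μ hμ
    refine ⟨?_, hrep_eq μ _ (hrep μ).1⟩
    obtain ⟨g, hg⟩ := mem_cliffOrbit.1 (hrep μ).1
    exact hg ▸ hOv g μ hμ
  have hdata : ∀ ν : {ν : IrrCharacter M // Ov ν ∧ rep ν = ν},
      Data p (H.subgroupOf (inert M ν.1)) (M.subgroupOf (inert M ν.1))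
        (subFun M (inert M ν.1) (ν.1 : M → ℂ)) := by
    intro ν
    obtain ⟨μ', hμ', hctx⟩ := ctx_sub hp H N M τ h ν.1 (hirr ν.1 ν.2.1).1 (hirr ν.1 ν.2.1).2
      (ν.2.2 ▸ (hrep ν.1).2)
    exact hμ' ▸ ih ν.1 μ' hctx
  choose S Φ hd1 hd2 hd3 hd4 hd5 hd6 hd7 using hdata
  let P := Σ ν : {ν : IrrCharacter M // Ov ν ∧ rep ν = ν}, {ψ : IrrCharacter (inert M ν.1) // ψ ∈ S ν}
  have hψover : ∀ q : P, classInner (fun a : M => (q.2.1 : inert M q.1.1 → ℂ)
      (Subgroup.inclusion (le_inert M q.1.1) a)) (q.1.1 : M → ℂ) ≠ 0 := fun q =>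
    (over_sub M (inert M q.1.1) (le_inert M q.1.1) _ _).1 (hd5 q.1 q.2.1 q.2.2)
  have hclif : ∀ q : P, IsIrrCharacter G (indFun (inert M q.1.1) (q.2.1 : inert M q.1.1 → ℂ)) := fun q =>
    (clifford_ind M (inert M q.1.1) (le_inert M q.1.1) q.1.1 (fun g => mem_inert) q.2.1 (hψover q)).1
  let ind : P → IrrCharacter G := fun q => ⟨_, hclif q⟩
  let Φ' : P → G → ℂ := fun q => indFun (inert M q.1.1) (Φ q.1 q.2.1)
  -- constituents seen from `H ⊓ M`
  have hK : ∀ (ν : {ν : IrrCharacter M // Ov ν ∧ rep ν = ν}) (φ : IrrCharacter (inert M ν.1))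
      (ψ : IrrCharacter (inert M ν.1)), ψ ∈ S ν → classInner (φ : inert M ν.1 → ℂ) (Φ ν ψ) ≠ 0 →
      classInner (fun k : H.subgroupOf M => (φ : inert M ν.1 → ℂ) (Subgroup.inclusion (le_inert M ν.1) (k : M)))
        (fun k : H.subgroupOf M => (ν.1 : M → ℂ) k) ≠ 0 := by
    intro ν φ ψ hψ hne hz
    apply hd6 ν ψ hψ φ hne
    rw [proj_sub H M (inert M ν.1) (le_inert M ν.1)]
    rw [classInner, mul_eq_zero] at hz
    rw [← hz.resolve_left (inv_ne_zero (Nat.cast_ne_zero.2 Nat.card_pos.ne'))]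
    exact Finset.sum_congr rfl fun k _ => by rw [zext_mem M _ (k : M).2, one_mul, mul_comm]
  have hbi : ∀ q q' : P, classInner (ind q' : G → ℂ) (Φ' q) = if q' = q then 1 else 0 := by
    rintro ⟨ν, ψ, hψ⟩ ⟨ν₂, ψ₂, hψ₂⟩
    show classInner (ind ⟨ν₂, ψ₂, hψ₂⟩ : G → ℂ) (indFun (inert M ν.1) (Φ ν ψ)) = _
    set X : IrrCharacter G := ind ⟨ν₂, ψ₂, hψ₂⟩ with hX
    rw [frobenius_right _ _ (isClassFunction_character (irr_isCharacter X.2))]
    have hXT : IsCharacter (inert M ν.1) (fun t : inert M ν.1 => (X : G → ℂ) t) :=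
      isCharacter_comp (inert M ν.1).subtype (irr_isCharacter X.2)
    rw [char_expansion hXT, classInner_sum_left]
    simp only [classInner_smul_left]
    have hsupp : ∀ φ : IrrCharacter (inert M ν.1),
        classInner (fun t : inert M ν.1 => (X : G → ℂ) t) (φ : inert M ν.1 → ℂ) ≠ 0 →
        classInner (φ : inert M ν.1 → ℂ) (Φ ν ψ) ≠ 0 →
        ν = ν₂ ∧ classInner (fun a : M => (φ : inert M ν.1 → ℂ) (Subgroup.inclusion (le_inert M ν.1) a))
          (ν.1 : M → ℂ) ≠ 0 := by
      intro φ hXφ hφΦ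
      have hk := hK ν φ ψ hψ hφΦ
      let bK : IrrCharacter (H.subgroupOf M) := ⟨_, (hirr ν.1 ν.2.1).1⟩
      have hφM : IsCharacter M (fun a : M => (φ : inert M ν.1 → ℂ) (Subgroup.inclusion (le_inert M ν.1) a)) :=
        isCharacter_comp (Subgroup.inclusion (le_inert M ν.1)) (irr_isCharacter φ.2)
      obtain ⟨ρ, hρ1, hρ2⟩ : ∃ ρ : IrrCharacter M,
          classInner (fun a : M => (φ : inert M ν.1 → ℂ) (Subgroup.inclusion (le_inert M ν.1) a)) (ρ : M → ℂ) ≠ 0 ∧
          classInner (fun k : H.subgroupOf M => (ρ : M → ℂ) k) (bK : H.subgroupOf M → ℂ) ≠ 0 := by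
        by_contra hno
        push Not at hno
        apply hk
        rw [show (fun k : H.subgroupOf M => (φ : inert M ν.1 → ℂ) (Subgroup.inclusion (le_inert M ν.1) (k : M))) =
          ∑ ρ : IrrCharacter M, classInner (fun a : M => (φ : inert M ν.1 → ℂ)
            (Subgroup.inclusion (le_inert M ν.1) a)) (ρ : M → ℂ) • (fun k : H.subgroupOf M => (ρ : M → ℂ) k) from
          funext fun k => by
            have := congrFun (char_expansion hφM) (k : M)
            simpa [Finset.sum_apply] using this, classInner_sum_left]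
        refine Finset.sum_eq_zero fun ρ _ => ?_
        rw [classInner_smul_left]
        by_cases h0 : classInner (fun a : M => (φ : inert M ν.1 → ℂ)
            (Subgroup.inclusion (le_inert M ν.1) a)) (ρ : M → ℂ) = 0
        · rw [h0, zero_mul]
        · rw [hno ρ h0, mul_zero]
      have hρX : classInner (fun a : M => (X : G → ℂ) a) (ρ : M → ℂ) ≠ 0 :=
        inner_ne_zero_of_constituent (Subgroup.inclusion (le_inert M ν.1)) hXT φ ρ hXφ hρ1
      have hν₂X : classInner (fun a : M => (X : G → ℂ) a) (ν₂.1 : M → ℂ) ≠ 0 := by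
        refine inner_ne_zero_of_constituent (Subgroup.inclusion (le_inert M ν₂.1))
          (isCharacter_comp (inert M ν₂.1).subtype (irr_isCharacter X.2)) ψ₂ ν₂.1 ?_ (hψover ⟨ν₂, ψ₂, hψ₂⟩)
        have h2 := (clifford_ind M (inert M ν₂.1) (le_inert M ν₂.1) ν₂.1 (fun g => mem_inert) ψ₂
          (hψover ⟨ν₂, ψ₂, hψ₂⟩)).2 ψ₂ (hψover ⟨ν₂, ψ₂, hψ₂⟩)
        rw [if_pos rfl] at h2
        show classInner (fun t : inert M ν₂.1 => indFun (inert M ν₂.1) (ψ₂ : inert M ν₂.1 → ℂ) t) _ ≠ 0
        rw [h2]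
        exact one_ne_zero
      have horb := mem_cliffOrbit_of_constituent hν₂X hρX
      obtain ⟨g, hg⟩ := mem_cliffOrbit.1 horb
      have hρν : ρ = ν.1 := hinj ρ ν.1 (hg ▸ hOv g ν₂.1 ν₂.2.1) ν.2.1 hρ2
      refine ⟨Subtype.ext ?_, hρν ▸ hρ1⟩
      rw [← ν.2.2, ← ν₂.2.2]
      exact hrep_eq ν₂.1 ν.1 (hρν ▸ horb)
    by_cases heq : ν = ν₂
    · subst heq
      have hcl := clifford_ind M (inert M ν.1) (le_inert M ν.1) ν.1 (fun g => mem_inert) ψ₂
        (hψover ⟨ν, ψ₂, hψ₂⟩)
      have hval : ∀ φ : IrrCharacter (inert M ν.1),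
          classInner (fun t : inert M ν.1 => (X : G → ℂ) t) (φ : inert M ν.1 → ℂ) *
            classInner (φ : inert M ν.1 → ℂ) (Φ ν ψ) =
          if φ = ψ₂ then classInner (φ : inert M ν.1 → ℂ) (Φ ν ψ) else 0 := by
        intro φ
        by_cases hφ : φ = ψ₂
        · subst hφ
          have h2 := hcl.2 φ (hψover ⟨ν, φ, hψ₂⟩)
          rw [if_pos rfl] at h2
          rw [if_pos rfl, show classInner (fun t : inert M ν.1 => (X : G → ℂ) t) (φ : inert M ν.1 → ℂ) = 1
            from h2, one_mul]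
        · rw [if_neg hφ]
          by_cases hz : classInner (φ : inert M ν.1 → ℂ) (Φ ν ψ) = 0
          · rw [hz, mul_zero]
          by_cases hz' : classInner (fun t : inert M ν.1 => (X : G → ℂ) t) (φ : inert M ν.1 → ℂ) = 0
          · rw [hz', zero_mul]
          have h2 := hcl.2 φ (hsupp φ hz' hz).2
          rw [if_neg (Ne.symm hφ)] at h2
          exact absurd h2 hz'
      rw [Finset.sum_congr rfl fun φ _ => hval φ, Finset.sum_ite_eq' Finset.univ ψ₂,
        if_pos (Finset.mem_univ _)]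
      by_cases hψψ : ψ₂ = ψ
      · subst hψψ
        rw [if_pos rfl]
        exact hd3 ν ψ₂ hψ
      · rw [if_neg (show ¬((⟨ν, ψ₂, hψ₂⟩ : P) = ⟨ν, ψ, hψ⟩) from fun e => hψψ (by cases e; rfl)), hd4 ν ψ hψ ψ₂ hψ₂ (Ne.symm hψψ)]
    · rw [if_neg (fun e => heq (congrArg Sigma.fst e).symm)]
      refine Finset.sum_eq_zero fun φ _ => ?_
      by_contra hne
      exact heq (hsupp φ (left_ne_zero_of_mul hne) (right_ne_zero_of_mul hne)).1
  have hindinj : Function.Injective ind := by
    intro q q' e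
    by_contra hne
    have h1 := hbi q' q'
    have h2 := hbi q' q
    rw [e, if_neg hne] at h2
    rw [if_pos rfl, h2] at h1
    exact zero_ne_one h1
  let Φ'' : IrrCharacter G → G → ℂ := Function.extend ind Φ' 0
  have hΦ'' : ∀ q, Φ'' (ind q) = Φ' q := fun q => hindinj.extend_apply _ _ q
  refine ⟨Set.range ind, Φ'', ?_, ?_, ?_, ?_, ?_, ?_, ?_⟩
  · rintro _ ⟨q, rfl⟩
    rw [hΦ'']
    exact isCharacter_indFun _ (hd1 q.1 q.2.1 q.2.2)
  · rintro _ ⟨q, rfl⟩ g hg
    rw [hΦ'']
    refine indFun_sub_singular _ _ (fun t ht => hd2 q.1 q.2.1 q.2.2 t ?_) hg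
    exact ht
  · rintro _ ⟨q, rfl⟩
    rw [hΦ'', hbi, if_pos rfl]
  · rintro _ ⟨q, rfl⟩ _ ⟨q', rfl⟩ hne
    rw [hΦ'', hbi, if_neg (fun e => hne (by rw [e]))]
  · rintro _ ⟨⟨ν, ψ, hψ⟩, rfl⟩
    haveI := Fintype.ofFinite N
    rw [over_iff]
    have h2 := (clifford_ind M (inert M ν.1) (le_inert M ν.1) ν.1 (fun g => mem_inert) ψ
      (hψover ⟨ν, ψ, hψ⟩)).2 ψ (hψover ⟨ν, ψ, hψ⟩)
    rw [if_pos rfl] at h2
    have h3 : classInner (fun a : M => (ind ⟨ν, ψ, hψ⟩ : G → ℂ) a) (ν.1 : M → ℂ) ≠ 0 :=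
      inner_ne_zero_of_constituent (Subgroup.inclusion (le_inert M ν.1))
        (isCharacter_comp (inert M ν.1).subtype (irr_isCharacter (ind ⟨ν, ψ, hψ⟩).2)) ψ ν.1
        (by
          show classInner (fun t : inert M ν.1 => indFun (inert M ν.1) (ψ : inert M ν.1 → ℂ) t) _ ≠ 0
          rw [h2]; exact one_ne_zero) (hψover ⟨ν, ψ, hψ⟩)
    refine inner_ne_zero_of_constituent (Subgroup.inclusion hNM)
      (isCharacter_comp M.subtype (irr_isCharacter (ind ⟨ν, ψ, hψ⟩).2)) ν.1 τ h3 ?_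
    intro h0
    apply ν.2.1
    rw [← h0]
    simp only [classInner]
    rw [Nat.card_congr (Subgroup.subgroupOfEquivOfLe hNM).toEquiv]
    congr 1
    refine Fintype.sum_equiv (Subgroup.subgroupOfEquivOfLe hNM).toEquiv _ _ fun n => ?_
    rw [hτ']
    rfl
  · rintro _ ⟨⟨ν, ψ, hψ⟩, rfl⟩ ψG hne
    rw [hΦ''] at hne
    change classInner (ψG : G → ℂ) (indFun (inert M ν.1) (Φ ν ψ)) ≠ 0 at hne
    rw [frobenius_right _ _ (isClassFunction_character (irr_isCharacter ψG.2))] at hne
    have hψT := isCharacter_comp (inert M ν.1).subtype (irr_isCharacter ψG.2)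
    obtain ⟨φ, h1, h2⟩ := exists_common_constituent (isClassFunction_character hψT) hne
    have hk := hK ν φ ψ hψ h2
    let bK : IrrCharacter (H.subgroupOf M) := ⟨_, (hirr ν.1 ν.2.1).1⟩
    have hk2 := inner_ne_zero_of_constituent
      ((Subgroup.inclusion (le_inert M ν.1)).comp (H.subgroupOf M).subtype) hψT φ bK h1 hk
    haveI := Fintype.ofFinite (H.subgroupOf N)
    haveI := Fintype.ofFinite N
    rw [proj_one_iff]
    let f : H.subgroupOf N →* H.subgroupOf M :=
      { toFun := fun x => ⟨⟨((x : N) : G), hNM (x : N).2⟩, x.2⟩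
        map_one' := rfl
        map_mul' := fun _ _ => rfl }
    refine inner_ne_zero_of_constituent f
      (isCharacter_comp (M.subtype.comp (H.subgroupOf M).subtype) (irr_isCharacter ψG.2)) bK
      ⟨_, h.res⟩ hk2 ?_
    obtain ⟨e, he0, he⟩ := restrict_eq_mul (N.subgroupOf M) τ' hinv' ν.1 ν.2.1
    rw [show (fun x => (bK : H.subgroupOf M → ℂ) (f x)) =
      (e : ℂ) • (fun x : H.subgroupOf N => (τ : N → ℂ) x) from funext fun x => by
        show (ν.1 : M → ℂ) (⟨((x : N) : G), hNM (x : N).2⟩ : M) = _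
        rw [show (ν.1 : M → ℂ) (⟨((x : N) : G), hNM (x : N).2⟩ : M) = _ from
          he ⟨⟨((x : N) : G), hNM (x : N).2⟩, Subgroup.mem_subgroupOf.2 (x : N).2⟩, hτ']
        rfl, classInner_smul_left, irr_self h.res, mul_one]
    exact Nat.cast_ne_zero.2 he0
  · intro f hf horth a ha
    -- the twisted sums at representatives
    have hR : ∀ (ν : {ν : IrrCharacter M // Ov ν ∧ rep ν = ν}), ∀ x ∈ H, x ∈ inert M ν.1 →
        proj H M (ν.1 : M → ℂ) f x = 0 := by
      intro ν x hxH hxT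
      have h1 := hd7 ν (fun t : inert M ν.1 => f t) (fun g k => by
          show f ((k : G) * g * (k : G)⁻¹) = f g
          rw [hf]) (fun ψ hψ => by
        rw [← frobenius_right _ _ hf]
        have := horth (ind ⟨ν, ψ, hψ⟩) ⟨_, rfl⟩
        rwa [hΦ''] at this) ⟨x, hxT⟩ hxH
      rw [proj_sub H M (inert M ν.1) (le_inert M ν.1)] at h1
      rw [proj_eq H M M inf_le_right]
      exact h1
    have hall : ∀ μ : IrrCharacter M, Ov μ → proj H M (μ : M → ℂ) f a = 0 := by
      intro μ hμ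
      by_cases haT : a ∈ inert M μ
      · obtain ⟨c, hc⟩ := mem_cliffOrbit.1 (hrep μ).1
        obtain ⟨b, hb1, hb2⟩ := hall_aux hp H M h c μ (hc ▸ (hrep μ).2)
        have hb := hb1 a ha haT
        have hz := hR ⟨rep μ, hrepOv μ hμ⟩ (b * a * b⁻¹) hb.1 (show b * a * b⁻¹ ∈ inert M (rep μ) by rw [← hc]; exact hb.2)
        rw [← hz, proj_eq H M M inf_le_right, proj_eq H M M inf_le_right]
        let φ : H.subgroupOf M → H.subgroupOf M := fun k =>
          ⟨MulAut.conjNormal b (k : M), by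
            rw [Subgroup.mem_subgroupOf, MulAut.conjNormal_apply]
            exact (hb1 _ k.2 (le_inert M μ (k : M).2)).1⟩
        have hφ : Function.Injective φ := fun k k' e => Subtype.ext
          ((MulAut.conjNormal b).injective (congrArg Subtype.val e))
        refine Fintype.sum_equiv (Equiv.ofBijective φ (Finite.injective_iff_bijective.1 hφ)) _ _ fun k => ?_
        show _ = zext M (rep μ : M → ℂ) ((MulAut.conjNormal b (k : M) : M) : G) *
          f (b * a * b⁻¹ * ((MulAut.conjNormal b (k : M) : M) : G))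
        have e1 : b * a * b⁻¹ * ((MulAut.conjNormal b (k : M) : M) : G) = b * (a * ((k : M) : G)) * b⁻¹ := by
          rw [MulAut.conjNormal_apply]; group
        rw [zext_mem M _ (k : M).2, zext_mem M _ (MulAut.conjNormal b (k : M)).2, e1, hf]
        congr 2
        rw [← hc]
        exact (hb2 (k : M)).symm
      · refine proj_outside H M μ hf ha (hirr μ hμ).1 fun hirr2 e => haT ?_
        refine mem_inert.2 (hinj _ μ (hOv a μ hμ) hμ ?_)
        have e' := congrArg Subtype.val e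
        simp only at e'
        rw [e', irr_self (hirr μ hμ).1]
        exact one_ne_zero
    have hind := isCharacter_indFun (N.subgroupOf M) (irr_isCharacter τ'.2)
    have hidx0 : conj (((N.subgroupOf M).index : ℂ)) ≠ 0 := by
      rw [map_natCast]; exact Nat.cast_ne_zero.2 Subgroup.index_ne_zero_of_finite
    refine (mul_eq_zero.1 ?_).resolve_left hidx0
    rw [proj_eq H N M (inf_le_right.trans hNM), Finset.mul_sum]
    have hzext : ∀ k : H.subgroupOf M, conj (((N.subgroupOf M).index : ℂ)) * zext N (τ : N → ℂ) ((k : M) : G) =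
        ∑ μ : IrrCharacter M, conj (classInner (indFun (N.subgroupOf M) (τ' : N.subgroupOf M → ℂ)) (μ : M → ℂ)) *
          zext M (μ : M → ℂ) ((k : M) : G) := by
      intro k
      have e1 : extendByZero N (τ : N → ℂ) ((k : M) : G) =
          extendByZero (N.subgroupOf M) (τ' : N.subgroupOf M → ℂ) (k : M) := by
        by_cases hk : ((k : M) : G) ∈ N
        · rw [extendByZero_mem N _ hk, extendByZero_mem (N.subgroupOf M) _ (Subgroup.mem_subgroupOf.2 hk), hτ']
        · rw [extendByZero_not_mem N _ hk, extendByZero_not_mem (N.subgroupOf M) _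
            (fun h' => hk (Subgroup.mem_subgroupOf.1 h'))]
      rw [zext, e1, ← map_mul, ← sum_over (N.subgroupOf M) τ' hinv', map_sum]
      refine Finset.sum_congr rfl fun μ _ => ?_
      rw [map_mul, zext_mem M _ (k : M).2]
    calc ∑ k : H.subgroupOf M, conj (((N.subgroupOf M).index : ℂ)) *
          (zext N (τ : N → ℂ) ((k : M) : G) * f (a * ((k : M) : G)))
        = ∑ k : H.subgroupOf M, ∑ μ : IrrCharacter M,
            conj (classInner (indFun (N.subgroupOf M) (τ' : N.subgroupOf M → ℂ)) (μ : M → ℂ)) *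
              (zext M (μ : M → ℂ) ((k : M) : G) * f (a * ((k : M) : G))) := by
          refine Finset.sum_congr rfl fun k _ => ?_
          rw [← mul_assoc, hzext, Finset.sum_mul]
          exact Finset.sum_congr rfl fun μ _ => mul_assoc _ _ _
      _ = ∑ μ : IrrCharacter M,
            conj (classInner (indFun (N.subgroupOf M) (τ' : N.subgroupOf M → ℂ)) (μ : M → ℂ)) *
              proj H M (μ : M → ℂ) f a := by
          rw [Finset.sum_comm]
          refine Finset.sum_congr rfl fun μ _ => ?_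
          rw [proj_eq H M M inf_le_right, Finset.mul_sum]
      _ = 0 := Finset.sum_eq_zero fun μ _ => by
          by_cases hμ : Ov μ
          · rw [hall μ hμ, mul_zero]
          · rw [frobenius (N.subgroupOf M) _ (isClassFunction_character (irr_isCharacter μ.2)),
              classInner_symm, not_not.1 hμ, zero_mul]
where
  hall_aux {p : ℕ} (hp : p.Prime) (H : Subgroup G) (M : Subgroup G) [M.Normal] [Fintype M] {N : Subgroup G}
      [N.Normal] {τ : IrrCharacter N} (h : Ctx p H N τ) (c : G) (μ : IrrCharacter M)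
      (hgood : ∃ n, (H.subgroupOf (inert M (irrComp (MulAut.conjNormal c) μ))).index = p ^ n) :
      ∃ b : G, (∀ x, x ∈ H → x ∈ inert M μ →
          b * x * b⁻¹ ∈ H ∧ b * x * b⁻¹ ∈ inert M (irrComp (MulAut.conjNormal c) μ)) ∧
        ∀ m : M, (irrComp (MulAut.conjNormal c) μ : M → ℂ) (MulAut.conjNormal b m) = (μ : M → ℂ) m :=
    hall_conj hp h.psolv H M h.cop μ c hgood

end Cfsg.Agent.Char.Fong
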