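import Cfsg.Agent.Lib.Char.FongStep
import Cfsg.Agent.Lib.Char.PSolvHeight
import Cfsg.Agent.Lib.Solv.PSolvHall
import Cfsg.Agent.S0867

/-!
# Fong characters: definitions and elementary lemmas
-/

open scoped ComplexConjugate
open Cfsg Module

set_option autoImplicit false
set_option linter.style.haveILetI false
set_option linter.unusedSectionVars false

namespace Cfsg.Agent.Char.Fong

universe u

variable {G : Type u} [Group G] [Fintype G] {p : ℕ}

/-- The conjugate of the extension by zero. -/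
noncomputable def zext (N : Subgroup G) (τ : N → ℂ) : G → ℂ := fun x => conj (extendByZero N τ x)

/-- The twisted sum over `H` against a function on `N`. -/
noncomputable def proj (H N : Subgroup G) (τ : N → ℂ) (f : G → ℂ) (h : G) : ℂ :=
  ∑ x : G, extendByZero H (fun y : H => zext N τ y) x * f (h * x)

/-- Lying over. -/
def Over (N : Subgroup G) (τ : N → ℂ) (χ : G → ℂ) : Prop := ∑ x : G, zext N τ x * χ x ≠ 0

/-- The hypotheses on a triple. -/
structure Ctx (p : ℕ) (H N : Subgroup G) [N.Normal] (τ : IrrCharacter N) : Prop where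
  psolv : IsPSolvable p G
  cop : (Nat.card H).Coprime p
  idx : ∃ n : ℕ, H.index = p ^ n
  inv : ∀ (g : G) (n : N), (τ : N → ℂ) (MulAut.conjNormal g n) = (τ : N → ℂ) n
  det : (detOrder (τ : N → ℂ)).Coprime p
  res : IsIrrCharacter (H.subgroupOf N) fun x => (τ : N → ℂ) x

/-- Fong data over a triple. -/
def Data (p : ℕ) (H N : Subgroup G) (τ : N → ℂ) : Prop :=
  ∃ (S : Set (IrrCharacter G)) (Φ : IrrCharacter G → G → ℂ),
    (∀ χ ∈ S, IsCharacter G (Φ χ)) ∧ (∀ χ ∈ S, ∀ g : G, p ∣ orderOf g → Φ χ g = 0) ∧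
    (∀ χ ∈ S, classInner (χ : G → ℂ) (Φ χ) = 1) ∧
    (∀ χ ∈ S, ∀ χ' ∈ S, χ ≠ χ' → classInner (χ' : G → ℂ) (Φ χ) = 0) ∧
    (∀ χ ∈ S, Over N τ (χ : G → ℂ)) ∧
    (∀ χ ∈ S, ∀ ψ : IrrCharacter G, classInner (ψ : G → ℂ) (Φ χ) ≠ 0 → proj H N τ (ψ : G → ℂ) 1 ≠ 0) ∧
    ∀ f : G → ℂ, IsClassFunction G f → (∀ χ ∈ S, classInner f (Φ χ) = 0) →
      ∀ h ∈ H, proj H N τ f h = 0

theorem zext_mem (N : Subgroup G) (τ : N → ℂ) {x : G} (hx : x ∈ N) :
    zext N τ x = conj (τ ⟨x, hx⟩) := by rw [zext, extendByZero_mem N τ hx]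

theorem zext_not_mem (N : Subgroup G) (τ : N → ℂ) {x : G} (hx : x ∉ N) : zext N τ x = 0 := by
  rw [zext, extendByZero_not_mem N τ hx, map_zero]

theorem sum_supported (K : Subgroup G) [Fintype K] (F : G → ℂ) (hF : ∀ x ∉ K, F x = 0) :
    ∑ x : G, F x = ∑ k : K, F k := by
  classical
  have h := sum_extendByZero_mul K (fun k : K => F k) (fun _ => (1 : ℂ))
  simp only [mul_one] at h
  rw [← h]
  refine Finset.sum_congr rfl fun x _ => ?_
  by_cases hx : x ∈ K
  · rw [extendByZero_mem K _ hx]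
  · rw [extendByZero_not_mem K _ hx, hF x hx]

theorem over_iff (N : Subgroup G) [Fintype N] (τ : N → ℂ) (χ : G → ℂ) :
    Over N τ χ ↔ classInner (fun n : N => χ n) τ ≠ 0 := by
  have h : ∑ x : G, zext N τ x * χ x = (Nat.card N : ℂ) * classInner (fun n : N => χ n) τ := by
    rw [sum_supported N _ (fun x hx => by rw [zext_not_mem N τ hx, zero_mul]), classInner, ← mul_assoc,
      mul_inv_cancel₀ (Nat.cast_ne_zero.2 Nat.card_pos.ne'), one_mul]
    exact Finset.sum_congr rfl fun n _ => by rw [zext_mem N τ n.2, mul_comm]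
  rw [Over, h, mul_ne_zero_iff]
  exact ⟨fun h => h.2, fun h => ⟨Nat.cast_ne_zero.2 Nat.card_pos.ne', h⟩⟩

theorem proj_eq (H N M : Subgroup G) [Fintype (H.subgroupOf M)] (hNM : H ⊓ N ≤ M) (τ : N → ℂ)
    (f : G → ℂ) (h : G) :
    proj H N τ f h = ∑ k : H.subgroupOf M, zext N τ ((k : M) : G) * f (h * ((k : M) : G)) := by
  haveI := Fintype.ofFinite (H ⊓ M : Subgroup G)
  rw [proj, sum_supported (H ⊓ M) _ (fun x hx => by
    by_cases hH : x ∈ H
    · rw [extendByZero_mem H _ hH, zext_not_mem N τ (fun hN => hx ⟨hH, hNM ⟨hH, hN⟩⟩), zero_mul]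
    · rw [extendByZero_not_mem H _ hH, zero_mul])]
  refine Fintype.sum_equiv
    { toFun := fun x => ⟨⟨(x : G), x.2.2⟩, x.2.1⟩
      invFun := fun k => ⟨((k : M) : G), k.2, k.1.2⟩
      left_inv := fun x => rfl
      right_inv := fun k => rfl } _ _ fun x => ?_
  rw [extendByZero_mem H _ x.2.1]
  rfl

theorem proj_one_iff (H M : Subgroup G) [Fintype (H.subgroupOf M)] (μ : M → ℂ) (F : G → ℂ) :
    proj H M μ F 1 ≠ 0 ↔
      classInner (fun k : H.subgroupOf M => F ((k : M) : G)) (fun k : H.subgroupOf M => μ k) ≠ 0 := by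
  rw [proj_eq H M M inf_le_right μ F 1]
  have h : ∑ k : H.subgroupOf M, zext M μ ((k : M) : G) * F (1 * ((k : M) : G)) =
      (Nat.card (H.subgroupOf M) : ℂ) *
        classInner (fun k : H.subgroupOf M => F ((k : M) : G)) (fun k : H.subgroupOf M => μ k) := by
    rw [classInner, ← mul_assoc, mul_inv_cancel₀ (Nat.cast_ne_zero.2 Nat.card_pos.ne'), one_mul]
    refine Finset.sum_congr rfl fun k _ => ?_
    rw [zext_mem M μ (k : M).2, one_mul, mul_comm]
  rw [h, mul_ne_zero_iff]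
  exact ⟨fun h => h.2, fun h => ⟨Nat.cast_ne_zero.2 Nat.card_pos.ne', h⟩⟩

theorem indFun_singular (H : Subgroup G) (hcop : (Nat.card H).Coprime p) (hp : p.Prime) (θ : H → ℂ)
    {g : G} (hg : p ∣ orderOf g) : indFun H θ g = 0 := by
  rw [indFun, Finset.sum_eq_zero fun x _ => ?_, mul_zero]
  refine extendByZero_not_mem H θ fun h => ?_
  have h1 : orderOf (x⁻¹ * g * x) ∣ Nat.card H := by
    have := orderOf_dvd_natCard (⟨x⁻¹ * g * x, h⟩ : H)
    rwa [Subgroup.orderOf_mk] at this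
  rw [show x⁻¹ * g * x = MulAut.conj x⁻¹ g by simp, MulEquiv.orderOf_eq] at h1
  exact hp.coprime_iff_not_dvd.1 hcop.symm (hg.trans h1)

theorem indFun_sub_singular (T : Subgroup G) (θ : T → ℂ) (hθ : ∀ t : T, p ∣ orderOf t → θ t = 0)
    {g : G} (hg : p ∣ orderOf g) : indFun T θ g = 0 := by
  rw [indFun, Finset.sum_eq_zero fun x _ => ?_, mul_zero]
  by_cases h : x⁻¹ * g * x ∈ T
  · rw [extendByZero_mem T θ h]
    refine hθ _ ?_
    rwa [Subgroup.orderOf_mk, show x⁻¹ * g * x = MulAut.conj x⁻¹ g by simp, MulEquiv.orderOf_eq]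
  · rw [extendByZero_not_mem T θ h]

theorem detOrder_comp_dvd' {A B : Type u} [Group A] [Finite A] [Group B] [Finite B] (f : B →* A)
    {χ : A → ℂ} (hχ : IsCharacter A χ) : detOrder (fun b => χ (f b)) ∣ detOrder χ := by
  obtain ⟨n, ρ, hρ⟩ := hχ
  let σ : Representation ℂ B (Fin n → ℂ) := MonoidHom.comp ρ f
  have hσ : σ.character = fun b => χ (f b) := by rw [← hρ]; rfl
  rw [detOrder_eq σ hσ, detOrder_eq ρ hρ]
  refine orderOf_dvd_of_pow_eq_one (MonoidHom.ext fun h => ?_)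
  rw [MonoidHom.pow_apply, MonoidHom.one_apply,
    show detHom σ h = detHom ρ (f h) from Units.ext rfl, ← MonoidHom.pow_apply,
    pow_orderOf_eq_one, MonoidHom.one_apply]

/-- The inertia group. -/
def inert (M : Subgroup G) [M.Normal] [Fintype M] (μ : IrrCharacter M) : Subgroup G where
  carrier := {g | irrComp (MulAut.conjNormal g) μ = μ}
  one_mem' := Subtype.ext (funext fun a => by rw [irrComp_apply, map_one]; rfl)
  mul_mem' {a b} ha hb := Subtype.ext (funext fun x => by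
    have ha' := congrFun (congrArg Subtype.val ha) (MulAut.conjNormal b x)
    have hb' := congrFun (congrArg Subtype.val hb) x
    rw [irrComp_apply] at ha' hb'
    rw [irrComp_apply, map_mul, MulAut.mul_apply, ha', hb'])
  inv_mem' {a} ha := Subtype.ext (funext fun x => by
    have ha' := congrFun (congrArg Subtype.val ha) (MulAut.conjNormal a⁻¹ x)
    rw [irrComp_apply] at ha'
    rw [irrComp_apply, ← ha']
    congr 1
    simp)

theorem mem_inert {M : Subgroup G} [M.Normal] [Fintype M] {μ : IrrCharacter M} {g : G} :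
    g ∈ inert M μ ↔ irrComp (MulAut.conjNormal g) μ = μ := Iff.rfl

theorem irrComp_mul {M : Subgroup G} [M.Normal] [Fintype M] (μ : IrrCharacter M) (a b : G) :
    irrComp (MulAut.conjNormal b) (irrComp (MulAut.conjNormal a) μ) = irrComp (MulAut.conjNormal (a * b)) μ :=
  Subtype.ext (funext fun x => by simp [map_mul])

theorem irrComp_one {M : Subgroup G} [M.Normal] [Fintype M] (μ : IrrCharacter M) :
    irrComp (MulAut.conjNormal (1 : G)) μ = μ :=
  Subtype.ext (funext fun x => by simp)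

theorem le_inert (M : Subgroup G) [M.Normal] [Fintype M] (μ : IrrCharacter M) : M ≤ inert M μ :=
  fun a ha => Subtype.ext (funext fun x => by
    rw [irrComp_apply]
    have e : MulAut.conjNormal a x = (⟨a, ha⟩ : M) * x * (⟨a, ha⟩ : M)⁻¹ :=
      Subtype.ext (by simp [MulAut.conjNormal_apply])
    rw [e, isClassFunction_character (irr_isCharacter μ.2)])

theorem cliffOrbit_eq {M : Subgroup G} [M.Normal] [Fintype M] {μ ν : IrrCharacter M}
    (h : ν ∈ cliffOrbit M μ) : cliffOrbit M ν = cliffOrbit M μ := by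
  obtain ⟨a, rfl⟩ := mem_cliffOrbit.1 h
  ext φ
  simp only [mem_cliffOrbit, irrComp_mul]
  exact ⟨fun ⟨g, hg⟩ => ⟨a * g, hg⟩, fun ⟨g, hg⟩ => ⟨a⁻¹ * g, by rwa [mul_inv_cancel_left]⟩⟩

end Cfsg.Agent.Char.Fong
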