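import Cfsg.Agent.Lib.Char.FongSteps

/-!
# Fong characters: transport to inertia groups
-/

open scoped ComplexConjugate
open Cfsg Module

set_option autoImplicit false
set_option linter.style.haveILetI false
set_option linter.unusedSectionVars false

namespace Cfsg.Agent.Char.Fong

universe u

variable {G : Type u} [Group G] [Fintype G] {p : ℕ}

/-- A character of `M` viewed on `M` inside `T`. -/
def subFun (M T : Subgroup G) (μ : M → ℂ) : M.subgroupOf T → ℂ := fun x => μ ⟨((x : T) : G), x.2⟩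

theorem zext_sub (M T : Subgroup G) [Fintype T] (μ : M → ℂ) (t : T) :
    zext (M.subgroupOf T) (subFun M T μ) t = zext M μ (t : G) := by
  by_cases h : (t : G) ∈ M
  · rw [zext_mem M μ h, zext_mem (M.subgroupOf T) (subFun M T μ) (Subgroup.mem_subgroupOf.2 h)]
    rfl
  · rw [zext_not_mem M μ h, zext_not_mem (M.subgroupOf T) _ (fun h' => h (Subgroup.mem_subgroupOf.1 h'))]

theorem over_sub (M T : Subgroup G) [Fintype M] [Fintype T] (hMT : M ≤ T) (μ : M → ℂ) (F : T → ℂ) :
    Over (M.subgroupOf T) (subFun M T μ) F ↔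
      classInner (fun a : M => F (Subgroup.inclusion hMT a)) μ ≠ 0 := by
  haveI := Fintype.ofFinite (M.subgroupOf T)
  rw [over_iff]
  refine not_congr (Eq.congr_left ?_)
  simp only [classInner]
  rw [Nat.card_congr (Subgroup.subgroupOfEquivOfLe hMT).toEquiv]
  congr 1
  exact Fintype.sum_equiv (Subgroup.subgroupOfEquivOfLe hMT).toEquiv _ _ fun x => rfl

theorem proj_sub (H M T : Subgroup G) [Fintype (H.subgroupOf M)] [Fintype T] (hMT : M ≤ T) (μ : M → ℂ)
    (F : T → ℂ) (a : T) :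
    proj (H.subgroupOf T) (M.subgroupOf T) (subFun M T μ) F a =
      ∑ k : H.subgroupOf M, zext M μ ((k : M) : G) * F (a * Subgroup.inclusion hMT (k : M)) := by
  haveI := Fintype.ofFinite ((H.subgroupOf T).subgroupOf (M.subgroupOf T))
  rw [proj_eq (H.subgroupOf T) (M.subgroupOf T) (M.subgroupOf T) inf_le_right]
  refine Fintype.sum_equiv
    { toFun := fun x => ⟨⟨(((x : M.subgroupOf T) : T) : G), (x : M.subgroupOf T).2⟩, x.2⟩
      invFun := fun k => ⟨⟨⟨((k : M) : G), hMT (k : M).2⟩, (k : M).2⟩, k.2⟩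
      left_inv := fun x => rfl
      right_inv := fun k => rfl } _ _ fun x => ?_
  rw [zext_sub]
  rfl

theorem ctx_sub (hp : p.Prime) (H N M : Subgroup G) [N.Normal] [M.Normal] [Fintype M] (τ : IrrCharacter N)
    (h : Ctx p H N τ) (μ : IrrCharacter M) (hirr : IsIrrCharacter (H.subgroupOf M) fun k => (μ : M → ℂ) k)
    (hdet : (detOrder (μ : M → ℂ)).Coprime p) (hgood : ∃ n, (H.subgroupOf (inert M μ)).index = p ^ n) :
    ∃ μ' : IrrCharacter (M.subgroupOf (inert M μ)),
      ((μ' : M.subgroupOf (inert M μ) → ℂ) = subFun M (inert M μ) (μ : M → ℂ)) ∧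
      Ctx p (H.subgroupOf (inert M μ)) (M.subgroupOf (inert M μ)) μ' := by
  classical
  haveI := Fintype.ofFinite (M.subgroupOf (inert M μ))
  haveI := Fintype.ofFinite (H.subgroupOf M)
  haveI := Fintype.ofFinite ((H.subgroupOf (inert M μ)).subgroupOf (M.subgroupOf (inert M μ)))
  let e := Subgroup.subgroupOfEquivOfLe (le_inert M μ)
  refine ⟨⟨subFun M (inert M μ) (μ : M → ℂ), isIrrCharacter_comp_equiv e μ.2⟩, rfl, ⟨?_, ?_, hgood, ?_, ?_, ?_⟩⟩
  · exact isPSolvable_subgroup hp h.psolv _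
  · exact h.cop.coprime_dvd_left (Subgroup.card_dvd_of_injective
      ((inert M μ).subtype.subgroupComap H) fun a b hab => Subtype.ext (Subtype.ext (congrArg Subtype.val hab :)))
  · intro t x
    have ht := congrFun (congrArg Subtype.val (mem_inert.1 t.2)) (e x)
    rw [irrComp_apply] at ht
    exact Eq.trans (congrArg (μ : M → ℂ) (Subtype.ext rfl)) ht
  · exact hdet.coprime_dvd_left (detOrder_comp_dvd' e.toMonoidHom (irr_isCharacter μ.2))
  · let e' : (H.subgroupOf (inert M μ)).subgroupOf (M.subgroupOf (inert M μ)) ≃* H.subgroupOf M :=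
      { toFun := fun x => ⟨⟨(((x : M.subgroupOf (inert M μ)) : inert M μ) : G),
          (x : M.subgroupOf (inert M μ)).2⟩, x.2⟩
        invFun := fun k => ⟨⟨⟨((k : M) : G), le_inert M μ (k : M).2⟩, (k : M).2⟩, k.2⟩
        left_inv := fun x => rfl
        right_inv := fun k => rfl
        map_mul' := fun x y => rfl }
    exact isIrrCharacter_comp_equiv e' hirr

theorem exists_good (hp : p.Prime) (hG : IsPSolvable p G) (H M : Subgroup G) [M.Normal] [Fintype M]
    (hcop : (Nat.card H).Coprime p) (hidx : ∃ n, H.index = p ^ n) (μ : IrrCharacter M) :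
    ∃ ν ∈ cliffOrbit M μ, ∃ n, (H.subgroupOf (inert M ν)).index = p ^ n := by
  obtain ⟨⟨U, hU, n, hn⟩, -⟩ := Solv.psolv_hall hp (isPSolvable_subgroup hp hG (inert M μ))
  obtain ⟨g, hg⟩ := (Solv.psolv_hall hp hG).2 (U.map (inert M μ).subtype) H
    (by rwa [Subgroup.card_map_of_injective (inert M μ).subtype_injective]) hcop hidx
  set ν := irrComp (MulAut.conjNormal g⁻¹) μ with hν
  have hinert : inert M ν = (inert M μ).map (MulAut.conj g).toMonoidHom := by
    ext x
    rw [mem_inert, hν, irrComp_mul]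
    constructor
    · intro hx
      refine ⟨g⁻¹ * x * g, ?_, by simp [mul_assoc]⟩
      show irrComp (MulAut.conjNormal (g⁻¹ * x * g)) μ = μ
      rw [← irrComp_mul μ (g⁻¹ * x) g, hx, irrComp_mul, inv_mul_cancel, irrComp_one]
    · rintro ⟨y, hy, rfl⟩
      rw [show g⁻¹ * (MulAut.conj g).toMonoidHom y = y * g⁻¹ by simp [mul_assoc], ← irrComp_mul μ y g⁻¹,
        mem_inert.1 hy]
  refine ⟨ν, mem_cliffOrbit.2 ⟨g⁻¹, rfl⟩, ?_⟩
  have hle : (U.map (inert M μ).subtype).map (MulAut.conj g).toMonoidHom ≤ H := by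
    rintro _ ⟨u, hu, rfl⟩
    exact hg ⟨u, hu, rfl⟩
  have hd : H.relIndex (inert M ν) ∣ p ^ n := by
    refine (Subgroup.relIndex_dvd_of_le_left (inert M ν) hle).trans (dvd_of_eq ?_)
    rw [hinert, Subgroup.relIndex_map_map_of_injective _ _ (MulAut.conj g).injective, ← hn,
      Subgroup.relIndex, Subgroup.subgroupOf, Subgroup.comap_map_eq_self_of_injective (inert M μ).subtype_injective]
  obtain ⟨m, -, hm⟩ := (Nat.dvd_prime_pow hp).1 hd
  exact ⟨m, hm⟩

theorem hall_conj (hp : p.Prime) (hG : IsPSolvable p G) (H M : Subgroup G) [M.Normal] [Fintype M]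
    (hcop : (Nat.card H).Coprime p) (μ : IrrCharacter M) (a : G)
    (hgood : ∃ n, (H.subgroupOf (inert M (irrComp (MulAut.conjNormal a) μ))).index = p ^ n) :
    ∃ b : G, (∀ x, x ∈ H → x ∈ inert M μ →
        b * x * b⁻¹ ∈ H ∧ b * x * b⁻¹ ∈ inert M (irrComp (MulAut.conjNormal a) μ)) ∧
      ∀ m : M, (irrComp (MulAut.conjNormal a) μ : M → ℂ) (MulAut.conjNormal b m) = (μ : M → ℂ) m := by
  set ν := irrComp (MulAut.conjNormal a) μ with hν
  have hT : ∀ x, x ∈ inert M ν ↔ a * x * a⁻¹ ∈ inert M μ := fun x => by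
    rw [mem_inert, mem_inert, hν, irrComp_mul]
    constructor
    · intro h
      rw [← irrComp_mul μ (a * x) a⁻¹, h, irrComp_mul, mul_inv_cancel, irrComp_one]
    · intro h
      rw [show a * x = a * x * a⁻¹ * a by group, ← irrComp_mul μ (a * x * a⁻¹) a, h]
  set U : Subgroup (inert M ν) :=
    ((H ⊓ inert M μ).map (MulAut.conj a⁻¹).toMonoidHom).subgroupOf (inert M ν) with hU
  have hUc : (Nat.card U).Coprime p := by
    refine hcop.coprime_dvd_left (Dvd.dvd.trans ?_ (Subgroup.card_dvd_of_le (inf_le_left : H ⊓ inert M μ ≤ H)))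
    rw [← Subgroup.card_map_of_injective (K := H ⊓ inert M μ) (f := (MulAut.conj a⁻¹).toMonoidHom) (MulAut.conj a⁻¹).injective]
    exact Subgroup.card_dvd_of_injective ((inert M ν).subtype.subgroupComap _)
      fun s t hst => Subtype.ext (Subtype.ext (congrArg Subtype.val hst :))
  have hHc : (Nat.card (H.subgroupOf (inert M ν))).Coprime p :=
    hcop.coprime_dvd_left (Subgroup.card_dvd_of_injective ((inert M ν).subtype.subgroupComap _)
      fun s t hst => Subtype.ext (Subtype.ext (congrArg Subtype.val hst :)))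
  obtain ⟨t, ht⟩ := (Solv.psolv_hall hp (isPSolvable_subgroup hp hG (inert M ν))).2 U _ hUc hHc hgood
  refine ⟨(t : G) * a⁻¹, fun x hxH hxT => ?_, fun m => ?_⟩
  · have hmem : a⁻¹ * x * a ∈ inert M ν := by rw [hT]; simpa [mul_assoc] using hxT
    have hu : (⟨a⁻¹ * x * a, hmem⟩ : inert M ν) ∈ U :=
      Subgroup.mem_subgroupOf.2 ⟨x, ⟨hxH, hxT⟩, by simp [mul_assoc]⟩
    have h2 := ht ⟨_, hu, rfl⟩
    have h3 : (t : G) * a⁻¹ * x * ((t : G) * a⁻¹)⁻¹ =
        ((t * ⟨a⁻¹ * x * a, hmem⟩ * t⁻¹ : inert M ν) : G) := by simp [mul_assoc]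
    rw [h3]
    exact ⟨h2, SetLike.coe_mem _⟩
  · have hat : a * (t : G) * a⁻¹ ∈ inert M μ := (hT _).1 t.2
    show (μ : M → ℂ) (MulAut.conjNormal a (MulAut.conjNormal ((t : G) * a⁻¹) m)) = _
    have e1 := congrFun (congrArg Subtype.val (mem_inert.1 hat)) m
    rw [irrComp_apply] at e1
    rw [← MulAut.mul_apply, ← map_mul, ← mul_assoc]
    exact e1

/-- Off the inertia group the twisted sum vanishes. -/
theorem proj_outside (H M : Subgroup G) [M.Normal] [Fintype M] [Fintype (H.subgroupOf M)] (μ : IrrCharacter M)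
    {f : G → ℂ} (hf : IsClassFunction G f) {h : G} (hh : h ∈ H)
    (hirr : IsIrrCharacter (H.subgroupOf M) fun k => (μ : M → ℂ) k)
    (hne : ∀ hirr2 : IsIrrCharacter (H.subgroupOf M) (fun k => (irrComp (MulAut.conjNormal h) μ : M → ℂ) k),
      (⟨_, hirr2⟩ : IrrCharacter (H.subgroupOf M)) ≠ ⟨_, hirr⟩) :
    proj H M (μ : M → ℂ) f h = 0 := by
  classical
  have hmem : ∀ (c : G), c ∈ H → ∀ k : H.subgroupOf M, MulAut.conjNormal c (k : M) ∈ H.subgroupOf M := by
    intro c hc k
    rw [Subgroup.mem_subgroupOf, MulAut.conjNormal_apply]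
    exact H.mul_mem (H.mul_mem hc k.2) (H.inv_mem hc)
  let φ : H.subgroupOf M ≃* H.subgroupOf M :=
    { toFun := fun k => ⟨MulAut.conjNormal h (k : M), hmem h hh k⟩
      invFun := fun k => ⟨MulAut.conjNormal h⁻¹ (k : M), hmem h⁻¹ (H.inv_mem hh) k⟩
      left_inv := fun k => Subtype.ext (by simp)
      right_inv := fun k => Subtype.ext (by simp)
      map_mul' := fun x y => Subtype.ext (by simp) }
  set b : IrrCharacter (H.subgroupOf M) := ⟨_, hirr⟩ with hb
  set a : IrrCharacter (H.subgroupOf M) := ⟨fun k => (b : H.subgroupOf M → ℂ) (φ k),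
    isIrrCharacter_comp_equiv φ b.2⟩ with ha
  have hab : a ≠ b := hne a.2
  have hb1 : (b : H.subgroupOf M → ℂ) 1 ≠ 0 := irr_one_ne_zero b.2
  have hK : (Nat.card (H.subgroupOf M) : ℂ) ≠ 0 := Nat.cast_ne_zero.2 Nat.card_pos.ne'
  set c : ℂ := conj ((Nat.card (H.subgroupOf M) : ℂ) / (b : H.subgroupOf M → ℂ) 1) with hc
  have hc0 : c ≠ 0 := by rw [hc]; exact (_root_.map_ne_zero _).2 (div_ne_zero hK hb1)
  rw [proj_eq H M M inf_le_right]
  refine (mul_eq_zero.1 ?_).resolve_left hc0
  rw [Finset.mul_sum]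
  calc ∑ x : H.subgroupOf M, c * (zext M (μ : M → ℂ) ((x : M) : G) * f (h * ((x : M) : G)))
      = ∑ x : H.subgroupOf M, ∑ m : H.subgroupOf M,
          conj ((b : H.subgroupOf M → ℂ) m * (b : H.subgroupOf M → ℂ) (m⁻¹ * x)) * f (h * ((x : M) : G)) := by
        refine Finset.sum_congr rfl fun x _ => ?_
        rw [← Finset.sum_mul, ← map_sum, conv_irr b b x, if_pos rfl, map_mul, ← hc, zext_mem M _ (x : M).2,
          mul_assoc]
    _ = ∑ m : H.subgroupOf M, ∑ k : H.subgroupOf M,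
          conj ((b : H.subgroupOf M → ℂ) m * (b : H.subgroupOf M → ℂ) k) *
            f (h * (((m : M) : G) * ((k : M) : G))) := by
        rw [Finset.sum_comm]
        refine Finset.sum_congr rfl fun m _ => (Fintype.sum_equiv (Equiv.mulLeft m) _ _ fun k => ?_).symm
        simp
    _ = ∑ m : H.subgroupOf M, ∑ k : H.subgroupOf M,
          conj ((b : H.subgroupOf M → ℂ) m * (a : H.subgroupOf M → ℂ) k) *
            f (h * (((k : M) : G) * ((m : M) : G))) := by
        refine Finset.sum_congr rfl fun m _ => (Fintype.sum_equiv φ.toEquiv _ _ fun k => ?_).symm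
        congr 1
        show f _ = f (h * (((m : M) : G) * ((MulAut.conjNormal h (k : M) : M) : G)))
        rw [MulAut.conjNormal_apply, ← hf (h * (((m : M) : G) * (h * ((k : M) : G) * h⁻¹))) (h * ((k : M) : G) * h⁻¹)]
        congr 1
        group
    _ = ∑ x : H.subgroupOf M, ∑ k : H.subgroupOf M,
          conj ((a : H.subgroupOf M → ℂ) k * (b : H.subgroupOf M → ℂ) (k⁻¹ * x)) * f (h * ((x : M) : G)) := by
        rw [Finset.sum_comm]
        conv_rhs => rw [Finset.sum_comm]
        refine Finset.sum_congr rfl fun k _ => Fintype.sum_equiv (Equiv.mulLeft k) _ _ fun m => ?_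
        simp [mul_comm]
    _ = 0 := Finset.sum_eq_zero fun x _ => by
        rw [← Finset.sum_mul, ← map_sum, conv_irr a b x, if_neg hab, map_zero, zero_mul]

end Cfsg.Agent.Char.Fong
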