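import Cfsg.Agent.Lib.Char.CliffordGen
import Cfsg.Agent.Lib.Char.Gallagher
import Cfsg.Agent.Lib.Char.Coprime

/-!
# Tools for Fong characters: restriction to a supplement, determinants, Clifford induction
-/

open scoped ComplexConjugate
open Cfsg Module

set_option autoImplicit false
set_option linter.style.haveILetI false
set_option linter.unusedSectionVars false

namespace Cfsg.Agent.Char.Fong

universe u

variable {G : Type u} [Group G] [Fintype G]

theorem conv_irr (a b : IrrCharacter G) [Decidable (a = b)] (x : G) :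
    ∑ m : G, (a : G → ℂ) m * (b : G → ℂ) (m⁻¹ * x) =
      if a = b then (Nat.card G : ℂ) / (b : G → ℂ) 1 * (b : G → ℂ) x else 0 := by
  classical
  have ha := irr_isCharacter a.2
  have hc : IsClassFunction G (fun m => (a : G → ℂ) m⁻¹) := fun g h => by
    show (a : G → ℂ) (h * g * h⁻¹)⁻¹ = (a : G → ℂ) g⁻¹
    rw [conj_inv, isClassFunction_character ha]
  have h1 := sum_mul_shift b.2 hc x
  rw [show ∑ m : G, (a : G → ℂ) m * (b : G → ℂ) (m⁻¹ * x) =
      ∑ m : G, (a : G → ℂ) m⁻¹ * (b : G → ℂ) (m * x) from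
    Fintype.sum_equiv (Equiv.inv G) _ _ fun m => by simp, h1]
  have h2 : lam (b : G → ℂ) (fun m => (a : G → ℂ) m⁻¹) =
      (Nat.card G : ℂ) / (b : G → ℂ) 1 * classInner (b : G → ℂ) (a : G → ℂ) := by
    rw [lam, classInner]
    have : (Nat.card G : ℂ) ≠ 0 := Nat.cast_ne_zero.2 Nat.card_pos.ne'
    simp only [char_inv ha]
    rw [Finset.sum_congr rfl (fun m _ => mul_comm (conj ((a : G → ℂ) m)) ((b : G → ℂ) m))]
    field_simp
  rw [h2, irrC_orth]
  by_cases h : a = b
  · subst h; simp
  · simp [h, Ne.symm h]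

/-- A constituent of a constituent is a constituent. -/
theorem inner_ne_zero_of_constituent {A B : Type u} [Group A] [Fintype A] [Group B] [Fintype B]
    (f : B →* A) {a : A → ℂ} (ha : IsCharacter A a) (b : IrrCharacter A) (c : IrrCharacter B)
    (hab : classInner a (b : A → ℂ) ≠ 0)
    (hbc : classInner (fun x => (b : A → ℂ) (f x)) (c : B → ℂ) ≠ 0) :
    classInner (fun x => a (f x)) (c : B → ℂ) ≠ 0 := by
  classical
  choose n hn using fun φ : IrrCharacter A =>
    classInner_natCast ha (irr_isCharacter φ.2)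
  choose k hk using fun φ : IrrCharacter A =>
    classInner_natCast (isCharacter_comp f (irr_isCharacter φ.2)) (irr_isCharacter c.2)
  have he : classInner (fun x => a (f x)) (c : B → ℂ) = ((∑ φ, n φ * k φ : ℕ) : ℂ) := by
    rw [show (fun x => a (f x)) = ∑ φ : IrrCharacter A, (n φ : ℂ) • ((φ : A → ℂ) ∘ f) from funext fun x => by
      conv_lhs => rw [char_expansion ha]
      simp [Finset.sum_apply, hn], classInner_sum_left]
    push_cast
    refine Finset.sum_congr rfl fun φ _ => ?_
    rw [classInner_smul_left, hk]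
  rw [he, Nat.cast_ne_zero]
  refine fun h0 => ?_
  have := (Finset.sum_eq_zero_iff).1 h0 b (Finset.mem_univ b)
  rcases Nat.mul_eq_zero.1 this with h | h
  · exact hab (by rw [hn, h, Nat.cast_zero])
  · exact hbc (by rw [show (fun x => (b : A → ℂ) (f x)) = (b : A → ℂ) ∘ f from rfl, hk, h, Nat.cast_zero])

/-- Something with nonzero inner product shares an irreducible constituent. -/
theorem exists_common_constituent {a Φ : G → ℂ} (ha : IsClassFunction G a)
    (h : classInner a Φ ≠ 0) :
    ∃ ψ : IrrCharacter G, classInner a (ψ : G → ℂ) ≠ 0 ∧ classInner (ψ : G → ℂ) Φ ≠ 0 := by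
  classical
  by_contra hno
  push Not at hno
  apply h
  rw [classFun_expansion ha, classInner_sum_left]
  refine Finset.sum_eq_zero fun ψ _ => ?_
  rw [classInner_smul_left]
  by_cases h0 : classInner a (ψ : G → ℂ) = 0
  · rw [h0, zero_mul]
  · rw [hno ψ h0, mul_zero]

theorem exists_nsmul_rep {d : ℕ} (σ : Representation ℂ G (Fin d → ℂ)) : ∀ e : ℕ,
    ∃ (m : ℕ) (ρ : Representation ℂ G (Fin m → ℂ)), (∀ g, ρ.character g = e * σ.character g) ∧
      ∀ g, LinearMap.det (ρ g) = LinearMap.det (σ g) ^ e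
  | 0 => ⟨0, 1, fun g => by simp [Representation.character], fun g => by simp⟩
  | e + 1 => by
    obtain ⟨m, ρ, hc, hd⟩ := exists_nsmul_rep σ e
    let τ := ρ.prod σ
    let L := (finBasis ℂ ((Fin m → ℂ) × (Fin d → ℂ))).equivFun
    refine ⟨_, repTransport τ L, fun g => ?_, fun g => ?_⟩
    · have h1 : LinearMap.trace ℂ _ (repTransport τ L g) = τ.character g := LinearMap.trace_conj' (τ g) L
      show LinearMap.trace ℂ _ (repTransport τ L g) = _
      rw [h1, show τ.character g = ρ.character g + σ.character g from LinearMap.trace_prodMap' _ _, hc]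
      push_cast
      ring
    · rw [show repTransport τ L g = L.toLinearMap ∘ₗ τ g ∘ₗ L.symm.toLinearMap from rfl,
        LinearMap.det_conj, show τ g = (ρ g).prodMap (σ g) from rfl, LinearMap.det_prodMap, hd, pow_succ]

variable (N : Subgroup G) [hNn : N.Normal] [Fintype N]

/-- The restriction of a character over an invariant character is a multiple. -/
theorem restrict_eq_mul (τ : IrrCharacter N)
    (hinv : ∀ (g : G) (n : N), (τ : N → ℂ) (MulAut.conjNormal g n) = (τ : N → ℂ) n)
    (ψ : IrrCharacter G) (hψ : classInner (fun n : N => (ψ : G → ℂ) n) (τ : N → ℂ) ≠ 0) :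
    ∃ e : ℕ, e ≠ 0 ∧ ∀ n : N, (ψ : G → ℂ) n = e * (τ : N → ℂ) n := by
  classical
  obtain ⟨e, he⟩ := classInner_natCast (isCharacter_comp N.subtype (irr_isCharacter ψ.2))
    (irr_isCharacter τ.2)
  have he' : classInner (fun n : N => (ψ : G → ℂ) n) (τ : N → ℂ) = e := he
  have horb : cliffOrbit N τ = {τ} := by
    refine Finset.eq_singleton_iff_unique_mem.2 ⟨self_mem_cliffOrbit τ, fun φ hφ => ?_⟩
    obtain ⟨g, rfl⟩ := mem_cliffOrbit.1 hφ
    exact Subtype.ext (funext fun n => hinv g n)
  refine ⟨e, fun h0 => hψ (by rw [he', h0, Nat.cast_zero]), fun n => ?_⟩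
  have h := congrFun (clifford_restrict ψ τ hψ) n
  rw [horb, Finset.sum_singleton, he'] at h
  simpa using h

/-- Determinantal orders over an invariant character, quotient of order prime to `p`. -/
theorem detOrder_coprime {p : ℕ} (τ : IrrCharacter N)
    (hinv : ∀ (g : G) (n : N), (τ : N → ℂ) (MulAut.conjNormal g n) = (τ : N → ℂ) n)
    (hdet : (detOrder (τ : N → ℂ)).Coprime p) (hidx : N.index.Coprime p)
    (ψ : IrrCharacter G) (hψ : classInner (fun n : N => (ψ : G → ℂ) n) (τ : N → ℂ) ≠ 0) :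
    (detOrder (ψ : G → ℂ)).Coprime p := by
  obtain ⟨e, -, he⟩ := restrict_eq_mul N τ hinv ψ hψ
  obtain ⟨a, ρ, hρ⟩ := irr_isCharacter ψ.2
  obtain ⟨d, σ, hσ⟩ := irr_isCharacter τ.2
  obtain ⟨m, π, hπc, hπd⟩ := exists_nsmul_rep σ e
  have h1 : detChar (fun n : N => (ψ : G → ℂ) n) = fun n => LinearMap.det (π n) :=
    detChar_eq π (funext fun n => by rw [hπc, hσ]; exact (he n).symm)
  have h2 : detChar (fun n : N => (ψ : G → ℂ) n) = fun n : N => LinearMap.det (ρ (n : G)) :=
    detChar_eq (ρ.comp N.subtype) (by rw [← hρ]; rfl)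
  rw [detOrder_eq σ hσ] at hdet
  rw [detOrder_eq ρ hρ]
  have h3 : ∀ n : N, (detHom ρ ^ orderOf (detHom σ)) (n : G) = 1 := fun n => by
    have h4 : detHom ρ (n : G) = detHom σ n ^ e := Units.ext (by
      rw [Units.val_pow_eq_pow_val, detHom_apply, detHom_apply, ← hπd]
      exact congrFun (h2.symm.trans h1) n)
    rw [MonoidHom.pow_apply, h4, ← pow_mul, mul_comm, pow_mul, ← MonoidHom.pow_apply,
      pow_orderOf_eq_one, MonoidHom.one_apply, one_pow]
  have h5 := hom_pow_index N h3
  have h6 : detHom ρ ^ (orderOf (detHom σ) * N.index) = 1 := MonoidHom.ext fun g => by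
    have h7 := DFunLike.congr_fun h5 g
    simpa [pow_mul] using h7
  exact (Nat.Coprime.mul_left hdet hidx).coprime_dvd_left (orderOf_dvd_of_pow_eq_one h6)

/-- The irreducible constituents over an invariant character. -/
theorem sum_over (τ : IrrCharacter N)
    (hinv : ∀ (g : G) (n : N), (τ : N → ℂ) (MulAut.conjNormal g n) = (τ : N → ℂ) n) (x : G) :
    ∑ ψ : IrrCharacter G, classInner (indFun N (τ : N → ℂ)) (ψ : G → ℂ) * (ψ : G → ℂ) x =
      (N.index : ℂ) * extendByZero N (τ : N → ℂ) x := by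
  have h := congrFun (classFun_expansion (isClassFunction_indFun N (τ : N → ℂ))) x
  rw [Finset.sum_apply] at h
  simp only [Pi.smul_apply, smul_eq_mul] at h
  rw [← h]
  by_cases hx : x ∈ N
  · rw [extendByZero_mem N _ hx]
    exact indFun_invariant N _ hinv ⟨x, hx⟩
  · rw [extendByZero_not_mem N _ hx, indFun_normal_not_mem N _ hx, mul_zero]

open scoped Classical in
/-- Restriction to a supplement is a bijection on the characters over an invariant character. -/
theorem res_orth (K : Subgroup G) [Fintype K] (hidx : (N.subgroupOf K).index = N.index)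
    (τ : IrrCharacter N)
    (hinv : ∀ (g : G) (n : N), (τ : N → ℂ) (MulAut.conjNormal g n) = (τ : N → ℂ) n)
    (hres : IsIrrCharacter (N.subgroupOf K) fun x => (τ : N → ℂ) ⟨((x : K) : G), x.2⟩)
    (ψ ψ' : IrrCharacter G) (hψ : classInner (fun n : N => (ψ : G → ℂ) n) (τ : N → ℂ) ≠ 0)
    (hψ' : classInner (fun n : N => (ψ' : G → ℂ) n) (τ : N → ℂ) ≠ 0) :
    classInner (fun k : K => (ψ : G → ℂ) k) (fun k : K => (ψ' : G → ℂ) k) =
      if ψ = ψ' then 1 else 0 := by
  haveI := Fintype.ofFinite (N.subgroupOf K)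
  have hind := isCharacter_indFun N (irr_isCharacter τ.2)
  choose e he using fun φ : IrrCharacter G => classInner_natCast hind (irr_isCharacter φ.2)
  choose c hc using fun φ φ' : IrrCharacter G =>
    classInner_natCast (isCharacter_comp K.subtype (irr_isCharacter φ.2))
      (isCharacter_comp K.subtype (irr_isCharacter φ'.2))
  have hc' : ∀ φ φ' : IrrCharacter G,
      classInner (fun k : K => (φ : G → ℂ) k) (fun k : K => (φ' : G → ℂ) k) = c φ φ' := hc
  have hne : ∀ φ : IrrCharacter G, classInner (fun n : N => (φ : G → ℂ) n) (τ : N → ℂ) ≠ 0 → e φ ≠ 0 := by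
    intro φ hφ h0
    apply hφ
    rw [← frobenius_right N _ (isClassFunction_character (irr_isCharacter φ.2)), ← classInner_symm,
      he, h0, Nat.cast_zero, map_zero]
  have hsum2 : ∑ φ, e φ * e φ = N.index := by
    have h := norm_indFun_invariant N τ.2 hinv
    nth_rewrite 1 [char_expansion hind] at h
    rw [classInner_sum_left] at h
    have h' : ((∑ φ, e φ * e φ : ℕ) : ℂ) = (N.index : ℂ) := by
      rw [← h]
      push_cast
      refine Finset.sum_congr rfl fun φ _ => ?_
      rw [classInner_smul_left, he, ← classInner_symm, he, map_natCast]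
    exact_mod_cast h'
  have hX : (fun k : K => (N.index : ℂ) * extendByZero N (τ : N → ℂ) k) =
      ∑ φ : IrrCharacter G, (e φ : ℂ) • fun k : K => (φ : G → ℂ) k := by
    funext k
    rw [← sum_over N τ hinv, Finset.sum_apply]
    simp [he]
  have hnorm : classInner (fun k : K => (N.index : ℂ) * extendByZero N (τ : N → ℂ) k)
      (fun k : K => (N.index : ℂ) * extendByZero N (τ : N → ℂ) k) = (N.index : ℂ) := by
    set t : N.subgroupOf K → ℂ := fun x => (τ : N → ℂ) ⟨((x : K) : G), x.2⟩ with ht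
    have hext : ∀ k : K, extendByZero N (τ : N → ℂ) k = extendByZero (N.subgroupOf K) t k := by
      intro k
      by_cases hk : (k : G) ∈ N
      · rw [extendByZero_mem N _ hk, extendByZero_mem (N.subgroupOf K) t (Subgroup.mem_subgroupOf.2 hk)]
      · rw [extendByZero_not_mem N _ hk, extendByZero_not_mem (N.subgroupOf K) t
          (fun h => hk (Subgroup.mem_subgroupOf.1 h))]
    have h1 := irr_self hres
    rw [classInner] at h1 ⊢
    simp only [hext, map_mul, map_natCast]
    rw [Finset.sum_congr rfl (fun k _ => show (N.index : ℂ) * extendByZero (N.subgroupOf K) t k *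
        ((N.index : ℂ) * conj (extendByZero (N.subgroupOf K) t k)) =
        extendByZero (N.subgroupOf K) t k * ((N.index : ℂ) * (N.index : ℂ) *
          conj (extendByZero (N.subgroupOf K) t k)) by ring),
      sum_extendByZero_mul (N.subgroupOf K) t]
    simp only [fun x : N.subgroupOf K => extendByZero_mem (N.subgroupOf K) t x.2, Subtype.coe_eta]
    have hK : (Nat.card K : ℂ) = (N.index : ℂ) * Nat.card (N.subgroupOf K) := by
      rw [← hidx, ← Nat.cast_mul, Subgroup.index_mul_card]
    have hD : (Nat.card (N.subgroupOf K) : ℂ) ≠ 0 := Nat.cast_ne_zero.2 Nat.card_pos.ne'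
    have hI : (N.index : ℂ) ≠ 0 := Nat.cast_ne_zero.2 Subgroup.index_ne_zero_of_finite
    rw [show ∑ x : N.subgroupOf K, t x * ((N.index : ℂ) * (N.index : ℂ) * conj (t x)) =
        (N.index : ℂ) * (N.index : ℂ) * ∑ x : N.subgroupOf K, t x * conj (t x) by
      rw [Finset.mul_sum]; exact Finset.sum_congr rfl fun x _ => by ring, hK]
    field_simp at h1 ⊢
    linear_combination h1
  have hpair : ∑ φ, ∑ φ', e φ * e φ' * c φ φ' = N.index := by
    rw [hX, classInner_sum_left] at hnorm
    have h' : ((∑ φ, ∑ φ', e φ * e φ' * c φ φ' : ℕ) : ℂ) = (N.index : ℂ) := by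
      rw [← hnorm]
      push_cast
      refine Finset.sum_congr rfl fun φ _ => ?_
      rw [classInner_smul_left, classInner_sum_right, Finset.mul_sum]
      refine Finset.sum_congr rfl fun φ' _ => ?_
      rw [classInner_smul_right, map_natCast, hc']
      ring
    exact_mod_cast h'
  have hdiag : ∀ φ, 1 ≤ c φ φ := by
    intro φ
    refine Nat.one_le_iff_ne_zero.2 fun h0 => ?_
    have h2 := hc' φ φ
    rw [h0, Nat.cast_zero] at h2
    exact irr_one_ne_zero φ.2 (by simpa using congrFun (classInner_self_eq_zero h2) 1)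
  have hle : ∀ φ, (if φ = φ then e φ * e φ else 0) ≤ e φ * e φ * c φ φ := fun φ => by
    rw [if_pos rfl]; exact Nat.le_mul_of_pos_right _ (hdiag φ)
  have hterm : ∀ φ φ', e φ * e φ' * c φ φ' = if φ = φ' then e φ * e φ else 0 := by
    have hge : ∀ φ ∈ Finset.univ, ∀ φ' ∈ (Finset.univ : Finset (IrrCharacter G)),
        (if φ = φ' then e φ * e φ else 0) ≤ e φ * e φ' * c φ φ' := by
      intro φ _ φ' _
      split_ifs with h
      · subst h; exact Nat.le_mul_of_pos_right _ (hdiag φ)
      · exact Nat.zero_le _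
    have hall := (Finset.sum_eq_sum_iff_of_le (fun φ hφ => Finset.sum_le_sum (hge φ hφ))).1
      (by rw [hpair, ← hsum2]; simp)
    intro φ φ'
    exact ((Finset.sum_eq_sum_iff_of_le (hge φ (Finset.mem_univ _))).1 (hall φ (Finset.mem_univ _))
      φ' (Finset.mem_univ _)).symm
  rw [hc']
  have h := hterm ψ ψ'
  have h1 := hne ψ hψ
  have h2 := hne ψ' hψ'
  split_ifs at h ⊢ with hh
  · subst hh
    have : c ψ ψ = 1 := Nat.eq_of_mul_eq_mul_left (Nat.pos_of_ne_zero (mul_ne_zero h1 h2)) (by rw [h, mul_one])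
    rw [this, Nat.cast_one]
  · rw [(Nat.mul_eq_zero.1 h).resolve_left (mul_ne_zero h1 h2), Nat.cast_zero]

open scoped Classical in
/-- Clifford induction from an inertia group. -/
theorem clifford_ind (T : Subgroup G) [Fintype T] (hNT : N ≤ T) (ν : IrrCharacter N)
    (hT : ∀ g : G, g ∈ T ↔ irrComp (MulAut.conjNormal g) ν = ν) (ψ : IrrCharacter T)
    (hψ : classInner (fun a : N => (ψ : T → ℂ) (Subgroup.inclusion hNT a)) (ν : N → ℂ) ≠ 0) :
    IsIrrCharacter G (indFun T (ψ : T → ℂ)) ∧ ∀ ψ₂ : IrrCharacter T,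
      classInner (fun a : N => (ψ₂ : T → ℂ) (Subgroup.inclusion hNT a)) (ν : N → ℂ) ≠ 0 →
        classInner (fun t : T => indFun T (ψ : T → ℂ) t) (ψ₂ : T → ℂ) = if ψ = ψ₂ then 1 else 0 := by
  set X := indFun T (ψ : T → ℂ) with hX
  have hXc : IsCharacter G X := isCharacter_indFun T (irr_isCharacter ψ.2)
  have hXcl := isClassFunction_character hXc
  obtain ⟨χ, hχ⟩ : ∃ χ : IrrCharacter G, classInner X (χ : G → ℂ) ≠ 0 := by
    by_contra hno
    push Not at hno
    have := congrFun (classFun_eq_zero hXcl hno) 1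
    rw [hX, indFun_one] at this
    exact mul_ne_zero (Nat.cast_ne_zero.2 Subgroup.index_ne_zero_of_finite) (irr_one_ne_zero ψ.2) this
  have hχT : IsCharacter T (fun t : T => (χ : G → ℂ) t) := isCharacter_comp T.subtype (irr_isCharacter χ.2)
  have hχψ : classInner (fun t : T => (χ : G → ℂ) t) (ψ : T → ℂ) ≠ 0 := by
    rw [← classInner_symm (ψ : T → ℂ), ← frobenius T _ (isClassFunction_character (irr_isCharacter χ.2))]
    intro h0
    exact hχ (by simpa using h0)
  have hχN := inner_ne_zero_of_constituent (Subgroup.inclusion hNT) hχT ψ ν hχψ hψ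
  obtain ⟨T', ψ₀, e, hAT, hψ₀, hind, he0, hT', hψval, he⟩ := exists_correspondent χ.2 N ν hχN
  obtain rfl : T = T' := Subgroup.ext fun g => (hT g).trans (hT' g).symm
  set χ' : T → ℂ := fun t => (χ : G → ℂ) t with hχ'
  choose m hm using fun φ : IrrCharacter T => classInner_natCast hχT (irr_isCharacter φ.2)
  choose k hk using fun φ : IrrCharacter T =>
    classInner_natCast (isCharacter_comp (Subgroup.inclusion hNT) (irr_isCharacter φ.2))
      (irr_isCharacter ν.2)
  set φ₀ : IrrCharacter T := ⟨ψ₀, hψ₀⟩ with hφ₀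
  have hm0 : m φ₀ = 1 := by
    have h1 := irr_self χ.2
    nth_rewrite 1 [hind] at h1
    rw [frobenius T _ (isClassFunction_character (irr_isCharacter χ.2))] at h1
    have h2 := hm φ₀
    rw [← classInner_symm (φ₀ : T → ℂ), hφ₀, hχ', h1, map_one] at h2
    exact_mod_cast h2.symm
  have hk0 : k φ₀ = e := by
    have h2 := hk φ₀
    rw [show ((φ₀ : IrrCharacter T) : T → ℂ) ∘ Subgroup.inclusion hNT = (e : ℂ) • (ν : N → ℂ) from
      funext fun a => hψval a, classInner_smul_left, irr_self ν.2, mul_one] at h2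
    exact_mod_cast h2.symm
  have hsum : ∑ φ, m φ * k φ = e := by
    have h1 : classInner (fun a : N => χ' (Subgroup.inclusion hNT a)) (ν : N → ℂ) =
        ((∑ φ, m φ * k φ : ℕ) : ℂ) := by
      rw [show (fun a : N => χ' (Subgroup.inclusion hNT a)) =
          ∑ φ : IrrCharacter T, (m φ : ℂ) • ((φ : T → ℂ) ∘ Subgroup.inclusion hNT) from funext fun a => by
        conv_lhs => rw [char_expansion hχT]
        simp only [Finset.sum_apply, Pi.smul_apply, smul_eq_mul, hm, Function.comp_apply], classInner_sum_left]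
      push_cast
      refine Finset.sum_congr rfl fun φ _ => ?_
      rw [classInner_smul_left, hk]
    have h2 : ((∑ φ, m φ * k φ : ℕ) : ℂ) = (e : ℂ) := h1.symm.trans he
    exact_mod_cast h2
  have hother : ∀ φ, k φ ≠ 0 → φ ≠ φ₀ → m φ = 0 := by
    intro φ hkφ hne
    rw [← Finset.add_sum_erase _ _ (Finset.mem_univ φ₀), hm0, hk0, one_mul] at hsum
    have h3 : ∑ x ∈ Finset.univ.erase φ₀, m x * k x = 0 := by omega
    exact (Nat.mul_eq_zero.1 ((Finset.sum_eq_zero_iff).1 h3 φ
      (Finset.mem_erase.2 ⟨hne, Finset.mem_univ _⟩))).resolve_right hkφ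
  have hknz : ∀ φ : IrrCharacter T,
      classInner (fun a : N => (φ : T → ℂ) (Subgroup.inclusion hNT a)) (ν : N → ℂ) ≠ 0 → k φ ≠ 0 := by
    intro φ hφ h0
    exact hφ (by rw [show (fun a : N => (φ : T → ℂ) (Subgroup.inclusion hNT a)) =
      (φ : T → ℂ) ∘ Subgroup.inclusion hNT from rfl, hk, h0, Nat.cast_zero])
  have hψeq : ψ = φ₀ := by
    by_contra hne
    exact hχψ (by rw [hm, hother ψ (hknz ψ hψ) hne, Nat.cast_zero])
  have hXχ : X = (χ : G → ℂ) := by rw [hX, hψeq, hind]
  refine ⟨hXχ ▸ χ.2, fun ψ₂ hψ₂ => ?_⟩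
  rw [hXχ, hm]
  split_ifs with h
  · rw [← h, hψeq, hm0, Nat.cast_one]
  · rw [hother ψ₂ (hknz ψ₂ hψ₂) (hψeq ▸ Ne.symm h), Nat.cast_zero]

end Cfsg.Agent.Char.Fong
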