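import Cfsg.Agent.Lib.Char.FongDefs

/-!
# Fong characters: the base case, the step along a `p`-quotient, and facts for a `p'`-quotient
-/

open scoped ComplexConjugate
open Cfsg Module

set_option autoImplicit false
set_option linter.style.haveILetI false
set_option linter.unusedSectionVars false

namespace Cfsg.Agent.Char.Fong

universe u

variable {G : Type u} [Group G] [Fintype G] {p : ℕ}

theorem data_top (hp : p.Prime) (H : Subgroup G) (τ : IrrCharacter (⊤ : Subgroup G))
    (h : Ctx p H ⊤ τ) : Data p H ⊤ (τ : (⊤ : Subgroup G) → ℂ) := by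
  classical
  haveI := Fintype.ofFinite H
  haveI := Fintype.ofFinite (H.subgroupOf ⊤)
  set χ₀ : IrrCharacter G := ⟨fun g => (τ : (⊤ : Subgroup G) → ℂ) (Subgroup.topEquiv.symm g),
    isIrrCharacter_comp_equiv Subgroup.topEquiv.symm τ.2⟩ with hχ₀
  have hτ : ∀ x : (⊤ : Subgroup G), (τ : (⊤ : Subgroup G) → ℂ) x = (χ₀ : G → ℂ) x := fun x => rfl
  let e : H ≃* H.subgroupOf ⊤ := (Subgroup.subgroupOfEquivOfLe le_top).symm
  have hirr : IsIrrCharacter H (fun y : H => (χ₀ : G → ℂ) y) := isIrrCharacter_comp_equiv e h.res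
  set Φ : G → ℂ := indFun H (fun y : H => (χ₀ : G → ℂ) y) with hΦ
  have hproj : ∀ (f : G → ℂ) (a : G),
      proj H ⊤ (τ : (⊤ : Subgroup G) → ℂ) f a = ∑ y : H, conj ((χ₀ : G → ℂ) y) * f (a * y) := by
    intro f a
    rw [proj_eq H ⊤ ⊤ le_top _ f a]
    refine (Fintype.sum_equiv e.toEquiv _ _ fun y => ?_).symm
    show _ = zext ⊤ _ (y : G) * f (a * (y : G))
    rw [zext_mem ⊤ _ (Subgroup.mem_top (y : G))]
    rfl
  have hfr : ∀ (f : G → ℂ), IsClassFunction G f →
      classInner f Φ = classInner (fun y : H => f y) (fun y : H => (χ₀ : G → ℂ) y) := fun f hf =>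
    frobenius_right H _ hf
  refine ⟨{χ₀}, fun _ => Φ, fun χ _ => isCharacter_indFun H (irr_isCharacter hirr),
    fun χ _ g hg => indFun_singular H h.cop hp _ hg, ?_, ?_, ?_, ?_, ?_⟩
  · rintro χ rfl
    rw [hfr _ (isClassFunction_character (irr_isCharacter χ₀.2)), irr_self hirr]
  · rintro χ rfl χ' rfl hne
    exact absurd rfl hne
  · rintro χ rfl
    haveI := Fintype.ofFinite (⊤ : Subgroup G)
    rw [over_iff, show (fun n : (⊤ : Subgroup G) => (χ₀ : G → ℂ) n) = (τ : (⊤ : Subgroup G) → ℂ) from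
      funext fun n => (hτ n).symm, irr_self τ.2]
    exact one_ne_zero
  · intro χ _ ψ hψ hz
    apply hψ
    rw [hfr _ (isClassFunction_character (irr_isCharacter ψ.2)), classInner]
    rw [hproj] at hz
    simp only [one_mul] at hz
    rw [show ∑ y : H, (ψ : G → ℂ) y * conj ((χ₀ : G → ℂ) y) = 0 by
      rw [← hz]; exact Finset.sum_congr rfl fun y _ => mul_comm _ _, mul_zero]
  · intro f hf horth a ha
    have h0 := horth χ₀ rfl
    rw [hfr f hf] at h0
    rw [hproj]
    have hfc : IsClassFunction H (fun y : H => conj (f y)) := fun g k => by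
      show conj (f ((k : G) * g * (k : G)⁻¹)) = conj (f g)
      rw [hf]
    have h1 := sum_mul_shift hirr hfc (⟨a, ha⟩⁻¹ : H)
    have h2 : lam (fun y : H => (χ₀ : G → ℂ) y) (fun y : H => conj (f y)) = 0 := by
      rw [lam]
      have h3 : ∑ y : H, conj (f y) * (χ₀ : G → ℂ) y = 0 := by
        rw [classInner, mul_eq_zero] at h0
        have h4 := congrArg conj (h0.resolve_left (inv_ne_zero (Nat.cast_ne_zero.2 Nat.card_pos.ne')))
        rw [map_zero, map_sum] at h4
        rw [← h4]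
        exact Finset.sum_congr rfl fun y _ => by rw [map_mul, Complex.conj_conj]
      rw [h3, zero_div]
    rw [h2, zero_mul] at h1
    have h5 := congrArg conj h1
    rw [map_zero, map_sum] at h5
    rw [← h5]
    have hχc := isClassFunction_character (irr_isCharacter χ₀.2)
    refine Fintype.sum_equiv (Equiv.mulLeft (⟨a, ha⟩ : H)) _ _ fun y => ?_
    rw [map_mul, Complex.conj_conj, mul_comm (conj _) (f _)]
    congr 1
    show conj ((χ₀ : G → ℂ) y) = conj ((χ₀ : G → ℂ) (a * (y : G) * a⁻¹))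
    rw [hχc]

theorem le_of_pow_index {N M : Subgroup G} [N.Normal] (hNM : N ≤ M) {k : ℕ}
    (hk : N.relIndex M = p ^ k) {x : G} (hx : x ∈ M) (hcop : (orderOf x).Coprime p) : x ∈ N := by
  have h1 : x ^ p ^ k ∈ N := by
    have := (N.subgroupOf M).pow_index_mem ⟨x, hx⟩
    rw [← Subgroup.relIndex, hk] at this
    simpa [Subgroup.mem_subgroupOf] using this
  obtain ⟨m, hm⟩ := exists_pow_eq_self_of_coprime (hcop.pow_right k).symm
  rw [← hm]
  exact pow_mem h1 m

theorem coprime_orderOf_mem {H : Subgroup G} (hcop : (Nat.card H).Coprime p) {x : G} (hx : x ∈ H) :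
    (orderOf x).Coprime p := by
  have h := orderOf_dvd_natCard (⟨x, hx⟩ : H)
  rw [Subgroup.orderOf_mk] at h
  exact hcop.coprime_dvd_left h

/-- The invariant extension along a normal `p`-quotient. -/
theorem exists_ctx_p (hp : p.Prime) (H N M : Subgroup G) [N.Normal] [M.Normal] (hNM : N ≤ M) {k : ℕ}
    (hk : N.relIndex M = p ^ k) (τ : IrrCharacter N) (h : Ctx p H N τ) :
    ∃ μ : IrrCharacter M, Ctx p H M μ ∧ ∀ n : N, (μ : M → ℂ) (Subgroup.inclusion hNM n) = (τ : N → ℂ) n := by
  classical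
  haveI := Fintype.ofFinite N
  haveI := Fintype.ofFinite M
  haveI := Fintype.ofFinite (N.subgroupOf M)
  haveI := Fintype.ofFinite (H.subgroupOf N)
  set N' := N.subgroupOf M with hN'
  let e : N' ≃* N := Subgroup.subgroupOfEquivOfLe hNM
  set ϑ : N' → ℂ := fun n => (τ : N → ℂ) (e n) with hϑdef
  have hϑ : IsIrrCharacter N' ϑ := isIrrCharacter_comp_equiv e τ.2
  have hinv : ∀ (g : M) (n : N'), ϑ ⟨g * n * g⁻¹,
      Subgroup.Normal.conj_mem inferInstance (n : M) n.2 g⟩ = ϑ n := by
    intro g n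
    show (τ : N → ℂ) _ = (τ : N → ℂ) (e n)
    rw [← h.inv (g : G) (e n)]
    exact congrArg _ (Subtype.ext rfl)
  obtain ⟨d, hd⟩ := charOne_eq_natCast (irr_isCharacter τ.2)
  have hdeg : ϑ 1 = (d : ℂ) := by show (τ : N → ℂ) (e 1) = _; rw [map_one, hd]
  have hdcop : d.Coprime p := by
    have h1 := deg_dvd_card h.res
    have h2 := char_one_eq_deg (irr_isCharacter h.res)
    rw [show (((1 : H.subgroupOf N)) : N) = 1 from rfl, hd, Nat.cast_inj] at h2
    rw [h2]
    have h3 : Nat.card (H.subgroupOf N) ∣ Nat.card H :=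
      Subgroup.card_dvd_of_injective (N.subtype.subgroupComap H)
        (fun a b hab => Subtype.ext (Subtype.ext (congrArg Subtype.val hab :)))
    exact h.cop.coprime_dvd_left (h1.trans h3)
  have hdetϑ : (detOrder ϑ).Coprime p :=
    h.det.coprime_dvd_left (detOrder_comp_dvd' e.toMonoidHom (irr_isCharacter τ.2))
  have hcop : N'.index.Coprime (detOrder ϑ * d) := by
    rw [show N'.index = p ^ k from hk]
    exact ((hdetϑ.mul_left hdcop).symm).pow_left k
  obtain ⟨η, ⟨hη, hres, hdet⟩, huniq⟩ := Cfsg.Agent.S0867.result N' ϑ hϑ hinv d hdeg hcop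
  refine ⟨⟨η, hη⟩, ⟨h.psolv, h.cop, h.idx, ?_, hdet ▸ hdetϑ, ?_⟩, fun n => ?_⟩
  · intro g m
    have hα : IsIrrCharacter M (fun x => η (MulAut.conjNormal g x)) :=
      isIrrCharacter_comp_equiv (MulAut.conjNormal g) hη
    refine congrFun (huniq _ hα (fun n => ?_) ?_) m
    · have hmem : MulAut.conjNormal g (n : M) ∈ N' := by
        rw [Subgroup.mem_subgroupOf, MulAut.conjNormal_apply]
        exact Subgroup.Normal.conj_mem (inferInstance : N.Normal) _ (Subgroup.mem_subgroupOf.1 n.2) g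
      rw [hres ⟨_, hmem⟩]
      show (τ : N → ℂ) _ = (τ : N → ℂ) (e n)
      rw [← h.inv g (e n)]
      exact congrArg _ (Subtype.ext rfl)
    · rw [show N'.index = p ^ k from hk]
      refine Nat.Coprime.pow_left k (Nat.Coprime.symm ?_)
      exact (hdet ▸ hdetϑ).coprime_dvd_left
        (detOrder_comp_dvd' (MulAut.conjNormal g : MulAut M).toMonoidHom (irr_isCharacter hη))
  · have hmemN : ∀ x : H.subgroupOf M, ((x : M) : G) ∈ N := fun x =>
      le_of_pow_index hNM hk (x : M).2 (coprime_orderOf_mem h.cop x.2)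
    let e' : H.subgroupOf M ≃* H.subgroupOf N :=
      { toFun := fun x => ⟨⟨((x : M) : G), hmemN x⟩, x.2⟩
        invFun := fun y => ⟨⟨((y : N) : G), hNM (y : N).2⟩, y.2⟩
        left_inv := fun x => rfl
        right_inv := fun y => rfl
        map_mul' := fun x y => rfl }
    haveI := Fintype.ofFinite (H.subgroupOf M)
    have := isIrrCharacter_comp_equiv e' h.res
    convert this using 1
    funext x
    exact hres ⟨(x : M), hmemN x⟩
  · exact hres ⟨Subgroup.inclusion hNM n, n.2⟩

/-- The step along a normal `p`-quotient. -/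
theorem data_p_step (hp : p.Prime) (H N M : Subgroup G) [N.Normal] [M.Normal] (hNM : N ≤ M) {k : ℕ}
    (hk : N.relIndex M = p ^ k) (τ : IrrCharacter N) (h : Ctx p H N τ) (μ : IrrCharacter M)
    (hμ : Ctx p H M μ) (hres : ∀ n : N, (μ : M → ℂ) (Subgroup.inclusion hNM n) = (τ : N → ℂ) n)
    (hd : Data p H M (μ : M → ℂ)) : Data p H N (τ : N → ℂ) := by
  classical
  haveI := Fintype.ofFinite N
  haveI := Fintype.ofFinite M
  obtain ⟨S, Φ, h1, h2, h3, h4, h5, h6, h7⟩ := hd
  have heq : ∀ f a, proj H N (τ : N → ℂ) f a = proj H M (μ : M → ℂ) f a := by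
    intro f a
    refine Finset.sum_congr rfl fun x _ => ?_
    congr 1
    by_cases hx : x ∈ H
    · rw [extendByZero_mem H _ hx, extendByZero_mem H _ hx]
      by_cases hxM : x ∈ M
      · have hxN := le_of_pow_index hNM hk hxM (coprime_orderOf_mem h.cop hx)
        rw [zext_mem N _ hxN, zext_mem M _ hxM, ← hres]
        rfl
      · rw [zext_not_mem N _ (fun hn => hxM (hNM hn)), zext_not_mem M _ hxM]
    · rw [extendByZero_not_mem H _ hx, extendByZero_not_mem H _ hx]
  refine ⟨S, Φ, h1, h2, h3, h4, fun χ hχ => ?_, fun χ hχ ψ hψ => ?_, fun f hf ho a ha => ?_⟩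
  · have := h5 χ hχ
    rw [over_iff] at this ⊢
    refine inner_ne_zero_of_constituent (Subgroup.inclusion hNM)
      (isCharacter_comp M.subtype (irr_isCharacter χ.2)) μ τ this ?_
    rw [funext hres, irr_self τ.2]
    exact one_ne_zero
  · rw [heq]; exact h6 χ hχ ψ hψ
  · rw [heq]; exact h7 f hf ho a ha

/-- Facts about characters over `τ` in a normal `p'`-overgroup. -/
theorem res_facts (hp : p.Prime) (H N M : Subgroup G) [N.Normal] [M.Normal] [Fintype M]
    [Fintype (N.subgroupOf M)] [Fintype (H.subgroupOf M)] (hNM : N ≤ M)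
    (hco : (N.relIndex M).Coprime p) (τ : IrrCharacter N) (h : Ctx p H N τ) :
    ∃ τ' : IrrCharacter (N.subgroupOf M), (∀ x, (τ' : N.subgroupOf M → ℂ) x =
        (τ : N → ℂ) ⟨((x : M) : G), x.2⟩) ∧
      (∀ (g : M) (n : N.subgroupOf M),
        (τ' : N.subgroupOf M → ℂ) (MulAut.conjNormal g n) = (τ' : N.subgroupOf M → ℂ) n) ∧
      (∀ μ : IrrCharacter M,
        classInner (fun n : N.subgroupOf M => (μ : M → ℂ) n) (τ' : N.subgroupOf M → ℂ) ≠ 0 →
        IsIrrCharacter (H.subgroupOf M) (fun k => (μ : M → ℂ) k) ∧ (detOrder (μ : M → ℂ)).Coprime p) ∧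
      ∀ μ ν : IrrCharacter M,
        classInner (fun n : N.subgroupOf M => (μ : M → ℂ) n) (τ' : N.subgroupOf M → ℂ) ≠ 0 →
        classInner (fun n : N.subgroupOf M => (ν : M → ℂ) n) (τ' : N.subgroupOf M → ℂ) ≠ 0 →
        classInner (fun k : H.subgroupOf M => (μ : M → ℂ) k) (fun k : H.subgroupOf M => (ν : M → ℂ) k) ≠ 0 →
        μ = ν := by
  classical
  haveI := Fintype.ofFinite N
  let e : (N.subgroupOf M) ≃* N := Subgroup.subgroupOfEquivOfLe hNM
  let τ' : IrrCharacter (N.subgroupOf M) := ⟨fun x => (τ : N → ℂ) (e x), isIrrCharacter_comp_equiv e τ.2⟩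
  have hinv : ∀ (g : M) (n : (N.subgroupOf M)), (τ' : (N.subgroupOf M) → ℂ) (MulAut.conjNormal g n) = (τ' : (N.subgroupOf M) → ℂ) n := by
    intro g n
    show (τ : N → ℂ) _ = (τ : N → ℂ) (e n)
    rw [← h.inv (g : G) (e n)]
    exact congrArg _ (Subtype.ext rfl)
  have hKidx : ∃ n, (H.subgroupOf M).index = p ^ n := by
    obtain ⟨n, hn⟩ := h.idx
    have : H.relIndex M ∣ H.index := by
      rw [← Subgroup.relIndex_mul_index (le_sup_left : H ≤ H ⊔ M)]
      refine Dvd.dvd.mul_right ?_ _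
      rw [← Subgroup.inf_relIndex_right H M]
      have h1 : (H ⊓ M).relIndex M = H.relIndex (H ⊔ M) := by
        have e1 : H.relIndex (H ⊔ M) * (H ⊓ M).relIndex H = (H ⊓ M).relIndex (H ⊔ M) := by
          rw [mul_comm, Subgroup.relIndex_mul_relIndex _ _ _ inf_le_left le_sup_left]
        have e2 : (H ⊓ M).relIndex M * M.relIndex (H ⊔ M) = (H ⊓ M).relIndex (H ⊔ M) :=
          Subgroup.relIndex_mul_relIndex _ _ _ inf_le_right le_sup_right
        have e3 : (H ⊓ M).relIndex H = M.relIndex (H ⊔ M) := by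
          rw [Subgroup.relIndex_sup_right, inf_comm, Subgroup.inf_relIndex_right]
        rw [← e2, ← e3] at e1
        exact (Nat.eq_of_mul_eq_mul_right (Nat.pos_of_ne_zero
          (Subgroup.index_ne_zero_of_finite (H := (H ⊓ M).subgroupOf H))) e1).symm
      rw [h1]
    obtain ⟨m, -, hm⟩ := (Nat.dvd_prime_pow hp).1 (hn ▸ this)
    exact ⟨m, hm⟩
  have hidx : ((N.subgroupOf M).subgroupOf (H.subgroupOf M)).index = (N.subgroupOf M).index := by
    have htop : (H.subgroupOf M) ⊔ (N.subgroupOf M) = ⊤ := by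
      rw [← Subgroup.index_eq_one]
      obtain ⟨n, hn⟩ := hKidx
      have hNi : (N.subgroupOf M).index.Coprime p := hco
      exact Nat.eq_one_of_dvd_coprimes (hNi.pow_right n)
        (Subgroup.index_dvd_of_le le_sup_right) (hn ▸ Subgroup.index_dvd_of_le le_sup_left)
    show (N.subgroupOf M).relIndex (H.subgroupOf M) = _
    rw [← Subgroup.relIndex_sup_right, htop, Subgroup.relIndex_top_right]
  have hres : IsIrrCharacter ((N.subgroupOf M).subgroupOf (H.subgroupOf M)) fun x => (τ' : (N.subgroupOf M) → ℂ) ⟨((x : (H.subgroupOf M)) : M), x.2⟩ := by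
    haveI := Fintype.ofFinite (H.subgroupOf N)
    let e' : (N.subgroupOf M).subgroupOf (H.subgroupOf M) ≃* H.subgroupOf N :=
      { toFun := fun x => ⟨⟨(((x : (H.subgroupOf M)) : M) : G), x.2⟩, (x : (H.subgroupOf M)).2⟩
        invFun := fun y => ⟨⟨⟨((y : N) : G), hNM (y : N).2⟩, y.2⟩, (y : N).2⟩
        left_inv := fun x => rfl
        right_inv := fun y => rfl
        map_mul' := fun x y => rfl }
    exact isIrrCharacter_comp_equiv e' h.res
  refine ⟨τ', fun x => rfl, hinv, fun μ hμ => ⟨?_, ?_⟩, fun μ ν hμ hν hne => ?_⟩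
  · refine isIrr_of_norm_one (isCharacter_comp (H.subgroupOf M).subtype (irr_isCharacter μ.2)) ?_
    have := res_orth (N.subgroupOf M) (H.subgroupOf M) hidx τ' hinv hres μ μ hμ hμ
    rw [if_pos rfl] at this
    exact this
  · exact detOrder_coprime (N.subgroupOf M) τ' hinv
      (h.det.coprime_dvd_left (detOrder_comp_dvd' e.toMonoidHom (irr_isCharacter τ.2))) hco μ hμ
  · by_contra hne'
    have := res_orth (N.subgroupOf M) (H.subgroupOf M) hidx τ' hinv hres μ ν hμ hν
    rw [if_neg hne'] at this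
    exact hne this

end Cfsg.Agent.Char.Fong
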