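import Cfsg.Agent.Lib.Char.FongAssembly
import Cfsg.Agent.Lib.Char.BlockLink

/-!
# The Fong–Swan theorem for `p`-solvable groups in character form
-/

open scoped ComplexConjugate
open Cfsg Module

set_option autoImplicit false
set_option linter.style.haveILetI false
set_option linter.unusedSectionVars false

namespace Cfsg.Agent.Char.Fong

universe u

theorem data_of_ctx {p : ℕ} (hp : p.Prime) : ∀ (n : ℕ) {G : Type u} [Group G] [Fintype G]
    (H N : Subgroup G) [N.Normal] (τ : IrrCharacter N), N.index = n → Ctx p H N τ →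
    Data p H N (τ : N → ℂ) := by
  intro n
  induction n using Nat.strong_induction_on with
  | _ n ih =>
  intro G _ _ H N _ τ hn h
  classical
  haveI : ∀ T : Subgroup G, Fintype T := fun T => Fintype.ofFinite T
  by_cases hN : N = ⊤
  · subst hN
    exact data_top hp H τ h
  haveI : Nontrivial (G ⧸ N) := QuotientGroup.nontrivial_iff.2 hN
  obtain ⟨Q, hQn, hQb, hQc⟩ := Solv.exists_normal_pgroup_or_coprime
    (Solv.isPSolvable_map hp h.psolv (QuotientGroup.mk' N) (QuotientGroup.mk'_surjective N))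
  haveI := hQn
  set M := Q.comap (QuotientGroup.mk' N) with hM
  have hNM : N ≤ M := fun x hx => by
    show QuotientGroup.mk' N x ∈ Q
    rw [QuotientGroup.mk'_apply, (QuotientGroup.eq_one_iff x).2 hx]
    exact one_mem _
  have hrel : N.relIndex M = Nat.card Q := by
    have h1 := (N.subgroupOf M).card_mul_index
    rw [Solv.card_subgroupOf hNM, hM, Solv.card_comap_mk', mul_comm (Nat.card Q)] at h1
    exact Nat.eq_of_mul_eq_mul_left Nat.card_pos h1
  have hlt : M.index < n := by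
    rw [← hn, ← Subgroup.relIndex_mul_index hNM, hrel]
    exact lt_mul_of_one_lt_left (Nat.pos_of_ne_zero Subgroup.index_ne_zero_of_finite)
      ((Subgroup.one_lt_card_iff_ne_bot Q).2 hQb)
  rcases hQc with hQp | hQco
  · haveI := Fact.mk hp
    obtain ⟨k, hk⟩ := IsPGroup.iff_card.1 hQp
    rw [hk] at hrel
    obtain ⟨μ, hμ, hres⟩ := exists_ctx_p hp H N M hNM hrel τ h
    exact data_p_step hp H N M hNM hrel τ h μ hμ hres (ih _ hlt H M μ rfl hμ)
  · refine data_prime_step hp H N M hNM (hrel ▸ hQco) τ h fun μ μ' hctx => ?_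
    refine ih _ (lt_of_le_of_lt ?_ hlt) _ _ μ' rfl hctx
    exact Nat.le_of_dvd (Nat.pos_of_ne_zero Subgroup.index_ne_zero_of_finite)
      (Subgroup.relIndex_dvd_index_of_normal M (inert M μ))

variable {G : Type u} [Group G] [Fintype G] {p : ℕ}

/-- Fong–Swan: lifts of the irreducible Brauer characters and the projective indecomposable
characters of a `p`-solvable group. -/
theorem fong_swan (hp : p.Prime) (hG : IsPSolvable p G) :
    ∃ (S : Set (IrrCharacter G)) (Φ : IrrCharacter G → G → ℂ),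
      (∀ φ ∈ S, IsCharacter G (Φ φ)) ∧ (∀ φ ∈ S, ∀ g : G, p ∣ orderOf g → Φ φ g = 0) ∧
      (∀ φ ∈ S, classInner (φ : G → ℂ) (Φ φ) = 1) ∧
      (∀ φ ∈ S, ∀ φ' ∈ S, φ ≠ φ' → classInner (φ' : G → ℂ) (Φ φ) = 0) ∧
      ∀ f : G → ℂ, IsClassFunction G f → (∀ φ ∈ S, classInner f (Φ φ) = 0) →
        ∀ g : G, ¬ p ∣ orderOf g → f g = 0 := by
  classical
  obtain ⟨⟨H, hHc, hHi⟩, hconj⟩ := Solv.psolv_hall hp hG
  haveI := Fintype.ofFinite (⊥ : Subgroup G)
  haveI := Fintype.ofFinite (H.subgroupOf (⊥ : Subgroup G))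
  let τ : IrrCharacter (⊥ : Subgroup G) := ⟨fun _ => 1, isIrrCharacter_one⟩
  have hdet : (detOrder (τ : (⊥ : Subgroup G) → ℂ)).Coprime p := by
    refine Nat.Coprime.coprime_dvd_left ?_ (Nat.coprime_one_left p)
    obtain ⟨a, ρ, hρ⟩ := irr_isCharacter τ.2
    rw [detOrder_eq ρ hρ]
    refine orderOf_dvd_of_pow_eq_one (MonoidHom.ext fun x => ?_)
    rw [Subsingleton.elim x 1, map_one, map_one]
  have hctx : Ctx p H ⊥ τ := ⟨hG, hHc, hHi, fun g n => rfl, hdet, isIrrCharacter_one⟩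
  obtain ⟨S, Φ, h1, h2, h3, h4, -, -, h7⟩ := data_of_ctx hp _ H ⊥ τ rfl hctx
  refine ⟨S, Φ, h1, h2, h3, h4, fun f hf ho g hg => ?_⟩
  obtain ⟨c, hc⟩ := hconj (Subgroup.zpowers g) H
    (by rw [Nat.card_zpowers]; exact (hp.coprime_iff_not_dvd.2 hg).symm) hHc hHi
  have hmem : c * g * c⁻¹ ∈ H := hc ⟨g, Subgroup.mem_zpowers g, rfl⟩
  have h := h7 f hf ho _ hmem
  rw [proj, Finset.sum_eq_single (1 : G), extendByZero_mem H _ H.one_mem] at h
  · simp only [zext, extendByZero_mem (⊥ : Subgroup G) _ (one_mem _)] at h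
    simpa [τ, hf g c] using h
  · intro x _ hx
    by_cases hH : x ∈ H
    · rw [extendByZero_mem H _ hH, zext_not_mem ⊥ _ (fun hb => hx (Subgroup.mem_bot.1 hb)), zero_mul]
    · rw [extendByZero_not_mem H _ hH, zero_mul]
  · exact fun h0 => absurd (Finset.mem_univ _) h0

end Cfsg.Agent.Char.Fong
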