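import Cfsg.Agent.Lib.Fusion.TransferSplit

/-!
# A self-centralising four group modulo a centre of odd order
-/

set_option autoImplicit false
set_option linter.unusedSectionVars false
set_option linter.style.haveILetI false

namespace Cfsg.Agent.Char.FourSplit

open scoped commutatorElement

universe u

variable {G : Type u} [Group G] [Finite G]

theorem exists_symmetric_four (P : Subgroup G) [P.Normal] (hP4 : Nat.card P = 4)
    (hC : Subgroup.centralizer (P : Set G) = P ⊔ Subgroup.center G)
    (hZ : ¬ 2 ∣ Nat.card (Subgroup.center G)) (hinf : P ⊓ Subgroup.center G = ⊥)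
    (h3 : 3 ∣ (Subgroup.centralizer (P : Set G)).index) (h8 : 8 ∣ Nat.card G) :
    ∃ H : Subgroup G, Nonempty (↥H ≃* Equiv.Perm (Fin 4)) ∧ H ⊓ Subgroup.center G = ⊥ ∧
      H ⊔ Subgroup.center G = ⊤ := by
  classical
  haveI := Fintype.ofFinite G
  haveI := Fintype.ofFinite P
  haveI : Fact (Nat.Prime 2) := ⟨Nat.prime_two⟩
  haveI : Fact (Nat.Prime 3) := ⟨Nat.prime_three⟩
  set Z := Subgroup.center G with hZdef
  set C := Subgroup.centralizer (P : Set G) with hCdef
  have hP2 : IsPGroup 2 P := IsPGroup.of_card (n := 2) (by rw [hP4]; norm_num)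
  -- the action on the three involutions
  let X := {u : P // u ≠ 1}
  have hX : Nat.card X = 3 := by
    rw [Nat.card_eq_fintype_card, Fintype.card_subtype_compl, Fintype.card_subtype_eq,
      ← Nat.card_eq_fintype_card, hP4]
  let φ : G →* Equiv.Perm X :=
    { toFun := fun g => (MulAut.conjNormal g).toEquiv.subtypeEquiv fun u => by simp
      map_one' := by
        refine Equiv.ext fun u => Subtype.ext ?_
        simp
      map_mul' := fun a b => by
        refine Equiv.ext fun u => Subtype.ext ?_
        simp [mul_assoc] }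
  have hker : φ.ker = C := by
    ext g
    rw [MonoidHom.mem_ker]
    constructor
    · intro hg
      refine Subgroup.mem_centralizer_iff.mpr fun u hu => ?_
      by_cases hu1 : u = 1
      · rw [hu1, one_mul, mul_one]
      have h1 : φ g ⟨⟨u, hu⟩, fun e => hu1 (congrArg Subtype.val e)⟩ = _ :=
        congrArg (fun σ : Equiv.Perm X => σ ⟨⟨u, hu⟩, fun e => hu1 (congrArg Subtype.val e)⟩) hg
      have h2 : g * u * g⁻¹ = u := congrArg (fun v : X => ((v : P) : G)) h1
      exact (mul_inv_eq_iff_eq_mul.mp h2).symm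
    · intro hg
      refine Equiv.ext fun u => Subtype.ext (Subtype.ext ?_)
      show g * ((u : P) : G) * g⁻¹ = ((u : P) : G)
      rw [← Subgroup.mem_centralizer_iff.mp hg _ (u : P).2, mul_inv_cancel_right]
  have hperm : Nat.card (Equiv.Perm X) = 6 := by
    rw [Nat.card_perm, hX]
    rfl
  have hCn : C.Normal := Subgroup.normal_centralizer
  have hdis : Disjoint P Z := disjoint_iff.mpr hinf
  have hCcard : Nat.card C = 4 * Nat.card Z := by
    rw [← hP4, hC]
    have hcop : (Nat.card P).Coprime (Nat.card Z) := by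
      rw [hP4, show (4 : ℕ) = 2 ^ 2 by norm_num]
      exact Nat.Coprime.pow_left _ (Nat.prime_two.coprime_iff_not_dvd.mpr hZ)
    rw [← Subgroup.card_mul_index Z] at *
    have h1 := Subgroup.card_mul_index (Z.subgroupOf (P ⊔ Z))
    rw [Nat.card_congr (Subgroup.subgroupOfEquivOfLe le_sup_right).toEquiv] at h1
    have h2 : (Z.subgroupOf (P ⊔ Z)).index = Nat.card P := by
      show Z.relIndex (P ⊔ Z) = _
      rw [Subgroup.relIndex_sup_right, ← Subgroup.inf_relIndex_right, inf_comm, hinf,
        Subgroup.relIndex_bot_left]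
    rw [h2] at h1
    rw [← h1, mul_comm]
  have h6 : C.index = 6 := by
    have hle : C.index ≤ 6 := by
      rw [← hker, Subgroup.index_ker, ← hperm]
      exact Nat.card_le_card_of_injective _ φ.range.subtype_injective
    have h2 : 2 ∣ C.index := by
      rw [← Subgroup.card_mul_index C, hCcard] at h8
      have hco : Nat.Coprime 2 (Nat.card Z) := Nat.prime_two.coprime_iff_not_dvd.mpr hZ
      have h4 : 2 ∣ Nat.card Z * C.index :=
        Nat.dvd_of_mul_dvd_mul_left (show 0 < 4 by norm_num) (by rw [← mul_assoc]; exact h8)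
      exact hco.dvd_of_dvd_mul_left h4
    have h0 : C.index ≠ 0 := Subgroup.index_ne_zero_of_finite
    omega
  have hsurj : Function.Surjective φ := by
    rw [← MonoidHom.range_eq_top]
    refine Subgroup.eq_top_of_card_eq _ ?_
    rw [hperm, ← h6, ← hker, Subgroup.index_ker]
  have htrans : ∀ u v : P, u ≠ 1 → v ≠ 1 → ∃ g : G, g * u * g⁻¹ = v := by
    intro u v hu hv
    obtain ⟨g, hg⟩ := hsurj (Equiv.swap ⟨u, hu⟩ ⟨v, hv⟩)
    have h1 : φ g ⟨u, hu⟩ = ⟨v, hv⟩ := by rw [hg, Equiv.swap_apply_left]
    exact ⟨g, congrArg (fun w : X => ((w : P) : G)) h1⟩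
  have hGcard : Nat.card G = 24 * Nat.card Z := by
    rw [← Subgroup.card_mul_index C, hCcard, h6]
    ring
  have hZindex : Z.index = 24 := by
    have := Subgroup.card_mul_index Z
    rw [hGcard, mul_comm 24] at this
    exact Nat.eq_of_mul_eq_mul_left Nat.card_pos this
  -- no central element in the derived subgroup
  have hZG : Z ⊓ commutator G = ⊥ := by
    let π := QuotientGroup.mk' Z
    obtain ⟨R⟩ : Nonempty (Sylow 3 (G ⧸ Z)) := inferInstance
    set S := (R : Subgroup (G ⧸ Z)).comap π with hS
    have hQ : Nat.card (G ⧸ Z) = 24 := by rw [← Subgroup.index_eq_card, hZindex]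
    have hR : Nat.card R = 3 := by
      rw [R.card_eq_multiplicity, hQ]
      rw [show (24 : ℕ) = 2 ^ 3 * 3 ^ 1 by norm_num, Nat.factorization_mul (by norm_num) (by norm_num),
        Finsupp.add_apply, Nat.prime_two.factorization_pow, Nat.prime_three.factorization_pow]
      simp
    haveI : IsCyclic R := isCyclic_of_prime_card hR
    let f : S →* R := (π.comp S.subtype).codRestrict _ fun s => s.2
    have hfker : f.ker ≤ Subgroup.center S := fun s hs => by
      have h1 : (s : G) ∈ Z := (QuotientGroup.eq_one_iff _).mp (congrArg Subtype.val hs)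
      exact Subgroup.mem_center_iff.mpr fun t =>
        Subtype.ext (Subgroup.mem_center_iff.mp h1 (t : G))
    haveI : IsMulCommutative S :=
      ⟨⟨commutative_of_cyclic_center_quotient f hfker⟩⟩
    letI : CommGroup S := { (inferInstance : Group S) with mul_comm := fun a b => mul_comm' a b }
    have hSi : S.index = 8 := by
      have h1 := Subgroup.card_mul_index (R : Subgroup (G ⧸ Z))
      rw [hR, hQ] at h1
      rw [hS, Subgroup.index_comap_of_surjective _ (QuotientGroup.mk'_surjective Z)]
      omega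
    refine (Subgroup.eq_bot_iff_forall _).mpr fun z hz => ?_
    have hzS : z ∈ S := by
      show π z ∈ (R : Subgroup (G ⧸ Z))
      rw [show π z = 1 from (QuotientGroup.eq_one_iff z).mpr hz.1]
      exact one_mem _
    have h1 := Fusion.transfer_central (MonoidHom.id S) hzS hz.1
    have h2 : MonoidHom.transfer (MonoidHom.id S) z = 1 :=
      Abelianization.commutator_subset_ker _ hz.2
    rw [h2, MonoidHom.id_apply, hSi] at h1
    have h3 : z ^ 8 = 1 := congrArg Subtype.val h1.symm
    have h4 : orderOf z ∣ Nat.card Z := Subgroup.orderOf_mk z hz.1 ▸ orderOf_dvd_natCard _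
    have h5 : orderOf z ∣ 2 ^ 3 := orderOf_dvd_of_pow_eq_one h3
    exact orderOf_eq_one_iff.mp (Nat.eq_one_of_dvd_coprimes
      (Nat.Coprime.pow_left 3 (Nat.prime_two.coprime_iff_not_dvd.mpr hZ)) h5 h4)
  -- the retraction
  let S0 := commutator G ⊔ Z
  letI : CommGroup Z := { (inferInstance : Group Z) with
    mul_comm := fun a b => Subtype.ext ((Subgroup.mem_center_iff.mp b.2 (a : G))) }
  have hdec : ∀ s : S0, ∃ z : Z, (s : G) * (z : G)⁻¹ ∈ commutator G := fun s => by
    obtain ⟨a, ha, z, hz, e⟩ := Subgroup.mem_sup_of_normal_left.mp s.2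
    exact ⟨⟨z, hz⟩, by rw [← e, mul_inv_cancel_right]; exact ha⟩
  choose ζ hζ using hdec
  have huniq : ∀ (s : S0) (z : Z), (s : G) * (z : G)⁻¹ ∈ commutator G → ζ s = z := by
    intro s z hz
    have h1 : ((ζ s : G)) * (z : G)⁻¹ ∈ Z ⊓ commutator G :=
      ⟨Z.mul_mem (ζ s).2 (Z.inv_mem z.2), by
        have := (commutator G).mul_mem ((commutator G).inv_mem (hζ s)) hz
        simpa [mul_assoc] using this⟩
    rw [hZG, Subgroup.mem_bot] at h1
    exact Subtype.ext (mul_inv_eq_one.mp h1)
  let θ : S0 →* Z :=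
    { toFun := ζ
      map_one' := huniq 1 1 (by simp [one_mem])
      map_mul' := fun s t => huniq _ _ (by
        have hc : (ζ s : G)⁻¹ * ((t : G) * (ζ t : G)⁻¹) = ((t : G) * (ζ t : G)⁻¹) * (ζ s : G)⁻¹ :=
          (Subgroup.mem_center_iff.mp (Z.inv_mem (ζ s).2) _).symm
        have e : ((s * t : S0) : G) * ((ζ s * ζ t : Z) : G)⁻¹ =
            ((s : G) * (ζ s : G)⁻¹) * ((t : G) * (ζ t : G)⁻¹) := by
          simp only [Subgroup.coe_mul, _root_.mul_inv_rev]
          rw [mul_assoc (s : G) (ζ s : G)⁻¹, hc]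
          group
        rw [e]
        exact (commutator G).mul_mem (hζ s) (hζ t)) }
  have hPG : P ≤ commutator G := by
    intro w hw
    by_cases hw1 : w = 1
    · rw [hw1]; exact one_mem _
    obtain ⟨u, hu1, huw⟩ : ∃ u : P, u ≠ 1 ∧ u ≠ ⟨w, hw⟩ := by
      by_contra! hall
      have : Subsingleton X := ⟨fun a b => Subtype.ext ((hall a a.2).trans (hall b b.2).symm)⟩
      have h1 : Nat.card X = 1 :=
        Nat.card_of_subsingleton (⟨⟨w, hw⟩, fun e => hw1 (congrArg Subtype.val e)⟩ : X)
      rw [hX] at h1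
      omega
    have hv1 : (⟨w, hw⟩ : P) * u ≠ 1 := by
      intro e
      have h2 : (u : G) * u = 1 := by
        have := pow_card_eq_one' (x := u)
        obtain ⟨g, hg⟩ := htrans u ⟨w, hw⟩ hu1 (fun e => hw1 (congrArg Subtype.val e))
        have hs : ∀ x : P, x * x = 1 := by
          intro x
          have hno : ¬ IsCyclic P := by
            intro hcyc
            obtain ⟨x0, hx0⟩ := IsCyclic.exists_generator (α := P)
            have ho : orderOf x0 = 4 := by rw [orderOf_eq_card_of_forall_mem_zpowers hx0, hP4]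
            have hy1 : x0 ^ 2 ≠ 1 := fun e => by
              have := orderOf_dvd_of_pow_eq_one e
              rw [ho] at this
              omega
            have hx1 : x0 ≠ 1 := fun e => by rw [e, orderOf_one] at ho; omega
            obtain ⟨g, hg⟩ := htrans x0 (x0 ^ 2) hx1 hy1
            have h1 : orderOf ((x0 : G)) = orderOf (((x0 ^ 2 : P)) : G) := by
              rw [← hg]
              exact (orderOf_injective (MulAut.conj g).toMonoidHom (MulEquiv.injective _) _).symm
            rw [Subgroup.orderOf_coe, Subgroup.orderOf_coe, orderOf_pow' _ two_ne_zero, ho] at h1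
            norm_num at h1
          have h4 : orderOf x ∣ 2 ^ 2 := by
            have := orderOf_dvd_natCard x
            rw [hP4] at this
            simpa using this
          obtain ⟨i, hi, ho⟩ := (Nat.dvd_prime_pow Nat.prime_two).mp h4
          rw [← pow_two]
          refine orderOf_dvd_iff_pow_eq_one.mp ?_
          interval_cases i
          · simp [ho]
          · simp [ho]
          · exfalso
            exact hno (isCyclic_of_orderOf_eq_card x (by rw [ho, hP4]; norm_num))
        exact congrArg Subtype.val (hs u)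
      have h3 : (⟨w, hw⟩ : P) = u := mul_right_cancel (b := u) (e.trans (Subtype.ext h2.symm))
      exact huw h3.symm
    obtain ⟨g, hg⟩ := htrans u (⟨w, hw⟩ * u) hu1 hv1
    have h5 : w = g * (u : G) * g⁻¹ * (u : G)⁻¹ := by
      rw [hg, Subgroup.coe_mul, mul_inv_cancel_right]
    rw [h5, ← commutatorElement_def, commutator_def]
    exact Subgroup.commutator_mem_commutator (Subgroup.mem_top _) (Subgroup.mem_top _)
  have h3G : 3 ∣ Nat.card (commutator G) := by
    let e := Finite.equivFinOfCardEq hX
    obtain ⟨x, hx⟩ := hsurj (e.symm.permCongr (Equiv.swap 0 1))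
    obtain ⟨y, hy⟩ := hsurj (e.symm.permCongr (Equiv.swap 1 2))
    have hne : ⁅φ x, φ y⁆ ≠ 1 := by
      intro h1
      rw [commutatorElement_eq_one_iff_mul_comm, hx, hy] at h1
      have h2 := congrArg e.permCongr h1
      rw [Equiv.permCongr_mul, Equiv.permCongr_mul, ← Equiv.permCongr_symm, Equiv.apply_symm_apply,
        Equiv.apply_symm_apply] at h2
      exact absurd h2 (by decide)
    haveI := Fintype.ofFinite X
    haveI : Nontrivial X := Finite.one_lt_card_iff_nontrivial.mp (by omega)
    have hA : ⁅φ x, φ y⁆ ∈ alternatingGroup X := by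
      rw [Equiv.Perm.mem_alternatingGroup, map_commutatorElement]
      exact commutatorElement_eq_one_iff_mul_comm.mpr (mul_comm _ _)
    have hcardA : Nat.card (alternatingGroup X) = 3 := by
      rw [nat_card_alternatingGroup, hX]
      rfl
    have ho : orderOf ⁅φ x, φ y⁆ = 3 := by
      have h1 : orderOf (⟨_, hA⟩ : alternatingGroup X) ∣ 3 := hcardA ▸ orderOf_dvd_natCard _
      rw [Subgroup.orderOf_mk] at h1
      exact ((Nat.dvd_prime Nat.prime_three).mp h1).resolve_left
        fun h => hne (orderOf_eq_one_iff.mp h)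
    have hc : ⁅x, y⁆ ∈ commutator G := by
      rw [commutator_def]
      exact Subgroup.commutator_mem_commutator (Subgroup.mem_top _) (Subgroup.mem_top _)
    calc 3 = orderOf (φ ⁅x, y⁆) := by rw [map_commutatorElement, ho]
      _ ∣ orderOf ⁅x, y⁆ := orderOf_map_dvd _ _
      _ ∣ _ := Subgroup.orderOf_mk _ hc ▸ orderOf_dvd_natCard _
  have h12 : 12 ∣ Nat.card (commutator G) :=
    Nat.Coprime.mul_dvd_of_dvd_of_dvd (show Nat.Coprime 4 3 by norm_num)
      (hP4 ▸ Subgroup.card_dvd_of_le hPG) h3G
  have hS0 : S0.index ∣ 2 := by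
    have h1 : Nat.card (commutator G) ∣ Z.relIndex S0 := by
      show _ ∣ Z.relIndex (commutator G ⊔ Z)
      rw [Subgroup.relIndex_sup_right, ← Subgroup.inf_relIndex_right, hZG, Subgroup.relIndex_bot_left]
    have h2 := Subgroup.relIndex_mul_index (H := Z) (K := S0) le_sup_right
    rw [hZindex] at h2
    obtain ⟨k, hk⟩ := (h12.trans h1)
    rw [hk] at h2
    exact ⟨k, by nlinarith⟩
  have hcopI : (Nat.card Z).Coprime S0.index :=
    ((Nat.prime_two.coprime_iff_not_dvd.mpr hZ).coprime_dvd_left hS0).symm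
  obtain ⟨ψ, hψ⟩ := Fusion.exists_retraction (A := Z) Z.subtype
    (fun a e => (Subgroup.mem_center_iff.mp a.2 e).symm) S0
    (fun a => Subgroup.mem_sup_right a.2) θ (fun a => huniq _ _ (by simp [one_mem])) hcopI
  set H := ψ.ker with hH
  have hHZ : H ⊓ Z = ⊥ := (Subgroup.eq_bot_iff_forall _).mpr fun z hz => by
    have h1 := hψ ⟨z, hz.2⟩
    have h2 : ψ z = 1 := hz.1
    exact congrArg Subtype.val (h1.symm.trans h2)
  have hsup : H ⊔ Z = ⊤ := by
    refine (Subgroup.eq_top_iff' _).mpr fun g => ?_
    have hm : g * ((ψ g : Z) : G)⁻¹ ∈ H := by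
      rw [hH, MonoidHom.mem_ker, map_mul, map_inv]
      rw [show ψ ((ψ g : Z) : G) = ψ g from hψ _, mul_inv_cancel]
    have := Subgroup.mul_mem (H ⊔ Z) (Subgroup.mem_sup_left hm) (Subgroup.mem_sup_right (ψ g).2)
    rwa [inv_mul_cancel_right] at this
  refine ⟨H, ?_, hHZ, hsup⟩
  have hPH : P ≤ H := fun u hu => by
    rw [hH, MonoidHom.mem_ker, ← orderOf_eq_one_iff]
    refine Nat.eq_one_of_dvd_coprimes
      (Nat.Coprime.pow_left 2 (Nat.prime_two.coprime_iff_not_dvd.mpr hZ)) ?_ (orderOf_dvd_natCard _)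
    refine (orderOf_map_dvd ψ u).trans ?_
    have := Subgroup.orderOf_mk u hu ▸ orderOf_dvd_natCard (⟨u, hu⟩ : P)
    rw [hP4] at this
    simpa using this
  have hHcard : Nat.card H = 24 := by
    rw [← hZindex]
    exact (Subgroup.isComplement'_of_disjoint_and_mul_eq_univ (disjoint_iff.mpr hHZ)
      (by rw [← Subgroup.coe_top, ← hsup, Subgroup.normal_mul])).index_eq_card.symm
  haveI : (P.subgroupOf H).Normal := Subgroup.Normal.comap inferInstance _
  obtain ⟨R⟩ : Nonempty (Sylow 3 H) := inferInstance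
  have hR : Nat.card R = 3 := by
    rw [R.card_eq_multiplicity, hHcard]
    rw [show (24 : ℕ) = 2 ^ 3 * 3 ^ 1 by norm_num, Nat.factorization_mul (by norm_num) (by norm_num),
      Finsupp.add_apply, Nat.prime_two.factorization_pow, Nat.prime_three.factorization_pow]
    simp
  have hRi : (R : Subgroup H).index = 8 := by
    have h1 := Subgroup.card_mul_index (R : Subgroup H)
    rw [hR, hHcard] at h1
    omega
  have hRnot : ¬ (R : Subgroup H).Normal := by
    intro hn
    have hdisj : Disjoint (R : Subgroup H) (P.subgroupOf H) := by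
      refine Subgroup.disjoint_of_coprime_natCard ?_
      rw [hR, Nat.card_congr (Subgroup.subgroupOfEquivOfLe hPH).toEquiv, hP4]
      norm_num
    obtain ⟨r, hr⟩ := exists_prime_orderOf_dvd_card' (G := (R : Subgroup H)) 3 (dvd_of_eq hR.symm)
    have hrC : ((r : H) : G) ∈ C := Subgroup.mem_centralizer_iff.mpr fun u hu =>
      congrArg (fun x : H => (x : G)) (Subgroup.commute_of_normal_of_disjoint _ _ hn inferInstance hdisj
        (r : H) ⟨u, hPH hu⟩ r.2 hu).eq.symm
    have hrP : ((r : H) : G) ∈ P := by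
      rw [hC] at hrC
      obtain ⟨a, ha, z, hz, e⟩ := Subgroup.mem_sup_of_normal_left.mp hrC
      have hzH : z ∈ H := by
        have := H.mul_mem (H.inv_mem (hPH ha)) (r : H).2
        rwa [← e, inv_mul_cancel_left] at this
      have hz1 : z ∈ H ⊓ Z := ⟨hzH, hz⟩
      rw [hHZ, Subgroup.mem_bot] at hz1
      rw [← e, hz1, mul_one]
      exact ha
    have h1 : orderOf ((r : H) : G) ∣ Nat.card P :=
      Subgroup.orderOf_mk _ hrP ▸ orderOf_dvd_natCard _
    rw [Subgroup.orderOf_coe, Subgroup.orderOf_coe, hr, hP4] at h1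
    omega
  have hsyl : Nat.card (Sylow 3 H) = 4 := by
    have h1 := (card_sylow_modEq_one 3 H)
    have h2 := R.card_dvd_index
    rw [hRi] at h2
    have h3 : Nat.card (Sylow 3 H) ≠ 1 := fun h => hRnot (by
      haveI := (Nat.card_eq_one_iff_unique.mp h).1
      exact Subgroup.normalizer_eq_top_iff.mp ((Subgroup.eq_top_iff' _).mpr fun g =>
        Sylow.smul_eq_iff_mem_normalizer.mp (Subsingleton.elim _ _)))
    have h4 : Nat.card (Sylow 3 H) ≤ 8 := Nat.le_of_dvd (by norm_num) h2
    unfold Nat.ModEq at h1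
    interval_cases h : Nat.card (Sylow 3 H) <;> omega
  have hnorm : Nat.card (Subgroup.normalizer ((R : Subgroup H) : Set H)) = 6 := by
    have h1 := Subgroup.card_mul_index (Subgroup.normalizer ((R : Subgroup H) : Set H))
    rw [show (Subgroup.normalizer ((R : Subgroup H) : Set H)).index = 4 from
      R.card_eq_index_normalizer.symm.trans hsyl, hHcard] at h1
    omega
  let ρ := MulAction.toPermHom H (Sylow 3 H)
  have hN : ρ.ker ≤ Subgroup.normalizer ((R : Subgroup H) : Set H) := fun g hg =>
    Sylow.smul_eq_iff_mem_normalizer.mp (congrArg (fun σ : Equiv.Perm (Sylow 3 H) => σ R) hg)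
  have hinfN : ρ.ker ⊓ P.subgroupOf H = ⊥ := by
    refine (Subgroup.eq_bot_iff_forall _).mpr fun u hu => ?_
    by_contra hu1
    have hall : P.subgroupOf H ≤ ρ.ker := by
      intro v hv
      by_cases hv1 : v = 1
      · rw [hv1]; exact one_mem _
      obtain ⟨g, hg⟩ := htrans ⟨(u : G), hu.2⟩ ⟨(v : G), hv⟩
        (fun e => hu1 (Subtype.ext (congrArg (fun x : P => (x : G)) e)))
        (fun e => hv1 (Subtype.ext (congrArg (fun x : P => (x : G)) e)))
      obtain ⟨a, ha, z, hz, e⟩ := Subgroup.mem_sup_of_normal_left.mp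
        (show g ∈ H ⊔ Z from hsup ▸ Subgroup.mem_top g)
      have hzu : z * (u : G) * z⁻¹ = u := by
        rw [← Subgroup.mem_center_iff.mp hz (u : G), mul_inv_cancel_right]
      have hv' : v = (⟨a, ha⟩ : H) * u * (⟨a, ha⟩ : H)⁻¹ := Subtype.ext (by
        show (v : G) = a * (u : G) * a⁻¹
        simp only at hg
        rw [← hg, ← e]
        conv_rhs => rw [← hzu]
        group)
      rw [hv']
      exact (inferInstance : ρ.ker.Normal).conj_mem _ hu.1 _
    have h1 := Subgroup.card_dvd_of_le (hall.trans hN)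
    rw [Nat.card_congr (Subgroup.subgroupOfEquivOfLe hPH).toEquiv, hP4, hnorm] at h1
    omega
  have hinj : Function.Injective ρ := by
    rw [← MonoidHom.ker_eq_bot_iff]
    refine le_bot_iff.mp fun g hg => ?_
    have hgC : (g : G) ∈ C := Subgroup.mem_centralizer_iff.mpr fun u hu =>
      congrArg (fun x : H => (x : G)) (Subgroup.commute_of_normal_of_disjoint _ _
        (inferInstance : ρ.ker.Normal) inferInstance (disjoint_iff.mpr hinfN)
        g ⟨u, hPH hu⟩ hg hu).eq.symm
    rw [hC] at hgC
    obtain ⟨a, ha, z, hz, e⟩ := Subgroup.mem_sup_of_normal_left.mp hgC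
    have hzH : z ∈ H := by
      have := H.mul_mem (H.inv_mem (hPH ha)) g.2
      rwa [← e, inv_mul_cancel_left] at this
    have hz1 : z ∈ H ⊓ Z := ⟨hzH, hz⟩
    rw [hHZ, Subgroup.mem_bot] at hz1
    have hgP : g ∈ ρ.ker ⊓ P.subgroupOf H := ⟨hg, by
      show (g : G) ∈ P
      rw [← e, hz1, mul_one]; exact ha⟩
    rwa [hinfN] at hgP
  haveI := Fintype.ofFinite (Sylow 3 H)
  have hbij : Function.Bijective ρ := by
    refine (Nat.bijective_iff_injective_and_card _).mpr ⟨hinj, ?_⟩
    rw [hHcard, Nat.card_perm, hsyl]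
    rfl
  exact ⟨(MulEquiv.ofBijective ρ hbij).trans
    (Finite.equivFinOfCardEq hsyl).permCongrHom⟩

end Cfsg.Agent.Char.FourSplit
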