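import Cfsg.Agent.Lib.Char.NormalDefectHeights
import Cfsg.Agent.Lib.Char.Inflate
import Cfsg.Agent.Lib.Char.Linear
import Cfsg.Agent.Lib.Char.DegreeDvd
import Cfsg.Agent.Lib.Fusion.AbelianHall
import Cfsg.Agent.Lib.Solv.PGroupPhi
import Cfsg.Prelude.Def_Transfer
import Mathlib

/-!
# Nilpotent groups with a unique character degree divisible by a prime
-/

set_option autoImplicit false
set_option linter.unusedSectionVars false

namespace Cfsg.Agent.Char

open Cfsg
open scoped ComplexConjugate commutatorElement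

universe u

variable {G : Type u} [Group G] [Fintype G] {p : ℕ}

theorem exists_linear_ne_one {g : G} (hg : g ∉ commutator G) : ∃ l : G →* ℂˣ, l g ≠ 1 := by
  haveI : NeZero (Monoid.exponent (Abelianization G)) :=
    ⟨Monoid.exponent_ne_zero_of_finite⟩
  have hne : Abelianization.of g ≠ 1 := fun h => hg ((QuotientGroup.eq_one_iff g).1 h)
  obtain ⟨f, hf⟩ := CommGroup.exists_apply_ne_one_of_hasEnoughRootsOfUnity (Abelianization G) ℂ hne
  exact ⟨f.comp Abelianization.of, hf⟩

theorem isIrr_linear_smul (l : G →* ℂˣ) (χ : IrrCharacter G) :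
    IsIrrCharacter G (fun g => (l g : ℂ) * (χ : G → ℂ) g) := by
  refine isIrr_of_norm_one (isCharacter_mul (isCharacter_linear l) (irr_isCharacter χ.2)) ?_
  rw [← irr_self χ.2]
  simp only [classInner]
  congr 1
  refine Finset.sum_congr rfl fun g _ => ?_
  have h1 : (l g : ℂ) * conj (l g : ℂ) = 1 := by
    rw [← char_inv (isCharacter_linear l), map_inv, ← Units.val_mul, mul_inv_cancel, Units.val_one]
  rw [map_mul]
  linear_combination (χ : G → ℂ) g * conj ((χ : G → ℂ) g) * h1

/-- A character alone of its degree vanishes off the derived group. -/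
theorem vanish_off_commutator {χ : IrrCharacter G}
    (hu : ∀ ψ : IrrCharacter G, (ψ : G → ℂ) 1 = (χ : G → ℂ) 1 → ψ = χ) {g : G}
    (hg : g ∉ commutator G) : (χ : G → ℂ) g = 0 := by
  obtain ⟨l, hl⟩ := exists_linear_ne_one hg
  have h1 := congrFun (congrArg Subtype.val (hu ⟨_, isIrr_linear_smul l χ⟩ (by simp))) g
  have h2 : ((l g : ℂ) - 1) * (χ : G → ℂ) g = 0 := by linear_combination h1
  exact (mul_eq_zero.1 h2).resolve_left (sub_ne_zero.2 (fun h => hl (Units.ext h)))

theorem two_pow_add {p m j n : ℕ} (hp : p.Prime) (h : p ^ m + p ^ j = p ^ n) :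
    p = 2 ∧ m = j ∧ n = m + 1 := by
  wlog hmj : m ≤ j generalizing m j
  · obtain ⟨h1, h2, h3⟩ := this (m := j) (j := m) (by rw [add_comm]; exact h) (le_of_not_ge hmj)
    exact ⟨h1, h2.symm, by omega⟩
  obtain ⟨i, rfl⟩ := Nat.exists_eq_add_of_le hmj
  have hmn : m < n := by
    by_contra hle
    have := Nat.pow_le_pow_right hp.pos (Nat.le_of_not_lt hle)
    have := pow_pos hp.pos (m + i)
    omega
  obtain ⟨k, rfl⟩ := Nat.exists_eq_add_of_le hmn
  have h1 : 1 + p ^ i = p * p ^ k := by
    apply Nat.eq_of_mul_eq_mul_left (pow_pos hp.pos m)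
    rw [mul_add, mul_one, ← pow_add, h, ← mul_assoc, ← pow_succ, ← pow_add]
  rcases Nat.eq_zero_or_pos i with rfl | hi
  · rw [pow_zero] at h1
    have h2 : p = 2 := (Nat.prime_dvd_prime_iff_eq hp Nat.prime_two).1 ⟨p ^ k, h1⟩
    subst h2
    refine ⟨rfl, rfl, ?_⟩
    rcases Nat.eq_zero_or_pos k with rfl | hk
    · rfl
    · have := Nat.pow_le_pow_right (show 0 < 2 by omega) hk
      omega
  · exact absurd ((Nat.dvd_add_left (dvd_pow_self p hi.ne')).1 ⟨p ^ k, h1⟩) hp.not_dvd_one

/-- A nilpotent group with a unique character degree divisible by `p` is a `p`-group. -/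
theorem isPGroup_of_unique_div [hp : Fact p.Prime] [Group.IsNilpotent G] {χ : IrrCharacter G}
    (hχ : p ∣ deg (χ : G → ℂ))
    (hu : ∀ ψ : IrrCharacter G, p ∣ deg (ψ : G → ℂ) → ψ = χ) : IsPGroup p G := by
  classical
  obtain ⟨P, K, hKn, hc⟩ := Fusion.hnpc_of_isNilpotent (G := G) (p := p)
  haveI := hKn
  haveI hPn : (P : Subgroup G).Normal := inferInstance
  haveI := Fintype.ofFinite (G ⧸ K)
  have hidx : K.index = Nat.card (P : Subgroup G) := hc.symm.index_eq_card
  obtain ⟨n, hn⟩ := IsPGroup.iff_card.1 P.isPGroup'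
  have hQ : IsPGroup p (G ⧸ K) := IsPGroup.of_card (n := n) (by rw [← Subgroup.index_eq_card, hidx, hn])
  have hna : ¬ ∀ a b : G ⧸ K, a * b = b * a := by
    intro hab
    have hPc : ∀ a b : (P : Subgroup G), a * b = b * a := by
      intro a b
      refine Subtype.ext ?_
      have h1 : ⁅(a : G), (b : G)⁆ ∈ K := by
        rw [← QuotientGroup.eq_one_iff, ← QuotientGroup.mk'_apply, map_commutatorElement,
          commutatorElement_eq_one_iff_mul_comm]
        exact hab _ _
      have h2 : ⁅(a : G), (b : G)⁆ ∈ (P : Subgroup G) :=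
        mul_mem (mul_mem (mul_mem a.2 b.2) (inv_mem a.2)) (inv_mem b.2)
      have h3 : ⁅(a : G), (b : G)⁆ ∈ K ⊓ (P : Subgroup G) := ⟨h1, h2⟩
      rw [hc.disjoint.eq_bot, Subgroup.mem_bot, commutatorElement_eq_one_iff_mul_comm] at h3
      exact h3
    exact P.not_dvd_index (hχ.trans (deg_dvd_index_abelian_normal χ.2 (P : Subgroup G) hPc))
  obtain ⟨α, hα⟩ := exists_irr_dvd_deg hp.out hQ hna
  have hαχ : (⟨_, isIrr_inflate K α.2⟩ : IrrCharacter G) = χ := by
    refine hu _ ?_
    have : deg (fun g : G => (α : G ⧸ K → ℂ) (QuotientGroup.mk g)) = deg (α : G ⧸ K → ℂ) := by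
      apply Nat.cast_injective (R := ℂ)
      rw [← char_one_eq_deg (irr_isCharacter (isIrr_inflate K α.2)),
        ← char_one_eq_deg (irr_isCharacter α.2), QuotientGroup.mk_one]
    exact this ▸ hα
  have hK : K ≤ commutator G := by
    intro k hk
    by_contra hno
    have h0 := vanish_off_commutator (χ := χ) (fun ψ hψ => hu ψ (by
      have : deg (ψ : G → ℂ) = deg (χ : G → ℂ) := Nat.cast_injective (R := ℂ) (by
        rw [← char_one_eq_deg (irr_isCharacter ψ.2), hψ, char_one_eq_deg (irr_isCharacter χ.2)])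
      exact this ▸ hχ)) hno
    rw [← hαχ] at h0
    change (α : G ⧸ K → ℂ) (QuotientGroup.mk k) = 0 at h0
    rw [(QuotientGroup.eq_one_iff k).2 hk] at h0
    exact irr_one_ne_zero α.2 h0
  have hbot : (⊤ : Subgroup (G ⧸ (P : Subgroup G))) = ⊥ := by
    refine Fusion.eq_bot_of_le_commutator_top ?_
    have h1 := Subgroup.map_mono (f := QuotientGroup.mk' (P : Subgroup G)) hK
    rw [commutator_def, Subgroup.map_commutator,
      Subgroup.map_top_of_surjective _ (QuotientGroup.mk'_surjective _)] at h1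
    refine le_trans (le_of_eq ?_) h1
    have h2 := congrArg (Subgroup.map (QuotientGroup.mk' (P : Subgroup G))) hc.sup_eq_top
    rw [Subgroup.map_sup, Subgroup.map_top_of_surjective _ (QuotientGroup.mk'_surjective _)] at h2
    rw [← h2, sup_eq_left.2]
    intro x hx
    obtain ⟨y, hy, rfl⟩ := hx
    rw [QuotientGroup.mk'_apply, (QuotientGroup.eq_one_iff y).2 hy]
    exact one_mem _
  intro g
  have hg : (g : G ⧸ (P : Subgroup G)) ∈ (⊥ : Subgroup (G ⧸ (P : Subgroup G))) :=
    hbot ▸ Subgroup.mem_top _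
  obtain ⟨k, hk⟩ := P.isPGroup' ⟨g, (QuotientGroup.eq_one_iff g).1 (Subgroup.mem_bot.1 hg)⟩
  exact ⟨k, by simpa using congrArg Subtype.val hk⟩

theorem deg_eq_one_or_dvd [hp : Fact p.Prime] (hG : IsPGroup p G) (ψ : IrrCharacter G) :
    deg (ψ : G → ℂ) = 1 ∨ p ∣ deg (ψ : G → ℂ) := by
  obtain ⟨n, hn⟩ := IsPGroup.iff_card.1 hG
  obtain ⟨k, -, hk⟩ := (Nat.dvd_prime_pow hp.out).1 (hn ▸ deg_dvd_card ψ.2)
  rcases Nat.eq_zero_or_pos k with rfl | hk0
  · exact Or.inl (by rw [hk, pow_zero])
  · exact Or.inr (hk ▸ dvd_pow_self p hk0.ne')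

theorem extraspecial_of_unique_div [hp : Fact p.Prime] (hG : IsPGroup p G) {χ : IrrCharacter G}
    (hχ : p ∣ deg (χ : G → ℂ))
    (hu : ∀ ψ : IrrCharacter G, p ∣ deg (ψ : G → ℂ) → ψ = χ) :
    p = 2 ∧ IsExtraspecial 2 G := by
  classical
  have hχd1 : deg (χ : G → ℂ) ≠ 1 := fun h => hp.out.not_dvd_one (h ▸ hχ)
  have hlin : ∀ ψ : IrrCharacter G, ψ ≠ χ ↔ (ψ : G → ℂ) 1 = 1 := fun ψ => by
    rw [char_one_eq_deg (irr_isCharacter ψ.2), Nat.cast_eq_one]
    exact ⟨fun h => (deg_eq_one_or_dvd hG ψ).resolve_right fun h' => h (hu ψ h'),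
      fun h e => hχd1 (e ▸ h)⟩
  have hcount : (Finset.univ.erase χ).card = (commutator G).index := by
    rw [← card_linear, Nat.card_eq_fintype_card, Fintype.card_subtype]
    congr 1
    ext ψ
    simp [hlin ψ]
  have hu' : ∀ ψ : IrrCharacter G, (ψ : G → ℂ) 1 = (χ : G → ℂ) 1 → ψ = χ := fun ψ h => by
    by_contra hne
    rw [(hlin ψ).1 hne, char_one_eq_deg (irr_isCharacter χ.2)] at h
    exact hχd1 (by exact_mod_cast h.symm)
  have hsum : deg (χ : G → ℂ) ^ 2 + (commutator G).index = Nat.card G := by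
    apply Nat.cast_injective (R := ℂ)
    rw [← sum_sq_deg, ← Finset.add_sum_erase _ _ (Finset.mem_univ χ),
      Finset.sum_congr rfl (s₂ := Finset.univ.erase χ) (g := fun _ => (1 : ℂ))
        (fun ψ hψ => by rw [(hlin ψ).1 (Finset.ne_of_mem_erase hψ), one_pow]),
      Finset.sum_const, nsmul_one, hcount, char_one_eq_deg (irr_isCharacter χ.2)]
    push_cast
    ring
  obtain ⟨n, hn⟩ := IsPGroup.iff_card.1 hG
  obtain ⟨j, -, hj⟩ := (Nat.dvd_prime_pow hp.out).1 (hn ▸ deg_dvd_card χ.2)
  obtain ⟨m, -, hm⟩ := (Nat.dvd_prime_pow hp.out).1 (hn ▸ (commutator G).index_dvd_card)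
  rw [hj, hm, hn, ← pow_mul] at hsum
  obtain ⟨rfl, hjm, hnm⟩ := two_pow_add hp.out hsum
  have hG2 : Nat.card (commutator G) = 2 := by
    have h := (commutator G).card_mul_index
    rw [hn, hm, hnm, pow_succ, hjm, mul_comm] at h
    exact Nat.eq_of_mul_eq_mul_left (pow_pos (show 0 < 2 by omega) m) h
  have hcent : commutator G ≤ Subgroup.center G := by
    intro z hz
    rw [Subgroup.mem_center_iff]
    intro k
    obtain ⟨a, b, hab, huniv⟩ := Nat.card_eq_two_iff.1 hG2
    have hall : ∀ w : commutator G, w = a ∨ w = b := fun w => by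
      have : w ∈ ({a, b} : Set _) := huniv ▸ Set.mem_univ w
      simpa using this
    have hkz : k * z * k⁻¹ ∈ commutator G := Subgroup.Normal.conj_mem inferInstance z hz k
    have he : k * z * k⁻¹ = z := by
      by_contra hne
      have hz1 : z ≠ 1 := fun h => hne (by rw [h]; group)
      have hk1 : k * z * k⁻¹ ≠ 1 := fun h => hz1 (conj_eq_one_iff.1 h)
      rcases hall ⟨_, hkz⟩ with e1 | e1 <;> rcases hall ⟨z, hz⟩ with e2 | e2 <;>
        rcases hall 1 with e3 | e3
      all_goals first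
        | exact hne (congrArg Subtype.val (e1.trans e2.symm))
        | exact hz1 (congrArg Subtype.val (e2.trans e3.symm))
        | exact hk1 (congrArg Subtype.val (e1.trans e3.symm))
    exact mul_inv_eq_iff_eq_mul.1 he
  have hcentle : Subgroup.center G ≤ commutator G := by
    intro z hz
    by_contra hno
    have h0 := vanish_off_commutator hu' hno
    have h1 := second_orth z z
    rw [if_pos (IsConj.refl z), card_conjClass_eq_index,
      Subgroup.index_eq_one.2 (Subgroup.centralizer_eq_top_iff_subset.2 (by simpa using hz)),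
      Nat.cast_one, div_one, ← Finset.add_sum_erase _ _ (Finset.mem_univ χ), h0, zero_mul,
      zero_add, Finset.sum_congr rfl (g := fun _ => (1 : ℂ)) (fun ψ hψ => by
        obtain ⟨l, hl⟩ := exists_hom_of_degree_one (irr_isCharacter ψ.2)
          ((hlin ψ).1 (Finset.ne_of_mem_erase hψ))
        rw [hl, ← char_inv (isCharacter_linear l), map_inv, ← Units.val_mul, mul_inv_cancel,
          Units.val_one]),
      Finset.sum_const, nsmul_one, hcount, Nat.cast_inj] at h1
    have h2 := (commutator G).card_mul_index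
    rw [hG2, h1] at h2
    have := Nat.card_pos (α := G)
    omega
  have hcom : commutator G = Subgroup.center G := le_antisymm hcent hcentle
  refine ⟨rfl, ⟨hG, ?_, hcom⟩, hcom ▸ hG2⟩
  refine le_antisymm ?_ (hcom ▸ Solv.commutator_le_frattini_pgroup hG)
  have hc : ∀ a b : G, ⁅a, b⁆ ∈ Subgroup.center G := fun a b =>
    hcom ▸ Subgroup.commutator_mem_commutator (Subgroup.mem_top a) (Subgroup.mem_top b)
  refine Solv.frattini_le (p := 2) (Subgroup.center G) hc fun g => Subgroup.mem_center_iff.2 fun x => ?_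
  have hz : ∀ k, k * ⁅g, x⁆ = ⁅g, x⁆ * k := fun k => Subgroup.mem_center_iff.1 (hc g x) k
  have hsq : ⁅g, x⁆ * ⁅g, x⁆ = 1 := by
    have h := pow_card_eq_one' (x := (⟨_, hcom.symm ▸ hc g x⟩ : commutator G))
    rw [hG2, pow_two] at h
    exact congrArg Subtype.val h
  have hgx : g * x = ⁅g, x⁆ * (x * g) := by rw [commutatorElement_def]; group
  calc x * g ^ 2 = ⁅g, x⁆ * ⁅g, x⁆ * (x * g * g) := by rw [hsq, one_mul, pow_two, mul_assoc]
    _ = ⁅g, x⁆ * (g * x * g) := by rw [hgx]; group
    _ = g * (⁅g, x⁆ * (x * g)) := by rw [← mul_assoc g, hz g]; group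
    _ = g ^ 2 * x := by rw [← hgx, ← mul_assoc, pow_two]

theorem unique_div_of_extraspecial (hE : IsExtraspecial 2 G) :
    Nat.card {χ : IrrCharacter G // 2 ∣ deg (χ : G → ℂ)} = 1 := by
  classical
  haveI : Fact (Nat.Prime 2) := ⟨Nat.prime_two⟩
  obtain ⟨⟨hG, -, hcom⟩, hZ⟩ := hE
  have hC2 : ∀ g : G, Nat.card (Subgroup.centralizer ({g} : Set G)) * 2 =
      if g ∈ Subgroup.center G then 2 * Nat.card G else Nat.card G := by
    intro g
    split_ifs with hg
    · rw [Subgroup.centralizer_eq_top_iff_subset.2 (by simpa using hg), Subgroup.card_top, mul_comm]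
    · rw [← card_conjClass_mul_centralizer g, mul_comm _ 2]
      congr 1
      have hle : Nat.card {x : G // IsConj g x} ≤ 2 := by
        rw [← hZ]
        have hmem : ∀ x : {x : G // IsConj g x}, x.1 * g⁻¹ ∈ Subgroup.center G := fun x => by
          obtain ⟨k, hk⟩ := isConj_iff.1 x.2
          rw [← hk, ← hcom]
          exact Subgroup.commutator_mem_commutator (Subgroup.mem_top k) (Subgroup.mem_top g)
        exact Nat.card_le_card_of_injective (fun x => (⟨_, hmem x⟩ : Subgroup.center G))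
          fun x y e => Subtype.ext (mul_right_cancel (congrArg Subtype.val e))
      have hne : Nat.card {x : G // IsConj g x} ≠ 1 := by
        rw [card_conjClass_eq_index, ne_eq, Subgroup.index_eq_one,
          Subgroup.centralizer_eq_top_iff_subset]
        simpa using hg
      have := card_conjClass_ne_zero g
      omega
  have hpairs : Nat.card {x : G × G // Commute x.1 x.2} =
      ∑ g : G, Nat.card (Subgroup.centralizer ({g} : Set G)) := by
    rw [← Nat.card_sigma]
    exact Nat.card_congr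
      { toFun := fun x => ⟨x.1.1, x.1.2, Subgroup.mem_centralizer_singleton_iff.2 x.2.symm⟩
        invFun := fun y => ⟨(y.1, y.2.1),
          (Subgroup.mem_centralizer_singleton_iff.1 y.2.2).symm⟩
        left_inv := fun _ => rfl
        right_inv := fun _ => rfl }
  rw [card_comm_eq_card_conjClasses_mul_card, ← card_irr] at hpairs
  have h2 : 2 * (Nat.card (IrrCharacter G) * Nat.card G) = Nat.card G * (Nat.card G + 2) := by
    rw [hpairs, Finset.mul_sum, Finset.sum_congr rfl
      (g := fun g => Nat.card G + if g ∈ Subgroup.center G then Nat.card G else 0) (fun g _ => by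
        rw [mul_comm, hC2 g]
        split_ifs <;> omega), Finset.sum_add_distrib, Finset.sum_const, smul_eq_mul,
      ← Finset.sum_filter, Finset.sum_const, smul_eq_mul, ← Fintype.card_subtype,
      ← Nat.card_eq_fintype_card, hZ, Finset.card_univ, ← Nat.card_eq_fintype_card]
    ring
  have h3 : 2 * Nat.card (IrrCharacter G) = Nat.card G + 2 :=
    Nat.eq_of_mul_eq_mul_left (Nat.card_pos (α := G)) (by rw [← h2]; ring)
  have h4 := (commutator G).card_mul_index
  rw [hcom, hZ] at h4; rw [← hcom] at h4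
  have hsplit : Nat.card (IrrCharacter G) = Nat.card {χ : IrrCharacter G // 2 ∣ deg (χ : G → ℂ)} +
      (commutator G).index := by
    rw [← card_linear, ← Nat.card_sum]
    refine (Nat.card_congr ((Equiv.sumCongr (Equiv.refl _) (Equiv.subtypeEquivRight fun χ => ?_)).trans
      (Equiv.sumCompl fun χ : IrrCharacter G => 2 ∣ deg (χ : G → ℂ)))).symm
    rw [char_one_eq_deg (irr_isCharacter χ.2), Nat.cast_eq_one]
    exact ⟨fun h => by rw [h]; norm_num, fun h => (deg_eq_one_or_dvd hG χ).resolve_right h⟩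
  omega

end Cfsg.Agent.Char
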