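import Cfsg.Agent.Lib.Char.StableCover
import Cfsg.Agent.Lib.Char.DefectLocal
import Cfsg.Agent.Lib.Char.UniqueDivDegree
import Cfsg.Agent.Lib.Char.Inflate
import Cfsg.Prelude.Def_BlockRank
import Mathlib

/-!
# Stable blocks of normal subgroups of p-power index below abelian defect groups
-/

set_option autoImplicit false
set_option linter.unusedSectionVars false

namespace Cfsg.Agent.Char

open Cfsg
open scoped ComplexConjugate commutatorElement

universe u

variable {G : Type u} [Group G] [Fintype G] {N : Subgroup G} [N.Normal] [Fintype N]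
  {M : Ideal AlgInt} {p : ℕ}

theorem sum_twist_inner [Fintype (G ⧸ N)] (hab : ∀ a b : G ⧸ N, a * b = b * a) (χ χ' : G → ℂ) :
    ∑ ψ : IrrCharacter (G ⧸ N), classInner χ (fun g => (ψ : G ⧸ N → ℂ) g * χ' g) =
      classInner (fun n : N => χ n) (fun n : N => χ' n) := by
  classical
  have hlin := forall_linear_iff_comm.1 hab
  have hreg : ∀ g : G, ∑ ψ : IrrCharacter (G ⧸ N), conj ((ψ : G ⧸ N → ℂ) g) =
      if g ∈ N then (Nat.card (G ⧸ N) : ℂ) else 0 := by
    intro g
    have h := congrArg conj (regular_sum (g : G ⧸ N))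
    rw [map_sum] at h
    simp only [hlin, one_mul] at h
    rw [h]
    simp only [QuotientGroup.eq_one_iff]
    split_ifs <;> simp
  simp only [classInner, map_mul]
  rw [← Finset.mul_sum, Finset.sum_comm]
  have h2 : ∀ g : G, ∑ ψ : IrrCharacter (G ⧸ N), χ g * (conj ((ψ : G ⧸ N → ℂ) g) * conj (χ' g)) =
      if g ∈ N then (Nat.card (G ⧸ N) : ℂ) * (χ g * conj (χ' g)) else 0 := fun g => by
    rw [← Finset.mul_sum, ← Finset.sum_mul, hreg]
    split_ifs <;> ring
  rw [Finset.sum_congr rfl fun g _ => h2 g, ← Finset.sum_filter, Finset.sum_subtype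
    (Finset.univ.filter fun g => g ∈ N) (p := fun g => g ∈ N) (F := inferInstance) (fun g => by simp),
    ← Finset.mul_sum, ← mul_assoc]
  congr 1
  rw [Subgroup.card_eq_card_quotient_mul_card_subgroup N, Nat.cast_mul, mul_inv,
    mul_comm (Nat.card (G ⧸ N) : ℂ)⁻¹, mul_assoc,
    inv_mul_cancel₀ (Nat.cast_ne_zero.2 Nat.card_pos.ne'), mul_one]

theorem stable_abelian_defect (hM : IsPModular p M) {k : ℕ} (hk : N.index = p ^ k)
    {b : Set (IrrCharacter N)} (hb : IsPBlock M b) (hst : ∀ x : G, StabilizesBlock N b x)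
    {B : Set (IrrCharacter G)} (hB : IsPBlock M B)
    (hcov : ∃ χ ∈ B, ∃ θ ∈ b, classInner (fun n : N => (χ : G → ℂ) n) (θ : N → ℂ) ≠ 0)
    {P : Subgroup G} (hPD : IsDefectGroup p M B P) (hPab : ∀ x ∈ P, ∀ y ∈ P, x * y = y * x) :
    N ⊔ P = ⊤ ∧ IsDefectGroup p M b ((P ⊓ N).subgroupOf N) ∧
      (∀ χ ∈ B, ∃ θ ∈ b, ∀ n : N, (χ : G → ℂ) n = (θ : N → ℂ) n) ∧
      (∀ θ ∈ b, Nat.card {χ : IrrCharacter G //
        χ ∈ B ∧ ∀ n : N, (χ : G → ℂ) n = (θ : N → ℂ) n} = N.index) ∧
      Nat.card B = N.index * Nat.card b ∧ blockRank p B = blockRank p b := by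
  classical
  have hMp := pmod_prime hM
  haveI := Fact.mk hM.1
  haveI := Fintype.ofFinite (G ⧸ N)
  -- identification of the covering block
  obtain ⟨B₀, hB₀, hB₀c⟩ := exists_block_of_stable hM hk hb hst
  have hinv := ginv_blockCoeff_of_stable hb hst hMp
  have hmem : ∀ (χ : IrrCharacter G) (θ : IrrCharacter N),
      classInner (fun n : N => (χ : G → ℂ) n) (θ : N → ℂ) ≠ 0 → (χ ∈ B₀ ↔ θ ∈ b) := by
    intro χ θ h
    have h1 := lam_extend_of_constituent h hinv
    rw [← subgroupBlockCoeff_eq, ← show blockCoeff B₀ = subgroupBlockCoeff N b from funext hB₀c,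
      lam_blockCoeff, lam_blockCoeff] at h1
    by_cases h2 : χ ∈ B₀ <;> by_cases h3 : θ ∈ b <;> simp [h2, h3] at h1 ⊢
  obtain ⟨χc, hχc, θc, hθc, hc⟩ := hcov
  have hBB : B = B₀ := block_disjoint hMp hB hB₀ hχc ((hmem χc θc hc).2 hθc)
  subst hBB
  obtain ⟨htop, hDb⟩ := defect_of_stable hM hk hb hst hB hB₀c hPD
  have hcomN : ∀ a c : G, ⁅a, c⁆ ∈ N := by
    intro a c
    rw [← QuotientGroup.eq_one_iff, ← QuotientGroup.mk'_apply, map_commutatorElement,
      commutatorElement_eq_one_iff_mul_comm]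
    have hsur : ∀ g : G, ∃ x ∈ P, QuotientGroup.mk' N g = QuotientGroup.mk' N x := by
      intro g
      have : g ∈ ((N ⊔ P : Subgroup G) : Set G) := htop ▸ Subgroup.mem_top g
      rw [Subgroup.normal_mul] at this
      obtain ⟨n, hn, x, hx, rfl⟩ := Set.mem_mul.1 this
      exact ⟨x, hx, by rw [map_mul, QuotientGroup.mk'_apply N n, (QuotientGroup.eq_one_iff n).2 hn,
        one_mul]⟩
    obtain ⟨x, hx, e⟩ := hsur a
    obtain ⟨y, hy, e'⟩ := hsur c
    rw [e, e', ← map_mul, ← map_mul, hPab x hx y hy]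
  have hab : ∀ a c : G ⧸ N, a * c = c * a := by
    intro a c
    induction a using QuotientGroup.induction_on with | _ a
    induction c using QuotientGroup.induction_on with | _ c
    rw [← commutatorElement_eq_one_iff_mul_comm, ← QuotientGroup.mk'_apply, ← QuotientGroup.mk'_apply,
      ← map_commutatorElement, QuotientGroup.mk'_apply, QuotientGroup.eq_one_iff]
    exact hcomN a c
  -- the defect class lies in `N`
  obtain ⟨y, hy, hPy⟩ := (isDefectGroup_iff B P).1 hPD
  have hyN : y ∈ N := by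
    by_contra hn
    refine hy.2.1 ?_
    rw [hB₀c, subgroupBlockCoeff_eq, extendByZero_not_mem _ _ hn]
    exact memLI_zero hMp
  -- no nontrivial twist fixes a character of the block
  have hfix : ∀ χ ∈ B, ∀ l : G →* ℂˣ, (∀ n : N, l n = 1) →
      (∀ g : G, (l g : ℂ) * (χ : G → ℂ) g = (χ : G → ℂ) g) → l = 1 := by
    intro χ hχ l hlN hl
    have hker : N ⊔ P ≤ l.ker := sup_le (fun n hn => hlN ⟨n, hn⟩) fun x hx => by
      have hne : (χ : G → ℂ) (x * y) ≠ 0 := by
        intro h0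
        refine omega_unit_at_central_section hM hB hy hPy hx (fun w hw => hPab x hx w hw) hχ ?_
        rw [omega, h0, mul_zero, zero_div]
        exact memLI_zero hMp
      have h1 := hl (x * y)
      have h2 : ((l (x * y) : ℂ) - 1) * (χ : G → ℂ) (x * y) = 0 := by linear_combination h1
      have h3 : l (x * y) = 1 := Units.ext (sub_eq_zero.1 ((mul_eq_zero.1 h2).resolve_right hne))
      rw [map_mul, hlN ⟨y, hyN⟩, mul_one] at h3
      exact h3
    rw [htop] at hker
    exact MonoidHom.ext fun g => hker (Subgroup.mem_top g)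
  have hhom : ∀ ψ : IrrCharacter (G ⧸ N), ∃ l : G →* ℂˣ, (∀ n : N, l n = 1) ∧
      ∀ g : G, (ψ : G ⧸ N → ℂ) g = (l g : ℂ) := by
    intro ψ
    obtain ⟨l, hl⟩ := exists_hom_of_degree_one (irr_isCharacter ψ.2) (forall_linear_iff_comm.1 hab ψ)
    exact ⟨l.comp (QuotientGroup.mk' N), fun n => by
      simp [(QuotientGroup.eq_one_iff (n : G)).2 n.2], fun g => by rw [hl]; rfl⟩
  let tw : IrrCharacter (G ⧸ N) → IrrCharacter G → IrrCharacter G := fun ψ χ =>
    ⟨fun g => (ψ : G ⧸ N → ℂ) g * (χ : G → ℂ) g, by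
      obtain ⟨l, -, hl⟩ := hhom ψ
      simp only [hl]
      exact isIrr_linear_smul l χ⟩
  have htwN : ∀ ψ χ (n : N), (tw ψ χ : G → ℂ) n = (χ : G → ℂ) n := fun ψ χ n => by
    show (ψ : G ⧸ N → ℂ) _ * _ = _
    rw [(QuotientGroup.eq_one_iff (n : G)).2 n.2, forall_linear_iff_comm.1 hab ψ, one_mul]
  have htw_inj : ∀ χ ∈ B, Function.Injective fun ψ => tw ψ χ := by
    intro χ hχ ψ ψ' e
    obtain ⟨l, hlN, hl⟩ := hhom ψ
    obtain ⟨l', hlN', hl'⟩ := hhom ψ'
    have h1 : l' * l⁻¹ = 1 := by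
      refine hfix χ hχ _ (fun n => by simp [hlN, hlN']) fun g => ?_
      have h2 := congrFun (congrArg Subtype.val e) g
      change (ψ : G ⧸ N → ℂ) g * _ = (ψ' : G ⧸ N → ℂ) g * _ at h2
      rw [hl, hl'] at h2
      rw [MonoidHom.mul_apply, MonoidHom.inv_apply, Units.val_mul,
        show ((l' g : ℂ) * ((l g)⁻¹ : ℂˣ) * (χ : G → ℂ) g) =
          ((l g)⁻¹ : ℂˣ) * ((l' g : ℂ) * (χ : G → ℂ) g) by ring, ← h2, ← mul_assoc,
        ← Units.val_mul, inv_mul_cancel, Units.val_one, one_mul]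
    have h1 : ∀ g, l' g = l g := fun g =>
      mul_inv_eq_one.1 (by simpa using DFunLike.congr_fun h1 g)
    refine Subtype.ext (funext fun q => ?_)
    obtain ⟨g, rfl⟩ := QuotientGroup.mk_surjective q
    rw [hl, hl', h1 g]
  -- restrictions are irreducible
  have hres : ∀ χ ∈ B, ∃ θ ∈ b, ∀ n : N, (χ : G → ℂ) n = (θ : N → ℂ) n := by
    intro χ hχ
    have h := sum_twist_inner hab (χ : G → ℂ) (χ : G → ℂ)
    let one : IrrCharacter (G ⧸ N) := ⟨_, isIrrCharacter_one⟩
    have htw1 : tw one χ = χ := Subtype.ext (funext fun g => one_mul _)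
    rw [Finset.sum_congr rfl (g := fun ψ => if ψ = one then (1 : ℂ) else 0) (fun ψ _ => by
      show classInner (χ : G → ℂ) (tw ψ χ : G → ℂ) = _
      rw [irrC_orth]
      by_cases hψ : ψ = one
      · rw [if_pos hψ, if_pos (by rw [hψ, htw1])]
      · rw [if_neg hψ, if_neg (fun e => hψ (htw_inj χ hχ (e.symm.trans htw1.symm)))]),
      Finset.sum_ite_eq' Finset.univ one, if_pos (Finset.mem_univ _)] at h
    have hirr : IsIrrCharacter N (fun n : N => (χ : G → ℂ) n) :=
      isIrr_of_norm_one (isCharacter_comp N.subtype (irr_isCharacter χ.2)) h.symm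
    refine ⟨⟨_, hirr⟩, (hmem χ ⟨_, hirr⟩ ?_).1 hχ, fun n => rfl⟩
    rw [irr_self hirr]
    exact one_ne_zero
  have hover : ∀ θ ∈ b, ∃ χ ∈ B, ∀ n : N, (χ : G → ℂ) n = (θ : N → ℂ) n := by
    intro θ hθ
    obtain ⟨χ, hχ⟩ := exists_constituent_over N θ
    have hχB := (hmem χ θ hχ).2 hθ
    obtain ⟨θ', -, hθ'⟩ := hres χ hχB
    refine ⟨χ, hχB, fun n => ?_⟩
    rw [show (fun n : N => (χ : G → ℂ) n) = (θ' : N → ℂ) from funext hθ', irrC_orth] at hχ
    rw [hθ']
    by_cases e : θ' = θ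
    · rw [e]
    · rw [if_neg e] at hχ
      exact absurd rfl hχ
  have hQ : Nat.card (IrrCharacter (G ⧸ N)) = N.index := by
    have h := sum_sq_deg (G := G ⧸ N)
    simp only [forall_linear_iff_comm.1 hab, one_pow, Finset.sum_const, nsmul_one, Nat.cast_inj,
      Finset.card_univ] at h
    rw [Nat.card_eq_fintype_card, h, Subgroup.index_eq_card]
  have hcount : ∀ θ ∈ b, Nat.card {χ : IrrCharacter G //
      χ ∈ B ∧ ∀ n : N, (χ : G → ℂ) n = (θ : N → ℂ) n} = N.index := by
    intro θ hθ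
    obtain ⟨χ₀, hχ₀, hχ₀θ⟩ := hover θ hθ
    rw [← hQ]
    refine (Nat.card_congr (Equiv.ofBijective (fun ψ => (⟨tw ψ χ₀, ?_, fun n => ?_⟩ :
      {χ : IrrCharacter G // χ ∈ B ∧ ∀ n : N, (χ : G → ℂ) n = (θ : N → ℂ) n}))
      ⟨fun a c e => htw_inj χ₀ hχ₀ (congrArg Subtype.val e), fun χ => ?_⟩)).symm
    · refine (hmem _ θ ?_).2 hθ
      simp only [htwN, hχ₀θ]
      rw [irr_self θ.2]
      exact one_ne_zero
    · rw [htwN, hχ₀θ]
    · have h := sum_twist_inner hab (χ.1 : G → ℂ) (χ₀ : G → ℂ)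
      have h1 : classInner (fun n : N => (χ.1 : G → ℂ) n) (fun n : N => (χ₀ : G → ℂ) n) = 1 := by
        simp only [χ.2.2, hχ₀θ]
        exact irr_self θ.2
      rw [h1] at h
      obtain ⟨ψ, -, hψ⟩ := Finset.exists_ne_zero_of_sum_ne_zero (h ▸ one_ne_zero)
      refine ⟨ψ, Subtype.ext ?_⟩
      change classInner (χ.1 : G → ℂ) (tw ψ χ₀ : G → ℂ) ≠ 0 at hψ
      rw [irrC_orth] at hψ
      by_contra hne
      exact hψ (if_neg fun e => hne e.symm)
  have hcard : Nat.card B = N.index * Nat.card b := by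
    haveI := Fintype.ofFinite b
    choose f hf hfn using hres
    let e : B ≃ Σ θ : b, {χ : IrrCharacter G // χ ∈ B ∧ ∀ n : N, (χ : G → ℂ) n = (θ.1 : N → ℂ) n} :=
      { toFun := fun χ => ⟨⟨f χ χ.2, hf χ χ.2⟩, χ, χ.2, hfn χ χ.2⟩
        invFun := fun q => ⟨q.2.1, q.2.2.1⟩
        left_inv := fun χ => rfl
        right_inv := by
          rintro ⟨⟨θ, hθ⟩, χ, hχ, hn⟩
          obtain rfl : f χ hχ = θ := Subtype.ext (funext fun n => (hfn χ hχ n).symm.trans (hn n))
          rfl }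
    rw [Nat.card_congr e, Nat.card_sigma, Finset.sum_congr rfl (fun θ _ => hcount θ.1 θ.2),
      Finset.sum_const, smul_eq_mul, Finset.card_univ, ← Nat.card_eq_fintype_card, mul_comm]
  refine ⟨htop, hDb, hres, hcount, hcard, ?_⟩
  -- the ranks
  have hregN : ∀ g : G, ¬ p ∣ orderOf g → g ∈ N := by
    intro g hg
    rw [← QuotientGroup.eq_one_iff, ← orderOf_eq_one_iff]
    refine Nat.eq_one_of_dvd_coprimes ((hM.1.coprime_iff_not_dvd.2 hg).pow_left k) ?_
      (orderOf_map_dvd (QuotientGroup.mk' N) g)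
    rw [← hk, Subgroup.index_eq_card]
    exact orderOf_dvd_natCard _
  let L : (N → ℂ) →ₗ[ℂ] (G → ℂ) :=
    { toFun := fun f => extendByZero N f
      map_add' := fun f f' => funext fun g => by
        by_cases hg : g ∈ N
        · simp [extendByZero_mem N _ hg]
        · simp [extendByZero_not_mem N _ hg]
      map_smul' := fun r f => funext fun g => by
        by_cases hg : g ∈ N
        · simp [extendByZero_mem N _ hg]
        · simp [extendByZero_not_mem N _ hg] }
  have hLinj : Function.Injective L := fun f f' e => funext fun n => by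
    have h := congrFun e (n : G)
    change extendByZero N f n = extendByZero N f' n at h
    rwa [extendByZero_mem N _ n.2, extendByZero_mem N _ n.2] at h
  have hL : ∀ (χ : IrrCharacter G) (θ : IrrCharacter N), (∀ n : N, (χ : G → ℂ) n = (θ : N → ℂ) n) →
      L (pRegularPart p (θ : N → ℂ)) = pRegularPart p (χ : G → ℂ) := by
    intro χ θ h
    funext g
    show extendByZero N _ g = _
    by_cases hg : g ∈ N
    · rw [extendByZero_mem N _ hg]
      by_cases hr : IsPRegular p g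
      · have hr' : IsPRegular p (⟨g, hg⟩ : N) := by simpa [IsPRegular] using hr
        simp [pRegularPart, hr, hr', ← h]
      · have hr' : ¬ IsPRegular p (⟨g, hg⟩ : N) := by simpa [IsPRegular] using hr
        simp [pRegularPart, hr, hr']
    · rw [extendByZero_not_mem N _ hg]
      have hr : ¬ IsPRegular p g := fun hr => hg (hregN g hr)
      simp [pRegularPart, hr]
  have himg : (fun χ : IrrCharacter G => pRegularPart p (χ : G → ℂ)) '' B =
      L '' ((fun θ : IrrCharacter N => pRegularPart p (θ : N → ℂ)) '' b) := by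
    ext f
    constructor
    · rintro ⟨χ, hχ, rfl⟩
      obtain ⟨θ, hθ, hn⟩ := hres χ hχ
      exact ⟨_, ⟨θ, hθ, rfl⟩, hL χ θ hn⟩
    · rintro ⟨_, ⟨θ, hθ, rfl⟩, rfl⟩
      obtain ⟨χ, hχ, hn⟩ := hover θ hθ
      exact ⟨χ, hχ, (hL χ θ hn).symm⟩
  rw [blockRank, blockRank, himg, Submodule.span_image]
  exact (Submodule.equivMapOfInjective L hLinj _).finrank_eq.symm

end Cfsg.Agent.Char
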