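import Cfsg.Agent.Lib.Char.Q8Central

/-!
# The columns of the principal block at an involution: quaternion Sylow subgroups of order eight
-/

set_option autoImplicit false
set_option linter.unusedSectionVars false
set_option linter.style.haveILetI false

namespace Cfsg.Agent.Char

open Cfsg
open scoped ComplexConjugate

universe u

variable {G : Type u} [Group G] [Fintype G] {M : Ideal AlgInt} {p : ℕ} {x : G}

open scoped Classical in
/-- A principal block character on a section only sees the principal block of the centralizer. -/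
theorem secFun_eq_principal (hM : IsPModular p M) (hx : ∃ k : ℕ, orderOf x = p ^ k)
    [Fintype (Subgroup.centralizer ({x} : Set G))] (χ : IrrCharacter G)
    (hχ : χ ∈ principalBlock M G) (w : Subgroup.centralizer ({x} : Set G)) (hw : ¬ p ∣ orderOf w) :
    secFun x (χ : G → ℂ) w =
      blockPart (principalBlock M (Subgroup.centralizer ({x} : Set G))) (secFun x (χ : G → ℂ)) w := by
  classical
  have hP := pmod_prime hM
  have hcf := isClassFunction_secFun (x := x) (isClassFunction_character (irr_isCharacter χ.2))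
  rw [eq_sum_blockPart hP hcf w]
  refine Finset.sum_eq_single _ (fun b hb hne => ?_) (fun h => ?_)
  · obtain ⟨ξ, -, rfl⟩ := Finset.mem_image.mp hb
    refine blockPart_secFun_eq_zero hM hx (isPBlock_principalBlock M) χ hχ
      (isPBlock_blockOf M ξ) (fun hind => hne ?_) w hw
    exact (third_main hM hind).mp rfl
  · obtain ⟨ξ, hξ⟩ := block_nonempty hP
      (isPBlock_principalBlock (G := Subgroup.centralizer ({x} : Set G)) M)
    exact absurd (Finset.mem_image.mpr ⟨ξ, Finset.mem_univ _,
      (block_eq_blockOf hP (isPBlock_principalBlock M) hξ).symm⟩) h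

/-- The centralizer of the involution. -/
abbrev q8C (x : G) : Subgroup G := Subgroup.centralizer ({x * x} : Set G)

/-- The element of order four inside it. -/
abbrev q8x (x : G) : q8C x :=
  ⟨x, Subgroup.mem_centralizer_singleton_iff.mpr (by group)⟩

theorem Q8Fus.local_hyp (h : Q8Fus x) : Q8Fus (q8x x) := h.centralizer _

omit [Fintype G] in
theorem q8x_central (x : G) : ∀ g : q8C x, q8x x * q8x x * g = g * (q8x x * q8x x) :=
  fun g => Subtype.ext (Subgroup.mem_centralizer_singleton_iff.mp g.2).symm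

variable [Fintype (q8C x)]

/-- The twisted pairing of a character of the group with a local function. -/
noncomputable def q8W (x : G) [Fintype (q8C x)] (χ : IrrCharacter G) (j : IrrCharacter (q8C x)) : ℂ :=
  einner 2 (fun c : q8C x => (χ : G → ℂ) ((q8x x * q8x x * c : q8C x) : G)) (q8zeta (q8x x) j)

theorem Q8Fus.q8W_int (h : Q8Fus x) (hM : IsPModular 2 M) (χ : IrrCharacter G)
    (hχ : χ ∈ principalBlock M G) {j : IrrCharacter (q8C x)} (hj : j ∈ q8three M (q8x x)) :
    ∃ r : ℤ, 4 * q8W x χ j = r ∧ (2 : ℤ) ∣ r - q8u x χ := by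
  refine h.local_hyp.pairing_int hM (q8x_central x) hj
    (φ := fun c : q8C x => (χ : G → ℂ) (c : G))
    (isCharacter_comp (q8C x).subtype (irr_isCharacter χ.2)) (q8u x χ) ?_
  rintro g ⟨c, w, hcw, hxw, hw⟩
  rw [← isClassFunction_character (irr_isCharacter χ.2) (g : G) (c : G)]
  have e : (c : G) * g * (c : G)⁻¹ = x * (w : G) := congrArg Subtype.val hcw
  rw [e, h.q8u_spec]
  exact h.section_const hM χ hχ (congrArg Subtype.val hxw.eq) (by rwa [Subgroup.orderOf_coe])

/-- The integer column entries. -/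
noncomputable def q8r (x : G) [Fintype (q8C x)] (χ : IrrCharacter G) (j : IrrCharacter (q8C x)) : ℤ :=
  ⌊(4 * q8W x χ j).re⌋

theorem Q8Fus.q8r_spec (h : Q8Fus x) (hM : IsPModular 2 M) (χ : IrrCharacter G)
    (hχ : χ ∈ principalBlock M G) {j : IrrCharacter (q8C x)} (hj : j ∈ q8three M (q8x x)) :
    (q8r x χ j : ℂ) = 4 * q8W x χ j ∧ (2 : ℤ) ∣ q8r x χ j - q8u x χ := by
  obtain ⟨r, hr, hr2⟩ := h.q8W_int hM χ hχ hj
  have e : q8r x χ j = r := by rw [q8r, hr, Complex.intCast_re, Int.floor_intCast]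
  exact ⟨by rw [e, hr], e ▸ hr2⟩

theorem Q8Fus.q8r_one (h : Q8Fus x) (hM : IsPModular 2 M) {j : IrrCharacter (q8C x)}
    (hj : j ∈ q8three M (q8x x)) : q8r x (irrOne : IrrCharacter G) j = 1 := by
  classical
  have hL := h.local_hyp
  obtain ⟨hj1, hjf⟩ := mem_q8three.mp hj
  have h1 := (h.q8r_spec hM irrOne (irrOne_mem (pmod_prime hM)) hj).1
  have e : q8W x (irrOne : IrrCharacter G) j = 1 / 4 := by
    rw [q8W, show (fun c : q8C x => ((irrOne : IrrCharacter G) : G → ℂ)
        ((q8x x * q8x x * c : q8C x) : G)) = ((irrOne : IrrCharacter (q8C x)) : q8C x → ℂ) from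
      funext fun c => by rw [irrOne_apply, irrOne_apply]]
    rw [q8zeta_eq, einner_add_right, einner_smul_right, map_intCast,
      hL.four_inner hM (q8x_central x) (hL.irrOne_mem_four hM) (hL.irrOne_mem_four hM),
      hL.four_inner hM (q8x_central x) (hL.irrOne_mem_four hM) hjf, if_pos rfl, if_neg hj1.symm,
      hL.q8u_one]
    push_cast
    linear_combination (-1 / 8 : ℂ) * hL.four_sq_x hM hjf
  rw [e] at h1
  norm_num at h1
  exact_mod_cast h1

/-- The values on the section of the involution. -/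
theorem Q8Fus.value_t (h : Q8Fus x) (hM : IsPModular 2 M) (χ : IrrCharacter G)
    (hχ : χ ∈ principalBlock M G) (y : q8C x) (hy : ¬ 2 ∣ orderOf y) :
    (χ : G → ℂ) (x * x * (y : G)) =
      ∑ i ∈ q8three M (q8x x), 2 * q8W x χ i * q8zeta (q8x x) i y := by
  classical
  have hL := h.local_hyp
  have hc := q8x_central x
  have ht : ∃ k : ℕ, orderOf (x * x) = 2 ^ k := ⟨1, by rw [h.orderOf_sq, pow_one]⟩
  set b := principalBlock M (q8C x)
  set a : IrrCharacter (q8C x) → ℂ := fun ξ =>
    classInner (secFun (x * x) (χ : G → ℂ)) (ξ : q8C x → ℂ)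
  set K : IrrCharacter (q8C x) → ℂ := fun i =>
    ∑ ξ : IrrCharacter (q8C x) with ξ ∈ b, a ξ * (2 * einner 2 (ξ : q8C x → ℂ) (q8zeta (q8x x) i))
  have hexp : ∀ g : q8C x, ¬ 2 ∣ orderOf g →
      (χ : G → ℂ) (x * x * (g : G)) = ∑ i ∈ q8three M (q8x x), K i * q8zeta (q8x x) i g := by
    intro g hg
    have e := secFun_eq_principal hM ht χ hχ g hg
    rw [blockPart_eq] at e
    refine e.trans ?_
    simp only [K, Finset.sum_mul]
    rw [Finset.sum_comm]
    refine Finset.sum_congr rfl fun ξ hξ => ?_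
    rw [hL.span_regular hM hc ξ (Finset.mem_filter.mp hξ).2 hg, Finset.mul_sum]
    exact Finset.sum_congr rfl fun i _ => by ring
  rw [hexp y hy]
  refine Finset.sum_congr rfl fun i hi => ?_
  congr 1
  have e : q8W x χ i = K i * (1 / 2) := by
    calc q8W x χ i = einner 2 (∑ l ∈ q8three M (q8x x), K l • q8zeta (q8x x) l) (q8zeta (q8x x) i) := by
          rw [q8W, einner_eq_sum, einner_eq_sum]
          congr 1
          refine Finset.sum_congr rfl fun g hg => ?_
          congr 1
          rw [Finset.sum_apply]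
          exact hexp g (Finset.mem_filter.mp hg).2
      _ = ∑ l ∈ q8three M (q8x x), K l * einner 2 (q8zeta (q8x x) l) (q8zeta (q8x x) i) := by
          simp only [einner, Finset.sum_mul, classInner_sum_left, smul_mul_assoc, classInner_smul_left]
      _ = K i * (1 / 2) := by
          rw [Finset.sum_eq_single i]
          · rw [hL.zeta_inner hM hc hi hi, if_pos rfl]
          · intro l hl hli
            rw [hL.zeta_inner hM hc hl hi, if_neg hli, mul_zero]
          · exact fun hn => absurd hi hn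
  rw [e]
  ring

theorem Q8Fus.W_real (h : Q8Fus x) (hM : IsPModular 2 M) (χ : IrrCharacter G)
    (hχ : χ ∈ principalBlock M G) {j : IrrCharacter (q8C x)} (hj : j ∈ q8three M (q8x x)) :
    conj (q8W x χ j) = q8W x χ j := by
  have e := (h.q8r_spec hM χ hχ hj).1
  have : q8W x χ j = (q8r x χ j : ℂ) / 4 := by rw [e]; ring
  rw [this, map_div₀, map_intCast, map_ofNat]

omit [Fintype (q8C x)] in
theorem Q8Fus.ppart_t (h : Q8Fus x) (y : q8C x) (hy : ¬ 2 ∣ orderOf y) :
    IsPPart 2 (x * x * (y : G)) (x * x) :=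
  ⟨(y : G), rfl, (Subgroup.mem_centralizer_singleton_iff.mp y.2).symm,
    ⟨1, by rw [h.orderOf_sq, pow_one]⟩, by rwa [Subgroup.orderOf_coe]⟩

omit [Fintype (q8C x)] in
theorem Q8Fus.not_conj_t_x (h : Q8Fus x) : ¬ IsConj (x * x) x := fun hh => by
  obtain ⟨c, hc⟩ := isConj_iff.mp hh
  have := congrArg orderOf hc
  rw [← MulAut.conj_apply, MulEquiv.orderOf_eq, h.orderOf_sq, h.ord] at this
  norm_num at this

open scoped Classical in
/-- A column paired with the involution section. -/
theorem Q8Fus.sum_r_col (h : Q8Fus x) (hM : IsPModular 2 M) {j : IrrCharacter (q8C x)}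
    (hj : j ∈ q8three M (q8x x)) {g z : G} (hg : IsPPart 2 g z) (hz : ¬ IsConj z (x * x)) :
    ∑ χ : IrrCharacter G with χ ∈ principalBlock M G, (q8r x χ j : ℂ) * (χ : G → ℂ) g = 0 := by
  have e : ∀ χ : IrrCharacter G, χ ∈ principalBlock M G → (q8r x χ j : ℂ) * (χ : G → ℂ) g =
      (4 * (Nat.card (q8C x) : ℂ)⁻¹) * ∑ c : q8C x with ¬ 2 ∣ orderOf c,
        q8zeta (q8x x) j c * (conj ((χ : G → ℂ) (x * x * (c : G))) * (χ : G → ℂ) g) := by
    intro χ hχ
    rw [(h.q8r_spec hM χ hχ hj).1, ← h.W_real hM χ hχ hj, q8W, einner_eq_sum, map_mul, map_inv₀,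
      map_natCast, map_sum]
    rw [Finset.mul_sum, Finset.mul_sum, Finset.mul_sum, Finset.sum_mul]
    refine Finset.sum_congr rfl fun c _ => ?_
    rw [map_mul, Complex.conj_conj]
    simp only [Subgroup.coe_mul]
    ring
  rw [Finset.sum_congr rfl fun χ hχ => e χ (Finset.mem_filter.mp hχ).2, ← Finset.mul_sum,
    Finset.sum_comm, Finset.sum_eq_zero, mul_zero]
  intro c hc
  rw [← Finset.mul_sum, sum_block_column_orth hM (isPBlock_principalBlock (G := G) M) hg
    (h.ppart_t c (Finset.mem_filter.mp hc).2) hz, mul_zero]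

open scoped Classical in
theorem Q8Fus.sum_u_r (h : Q8Fus x) (hM : IsPModular 2 M) {j : IrrCharacter (q8C x)}
    (hj : j ∈ q8three M (q8x x)) :
    ∑ χ : IrrCharacter G with χ ∈ principalBlock M G, (q8u x χ : ℂ) * (q8r x χ j : ℂ) = 0 := by
  have hx : IsPPart 2 x x := ⟨1, mul_one x, Commute.one_right x, h.ppower, by simp⟩
  rw [← h.sum_r_col hM hj hx (fun hh => h.not_conj_t_x hh.symm)]
  exact Finset.sum_congr rfl fun χ _ => by rw [h.q8u_spec, mul_comm]

open scoped Classical in
theorem Q8Fus.sum_r_r (h : Q8Fus x) (hM : IsPModular 2 M) {i j : IrrCharacter (q8C x)}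
    (hi : i ∈ q8three M (q8x x)) (hj : j ∈ q8three M (q8x x)) :
    ∑ χ : IrrCharacter G with χ ∈ principalBlock M G, q8r x χ i * q8r x χ j =
      if i = j then 8 else 0 := by
  have hL := h.local_hyp
  have hc := q8x_central x
  have ht : ∃ k : ℕ, orderOf (x * x) = 2 ^ k := ⟨1, by rw [h.orderOf_sq, pow_one]⟩
  set B := Finset.univ.filter fun χ : IrrCharacter G => χ ∈ principalBlock M G
  set b := Finset.univ.filter fun ξ : IrrCharacter (q8C x) => ξ ∈ principalBlock M (q8C x)
  set R := Finset.univ.filter fun c : q8C x => ¬ 2 ∣ orderOf c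
  set N := (Nat.card (q8C x) : ℂ)⁻¹
  have hW : ∀ χ ∈ B, ∀ l ∈ q8three M (q8x x), q8W x χ l =
      N * ∑ c ∈ R, (χ : G → ℂ) (x * x * (c : G)) * conj (q8zeta (q8x x) l c) := by
    intro χ _ l _
    rw [q8W, einner_eq_sum]
    rfl
  have hcol : ∀ c ∈ R, ∀ d ∈ R,
      ∑ χ ∈ B, conj ((χ : G → ℂ) (x * x * (c : G))) * (χ : G → ℂ) (x * x * (d : G)) =
        ∑ ξ ∈ b, conj ((ξ : q8C x → ℂ) c) * (ξ : q8C x → ℂ) d := by
    intro c hc' d hd
    rw [sum_block_section_orth hM ht (isPBlock_principalBlock M) c d (Finset.mem_filter.mp hc').2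
      (Finset.mem_filter.mp hd).2, principal_section_filter hM ht, Finset.sum_singleton]
  have key : ∑ χ ∈ B, conj (q8W x χ i) * q8W x χ j =
      ∑ ξ ∈ b, conj (einner 2 (ξ : q8C x → ℂ) (q8zeta (q8x x) i)) *
        einner 2 (ξ : q8C x → ℂ) (q8zeta (q8x x) j) := by
    rw [Finset.sum_congr rfl fun χ hχ => by rw [hW χ hχ i hi, hW χ hχ j hj]]
    simp only [einner_eq_sum, map_mul, map_inv₀, map_natCast, map_sum, Finset.sum_mul, Finset.mul_sum,
      Complex.conj_conj, N]
    rw [Finset.sum_comm]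
    conv_rhs => rw [Finset.sum_comm]
    refine Finset.sum_congr rfl fun c hc' => ?_
    rw [Finset.sum_comm]
    conv_rhs => rw [Finset.sum_comm]
    refine Finset.sum_congr rfl fun d hd => ?_
    have e := congrArg (fun w => ((Nat.card (q8C x) : ℂ)⁻¹ * (Nat.card (q8C x) : ℂ)⁻¹ *
      (q8zeta (q8x x) i d * conj (q8zeta (q8x x) j c))) * w) (hcol d hd c hc')
    simp only [Finset.mul_sum] at e
    refine Eq.trans (Finset.sum_congr rfl fun χ _ => ?_) (e.trans (Finset.sum_congr rfl fun ξ _ => ?_))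
      <;> ring
  have hpars : ∑ ξ ∈ b, conj (einner 2 (ξ : q8C x → ℂ) (q8zeta (q8x x) i)) *
      einner 2 (ξ : q8C x → ℂ) (q8zeta (q8x x) j) =
      einner 2 (q8zeta (q8x x) i) (q8zeta (q8x x) j) := by
    have hexp : q8zeta (q8x x) i * regInd 2 = ∑ ξ : IrrCharacter (q8C x),
        einner 2 (q8zeta (q8x x) i) (ξ : q8C x → ℂ) • (ξ : q8C x → ℂ) :=
      classFun_expansion fun a k => by
        simp only [Pi.mul_apply, q8zeta, isClassFunction_character (irr_isCharacter i.2) a k,
          isClassFunction_regInd 2 a k]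
    rw [einner_eq (q8zeta (q8x x) i)]
    conv_rhs => rw [hexp]
    rw [classInner_sum_left]
    refine (Finset.sum_congr rfl fun ξ _ => ?_).trans
      (Finset.sum_subset (Finset.subset_univ b) fun ξ _ hξ => ?_)
    · rw [classInner_smul_left, ← classInner_regInd_swap, ← einner, einner_conj]
    · have hi' := (mem_q8four.mp (mem_q8three.mp hi).2).1
      have hξ' : ¬ SameBlock M ((irrOne : IrrCharacter (q8C x)) : q8C x → ℂ) (ξ : q8C x → ℂ) :=
        fun hh => hξ (Finset.mem_filter.mpr ⟨Finset.mem_univ _, hh⟩)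
      have hP := pmod_prime hM
      rw [classInner_smul_left, q8zeta_eq, einner_add_left, einner_smul_left,
        einner_eq_zero_of_not_sameBlock hM irrOne ξ hξ',
        einner_eq_zero_of_not_sameBlock hM i ξ (fun hh => hξ' (sameBlock_trans hP hi' hh)),
        mul_zero, add_zero, zero_mul]
  have hz := hL.zeta_inner hM hc hi hj
  rw [← key] at hpars
  rw [hz] at hpars
  have hcast : ((∑ χ ∈ B, q8r x χ i * q8r x χ j : ℤ) : ℂ) = ((if i = j then 8 else 0 : ℤ) : ℂ) := by
    rw [Int.cast_sum]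
    rw [Finset.sum_congr rfl (g := fun χ => 16 * (conj (q8W x χ i) * q8W x χ j)) fun χ hχ => by
      have hχ' := (Finset.mem_filter.mp hχ).2
      rw [Int.cast_mul, (h.q8r_spec hM χ hχ' hi).1, (h.q8r_spec hM χ hχ' hj).1, h.W_real hM χ hχ' hi]
      ring]
    rw [← Finset.mul_sum, hpars]
    split_ifs <;> norm_num
  exact_mod_cast hcast

end Cfsg.Agent.Char
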