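import Cfsg.Agent.Lib.Char.Indicator
import Cfsg.Agent.Lib.Char.IndValue
import Cfsg.Agent.Lib.Char.Inflate

/-!
# Counting square roots and real constituents of permutation characters
-/

set_option autoImplicit false
set_option linter.unusedSectionVars false
set_option linter.style.haveILetI false

namespace Cfsg.Agent.Char

open Cfsg
open scoped ComplexConjugate

universe u

variable {G : Type u} [Group G] [Fintype G]

theorem indicator2_conj {χ : G → ℂ} (hχ : IsIrrCharacter G χ) :
    conj (indicator2 χ) = indicator2 χ := by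
  rcases (indicator_trichotomy hχ).1 with h | h | h <;> rw [h] <;> simp

theorem indicator_real {χ : G → ℂ} (hχ : IsIrrCharacter G χ) (h : indicator2 χ ≠ 0) (g : G) :
    (χ g).im = 0 := by
  by_contra hg
  exact h ((indicator_trichotomy hχ).2.mpr ⟨g, hg⟩)

open scoped Classical in
/-- The number of square roots of an element as a combination of characters. -/
theorem sum_indicator_mul (g : G) :
    ∑ χ : IrrCharacter G, indicator2 (χ : G → ℂ) * (χ : G → ℂ) g =
      ((Finset.univ.filter fun u : G => u * u = g).card : ℂ) := by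
  set f : G → ℂ := fun g => ((Finset.univ.filter fun u : G => u * u = g).card : ℂ) with hf
  have hfc : IsClassFunction G f := fun a k => by
    simp only [hf]
    congr 1
    refine Finset.card_equiv (MulAut.conj k⁻¹).toEquiv fun u => ?_
    simp only [Finset.mem_filter, Finset.mem_univ, true_and]
    show _ ↔ k⁻¹ * u * k⁻¹⁻¹ * (k⁻¹ * u * k⁻¹⁻¹) = a
    constructor
    · intro h
      rw [show k⁻¹ * u * k⁻¹⁻¹ * (k⁻¹ * u * k⁻¹⁻¹) = k⁻¹ * (u * u) * k by group, h]
      group
    · intro h
      rw [show u * u = k * (k⁻¹ * u * k⁻¹⁻¹ * (k⁻¹ * u * k⁻¹⁻¹)) * k⁻¹ by group, h]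
  have hcoef : ∀ χ : IrrCharacter G, classInner f (χ : G → ℂ) = indicator2 (χ : G → ℂ) := fun χ => by
    rw [← indicator2_conj χ.2, classInner, indicator2, map_mul, map_inv₀, map_natCast, map_sum,
      ← Finset.sum_fiberwise Finset.univ (fun u : G => u * u) fun u : G => conj ((χ : G → ℂ) (u * u))]
    congr 1
    refine Finset.sum_congr rfl fun a _ => ?_
    rw [Finset.sum_congr rfl (g := fun _ => conj ((χ : G → ℂ) a))
      fun u hu => by rw [(Finset.mem_filter.mp hu).2], Finset.sum_const, nsmul_eq_mul]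
  have h := congrFun (classFun_expansion hfc) g
  simp only [Finset.sum_apply, Pi.smul_apply, smul_eq_mul, hcoef] at h
  exact h.symm

open scoped Classical in
theorem perm_unique_orthogonal_iff (H : Subgroup G) :
    Nat.card {χ : IrrCharacter G // classInner (indFun H (fun _ : H => (1 : ℂ))) (χ : G → ℂ) ≠ 0 ∧
      (∀ g : G, (starRingEnd ℂ) ((χ : G → ℂ) g) = (χ : G → ℂ) g) ∧
      (Nat.card G : ℂ)⁻¹ * ∑ g : G, (χ : G → ℂ) (g * g) = 1} = 1 ↔ Odd H.normalCore.index := by
  set e1 : IrrCharacter G := ⟨fun _ => 1, isIrrCharacter_one⟩ with he1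
  haveI := Fintype.ofFinite H
  set π := indFun H (fun _ : H => (1 : ℂ)) with hπ
  have hπc : IsCharacter G π := isCharacter_indFun H isCharacter_one
  obtain ⟨m, hm⟩ := exists_decomposition hπc
  have hcoef := decomposition_coeff m hm
  have hcardG : (Nat.card G : ℂ) ≠ 0 := Nat.cast_ne_zero.mpr Nat.card_pos.ne'
  have hm1 : m e1 = 1 := by
    apply Nat.cast_injective (R := ℂ)
    rw [← hcoef, frobenius H _ (isClassFunction_character (isCharacter_one (G := G))), Nat.cast_one]
    exact irr_self isIrrCharacter_one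
  have he1ind : indicator2 (e1 : G → ℂ) = 1 := by
    rw [indicator2, he1]
    simp [← Nat.card_eq_fintype_card, hcardG]
  set X := {χ : IrrCharacter G // classInner π (χ : G → ℂ) ≠ 0 ∧
      (∀ g : G, (starRingEnd ℂ) ((χ : G → ℂ) g) = (χ : G → ℂ) g) ∧
      (Nat.card G : ℂ)⁻¹ * ∑ g : G, (χ : G → ℂ) (g * g) = 1}
  have hX1 : classInner π (e1 : G → ℂ) ≠ 0 ∧
      (∀ g : G, (starRingEnd ℂ) ((e1 : G → ℂ) g) = (e1 : G → ℂ) g) ∧
      (Nat.card G : ℂ)⁻¹ * ∑ g : G, (e1 : G → ℂ) (g * g) = 1 :=
    ⟨by rw [hcoef, hm1]; simp, fun g => map_one _, he1ind⟩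
  set K := H.normalCore with hK
  constructor
  · intro hcard
    by_contra hodd
    rw [Nat.not_odd_iff_even, even_iff_two_dvd, Subgroup.index_eq_card] at hodd
    haveI := Fact.mk Nat.prime_two
    obtain ⟨q, hq⟩ := exists_prime_orderOf_dvd_card' 2 hodd
    obtain ⟨t, rfl⟩ := QuotientGroup.mk_surjective q
    have ht2 : t * t ∈ K := by
      rw [← QuotientGroup.eq_one_iff, QuotientGroup.mk_mul, ← pow_two, ← hq, pow_orderOf_eq_one]
    have htK : t ∉ K := fun h => by
      rw [(QuotientGroup.eq_one_iff t).mpr h, orderOf_one] at hq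
      omega
    have hker : ∀ k : G, k ∈ K ↔ ∀ α : G ⧸ H, k • α = α := fun k => by
      rw [hK, Subgroup.normalCore_eq_ker, MonoidHom.mem_ker, Equiv.Perm.ext_iff]
      rfl
    obtain ⟨α, hα⟩ : ∃ α : G ⧸ H, t • α ≠ α := by
      by_contra hno
      push Not at hno
      exact htK ((hker t).mpr hno)
    haveI : Fintype (G ⧸ H) := Fintype.ofFinite _
    have hfix : ∀ g : G, π g = ((Finset.univ.filter fun β : G ⧸ H => g • β = β).card : ℂ) := fun g => by
      rw [← Fintype.card_subtype, ← Nat.card_eq_fintype_card]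
      have h := card_fixedBy_eq_indFun (QuotientGroup.mk (1 : G) : G ⧸ H) g
      rw [MulAction.stabilizer_quotient] at h
      exact h.symm
    have hburn : ∑ g : G, (Finset.univ.filter fun β : G ⧸ H => g • β = β).card = Nat.card G := by
      apply Nat.cast_injective (R := ℂ)
      rw [Nat.cast_sum, ← Finset.sum_congr rfl fun g _ => hfix g]
      have h := hcoef e1
      rw [hm1, Nat.cast_one, classInner, inv_mul_eq_one₀ hcardG] at h
      rw [h]
      simp [he1]
    have hlt : ∑ g : G, (Finset.univ.filter fun β : G ⧸ H => g • β = β).card <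
        ∑ g : G, (Finset.univ.filter fun β : G ⧸ H => (g * g) • β = β).card := by
      refine Finset.sum_lt_sum (fun g _ => Finset.card_le_card fun β hβ => ?_)
        ⟨t, Finset.mem_univ _, Finset.card_lt_card ?_⟩
      · simp only [Finset.mem_filter, Finset.mem_univ, true_and] at hβ ⊢
        rw [mul_smul, hβ, hβ]
      · rw [Finset.ssubset_iff_of_subset fun β hβ => ?_]
        · exact ⟨α, by simpa using (hker _).mp ht2 α, by simpa using hα⟩
        · simp only [Finset.mem_filter, Finset.mem_univ, true_and] at hβ ⊢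
          rw [mul_smul, hβ, hβ]
    rw [hburn] at hlt
    set N2 := ∑ g : G, (Finset.univ.filter fun β : G ⧸ H => (g * g) • β = β).card with hN2
    have hsum : ∑ χ : IrrCharacter G, (m χ : ℂ) * indicator2 (χ : G → ℂ) =
        (Nat.card G : ℂ)⁻¹ * (N2 : ℂ) := by
      rw [hN2, Nat.cast_sum, ← Finset.sum_congr rfl fun g _ => hfix (g * g)]
      simp only [indicator2, Finset.mul_sum]
      rw [Finset.sum_comm]
      refine Finset.sum_congr rfl fun g _ => ?_
      rw [hm, Finset.sum_apply, Finset.mul_sum]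
      exact Finset.sum_congr rfl fun χ _ => by
        rw [Pi.smul_apply, nsmul_eq_mul]; ring
    rw [Nat.card_eq_one_iff_unique] at hcard
    obtain ⟨hsub, -⟩ := hcard
    have hle : ∀ χ : IrrCharacter G, χ ≠ e1 → ((m χ : ℂ) * indicator2 (χ : G → ℂ)).re ≤ 0 := by
      intro χ hχ
      rcases (indicator_trichotomy χ.2).1 with h | h | h
      · rw [h]; simp
      · by_cases h0 : m χ = 0
        · simp [h0]
        · refine absurd (congrArg Subtype.val (Subsingleton.elim
            (⟨χ, by rw [hcoef]; exact Nat.cast_ne_zero.mpr h0,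
              fun g => Complex.conj_eq_iff_im.mpr (indicator_real χ.2 (by rw [h]; exact one_ne_zero) g),
              h⟩ : X) ⟨e1, hX1⟩)) hχ
      · rw [h]; simp
    have hre := congrArg Complex.re hsum
    rw [Complex.re_sum, ← Finset.add_sum_erase _ _ (Finset.mem_univ e1), hm1, he1ind,
      show ((Nat.card G : ℂ)⁻¹ * (N2 : ℂ)) = (((Nat.card G : ℝ)⁻¹ * (N2 : ℝ) : ℝ) : ℂ) by push_cast; rfl,
      Complex.ofReal_re] at hre
    have hneg : ∑ χ ∈ Finset.univ.erase e1, ((m χ : ℂ) * indicator2 (χ : G → ℂ)).re ≤ 0 :=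
      Finset.sum_nonpos fun χ hχ => hle χ (Finset.ne_of_mem_erase hχ)
    have h1 : (1 : ℝ) < (Nat.card G : ℝ)⁻¹ * (N2 : ℝ) := by
      rw [inv_mul_eq_div, lt_div_iff₀ (Nat.cast_pos.mpr Nat.card_pos), one_mul]
      exact_mod_cast hlt
    rw [Nat.cast_one, one_mul, Complex.one_re] at hre
    linarith
  · intro hodd
    refine Nat.card_eq_one_iff_unique.mpr ⟨⟨fun a b => ?_⟩, ⟨⟨e1, hX1⟩⟩⟩
    suffices h : ∀ a : X, a.1 = e1 from Subtype.ext ((h a).trans (h b).symm)
    rintro ⟨χ, hχm, hχr, hχi⟩
    by_contra hne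
    have hKfix : ∀ k ∈ K, (χ : G → ℂ) k = (χ : G → ℂ) 1 := by
      intro k hk
      have hkk : ∀ x : G, x⁻¹ * k * x ∈ H := fun x => by
        refine H.normalCore_le ?_
        simpa using Subgroup.Normal.conj_mem (inferInstance : K.Normal) k hk x⁻¹
      have hval : π k = π 1 := by
        simp only [hπ, indFun]
        congr 1
        refine Finset.sum_congr rfl fun x _ => ?_
        rw [extendByZero_mem H _ (hkk x), extendByZero_mem H _ (by simp)]
      have h1 : ∑ ψ : IrrCharacter G, (m ψ : ℂ) * ((ψ : G → ℂ) 1 - (ψ : G → ℂ) k) = 0 := by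
        have h : π 1 - π k = 0 := by rw [hval, sub_self]
        rw [hm, Finset.sum_apply, Finset.sum_apply, ← Finset.sum_sub_distrib] at h
        rw [← h]
        exact Finset.sum_congr rfl fun ψ _ => by
          rw [Pi.smul_apply, Pi.smul_apply, nsmul_eq_mul, nsmul_eq_mul, mul_sub]
      have h2 := congrArg Complex.re h1
      simp only [Complex.re_sum, Complex.mul_re, Complex.natCast_re, Complex.natCast_im, zero_mul,
        sub_zero, Complex.sub_re, Complex.zero_re] at h2
      have hmχ : m χ ≠ 0 := fun h0 => hχm (by rw [hcoef, h0, Nat.cast_zero])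
      have h3 := (Finset.sum_eq_zero_iff_of_nonneg fun ψ _ => mul_nonneg (Nat.cast_nonneg _)
        (sub_nonneg.mpr ((Complex.re_le_norm _).trans (char_norm_le (irr_isCharacter ψ.2) k)))).mp
        h2 χ (Finset.mem_univ χ)
      have h4 := (mul_eq_zero.mp h3).resolve_left (Nat.cast_ne_zero.mpr hmχ)
      refine Complex.ext (sub_eq_zero.mp h4).symm ?_
      rw [Complex.conj_eq_iff_im.mp (hχr k), Complex.conj_eq_iff_im.mp (hχr 1)]
    haveI : Fintype (G ⧸ K) := Fintype.ofFinite _
    obtain ⟨χ', hχ'⟩ := exists_deflate K χ.2 hKfix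
    have hbij : Function.Bijective fun q : G ⧸ K => q * q := by
      rw [Subgroup.index_eq_card] at hodd
      have h := (powCoprime (G := G ⧸ K) (Nat.coprime_two_right.mpr hodd)).bijective
      simpa [powCoprime, pow_two] using h
    have hzero : ∑ g : G, (χ : G → ℂ) (g * g) = ∑ g : G, (χ : G → ℂ) g := by
      rw [Finset.sum_congr rfl fun g _ => (hχ' (g * g)).symm,
        Finset.sum_congr rfl (fun g (_ : g ∈ Finset.univ) => (hχ' g).symm)]
      simp only [QuotientGroup.mk_mul]
      rw [sum_comp_mk K fun q => (χ' : G ⧸ K → ℂ) (q * q), sum_comp_mk K (χ' : G ⧸ K → ℂ)]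
      congr 1
      exact Fintype.sum_bijective _ hbij _ _ fun q => rfl
    have h0 := irr_orth χ.2 e1.2
    rw [if_neg fun h => hne (Subtype.ext h)] at h0
    simp only [classInner, he1, map_one, mul_one] at h0
    rw [hzero, h0] at hχi
    exact zero_ne_one hχi

end Cfsg.Agent.Char
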