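import Cfsg.Agent.Lib.Char.RankOne
import Cfsg.Agent.Lib.Char.SquareRoots
import Cfsg.Agent.Lib.Char.PrincipalInflate

/-!
# Principal blocks whose local blocks at an element have rank one

The column of the element, and the sum of the indicators weighted by that column.
-/

set_option autoImplicit false
set_option linter.unusedSectionVars false
set_option linter.style.haveILetI false

namespace Cfsg.Agent.Char

open Cfsg
open scoped ComplexConjugate

universe u

variable {G : Type u} [Group G] [Fintype G] {M : Ideal AlgInt} {p : ℕ} [hp : Fact p.Prime]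

/-- A normal complement with its index. -/
theorem exists_complement_index (h : HasNormalPComplement p G) :
    ∃ (K : Subgroup G) (_ : K.Normal), ¬ p ∣ Nat.card K ∧ (∃ k : ℕ, K.index = p ^ k) ∧
      ∀ g : G, ¬ p ∣ orderOf g → g ∈ K := by
  obtain ⟨K, hK, hc, hr⟩ := hnpc_iff_regular.mp h
  refine ⟨K, hK, hc, ?_, hr⟩
  haveI := hK
  have hpg : IsPGroup p (G ⧸ K) := by
    intro q
    obtain ⟨g, rfl⟩ := QuotientGroup.mk_surjective q
    obtain ⟨z, w, hzw, -, ⟨i, hi⟩, hw⟩ := exists_isPPart hp.out g
    refine ⟨i, ?_⟩
    have e : (QuotientGroup.mk g : G ⧸ K) = QuotientGroup.mk z := by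
      rw [← hzw, QuotientGroup.mk_mul, (QuotientGroup.eq_one_iff w).mpr (hr w hw), mul_one]
    rw [e, ← QuotientGroup.mk_pow, ← hi, pow_orderOf_eq_one, QuotientGroup.mk_one]
  obtain ⟨k, hk⟩ := IsPGroup.iff_card.mp hpg
  exact ⟨k, by rw [Subgroup.index_eq_card, hk]⟩

theorem card_sylow_eq_index (K : Subgroup G) (hK : ¬ p ∣ Nat.card K) {k : ℕ}
    (hk : K.index = p ^ k) (D : Sylow p G) : Nat.card (D : Subgroup G) = K.index := by
  rw [D.card_eq_multiplicity, hk]
  congr 1
  rw [← K.card_mul_index, hk, Nat.factorization_mul Nat.card_pos.ne' (pow_ne_zero _ hp.out.ne_zero),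
    Finsupp.add_apply, Nat.factorization_eq_zero_of_not_dvd hK, zero_add,
    Nat.Prime.factorization_pow hp.out, Finsupp.single_eq_same]

/-- The principal block of a group with a normal complement has the class number of the quotient. -/
theorem card_principal_of_complement (hM : IsPModular p M) (K : Subgroup G) [K.Normal]
    (hK : ¬ p ∣ Nat.card K) {k : ℕ} (hk : K.index = p ^ k) :
    Nat.card (principalBlock M G) = Nat.card (ConjClasses (G ⧸ K)) := by
  haveI : Fintype (G ⧸ K) := Fintype.ofFinite _
  rw [← card_irr]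
  exact Nat.card_congr
    ((Equiv.subtypeEquivRight fun χ => mem_principal_iff_of_index hM K hK hk χ).trans
      (inflateEquiv K).symm)

theorem one_le_blockRank_principal (hM : IsPModular p M) :
    1 ≤ blockRank p (principalBlock M G) := by
  have hne : pRegularPart p (fun _ : G => (1 : ℂ)) ≠ 0 := fun h => by
    have := congrFun h 1
    simp [pRegularPart, IsPRegular, hp.out.ne_one] at this
  rw [blockRank, ← finrank_span_singleton (K := ℂ) hne]
  exact Submodule.finrank_mono ((Submodule.span_singleton_le_iff_mem _ _).2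
    (Submodule.subset_span ⟨_, one_mem_principal hM, rfl⟩))

/-- Brauer's count for the principal block. -/
theorem card_principal_eq_sum (hM : IsPModular p M) (X : Finset G)
    (hX : ∀ x ∈ X, ∃ k : ℕ, orderOf x = p ^ k)
    (hXrep : ∀ g : G, (∃ k : ℕ, orderOf g = p ^ k) → ∃! x, x ∈ X ∧ IsConj g x) :
    Nat.card (principalBlock M G) =
      ∑ x ∈ X, blockRank p (principalBlock M (Subgroup.centralizer ({x} : Set G))) := by
  classical
  rw [card_eq_sum_blockRank hM (isPBlock_principalBlock M) X hX hXrep]
  refine Finset.sum_congr rfl fun x hx => ?_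
  haveI : Fintype (Subgroup.centralizer ({x} : Set G)) := Fintype.ofFinite _
  have hset : {b : Set (IrrCharacter ↥(Subgroup.centralizer ({x} : Set G))) |
      IsInducedBlock M (Subgroup.centralizer ({x} : Set G)) b (principalBlock M G)} =
      {principalBlock M (Subgroup.centralizer ({x} : Set G))} := by
    ext b
    refine ⟨fun h => (third_main hM h).mp rfl, ?_⟩
    rintro rfl
    obtain ⟨B, hB⟩ := exists_induced_centralizer hM (hX x hx)
      (isPBlock_principalBlock (G := Subgroup.centralizer ({x} : Set G)) M)
    show IsInducedBlock M _ _ _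
    rwa [← (third_main hM hB).mpr rfl]
  rw [hset, finsum_mem_singleton]

theorem blockRank_principal_centralizer_one (hM : IsPModular p M) :
    blockRank p (principalBlock M (Subgroup.centralizer ({1} : Set G))) =
      blockRank p (principalBlock M G) := by
  haveI : Fintype (Subgroup.centralizer ({1} : Set G)) := Fintype.ofFinite _
  refine blockRank_principal_congr hM (MulEquiv.trans (MulEquiv.subgroupCongr ?_) Subgroup.topEquiv)
  exact eq_top_iff.mpr fun g _ => Subgroup.mem_centralizer_singleton_iff.mpr (by simp)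

/-- The regular character of the quotient by a normal complement. -/
theorem blockPart_principal_one (hM : IsPModular p M) (K : Subgroup G) [K.Normal]
    (hK : ¬ p ∣ Nat.card K) {k : ℕ} (hk : K.index = p ^ k) (f : G → ℂ) :
    blockPart (principalBlock M G) f 1 =
      (Nat.card K : ℂ)⁻¹ * ∑ c : G, subInd K c * f c := by
  classical
  have hP := pmod_prime hM
  have hK0 : (Nat.card K : ℂ) ≠ 0 := Nat.cast_ne_zero.mpr Nat.card_pos.ne'
  have hexp : ∀ c : G, subInd K c = ∑ χ : IrrCharacter G with χ ∈ principalBlock M G,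
      (Nat.card K : ℂ) * idem (χ : G → ℂ) c := by
    intro c
    have h := congrFun (classFun_eq_sum_idem (intClassFun_subInd hP K).1) c
    rw [Finset.sum_apply] at h
    rw [h, Finset.sum_filter]
    refine Finset.sum_congr rfl fun χ _ => ?_
    show (lam (χ : G → ℂ) (subInd K) • idem (χ : G → ℂ)) c = _
    rw [Pi.smul_apply, smul_eq_mul]
    by_cases h : χ ∈ principalBlock M G
    · rw [if_pos h, (trivial_on_iff_lam K χ).mp ((mem_principal_iff_of_index hM K hK hk χ).mp h)]
    · rw [if_neg h, (lam_subInd_cases hP K χ).resolve_right fun h' =>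
        h ((mem_principal_iff_of_index hM K hK hk χ).mpr ((trivial_on_iff_lam K χ).mpr h')), zero_mul]
  rw [blockPart_eq]
  simp only [hexp, Finset.sum_mul]
  rw [Finset.sum_comm, Finset.mul_sum]
  refine Finset.sum_congr rfl fun χ _ => ?_
  simp only [classInner, idem, Finset.mul_sum, Finset.sum_mul]
  refine Finset.sum_congr rfl fun c _ => ?_
  field_simp

/-- The coefficient of an irreducible character in the count of square roots. -/
theorem blockPart_sqrtCount [DecidableEq G] (B : Set (IrrCharacter G)) [DecidablePred (· ∈ B)]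
    (g : G) :
    blockPart B (fun a : G => ((Finset.univ.filter fun u : G => u * u = a).card : ℂ)) g =
      ∑ χ : IrrCharacter G with χ ∈ B, indicator2 (χ : G → ℂ) * (χ : G → ℂ) g := by
  classical
  have e : (fun a : G => ((Finset.univ.filter fun u : G => u * u = a).card : ℂ)) =
      ∑ χ : IrrCharacter G, indicator2 (χ : G → ℂ) • (χ : G → ℂ) := by
    funext a
    rw [Finset.sum_apply]
    simp only [Pi.smul_apply, smul_eq_mul]
    rw [sum_indicator_mul a]
    congr 2
    ext u
    simp
  rw [e, blockPart_eq]
  refine Finset.sum_congr (by ext; simp) fun χ _ => ?_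
  congr 1
  rw [classInner_sum_left, Finset.sum_eq_single χ]
  · rw [classInner_smul_left, irr_self χ.2, mul_one]
  · intro η _ hη
    rw [classInner_smul_left, irr_orth η.2 χ.2, if_neg fun h => hη (Subtype.ext h), mul_zero]
  · exact fun h => absurd (Finset.mem_univ _) h

theorem isClassFunction_sqrtCount [DecidableEq G] :
    IsClassFunction G (fun a : G => ((Finset.univ.filter fun u : G => u * u = a).card : ℂ)) := by
  intro a k
  simp only
  congr 1
  refine (Finset.card_equiv (MulAut.conj k).toEquiv fun u => ?_).symm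
  simp only [Finset.mem_filter, Finset.mem_univ, true_and]
  show _ ↔ k * u * k⁻¹ * (k * u * k⁻¹) = k * a * k⁻¹
  rw [conj_mul, mul_left_inj, mul_right_inj]

section Sec

variable {x : G} [Fintype (Subgroup.centralizer ({x} : Set G))]

open scoped Classical in
/-- The column norm at an element whose centralizer has a normal complement. -/
theorem sum_principal_sq_section (hM : IsPModular p M) (hx : ∃ k : ℕ, orderOf x = p ^ k)
    (K : Subgroup (Subgroup.centralizer ({x} : Set G))) [K.Normal] (hK : ¬ p ∣ Nat.card K) {k : ℕ}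
    (hk : K.index = p ^ k) :
    ∑ χ : IrrCharacter G with χ ∈ principalBlock M G,
      conj ((χ : G → ℂ) x) * (χ : G → ℂ) x = (K.index : ℂ) := by
  have hreg : ¬ p ∣ orderOf (1 : Subgroup.centralizer ({x} : Set G)) := by simp [hp.out.ne_one]
  have h := sum_block_section_orth hM hx (isPBlock_principalBlock M) 1 1 hreg hreg
  simp only [OneMemClass.coe_one, mul_one] at h
  rw [h, principal_section_filter hM hx, Finset.sum_singleton,
    ← sum_sq_trivial_on K (pmod_prime hM)]
  refine Finset.sum_congr ?_ fun ξ _ => ?_
  · exact Finset.filter_congr fun ξ _ => mem_principal_iff_of_index hM K hK hk ξ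
  · obtain ⟨d, hd⟩ := charOne_eq_natCast (irr_isCharacter ξ.2)
    rw [hd, map_natCast]

open scoped Classical in
/-- The indicators weighted by the column, at odd primes. -/
theorem sum_indicator_section (hM : IsPModular p M) (hp2 : p ≠ 2)
    (hx : ∃ k : ℕ, orderOf x = p ^ k)
    (K : Subgroup (Subgroup.centralizer ({x} : Set G))) [K.Normal] (hK : ¬ p ∣ Nat.card K) {k : ℕ}
    (hk : K.index = p ^ k) :
    ∑ χ : IrrCharacter G with χ ∈ principalBlock M G,
      indicator2 (χ : G → ℂ) * (χ : G → ℂ) x = 1 := by
  set θ : G → ℂ := fun a => ((Finset.univ.filter fun u : G => u * u = a).card : ℂ) with hθ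
  have hreg : ¬ p ∣ orderOf (1 : (Subgroup.centralizer ({x} : Set G))) := by simp [hp.out.ne_one]
  have h := blockPart_section_eq hM hx (isPBlock_principalBlock M) isClassFunction_sqrtCount
    (ϑ := θ) (1 : (Subgroup.centralizer ({x} : Set G))) hreg
  rw [OneMemClass.coe_one, mul_one, principal_section_filter hM hx, Finset.sum_singleton] at h
  have h' := blockPart_sqrtCount (principalBlock M G) x
  rw [hθ] at h
  rw [h', blockPart_principal_one hM K hK hk, ← hθ] at h
  rw [h]
  have hxC : x ∈ (Subgroup.centralizer ({x} : Set G)) := Subgroup.mem_centralizer_singleton_iff.mpr rfl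
  set xC : (Subgroup.centralizer ({x} : Set G)) := ⟨x, hxC⟩ with hxCdef
  have hKreg : ∀ c : (Subgroup.centralizer ({x} : Set G)), ¬ p ∣ orderOf c ↔ c ∈ K := regular_iff_mem_of_index hp.out K hK hk
  -- every root lies in the centralizer
  have hroot : ∀ c ∈ K, ∀ u : G, u * u = x * (c : G) → u ∈ (Subgroup.centralizer ({x} : Set G)) := by
    intro c hc u hu
    have h1 : IsPPart p (u * u) x := hu ▸ isPPart_mul hx c ((hKreg c).mpr hc)
    obtain ⟨w, hw, hcm, ⟨i, hi⟩, hwr⟩ := h1
    have h2 : IsPPart p (u * u) (u * x * u⁻¹) := by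
      refine ⟨u * w * u⁻¹, ?_, ?_, ⟨i, ?_⟩, ?_⟩
      · rw [conj_mul, hw]; group
      · simpa [MulAut.conj_apply] using hcm.map (MulAut.conj u)
      · rw [← hi, ← MulAut.conj_apply, MulEquiv.orderOf_eq]
      · rwa [← MulAut.conj_apply, MulEquiv.orderOf_eq]
    have h3 := isPPart_unique hp.out h2 ⟨w, hw, hcm, ⟨i, hi⟩, hwr⟩
    refine Subgroup.mem_centralizer_singleton_iff.mpr ?_
    calc u * x = u * x * u⁻¹ * u := by group
      _ = x * u := by rw [h3]
  have hcount : ∀ c ∈ K, secFun x θ c =
      ((Finset.univ.filter fun v : (Subgroup.centralizer ({x} : Set G)) => v * v = xC * c).card : ℂ) := by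
    intro c hc
    show θ (x * (c : G)) = _
    simp only [hθ]
    congr 1
    symm
    refine Finset.card_bij (fun v _ => (v : G)) (fun v hv => ?_) (fun a _ b _ e => Subtype.ext e)
      fun u hu => ?_
    · simp only [Finset.mem_filter, Finset.mem_univ, true_and] at hv ⊢
      simpa using congrArg Subtype.val hv
    · simp only [Finset.mem_filter, Finset.mem_univ, true_and] at hu
      refine ⟨⟨u, hroot c hc u hu⟩, ?_, rfl⟩
      simp only [Finset.mem_filter, Finset.mem_univ, true_and]
      exact Subtype.ext hu
  -- the roots form a single coset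
  haveI : Fintype ((Subgroup.centralizer ({x} : Set G)) ⧸ K) := Fintype.ofFinite _
  have hodd' : (Nat.card ((Subgroup.centralizer ({x} : Set G)) ⧸ K)).Coprime 2 := by
    rw [← Subgroup.index_eq_card, hk]
    exact Nat.Coprime.pow_left _ ((Nat.coprime_primes hp.out Nat.prime_two).mpr hp2)
  have hodd := hodd'.symm
  obtain ⟨q, hq⟩ := (powCoprime_bijective hodd).surjective (QuotientGroup.mk' K xC)
  obtain ⟨v0, rfl⟩ := QuotientGroup.mk_surjective q
  simp only [QuotientGroup.mk'_apply] at hq
  have hsq : ∀ v : (Subgroup.centralizer ({x} : Set G)), xC⁻¹ * (v * v) ∈ K ↔ v0⁻¹ * v ∈ K := by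
    intro v
    rw [← QuotientGroup.eq, ← QuotientGroup.eq]
    constructor
    · intro e
      refine (powCoprime_bijective hodd).injective ?_
      show _ ^ 2 = _ ^ 2
      rw [hq, e, ← sq, QuotientGroup.mk_pow]
    · intro e
      rw [← hq, ← sq, QuotientGroup.mk_pow, e]
  have hsum : ∑ c : (Subgroup.centralizer ({x} : Set G)), subInd K c * secFun x θ c = (Nat.card K : ℂ) := by
    have e : ∀ c : (Subgroup.centralizer ({x} : Set G)), subInd K c * secFun x θ c =
        if c ∈ K then ((Finset.univ.filter fun v : (Subgroup.centralizer ({x} : Set G)) => v * v = xC * c).card : ℂ) else 0 := by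
      intro c
      unfold subInd
      split_ifs with hc
      · rw [one_mul, hcount c hc]
      · rw [zero_mul]
    rw [Finset.sum_congr rfl fun c _ => e c, ← Finset.sum_filter, ← Nat.cast_sum]
    congr 1
    have h1 := Finset.card_eq_sum_card_fiberwise
      (s := Finset.univ.filter fun v : (Subgroup.centralizer ({x} : Set G)) => xC⁻¹ * (v * v) ∈ K)
      (f := fun v : (Subgroup.centralizer ({x} : Set G)) => xC⁻¹ * (v * v)) (t := Finset.univ.filter fun c : (Subgroup.centralizer ({x} : Set G)) => c ∈ K)
      (fun v hv => by simpa using hv)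
    have h2 : (Finset.univ.filter fun v : (Subgroup.centralizer ({x} : Set G)) => xC⁻¹ * (v * v) ∈ K).card = Nat.card K := by
      rw [Nat.card_eq_fintype_card, Fintype.card_subtype]
      refine Finset.card_equiv (Equiv.mulLeft v0⁻¹) fun v => ?_
      simp [hsq v]
    rw [← h2, h1]
    refine Finset.sum_congr rfl fun c hc => congrArg Finset.card ?_
    ext v
    simp only [Finset.mem_filter, Finset.mem_univ, true_and] at hc ⊢
    rw [inv_mul_eq_iff_eq_mul]
    exact ⟨fun e => ⟨by rw [e, inv_mul_cancel_left]; exact hc, e⟩, fun e => e.2⟩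
  rw [hsum, inv_mul_cancel₀ (Nat.cast_ne_zero.mpr Nat.card_pos.ne')]

end Sec

end Cfsg.Agent.Char
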