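import Cfsg.Agent.Lib.Char.TIFNValues
import Cfsg.Agent.Lib.Char.Inflate
import Cfsg.Agent.Lib.Char.TwoDegreesPrime
import Cfsg.Agent.Lib.Solv.ThompsonFPF
import Cfsg.Agent.S0065

/-!
Frobenius groups: characters not constant on the kernel, sorted by a normal subgroup.
-/

set_option linter.unusedSectionVars false

open scoped ComplexConjugate commutatorElement
open Cfsg

namespace Cfsg.Agent.Char

universe u

/-- A subgroup that contains the centralizers of its nontrivial elements is nilpotent. -/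
theorem frobKernel_nilpotent {N : Type u} [Group N] [Finite N] (H : Subgroup N) [H.Normal]
    (hne : H ≠ ⊤) (hC : ∀ h ∈ H, h ≠ 1 → Subgroup.centralizer ({h} : Set N) ≤ H) :
    Group.IsNilpotent H := by
  obtain ⟨r, hr, hrd⟩ := Nat.exists_prime_and_dvd (n := Nat.card (N ⧸ H)) (fun h => hne (by
    rw [← Subgroup.index_eq_one, Subgroup.index_eq_card, h]))
  haveI := Fact.mk hr
  obtain ⟨y, hy⟩ := exists_prime_orderOf_dvd_card' (G := N ⧸ H) r hrd
  obtain ⟨x, rfl⟩ := QuotientGroup.mk_surjective y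
  obtain ⟨a, b, hb, hab⟩ := Nat.exists_eq_pow_mul_and_not_dvd (orderOf_pos x).ne' r hr.ne_one
  have hz : x ^ b ∉ H := fun h => hb (hy ▸ orderOf_dvd_of_pow_eq_one
    ((QuotientGroup.eq_one_iff _).2 h))
  have hw : ∀ j : ℕ, (x ^ b) ^ r ^ j = 1 → ∃ z : N, z ∉ H ∧ z ^ r = 1 := by
    intro j
    induction j with
    | zero => intro h; rw [pow_zero, pow_one] at h; exact absurd (h ▸ one_mem H) hz
    | succ j ih =>
      intro h
      by_cases hj : (x ^ b) ^ r ^ j ∈ H
      · by_cases h1 : (x ^ b) ^ r ^ j = 1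
        · exact ih h1
        · exact absurd (hC _ hj h1 (Subgroup.mem_centralizer_singleton_iff.2
            (Commute.self_pow (x ^ b) (r ^ j)).eq)) hz
      · exact ⟨_, hj, by rwa [← pow_mul, ← pow_succ]⟩
  obtain ⟨z, hz', hzr⟩ := hw a (by rw [← pow_mul, mul_comm, ← hab, pow_orderOf_eq_one])
  refine Solv.fpf_nilpotent H z hr hzr (by rw [Subgroup.normalizer_eq_top]; trivial) ?_
  refine (Subgroup.eq_bot_iff_forall _).2 fun h hh => ?_
  by_contra h1
  exact hz' (hC h hh.1 h1 (Subgroup.mem_centralizer_singleton_iff.2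
    (Subgroup.mem_centralizer_singleton_iff.1 hh.2).symm))

variable {N : Type u} [Group N] [Fintype N]

/-- The irreducible characters that are constant on `D` but not on `H`. -/
def chSet (H D : Subgroup N) : Set (N → ℂ) :=
  {χ | IsIrrCharacter N χ ∧ (∃ h ∈ H, χ h ≠ χ 1) ∧ ∀ d ∈ D, χ d = χ 1}

theorem chSet_finite (H D : Subgroup N) : (chSet H D).Finite :=
  (Set.finite_range (fun χ : IrrCharacter N => (χ : N → ℂ))).subset
    fun χ hχ => ⟨⟨χ, hχ.1⟩, rfl⟩

/-- `chSet` as a finite set. -/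
noncomputable def chFin (H D : Subgroup N) : Finset (N → ℂ) := (chSet_finite H D).toFinset

theorem mem_chFin {H D : Subgroup N} {χ : N → ℂ} : χ ∈ chFin H D ↔ χ ∈ chSet H D :=
  (chSet_finite H D).mem_toFinset

theorem chFin_coe (H D : Subgroup N) : (↑(chFin H D) : Set (N → ℂ)) = chSet H D :=
  (chSet_finite H D).coe_toFinset

theorem const_constituent {K : Type u} [Group K] [Fintype K] {F : K → ℂ} (hF : IsCharacter K F)
    (θ : IrrCharacter K) (h : classInner F (θ : K → ℂ) ≠ 0) {m : K} (hm : F m = F 1) :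
    (θ : K → ℂ) m = (θ : K → ℂ) 1 := by
  classical
  obtain ⟨c, hc⟩ := exists_decomposition hF
  have hcθ : c θ ≠ 0 := fun e => h (by rw [decomposition_coeff c hc θ, e, Nat.cast_zero])
  have hle : ∀ φ : IrrCharacter K, ((φ : K → ℂ) m).re ≤ (deg (φ : K → ℂ) : ℝ) := fun φ =>
    (Complex.re_le_norm _).trans (TwoDeg.norm_le_deg φ m)
  have h1 : ∑ φ : IrrCharacter K, (c φ : ℝ) * (deg (φ : K → ℂ) : ℝ) =
      ∑ φ : IrrCharacter K, (c φ : ℝ) * ((φ : K → ℂ) m).re := by
    have h0 := congrArg Complex.re hm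
    rw [hc] at h0
    simp only [Finset.sum_apply, Pi.smul_apply, nsmul_eq_mul, Pi.mul_apply, Pi.natCast_apply,
      Complex.re_sum] at h0
    rw [Finset.sum_congr (s₁ := (Finset.univ : Finset (IrrCharacter K))) rfl
      (g := fun φ => (c φ : ℝ) * (deg (φ : K → ℂ) : ℝ))
      (f := fun φ => ((c φ : ℂ) * (φ : K → ℂ) 1).re) fun φ _ => by
        rw [char_one_eq_deg (irr_isCharacter φ.2)]; simp] at h0
    rw [← h0]
    exact Finset.sum_congr rfl fun φ _ => by simp
  have h2 := (Finset.sum_eq_sum_iff_of_le fun φ _ =>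
    mul_le_mul_of_nonneg_left (hle φ) (Nat.cast_nonneg (c φ))).1 h1.symm θ (Finset.mem_univ θ)
  have h3 : ((θ : K → ℂ) m).re = (deg (θ : K → ℂ) : ℝ) :=
    mul_left_cancel₀ (Nat.cast_ne_zero.2 hcθ) h2
  have h4 : ((θ : K → ℂ) m).re = ‖(θ : K → ℂ) m‖ :=
    le_antisymm (Complex.re_le_norm _) (h3 ▸ TwoDeg.norm_le_deg θ m)
  have h5 := Complex.re_eq_norm.1 h4
  rw [char_one_eq_deg (irr_isCharacter θ.2), Complex.ext_iff, Complex.natCast_re, Complex.natCast_im]
  exact ⟨h3, h5.2.symm⟩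

variable (H : Subgroup N) [H.Normal] [Fintype H]

theorem chSet_induced (hC : ∀ h ∈ H, h ≠ 1 → Subgroup.centralizer ({h} : Set N) ≤ H)
    {D : Subgroup N} {χ : N → ℂ} (hχ : χ ∈ chSet H D) :
    ∃ θ : IrrCharacter H, χ 1 = (H.index : ℂ) * (θ : H → ℂ) 1 ∧
      deg χ = H.index * deg (θ : H → ℂ) ∧
      ∀ d : H, (d : N) ∈ D → d ∈ TwoDeg.kerC θ := by
  classical
  obtain ⟨θ, -, hθ⟩ := exists_induced_of_nonconst H hC ⟨χ, hχ.1⟩ hχ.2.1
  change χ = _ at hθ
  have h1 : χ 1 = (H.index : ℂ) * (θ : H → ℂ) 1 := by rw [hθ, indFun_one]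
  refine ⟨θ, h1, ?_, fun d hd => TwoDeg.mem_kerC_of_eq θ ?_⟩
  · rw [char_one_eq_deg (irr_isCharacter hχ.1), char_one_eq_deg (irr_isCharacter θ.2)] at h1
    exact_mod_cast h1
  · refine const_constituent (isCharacter_comp H.subtype (irr_isCharacter hχ.1)) θ ?_
      (m := d) (hχ.2.2 d hd)
    rw [show χ ∘ ⇑H.subtype = fun h : H => χ h from rfl,
      ← frobenius_right H _ (isClassFunction_character (irr_isCharacter hχ.1)), ← hθ, irr_self hχ.1]
    exact one_ne_zero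

theorem chSet_deg_sq_le (hC : ∀ h ∈ H, h ≠ 1 → Subgroup.centralizer ({h} : Set N) ≤ H)
    {M E : Subgroup N} (hcomm : ∀ z ∈ E, ∀ h ∈ H, z * h * z⁻¹ * h⁻¹ ∈ M)
    {χ : N → ℂ} (hχ : χ ∈ chSet H M) :
    ∃ t : ℕ, 0 < t ∧ deg χ = H.index * t ∧ t ^ 2 ≤ E.relIndex H := by
  classical
  obtain ⟨θ, -, hdeg, hker⟩ := chSet_induced H hC hχ
  refine ⟨deg (θ : H → ℂ), deg_pos θ.2, hdeg, ?_⟩
  have hle : E.subgroupOf H ≤ TwoDeg.cz θ := fun z hz => (TwoDeg.mem_cz_iff_comm θ z).2 fun x =>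
    hker _ (by
      have := hcomm z (Subgroup.mem_subgroupOf.1 hz) x x.2
      simpa using this)
  have h1 := TwoDeg.card_cz_mul_sq_le θ
  have h2 : Nat.card (E.subgroupOf H) ≤ Nat.card (TwoDeg.cz θ) :=
    Nat.le_of_dvd Nat.card_pos (Subgroup.card_dvd_of_le hle)
  have h3 : Nat.card (E.subgroupOf H) * deg (θ : H → ℂ) ^ 2 ≤
      Nat.card (E.subgroupOf H) * (E.subgroupOf H).index := by
    rw [Subgroup.card_mul_index]
    exact le_trans (Nat.mul_le_mul_right _ h2) h1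
  exact Nat.le_of_mul_le_mul_left h3 Nat.card_pos

/-- The sum of the squares of the degrees. -/
theorem chFin_sum_sq (hC : ∀ h ∈ H, h ≠ 1 → Subgroup.centralizer ({h} : Set N) ≤ H)
    (D : Subgroup N) [D.Normal] (hD : D ≤ H) :
    ∃ k : ℕ, D.relIndex H = H.index * k + 1 ∧
      ∑ χ ∈ chFin H D, deg χ ^ 2 = H.index ^ 2 * k := by
  classical
  haveI := Fintype.ofFinite (N ⧸ D)
  set P : IrrCharacter N → Prop := fun χ => ∀ d ∈ D, (χ : N → ℂ) d = (χ : N → ℂ) 1 with hP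
  have hD' : ∑ χ : IrrCharacter N with P χ, (χ : N → ℂ) 1 ^ 2 = (D.index : ℂ) := by
    rw [Subgroup.index_eq_card, ← sum_sq_deg (G := N ⧸ D),
      Finset.sum_subtype (p := P) _ (fun χ => by simp), ← (inflateEquiv D).sum_comp]
    refine Fintype.sum_congr _ _ fun φ => ?_
    rw [inflateEquiv_apply, QuotientGroup.mk_one]
  rw [← Finset.sum_filter_add_sum_filter_not _ (fun χ : IrrCharacter N => χ ∈ ncChars H)] at hD'
  have hconst : ((Finset.univ.filter P).filter fun χ : IrrCharacter N => ¬ χ ∈ ncChars H) =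
      Finset.univ.filter fun χ : IrrCharacter N => χ ∉ ncChars H := by
    ext χ
    simp only [Finset.mem_filter, Finset.mem_univ, true_and, and_iff_right_iff_imp]
    intro hχ d hd
    rw [mem_ncChars] at hχ
    push Not at hχ
    exact hχ d (hD hd)
  have hch : ∑ χ ∈ chFin H D, (χ 1) ^ 2 =
      ∑ χ ∈ (Finset.univ.filter P).filter (fun χ : IrrCharacter N => χ ∈ ncChars H),
        (χ : N → ℂ) 1 ^ 2 := by
    symm
    refine Finset.sum_bij (fun χ _ => (χ : N → ℂ)) (fun χ hχ => ?_) (fun a _ b _ h => Subtype.ext h)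
      (fun f hf => ?_) (fun χ _ => rfl)
    · simp only [Finset.mem_filter, Finset.mem_univ, true_and, mem_ncChars] at hχ
      exact mem_chFin.2 ⟨χ.2, hχ.2, hχ.1⟩
    · obtain ⟨h1, h2, h3⟩ := mem_chFin.1 hf
      exact ⟨⟨f, h1⟩, by simp [hP, mem_ncChars, h2, h3]; exact h3, rfl⟩
  rw [hconst, sum_sq_const H hC, ← hch, Finset.sum_congr rfl fun χ hχ => by
    rw [char_one_eq_deg (irr_isCharacter (mem_chFin.1 hχ).1)]] at hD'
  have hnat : (∑ χ ∈ chFin H D, deg χ ^ 2) + H.index = D.relIndex H * H.index := by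
    rw [Subgroup.relIndex_mul_index hD]
    exact_mod_cast hD'
  have hdiv : H.index ^ 2 ∣ ∑ χ ∈ chFin H D, deg χ ^ 2 := Finset.dvd_sum fun χ hχ => by
    obtain ⟨θ, -, hdeg, -⟩ := chSet_induced H hC (mem_chFin.1 hχ)
    exact pow_dvd_pow_of_dvd ⟨_, hdeg⟩ 2
  obtain ⟨k, hk⟩ := hdiv
  refine ⟨k, ?_, hk⟩
  have he : 0 < H.index := Nat.pos_of_ne_zero Subgroup.index_ne_zero_of_finite
  refine Nat.eq_of_mul_eq_mul_right he ?_
  rw [← hnat, hk]
  ring

/-- Indices between normal subgroups inside the kernel are congruent to one. -/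
theorem relIndex_ge (hC : ∀ h ∈ H, h ≠ 1 → Subgroup.centralizer ({h} : Set N) ≤ H)
    (A B : Subgroup N) [A.Normal] [B.Normal] (hAB : A ≤ B) (hBH : B ≤ H) (hne : A ≠ B) :
    H.index + 1 ≤ A.relIndex B := by
  obtain ⟨a, ha, -⟩ := chFin_sum_sq H hC A (hAB.trans hBH)
  obtain ⟨b, hb, -⟩ := chFin_sum_sq H hC B hBH
  have h := Subgroup.relIndex_mul_relIndex A B H hAB hBH
  rw [ha, hb] at h
  have h1 : A.relIndex B ≠ 1 := fun e => hne (le_antisymm hAB (Subgroup.relIndex_eq_one.1 e))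
  set r := A.relIndex B with hr
  rcases Nat.eq_zero_or_pos H.index with he | he
  · exact absurd he Subgroup.index_ne_zero_of_finite
  have hdvd : H.index ∣ r - 1 := by
    have h2 : (r : ℤ) - 1 = (H.index : ℤ) * ((a : ℤ) - r * b) := by
      have : (r : ℤ) * ((H.index : ℤ) * b + 1) = (H.index : ℤ) * a + 1 := by exact_mod_cast h
      linear_combination this
    have h3 : (H.index : ℤ) ∣ (r : ℤ) - 1 := ⟨_, h2⟩
    rcases Nat.eq_zero_or_pos r with h0 | h0
    · simp [h0] at h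
    · rw [show (r : ℤ) - 1 = ((r - 1 : ℕ) : ℤ) by omega] at h3
      exact_mod_cast h3
  have h0 : 0 < r := Nat.pos_of_ne_zero fun h0 => by simp [h0] at h
  have := Nat.le_of_dvd (by omega) hdvd
  omega

end Cfsg.Agent.Char
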