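import Cfsg.Agent.Lib.Char.PermLemma
import Cfsg.Agent.Lib.Char.CliffordInd

/-!
Characters of a normal subgroup containing the centralizers of its nontrivial elements.
-/

set_option autoImplicit false

namespace Cfsg.Agent.Char
open Cfsg

universe u
variable {G : Type u} [Group G] [Fintype G] (N : Subgroup G) [N.Normal]

theorem inertia_le_of_centralizer
    (hC : ∀ n ∈ N, n ≠ 1 → Subgroup.centralizer ({n} : Set G) ≤ N) [Fintype N]
    (θ : IrrCharacter N) (hθ1 : (θ : N → ℂ) ≠ fun _ => 1) (g : G)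
    (hg : irrComp (MulAut.conjNormal g) θ = θ) : g ∈ N := by
  classical
  by_contra hgN
  have hsub : Subsingleton {C : ConjClasses N //
      ConjClasses.map (MulAut.conjNormal g : MulAut N).toMonoidHom C = C} := by
    suffices h : ∀ C : {C : ConjClasses N //
        ConjClasses.map (MulAut.conjNormal g : MulAut N).toMonoidHom C = C},
        C.1 = ConjClasses.mk 1 from ⟨fun a b => Subtype.ext ((h a).trans (h b).symm)⟩
    rintro ⟨C, hC'⟩
    obtain ⟨n, rfl⟩ := ConjClasses.mk_surjective C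
    show ConjClasses.mk n = _
    by_cases hn : n = 1
    · rw [hn]
    exfalso
    obtain ⟨h, hh⟩ := isConj_iff.1 (ConjClasses.mk_eq_mk_iff_isConj.1 hC')
    have hh' : (h : G) * (g * n * g⁻¹) * (h : G)⁻¹ = n := by
      have := congrArg (fun t : N => (t : G)) hh
      simpa [MulAut.conjNormal_apply] using this
    have hcm : (h : G) * g ∈ Subgroup.centralizer ({(n : G)} : Set G) := by
      rw [Subgroup.mem_centralizer_singleton_iff]
      calc (h : G) * g * n = (h : G) * (g * n * g⁻¹) * (h : G)⁻¹ * (h * g) := by group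
        _ = _ := by rw [hh']
    have := hC (n : G) n.2 (fun e => hn (Subtype.ext e)) hcm
    exact hgN ((Subgroup.mul_mem_cancel_left N h.2).1 this)
  have hc := card_fixed_irr_eq_card_fixed_classes (MulAut.conjNormal g : MulAut N)
  have h1 : Nat.card {C : ConjClasses N //
      ConjClasses.map (MulAut.conjNormal g : MulAut N).toMonoidHom C = C} ≤ 1 :=
    Finite.card_le_one_iff_subsingleton.2 hsub
  rw [← hc, Finite.card_le_one_iff_subsingleton] at h1
  let one : IrrCharacter N := ⟨_, isIrrCharacter_one⟩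
  have := h1.elim ⟨θ, hg⟩ ⟨one, Subtype.ext (funext fun n => by rw [irrComp_apply])⟩
  exact hθ1 (congrArg (fun t => ((t : IrrCharacter N) : N → ℂ)) (congrArg Subtype.val this))

/-- In a Frobenius group the centralizer of a nontrivial kernel element lies in the kernel. -/
theorem centralizer_le_kernel (H : Subgroup G) (hKH' : N ⊔ H = ⊤)
    (hfpf : ∀ h ∈ H, h ≠ 1 → ∀ k ∈ N, h * k = k * h → k = 1) :
    ∀ n ∈ N, n ≠ 1 → Subgroup.centralizer ({n} : Set G) ≤ N := by
  intro n hn hn1 u hu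
  obtain ⟨k', hk', h, hh, rfl⟩ : ∃ k' ∈ N, ∃ h ∈ H, k' * h = u := by
    have : u ∈ ((N ⊔ H : Subgroup G) : Set G) := by rw [hKH']; trivial
    rw [Subgroup.normal_mul] at this
    exact this
  by_cases h1 : h = 1
  · rw [h1, mul_one]; exact hk'
  exfalso
  let f : N → N := fun c => ⟨(c : G) * (h * (c : G)⁻¹ * h⁻¹),
    N.mul_mem c.2 (Subgroup.Normal.conj_mem ‹N.Normal› _ (N.inv_mem c.2) h)⟩
  have hf : Function.Injective f := by
    intro a b e
    have e' : (a : G) * (h * (a : G)⁻¹ * h⁻¹) = (b : G) * (h * (b : G)⁻¹ * h⁻¹) := congrArg Subtype.val e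
    have hc : h * ((b : G)⁻¹ * a) = ((b : G)⁻¹ * a) * h := by
      calc h * ((b : G)⁻¹ * a) = (b : G)⁻¹ * ((b : G) * (h * (b : G)⁻¹ * h⁻¹)) * (h * a) := by group
        _ = (b : G)⁻¹ * ((a : G) * (h * (a : G)⁻¹ * h⁻¹)) * (h * a) := by rw [e']
        _ = _ := by group
    have := hfpf h hh h1 _ (N.mul_mem (N.inv_mem b.2) a.2) hc
    exact Subtype.ext (inv_mul_eq_one.1 this).symm
  obtain ⟨c, hc⟩ := (Finite.injective_iff_surjective.1 hf) ⟨k', hk'⟩
  have hk : k' * h = (c : G) * h * (c : G)⁻¹ := by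
    rw [← show (c : G) * (h * (c : G)⁻¹ * h⁻¹) = k' from congrArg Subtype.val hc]; group
  rw [hk, Subgroup.mem_centralizer_singleton_iff] at hu
  apply hn1
  have hmem : (c : G)⁻¹ * n * c ∈ N := by
    simpa using Subgroup.Normal.conj_mem ‹N.Normal› _ hn (c : G)⁻¹
  have := hfpf h hh h1 _ hmem (by
    calc h * ((c : G)⁻¹ * n * c) = (c : G)⁻¹ * ((c : G) * h * (c : G)⁻¹ * n) * c := by group
      _ = (c : G)⁻¹ * (n * ((c : G) * h * (c : G)⁻¹)) * c := by rw [hu]
      _ = _ := by group)
  calc n = (c : G) * ((c : G)⁻¹ * n * c) * (c : G)⁻¹ := by group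
    _ = 1 := by rw [this]; group

end Cfsg.Agent.Char
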