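import Cfsg.Agent.Lib.Char.Coprime
import Cfsg.Agent.Lib.Char.Gallagher
import Cfsg.Agent.Lib.Char.FreeTrace
import Cfsg.Agent.Lib.Char.Clifford

/-!
# A fully ramified section under a cyclic Frobenius action: the congruence for the ramification
-/

set_option autoImplicit false
set_option linter.unusedSectionVars false
set_option linter.style.haveILetI false

namespace Cfsg.Agent.Char.FrobRam

open Cfsg
open scoped ComplexConjugate

universe u

theorem classInner_self_sum {H : Type u} [Group H] [Fintype H] (f : H → ℂ) :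
    classInner f f = (((Nat.card H : ℝ)⁻¹ * ∑ h : H, ‖f h‖ ^ 2 : ℝ) : ℂ) := by
  simp only [classInner, Complex.mul_conj']
  push_cast
  rfl

theorem sum_norm_sq_irr {H : Type u} [Group H] [Fintype H] {f : H → ℂ} (hf : IsIrrCharacter H f) :
    ∑ h : H, ‖f h‖ ^ 2 = (Nat.card H : ℝ) := by
  have h1 := irr_self hf
  rw [classInner_self_sum, Complex.ofReal_eq_one, inv_mul_eq_one₀ (Nat.cast_ne_zero.2 Nat.card_pos.ne')] at h1
  exact h1.symm

/-- Inducing an invariant character along a cyclic quotient. -/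
theorem exists_ext_set {M : Type u} [Group M] [Fintype M] (N : Subgroup M) [N.Normal] [Fintype N]
    (hcyc : IsCyclic (M ⧸ N)) (θ : IrrCharacter N)
    (hinv : ∀ (g : M) (n : N), (θ : N → ℂ) (MulAut.conjNormal g n) = (θ : N → ℂ) n) :
    ∃ C : Finset (IrrCharacter M), C.card = N.index ∧
      indFun N (θ : N → ℂ) = ∑ μ ∈ C, (μ : M → ℂ) ∧ ∀ μ ∈ C, (μ : M → ℂ) 1 = (θ : N → ℂ) 1 := by
  classical
  obtain ⟨η, hη, hr⟩ := exists_extension_cyclic N hcyc θ.2 hinv
  haveI := hcyc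
  haveI := finite_hom_units (M ⧸ N)
  haveI := Fintype.ofFinite ((M ⧸ N) →* ℂˣ)
  have hcomm : ∀ a b : M ⧸ N, a * b = b * a := fun a b => (IsCyclic.commGroup (α := M ⧸ N)).mul_comm a b
  have hn : Fintype.card ((M ⧸ N) →* ℂˣ) = N.index := by
    have h1 := Finset.sum_congr (s₁ := (Finset.univ : Finset ((M ⧸ N) →* ℂˣ))) rfl
      (g := fun θ : (M ⧸ N) →* ℂˣ => ((θ (1 : M ⧸ N) : ℂˣ) : ℂ)) (f := fun _ => (1 : ℂ)) fun θ _ => by simp
    rw [sum_hom_apply hcomm, if_pos rfl, Finset.sum_const, Finset.card_univ, nsmul_one,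
      ← Subgroup.index_eq_card] at h1
    exact_mod_cast h1
  let v : ((M ⧸ N) →* ℂˣ) → IrrCharacter M := fun l =>
    ⟨fun g => (l (g : M ⧸ N) : ℂ) * η g, isIrr_linear_mul hη (l.comp (QuotientGroup.mk' N))⟩
  have hind : indFun N (θ : N → ℂ) = ∑ l : (M ⧸ N) →* ℂˣ, (v l : M → ℂ) := by
    funext g
    rw [Finset.sum_apply, ← Finset.sum_mul, sum_hom_apply hcomm, ← Subgroup.index_eq_card]
    by_cases hg : g ∈ N
    · rw [if_pos ((QuotientGroup.eq_one_iff g).2 hg),
        show indFun N (θ : N → ℂ) g = _ from indFun_invariant N _ hinv ⟨g, hg⟩, ← hr]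
    · rw [if_neg fun e => hg ((QuotientGroup.eq_one_iff g).1 e), indFun_normal_not_mem N _ hg, zero_mul]
  have hnorm : ∑ l : (M ⧸ N) →* ℂˣ, ∑ l' : (M ⧸ N) →* ℂˣ, (if v l = v l' then (1 : ℕ) else 0) = N.index := by
    have h1 := norm_indFun_invariant N θ.2 hinv
    rw [hind, classInner_sum_left] at h1
    simp only [classInner_sum_right, irrC_orth] at h1
    exact_mod_cast h1
  have hinj : Function.Injective v := by
    intro a b hab
    by_contra hne
    have hlt : ∑ _l : (M ⧸ N) →* ℂˣ, 1 < ∑ l : (M ⧸ N) →* ℂˣ, ∑ l' : (M ⧸ N) →* ℂˣ, (if v l = v l' then (1 : ℕ) else 0) := by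
      refine Finset.sum_lt_sum (fun l _ => ?_) ⟨a, Finset.mem_univ _, ?_⟩
      · exact le_trans (by rw [if_pos rfl]) (Finset.single_le_sum
          (f := fun l' => if v l = v l' then (1 : ℕ) else 0) (fun _ _ => Nat.zero_le _) (Finset.mem_univ l))
      · refine lt_of_lt_of_le (show 1 < ∑ l' ∈ ({a, b} : Finset _), (if v a = v l' then (1 : ℕ) else 0) from ?_)
          (Finset.sum_le_univ_sum_of_nonneg fun _ => Nat.zero_le _)
        rw [Finset.sum_pair hne, if_pos rfl, if_pos hab]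
        norm_num
    rw [hnorm, Finset.sum_const, Finset.card_univ, smul_eq_mul, mul_one, hn] at hlt
    exact lt_irrefl _ hlt
  refine ⟨Finset.univ.image v, by rw [Finset.card_image_of_injective _ hinj, Finset.card_univ, hn], ?_, ?_⟩
  · rw [hind, Finset.sum_image fun a _ b _ e => hinj e]
  · intro μ hμ
    obtain ⟨l, -, rfl⟩ := Finset.mem_image.1 hμ
    show (l ((1 : M) : M ⧸ N) : ℂ) * η 1 = _
    rw [QuotientGroup.mk_one, map_one, Units.val_one, one_mul]
    exact hr 1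

/-- A nonconstant integer vector of least variance. -/
theorem dvd_of_variance {ι : Type*} (s : Finset ι) (a : ι → ℤ) {d : ℕ} (hd : s.card = d) (h2 : 2 ≤ d)
    (h : (d : ℤ) * ∑ i ∈ s, a i * a i - (∑ i ∈ s, a i) * ∑ i ∈ s, a i = (d : ℤ) - 1) :
    (d : ℤ) ∣ (∑ i ∈ s, a i) - 1 ∨ (d : ℤ) ∣ (∑ i ∈ s, a i) + 1 := by
  classical
  obtain ⟨i₀, hi₀, hmin⟩ := s.exists_min_image a (Finset.card_pos.1 (by omega))
  set b := a i₀ with hb
  set c : ι → ℤ := fun i => a i - b with hc
  have hc0 : ∀ i ∈ s, 0 ≤ c i := fun i hi => sub_nonneg.2 (hmin i hi)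
  have hS : ∑ i ∈ s, a i = ∑ i ∈ s, c i + d * b := by
    simp only [hc, Finset.sum_sub_distrib, Finset.sum_const, nsmul_eq_mul, hd]; ring
  have hT : ∑ i ∈ s, a i * a i = ∑ i ∈ s, c i * c i + 2 * b * ∑ i ∈ s, c i + d * (b * b) := by
    rw [Finset.mul_sum, ← Finset.sum_add_distrib, ← hd, ← nsmul_eq_mul, ← Finset.sum_const, ← Finset.sum_add_distrib]
    exact Finset.sum_congr rfl fun i _ => by simp only [hc]; ring
  set S := ∑ i ∈ s, c i with hSd
  set T := ∑ i ∈ s, c i * c i with hTd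
  have heq : (d : ℤ) * T - S * S = d - 1 := by rw [hS, hT] at h; linear_combination h
  set A := s.filter fun i => c i ≠ 0 with hA
  set k := A.card with hk
  have hSA : S = ∑ i ∈ A, c i :=
    (Finset.sum_filter_of_ne (p := fun i => c i ≠ 0) fun i _ hne => hne).symm
  have hTA : T = ∑ i ∈ A, c i * c i :=
    (Finset.sum_filter_of_ne (p := fun i => c i ≠ 0) fun i _ hne h0 => hne (by simp [h0])).symm
  have hkd : k < d := hd ▸ Finset.card_lt_card
    (Finset.filter_ssubset.2 ⟨i₀, hi₀, by simp [hc, hb]⟩)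
  have hcs : S * S ≤ (k : ℤ) * T := by
    have := Finset.sum_mul_sq_le_sq_mul_sq A (fun _ => (1 : ℤ)) c
    simp only [one_mul, one_pow, Finset.sum_const, nsmul_one] at this
    rw [hSA, hTA, ← sq]
    refine this.trans (le_of_eq ?_)
    rw [hk]
    congr 1
    exact Finset.sum_congr rfl fun i _ => sq (c i)
  have hone : ∀ i ∈ A, 1 ≤ c i := fun i hi => by
    have h1 := Finset.mem_filter.1 hi
    have := hc0 i h1.1
    omega
  have hkT : (k : ℤ) ≤ T := by
    rw [hTA, hk, ← nsmul_one, ← Finset.sum_const]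
    exact Finset.sum_le_sum fun i hi => by nlinarith [hone i hi]
  have hk1 : 1 ≤ k := by
    rcases Nat.eq_zero_or_pos k with h0 | h0
    · exfalso
      rw [hk, Finset.card_eq_zero] at h0
      rw [hSA, hTA, h0, Finset.sum_empty, Finset.sum_empty] at heq
      omega
    · exact h0
  have hk1' : (1 : ℤ) ≤ k := by exact_mod_cast hk1
  have hkd' : (k : ℤ) + 1 ≤ d := by exact_mod_cast hkd
  have hTk : T = k := by
    have e1 : ((d : ℤ) - k) * T ≤ d - 1 := by linarith
    have e2 : (d : ℤ) - 1 ≤ ((d : ℤ) - k) * k := by nlinarith [mul_nonneg (sub_nonneg.2 hk1') (sub_nonneg.2 hkd')]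
    exact le_antisymm (le_of_mul_le_mul_left (e1.trans e2) (by linarith)) hkT
  have hcone : ∀ i ∈ A, c i = 1 := by
    intro i hi
    by_contra hne
    have : (k : ℤ) < T := by
      rw [hTA, hk, ← nsmul_one, ← Finset.sum_const]
      exact Finset.sum_lt_sum (fun j hj => by nlinarith [hone j hj])
        ⟨i, hi, by have h9 : 2 ≤ c i := by have := hone i hi; omega
                   nlinarith⟩
    omega
  have hSk : S = k := by rw [hSA, Finset.sum_congr rfl hcone, Finset.sum_const, nsmul_one, hk]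
  have hprod : ((k : ℤ) - 1) * ((d : ℤ) - k - 1) = 0 := by rw [hTk, hSk] at heq; linear_combination heq
  rcases mul_eq_zero.1 hprod with h1 | h1
  · exact Or.inl ⟨b, by linarith [hS, hSk]⟩
  · exact Or.inr ⟨b + 1, by linarith [hS, hSk]⟩

variable {Γ : Type u} [Group Γ] [Fintype Γ]

theorem congruence (G N : Subgroup Γ) [hG : G.Normal] [hN : N.Normal] [Fintype G] [Fintype N] (hNG : N ≤ G)
    (hGlt : G ≠ ⊤) (hcyc : IsCyclic (Γ ⧸ G))
    (hfrob : ∀ x : Γ, x ∉ G → ∀ g : Γ, g ∈ G → x * g * x⁻¹ * g⁻¹ ∈ N → g ∈ N) (θ : IrrCharacter N)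
    (hinv : ∀ (x : Γ) (n : N), (θ : N → ℂ) ⟨x * n * x⁻¹, hN.conj_mem n n.2 x⟩ = (θ : N → ℂ) n)
    (χ : IrrCharacter G) (e : ℕ)
    (hram : indFun (N.subgroupOf G) (fun n : N.subgroupOf G => (θ : N → ℂ) ⟨(n : G), n.2⟩) =
      fun g => (e : ℂ) * (χ : G → ℂ) g) :
    (G.index : ℤ) ∣ (e : ℤ) - 1 ∨ (G.index : ℤ) ∣ (e : ℤ) + 1 := by
  classical
  set d := G.index with hd
  have hd2 : 2 ≤ d := by
    have h1 : d ≠ 0 := Subgroup.index_ne_zero_of_finite
    have h2 : d ≠ 1 := fun h => hGlt (Subgroup.index_eq_one.1 h)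
    omega
  -- the values of `χ`
  set NG := N.subgroupOf G with hNGd
  haveI : NG.Normal := hN.subgroupOf G
  have cardNG : Nat.card NG = Nat.card N := Nat.card_congr (Subgroup.subgroupOfEquivOfLe hNG).toEquiv
  set eN : NG ≃* N := Subgroup.subgroupOfEquivOfLe hNG
  set θG : NG → ℂ := fun n => (θ : N → ℂ) ⟨(n : G), n.2⟩ with hθG
  have hθGirr : IsIrrCharacter NG θG := isIrrCharacter_comp_equiv eN θ.2
  have hinvG : ∀ (g : G) (n : NG), θG (MulAut.conjNormal g n) = θG n := fun g n => by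
    refine Eq.trans ?_ (hinv (g : Γ) ⟨(n : G), n.2⟩)
    exact congrArg _ (Subtype.ext rfl)
  have he0 : (e : ℂ) ≠ 0 := fun h0 => by
    have h1 := congrFun hram 1
    rw [indFun_one, h0, zero_mul] at h1
    exact mul_ne_zero (Nat.cast_ne_zero.2 Subgroup.index_ne_zero_of_finite) (irr_one_ne_zero hθGirr) h1
  have hχoff : ∀ g : G, (g : Γ) ∉ N → (χ : G → ℂ) g = 0 := fun g hg => by
    have h1 := congrFun hram g
    rw [indFun_normal_not_mem NG θG hg] at h1
    exact (mul_eq_zero.1 h1.symm).resolve_left he0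
  have hχon : ∀ n : NG, (χ : G → ℂ) n = (NG.index : ℂ) / e * θG n := fun n => by
    have h1 := (indFun_invariant NG θG hinvG n).symm.trans (congrFun hram (n : G))
    field_simp
    linear_combination -h1
  have hidx : NG.index = e * e := by
    have h1 := sum_norm_sq_irr χ.2
    have h2 : ∑ g : G, ‖(χ : G → ℂ) g‖ ^ 2 = ∑ n : NG, ‖(χ : G → ℂ) n‖ ^ 2 := by
      rw [← Finset.sum_filter_add_sum_filter_not Finset.univ (fun g : G => g ∈ NG)]
      rw [Finset.sum_eq_zero (s := Finset.filter (fun g : G => ¬g ∈ NG) _) fun g hg => by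
        rw [hχoff g (Finset.mem_filter.1 hg).2]; simp, add_zero]
      exact Finset.sum_subtype _ (by simp) _
    rw [h2, Finset.sum_congr rfl fun n _ => by
      rw [hχon, norm_mul, norm_div, Complex.norm_natCast, Complex.norm_natCast, mul_pow],
      ← Finset.mul_sum, sum_norm_sq_irr hθGirr] at h1
    have he' : (e : ℝ) ≠ 0 := by exact_mod_cast he0
    have hN0 : (Nat.card NG : ℝ) ≠ 0 := Nat.cast_ne_zero.2 Nat.card_pos.ne'
    have hi0 : (NG.index : ℝ) ≠ 0 := Nat.cast_ne_zero.2 Subgroup.index_ne_zero_of_finite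
    have hI : (Nat.card G : ℝ) = (NG.index : ℝ) * Nat.card NG := by exact_mod_cast (Subgroup.index_mul_card NG).symm
    rw [hI] at h1
    field_simp at h1
    have h3 : (NG.index : ℝ) = (e : ℝ) * e := by nlinarith [h1]
    exact_mod_cast h3
  have hχN : ∀ n : NG, (χ : G → ℂ) n = (e : ℂ) * θG n := fun n => by
    rw [hχon, hidx]; push_cast; field_simp
  -- extend to the whole group
  have hχinv : ∀ (x : Γ) (g : G), (χ : G → ℂ) (MulAut.conjNormal x g) = (χ : G → ℂ) g := fun x g => by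
    by_cases hg : (g : Γ) ∈ N
    · have hg' : MulAut.conjNormal x g ∈ NG := by
        rw [hNGd, Subgroup.mem_subgroupOf, MulAut.conjNormal_apply]
        exact hN.conj_mem _ hg x
      rw [show (χ : G → ℂ) (MulAut.conjNormal x g) = _ from hχN ⟨_, hg'⟩,
        show (χ : G → ℂ) g = _ from hχN ⟨g, hg⟩]
      congr 1
      refine Eq.trans ?_ (hinv x ⟨g, hg⟩)
      exact congrArg _ (Subtype.ext rfl)
    · rw [hχoff g hg, hχoff]
      rw [MulAut.conjNormal_apply]
      intro hh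
      have := hN.conj_mem _ hh x⁻¹
      simp only [inv_inv] at this
      exact hg (by simpa [mul_assoc] using this)
  obtain ⟨ψ, hψ, hψG⟩ := exists_extension_cyclic G hcyc χ.2 hχinv
  -- the subgroup over `N`
  haveI := hcyc
  obtain ⟨q, hq⟩ := IsCyclic.exists_generator (α := Γ ⧸ G)
  obtain ⟨x, rfl⟩ := QuotientGroup.mk_surjective q
  have hord : orderOf (x : Γ ⧸ G) = d := by
    rw [orderOf_eq_card_of_forall_mem_zpowers hq, hd, Subgroup.index_eq_card]
  have hxG : x ∉ G := fun h => by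
    rw [(QuotientGroup.eq_one_iff x).2 h, orderOf_one] at hord
    omega
  have hxd : x ^ d ∈ N := by
    refine hfrob x hxG _ ?_ ?_
    · rw [← QuotientGroup.eq_one_iff, QuotientGroup.mk_pow, ← hord, pow_orderOf_eq_one]
    · rw [show x * x ^ d * x⁻¹ * (x ^ d)⁻¹ = 1 by group]
      exact N.one_mem
  set M := N ⊔ Subgroup.zpowers x with hM
  have hMform : ∀ m ∈ M, ∃ n ∈ N, ∃ j : ℤ, m = n * x ^ j := fun m hm => by
    have hm' : m ∈ ((N ⊔ Subgroup.zpowers x : Subgroup Γ) : Set Γ) := hm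
    rw [Subgroup.normal_mul] at hm'
    obtain ⟨n, hn, y, hy, rfl⟩ := hm'
    obtain ⟨j, rfl⟩ := Subgroup.mem_zpowers_iff.1 hy
    exact ⟨n, hn, j, rfl⟩
  have hMG : ∀ m ∈ M, m ∈ G → m ∈ N := fun m hm hmG => by
    obtain ⟨n, hn, j, rfl⟩ := hMform m hm
    have h1 : x ^ j ∈ G := (G.mul_mem_cancel_left (hNG hn)).1 hmG
    rw [← QuotientGroup.eq_one_iff, QuotientGroup.mk_zpow] at h1
    obtain ⟨i, rfl⟩ := orderOf_dvd_iff_zpow_eq_one.2 h1
    rw [hord, zpow_mul, zpow_natCast]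
    exact N.mul_mem hn (N.zpow_mem hxd i)
  set NM := N.subgroupOf M with hNM
  haveI : NM.Normal := hN.subgroupOf M
  let π : M →* Γ ⧸ G := (QuotientGroup.mk' G).comp M.subtype
  have hπ : Function.Surjective π := fun y => by
    obtain ⟨j, rfl⟩ := Subgroup.mem_zpowers_iff.1 (hq y)
    exact ⟨⟨x ^ j, Subgroup.mem_sup_right ⟨j, rfl⟩⟩, rfl⟩
  have hker : π.ker = NM := by
    ext m
    rw [MonoidHom.mem_ker, hNM, Subgroup.mem_subgroupOf]
    show ((m : Γ) : Γ ⧸ G) = 1 ↔ _
    rw [QuotientGroup.eq_one_iff]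
    exact ⟨hMG m m.2, fun h => hNG h⟩
  let eQ : M ⧸ NM ≃* Γ ⧸ G :=
    (QuotientGroup.quotientMulEquivOfEq hker.symm).trans (QuotientGroup.quotientKerEquivOfSurjective π hπ)
  have hMidx : NM.index = d := by
    rw [Subgroup.index_eq_card, hd, Subgroup.index_eq_card, Nat.card_congr eQ.toEquiv]
  have hMcyc : IsCyclic (M ⧸ NM) := eQ.isCyclic.2 hcyc
  have cardNM : Nat.card NM = Nat.card N := Nat.card_congr (Subgroup.subgroupOfEquivOfLe le_sup_left).toEquiv
  have cardM : Nat.card M = d * Nat.card N := by rw [← Subgroup.index_mul_card NM, hMidx, cardNM]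
  haveI : Fintype M := Fintype.ofFinite _
  haveI : Fintype NM := Fintype.ofFinite _
  let θM : IrrCharacter NM := ⟨fun n => (θ : N → ℂ) (Subgroup.subgroupOfEquivOfLe le_sup_left n),
    isIrrCharacter_comp_equiv _ θ.2⟩
  have hinvM : ∀ (g : M) (n : NM), (θM : NM → ℂ) (MulAut.conjNormal g n) = (θM : NM → ℂ) n := fun g n => by
    refine Eq.trans ?_ (hinv (g : Γ) (Subgroup.subgroupOfEquivOfLe le_sup_left n))
    exact congrArg _ (Subtype.ext rfl)
  obtain ⟨C, hC, hind, hC1⟩ := exists_ext_set NM hMcyc θM hinvM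
  set Ψ : M → ℂ := fun m => ψ m with hΨ
  have hΨc : IsCharacter M Ψ := isCharacter_comp M.subtype (irr_isCharacter hψ)
  have hΨN : ∀ n : NM, Ψ n = (e : ℂ) * (θM : NM → ℂ) n := fun n => by
    have h1 := hχN (eN.symm (Subgroup.subgroupOfEquivOfLe le_sup_left n))
    rw [← hψG] at h1
    exact h1
  choose a ha using fun μ : IrrCharacter M => classInner_natCast hΨc (irr_isCharacter μ.2)
  have hsum : ∑ μ ∈ C, a μ = e := by
    have h1 : classInner Ψ (indFun NM (θM : NM → ℂ)) = e := by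
      rw [frobenius_right NM _ (isClassFunction_character hΨc),
        show (fun n : NM => Ψ n) = (e : ℂ) • (θM : NM → ℂ) from funext hΨN, classInner_smul_left, irr_self θM.2, mul_one]
    rw [hind, classInner_sum_right, Finset.sum_congr rfl fun μ _ => ha μ] at h1
    exact_mod_cast h1
  have hexp := char_expansion hΨc
  simp only [ha] at hexp
  have hout : ∀ μ, μ ∉ C → a μ = 0 := by
    intro μ hμ
    have h1 := congrFun hexp 1
    simp only [Finset.sum_apply, Pi.smul_apply, smul_eq_mul] at h1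
    have hθd : (θM : NM → ℂ) 1 = (deg (θM : NM → ℂ) : ℂ) := char_one_eq_deg (irr_isCharacter θM.2)
    have e1 : Ψ 1 = ((e * deg (θM : NM → ℂ) : ℕ) : ℂ) := by
      rw [Nat.cast_mul, ← hθd, ← hΨN 1]; rfl
    rw [e1, ← Finset.sum_add_sum_compl C, Finset.sum_congr rfl fun μ hμ => by rw [hC1 μ hμ, hθd, ← Nat.cast_mul],
      Finset.sum_congr rfl (s₁ := Cᶜ) fun μ _ => by rw [char_one_eq_deg (irr_isCharacter μ.2), ← Nat.cast_mul],
      ← Nat.cast_sum, ← Nat.cast_sum, ← Nat.cast_add, Nat.cast_inj, ← Finset.sum_mul, hsum] at h1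
    have h2 : ∑ μ ∈ Cᶜ, a μ * deg (μ : M → ℂ) = 0 := by omega
    have h3 := Finset.sum_eq_zero_iff.1 h2 μ (Finset.mem_compl.2 hμ)
    exact (mul_eq_zero.1 h3).resolve_right (deg_pos μ.2).ne'
  have hΨnorm : classInner Ψ Ψ = ((∑ μ ∈ C, a μ * a μ : ℕ) : ℂ) := by
    have h1 : classInner Ψ Ψ = ((∑ μ, a μ * a μ : ℕ) : ℂ) := by
      conv_lhs => arg 1; rw [hexp]
      rw [classInner_sum_left, Nat.cast_sum]
      refine Finset.sum_congr rfl fun μ _ => ?_
      rw [classInner_smul_left, ← classInner_symm, ha, map_natCast, Nat.cast_mul]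
    rw [h1, ← Finset.sum_subset (Finset.subset_univ C) fun μ _ hμ => by rw [hout μ hμ, zero_mul]]
  -- count outside `G`
  haveI : Fintype (G ⧸ NG) := Fintype.ofFinite _
  let S : Finset M := Finset.univ.filter fun m => (m : Γ) ∉ N
  let Φ : (G ⧸ NG) × M → Γ := fun p => ((p.1.out : G) : Γ) * p.2 * ((p.1.out : G) : Γ)⁻¹
  have hScard : S.card = (d - 1) * Nat.card N := by
    have h1 : (Finset.univ.filter fun m : M => (m : Γ) ∈ N).card = Nat.card N := by
      rw [← cardNM, Nat.card_eq_fintype_card (α := NM), ← Fintype.card_subtype]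
      exact Fintype.card_congr (Equiv.subtypeEquivRight fun m => Iff.rfl)
    have h2 := Finset.card_filter_add_card_filter_not (s := (Finset.univ : Finset M)) (fun m : M => (m : Γ) ∈ N)
    rw [h1, Finset.card_univ, ← Nat.card_eq_fintype_card, cardM] at h2
    show (Finset.univ.filter fun m : M => (m : Γ) ∉ N).card = _
    rw [Nat.sub_mul, one_mul]
    omega
  have hinj : Set.InjOn Φ ↑((Finset.univ : Finset (G ⧸ NG)) ×ˢ S) := by
    rintro ⟨p, m⟩ hpm ⟨p', m'⟩ hpm' heq
    have hmN : (m : Γ) ∉ N := (Finset.mem_filter.1 (Finset.mem_product.1 hpm).2).2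
    simp only [Φ] at heq
    set g : Γ := ((p'.out : G) : Γ)⁻¹ * (p.out : G) with hg
    have hgG : g ∈ G := G.mul_mem (G.inv_mem (p'.out : G).2) (p.out : G).2
    have h1 : g * m * g⁻¹ = m' := by
      calc g * m * g⁻¹ = ((p'.out : G) : Γ)⁻¹ * (((p.out : G) : Γ) * m * ((p.out : G) : Γ)⁻¹) * (p'.out : G) := by
            rw [hg]; group
        _ = _ := by rw [heq]; group
    have hmG : (m : Γ) ∉ G := fun h => hmN (hMG m m.2 h)
    have h2 : (m' : Γ) * (m : Γ)⁻¹ ∈ N := by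
      refine hMG _ (M.mul_mem m'.2 (M.inv_mem m.2)) ?_
      rw [← h1, show g * m * g⁻¹ * (m : Γ)⁻¹ = g * ((m : Γ) * g⁻¹ * (m : Γ)⁻¹) by group]
      exact G.mul_mem hgG (hG.conj_mem _ (G.inv_mem hgG) _)
    have h3 : g ∈ N := by
      refine hfrob m hmG g hgG ?_
      rw [← h1] at h2
      have := hN.conj_mem _ h2 g
      have h4 := N.inv_mem h2
      rw [show (m : Γ) * g * (m : Γ)⁻¹ * g⁻¹ = (g * m * g⁻¹ * (m : Γ)⁻¹)⁻¹ by group]
      exact h4
    have hp : p = p' := by
      rw [← QuotientGroup.out_eq' p, ← QuotientGroup.out_eq' p', eq_comm, QuotientGroup.eq]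
      exact Subgroup.mem_subgroupOf.2 h3
    subst hp
    exact Prod.ext rfl (Subtype.ext (by simpa using heq))
  have himg : ((Finset.univ : Finset (G ⧸ NG)) ×ˢ S).image Φ = Finset.univ.filter fun y : Γ => y ∉ G := by
    refine Finset.eq_of_subset_of_card_le (fun y hy => ?_) ?_
    · obtain ⟨⟨p, m⟩, hpm, rfl⟩ := Finset.mem_image.1 hy
      refine Finset.mem_filter.2 ⟨Finset.mem_univ _, fun h => ?_⟩
      have hmN : (m : Γ) ∉ N := (Finset.mem_filter.1 (Finset.mem_product.1 hpm).2).2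
      refine hmN (hMG m m.2 ?_)
      have := hG.conj_mem _ h ((p.out : G) : Γ)⁻¹
      simpa [Φ, mul_assoc] using this
    · rw [Finset.card_image_of_injOn hinj, Finset.card_product, hScard, Finset.card_univ,
        ← Nat.card_eq_fintype_card, ← Subgroup.index_eq_card, Finset.filter_not, Finset.card_sdiff,
        Finset.inter_univ, Finset.card_univ, ← Fintype.card_subtype, ← Nat.card_eq_fintype_card,
        ← Nat.card_eq_fintype_card, ← Subgroup.index_mul_card G, ← hd,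
        ← Subgroup.index_mul_card NG, cardNG, mul_left_comm]
      rw [Nat.sub_mul, one_mul, Nat.mul_sub]
  have hout_sum : ∑ y ∈ Finset.univ.filter (fun y : Γ => y ∉ G), ‖ψ y‖ ^ 2 = ((d : ℝ) - 1) * Nat.card G := by
    have h1 := sum_norm_sq_irr hψ
    rw [← Finset.sum_filter_add_sum_filter_not Finset.univ (fun y : Γ => y ∈ G),
      Finset.sum_subtype (Finset.univ.filter fun y : Γ => y ∈ G) (p := fun y => y ∈ G) (by simp),
      Finset.sum_congr rfl fun g _ => by rw [hψG g], sum_norm_sq_irr χ.2] at h1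
    have h2 : (Nat.card Γ : ℝ) = (d : ℝ) * Nat.card G := by exact_mod_cast (Subgroup.index_mul_card G).symm
    linarith
  have hS : (∑ m ∈ S, ‖Ψ m‖ ^ 2) = ((d : ℝ) - 1) * Nat.card N := by
    rw [← himg, Finset.sum_image hinj, Finset.sum_product] at hout_sum
    have h1 : ∀ p : G ⧸ NG, ∑ m ∈ S, ‖ψ (Φ (p, m))‖ ^ 2 = ∑ m ∈ S, ‖Ψ m‖ ^ 2 := fun p =>
      Finset.sum_congr rfl fun m _ => by
        rw [hΨ]
        simp only [Φ]
        rw [isClassFunction_character (irr_isCharacter hψ)]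
    rw [Finset.sum_congr rfl fun p _ => h1 p, Finset.sum_const, Finset.card_univ, nsmul_eq_mul,
      ← Nat.card_eq_fintype_card, ← Subgroup.index_eq_card] at hout_sum
    have h2 : (Nat.card G : ℝ) = (NG.index : ℝ) * Nat.card N := by
      rw [← cardNG]; exact_mod_cast (Subgroup.index_mul_card NG).symm
    rw [h2] at hout_sum
    refine mul_left_cancel₀ (a := (NG.index : ℝ)) (Nat.cast_ne_zero.2 Subgroup.index_ne_zero_of_finite) ?_
    linarith
  have hM2 : ∑ m : M, ‖Ψ m‖ ^ 2 = ((e : ℝ) * e + ((d : ℝ) - 1)) * Nat.card N := by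
    rw [← Finset.sum_filter_add_sum_filter_not Finset.univ (fun m : M => (m : Γ) ∈ N), hS]
    have h1 : ∑ m ∈ Finset.univ.filter (fun m : M => (m : Γ) ∈ N), ‖Ψ m‖ ^ 2 = (e : ℝ) * e * Nat.card N := by
      rw [Finset.sum_subtype (Finset.univ.filter fun m : M => (m : Γ) ∈ N) (p := fun m => m ∈ NM)
          (by simp [hNM, Subgroup.mem_subgroupOf]),
        Finset.sum_congr rfl fun n _ => by rw [hΨN n, norm_mul, Complex.norm_natCast, mul_pow],
        ← Finset.mul_sum, sum_norm_sq_irr θM.2, cardNM, sq]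
    rw [h1]; ring
  rw [classInner_self_sum, hM2, cardM, ← Complex.ofReal_natCast, Complex.ofReal_inj] at hΨnorm
  have hN0 : (Nat.card N : ℝ) ≠ 0 := Nat.cast_ne_zero.2 Nat.card_pos.ne'
  have hd0 : (d : ℝ) ≠ 0 := Nat.cast_ne_zero.2 (by omega)
  push_cast at hΨnorm
  field_simp at hΨnorm
  have hfin : (d : ℤ) * (∑ μ ∈ C, (a μ : ℤ) * a μ) = (e : ℤ) * e + ((d : ℤ) - 1) := by
    have h9 : ((d : ℤ) : ℝ) * ((∑ μ ∈ C, (a μ : ℤ) * a μ : ℤ) : ℝ) = (((e : ℤ) * e + ((d : ℤ) - 1) : ℤ) : ℝ) := by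
      push_cast
      simp only [← sq]
      linarith
    exact_mod_cast h9
  have hsum' : ∑ μ ∈ C, (a μ : ℤ) = e := by exact_mod_cast hsum
  have := dvd_of_variance C (fun μ => (a μ : ℤ)) (hC.trans hMidx) hd2 (by rw [hsum']; linarith)
  rwa [hsum'] at this

end Cfsg.Agent.Char.FrobRam
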