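import Cfsg.Agent.Lib.Char.FrobSylowOrbit
import Mathlib

/-!
# Orbit sums as class sums
-/

set_option autoImplicit false
set_option linter.unusedSectionVars false

namespace Cfsg.Agent.Char

open Cfsg
open scoped ComplexConjugate

universe u

open scoped Classical in
/-- Averaging along an equivariant map from a group. -/
theorem sum_equivariant_image {N α : Type*} [Group N] [Fintype N] (f : N → α) (act : N → α → α)
    (hact : ∀ a b, f (a * b) = act a (f b)) (g : α → ℂ) (I : Finset α)
    (hmemI : ∀ x, x ∈ I ↔ ∃ n, f n = x) :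
    (I.card : ℂ) * ∑ n, g (f n) = (Nat.card N : ℂ) * ∑ x ∈ I, g x := by
  have hI : I = (Finset.univ : Finset N).image f := by
    ext x
    simp [hmemI]
  set k := ((Finset.univ : Finset N).filter fun n => f n = f 1).card with hk
  have hfib : ∀ x ∈ I, ((Finset.univ : Finset N).filter fun n => f n = x).card = k := by
    intro x hx
    obtain ⟨a, rfl⟩ := (hmemI x).mp hx
    refine Finset.card_bij' (fun n _ => a⁻¹ * n) (fun n _ => a * n) (fun n hn => ?_)
      (fun n hn => ?_) (fun n _ => mul_inv_cancel_left a n) (fun n _ => inv_mul_cancel_left a n)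
    · simp only [Finset.mem_filter, Finset.mem_univ, true_and] at hn ⊢
      rw [hact, hn, ← hact, inv_mul_cancel]
    · simp only [Finset.mem_filter, Finset.mem_univ, true_and] at hn ⊢
      rw [hact, hn, ← hact, mul_one]
  have hN : (Nat.card N : ℂ) = (I.card : ℂ) * k := by
    have h1 := Finset.card_eq_sum_card_image f (Finset.univ : Finset N)
    rw [← hI, Finset.sum_congr rfl hfib, Finset.sum_const, smul_eq_mul, Finset.card_univ,
      ← Nat.card_eq_fintype_card] at h1
    rw [h1]
    push_cast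
    ring
  have hsum : ∑ n, g (f n) = (k : ℂ) * ∑ x ∈ I, g x := by
    rw [← Finset.sum_fiberwise_of_maps_to (t := I) (g := f) fun n hn =>
      (hmemI _).mpr ⟨n, rfl⟩, Finset.mul_sum]
    refine Finset.sum_congr rfl fun x hx => ?_
    rw [Finset.sum_congr rfl fun n hn => congrArg g (Finset.mem_filter.mp hn).2, Finset.sum_const,
      hfib x hx, nsmul_eq_mul]
  rw [hsum, hN]
  ring

variable {G : Type u} [Group G] [Fintype G] {p : ℕ} [Fact p.Prime] {P : Sylow p G} {m : ℕ}

open scoped Classical in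
/-- The elements of `P` conjugate to `a`. -/
noncomputable def clP (P : Sylow p G) (a : G) : Finset ↥(P : Subgroup G) :=
  Finset.univ.filter fun w => IsConj a (w : G)

theorem mem_clP {a : G} {w : ↥(P : Subgroup G)} : w ∈ clP P a ↔ IsConj a (w : G) := by
  simp [clP]

namespace FrobSylow

theorem card_clP (h : FrobSylow P m) {y : ↥(P : Subgroup G)} (hy : (y : G) ≠ 1) :
    (clP P (y : G)).card = m := by
  classical
  simp only [clP]
  rw [← h.card_conj_class hy]

variable [Fintype (↥(P : Subgroup G) →* ℂˣ)]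

theorem orbSum_eq_class (h : FrobSylow P m) (hm : m ≠ 0) {ψ : ↥(P : Subgroup G) →* ℂˣ}
    (hψ : ψ ≠ 1) {y : ↥(P : Subgroup G)} (hy : (y : G) ≠ 1) :
    orbSum ψ y = ∑ w ∈ clP P (y : G), ((ψ w : ℂˣ) : ℂ) := by
  classical
  set N := Subgroup.normalizer ((P : Subgroup G) : Set G) with hN
  have h1 := sum_equivariant_image (fun n : ↥N => twP n ψ) (fun n φ => twP n φ)
    (fun a b => (twP_twP a b ψ).symm) (fun φ => ((φ y : ℂˣ) : ℂ)) (orbP ψ) (fun φ => mem_orbP)
  rw [h.card_orbP hψ] at h1
  have h2 := sum_equivariant_image (fun n : ↥N => conjP n⁻¹ y) (fun a w => conjP a⁻¹ w)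
    (fun a b => Subtype.ext (by
      simp only [coe_conjP, Subgroup.coe_inv, Subgroup.coe_mul]
      group)) (fun w => ((ψ w : ℂˣ) : ℂ)) (clP P (y : G)) (fun w => by
    simp only [mem_clP]
    constructor
    · intro hw
      obtain ⟨n, hn, he⟩ := h.fusion hw
      exact ⟨⟨n, hn⟩, Subtype.ext (by simp [coe_conjP, ← he])⟩
    · rintro ⟨n, rfl⟩
      exact isConj_iff.mpr ⟨(n : G), by simp [coe_conjP]⟩)
  rw [h.card_clP hy] at h2
  have e : ∑ n : ↥N, ((twP n ψ y : ℂˣ) : ℂ) = ∑ n : ↥N, ((ψ (conjP n⁻¹ y) : ℂˣ) : ℂ) :=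
    Fintype.sum_equiv (Equiv.inv ↥N) _ _ fun n => by simp [twP_apply]
  have hN0 : (Nat.card ↥N : ℂ) ≠ 0 := Nat.cast_ne_zero.mpr Nat.card_pos.ne'
  refine mul_left_cancel₀ hN0 ?_
  rw [orbSum, ← h1, ← h2, e]

end FrobSylow

end Cfsg.Agent.Char
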