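import Cfsg.Agent.Lib.Char.FrobSylowThree
import Mathlib

/-!
# An involution generating the group as normal subgroup
-/

set_option autoImplicit false
set_option linter.unusedSectionVars false

namespace Cfsg.Agent.Char

open Cfsg
open scoped ComplexConjugate

universe u

variable {G : Type u} [Group G] [Fintype G] {M : Ideal AlgInt} {p : ℕ} [Fact p.Prime]
  {P : Sylow p G} [Fintype (↥(P : Subgroup G) →* ℂˣ)] {r : ℕ}
  {rep : Fin r → (↥(P : Subgroup G) →* ℂˣ)} {idx : (↥(P : Subgroup G) →* ℂˣ) → Fin r}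
  {X : Finset (IrrCharacter G)} {μ : Fin r → IrrCharacter G} {a : IrrCharacter G → ℤ} {δ : ℤ}

namespace FrobSylow

open scoped Classical in
theorem exists_three (hX : PrincipalExc M 3 rep X μ a 0 δ) :
    ∃ χ₂ χ₃ : IrrCharacter G, χ₂ ≠ χ₃ ∧
      X.erase ⟨fun _ => 1, isIrrCharacter_one⟩ = {χ₂, χ₃} ∧ X.card = 3 ∧
      ∀ χ ∈ X, a χ = 1 ∨ a χ = -1 := by
  set e1 : IrrCharacter G := ⟨fun _ => 1, isIrrCharacter_one⟩
  have hn := hX.norm
  have hδ : δ ^ 2 = 1 := by rcases hX.sign with e | e <;> simp [e]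
  have h3 : ∑ χ ∈ X.erase e1, a χ ^ 2 = 2 := by
    have h1 := Finset.add_sum_erase X (fun χ => a χ ^ 2) hX.one_mem
    rw [hX.one_val, one_pow] at h1
    push_cast at hn
    linear_combination hn + h1 - hδ
  have hpos : ∀ χ ∈ X.erase e1, (1 : ℤ) ≤ a χ ^ 2 := fun χ hχ =>
    sq_pos_of_ne_zero (hX.a_ne χ (Finset.mem_of_mem_erase hχ))
  have hle : ((X.erase e1).card : ℤ) ≤ 2 := by
    rw [← h3, Finset.card_eq_sum_ones, Nat.cast_sum]
    exact Finset.sum_le_sum fun χ hχ => by simpa using hpos χ hχ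
  have hle' : (X.erase e1).card ≤ 2 := by exact_mod_cast hle
  have hcard : (X.erase e1).card = 2 := by
    interval_cases hc : (X.erase e1).card
    · rw [Finset.card_eq_zero.mp hc] at h3; simp at h3
    · obtain ⟨χ, hχ⟩ := Finset.card_eq_one.mp hc
      rw [hχ, Finset.sum_singleton] at h3
      have hl : a χ ≤ 1 ∧ -1 ≤ a χ := by constructor <;> nlinarith
      have : a χ = -1 ∨ a χ = 0 ∨ a χ = 1 := by omega
      rcases this with e | e | e <;> rw [e] at h3 <;> norm_num at h3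
    · rfl
  obtain ⟨χ₂, χ₃, hne, heq⟩ := Finset.card_eq_two.mp hcard
  refine ⟨χ₂, χ₃, hne, heq, ?_, fun χ hχ => ?_⟩
  · rw [← Finset.card_erase_add_one hX.one_mem, hcard]
  · by_cases he : χ = e1
    · exact Or.inl (he ▸ hX.one_val)
    · have h2 := hpos χ₂ (heq ▸ Finset.mem_insert_self _ _)
      have h4 := hpos χ₃ (heq ▸ Finset.mem_insert_of_mem (Finset.mem_singleton_self _))
      rw [heq, Finset.sum_pair hne] at h3
      have hmem : χ = χ₂ ∨ χ = χ₃ := by
        simpa [heq] using Finset.mem_erase.mpr ⟨he, hχ⟩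
      refine sq_eq_one_iff.mp ?_
      rcases hmem with rfl | rfl <;> omega

open scoped Classical in
theorem involution_signs (hM : IsPModular p M) (h : FrobSylow P 3) (hP : 4 < Nat.card P)
    (hI : OrbitIndex 3 rep idx) (hX : PrincipalExc M 3 rep X μ a 0 δ) {t : G} (ht : orderOf t = 2)
    (htop : ∀ K : Subgroup G, K.Normal → t ∈ K → K = ⊤) {χ₂ χ₃ : IrrCharacter G} (hne : χ₂ ≠ χ₃)
    (hpair : X.erase ⟨fun _ => 1, isIrrCharacter_one⟩ = {χ₂, χ₃}) (i₀ : Fin r) :
    (if a χ₂ = -1 then 1 else 0) + (if a χ₃ = -1 then 1 else 0) + (if δ = 1 then 1 else 0) = (2 : ℕ) ∧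
      IsSquare (charDegree (μ i₀ : G → ℂ) *
        (charDegree (χ₂ : G → ℂ) * charDegree (χ₃ : G → ℂ))) := by
  have hp : p.Prime := Fact.out
  have hP' := pmod_prime hM
  set e1 : IrrCharacter G := ⟨fun _ => 1, isIrrCharacter_one⟩ with he1
  have hm2 : χ₂ ∈ X.erase e1 := hpair ▸ Finset.mem_insert_self _ _
  have hm3 : χ₃ ∈ X.erase e1 := hpair ▸ Finset.mem_insert_of_mem (Finset.mem_singleton_self _)
  obtain ⟨-, -, -, -, -, ha⟩ := exists_three hX
  obtain ⟨y₂, hy₂, hvan, hA⟩ := h.exists_good_element hP ht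
  choose u hu using fun χ : IrrCharacter G =>
    char_involution_int (irr_isCharacter χ.2) (t := t) (by rw [← ht, pow_orderOf_eq_one])
  -- the number of factorisations into two conjugates of `t`
  set F : G → ℂ := conv (classInd t) (classInd t) with hF
  have hclI : IsClassFunction G (classInd t : G → ℂ) := (intClassFun_classInd hP' t).1
  have hclF : IsClassFunction G F := isClassFunction_conv hclI hclI
  set K : ℕ := Nat.card {x : G // IsConj t x} with hK
  have hlam : ∀ χ : IrrCharacter G, lam (χ : G → ℂ) (classInd t) =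
      (K : ℂ) * (u χ : ℂ) / (χ : G → ℂ) 1 := fun χ => by
    rw [lam, ← hu]
    simp only [classInd, ite_mul, one_mul, zero_mul, ← Finset.sum_filter]
    rw [Finset.sum_congr rfl (g := fun _ => (χ : G → ℂ) t) fun x hx => ?_, Finset.sum_const,
      nsmul_eq_mul, hK, Nat.card_eq_fintype_card, Fintype.card_subtype]
    obtain ⟨c, rfl⟩ := isConj_iff.mp (Finset.mem_filter.mp hx).2
    rw [isClassFunction_character (irr_isCharacter χ.2)]
  have hin : ∀ χ : IrrCharacter G, classInner F (χ : G → ℂ) =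
      ((Nat.card G : ℂ)⁻¹ * (K : ℂ) ^ 2) * ((u χ : ℂ) ^ 2 / (χ : G → ℂ) 1) := fun χ => by
    have hreal : ∀ g, conj (F g) = F g := fun g => by
      simp only [hF, conv, map_sum, map_mul, classInd, apply_ite conj, map_one, map_zero]
    have h1 : lam (χ : G → ℂ) F = ((K : ℂ) * (u χ : ℂ) / (χ : G → ℂ) 1) ^ 2 := by
      rw [hF, lam_conv χ.2 hclI hclI, hlam, pow_two]
    rw [lam, div_eq_iff (irr_one_ne_zero χ.2)] at h1
    have h2 : ∑ g : G, F g * conj ((χ : G → ℂ) g) = conj (∑ g : G, F g * (χ : G → ℂ) g) := by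
      rw [map_sum]
      simp only [map_mul, hreal]
    obtain ⟨q, hq⟩ := charOne_eq_natCast (irr_isCharacter χ.2)
    rw [classInner, h2, h1, hq]
    simp only [map_mul, map_pow, map_div₀, map_natCast, map_intCast]
    have hq0 : (q : ℂ) ≠ 0 := hq ▸ irr_one_ne_zero χ.2
    field_simp
  have hA0 : ∑ χ : IrrCharacter G with χ ∈ principalBlock M G,
      (u χ : ℂ) ^ 2 / (χ : G → ℂ) 1 * (χ : G → ℂ) (y₂ : G) = 0 := by
    have h1 := blockPart_section_eq hM (ppower (P := P) y₂) (isPBlock_principalBlock M) hclF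
      (1 : Subgroup.centralizer ({(y₂ : G)} : Set G)) (by simp [hp.ne_one])
    rw [OneMemClass.coe_one, mul_one] at h1
    replace h1 := h1.trans (Finset.sum_eq_zero fun b hb => ?_)
    · rw [blockPart_eq] at h1
      simp only [hin, mul_assoc, ← Finset.mul_sum] at h1
      refine (mul_eq_zero.mp ((mul_eq_zero.mp h1).resolve_left
        (inv_ne_zero (Nat.cast_ne_zero.mpr Nat.card_pos.ne')))).resolve_left (pow_ne_zero 2 ?_)
      exact Nat.cast_ne_zero.mpr (card_conjClass_ne_zero t)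
    · rw [blockPart_regular_congr hM (Finset.mem_filter.mp hb).2.1 (f' := 0) (fun v hv => ?_)
        (by simp [hp.ne_one]), blockPart_zero, Pi.zero_apply]
      show F ((y₂ : G) * (v : G)) = 0
      simp only [hF, conv, classInd]
      refine Finset.sum_eq_zero fun y _ => ?_
      by_cases h1 : IsConj t y
      · by_cases h2 : IsConj t (y⁻¹ * ((y₂ : G) * (v : G)))
        · exact absurd (mul_inv_cancel_left y _) (hvan v hv y _ h1 h2)
        · rw [if_neg h2, mul_zero]
      · rw [if_neg h1, zero_mul]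
  have hy₂' := mem_nonOne.mp hy₂
  have hpart : ∀ Φ : IrrCharacter G → ℂ, ∑ χ : IrrCharacter G with χ ∈ principalBlock M G, Φ χ =
      Φ e1 + Φ χ₂ + Φ χ₃ + ∑ i, Φ (μ i) := by
    intro Φ
    have hset : (Finset.univ.filter fun χ => χ ∈ principalBlock M G) =
        X ∪ Finset.univ.image μ := by
      ext χ
      simp [hX.mem_iff]
    rw [hset, Finset.sum_union, Finset.sum_image fun i _ j _ e => hX.inj e,
      ← Finset.add_sum_erase X Φ hX.one_mem, hpair, Finset.sum_pair hne]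
    · ring
    · refine Finset.disjoint_left.mpr fun χ hχ hχ' => ?_
      obtain ⟨i, -, rfl⟩ := Finset.mem_image.mp hχ'
      exact hX.notMem i hχ
  set q : ℕ := deg (μ i₀ : G → ℂ) with hq
  have hqi : ∀ i, (μ i : G → ℂ) 1 = (q : ℂ) := fun i => by
    rw [hX.reg i i₀ 1 (by simp [hp.ne_one]), char_one_eq_deg (irr_isCharacter (μ i₀).2)]
  -- the exceptional contributions
  obtain ⟨w, hw0, hw1, hw2⟩ : ∃ w : ℤ, (δ = -1 → w ≠ q) ∧
      (1 + a χ₂ * u χ₂ + a χ₃ * u χ₃ - δ * w = 0) ∧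
      ∑ i, (u (μ i) : ℂ) ^ 2 * (μ i : G → ℂ) (y₂ : G) = -(δ : ℂ) * (w : ℂ) ^ 2 := by
    by_cases htp : p ∣ orderOf t
    · -- `p = 2`
      have hp2 : p = 2 := (Nat.prime_dvd_prime_iff_eq hp Nat.prime_two).mp (ht ▸ htp)
      obtain ⟨y₁, hy₁, hc⟩ := exists_conj_ppt_sing (P := P) htp
      rw [ppt_of_ppower hp ⟨1, by rw [ht, hp2, pow_one]⟩] at hc
      have hat : ∀ χ : IrrCharacter G, (χ : G → ℂ) (y₁ : G) = (u χ : ℂ) := fun χ => by
        obtain ⟨c, hc⟩ := isConj_iff.mp hc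
        rw [← hc, isClassFunction_character (irr_isCharacter χ.2), hu]
      have hX' : ∀ χ ∈ X, u χ = a χ := fun χ hχ => by
        have := (hat χ).symm.trans (hX.a_val χ hχ y₁ (mem_nonOne.mpr hy₁))
        exact_mod_cast this
      refine ⟨3 * δ, fun hd e => ?_, ?_, ?_⟩
      · rw [hd] at e; omega
      · rw [hX' χ₂ (Finset.mem_of_mem_erase hm2), hX' χ₃ (Finset.mem_of_mem_erase hm3)]
        rcases ha χ₂ (Finset.mem_of_mem_erase hm2) with e | e <;>
          rcases ha χ₃ (Finset.mem_of_mem_erase hm3) with f | f <;>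
          rcases hX.sign with g | g <;> simp [e, f, g]
      · have hδ : (δ : ℂ) * δ = 1 := by rcases hX.sign with e | e <;> simp [e]
        have htri : ∑ i, orbSum (rep i) y₁ * orbSum (rep i) y₁ * orbSum (rep i) y₂ = -9 := by
          have e : ∀ i, orbSum (rep i) y₁ * orbSum (rep i) y₁ * orbSum (rep i) y₂ =
              ∑ φ ∈ ((Finset.univ : Finset (↥(P : Subgroup G) →* ℂˣ)).erase 1).filter
                  (fun φ => idx φ = i),
                ∑ b ∈ clP P (y₁ : G), ∑ c ∈ clP P (y₁ : G),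
                  ((φ (b * c * y₂) : ℂˣ) : ℂ) := by
            intro i
            have hexp : orbSum (rep i) y₂ = ∑ φ ∈ orbP (rep i), ((φ y₂ : ℂˣ) : ℂ) := rfl
            rw [filter_idx hI, hexp, Finset.mul_sum]
            refine Finset.sum_congr rfl fun φ hφ => ?_
            have hφ1 : φ ≠ 1 := fun e => one_notMem_orbP (hI.rep_ne i) (e ▸ hφ)
            have : orbSum (rep i) y₁ = orbSum φ y₁ := by rw [orbSum, orbSum, orbP_eq_of_mem hφ]
            rw [this, h.orbSum_eq_class (by norm_num) hφ1 hy₁, Finset.sum_mul_sum, Finset.sum_mul]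
            refine Finset.sum_congr rfl fun b _ => ?_
            rw [Finset.sum_mul]
            exact Finset.sum_congr rfl fun c _ => by rw [map_mul, map_mul]; simp
          rw [Finset.sum_congr rfl fun i _ => e i, Finset.sum_fiberwise,
            Finset.sum_erase_eq_sub (Finset.mem_univ _), Finset.sum_comm,
            Finset.sum_congr rfl fun b _ => Finset.sum_comm]
          rw [Finset.sum_eq_zero (s := clP P (y₁ : G)) fun b hb => Finset.sum_eq_zero fun c hc' => by
            rw [h.sum_dual_apply, if_neg ((hA b c (hc.trans (mem_clP.mp hb))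
              (hc.trans (mem_clP.mp hc'))).2)]]
          simp only [MonoidHom.one_apply, Units.val_one, Finset.sum_const, h.card_clP hy₁,
            nsmul_eq_mul, mul_one]
          norm_num
        have hterm : ∀ i, (u (μ i) : ℂ) ^ 2 * (μ i : G → ℂ) (y₂ : G) =
            (δ : ℂ) * (orbSum (rep i) y₁ * orbSum (rep i) y₁ * orbSum (rep i) y₂) := by
          intro i
          rw [← hat, hX.mu_val i y₁ (mem_nonOne.mpr hy₁), hX.mu_val i y₂ hy₂, Int.cast_zero]
          linear_combination ((δ : ℂ) *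
            (orbSum (rep i) y₁ * orbSum (rep i) y₁ * orbSum (rep i) y₂)) * hδ
        rw [Finset.sum_congr rfl fun i _ => hterm i, ← Finset.mul_sum, htri]
        push_cast
        linear_combination (9 * (δ : ℂ)) * hδ
    · refine ⟨u (μ i₀), fun _ e => ?_, ?_, ?_⟩
      · refine hX.notMem i₀ ?_
        rw [show μ i₀ = e1 from Subtype.ext (eq_one_of_apply_eq htop
          (show (μ i₀ : G → ℂ) t = (μ i₀ : G → ℂ) 1 from by
            rw [hu, hqi, e, Int.cast_natCast]))]
        exact hX.one_mem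
      · have h1 := hX.rel i₀ t htp
        rw [← Finset.add_sum_erase X _ hX.one_mem, hpair, Finset.sum_pair hne, hX.one_val] at h1
        simp only [hu] at h1
        have h2 : ((1 + a χ₂ * u χ₂ + a χ₃ * u χ₃ - δ * u (μ i₀) : ℤ) : ℂ) = 0 := by
          simp only [Int.cast_one, Int.cast_zero, mul_zero, zero_sub, one_mul] at h1
          push_cast
          linear_combination h1
        exact_mod_cast h2
      · have hu' : ∀ i, u (μ i) = u (μ i₀) := fun i => by
          have := hX.reg i i₀ t htp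
          rw [hu, hu] at this
          exact_mod_cast this
        rw [Finset.sum_congr rfl fun i _ => by rw [hu' i, hX.mu_val i y₂ hy₂, Int.cast_zero,
          zero_add, ← mul_assoc], ← Finset.mul_sum, h.sum_all_orbSum hI hy₂']
        ring
  -- degree relation
  have h0 : 1 + a χ₂ * (deg (χ₂ : G → ℂ) : ℤ) + a χ₃ * (deg (χ₃ : G → ℂ) : ℤ) - δ * q = 0 := by
    have h1 := hX.rel i₀ 1 (by simp [hp.ne_one])
    rw [← Finset.add_sum_erase X _ hX.one_mem, hpair, Finset.sum_pair hne, hX.one_val,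
      char_one_eq_deg (irr_isCharacter χ₂.2), char_one_eq_deg (irr_isCharacter χ₃.2), hqi] at h1
    simp only [Int.cast_one, Int.cast_zero, mul_zero, zero_sub, one_mul] at h1
    have h2 : ((1 + a χ₂ * (deg (χ₂ : G → ℂ) : ℤ) + a χ₃ * (deg (χ₃ : G → ℂ) : ℤ) - δ * q : ℤ) : ℂ)
        = 0 := by
      push_cast
      linear_combination h1
    exact_mod_cast h2
  -- the squares
  have h2 : (deg (χ₂ : G → ℂ) : ℤ) * deg (χ₃ : G → ℂ) * q +
      a χ₂ * u χ₂ ^ 2 * ((deg (χ₃ : G → ℂ) : ℤ) * q) +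
      a χ₃ * u χ₃ ^ 2 * ((deg (χ₂ : G → ℂ) : ℤ) * q) +
      -δ * w ^ 2 * ((deg (χ₂ : G → ℂ) : ℤ) * deg (χ₃ : G → ℂ)) = 0 := by
    have hx : (deg (χ₂ : G → ℂ) : ℂ) ≠ 0 := Nat.cast_ne_zero.mpr (deg_pos χ₂.2).ne'
    have hz : (deg (χ₃ : G → ℂ) : ℂ) ≠ 0 := Nat.cast_ne_zero.mpr (deg_pos χ₃.2).ne'
    have hq0 : (q : ℂ) ≠ 0 := Nat.cast_ne_zero.mpr (deg_pos (μ i₀).2).ne'
    have h1 := hA0
    rw [hpart, hX.a_val χ₂ (Finset.mem_of_mem_erase hm2) y₂ hy₂,
      hX.a_val χ₃ (Finset.mem_of_mem_erase hm3) y₂ hy₂,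
      char_one_eq_deg (irr_isCharacter χ₂.2), char_one_eq_deg (irr_isCharacter χ₃.2),
      Finset.sum_congr rfl (g := fun i =>
        ((u (μ i) : ℂ) ^ 2 * (μ i : G → ℂ) (y₂ : G)) / (q : ℂ)) fun i _ => by
          rw [hqi]; ring, ← Finset.sum_div, hw2,
      show (u e1 : ℂ) = 1 from (hu _).symm] at h1
    simp only [he1, one_pow, div_one, mul_one] at h1
    field_simp at h1
    exact_mod_cast (show (((deg (χ₂ : G → ℂ) : ℤ) * deg (χ₃ : G → ℂ) * q +
      a χ₂ * u χ₂ ^ 2 * ((deg (χ₃ : G → ℂ) : ℤ) * q) +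
      a χ₃ * u χ₃ ^ 2 * ((deg (χ₂ : G → ℂ) : ℤ) * q) +
      -δ * w ^ 2 * ((deg (χ₂ : G → ℂ) : ℤ) * deg (χ₃ : G → ℂ)) : ℤ) : ℂ) = 0 by
        push_cast; linear_combination h1)
  have hne' : ∀ χ ∈ X.erase e1, u χ ≠ (deg (χ : G → ℂ) : ℤ) := fun χ hχ e => by
    refine (Finset.mem_erase.mp hχ).1 (Subtype.ext (eq_one_of_apply_eq htop ?_))
    rw [hu, e, char_one_eq_deg (irr_isCharacter χ.2), Int.cast_natCast]
  obtain ⟨hcount, hsq⟩ := three_sign (σ₃ := -δ) (v₃ := w) (ha χ₂ (Finset.mem_of_mem_erase hm2))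
    (ha χ₃ (Finset.mem_of_mem_erase hm3)) (by rcases hX.sign with e | e <;> simp [e])
    (n₁ := (deg (χ₂ : G → ℂ) : ℤ)) (n₂ := (deg (χ₃ : G → ℂ) : ℤ)) (n₃ := (q : ℤ))
    (v₁ := u χ₂) (v₂ := u χ₃) (by exact_mod_cast deg_pos χ₂.2) (by exact_mod_cast deg_pos χ₃.2)
    (by exact_mod_cast deg_pos (μ i₀).2) (by linear_combination h0) (by linear_combination hw1)
    h2 (hne' χ₂ hm2) (hne' χ₃ hm3) (fun e => hw0 (by omega))
  refine ⟨?_, ?_⟩
  · rw [← hcount]
    rcases hX.sign with e | e <;> simp [e]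
  · rw [charDegree_eq_deg, charDegree_eq_deg, charDegree_eq_deg, ← Int.isSquare_natCast_iff]
    push_cast
    rwa [mul_comm]

end FrobSylow

end Cfsg.Agent.Char
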