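import Cfsg.Agent.Lib.Char.PrincipalBlock
import Cfsg.Agent.Lib.Char.Osima
import Cfsg.Agent.Lib.Char.PPartElem
import Cfsg.Agent.Lib.Fusion.NPC
import Mathlib

/-!
# An abelian Sylow subgroup with Frobenius action of the normalizer

`C_G(y) ∩ N_G(P) = C_G(P)` for every non-trivial `y ∈ P`: every such centralizer has a normal
`p`-complement, and the sections of `p`-singular elements are described by `P`.
-/

set_option autoImplicit false
set_option linter.unusedSectionVars false

namespace Cfsg.Agent.Char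

open Cfsg
open scoped ComplexConjugate

universe u

variable {G : Type u} [Group G] [Fintype G] {M : Ideal AlgInt} {p : ℕ} [Fact p.Prime]

/-- The standing hypotheses. -/
structure FrobSylow (P : Sylow p G) (m : ℕ) : Prop where
  comm : IsMulCommutative P
  nontriv : Nat.card P ≠ 1
  index : (Subgroup.centralizer ((P : Subgroup G) : Set G)).relIndex
    (Subgroup.normalizer ((P : Subgroup G) : Set G)) = m
  frob : ∀ y : G, y ∈ (P : Subgroup G) → y ≠ 1 →
    Subgroup.centralizer ({y} : Set G) ⊓ Subgroup.normalizer ((P : Subgroup G) : Set G) =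
      Subgroup.centralizer ((P : Subgroup G) : Set G)

variable {P : Sylow p G} {m : ℕ}

open scoped Classical in
/-- The non-trivial elements of `P`. -/
noncomputable def nonOne (P : Sylow p G) : Finset ↥(P : Subgroup G) :=
  Finset.univ.filter fun y => (y : G) ≠ 1

theorem mem_nonOne {y : ↥(P : Subgroup G)} : y ∈ nonOne P ↔ (y : G) ≠ 1 := by
  simp [nonOne]

namespace FrobSylow

theorem ppower (y : ↥(P : Subgroup G)) : ∃ k : ℕ, orderOf (y : G) = p ^ k := by
  obtain ⟨k, hk⟩ := IsPGroup.iff_orderOf.mp P.isPGroup' y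
  exact ⟨k, by rw [Subgroup.orderOf_coe, hk]⟩

theorem le_centralizer (h : FrobSylow P m) :
    (P : Subgroup G) ≤ Subgroup.centralizer ((P : Subgroup G) : Set G) :=
  haveI := h.comm
  Subgroup.le_centralizer _

theorem conj_mem {n : G} (hn : n ∈ Subgroup.normalizer ((P : Subgroup G) : Set G)) {w : G}
    (hw : w ∈ (P : Subgroup G)) : n * w * n⁻¹ ∈ (P : Subgroup G) :=
  (Subgroup.mem_normalizer_iff.mp hn w).mp hw

theorem fusion (h : FrobSylow P m) {y y' : ↥(P : Subgroup G)} (hc : IsConj (y : G) (y' : G)) :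
    ∃ n ∈ Subgroup.normalizer ((P : Subgroup G) : Set G), n * (y : G) * n⁻¹ = (y' : G) := by
  obtain ⟨g, hg⟩ := isConj_iff.mp hc
  haveI := h.comm
  obtain ⟨n, hn, he⟩ := P.conj_eq_normalizer_conj_of_mem (y : G) g⁻¹ y.2
    (by rw [inv_inv, hg]; exact y'.2)
  refine ⟨n⁻¹, inv_mem hn, ?_⟩
  rw [inv_inv] at he ⊢
  rw [← he, hg]

theorem hnpc_centralizer (h : FrobSylow P m) {y : ↥(P : Subgroup G)} (hy : (y : G) ≠ 1) :
    ∃ V : Subgroup (Subgroup.centralizer ({(y : G)} : Set G)), V.Normal ∧ ¬ p ∣ Nat.card V ∧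
      V.index = Nat.card P ∧ ∀ v, ¬ p ∣ orderOf v ↔ v ∈ V := by
  classical
  have hp : p.Prime := Fact.out
  set K := Subgroup.centralizer ({(y : G)} : Set G) with hK
  have hPK : (P : Subgroup G) ≤ K := fun w hw =>
    Subgroup.mem_centralizer_singleton_iff.mpr ((h.le_centralizer hw) (y : G) y.2).symm
  set Q : Sylow p K := P.subtype hPK with hQ
  have hQe : (Q : Subgroup K) = (P : Subgroup G).subgroupOf K := rfl
  have hnp : HasNormalPComplement p K := by
    refine Fusion.hnpc_of_normalizer_le_centralizer Q fun k hk => ?_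
    have hkN : (k : G) ∈ Subgroup.normalizer ((P : Subgroup G) : Set G) := by
      rw [Subgroup.mem_normalizer_iff]
      intro w
      constructor
      · intro hw
        have := (Subgroup.mem_normalizer_iff.mp hk ⟨w, hPK hw⟩).mp hw
        exact this
      · intro hw
        have hwK : w ∈ K := by
          have := K.mul_mem (K.mul_mem (K.inv_mem k.2) (hPK hw)) k.2
          simpa [mul_assoc] using this
        exact (Subgroup.mem_normalizer_iff.mp hk ⟨w, hwK⟩).mpr hw
    have hkC : (k : G) ∈ Subgroup.centralizer ((P : Subgroup G) : Set G) := by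
      rw [← h.frob (y : G) y.2 hy]
      exact ⟨k.2, hkN⟩
    exact fun q hq => Subtype.ext (hkC (q : G) hq)
  set V := pResidual p K with hV
  have hmem : ∀ v, ¬ p ∣ orderOf v ↔ v ∈ V := fun v => by
    rw [Fusion.hnpc_mem_iff hnp, Nat.coprime_comm, hp.coprime_iff_not_dvd]
  have hcop := Fusion.hnpc_iff.1 hnp
  refine ⟨V, inferInstance, Fusion.coprime_card_iff_not_dvd.1 hcop, ?_, hmem⟩
  have hc := Fusion.isComplement'_of_coprime_card Q hcop
  rw [← hV] at hc
  have h1 := hc.card_mul_card
  have h2 : Nat.card (Q : Subgroup K) = Nat.card P := by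
    rw [hQe]
    exact Nat.card_congr (Subgroup.subgroupOfEquivOfLe hPK).toEquiv
  have h3 := Subgroup.card_mul_index V
  rw [h2] at h1
  exact Nat.eq_of_mul_eq_mul_left Nat.card_pos (h3.trans h1.symm)

theorem exists_conj_ppt (g : G) : ∃ y : ↥(P : Subgroup G), IsConj (ppt p g) (y : G) := by
  have hp : p.Prime := Fact.out
  obtain ⟨Q, hQ⟩ := (isPGroup_of_ppower hp (ppt_ppower hp g)).exists_le_sylow
  obtain ⟨c, hc⟩ := MulAction.exists_smul_eq G Q P
  have hmem : c * ppt p g * c⁻¹ ∈ (P : Subgroup G) := by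
    rw [← hc, Sylow.coe_subgroup_smul]
    exact ⟨ppt p g, hQ (Subgroup.mem_zpowers _), rfl⟩
  exact ⟨⟨_, hmem⟩, isConj_iff.mpr ⟨c, rfl⟩⟩

theorem exists_conj_ppt_sing {g : G} (hg : p ∣ orderOf g) :
    ∃ y : ↥(P : Subgroup G), (y : G) ≠ 1 ∧ IsConj (ppt p g) (y : G) := by
  obtain ⟨y, hy⟩ := exists_conj_ppt (P := P) g
  refine ⟨y, fun h1 => ?_, hy⟩
  rw [h1] at hy
  exact (ppt_eq_one_iff Fact.out g).mp (isConj_one_left.mp hy) hg

theorem mem_centralizer_of_conj_eq (h : FrobSylow P m) {n : G}
    (hn : n ∈ Subgroup.normalizer ((P : Subgroup G) : Set G)) {y : ↥(P : Subgroup G)}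
    (hy : (y : G) ≠ 1) (he : n * (y : G) * n⁻¹ = (y : G)) :
    n ∈ Subgroup.centralizer ((P : Subgroup G) : Set G) := by
  rw [← h.frob (y : G) y.2 hy]
  exact ⟨Subgroup.mem_centralizer_singleton_iff.mpr (mul_inv_eq_iff_eq_mul.mp he), hn⟩

theorem card_centralizer_inf (h : FrobSylow P m) :
    m * Nat.card (Subgroup.centralizer ((P : Subgroup G) : Set G)) =
      Nat.card (Subgroup.normalizer ((P : Subgroup G) : Set G)) := by
  have h1 := Subgroup.index_mul_card ((Subgroup.centralizer ((P : Subgroup G) : Set G)).subgroupOf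
    (Subgroup.normalizer ((P : Subgroup G) : Set G)))
  rw [Nat.card_congr (Subgroup.subgroupOfEquivOfLe (Subgroup.centralizer_le_normalizer _)).toEquiv]
    at h1
  rw [← h.index]
  exact h1

open scoped Classical in
theorem card_conj_class (h : FrobSylow P m) {y : ↥(P : Subgroup G)} (hy : (y : G) ≠ 1) :
    (Finset.univ.filter fun w : ↥(P : Subgroup G) => IsConj (y : G) (w : G)).card = m := by
  set N := Subgroup.normalizer ((P : Subgroup G) : Set G) with hN
  set C := Subgroup.centralizer ((P : Subgroup G) : Set G) with hC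
  let f : ↥N → ↥(P : Subgroup G) := fun n => ⟨(n : G) * y * (n : G)⁻¹, conj_mem n.2 y.2⟩
  have himg : (Finset.univ : Finset ↥N).image f =
      Finset.univ.filter fun w : ↥(P : Subgroup G) => IsConj (y : G) (w : G) := by
    ext w
    simp only [Finset.mem_image, Finset.mem_univ, true_and, Finset.mem_filter]
    constructor
    · rintro ⟨n, rfl⟩
      exact isConj_iff.mpr ⟨n, rfl⟩
    · intro hw
      obtain ⟨n, hn, he⟩ := h.fusion hw
      exact ⟨⟨n, hn⟩, Subtype.ext he⟩
  have hfib : ∀ w ∈ (Finset.univ : Finset ↥N).image f,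
      ((Finset.univ : Finset ↥N).filter fun n => f n = w).card = Nat.card C := by
    intro w hw
    obtain ⟨n₀, -, rfl⟩ := Finset.mem_image.mp hw
    rw [← Fintype.card_subtype, ← Nat.card_eq_fintype_card]
    refine Nat.card_congr
      ⟨fun n => ⟨(n₀ : G)⁻¹ * (n.1 : G), ?_⟩,
        fun c => ⟨n₀ * ⟨c, Subgroup.centralizer_le_normalizer _ c.2⟩, ?_⟩, fun n => ?_, fun c => ?_⟩
    · refine h.mem_centralizer_of_conj_eq (N.mul_mem (N.inv_mem n₀.2) n.1.2) hy ?_
      have he : (n.1 : G) * y * (n.1 : G)⁻¹ = (n₀ : G) * y * (n₀ : G)⁻¹ :=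
        congrArg Subtype.val n.2
      calc (n₀ : G)⁻¹ * (n.1 : G) * y * ((n₀ : G)⁻¹ * (n.1 : G))⁻¹
          = (n₀ : G)⁻¹ * ((n.1 : G) * y * (n.1 : G)⁻¹) * (n₀ : G) := by group
        _ = y := by rw [he]; group
    · refine Subtype.ext ?_
      have hcy : (y : G) * (c : G) = (c : G) * y := c.2 (y : G) y.2
      show (n₀ : G) * (c : G) * y * ((n₀ : G) * (c : G))⁻¹ = (n₀ : G) * y * (n₀ : G)⁻¹
      calc (n₀ : G) * (c : G) * y * ((n₀ : G) * (c : G))⁻¹
          = (n₀ : G) * ((c : G) * y * (c : G)⁻¹) * (n₀ : G)⁻¹ := by group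
        _ = _ := by rw [← hcy, mul_inv_cancel_right]
    · exact Subtype.ext (Subtype.ext (mul_inv_cancel_left (n₀ : G) (n.1 : G)))
    · exact Subtype.ext (inv_mul_cancel_left (n₀ : G) (c : G))
  have hcount := Finset.card_eq_sum_card_image f (Finset.univ : Finset ↥N)
  rw [Finset.sum_congr rfl hfib, Finset.sum_const, smul_eq_mul, himg, Finset.card_univ,
    ← Nat.card_eq_fintype_card] at hcount
  exact Nat.eq_of_mul_eq_mul_right Nat.card_pos (hcount.symm.trans h.card_centralizer_inf.symm)

open scoped Classical in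
/-- The singular elements are sorted by the non-trivial elements of `P`, each `m` times. -/
theorem sum_singular (h : FrobSylow P m) {F : G → ℂ} (hF : IsClassFunction G F) :
    (m : ℂ) * ∑ g : G with p ∣ orderOf g, F g =
      ∑ y ∈ nonOne P,
        ((Subgroup.centralizer ({(y : G)} : Set G)).index : ℂ) *
          ∑ v : Subgroup.centralizer ({(y : G)} : Set G) with ¬ p ∣ orderOf v,
            F ((y : G) * (v : G)) := by
  have hp : p.Prime := Fact.out
  have h1 : ∀ g : G, (m : ℂ) * (if p ∣ orderOf g then F g else 0) =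
      ∑ y ∈ nonOne P, if IsConj (y : G) (ppt p g) then F g else 0 := by
    intro g
    by_cases hg : p ∣ orderOf g
    · obtain ⟨y₀, hy₀, hc⟩ := exists_conj_ppt_sing (P := P) hg
      rw [if_pos hg, ← Finset.sum_filter, nonOne, Finset.filter_filter, Finset.sum_const, nsmul_eq_mul]
      congr 2
      rw [← h.card_conj_class hy₀]
      refine congrArg Finset.card (Finset.filter_congr fun w _ => ?_)
      constructor
      · intro hw
        exact ⟨fun h1 => hy₀ (by rw [h1] at hw; exact isConj_one_left.mp hw),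
          hw.symm.trans hc.symm⟩
      · rintro ⟨-, hw⟩
        exact hc.symm.trans hw.symm
    · rw [if_neg hg, mul_zero]
      refine (Finset.sum_eq_zero fun y hy => if_neg fun hc => ?_).symm
      rw [(ppt_eq_one_iff hp g).mpr hg] at hc
      exact mem_nonOne.mp hy (isConj_one_left.mp hc)
  rw [Finset.sum_filter, Finset.mul_sum, Finset.sum_congr rfl fun g _ => h1 g, Finset.sum_comm]
  refine Finset.sum_congr rfl fun y hy => ?_
  have hinner : ∀ c : G, (∑ g : G, if ppt p g = c * (y : G) * c⁻¹ then F g else 0) =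
      ∑ g : G, if ppt p g = (y : G) then F g else 0 := by
    intro c
    refine (Fintype.sum_equiv (MulAut.conj c).toEquiv _ _ fun g => ?_).symm
    show _ = if ppt p (c * g * c⁻¹) = c * (y : G) * c⁻¹ then F (c * g * c⁻¹) else 0
    rw [ppt_conj hp, hF]
    simp
  have hcl : ∑ g : G, (if IsConj (y : G) (ppt p g) then F g else 0) =
      ∑ z ∈ Finset.univ.filter (fun z : G => IsConj (y : G) z),
        ∑ g : G, if ppt p g = z then F g else 0 := by
    rw [Finset.sum_comm]
    refine Finset.sum_congr rfl fun g _ => ?_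
    rw [Finset.sum_ite_eq]
    simp
  rw [hcl, Finset.sum_congr rfl (g := fun _ => ∑ g : G, if ppt p g = (y : G) then F g else 0)
    (fun z hz => by
      obtain ⟨c, rfl⟩ := isConj_iff.mp (Finset.mem_filter.mp hz).2
      exact hinner c), Finset.sum_const, nsmul_eq_mul, ← Fintype.card_subtype,
    ← Nat.card_eq_fintype_card]
  have hidx : Nat.card {z : G // IsConj (y : G) z} =
      (Subgroup.centralizer ({(y : G)} : Set G)).index := by
    have e1 := card_conjClass_mul_centralizer (y : G)
    have e2 := Subgroup.index_mul_card (Subgroup.centralizer ({(y : G)} : Set G))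
    exact Nat.eq_of_mul_eq_mul_right Nat.card_pos (e1.trans e2.symm)
  rw [hidx]
  congr 1
  rw [← Finset.sum_filter]
  symm
  refine Finset.sum_bij (fun v _ => (y : G) * (v : G)) (fun v hv => ?_) (fun a _ b _ e => ?_)
    (fun g hg => ?_) (fun v _ => rfl)
  · simp only [Finset.mem_filter, Finset.mem_univ, true_and] at hv ⊢
    exact ppt_mul hp (cent_mul_comm v) (ppower (P := P) y) (by rwa [Subgroup.orderOf_coe])
  · exact Subtype.ext (mul_left_cancel e)
  · simp only [Finset.mem_filter, Finset.mem_univ, true_and] at hg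
    obtain ⟨w, hw, hcm, -, hr⟩ := isPPart_ppt hp g
    rw [hg] at hw hcm
    exact ⟨⟨w, Subgroup.mem_centralizer_singleton_iff.mpr hcm.eq.symm⟩,
      by simpa [Subgroup.orderOf_mk] using hr, hw⟩

open scoped Classical in
theorem card_regular (h : FrobSylow P m) {y : ↥(P : Subgroup G)} (hy : (y : G) ≠ 1) :
    (Finset.univ.filter fun v : Subgroup.centralizer ({(y : G)} : Set G) =>
        ¬ p ∣ orderOf v).card * Nat.card P =
      Nat.card (Subgroup.centralizer ({(y : G)} : Set G)) := by
  obtain ⟨V, -, -, hVi, hV⟩ := h.hnpc_centralizer hy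
  rw [← hVi, ← Fintype.card_subtype, ← Nat.card_eq_fintype_card,
    Nat.card_congr (Equiv.subtypeEquivRight hV)]
  exact Subgroup.card_mul_index V

open scoped Classical in
/-- Functions constant on sections. -/
theorem sum_singular_const (h : FrobSylow P m) {F : G → ℂ} (hF : IsClassFunction G F)
    (hs : ∀ y : ↥(P : Subgroup G), (y : G) ≠ 1 →
      ∀ v : Subgroup.centralizer ({(y : G)} : Set G), ¬ p ∣ orderOf v →
        F ((y : G) * (v : G)) = F (y : G)) :
    ((Nat.card P : ℂ) * m) * ∑ g : G with p ∣ orderOf g, F g =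
      (Nat.card G : ℂ) * ∑ y ∈ nonOne P, F (y : G) := by
  rw [mul_assoc, h.sum_singular hF, Finset.mul_sum, Finset.mul_sum]
  refine Finset.sum_congr rfl fun y hy => ?_
  have hy1 := mem_nonOne.mp hy
  rw [Finset.sum_congr rfl fun v hv => hs y hy1 v (Finset.mem_filter.mp hv).2, Finset.sum_const,
    nsmul_eq_mul]
  have e1 := h.card_regular hy1
  have e2 := Subgroup.index_mul_card (Subgroup.centralizer ({(y : G)} : Set G))
  rw [← e1] at e2
  rw [← e2]
  push_cast
  ring

end FrobSylow

end Cfsg.Agent.Char
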