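import Cfsg.Agent.Lib.Char.FrobSylowLocal
import Cfsg.Agent.Lib.Char.Linear
import Mathlib

/-!
# The orbits of the normalizer on the linear characters of `P`
-/

set_option autoImplicit false
set_option linter.unusedSectionVars false

namespace Cfsg.Agent.Char

open Cfsg
open scoped ComplexConjugate

universe u

variable {G : Type u} [Group G] [Fintype G] {p : ℕ} [Fact p.Prime] {P : Sylow p G} {m : ℕ}

/-- Conjugation by `n⁻¹` on `P`. -/
def conjP (n : ↥(Subgroup.normalizer ((P : Subgroup G) : Set G))) :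
    ↥(P : Subgroup G) →* ↥(P : Subgroup G) where
  toFun w := ⟨(n : G)⁻¹ * (w : G) * (n : G), by
    have := FrobSylow.conj_mem (P := P) (inv_mem n.2) w.2
    simpa using this⟩
  map_one' := Subtype.ext (by simp)
  map_mul' a b := Subtype.ext (by
    simp only [Subgroup.coe_mul]
    group)

theorem coe_conjP (n : ↥(Subgroup.normalizer ((P : Subgroup G) : Set G))) (w : ↥(P : Subgroup G)) :
    ((conjP n w : ↥(P : Subgroup G)) : G) = (n : G)⁻¹ * (w : G) * (n : G) := rfl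

/-- The twist of a linear character of `P` by an element of the normalizer. -/
def twP (n : ↥(Subgroup.normalizer ((P : Subgroup G) : Set G)))
    (ψ : ↥(P : Subgroup G) →* ℂˣ) : ↥(P : Subgroup G) →* ℂˣ :=
  ψ.comp (conjP n)

theorem twP_apply (n : ↥(Subgroup.normalizer ((P : Subgroup G) : Set G)))
    (ψ : ↥(P : Subgroup G) →* ℂˣ) (w : ↥(P : Subgroup G)) : twP n ψ w = ψ (conjP n w) := rfl

theorem twP_twP (n n' : ↥(Subgroup.normalizer ((P : Subgroup G) : Set G)))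
    (ψ : ↥(P : Subgroup G) →* ℂˣ) : twP n (twP n' ψ) = twP (n * n') ψ := by
  refine MonoidHom.ext fun w => ?_
  simp only [twP_apply]
  congr 1
  refine Subtype.ext ?_
  simp only [coe_conjP, Subgroup.coe_mul]
  group

theorem twP_one' (ψ : ↥(P : Subgroup G) →* ℂˣ) :
    twP (1 : ↥(Subgroup.normalizer ((P : Subgroup G) : Set G))) ψ = ψ := by
  refine MonoidHom.ext fun w => ?_
  simp only [twP_apply]
  congr 1
  exact Subtype.ext (by simp [coe_conjP])

theorem twP_map_one (n : ↥(Subgroup.normalizer ((P : Subgroup G) : Set G))) :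
    twP n (1 : ↥(P : Subgroup G) →* ℂˣ) = 1 := rfl

/-- The orbit of a linear character of `P` as a set. -/
theorem setOf_orbit_eq (ψ : ↥(P : Subgroup G) →* ℂˣ) :
    {ψ' : ↥(P : Subgroup G) →* ℂˣ | ∃ n : G, n ∈ Subgroup.normalizer ((P : Subgroup G) : Set G) ∧
      ∀ w w' : ↥(P : Subgroup G), (w' : G) = n * w * n⁻¹ → ψ' w' = ψ w} =
    Set.range fun n => twP n ψ := by
  ext ψ'
  constructor
  · rintro ⟨n, hn, h⟩
    refine ⟨⟨n, hn⟩, MonoidHom.ext fun w => (h (conjP ⟨n, hn⟩ w) w ?_).symm⟩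
    rw [coe_conjP]
    group
  · rintro ⟨⟨n, hn⟩, rfl⟩
    refine ⟨n, hn, fun w w' hw => ?_⟩
    show ψ (conjP ⟨n, hn⟩ w') = ψ w
    congr 1
    refine Subtype.ext ?_
    rw [coe_conjP, hw]
    show n⁻¹ * (n * (w : G) * n⁻¹) * n = (w : G)
    group

open scoped Classical in
/-- The orbit of a linear character of `P`. -/
noncomputable def orbP [Fintype (↥(P : Subgroup G) →* ℂˣ)] (ψ : ↥(P : Subgroup G) →* ℂˣ) :
    Finset (↥(P : Subgroup G) →* ℂˣ) :=
  Finset.univ.filter fun ψ' => ∃ n, twP n ψ = ψ'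

/-- The orbit sum. -/
noncomputable def orbSum [Fintype (↥(P : Subgroup G) →* ℂˣ)] (ψ : ↥(P : Subgroup G) →* ℂˣ) :
    ↥(P : Subgroup G) → ℂ :=
  fun y => ∑ ψ' ∈ orbP ψ, ((ψ' y : ℂˣ) : ℂ)

section Orb

variable [Fintype (↥(P : Subgroup G) →* ℂˣ)]

theorem mem_orbP {ψ ψ' : ↥(P : Subgroup G) →* ℂˣ} : ψ' ∈ orbP ψ ↔ ∃ n, twP n ψ = ψ' := by
  simp [orbP]

theorem self_mem_orbP (ψ : ↥(P : Subgroup G) →* ℂˣ) : ψ ∈ orbP ψ :=
  mem_orbP.mpr ⟨1, twP_one' ψ⟩

theorem orbP_eq_of_mem {ψ ψ' : ↥(P : Subgroup G) →* ℂˣ} (h : ψ' ∈ orbP ψ) : orbP ψ' = orbP ψ := by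
  obtain ⟨n, rfl⟩ := mem_orbP.mp h
  ext φ
  simp only [mem_orbP]
  constructor
  · rintro ⟨k, rfl⟩
    exact ⟨k * n, (twP_twP k n ψ).symm⟩
  · rintro ⟨k, rfl⟩
    exact ⟨k * n⁻¹, by rw [twP_twP, inv_mul_cancel_right]⟩

theorem one_notMem_orbP {ψ : ↥(P : Subgroup G) →* ℂˣ} (hψ : ψ ≠ 1) : (1 : _ →* ℂˣ) ∉ orbP ψ := by
  intro h
  have h2 := orbP_eq_of_mem h
  have h3 : ψ ∈ orbP (1 : ↥(P : Subgroup G) →* ℂˣ) := h2 ▸ self_mem_orbP ψ
  obtain ⟨n, hn⟩ := mem_orbP.mp h3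
  exact hψ (hn ▸ twP_map_one n)

theorem orbSum_conj (ψ : ↥(P : Subgroup G) →* ℂˣ)
    (n : ↥(Subgroup.normalizer ((P : Subgroup G) : Set G))) (y : ↥(P : Subgroup G)) :
    orbSum ψ (conjP n y) = orbSum ψ y := by
  simp only [orbSum]
  refine Finset.sum_bij' (fun φ _ => twP n φ) (fun φ _ => twP n⁻¹ φ) (fun φ hφ => ?_)
    (fun φ hφ => ?_) (fun φ _ => ?_) (fun φ _ => ?_) (fun φ _ => rfl)
  · obtain ⟨k, rfl⟩ := mem_orbP.mp hφ
    exact mem_orbP.mpr ⟨n * k, (twP_twP n k ψ).symm⟩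
  · obtain ⟨k, rfl⟩ := mem_orbP.mp hφ
    exact mem_orbP.mpr ⟨n⁻¹ * k, (twP_twP n⁻¹ k ψ).symm⟩
  · rw [twP_twP, inv_mul_cancel, twP_one']
  · rw [twP_twP, mul_inv_cancel, twP_one']

end Orb

namespace FrobSylow

theorem finite_dual (h : FrobSylow P m) :
    Finite (↥(P : Subgroup G) →* ℂˣ) ∧
      Nat.card (↥(P : Subgroup G) →* ℂˣ) = Nat.card P := by
  have hc : Nat.card (↥(P : Subgroup G) →* ℂˣ) = Nat.card P := by
    rw [card_hom_units]
    haveI := h.comm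
    have : commutator ↥(P : Subgroup G) = ⊥ := by
      rw [commutator_eq_bot_iff_center_eq_top, eq_top_iff]
      exact fun a _ => Subgroup.mem_center_iff.mpr fun b => mul_comm' b a
    rw [this, Subgroup.index_bot]
  exact ⟨Nat.finite_of_card_ne_zero (hc ▸ Nat.card_pos.ne'), hc⟩

open scoped Classical in
theorem sum_dual_apply (h : FrobSylow P m) [Fintype (↥(P : Subgroup G) →* ℂˣ)]
    (w : ↥(P : Subgroup G)) :
    ∑ ψ : ↥(P : Subgroup G) →* ℂˣ, ((ψ w : ℂˣ) : ℂ) = if w = 1 then (Nat.card P : ℂ) else 0 := by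
  split_ifs with hw
  · subst hw
    simp only [map_one, Units.val_one, Finset.sum_const, Finset.card_univ, nsmul_eq_mul, mul_one]
    rw [← Nat.card_eq_fintype_card, h.finite_dual.2]
  · obtain ⟨φ, hφ⟩ : ∃ φ : ↥(P : Subgroup G) →* ℂˣ, φ w ≠ 1 := by
      haveI := h.comm
      let cg : CommGroup ↥(P : Subgroup G) :=
        { (inferInstance : Group ↥(P : Subgroup G)) with mul_comm := fun a b => mul_comm' a b }
      haveI : NeZero (Monoid.exponent ↥(P : Subgroup G)) := ⟨Monoid.exponent_ne_zero_of_finite⟩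
      exact CommGroup.exists_apply_ne_one_of_hasEnoughRootsOfUnity ↥(P : Subgroup G) ℂ hw
    set T := ∑ ψ : ↥(P : Subgroup G) →* ℂˣ, ((ψ w : ℂˣ) : ℂ) with hT
    have hshift : (φ w : ℂ) * T = T := by
      rw [hT, Finset.mul_sum]
      exact Fintype.sum_equiv (Equiv.mulLeft φ) _ _ fun ψ => by simp
    have h1 : (φ w : ℂ) ≠ 1 := fun e => hφ (Units.ext e)
    have h2 : ((φ w : ℂ) - 1) * T = 0 := by rw [sub_mul, hshift, one_mul, sub_self]
    exact (mul_eq_zero.mp h2).resolve_left (sub_ne_zero.mpr h1)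

open scoped Classical in
theorem sum_linear_mul (ψ φ : ↥(P : Subgroup G) →* ℂˣ) :
    ∑ y : ↥(P : Subgroup G), ((ψ y : ℂˣ) : ℂ) * conj ((φ y : ℂˣ) : ℂ) =
      if ψ = φ then (Nat.card P : ℂ) else 0 := by
  have h0 := irr_orth (isIrrCharacter_linear ψ) (isIrrCharacter_linear φ)
  rw [classInner] at h0
  have hiff : ((fun g => ((ψ g : ℂˣ) : ℂ)) = fun g => ((φ g : ℂˣ) : ℂ)) ↔ ψ = φ :=
    ⟨fun e => MonoidHom.ext fun g => Units.ext (congrFun e g), fun e => by rw [e]⟩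
  rw [← mul_right_inj' (inv_ne_zero (Nat.cast_ne_zero.mpr
    (Nat.card_pos (α := ↥(P : Subgroup G))).ne') : (Nat.card ↥(P : Subgroup G) : ℂ)⁻¹ ≠ 0), h0]
  by_cases e : ψ = φ
  · rw [if_pos e, if_pos (hiff.mpr e), inv_mul_cancel₀]
    exact Nat.cast_ne_zero.mpr Nat.card_pos.ne'
  · rw [if_neg e, if_neg (mt hiff.mp e), mul_zero]

variable [Fintype (↥(P : Subgroup G) →* ℂˣ)]

/-- The normalizer acts freely modulo the centralizer. -/
theorem card_orbP (h : FrobSylow P m) {ψ : ↥(P : Subgroup G) →* ℂˣ} (hψ : ψ ≠ 1) :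
    (orbP ψ).card = m := by
  classical
  set N := Subgroup.normalizer ((P : Subgroup G) : Set G) with hN
  set C := Subgroup.centralizer ((P : Subgroup G) : Set G) with hC
  have hstab : ∀ n : ↥N, twP n ψ = ψ → (n : G) ∈ C := by
    intro n hn
    by_contra hnc
    haveI := h.comm
    let f : ↥(P : Subgroup G) → ↥(P : Subgroup G) := fun w => conjP n w * w⁻¹
    have hinj : Function.Injective f := by
      intro a b e
      have e2 : conjP n (a * b⁻¹) = a * b⁻¹ := by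
        have e' : conjP n a * a⁻¹ = conjP n b * b⁻¹ := e
        rw [map_mul, map_inv]
        have e3 : conjP n a = conjP n b * b⁻¹ * a := by rw [← e', inv_mul_cancel_right]
        rw [e3, mul_comm' (conjP n b * b⁻¹) a, mul_comm' (conjP n b) b⁻¹]
        group
      by_contra hab
      have hne : ((a * b⁻¹ : ↥(P : Subgroup G)) : G) ≠ 1 := fun e4 =>
        hab (mul_inv_eq_one.mp (Subtype.ext e4))
      refine hnc (h.mem_centralizer_of_conj_eq n.2 hne ?_)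
      have e5 := congrArg Subtype.val e2
      rw [coe_conjP] at e5
      calc (n : G) * ↑(a * b⁻¹) * (n : G)⁻¹
          = (n : G) * ((n : G)⁻¹ * ↑(a * b⁻¹) * (n : G)) * (n : G)⁻¹ := by rw [e5]
        _ = _ := by group
    refine hψ (MonoidHom.ext fun w => ?_)
    obtain ⟨v, rfl⟩ := Finite.injective_iff_surjective.mp hinj w
    show ψ (conjP n v * v⁻¹) = 1
    rw [map_mul, map_inv, show ψ (conjP n v) = ψ v from DFunLike.congr_fun hn v, mul_inv_cancel]
  have hCfix : ∀ c : ↥C, twP (⟨c, Subgroup.centralizer_le_normalizer _ c.2⟩ : ↥N) ψ = ψ := by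
    intro c
    refine MonoidHom.ext fun w => ?_
    rw [twP_apply]
    congr 1
    refine Subtype.ext ?_
    rw [coe_conjP]
    show (c : G)⁻¹ * (w : G) * (c : G) = (w : G)
    rw [mul_assoc, (c.2 (w : G) w.2 : (w : G) * c = c * w), inv_mul_cancel_left]
  have himg : (Finset.univ : Finset ↥N).image (fun n => twP n ψ) = orbP ψ := by
    ext φ
    simp [mem_orbP]
  have hfib : ∀ φ ∈ (Finset.univ : Finset ↥N).image (fun n => twP n ψ),
      ((Finset.univ : Finset ↥N).filter fun n => twP n ψ = φ).card = Nat.card C := by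
    intro φ hφ
    obtain ⟨n₀, -, rfl⟩ := Finset.mem_image.mp hφ
    rw [← Fintype.card_subtype, ← Nat.card_eq_fintype_card]
    refine Nat.card_congr
      ⟨fun n => ⟨((n₀⁻¹ * n.1 : ↥N) : G), hstab _ (by
          rw [← twP_twP, n.2, twP_twP, inv_mul_cancel, twP_one'])⟩,
        fun c => ⟨n₀ * ⟨c, Subgroup.centralizer_le_normalizer _ c.2⟩, by
          rw [← twP_twP, hCfix c]⟩, fun n => ?_, fun c => ?_⟩
    · exact Subtype.ext (Subtype.ext (mul_inv_cancel_left (n₀ : G) (n.1 : G)))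
    · exact Subtype.ext (inv_mul_cancel_left (n₀ : G) (c : G))
  have hcount := Finset.card_eq_sum_card_image (fun n => twP n ψ) (Finset.univ : Finset ↥N)
  rw [Finset.sum_congr rfl hfib, Finset.sum_const, smul_eq_mul, himg, Finset.card_univ,
    ← Nat.card_eq_fintype_card] at hcount
  exact Nat.eq_of_mul_eq_mul_right Nat.card_pos (hcount.symm.trans h.card_centralizer_inf.symm)

/-- The orbits of the non-trivial linear characters, indexed. -/
theorem exists_orbit_index (h : FrobSylow P m) :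
    ∃ (r : ℕ) (rep : Fin r → (↥(P : Subgroup G) →* ℂˣ))
      (idx : (↥(P : Subgroup G) →* ℂˣ) → Fin r),
      0 < r ∧ r * m + 1 = Nat.card P ∧ (∀ i, rep i ≠ 1) ∧ (∀ i, idx (rep i) = i) ∧
      (∀ ψ, ψ ≠ 1 → ψ ∈ orbP (rep (idx ψ))) ∧
      (∀ ψ, ψ ≠ 1 → ∀ ψ' ∈ orbP ψ, idx ψ' = idx ψ) := by
  classical
  set S := (Finset.univ : Finset (↥(P : Subgroup G) →* ℂˣ)).erase 1 with hS
  set O := S.image (fun ψ => orbP ψ) with hO
  have hcardS : S.card + 1 = Nat.card P := by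
    rw [hS, Finset.card_erase_add_one (Finset.mem_univ _), Finset.card_univ,
      ← Nat.card_eq_fintype_card, h.finite_dual.2]
  have hmemO : ∀ ψ, ψ ≠ 1 → orbP ψ ∈ O := fun ψ hψ =>
    Finset.mem_image.mpr ⟨ψ, Finset.mem_erase.mpr ⟨hψ, Finset.mem_univ _⟩, rfl⟩
  have hfib : ∀ o ∈ O, (S.filter fun ψ => orbP ψ = o).card = m := by
    intro o ho
    obtain ⟨ψ, hψ, rfl⟩ := Finset.mem_image.mp ho
    have hψ1 : ψ ≠ 1 := (Finset.mem_erase.mp hψ).1
    rw [← h.card_orbP hψ1]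
    refine congrArg Finset.card ?_
    ext φ
    constructor
    · intro hφ
      exact (Finset.mem_filter.mp hφ).2 ▸ self_mem_orbP φ
    · intro hφ
      refine Finset.mem_filter.mpr ⟨Finset.mem_erase.mpr ⟨?_, Finset.mem_univ _⟩, orbP_eq_of_mem hφ⟩
      exact fun e => one_notMem_orbP hψ1 (e ▸ hφ)
  have hcount := Finset.card_eq_sum_card_image (fun ψ => orbP ψ) S
  rw [← hO, Finset.sum_congr rfl hfib, Finset.sum_const, smul_eq_mul] at hcount
  have hpos : 0 < O.card := by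
    rcases Nat.eq_zero_or_pos O.card with h0 | h0
    · rw [h0, zero_mul] at hcount
      exact absurd (by omega : Nat.card P = 1) h.nontriv
    · exact h0
  have hrep : ∀ i : Fin O.card, ∃ ψ, ψ ≠ 1 ∧ orbP ψ = (O.equivFin.symm i).1 := by
    intro i
    obtain ⟨ψ, hψ, he⟩ := Finset.mem_image.mp (O.equivFin.symm i).2
    exact ⟨ψ, (Finset.mem_erase.mp hψ).1, he⟩
  choose rep hrep1 hrep2 using hrep
  let idx : (↥(P : Subgroup G) →* ℂˣ) → Fin O.card := fun ψ =>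
    if hψ : ψ = 1 then ⟨0, hpos⟩ else O.equivFin ⟨orbP ψ, hmemO ψ hψ⟩
  have hidx : ∀ ψ (hψ : ψ ≠ 1), idx ψ = O.equivFin ⟨orbP ψ, hmemO ψ hψ⟩ := fun ψ hψ => dif_neg hψ
  refine ⟨O.card, rep, idx, hpos, by omega, hrep1, fun i => ?_, fun ψ hψ => ?_,
    fun ψ hψ ψ' hψ' => ?_⟩
  · rw [hidx _ (hrep1 i)]
    refine O.equivFin.symm.injective ?_
    rw [Equiv.symm_apply_apply]
    exact Subtype.ext (hrep2 i)
  · rw [hrep2, hidx ψ hψ, Equiv.symm_apply_apply]
    exact self_mem_orbP ψ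
  · have hψ'1 : ψ' ≠ 1 := fun e => one_notMem_orbP hψ (e ▸ hψ')
    rw [hidx ψ hψ, hidx ψ' hψ'1]
    exact congrArg _ (Subtype.ext (orbP_eq_of_mem hψ'))

end FrobSylow

end Cfsg.Agent.Char

namespace Cfsg.Agent.Char

open Cfsg

theorem finsum_orbit_eq {G : Type*} [Group G] [Fintype G] {p : ℕ} [Fact p.Prime] {P : Sylow p G}
    [Fintype (↥(P : Subgroup G) →* ℂˣ)] (ψ : ↥(P : Subgroup G) →* ℂˣ) (y : ↥(P : Subgroup G)) :
    ∑ᶠ ψ' ∈ {ψ' : ↥(P : Subgroup G) →* ℂˣ | ∃ n : G,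
        n ∈ Subgroup.normalizer ((P : Subgroup G) : Set G) ∧
        ∀ w w' : ↥(P : Subgroup G), (w' : G) = n * w * n⁻¹ → ψ' w' = ψ w}, ((ψ' y : ℂˣ) : ℂ) =
      orbSum ψ y := by
  classical
  have e : {ψ' : ↥(P : Subgroup G) →* ℂˣ | ∃ n : G,
        n ∈ Subgroup.normalizer ((P : Subgroup G) : Set G) ∧
        ∀ w w' : ↥(P : Subgroup G), (w' : G) = n * w * n⁻¹ → ψ' w' = ψ w} =
      ((orbP ψ : Finset _) : Set _) := by
    rw [setOf_orbit_eq]
    ext φ
    simp [mem_orbP]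
  rw [e, finsum_mem_coe_finset, orbSum]

theorem mem_orbP_of_rel {G : Type*} [Group G] [Fintype G] {p : ℕ} [Fact p.Prime] {P : Sylow p G}
    [Fintype (↥(P : Subgroup G) →* ℂˣ)] {ψ ψ' : ↥(P : Subgroup G) →* ℂˣ}
    (h : ∃ n : G, n ∈ Subgroup.normalizer ((P : Subgroup G) : Set G) ∧
      ∀ w w' : ↥(P : Subgroup G), (w' : G) = n * w * n⁻¹ → ψ' w' = ψ w) : ψ' ∈ orbP ψ := by
  have h1 : ψ' ∈ Set.range fun n => twP n ψ := by rw [← setOf_orbit_eq]; exact h
  obtain ⟨n, hn⟩ := h1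
  exact mem_orbP.mpr ⟨n, hn⟩

end Cfsg.Agent.Char
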