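import Cfsg.Agent.Lib.Char.ThirdMain
import Cfsg.Agent.Lib.Char.CoverBlocks
import Cfsg.Agent.Lib.Char.GroupAlg
import Mathlib

/-!
# The principal block over a normal subgroup of odd index
-/

set_option autoImplicit false
set_option linter.unusedSectionVars false

namespace Cfsg.Agent.Char

open Cfsg
open scoped ComplexConjugate

universe u

variable {G : Type u} [Group G] [Fintype G] {M : Ideal AlgInt}

theorem sum_pairs {ι : Type*} [Fintype ι] (S : Finset ι) (t : ι → ℂ) (τ : ι → ι)
    (hinv : ∀ i, τ (τ i) = i) (hS : ∀ i ∈ S, τ i ∈ S) (hne : ∀ i ∈ S, τ i ≠ i)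
    (ht : ∀ i ∈ S, t (τ i) = t i) :
    ∃ S' : Finset ι, S' ⊆ S ∧ ∑ i ∈ S, t i = 2 * ∑ i ∈ S', t i := by
  classical
  let e := Fintype.equivFin ι
  refine ⟨S.filter fun i => e i < e (τ i), Finset.filter_subset _ _, ?_⟩
  rw [← Finset.sum_filter_add_sum_filter_not S (fun i => e i < e (τ i)), two_mul]
  congr 1
  refine Finset.sum_bij' (fun i _ => τ i) (fun i _ => τ i) ?_ ?_ (fun i _ => hinv i)
    (fun i _ => hinv i) (fun i hi => (ht i (Finset.mem_filter.1 hi).1).symm)
  · intro i hi
    simp only [Finset.mem_filter] at hi ⊢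
    refine ⟨hS i hi.1, ?_⟩
    rw [hinv]
    exact lt_of_le_of_ne (not_lt.1 hi.2) fun h => hne i hi.1 (e.injective h)
  · intro i hi
    simp only [Finset.mem_filter] at hi ⊢
    refine ⟨hS i hi.1, ?_⟩
    rw [hinv]
    exact not_lt.2 hi.2.le

/-- No element outside a normal subgroup of odd index is conjugate to its inverse modulo it. -/
theorem not_isConj_inv_of_odd_index {N : Subgroup G} [N.Normal] (hidx : Odd N.index) {g : G}
    (hg : g ∉ N) : ¬ IsConj g g⁻¹ := by
  intro hconj
  obtain ⟨k, hk⟩ := isConj_iff.1 hconj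
  have h1 := congrArg (QuotientGroup.mk' N) hk
  simp only [map_mul, map_inv] at h1
  set a := QuotientGroup.mk' N g with ha
  set b := QuotientGroup.mk' N k with hb
  have hodd : Odd (orderOf b) := by
    refine Odd.of_dvd_nat ?_ (orderOf_dvd_natCard b)
    rwa [← Subgroup.index_eq_card]
  have h2 : Commute (b ^ 2) a := by
    have h3 : b ^ 2 * a * (b ^ 2)⁻¹ = a := by
      calc b ^ 2 * a * (b ^ 2)⁻¹ = b * (b * a * b⁻¹) * b⁻¹ := by rw [pow_two]; group
        _ = b * a⁻¹ * b⁻¹ := by rw [h1]
        _ = (b * a * b⁻¹)⁻¹ := by group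
        _ = a := by rw [h1, inv_inv]
    exact mul_inv_eq_iff_eq_mul.1 h3
  obtain ⟨m, hm⟩ := hodd
  have h4 : b = (b ^ 2) ^ (m + 1) := by
    rw [← pow_mul, show 2 * (m + 1) = orderOf b + 1 by omega, pow_succ, pow_orderOf_eq_one, one_mul]
  have h5 : Commute b a := by
    rw [h4]
    exact h2.pow_left _
  have h6 : a = a⁻¹ := by rw [← h1, h5.eq, mul_inv_cancel_right]
  have h7 : orderOf a ∣ 2 := orderOf_dvd_of_pow_eq_one (by
    rw [pow_two]
    nth_rewrite 2 [h6]
    rw [mul_inv_cancel])
  have hodd2 : Odd (orderOf a) := by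
    refine Odd.of_dvd_nat ?_ (orderOf_dvd_natCard a)
    rwa [← Subgroup.index_eq_card]
  have h8 : orderOf a = 1 := by
    rcases (Nat.dvd_prime Nat.prime_two).1 h7 with h | h
    · exact h
    · rw [h] at hodd2
      exact absurd hodd2 (by decide)
  exact hg ((QuotientGroup.eq_one_iff g).1 (orderOf_eq_one_iff.1 h8))

theorem principal_iff_of_odd_index (hM : IsPModular 2 M) (N : Subgroup G) [N.Normal] [Fintype N]
    (hidx : Odd N.index) {χ : IrrCharacter G} {θ : IrrCharacter N}
    (hover : classInner (fun n : N => (χ : G → ℂ) n) (θ : N → ℂ) ≠ 0)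
    (hreal : ∀ g : G, Odd (orderOf g) → (χ : G → ℂ) g⁻¹ = (χ : G → ℂ) g) :
    χ ∈ principalBlock M G ↔ θ ∈ principalBlock M N := by
  classical
  have hMp := pmod_prime hM
  have := Fintype.ofFinite (ConjClasses G)
  have hinvN : GInvariant N (regInd 2 : N → ℂ) := fun g n => by
    simp only [regInd]
    rw [MulEquiv.orderOf_eq (MulAut.conjNormal g) n]
  set f := extendByZero N (regInd 2 : N → ℂ) with hfdef
  set f' : G → ℂ := fun g => (regInd 2 : G → ℂ) g - f g with hf'def
  have hlam : lam (χ : G → ℂ) (regInd 2) = lam (θ : N → ℂ) (regInd 2) + lam (χ : G → ℂ) f' := by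
    rw [← lam_extend_of_constituent hover hinvN, ← lam_add]
    congr 1
    funext g
    simp [hf'def, hfdef]
  have hf'v : ∀ g : G, f' g = if g ∉ N ∧ Odd (orderOf g) then 1 else 0 := by
    intro g
    by_cases hg : g ∈ N
    · simp only [hf'def, hfdef, extendByZero_mem N _ hg, regInd, hg, not_true_eq_false, false_and,
        if_false, Subgroup.orderOf_mk, sub_self]
    · simp only [hf'def, hfdef, extendByZero_not_mem N _ hg, regInd, sub_zero, hg, not_false_eq_true,
        true_and]
      rcases Nat.even_or_odd (orderOf g) with h | h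
      · rw [if_pos (even_iff_two_dvd.1 h), if_neg (Nat.not_odd_iff_even.2 h)]
      · rw [if_neg (fun hd => Nat.not_even_iff_odd.2 h (even_iff_two_dvd.2 hd)), if_pos h]
  have hI : MemLocalIdeal M (lam (χ : G → ℂ) f') := by
    rw [lam_eq_sum_omega (isClassFunction_character (irr_isCharacter χ.2)) (fun a k => by
      rw [hf'v, hf'v, show orderOf (k * a * k⁻¹) = orderOf a from MulEquiv.orderOf_eq (MulAut.conj k) a]
      simp only [show k * a * k⁻¹ ∈ N ↔ a ∈ N from
        ⟨fun h => by simpa [mul_assoc] using Subgroup.Normal.conj_mem ‹N.Normal› _ h k⁻¹,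
          fun h => Subgroup.Normal.conj_mem ‹N.Normal› _ h k⟩])]
    simp only [hf'v, ite_mul, one_mul, zero_mul, ← Finset.sum_filter]
    let τ : ConjClasses G → ConjClasses G := fun C => ConjClasses.mk C.out⁻¹
    have hout : ∀ g : G, IsConj (ConjClasses.mk g).out g := fun g =>
      ConjClasses.mk_eq_mk_iff_isConj.1 (Quotient.out_eq (ConjClasses.mk g))
    have hinvconj : ∀ {a b : G}, IsConj a b → IsConj a⁻¹ b⁻¹ := fun {a b} h => by
      obtain ⟨k, hk⟩ := isConj_iff.1 h
      exact isConj_iff.2 ⟨k, by rw [← hk]; group⟩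
    have hτout : ∀ C : ConjClasses G, IsConj (τ C).out C.out⁻¹ := fun C => hout _
    have hmemN : ∀ {a b : G}, IsConj a b → (a ∈ N ↔ b ∈ N) := fun {a b} h => by
      obtain ⟨k, hk⟩ := isConj_iff.1 h
      rw [← hk]
      exact ⟨fun h => Subgroup.Normal.conj_mem ‹N.Normal› _ h k,
        fun h => by simpa [mul_assoc] using Subgroup.Normal.conj_mem ‹N.Normal› _ h k⁻¹⟩
    have hord : ∀ {a b : G}, IsConj a b → orderOf a = orderOf b := fun {a b} h => by
      obtain ⟨k, hk⟩ := isConj_iff.1 h
      rw [← hk]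
      exact (MulEquiv.orderOf_eq (MulAut.conj k) a).symm
    obtain ⟨S', hsub, hsum⟩ := sum_pairs
      (Finset.univ.filter fun C : ConjClasses G => C.out ∉ N ∧ Odd (orderOf C.out))
      (fun C => omega (χ : G → ℂ) C.out) τ
      (fun C => by
        conv_rhs => rw [← Quotient.out_eq C]
        exact ConjClasses.mk_eq_mk_iff_isConj.2 (inv_inv C.out ▸ hinvconj (hτout C)))
      (fun C hC => by
        simp only [Finset.mem_filter, Finset.mem_univ, true_and] at hC ⊢
        rw [hmemN (hτout C), hord (hτout C), inv_mem_iff, orderOf_inv]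
        exact hC)
      (fun C hC e => by
        simp only [Finset.mem_filter, Finset.mem_univ, true_and] at hC
        have := hτout C
        rw [e] at this
        exact not_isConj_inv_of_odd_index hidx hC.1 this)
      (fun C hC => by
        simp only [Finset.mem_filter, Finset.mem_univ, true_and] at hC
        obtain ⟨k, hk⟩ := isConj_iff.1 (hτout C).symm
        have hcard : Nat.card {x : G // IsConj (τ C).out x} =
            Nat.card {x : G // IsConj C.out x} := by
          refine Nat.card_congr (Equiv.subtypeEquiv (Equiv.inv G) fun x => ?_)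
          exact ⟨fun h => inv_inv C.out ▸ hinvconj ((hτout C).symm.trans h),
            fun h => (hτout C).trans (inv_inv x ▸ hinvconj h)⟩
        simp only [omega]
        rw [hcard, ← hk, isClassFunction_character (irr_isCharacter χ.2), hreal _ hC.2])
    rw [hsum]
    refine memLI_mul_right hMp (by exact_mod_cast memLI_p hM) (memLR_sum hMp _ _ fun C _ =>
      memLocalRing_of_isIntegral hMp.ne_top (omega_isIntegral χ.2 _))
  rw [← lam_regInd_unit_iff hM χ, ← lam_regInd_unit_iff hM θ, hlam]
  refine not_congr ⟨fun h => ?_, fun h => memLI_add hMp h hI⟩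
  simpa using memLI_sub hMp h hI

end Cfsg.Agent.Char
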