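import Cfsg.Agent.Lib.Char.FrobSylowExceptional
import Cfsg.Agent.Lib.Char.FrobSylowClassSum
import Cfsg.Agent.Lib.Char.OddIndexPrincipal
import Cfsg.Agent.Lib.Char.KleinFour
import Mathlib

/-!
# Normalizer quotient of order three: signs and degrees
-/

set_option autoImplicit false
set_option linter.unusedSectionVars false

namespace Cfsg.Agent.Char

open Cfsg
open scoped ComplexConjugate

universe u

theorem isSquare_of_mul_sq {n k l : ℤ} (hk : k ≠ 0) (h : n * k ^ 2 = l ^ 2) : IsSquare n := by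
  obtain ⟨c, rfl⟩ : k ∣ l :=
    (Int.pow_dvd_pow_iff (by norm_num)).mp (Dvd.intro_left n h)
  refine ⟨c, mul_right_cancel₀ (pow_ne_zero 2 hk) ?_⟩
  linear_combination h

private theorem one_neg {B C v w : ℤ} (hB : 0 < B) (hC : 0 < C)
    (h : B * C * (1 + B + C) + v ^ 2 * C * (1 + B + C) + w ^ 2 * B * (1 + B + C) -
      (1 + v + w) ^ 2 * (B * C) = 0) : v = B ∧ w = C := by
  have h1 : C * (v - B) ^ 2 + B * (w - C) ^ 2 + (v * C - w * B) ^ 2 = 0 := by linear_combination h
  have n1 : 0 ≤ C * (v - B) ^ 2 := mul_nonneg hC.le (sq_nonneg _)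
  have n2 : 0 ≤ B * (w - C) ^ 2 := mul_nonneg hB.le (sq_nonneg _)
  have n3 : 0 ≤ (v * C - w * B) ^ 2 := sq_nonneg _
  constructor
  · have : C * (v - B) ^ 2 = 0 := by linarith
    exact sub_eq_zero.mp (sq_eq_zero_iff.mp ((mul_eq_zero.mp this).resolve_left hC.ne'))
  · have : B * (w - C) ^ 2 = 0 := by linarith
    exact sub_eq_zero.mp (sq_eq_zero_iff.mp ((mul_eq_zero.mp this).resolve_left hB.ne'))

private theorem two_neg {A B C u v w : ℤ} (hA : u ≠ A) (h0 : 1 + A = B + C)
    (h1 : 1 + u = v + w) (h2 : A * B * C + u ^ 2 * B * C - v ^ 2 * A * C - w ^ 2 * A * B = 0) :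
    IsSquare (A * B * C) := by
  refine isSquare_of_mul_sq (k := u - A) (l := A * (v * C - w * B)) (sub_ne_zero.mpr hA) ?_
  obtain rfl : C = 1 + A - B := by linarith
  obtain rfl : w = 1 + u - v := by linarith
  linear_combination (A * (1 + A)) * h2

/-- Three signed squares. -/
theorem three_sign {σ₁ σ₂ σ₃ n₁ n₂ n₃ v₁ v₂ v₃ : ℤ} (hσ₁ : σ₁ = 1 ∨ σ₁ = -1)
    (hσ₂ : σ₂ = 1 ∨ σ₂ = -1) (hσ₃ : σ₃ = 1 ∨ σ₃ = -1) (hn₁ : 0 < n₁) (hn₂ : 0 < n₂)
    (hn₃ : 0 < n₃) (h0 : 1 + σ₁ * n₁ + σ₂ * n₂ + σ₃ * n₃ = 0)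
    (h1 : 1 + σ₁ * v₁ + σ₂ * v₂ + σ₃ * v₃ = 0)
    (h2 : n₁ * n₂ * n₃ + σ₁ * v₁ ^ 2 * (n₂ * n₃) + σ₂ * v₂ ^ 2 * (n₁ * n₃) +
      σ₃ * v₃ ^ 2 * (n₁ * n₂) = 0)
    (e1 : v₁ ≠ n₁) (e2 : v₂ ≠ n₂) (e3 : σ₃ = 1 → v₃ ≠ n₃) :
    (if σ₁ = -1 then 1 else 0) + (if σ₂ = -1 then 1 else 0) + (if σ₃ = -1 then 1 else 0) = (2 : ℕ) ∧
      IsSquare (n₁ * n₂ * n₃) := by
  rcases hσ₁ with rfl | rfl <;> rcases hσ₂ with rfl | rfl <;> rcases hσ₃ with rfl | rfl
  · exfalso; linarith
  · -- only the third is negative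
    exfalso
    obtain rfl : n₃ = 1 + n₁ + n₂ := by linarith
    obtain rfl : v₃ = 1 + v₁ + v₂ := by linarith
    exact e1 (one_neg (v := v₁) (w := v₂) hn₁ hn₂ (by linear_combination h2)).1
  · exfalso
    obtain rfl : n₂ = 1 + n₁ + n₃ := by linarith
    obtain rfl : v₂ = 1 + v₁ + v₃ := by linarith
    exact e1 (one_neg (v := v₁) (w := v₃) hn₁ hn₃ (by linear_combination h2)).1
  · refine ⟨by norm_num, ?_⟩
    exact two_neg (u := v₁) (v := v₂) (w := v₃) e1 (by linarith) (by linarith) (by linear_combination h2)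
  · exfalso
    obtain rfl : n₁ = 1 + n₂ + n₃ := by linarith
    obtain rfl : v₁ = 1 + v₂ + v₃ := by linarith
    exact e2 (one_neg (v := v₂) (w := v₃) hn₂ hn₃ (by linear_combination h2)).1
  · refine ⟨by norm_num, ?_⟩
    rw [show n₁ * n₂ * n₃ = n₂ * n₁ * n₃ by ring]
    exact two_neg (u := v₂) (v := v₁) (w := v₃) e2 (by linarith) (by linarith) (by linear_combination h2)
  · refine ⟨by norm_num, ?_⟩
    rw [show n₁ * n₂ * n₃ = n₃ * n₁ * n₂ by ring]
    exact two_neg (u := v₃) (v := v₁) (w := v₂) (e3 rfl) (by linarith) (by linarith)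
      (by linear_combination h2)
  · exfalso; linarith

variable {G : Type u} [Group G] [Fintype G] {M : Ideal AlgInt} {p : ℕ} [Fact p.Prime]
  {P : Sylow p G}

/-- A non-trivial character with `χ t = χ 1` for `t` in no proper normal subgroup. -/
theorem eq_one_of_apply_eq {t : G} (ht : ∀ K : Subgroup G, K.Normal → t ∈ K → K = ⊤)
    {χ : IrrCharacter G} (h : (χ : G → ℂ) t = (χ : G → ℂ) 1) : (χ : G → ℂ) = fun _ => 1 := by
  have hK := ht (blockKerSub {χ}) (blockKerSub_normal _) fun ψ hψ => by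
    rw [Set.mem_singleton_iff.mp hψ]; exact h
  have hall : ∀ g : G, (χ : G → ℂ) g = (χ : G → ℂ) 1 := fun g => by
    have hg : g ∈ blockKerSub {χ} := hK ▸ Subgroup.mem_top g
    exact hg χ rfl
  have h1 := irr_self χ.2
  rw [classInner] at h1
  simp only [hall, Finset.sum_const, Finset.card_univ, nsmul_eq_mul, ← Nat.card_eq_fintype_card]
    at h1
  rw [← mul_assoc, inv_mul_cancel₀ (Nat.cast_ne_zero.mpr Nat.card_pos.ne'), one_mul] at h1
  obtain ⟨d, hd⟩ := charOne_eq_natCast (irr_isCharacter χ.2)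
  rw [hd, map_natCast] at h1
  have : d * d = 1 := by exact_mod_cast h1
  funext g
  rw [hall, hd, mul_eq_one.mp this |>.1, Nat.cast_one]

namespace FrobSylow

variable (h : FrobSylow P 3)
include h

theorem conj_inv_imp (y : ↥(P : Subgroup G)) (hy : (y : G) ≠ 1)
    (hc : IsConj (y : G) (y : G)⁻¹) : (y : G) * y = 1 := by
  classical
  by_contra hne
  obtain ⟨n, hn, he⟩ := h.fusion (y' := y⁻¹) (by simpa using hc)
  rw [Subgroup.coe_inv] at he
  have hn2 : n * n ∈ Subgroup.centralizer ((P : Subgroup G) : Set G) := by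
    refine h.mem_centralizer_of_conj_eq (mul_mem hn hn) hy ?_
    calc n * n * (y : G) * (n * n)⁻¹ = n * (n * y * n⁻¹) * n⁻¹ := by group
      _ = n * (y : G)⁻¹ * n⁻¹ := by rw [he]
      _ = (n * y * n⁻¹)⁻¹ := by group
      _ = y := by rw [he, inv_inv]
  let τ : ↥(P : Subgroup G) → ↥(P : Subgroup G) := fun w => ⟨n * w * n⁻¹, conj_mem hn w.2⟩
  have hinv : ∀ w, τ (τ w) = w := fun w => Subtype.ext (by
    show n * (n * (w : G) * n⁻¹) * n⁻¹ = w
    calc n * (n * (w : G) * n⁻¹) * n⁻¹ = n * n * w * (n * n)⁻¹ := by group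
      _ = w := by rw [← (hn2 (w : G) w.2 : (w : G) * (n * n) = n * n * w), mul_inv_cancel_right])
  obtain ⟨S', -, hS'⟩ := sum_pairs (clP P (y : G)) (fun _ => (1 : ℂ)) τ hinv
    (fun w hw => mem_clP.mpr ((mem_clP.mp hw).trans (isConj_iff.mpr ⟨n, rfl⟩)))
    (fun w hw e => by
      have hw1 : (w : G) ≠ 1 := fun e1 => hy (by
        have := mem_clP.mp hw
        rw [e1] at this
        exact isConj_one_left.mp this)
      have hnC := h.mem_centralizer_of_conj_eq hn hw1 (congrArg Subtype.val e)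
      refine hne ?_
      have h2 : (y : G) * n = n * y := hnC (y : G) y.2
      rw [← h2, mul_inv_cancel_right] at he
      calc (y : G) * y = (y : G) * (y : G)⁻¹ := by rw [← he]
        _ = 1 := mul_inv_cancel _)
    (fun w _ => rfl)
  simp only [Finset.sum_const, nsmul_eq_mul, mul_one, h.card_clP hy] at hS'
  have : 3 = 2 * S'.card := by exact_mod_cast hS'
  omega

open scoped Classical in
theorem exists_good_element (hP : 4 < Nat.card P) {t : G} (ht : orderOf t = 2) :
    ∃ y₂ ∈ nonOne P,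
      (∀ v : Subgroup.centralizer ({(y₂ : G)} : Set G), ¬ p ∣ orderOf v →
        ∀ y z : G, IsConj t y → IsConj t z → y * z ≠ (y₂ : G) * (v : G)) ∧
      (∀ a b : ↥(P : Subgroup G), IsConj t (a : G) → IsConj t (b : G) →
        a * y₂ ≠ 1 ∧ a * b * y₂ ≠ 1) := by
  have hp : p.Prime := Fact.out
  have hsq : ∀ z : G, IsConj t z → z * z = 1 := fun z hz => by
    obtain ⟨c, rfl⟩ := isConj_iff.mp hz
    calc c * t * c⁻¹ * (c * t * c⁻¹) = c * (t ^ 2) * c⁻¹ := by rw [pow_two]; group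
      _ = 1 := by rw [← ht, pow_orderOf_eq_one]; group
  have hflip : ∀ y z : G, IsConj t y → IsConj t z →
      y * (y * z) * y⁻¹ = (y * z)⁻¹ ∧ z * (y * z) * z⁻¹ = (y * z)⁻¹ := fun y z hy hz => by
    have e1 : y⁻¹ = y := inv_eq_of_mul_eq_one_right (hsq y hy)
    have e2 : z⁻¹ = z := inv_eq_of_mul_eq_one_right (hsq z hz)
    rw [mul_inv_rev, e1, e2]
    constructor
    · rw [← mul_assoc y y, hsq y hy, one_mul]
    · rw [mul_assoc z (y * z) z, mul_assoc y z z, hsq z hz, mul_one]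
  have hpart : ∀ (y₂ : ↥(P : Subgroup G)) (v : Subgroup.centralizer ({(y₂ : G)} : Set G)),
      ¬ p ∣ orderOf v → ∀ k : G, k * ((y₂ : G) * (v : G)) * k⁻¹ = ((y₂ : G) * (v : G))⁻¹ →
        k * (y₂ : G) * k⁻¹ = (y₂ : G)⁻¹ := fun y₂ v hv k hk => by
    have hv' : ¬ p ∣ orderOf (v : G) := by rwa [Subgroup.orderOf_coe]
    have hc : Commute (y₂ : G) (v : G) := cent_mul_comm v
    have e1 : ppt p ((y₂ : G) * (v : G)) = y₂ := ppt_mul hp hc (ppower (P := P) y₂) hv'
    have e2 : ppt p ((y₂ : G) * (v : G))⁻¹ = (y₂ : G)⁻¹ := by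
      rw [mul_inv_rev, ← hc.inv_inv.eq]
      exact ppt_mul hp hc.inv_inv (by simpa using ppower (P := P) y₂) (by rwa [orderOf_inv])
    rw [← e1, ← ppt_conj hp, hk, e2, e1]
  by_cases hex : ∃ y : ↥(P : Subgroup G), (y : G) * y ≠ 1
  · obtain ⟨y₂, hy₂⟩ := hex
    have hy1 : (y₂ : G) ≠ 1 := fun e => hy₂ (by rw [e, one_mul])
    refine ⟨y₂, mem_nonOne.mpr hy1, fun v hv y z hy hz he => hy₂ ?_, fun a b ha hb => ?_⟩
    · refine h.conj_inv_imp y₂ hy1 (isConj_iff.mpr ⟨y, hpart y₂ v hv y ?_⟩)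
      rw [← he]
      exact (hflip y z hy hz).1
    · haveI := h.comm
      constructor <;> intro e
      · refine hy₂ ?_
        have e' : (a : G) * y₂ = 1 := congrArg Subtype.val e
        rw [show (y₂ : G) = (a : G)⁻¹ from eq_inv_of_mul_eq_one_right e', ← mul_inv_rev,
          hsq _ ha, inv_one]
      · refine hy₂ ?_
        have e' : (a : G) * b * y₂ = 1 := congrArg Subtype.val e
        have hab : (b : G) * a = a * b := congrArg Subtype.val (mul_comm' b a)
        rw [show (y₂ : G) = ((a : G) * b)⁻¹ from eq_inv_of_mul_eq_one_right e', ← mul_inv_rev,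
          show (a : G) * b * (a * b) = 1 from by
            calc (a : G) * b * (a * b) = a * (b * a) * b := by group
              _ = a * (a * b) * b := by rw [hab]
              _ = (a * a) * (b * b) := by group
              _ = 1 := by rw [hsq _ ha, hsq _ hb, one_mul], inv_one]
  · push Not at hex
    haveI := h.comm
    obtain ⟨y₀, hy₀⟩ : ∃ y : ↥(P : Subgroup G), (y : G) ≠ 1 := by
      haveI : Nontrivial ↥(P : Subgroup G) :=
        Finite.one_lt_card_iff_nontrivial.mp (by omega)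
      obtain ⟨y, hy⟩ := exists_ne (1 : ↥(P : Subgroup G))
      exact ⟨y, by simpa using hy⟩
    have hp2 : p = 2 := by
      obtain ⟨k, hk⟩ := ppower (P := P) y₀
      rw [orderOf_eq_prime (p := 2) (by rw [pow_two]; exact hex y₀) hy₀] at hk
      rcases Nat.eq_zero_or_pos k with h0 | h0
      · rw [h0, pow_zero] at hk; omega
      · exact (Nat.prime_dvd_prime_iff_eq hp Nat.prime_two).mp (hk ▸ dvd_pow_self p h0.ne')
    have hA3 : (clP P t).card ≤ 3 := by
      rcases (clP P t).eq_empty_or_nonempty with e | ⟨a, ha⟩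
      · simp [e]
      · have ha' := mem_clP.mp ha
        have ha1 : (a : G) ≠ 1 := fun e => by
          rw [e] at ha'
          rw [isConj_one_left.mp ha', orderOf_one] at ht
          omega
        rw [← h.card_clP ha1]
        refine le_of_eq (congrArg Finset.card ?_)
        ext w
        simp only [mem_clP]
        exact ⟨fun hw => ha'.symm.trans hw, fun hw => ha'.trans hw⟩
    have h16 : 16 ≤ Nat.card P := by
      obtain ⟨r, rep, idx, -, hcount, -⟩ :=
        @FrobSylow.exists_orbit_index G _ _ p _ P 3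
          (haveI := h.finite_dual.1; Fintype.ofFinite _) h
      obtain ⟨k, hk⟩ := IsPGroup.iff_card.mp P.isPGroup'
      replace hk : Nat.card P = 2 ^ k := hk.trans (by rw [hp2])
      rcases Nat.lt_or_ge k 4 with hk4 | hk4
      · interval_cases k <;> omega
      · rw [hk]
        exact (Nat.pow_le_pow_right (by norm_num) hk4 : 2 ^ 4 ≤ 2 ^ k)
    obtain ⟨y₂, -, hy₂⟩ := Finset.exists_mem_notMem_of_card_lt_card
      (s := ({1} : Finset ↥(P : Subgroup G)) ∪ clP P t ∪
        ((clP P t) ×ˢ (clP P t)).image fun ab => ab.1 * ab.2)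
      (t := Finset.univ) (by
        refine lt_of_le_of_lt ((Finset.card_union_le _ _).trans (add_le_add
          (Finset.card_union_le _ _) Finset.card_image_le)) ?_
        rw [Finset.card_singleton, Finset.card_product, Finset.card_univ,
          ← Nat.card_eq_fintype_card]
        have := Nat.mul_le_mul hA3 hA3
        omega)
    simp only [Finset.mem_union, Finset.mem_singleton, Finset.mem_image, Finset.mem_product,
      not_or, not_exists, not_and, Prod.exists, mem_clP] at hy₂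
    obtain ⟨⟨hy1, hyA⟩, hyAA⟩ := hy₂
    have hy1' : (y₂ : G) ≠ 1 := fun e => hy1 (Subtype.ext e)
    have hyinv : y₂⁻¹ = y₂ := inv_eq_of_mul_eq_one_right (Subtype.ext (hex y₂))
    refine ⟨y₂, mem_nonOne.mpr hy1', fun v hv y z hy hz he => ?_, fun a b ha hb => ⟨?_, ?_⟩⟩
    · obtain ⟨V, hVn, hVp, hVi, hV⟩ := h.hnpc_centralizer hy1'
      have hPK : (P : Subgroup G) ≤ Subgroup.centralizer ({(y₂ : G)} : Set G) := fun w hw =>
        Subgroup.mem_centralizer_singleton_iff.mpr ((h.le_centralizer hw) (y₂ : G) y₂.2).symm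
      have hinK : ∀ k : G, k * ((y₂ : G) * (v : G)) * k⁻¹ = ((y₂ : G) * (v : G))⁻¹ → k ∈ Subgroup.centralizer ({(y₂ : G)} : Set G) := by
        intro k hk
        refine Subgroup.mem_centralizer_singleton_iff.mpr (mul_inv_eq_iff_eq_mul.mp ?_)
        rw [hpart y₂ v hv k hk, ← Subgroup.coe_inv, hyinv]
      have hyK : y ∈ Subgroup.centralizer ({(y₂ : G)} : Set G) := hinK y (by rw [← he]; exact (hflip y z hy hz).1)
      have hzK : z ∈ Subgroup.centralizer ({(y₂ : G)} : Set G) := hinK z (by rw [← he]; exact (hflip y z hy hz).2)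
      -- the retraction of `↥(Subgroup.centralizer ({(y₂ : G)} : Set G))` on `P`
      let q : ↥(P : Subgroup G) →* ↥(Subgroup.centralizer ({(y₂ : G)} : Set G)) ⧸ V :=
        (QuotientGroup.mk' V).comp (Subgroup.inclusion hPK)
      have hqinj : Function.Injective q := by
        rw [injective_iff_map_eq_one]
        intro a ha
        have hm : Subgroup.inclusion hPK a ∈ V := (QuotientGroup.eq_one_iff _).mp ha
        obtain ⟨k, hk⟩ := ppower (P := P) a
        have hr := (hV _).mpr hm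
        rw [← Subgroup.orderOf_coe] at hr
        change ¬ p ∣ orderOf (a : G) at hr
        rw [hk] at hr
        rcases Nat.eq_zero_or_pos k with h0 | h0
        · rw [h0, pow_zero] at hk
          exact Subtype.ext (orderOf_eq_one_iff.mp hk)
        · exact absurd (dvd_pow_self p h0.ne') hr
      have hqbij : Function.Bijective q := by
        rw [Nat.bijective_iff_injective_and_card]
        exact ⟨hqinj, by rw [← Subgroup.index_eq_card, hVi]⟩
      have key : ∀ w : G, IsConj t w → ∀ hw : w ∈ Subgroup.centralizer ({(y₂ : G)} : Set G),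
          ∃ a : ↥(P : Subgroup G), IsConj t (a : G) ∧ q a = QuotientGroup.mk' V ⟨w, hw⟩ := by
        intro w hwt hw
        set Q : Sylow p ↥(Subgroup.centralizer ({(y₂ : G)} : Set G)) := P.subtype hPK
        have hpg : IsPGroup p (Subgroup.zpowers (⟨w, hw⟩ : ↥(Subgroup.centralizer ({(y₂ : G)} : Set G)))) := by
          refine isPGroup_of_ppower hp ⟨1, ?_⟩
          obtain ⟨c, hc⟩ := isConj_iff.mp hwt
          rw [Subgroup.orderOf_mk, ← hc, ← MulAut.conj_apply, MulEquiv.orderOf_eq, ht, hp2,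
            pow_one]
        obtain ⟨R, hR⟩ := hpg.exists_le_sylow
        obtain ⟨c, hc⟩ := MulAction.exists_smul_eq (↥(Subgroup.centralizer ({(y₂ : G)} : Set G))) R Q
        have hmem : c * ⟨w, hw⟩ * c⁻¹ ∈ (Q : Subgroup ↥(Subgroup.centralizer ({(y₂ : G)} : Set G))) := by
          rw [← hc, Sylow.coe_subgroup_smul]
          exact ⟨⟨w, hw⟩, hR (Subgroup.mem_zpowers _), rfl⟩
        refine ⟨⟨_, hmem⟩, hwt.trans (isConj_iff.mpr ⟨(c : G), rfl⟩), ?_⟩
        have hcomm : ∀ x x' : ↥(Subgroup.centralizer ({(y₂ : G)} : Set G)) ⧸ V, x * x' = x' * x := by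
          intro x x'
          obtain ⟨a, rfl⟩ := hqbij.2 x
          obtain ⟨b, rfl⟩ := hqbij.2 x'
          rw [← map_mul, ← map_mul, mul_comm' a b]
        show QuotientGroup.mk' V (c * ⟨w, hw⟩ * c⁻¹) = _
        rw [map_mul, map_mul, hcomm (QuotientGroup.mk' V c), mul_assoc, ← map_mul, mul_inv_cancel,
          map_one, mul_one]
      obtain ⟨a, ha, hqa⟩ := key y hy hyK
      obtain ⟨b, hb, hqb⟩ := key z hz hzK
      refine hyAA a b ⟨ha, hb⟩ (hqinj ?_)
      rw [map_mul, hqa, hqb, ← map_mul]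
      show QuotientGroup.mk' V _ = QuotientGroup.mk' V (Subgroup.inclusion hPK y₂)
      rw [show (⟨y, hyK⟩ * ⟨z, hzK⟩ : ↥(Subgroup.centralizer ({(y₂ : G)} : Set G))) = Subgroup.inclusion hPK y₂ * v from Subtype.ext he,
        map_mul, show QuotientGroup.mk' V v = 1 from (QuotientGroup.eq_one_iff v).mpr ((hV v).mp hv),
        mul_one]
    · intro e
      refine hyA ?_
      rw [show y₂ = a⁻¹ from eq_inv_of_mul_eq_one_right e, Subgroup.coe_inv,
        inv_eq_of_mul_eq_one_right (hsq _ ha)]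
      exact ha
    · intro e
      exact hyAA a b ⟨ha, hb⟩ (hyinv ▸ eq_inv_of_mul_eq_one_left e)

variable [Fintype (↥(P : Subgroup G) →* ℂˣ)] {r : ℕ}
  {rep : Fin r → (↥(P : Subgroup G) →* ℂˣ)} {idx : (↥(P : Subgroup G) →* ℂˣ) → Fin r}

open scoped Classical in
/-- In the case of index three the exceptional constant can be taken to be zero. -/
theorem exists_normalized (hM : IsPModular p M) (hr : 2 ≤ r) (hI : OrbitIndex 3 rep idx) :
    ∃ (X : Finset (IrrCharacter G)) (μ : Fin r → IrrCharacter G) (a : IrrCharacter G → ℤ)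
      (δ : ℤ), PrincipalExc M 3 rep X μ a 0 δ := by
  obtain ⟨X, μ, a, d, δ, hX⟩ := h.exists_principal_exc hM (by norm_num) hr hI
  by_cases hd : d = 0
  · subst hd
    exact ⟨X, μ, a, δ, hX⟩
  have hpos : ∀ χ ∈ X, (1 : ℤ) ≤ a χ ^ 2 := fun χ hχ => sq_pos_of_ne_zero (hX.a_ne χ hχ)
  set e1 : IrrCharacter G := ⟨fun _ => 1, isIrrCharacter_one⟩
  have hsum : (X.card : ℤ) ≤ ∑ χ ∈ X, a χ ^ 2 := by
    rw [Finset.card_eq_sum_ones, Nat.cast_sum]
    exact Finset.sum_le_sum fun χ hχ => by simpa using hpos χ hχ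
  have hX1 : 1 ≤ X.card := Finset.card_pos.mpr ⟨e1, hX.one_mem⟩
  have hn := hX.norm
  have hr' : (2 : ℤ) ≤ (r : ℤ) := by exact_mod_cast hr
  have hd2 : 1 ≤ d ^ 2 := sq_pos_of_ne_zero hd
  have hrd : (r : ℤ) - 1 ≤ ((r : ℤ) - 1) * d ^ 2 := le_mul_of_one_le_right (by omega) hd2
  have hdδ : d = δ := by
    by_contra hne
    have h4 : (d - δ) ^ 2 ≤ 2 := by push_cast at hn; omega
    have h5 : d ^ 2 ≤ 3 := by
      have : d ^ 2 ≤ ((r : ℤ) - 1) * d ^ 2 := le_mul_of_one_le_left (sq_nonneg d) (by omega)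
      have := sq_nonneg (d - δ)
      push_cast at hn
      omega
    have hdl : d ≤ 1 ∧ -1 ≤ d := by constructor <;> nlinarith
    rcases hX.sign with e | e <;> subst e <;>
      (have : d = 1 ∨ d = -1 := by omega) <;> rcases this with rfl | rfl <;> omega
  subst hdδ
  have hδsq : d ^ 2 = 1 := by rcases hX.sign with e | e <;> simp [e]
  rw [sub_self, hδsq] at hn
  have hr4 : r ≤ 4 := by push_cast at hn; omega
  have hcount := hI.count
  obtain ⟨k, hk⟩ := IsPGroup.iff_card.mp P.isPGroup'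
  interval_cases r
  · -- two orbits: exchange them
    refine ⟨X, fun i => μ i.rev, a, -d, ⟨?_, hX.inj.comp Fin.rev_injective, fun χ => ?_,
      fun i => hX.notMem _, hX.one_mem, hX.one_val, hX.a_ne, hX.a_val, fun i y hy => ?_, ?_,
      fun i j g hg => hX.reg _ _ g hg, fun i g hg => ?_⟩⟩
    · rcases hX.sign with e | e <;> simp [e]
    · rw [hX.mem_iff]
      exact or_congr_right ⟨fun ⟨i, hi⟩ => ⟨i.rev, by rw [Fin.rev_rev, hi]⟩,
        fun ⟨i, hi⟩ => ⟨_, hi⟩⟩
    · rw [hX.mu_val _ y hy]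
      have h2 := h.sum_all_orbSum hI (mem_nonOne.mp hy)
      rw [Fin.sum_univ_two] at h2
      fin_cases i <;> simp [Fin.rev] <;> linear_combination (d : ℂ) * h2
    · have h2 := hX.norm
      push_cast at h2 ⊢
      linear_combination h2
    · have h2 := hX.rel i.rev g hg
      push_cast at h2 ⊢
      linear_combination h2
  · -- `|P| = 10`
    exfalso
    have h10 : p ^ k = 10 := by omega
    have hk0 : k ≠ 0 := by rintro rfl; simp at h10
    have h2 : (2 : ℕ) ∣ p ^ k := by omega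
    have h5 : (5 : ℕ) ∣ p ^ k := by omega
    have e2 := (Nat.prime_dvd_prime_iff_eq Nat.prime_two Fact.out).mp
      (Nat.prime_two.dvd_of_dvd_pow h2)
    have e5 := (Nat.prime_dvd_prime_iff_eq (by norm_num : Nat.Prime 5) Fact.out).mp
      ((by norm_num : Nat.Prime 5).dvd_of_dvd_pow h5)
    omega
  · -- four orbits
    exfalso
    have hc : X.card = 1 := by push_cast at hn; omega
    obtain ⟨χ, hχ⟩ := Finset.card_eq_one.mp hc
    have he : e1 = χ := Finset.mem_singleton.mp (hχ ▸ hX.one_mem)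
    have h1 := hX.rel ⟨0, by norm_num⟩ 1 (by simp [(Fact.out : p.Prime).ne_one])
    obtain ⟨q, hq⟩ := charOne_eq_natCast (irr_isCharacter (μ ⟨0, by norm_num⟩).2)
    rw [hχ, Finset.sum_singleton, ← he, hX.one_val, hq] at h1
    have h3 : ((3 * d * q + 1 : ℤ) : ℂ) = 0 := by
      push_cast
      simp only [e1, Int.cast_one, mul_one] at h1
      push_cast at h1
      linear_combination h1
    have h4 : 3 * (d * q) + 1 = 0 := by
      rw [← mul_assoc]
      exact_mod_cast h3
    omega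

omit [Fintype (↥(P : Subgroup G) →* ℂˣ)] in
theorem two_le_of_count {r : ℕ} (hcount : r * 3 + 1 = Nat.card P) (hP : 4 < Nat.card P) : 2 ≤ r := by
  omega

end FrobSylow

end Cfsg.Agent.Char
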