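import Cfsg.Agent.Lib.Char.Coprime
import Cfsg.Agent.Lib.Char.Clifford
import Cfsg.Agent.Lib.Char.CliffordInd
import Cfsg.Agent.Lib.Char.Gallagher
import Cfsg.Agent.Lib.Char.FreeTrace

/-!
# Fully ramified characters
-/

set_option autoImplicit false
open scoped ComplexConjugate
open Cfsg

namespace Cfsg.Agent.Char

variable {H : Type*} [Group H] [Fintype H]

/-- Data of a character fully ramified over a normal subgroup. -/
structure FRCtx (Z : Subgroup H) [Fintype Z] (χ : IrrCharacter H) (θ : IrrCharacter Z) (e : ℕ) : Prop where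
  sq : e ^ 2 = Z.index
  res : ∀ z : Z, (χ : H → ℂ) z = (e : ℂ) * (θ : Z → ℂ) z

variable {Z : Subgroup H} [Fintype Z] {χ : IrrCharacter H} {θ : IrrCharacter Z} {e : ℕ}

theorem FRCtx.ne_zero (h : FRCtx Z χ θ e) : (e : ℂ) ≠ 0 := by
  intro h0
  have h1 := h.res 1
  rw [h0, zero_mul, Subgroup.coe_one] at h1
  exact irr_one_ne_zero χ.2 h1

theorem FRCtx.vanish (h : FRCtx Z χ θ e) {x : H} (hx : x ∉ Z) : (χ : H → ℂ) x = 0 := by
  classical
  have hZs : ∀ z : Z, ‖(χ : H → ℂ) z‖ ^ 2 = (Z.index : ℝ) * ‖(θ : Z → ℂ) z‖ ^ 2 := fun z => by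
    rw [h.res, norm_mul, mul_pow, Complex.norm_natCast, ← Nat.cast_pow, h.sq]
  have h1 := irr_self χ.2
  have h2 := irr_self θ.2
  simp only [classInner, Complex.mul_conj', ← Complex.ofReal_pow] at h1 h2
  rw [inv_mul_eq_one₀ (Nat.cast_ne_zero.2 Nat.card_pos.ne')] at h1 h2
  norm_cast at h1 h2
  have h3 : ∑ z : Z, ‖(χ : H → ℂ) z‖ ^ 2 = ∑ g : H, ‖(χ : H → ℂ) g‖ ^ 2 := by
    rw [Finset.sum_congr rfl fun z _ => hZs z, ← Finset.mul_sum, ← h2, ← h1, ← Nat.cast_mul,
      Subgroup.index_mul_card]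
  have h4 : ∑ g ∈ Finset.univ.filter (fun g => g ∉ Z), ‖(χ : H → ℂ) g‖ ^ 2 = 0 := by
    have := Finset.sum_filter_add_sum_filter_not (Finset.univ : Finset H) (fun g => g ∈ Z)
      (fun g => ‖(χ : H → ℂ) g‖ ^ 2)
    rw [← h3, Finset.sum_subtype (Finset.univ.filter fun g => g ∈ Z) (p := fun g => g ∈ Z) (by simp)] at this
    linarith
  have h5 := (Finset.sum_eq_zero_iff_of_nonneg fun g _ => sq_nonneg _).1 h4 x (by simp [hx])
  simpa using h5

theorem FRCtx.inv (h : FRCtx Z χ θ e) [Z.Normal] (g : H) (z : Z) :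
    (θ : Z → ℂ) (MulAut.conjNormal g z) = (θ : Z → ℂ) z := by
  refine mul_left_cancel₀ h.ne_zero ?_
  rw [← h.res, ← h.res, MulAut.conjNormal_apply]
  exact isClassFunction_character (irr_isCharacter χ.2) _ _

theorem FRCtx.indFun_eq (h : FRCtx Z χ θ e) [Z.Normal] :
    indFun Z (θ : Z → ℂ) = (e : ℂ) • (χ : H → ℂ) := by
  funext g
  by_cases hg : g ∈ Z
  · have h1 := indFun_invariant Z (θ : Z → ℂ) h.inv ⟨g, hg⟩
    simp only at h1
    rw [h1, Pi.smul_apply, smul_eq_mul, show (χ : H → ℂ) g = _ from h.res ⟨g, hg⟩, ← mul_assoc,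
      ← h.sq, Nat.cast_pow]
    ring
  · rw [indFun_normal_not_mem Z _ hg, Pi.smul_apply, smul_eq_mul, h.vanish hg, mul_zero]

/-- A cyclic subgroup of the quotient is never self-centralizing. -/
theorem FRCtx.centralizer_cyclic_ne (h : FRCtx Z χ θ e) [Z.Normal] (hZ : Z ≠ ⊤) (C : Subgroup (H ⧸ Z))
    (hC : IsCyclic C) : Subgroup.centralizer (C : Set (H ⧸ Z)) ≠ C := by
  classical
  intro hCC
  set K := C.comap (QuotientGroup.mk' Z) with hK
  haveI : Fintype K := Fintype.ofFinite K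
  have hZK : Z ≤ K := fun z hz => by
    rw [hK, Subgroup.mem_comap, QuotientGroup.mk'_apply, (QuotientGroup.eq_one_iff z).2 hz]
    exact one_mem _
  set Z' := Z.subgroupOf K with hZ'
  haveI : Z'.Normal := (inferInstance : Z.Normal).comap _
  haveI : Fintype Z' := Fintype.ofFinite Z'
  let toC : (K ⧸ Z') →* C := QuotientGroup.lift Z'
    (((QuotientGroup.mk' Z).comp K.subtype).codRestrict C fun k => k.2)
    (fun k hk => MonoidHom.mem_ker.2 (Subtype.ext ((QuotientGroup.eq_one_iff (k : H)).2 hk)))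
  have hinjC : Function.Injective toC := by
    rw [injective_iff_map_eq_one]
    intro q hq
    obtain ⟨k, rfl⟩ := QuotientGroup.mk_surjective q
    exact (QuotientGroup.eq_one_iff k).2 ((QuotientGroup.eq_one_iff (k : H)).1 (congrArg Subtype.val hq))
  have hcyc : IsCyclic (K ⧸ Z') := by haveI := hC; exact isCyclic_of_injective toC hinjC
  let eZ : Z' ≃* Z := Subgroup.subgroupOfEquivOfLe hZK
  let θ' : Z' → ℂ := fun z => (θ : Z → ℂ) (eZ z)
  have hθ' : IsIrrCharacter Z' θ' := isIrrCharacter_comp_equiv eZ θ.2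
  have hinv' : ∀ (k : K) (z : Z'), θ' (MulAut.conjNormal k z) = θ' z := fun k z => by
    show (θ : Z → ℂ) (eZ (MulAut.conjNormal k z)) = _
    rw [show eZ (MulAut.conjNormal k z) = MulAut.conjNormal (k : H) (eZ z) from Subtype.ext rfl]
    exact h.inv _ _
  obtain ⟨φ, hφ, hφres⟩ := exists_extension_cyclic Z' hcyc hθ' hinv'
  haveI := finite_hom_units (K ⧸ Z')
  haveI := Fintype.ofFinite ((K ⧸ Z') →* ℂˣ)
  haveI : Fintype (K ⧸ Z') := Fintype.ofFinite _
  letI : CommGroup (K ⧸ Z') := IsCyclic.commGroup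
  have hab : ∀ a b : K ⧸ Z', a * b = b * a := fun a b => mul_comm a b
  let tw : ((K ⧸ Z') →* ℂˣ) → K → ℂ := fun l k => (l (QuotientGroup.mk k) : ℂ) * φ k
  have htw : ∀ l, IsIrrCharacter K (tw l) := fun l =>
    isIrr_linear_mul hφ (l.comp (QuotientGroup.mk' Z'))
  have hind : indFun Z' θ' = ∑ l : (K ⧸ Z') →* ℂˣ, tw l := by
    funext k
    simp only [tw, Finset.sum_apply, ← Finset.sum_mul, sum_hom_apply hab]
    by_cases hk : k ∈ Z'
    · rw [if_pos ((QuotientGroup.eq_one_iff k).2 hk)]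
      have h1 := indFun_invariant Z' θ' hinv' ⟨k, hk⟩
      simp only at h1
      rw [h1, ← hφres ⟨k, hk⟩]
      rfl
    · rw [indFun_normal_not_mem Z' _ hk, if_neg fun e' => hk ((QuotientGroup.eq_one_iff k).1 e'), zero_mul]
  -- each twist induces a multiple of `χ`
  have hsumH : ∑ l : (K ⧸ Z') →* ℂˣ, indFun K (tw l) = (e : ℂ) • (χ : H → ℂ) := by
    rw [← h.indFun_eq, ← indFun_trans Z K hZK]
    have h1 : ∑ l : (K ⧸ Z') →* ℂˣ, indFun K (tw l) = indFun K (∑ l : (K ⧸ Z') →* ℂˣ, tw l) := by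
      funext g
      simp only [Finset.sum_apply, indFun]
      rw [← Finset.mul_sum, Finset.sum_comm]
      congr 1
      refine Finset.sum_congr rfl fun x _ => ?_
      by_cases hx : x⁻¹ * g * x ∈ K
      · rw [extendByZero_mem K _ hx, Finset.sum_apply]
        exact Finset.sum_congr rfl fun l _ => extendByZero_mem K _ hx
      · rw [extendByZero_not_mem K _ hx]
        exact Finset.sum_eq_zero fun l _ => extendByZero_not_mem K _ hx
    rw [h1, ← hind]
    rfl
  have hmult : ∀ l, ∃ n : ℕ, indFun K (tw l) = (n : ℂ) • (χ : H → ℂ) := by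
    intro l
    have hc : ∀ l', IsCharacter H (indFun K (tw l')) := fun l' =>
      isCharacter_indFun K (irr_isCharacter (htw l'))
    choose n hn using fun (p : ((K ⧸ Z') →* ℂˣ) × IrrCharacter H) =>
      classInner_natCast (hc p.1) (irr_isCharacter p.2.2)
    refine ⟨n (l, χ), ?_⟩
    rw [char_expansion (hc l), Finset.sum_eq_single χ]
    · rw [← hn (l, χ)]
    · intro ξ _ hξ
      have h1 : ∑ l', classInner (indFun K (tw l')) (ξ : H → ℂ) = 0 := by
        rw [← classInner_sum_left, hsumH, classInner_smul_left, irrC_orth, if_neg (Ne.symm hξ), mul_zero]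
      rw [Finset.sum_congr rfl fun l' _ => hn (l', ξ), ← Nat.cast_sum, Nat.cast_eq_zero] at h1
      rw [hn (l, ξ), (Finset.sum_eq_zero_iff.1 h1) l (Finset.mem_univ l), Nat.cast_zero, zero_smul]
    · simp
  choose n hn using hmult
  -- the extension vanishes on generating cosets
  obtain ⟨g₀, hg₀⟩ : ∃ g₀ : K, ∀ q : K ⧸ Z', q ∈ Subgroup.zpowers (QuotientGroup.mk g₀ : K ⧸ Z') := by
    obtain ⟨q₀, hq₀⟩ := hcyc.exists_generator
    obtain ⟨g₀, rfl⟩ := QuotientGroup.mk_surjective q₀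
    exact ⟨g₀, hq₀⟩
  have hne : (g₀ : H) ∉ Z := by
    intro hg
    have hC1 : C = ⊥ := by
      rw [eq_bot_iff]
      intro c hc
      obtain ⟨x, rfl⟩ := QuotientGroup.mk'_surjective Z c
      have h1 := hg₀ (QuotientGroup.mk ⟨x, hc⟩)
      rw [show (QuotientGroup.mk g₀ : K ⧸ Z') = 1 from (QuotientGroup.eq_one_iff g₀).2 hg,
        Subgroup.zpowers_one_eq_bot, Subgroup.mem_bot, QuotientGroup.eq_one_iff] at h1
      exact Subgroup.mem_bot.2 ((QuotientGroup.eq_one_iff x).2 h1)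
    refine hZ (top_unique fun x _ => ?_)
    have h1 : (QuotientGroup.mk x : H ⧸ Z) ∈ C := by
      rw [← hCC, hC1]
      exact Subgroup.mem_centralizer_iff.2 fun y hy => by
        rw [Subgroup.mem_bot.1 hy, one_mul, mul_one]
    rw [hC1, Subgroup.mem_bot, QuotientGroup.eq_one_iff] at h1
    exact h1
  have hzero : ∀ k : K, (QuotientGroup.mk k : K ⧸ Z') = QuotientGroup.mk g₀ → φ k = 0 := by
    intro k hk
    have hkZ : (k : H) ∉ Z := fun hkz => hne ((QuotientGroup.eq_one_iff g₀).1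
      (hk.symm.trans ((QuotientGroup.eq_one_iff k).2 hkz)))
    have h1 : ∑ l : (K ⧸ Z') →* ℂˣ, (((l (QuotientGroup.mk g₀))⁻¹ : ℂˣ) : ℂ) * indFun K (tw l) (k : H) = 0 := by
      refine Finset.sum_eq_zero fun l _ => ?_
      rw [hn, Pi.smul_apply, smul_eq_mul, h.vanish hkZ, mul_zero, mul_zero]
    simp only [indFun, Finset.mul_sum] at h1
    rw [Finset.sum_comm] at h1
    have hterm : ∀ x : H, ∑ l : (K ⧸ Z') →* ℂˣ, (((l (QuotientGroup.mk g₀))⁻¹ : ℂˣ) : ℂ) *
        ((Nat.card K : ℂ)⁻¹ * extendByZero K (tw l) (x⁻¹ * (k : H) * x)) =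
        if x ∈ K then (Nat.card K : ℂ)⁻¹ * ((Nat.card (K ⧸ Z') : ℂ) * φ k) else 0 := by
      intro x
      by_cases hxK : x⁻¹ * (k : H) * x ∈ K
      · have h2 : ∀ l : (K ⧸ Z') →* ℂˣ, (((l (QuotientGroup.mk g₀))⁻¹ : ℂˣ) : ℂ) *
            ((Nat.card K : ℂ)⁻¹ * extendByZero K (tw l) (x⁻¹ * (k : H) * x)) =
            ((Nat.card K : ℂ)⁻¹ * φ ⟨_, hxK⟩) *
              (l ((QuotientGroup.mk g₀)⁻¹ * QuotientGroup.mk ⟨_, hxK⟩) : ℂ) := fun l => by
          rw [extendByZero_mem K _ hxK, map_mul, map_inv]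
          simp only [tw, Units.val_mul]
          ring
        rw [Finset.sum_congr rfl fun l _ => h2 l, ← Finset.mul_sum, sum_hom_apply hab]
        by_cases hx : x ∈ K
        · rw [if_pos hx]
          have hcl : (⟨_, hxK⟩ : K) = (⟨x, hx⟩ : K)⁻¹ * k * ⟨x, hx⟩ := Subtype.ext rfl
          rw [if_pos (by
            rw [hcl, inv_mul_eq_one, QuotientGroup.mk_mul, QuotientGroup.mk_mul, hk, QuotientGroup.mk_inv,
              hab _ (QuotientGroup.mk g₀), inv_mul_cancel_right]), hcl]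
          have h3 := isClassFunction_character (irr_isCharacter hφ) k (⟨x, hx⟩ : K)⁻¹
          rw [inv_inv] at h3
          rw [h3]
          ring
        · rw [if_neg hx, if_neg fun e' => hx ?_, mul_zero]
          rw [inv_mul_eq_one] at e'
          have h4 := congrArg (fun q => ((toC q : C) : H ⧸ Z)) e'
          simp only [toC, QuotientGroup.lift_mk] at h4
          have h4' : (QuotientGroup.mk (g₀ : H) : H ⧸ Z) = QuotientGroup.mk (x⁻¹ * (k : H) * x) := h4
          have h5 : (QuotientGroup.mk (k : H) : H ⧸ Z) = QuotientGroup.mk (g₀ : H) :=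
            congrArg (fun q => ((toC q : C) : H ⧸ Z)) hk
          rw [QuotientGroup.mk_mul, QuotientGroup.mk_mul, QuotientGroup.mk_inv, h5] at h4'
          show (QuotientGroup.mk x : H ⧸ Z) ∈ C
          rw [← hCC]
          refine Subgroup.mem_centralizer_iff.2 fun c hc => ?_
          obtain ⟨y, rfl⟩ := QuotientGroup.mk'_surjective Z c
          obtain ⟨i, hi⟩ := Subgroup.mem_zpowers_iff.1 (hg₀ (QuotientGroup.mk ⟨y, hc⟩))
          have h6 := congrArg (fun q => ((toC q : C) : H ⧸ Z)) hi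
          simp only [map_zpow, Subgroup.coe_zpow] at h6
          have h7 : (QuotientGroup.mk (g₀ : H) : H ⧸ Z) ^ i = QuotientGroup.mk y := h6
          show (QuotientGroup.mk y : H ⧸ Z) * QuotientGroup.mk x = QuotientGroup.mk x * QuotientGroup.mk y
          rw [← h7]
          refine ((show Commute (QuotientGroup.mk (g₀ : H) : H ⧸ Z) (QuotientGroup.mk x) from ?_).zpow_left i).eq
          have h8 := congrArg (fun w => (QuotientGroup.mk x : H ⧸ Z) * w) h4'
          simpa [Commute, SemiconjBy, mul_assoc] using h8.symm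
      · rw [Finset.sum_eq_zero fun l _ => by rw [extendByZero_not_mem K _ hxK, mul_zero, mul_zero],
          if_neg fun hx => hxK (K.mul_mem (K.mul_mem (K.inv_mem hx) k.2) hx)]
    rw [Finset.sum_congr rfl fun x _ => hterm x, ← Finset.sum_filter, Finset.sum_const, nsmul_eq_mul] at h1
    have hcard : (Finset.univ.filter fun x : H => x ∈ K).card ≠ 0 :=
      Finset.card_ne_zero.2 ⟨1, by simp [K.one_mem]⟩
    simpa [hcard, (Nat.card_pos (α := K ⧸ Z')).ne', (Nat.card_pos (α := K)).ne'] using h1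
  -- but its norm on each coset is positive
  have horth : ∀ l : (K ⧸ Z') →* ℂˣ, l ≠ 1 → classInner (tw l) φ = 0 := by
    intro l hl
    have h1 : classInner (indFun Z' θ') φ = 1 := by
      rw [frobenius Z' θ' (isClassFunction_character (irr_isCharacter hφ)),
        show (fun z : Z' => φ z) = θ' from funext hφres, irr_self hθ']
    rw [hind, classInner_sum_left, ← Finset.add_sum_erase _ _ (Finset.mem_univ (1 : (K ⧸ Z') →* ℂˣ))] at h1
    have htw1 : tw 1 = φ := funext fun k => by simp [tw]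
    rw [htw1, irr_self hφ, add_eq_left] at h1
    choose m hm using fun l' => classInner_natCast (irr_isCharacter (htw l')) (irr_isCharacter hφ)
    rw [Finset.sum_congr rfl fun l' _ => hm l', ← Nat.cast_sum, Nat.cast_eq_zero] at h1
    rw [hm, (Finset.sum_eq_zero_iff.1 h1) l (by simp [hl]), Nat.cast_zero]
  have hfinal : ∑ l : (K ⧸ Z') →* ℂˣ, (((l (QuotientGroup.mk g₀))⁻¹ : ℂˣ) : ℂ) * classInner (tw l) φ = 1 := by
    rw [Finset.sum_eq_single 1]
    · rw [MonoidHom.one_apply, inv_one, Units.val_one, one_mul,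
        show tw 1 = φ from funext fun k => by simp [tw], irr_self hφ]
    · intro l _ hl
      rw [horth l hl, mul_zero]
    · simp
  simp only [classInner, tw, Finset.mul_sum] at hfinal
  rw [Finset.sum_comm, Finset.sum_eq_zero] at hfinal
  · exact zero_ne_one hfinal
  intro k _
  rw [Finset.sum_congr rfl (g := fun l : (K ⧸ Z') →* ℂˣ => ((Nat.card K : ℂ)⁻¹ * (φ k * conj (φ k))) *
    (l ((QuotientGroup.mk g₀)⁻¹ * QuotientGroup.mk k) : ℂ)) (fun l _ => by
      rw [map_mul, map_inv, Units.val_mul]; ring), ← Finset.mul_sum, sum_hom_apply hab]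
  by_cases hk : (QuotientGroup.mk k : K ⧸ Z') = QuotientGroup.mk g₀
  · rw [hzero k hk, zero_mul, mul_zero, zero_mul]
  · rw [if_neg fun e' => hk (inv_mul_eq_one.1 e').symm, mul_zero]

end Cfsg.Agent.Char
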