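import Cfsg.Agent.Lib.Char.FullyRamified
import Cfsg.Agent.Lib.Char.PrimeDegreesThree
import Cfsg.Agent.Lib.Char.FongReynolds
import Cfsg.Agent.Lib.Solv.ThreeSolv

/-!
# Sylow orbits below a fully ramified character
-/

set_option autoImplicit false
set_option linter.unusedSectionVars false
set_option linter.style.haveILetI false

namespace Cfsg.Agent.Char.FROrbit

open Cfsg
open scoped ComplexConjugate

universe u

variable {H : Type u} [Group H] [Fintype H]

theorem relIndex_sup_of_normal (A B : Subgroup H) [A.Normal] :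
    B.relIndex (B ⊔ A) = B.relIndex A := by
  have h1 := Subgroup.relIndex_mul_relIndex (A ⊓ B) B (B ⊔ A) inf_le_right le_sup_left
  have h2 := Subgroup.relIndex_mul_relIndex (A ⊓ B) A (B ⊔ A) inf_le_left le_sup_right
  rw [Subgroup.inf_relIndex_right] at h1
  rw [Subgroup.inf_relIndex_left, Subgroup.relIndex_sup_right] at h2
  have h3 : A.relIndex B * B.relIndex (B ⊔ A) = A.relIndex B * B.relIndex A := by
    rw [h1, ← h2, mul_comm]
  exact Nat.eq_of_mul_eq_mul_left (Nat.pos_of_ne_zero Subgroup.index_ne_zero_of_finite) h3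

/-- The multiplicity is one over a normal subgroup with cyclic quotient. -/
theorem mult_one_of_cyclic {G : Type u} [Group G] [Fintype G] (N : Subgroup G) [N.Normal]
    [Fintype N] (hcyc : IsCyclic (G ⧸ N)) (ψ : IrrCharacter G) (η : IrrCharacter N)
    (hη : classInner (fun n : N => (ψ : G → ℂ) n) (η : N → ℂ) ≠ 0) :
    classInner (fun n : N => (ψ : G → ℂ) n) (η : N → ℂ) = 1 := by
  classical
  obtain ⟨l, hl⟩ := classInner_natCast (isCharacter_comp N.subtype (irr_isCharacter ψ.2))
    (irr_isCharacter η.2)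
  have hl' : classInner (fun n : N => (ψ : G → ℂ) n) (η : N → ℂ) = l := hl
  let T : Subgroup G :=
    { carrier := {g | irrComp (MulAut.conjNormal g) η = η}
      one_mem' := irrComp_conj_one η
      mul_mem' := fun {a b} (ha : _ = η) (hb : _ = η) => by
        show irrComp (MulAut.conjNormal (a * b)) η = η
        rw [← irrComp_conj_mul, ha, hb]
      inv_mem' := fun {a} (ha : _ = η) => by
        show irrComp (MulAut.conjNormal a⁻¹) η = η
        conv_rhs => rw [← irrComp_conj_one η, ← mul_inv_cancel a, ← irrComp_conj_mul, ha] }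
  have hNT : N ≤ T := fun n hn => Subtype.ext (funext fun x => by
    show (η : N → ℂ) (MulAut.conjNormal n x) = (η : N → ℂ) x
    have h1 := isClassFunction_character (irr_isCharacter η.2) x (⟨n, hn⟩ : N)
    exact (congrArg _ (Subtype.ext (by simp))).trans h1)
  haveI := Fintype.ofFinite T
  set N' := N.subgroupOf T with hN'
  haveI : N'.Normal := (inferInstance : N.Normal).comap _
  haveI : Fintype N' := Fintype.ofFinite N'
  let eN : N' ≃* N := Subgroup.subgroupOfEquivOfLe hNT
  let η' : IrrCharacter N' := ⟨fun z => (η : N → ℂ) (eN z), isIrrCharacter_comp_equiv eN η.2⟩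
  have hcycT : IsCyclic (T ⧸ N') := by
    let f : T ⧸ N' →* G ⧸ N := QuotientGroup.map N' N T.subtype fun x hx => hx
    haveI := hcyc
    refine isCyclic_of_injective f ?_
    rw [injective_iff_map_eq_one]
    intro q hq
    obtain ⟨t, rfl⟩ := QuotientGroup.mk_surjective q
    exact (QuotientGroup.eq_one_iff t).2 ((QuotientGroup.eq_one_iff (t : G)).1 hq)
  have hinv : ∀ (g : T) (n : N'), (η' : N' → ℂ) (MulAut.conjNormal g n) = (η' : N' → ℂ) n := by
    intro g n
    show (η : N → ℂ) (eN (MulAut.conjNormal g n)) = (η : N → ℂ) (eN n)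
    rw [show eN (MulAut.conjNormal g n) = MulAut.conjNormal (g : G) (eN n) from Subtype.ext rfl]
    exact congrFun (congrArg Subtype.val (g.2 : irrComp (MulAut.conjNormal (g : G)) η = η)) (eN n)
  obtain ⟨ext, hext, hres⟩ := exists_extension_cyclic N' hcycT η'.2 hinv
  have hgal := gallagher_one N' η' (irr_isCharacter hext) hres
  -- a constituent on the inertia group
  obtain ⟨m, hm⟩ := exists_decomposition (isCharacter_comp T.subtype (irr_isCharacter ψ.2))
  obtain ⟨ρ, hρm, hρη⟩ : ∃ ρ : IrrCharacter T, m ρ ≠ 0 ∧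
      classInner (fun n : N' => (ρ : T → ℂ) n) (η' : N' → ℂ) ≠ 0 := by
    by_contra hcon
    simp only [not_exists, not_and, not_not] at hcon
    apply hη
    have heq : classInner (fun n : N => (ψ : G → ℂ) n) (η : N → ℂ) =
        classInner (fun n : N' => ((ψ : G → ℂ) ∘ T.subtype) (n : T)) (η' : N' → ℂ) := by
      simp only [classInner]
      rw [Nat.card_congr eN.toEquiv]
      congr 1
      exact (Fintype.sum_equiv eN.toEquiv _ _ fun z => by rfl).symm
    rw [heq, hm, show (fun n : N' => (∑ ρ : IrrCharacter T, m ρ • (ρ : T → ℂ)) (n : T)) =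
        ∑ ρ : IrrCharacter T, m ρ • (fun n : N' => (ρ : T → ℂ) n) from funext fun n => by
      simp [Finset.sum_apply],
      classInner_sum_left]
    refine Finset.sum_eq_zero fun ρ _ => ?_
    rw [← Nat.cast_smul_eq_nsmul ℂ, classInner_smul_left]
    by_cases h0 : m ρ = 0
    · rw [h0, Nat.cast_zero, zero_mul]
    · rw [hcon ρ h0, mul_zero]
  obtain ⟨β, ⟨hβ, hβN⟩, hβρ⟩ := hgal.surjOn ⟨ρ.2, hρη⟩
  have hβ1 : deg β = 1 := by
    refine PrimeDegrees.deg_eq_one_of_comm_ker ⟨β, hβ⟩ fun x y => TwoDeg.mem_kerC_of_eq _ ?_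
    have hmem : x * y * x⁻¹ * y⁻¹ ∈ N' := by
      letI : CommGroup (T ⧸ N') := by haveI := hcycT; exact IsCyclic.commGroup
      rw [← QuotientGroup.eq_one_iff, QuotientGroup.mk_mul, QuotientGroup.mk_mul, QuotientGroup.mk_mul,
        QuotientGroup.mk_inv, QuotientGroup.mk_inv, mul_inv_eq_one, mul_inv_eq_iff_eq_mul]
      exact mul_comm _ _
    exact hβN ⟨_, hmem⟩
  have hρ1 : (ρ : T → ℂ) 1 = (η : N → ℂ) 1 := by
    rw [← hβρ]
    show β 1 * ext 1 = _
    rw [char_one_eq_deg (irr_isCharacter hβ), hβ1, Nat.cast_one, one_mul,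
      show ext 1 = ext ((1 : N') : T) from rfl, hres]
    show (η : N → ℂ) (eN 1) = _
    rw [map_one]
  have hind : classInner (indFun T (ρ : T → ℂ)) (ψ : G → ℂ) ≠ 0 := by
    rw [frobenius T (ρ : T → ℂ) (isClassFunction_character (irr_isCharacter ψ.2)),
      ← classInner_symm]
    refine (map_ne_zero_iff _ (starRingEnd ℂ).injective).2 ?_
    rw [show (fun t : T => (ψ : G → ℂ) t) = (ψ : G → ℂ) ∘ T.subtype from rfl,
      decomposition_coeff m hm ρ]
    exact Nat.cast_ne_zero.2 hρm
  have hle := degree_le_of_classInner_ne_zero (isCharacter_indFun T (irr_isCharacter ρ.2)) ψ hind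
  rw [indFun_one, hρ1, char_one_eq_deg (irr_isCharacter ψ.2), char_one_eq_deg (irr_isCharacter η.2),
    ← Nat.cast_mul, Complex.natCast_re, Complex.natCast_re, Nat.cast_le] at hle
  have h1 := congrFun (clifford_restrict ψ η hη) 1
  rw [hl', OneMemClass.coe_one, Pi.smul_apply, Finset.sum_apply, smul_eq_mul,
    char_one_eq_deg (irr_isCharacter ψ.2),
    Finset.sum_congr rfl (g := fun _ => (deg (η : N → ℂ) : ℂ)) fun χ hχ => by
      obtain ⟨g, rfl⟩ := mem_cliffOrbit.mp hχ
      rw [← char_one_eq_deg (irr_isCharacter η.2)]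
      simp,
    Finset.sum_const, nsmul_eq_mul] at h1
  have hmul : deg (ψ : G → ℂ) = l * ((cliffOrbit N η).card * deg (η : N → ℂ)) := by
    exact_mod_cast h1
  have horb : (cliffOrbit N η).card = T.index := by
    have h2 := card_cliffOrbit_mul η
    rw [show Nat.card {g // irrComp (MulAut.conjNormal g) η = η} = Nat.card T from rfl,
      ← Subgroup.index_mul_card T] at h2
    exact Nat.eq_of_mul_eq_mul_right Nat.card_pos h2
  rw [hmul, horb] at hle
  have hpos : 0 < T.index * deg (η : N → ℂ) :=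
    mul_pos (Nat.pos_of_ne_zero Subgroup.index_ne_zero_of_finite) (deg_pos η.2)
  have hl0 : l ≠ 0 := fun e => hη (by rw [hl', e, Nat.cast_zero])
  have : l ≤ 1 := Nat.le_of_mul_le_mul_right (hle.trans (one_mul _).ge) hpos
  rw [hl', show l = 1 by omega, Nat.cast_one]

variable {Z : Subgroup H} [Z.Normal] [Fintype Z] {χ : IrrCharacter H} {θ : IrrCharacter Z} {e : ℕ}
  {p : ℕ} [hp : Fact p.Prime]

/-- The preimage of a Sylow subgroup. -/
def pre (Z : Subgroup H) [Z.Normal] (P : Sylow p (H ⧸ Z)) : Subgroup H :=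
  (P : Subgroup (H ⧸ Z)).comap (QuotientGroup.mk' Z)

theorem le_pre (P : Sylow p (H ⧸ Z)) : Z ≤ pre Z P := fun z hz => by
  rw [pre, Subgroup.mem_comap, QuotientGroup.mk'_apply, (QuotientGroup.eq_one_iff z).2 hz]
  exact one_mem _

/-- The restriction to a Sylow preimage is a multiple of one irreducible character. -/
theorem exists_psi (h : FRCtx Z χ θ e) (P : Sylow p (H ⧸ Z)) [Fintype (pre Z P)] :
    ∃ (ψ : IrrCharacter (pre Z P)) (e' : ℕ), ¬ p ∣ e' ∧ e' ≠ 0 ∧
      (∀ x : pre Z P, (χ : H → ℂ) x = (e' : ℂ) * (ψ : pre Z P → ℂ) x) ∧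
      ∀ x : pre Z P, (x : H) ∉ Z → (ψ : pre Z P → ℂ) x = 0 := by
  classical
  set X := pre Z P with hX
  have he0 : e ≠ 0 := fun e0 => h.ne_zero (by rw [e0, Nat.cast_zero])
  set a := e.factorization p with ha
  set e' := e / p ^ a with he'
  have hee : p ^ a * e' = e := Nat.ordProj_mul_ordCompl_eq_self e p
  have hndvd : ¬ p ∣ e' := Nat.not_dvd_ordCompl hp.out he0
  have he'0 : e' ≠ 0 := fun e0 => he0 (by rw [← hee, e0, mul_zero])
  have hrel : Z.relIndex X = p ^ (2 * a) := by
    have h1 : Nat.card (P : Subgroup (H ⧸ Z)) = p ^ (2 * a) := by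
      rw [show Nat.card (P : Subgroup (H ⧸ Z)) = p ^ (Nat.card (H ⧸ Z)).factorization p from
        P.card_eq_multiplicity, show Nat.card (H ⧸ Z) = e ^ 2 from h.sq.symm, Nat.factorization_pow]
      rfl
    rw [hX, pre, ← h1]
    have h2 := Subgroup.relIndex_comap (⊥ : Subgroup (H ⧸ Z)) (QuotientGroup.mk' Z)
      ((P : Subgroup (H ⧸ Z)).comap (QuotientGroup.mk' Z))
    rw [Subgroup.map_comap_eq_self_of_surjective (QuotientGroup.mk'_surjective Z),
      MonoidHom.comap_bot, QuotientGroup.ker_mk', Subgroup.relIndex_bot_left] at h2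
    exact h2
  have hcX : Nat.card X = p ^ (2 * a) * Nat.card Z := by
    rw [← hrel, ← Subgroup.relIndex_bot_left X, ← Subgroup.relIndex_bot_left Z,
      ← Subgroup.relIndex_mul_relIndex ⊥ Z X bot_le (le_pre P), mul_comm]
  obtain ⟨m, hm⟩ := exists_decomposition (isCharacter_comp X.subtype (irr_isCharacter χ.2))
  -- each multiplicity is divisible by the coprime part
  have hdvd : ∀ ψ : IrrCharacter X, e' ∣ m ψ := by
    intro ψ
    obtain ⟨t, ht⟩ := classInner_natCast (irr_isCharacter θ.2)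
      (isCharacter_comp (Subgroup.inclusion (le_pre P)) (irr_isCharacter ψ.2))
    have h1 : (m ψ : ℂ) * (Nat.card X : ℂ) = (e : ℂ) * t * (Nat.card Z : ℂ) := by
      rw [← decomposition_coeff m hm ψ, ← ht]
      simp only [classInner]
      have hsum : ∑ x : X, ((χ : H → ℂ) ∘ X.subtype) x * conj ((ψ : X → ℂ) x) =
          (e : ℂ) * ∑ z : Z, (θ : Z → ℂ) z *
            conj (((ψ : X → ℂ) ∘ Subgroup.inclusion (le_pre P)) z) := by
        rw [← Finset.sum_subset (Finset.subset_univ (Finset.univ.image (Subgroup.inclusion (le_pre P))))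
          (fun x _ hx => by
            have : (x : H) ∉ Z := fun hz => hx (Finset.mem_image.2 ⟨⟨x, hz⟩, Finset.mem_univ _, rfl⟩)
            rw [Function.comp_apply, Subgroup.coe_subtype, h.vanish this, zero_mul]),
          Finset.sum_image (fun a _ b _ e => Subgroup.inclusion_injective _ e), Finset.mul_sum]
        refine Finset.sum_congr rfl fun z _ => ?_
        rw [Function.comp_apply, Function.comp_apply, Subgroup.coe_subtype, Subgroup.coe_inclusion,
          h.res, mul_assoc]
      rw [hsum]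
      have hX0 : (Nat.card X : ℂ) ≠ 0 := Nat.cast_ne_zero.2 Nat.card_pos.ne'
      have hZ0 : (Nat.card Z : ℂ) ≠ 0 := Nat.cast_ne_zero.2 Nat.card_pos.ne'
      field_simp
    have h2 : m ψ * Nat.card X = e * t * Nat.card Z := by exact_mod_cast h1
    rw [hcX, ← hee] at h2
    have h3 : m ψ * p ^ (2 * a) = p ^ a * e' * t :=
      Nat.eq_of_mul_eq_mul_right Nat.card_pos (by rw [mul_assoc]; exact h2)
    exact ((hp.out.coprime_iff_not_dvd.2 hndvd).pow_left (2 * a)).symm.dvd_of_dvd_mul_right
      ⟨p ^ a * t, by rw [h3]; ring⟩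
  have hnorm : ∑ ψ, m ψ * m ψ = e' * e' := by
    have h1 : classInner ((χ : H → ℂ) ∘ X.subtype) ((χ : H → ℂ) ∘ X.subtype) =
        ∑ ψ, (m ψ : ℂ) * m ψ := by
      nth_rewrite 1 [hm]
      rw [classInner_sum_left]
      refine Finset.sum_congr rfl fun ψ _ => ?_
      rw [← Nat.cast_smul_eq_nsmul ℂ, classInner_smul_left, ← classInner_symm,
        decomposition_coeff m hm ψ, map_natCast]
    have h2 : classInner ((χ : H → ℂ) ∘ X.subtype) ((χ : H → ℂ) ∘ X.subtype) =
        (Nat.card X : ℂ)⁻¹ * Nat.card H := by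
      have h3 := irr_self χ.2
      simp only [classInner] at h3 ⊢
      rw [inv_mul_eq_one₀ (Nat.cast_ne_zero.2 Nat.card_pos.ne')] at h3
      rw [h3]
      congr 1
      rw [← Finset.sum_subset (Finset.subset_univ (Finset.univ.image X.subtype)) (fun x _ hx => by
          have : x ∉ Z := fun hz => hx (Finset.mem_image.2 ⟨⟨x, le_pre P hz⟩, Finset.mem_univ _, rfl⟩)
          rw [h.vanish this, zero_mul]),
        Finset.sum_image (fun a _ b _ e => X.subtype_injective e)]
      rfl
    have h4 : (∑ ψ, m ψ * m ψ) * Nat.card X = Nat.card H := by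
      have hX0 : (Nat.card X : ℂ) ≠ 0 := Nat.cast_ne_zero.2 Nat.card_pos.ne'
      have h5 : (((∑ ψ, m ψ * m ψ) * Nat.card X : ℕ) : ℂ) = (Nat.card H : ℂ) := by
        push_cast
        rw [← h1, h2]
        field_simp
      exact_mod_cast h5
    rw [← Subgroup.index_mul_card Z, ← h.sq, hcX, ← hee] at h4
    exact Nat.eq_of_mul_eq_mul_right (mul_pos (pow_pos hp.out.pos (2 * a)) Nat.card_pos)
      (h4.trans (by ring))
  obtain ⟨ψ, hψ⟩ : ∃ ψ, m ψ ≠ 0 := by
    by_contra hc
    push Not at hc
    rw [Finset.sum_eq_zero fun ψ _ => by rw [hc ψ, zero_mul]] at hnorm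
    exact he'0 (mul_self_eq_zero.1 hnorm.symm)
  have hge : e' ≤ m ψ := Nat.le_of_dvd (Nat.pos_of_ne_zero hψ) (hdvd ψ)
  rw [← Finset.add_sum_erase _ _ (Finset.mem_univ ψ)] at hnorm
  have hmψ : m ψ = e' := by
    rcases eq_or_lt_of_le hge with h | h
    · exact h.symm
    · have := Nat.mul_self_lt_mul_self h; omega
  have hrest : ∀ η ≠ ψ, m η = 0 := fun η hη => by
    have h0 : ∑ x ∈ Finset.univ.erase ψ, m x * m x = 0 := by
      rw [hmψ] at hnorm; omega
    exact mul_self_eq_zero.1
      (Finset.sum_eq_zero_iff.1 h0 η (Finset.mem_erase.2 ⟨hη, Finset.mem_univ _⟩))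
  have hres : ∀ x : X, (χ : H → ℂ) x = (e' : ℂ) * (ψ : X → ℂ) x := fun x => by
    have h1 := congrFun hm x
    rw [Finset.sum_eq_single ψ (fun η _ hη => by rw [hrest η hη, zero_smul]) (by simp), hmψ,
      Pi.smul_apply, nsmul_eq_mul] at h1
    exact h1
  refine ⟨ψ, e', hndvd, he'0, hres, fun x hx => ?_⟩
  have h1 := hres x
  rw [h.vanish hx] at h1
  exact (mul_eq_zero.1 h1.symm).resolve_left (Nat.cast_ne_zero.2 he'0)

/-- The multiplicity and orbit length on the intersection with a normal subgroup. -/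
theorem sq_mul_orbit (P : Sylow p (H ⧸ Z)) [Fintype (pre Z P)] (ψ : IrrCharacter (pre Z P))
    (hvan : ∀ x : pre Z P, (x : H) ∉ Z → (ψ : pre Z P → ℂ) x = 0)
    (K : Subgroup H) [K.Normal] (hZK : Z ≤ K) [Fintype (K.subgroupOf (pre Z P))]
    (η : IrrCharacter (K.subgroupOf (pre Z P))) (l : ℕ)
    (hl : classInner (fun s : K.subgroupOf (pre Z P) => (ψ : pre Z P → ℂ) s)
      (η : K.subgroupOf (pre Z P) → ℂ) = l) (hl0 : l ≠ 0) :
    l * l * (cliffOrbit (K.subgroupOf (pre Z P)) η).card = K.relIndex (pre Z P) := by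
  classical
  have hne : classInner (fun s : K.subgroupOf (pre Z P) => (ψ : pre Z P → ℂ) s)
      (η : K.subgroupOf (pre Z P) → ℂ) ≠ 0 := by rw [hl]; exact Nat.cast_ne_zero.2 hl0
  have h1 := clifford_restrict ψ η hne
  rw [hl] at h1
  have h2 : classInner (fun s : K.subgroupOf (pre Z P) => (ψ : pre Z P → ℂ) s)
      (fun s : K.subgroupOf (pre Z P) => (ψ : pre Z P → ℂ) s) =
      (l : ℂ) * (l * (cliffOrbit (K.subgroupOf (pre Z P)) η).card) := by
    rw [h1, classInner_smul_left, classInner_smul_right, map_natCast, classInner_sum_left,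
      Finset.sum_congr rfl (g := fun _ => (1 : ℂ)) fun a ha => by
        rw [classInner_sum_right, Finset.sum_eq_single a]
        · exact irr_self a.2
        · intro b _ hb
          rw [irrC_orth, if_neg (Ne.symm hb)]
        · intro hn; exact absurd ha hn,
      Finset.sum_const, nsmul_eq_mul, mul_one]
  have h3 : classInner (fun s : K.subgroupOf (pre Z P) => (ψ : pre Z P → ℂ) s)
      (fun s : K.subgroupOf (pre Z P) => (ψ : pre Z P → ℂ) s) =
      (K.relIndex (pre Z P) : ℂ) := by
    have h4 := irr_self ψ.2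
    simp only [classInner] at h4 ⊢
    rw [inv_mul_eq_one₀ (Nat.cast_ne_zero.2 Nat.card_pos.ne'),
      ← Finset.sum_subset (Finset.subset_univ (Finset.univ.image (K.subgroupOf (pre Z P)).subtype))
        (fun x _ hx => by
          have : (x : H) ∉ Z := fun hz => hx (Finset.mem_image.2 ⟨⟨x, hZK hz⟩, Finset.mem_univ _, rfl⟩)
          rw [hvan x this, zero_mul]),
      Finset.sum_image (fun a _ b _ e => (K.subgroupOf (pre Z P)).subtype_injective e)] at h4
    rw [show ∑ s : K.subgroupOf (pre Z P), (ψ : pre Z P → ℂ) s * conj ((ψ : pre Z P → ℂ) s) =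
      (Nat.card (pre Z P) : ℂ) from h4.symm, ← Subgroup.index_mul_card (K.subgroupOf (pre Z P)),
      Nat.cast_mul, Subgroup.relIndex]
    have : (Nat.card (K.subgroupOf (pre Z P)) : ℂ) ≠ 0 := Nat.cast_ne_zero.2 Nat.card_pos.ne'
    field_simp
  have h5 : (((l * l * (cliffOrbit (K.subgroupOf (pre Z P)) η).card : ℕ)) : ℂ) =
      (K.relIndex (pre Z P) : ℂ) := by
    rw [← h3, h2]; push_cast; ring
  exact_mod_cast h5

/-- The relative index over a Sylow preimage. -/
theorem relIndex_facts (P : Sylow p (H ⧸ Z)) (K : Subgroup H) [K.Normal] (hZK : Z ≤ K) :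
    K.relIndex (pre Z P) = p ^ K.index.factorization p ∧
      ¬ p ∣ ((pre Z P) ⊓ K).relIndex K := by
  set f := QuotientGroup.mk' Z
  have hf := QuotientGroup.mk'_surjective Z
  set K' := K.map f with hK'
  haveI : K'.Normal := (inferInstance : K.Normal).map _ hf
  have hKc : K'.comap f = K := Subgroup.comap_map_eq_self (by rwa [QuotientGroup.ker_mk'])
  have hidx : K.index = K'.index := by
    conv_lhs => rw [← hKc]
    exact Subgroup.index_comap_of_surjective K' hf
  have hr1 : K.relIndex (pre Z P) = K'.relIndex (P : Subgroup (H ⧸ Z)) := by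
    conv_lhs => rw [← hKc]
    rw [pre, Subgroup.relIndex_comap, Subgroup.map_comap_eq_self_of_surjective hf]
  have hr2 : ((pre Z P) ⊓ K).relIndex K = (P : Subgroup (H ⧸ Z)).relIndex K' := by
    rw [Subgroup.inf_relIndex_right, pre, Subgroup.relIndex_comap]
  set J := (P : Subgroup (H ⧸ Z)) ⊔ K' with hJ
  have hJP : (P : Subgroup (H ⧸ Z)).relIndex J * J.index = (P : Subgroup (H ⧸ Z)).index :=
    Subgroup.relIndex_mul_index le_sup_left
  have hP' : ¬ p ∣ (P : Subgroup (H ⧸ Z)).index := P.not_dvd_index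
  have hJK : K'.relIndex (P : Subgroup (H ⧸ Z)) * J.index = K'.index := by
    rw [← Subgroup.relIndex_sup_right, ← hJ]
    exact Subgroup.relIndex_mul_index le_sup_right
  obtain ⟨k, hk⟩ := IsPGroup.iff_card.mp P.isPGroup'
  obtain ⟨j, -, hj⟩ := (Nat.dvd_prime_pow hp.out).1
    (hk ▸ (Subgroup.index_dvd_card (K'.subgroupOf (P : Subgroup (H ⧸ Z)))))
  have hJ' : ¬ p ∣ J.index := fun hd => hP' (hd.trans (Dvd.intro_left _ hJP))
  refine ⟨?_, fun hd => ?_⟩
  · have hne : K'.relIndex (P : Subgroup (H ⧸ Z)) ≠ 0 := Subgroup.index_ne_zero_of_finite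
    rw [hr1, hidx, ← hJK, Nat.factorization_mul hne
      Subgroup.index_ne_zero_of_finite, Finsupp.add_apply,
      Nat.factorization_eq_zero_of_not_dvd hJ', add_zero,
      show K'.relIndex (P : Subgroup (H ⧸ Z)) = p ^ j from hj, hp.out.factorization_pow,
      Finsupp.single_eq_same]
  · haveI := Fintype.ofFinite (H ⧸ Z)
    rw [hr2, ← relIndex_sup_of_normal] at hd
    exact hP' (hd.trans (Dvd.intro _ hJP))

/-- A multiplicity-one orbit yields a subgroup of the quotient of Sylow index. -/
theorem exists_complement_index (h : FRCtx Z χ θ e) (P : Sylow p (H ⧸ Z)) [Fintype (pre Z P)]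
    (ψ : IrrCharacter (pre Z P)) (e' : ℕ) (he' : e' ≠ 0)
    (hres : ∀ x : pre Z P, (χ : H → ℂ) x = (e' : ℂ) * (ψ : pre Z P → ℂ) x)
    (hvan : ∀ x : pre Z P, (x : H) ∉ Z → (ψ : pre Z P → ℂ) x = 0)
    (K : Subgroup H) [K.Normal] (hZK : Z ≤ K) [Fintype (K.subgroupOf (pre Z P))]
    (η : IrrCharacter (K.subgroupOf (pre Z P)))
    (h1 : classInner (fun s : K.subgroupOf (pre Z P) => (ψ : pre Z P → ℂ) s)
      (η : K.subgroupOf (pre Z P) → ℂ) = 1) :
    ∃ M : Subgroup (H ⧸ K), M.index = p ^ K.index.factorization p := by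
  classical
  obtain ⟨hrel, hp'⟩ := relIndex_facts P K hZK
  have horb := sq_mul_orbit P ψ hvan K hZK η 1 (by rw [h1, Nat.cast_one]) one_ne_zero
  rw [one_mul, one_mul, hrel] at horb
  set f := QuotientGroup.mk' Z
  have hf := QuotientGroup.mk'_surjective Z
  set S := (pre Z P) ⊓ K with hS
  set N := Subgroup.normalizer (S : Set H) with hN
  have hSN : S ≤ N := Subgroup.le_normalizer
  have hXN : (pre Z P) ≤ N := fun x hx => Subgroup.mem_normalizer_iff.2 fun y => by
    constructor
    · intro hy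
      exact ⟨(pre Z P).mul_mem ((pre Z P).mul_mem hx hy.1) ((pre Z P).inv_mem hx),
        (inferInstance : K.Normal).conj_mem y hy.2 x⟩
    · intro hy
      have e1 : y = x⁻¹ * (x * y * x⁻¹) * x⁻¹⁻¹ := by group
      rw [e1]
      exact ⟨(pre Z P).mul_mem ((pre Z P).mul_mem ((pre Z P).inv_mem hx) hy.1) ((pre Z P).inv_mem ((pre Z P).inv_mem hx)),
        (inferInstance : K.Normal).conj_mem _ hy.2 x⁻¹⟩
  -- Frattini
  have hNK : N ⊔ K = ⊤ := by
    set K' := K.map f with hK'
    haveI : K'.Normal := (inferInstance : K.Normal).map _ hf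
    set S' := (P : Subgroup (H ⧸ Z)) ⊓ K' with hS'
    have hSc : S'.comap f = S := by
      rw [hS', Subgroup.comap_inf, Subgroup.comap_map_eq_self (by rwa [QuotientGroup.ker_mk'])]
      rfl
    have hSp : ¬ p ∣ (S'.subgroupOf K').index := by
      have h2 : S.relIndex K = S'.relIndex K' := by
        rw [← hSc, Subgroup.relIndex_comap]
      rw [← Subgroup.relIndex, ← h2]
      exact hp'
    have hpg : IsPGroup p (S'.subgroupOf K') :=
      (P.isPGroup'.to_le inf_le_left : IsPGroup p S').of_equiv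
        (Subgroup.subgroupOfEquivOfLe (inf_le_right : S' ≤ K')).symm
    have hfr := Sylow.normalizer_sup_eq_top (hpg.toSylow hSp)
    rw [IsPGroup.toSylow_coe, Subgroup.map_subgroupOf_eq_of_le (inf_le_right : S' ≤ K')] at hfr
    refine top_le_iff.1 fun x _ => ?_
    have hx : f x ∈ Subgroup.normalizer (S' : Set (H ⧸ Z)) ⊔ K' := hfr.ge (Subgroup.mem_top _)
    rw [Subgroup.mem_sup_of_normal_right] at hx
    obtain ⟨n', hn', k', hk', hnk⟩ := hx
    obtain ⟨k, hk, rfl⟩ := hk'
    have hxk : x * k⁻¹ ∈ N := by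
      refine Subgroup.mem_normalizer_iff.2 fun y => ?_
      rw [← hSc, Subgroup.mem_comap, Subgroup.mem_comap, map_mul, map_mul, map_inv, map_mul,
        map_inv, ← hnk, mul_inv_cancel_right]
      exact Subgroup.mem_normalizer_iff.1 hn' (f y)
    have e1 : x = (x * k⁻¹) * k := by rw [inv_mul_cancel_right]
    rw [e1]
    exact Subgroup.mul_mem _ (le_sup_left (b := K) hxk) (le_sup_right (a := N) hk)
  haveI := Fintype.ofFinite N
  set SN := S.subgroupOf N with hSN'
  haveI : SN.Normal := Subgroup.normal_in_normalizer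
  haveI := Fintype.ofFinite SN
  let eS : SN ≃* K.subgroupOf (pre Z P) :=
    { toFun := fun s => ⟨⟨((s : N) : H), (Subgroup.mem_subgroupOf.1 s.2).1⟩,
        (Subgroup.mem_subgroupOf.1 s.2).2⟩
      invFun := fun s => ⟨⟨((s : (pre Z P)) : H), hXN (s : (pre Z P)).2⟩, ⟨(s : (pre Z P)).2, s.2⟩⟩
      left_inv := fun s => rfl
      right_inv := fun s => rfl
      map_mul' := fun a b => rfl }
  let T : IrrCharacter (K.subgroupOf (pre Z P)) → IrrCharacter SN := fun a =>
    ⟨fun s => (a : K.subgroupOf (pre Z P) → ℂ) (eS s), isIrrCharacter_comp_equiv eS a.2⟩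
  have hTinj : Function.Injective T := fun a b hab => Subtype.ext (funext fun s => by
    have := congrFun (congrArg Subtype.val hab) (eS.symm s)
    simpa [T] using this)
  set η' := T η with hη'
  set O := cliffOrbit SN η' with hO
  have hchi : ∀ a : IrrCharacter (K.subgroupOf (pre Z P)),
      classInner (fun s : SN => (χ : H → ℂ) ((s : N) : H)) (T a : SN → ℂ) =
        (e' : ℂ) * classInner (fun s : K.subgroupOf (pre Z P) => (ψ : (pre Z P) → ℂ) s) (a : K.subgroupOf (pre Z P) → ℂ) := by
    intro a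
    rw [← classInner_smul_left]
    simp only [classInner]
    rw [Nat.card_congr eS.toEquiv]
    congr 1
    refine Fintype.sum_equiv eS.toEquiv _ _ fun s => ?_
    rw [Pi.smul_apply, smul_eq_mul, ← hres]
    rfl
  have hOeq : O = (cliffOrbit (K.subgroupOf (pre Z P)) η).image T := by
    ext b
    rw [hO, mem_cliffOrbit, Finset.mem_image]
    constructor
    · rintro ⟨g, rfl⟩
      obtain ⟨a, ha⟩ : ∃ a, T a = irrComp (MulAut.conjNormal g) η' :=
        ⟨⟨fun s => (irrComp (MulAut.conjNormal g) η' : SN → ℂ) (eS.symm s),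
          isIrrCharacter_comp_equiv eS.symm (irrComp (MulAut.conjNormal g) η').2⟩,
          Subtype.ext (funext fun s => by simp [T])⟩
      refine ⟨a, mem_cliffOrbit_of_constituent (χ := ψ) (by rw [h1]; exact one_ne_zero) ?_, ha⟩
      intro h0
      have h2 := hchi a
      rw [h0, mul_zero, ha] at h2
      have h3 : classInner (fun s : SN => (χ : H → ℂ) ((s : N) : H))
          (irrComp (MulAut.conjNormal g) η' : SN → ℂ) =
          classInner (fun s : SN => (χ : H → ℂ) ((s : N) : H)) (η' : SN → ℂ) := by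
        simp only [classInner]
        congr 1
        refine Fintype.sum_equiv (MulAut.conjNormal g).toEquiv _ _ fun s => ?_
        show _ = (χ : H → ℂ) (((MulAut.conjNormal g s : SN) : N) : H) * _
        rw [MulAut.conjNormal_apply, Subgroup.coe_mul, Subgroup.coe_mul, Subgroup.coe_inv,
          isClassFunction_character (irr_isCharacter χ.2)]
        rfl
      rw [h3, hη', hchi η, h1, mul_one] at h2
      exact Nat.cast_ne_zero.2 he' h2
    · rintro ⟨a, ha, rfl⟩
      obtain ⟨x, rfl⟩ := mem_cliffOrbit.mp ha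
      refine ⟨⟨(x : H), hXN x.2⟩, Subtype.ext (funext fun s => ?_)⟩
      show (η : K.subgroupOf (pre Z P) → ℂ) (eS (MulAut.conjNormal _ s)) =
        (η : K.subgroupOf (pre Z P) → ℂ) (MulAut.conjNormal x (eS s))
      exact congrArg _ (Subtype.ext (Subtype.ext rfl))
  have hOcard : O.card = p ^ K.index.factorization p := by
    rw [hOeq, Finset.card_image_of_injective _ hTinj, horb]
  let I : Subgroup N :=
    { carrier := {g | irrComp (MulAut.conjNormal g) η' = η'}
      one_mem' := irrComp_conj_one η'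
      mul_mem' := fun {a b} (ha : _ = η') (hb : _ = η') => by
        show irrComp (MulAut.conjNormal (a * b)) η' = η'
        rw [← irrComp_conj_mul, ha, hb]
      inv_mem' := fun {a} (ha : _ = η') => by
        show irrComp (MulAut.conjNormal a⁻¹) η' = η'
        conv_rhs => rw [← irrComp_conj_one η', ← mul_inv_cancel a, ← irrComp_conj_mul, ha] }
  have hSI : SN ≤ I := fun n hn => Subtype.ext (funext fun x => by
    show (η' : SN → ℂ) (MulAut.conjNormal n x) = (η' : SN → ℂ) x
    have h2 := isClassFunction_character (irr_isCharacter η'.2) x (⟨n, hn⟩ : SN)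
    exact (congrArg _ (Subtype.ext (by simp))).trans h2)
  have hIidx : I.index = p ^ K.index.factorization p := by
    have h2 := card_cliffOrbit_mul η'
    rw [show Nat.card {g // irrComp (MulAut.conjNormal g) η' = η'} = Nat.card I from rfl,
      ← Subgroup.index_mul_card I] at h2
    rw [← Nat.eq_of_mul_eq_mul_right Nat.card_pos h2, ← hO, hOcard]
  let g : N →* H ⧸ K := (QuotientGroup.mk' K).comp N.subtype
  have hg : Function.Surjective g := fun q => by
    obtain ⟨x, rfl⟩ := QuotientGroup.mk_surjective q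
    obtain ⟨n, hn, k, hk, rfl⟩ := Subgroup.mem_sup_of_normal_right.1 (hNK.ge (Subgroup.mem_top x))
    refine ⟨⟨n, hn⟩, ?_⟩
    show (QuotientGroup.mk n : H ⧸ K) = _
    rw [QuotientGroup.mk_mul, (QuotientGroup.eq_one_iff k).2 hk, mul_one]
  set L := g.ker with hL
  have hLK : L = K.subgroupOf N := Subgroup.ext fun n => QuotientGroup.eq_one_iff (n : H)
  have hLI : L ≤ I := by
    have h2 : I.relIndex (I ⊔ L) = I.relIndex L := relIndex_sup_of_normal L I
    have h3 : I.relIndex L ∣ SN.relIndex L := Subgroup.relIndex_dvd_of_le_left L hSI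
    have h4 : SN.relIndex L ∣ S.relIndex K := by
      rw [hLK, hSN', ← Subgroup.inf_subgroupOf_right K N, Subgroup.relIndex_subgroupOf inf_le_right]
      have h6 := Subgroup.relIndex_mul_relIndex S (K ⊓ N) K (le_inf inf_le_right hSN) inf_le_left
      exact Dvd.intro _ h6
    have h5 : I.relIndex L ∣ p ^ K.index.factorization p := by
      rw [← h2, ← hIidx]
      exact Dvd.intro _ (Subgroup.relIndex_mul_index (le_sup_left (b := L)))
    have hone : I.relIndex L = 1 := Nat.eq_one_of_dvd_coprimes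
      ((hp.out.coprime_iff_not_dvd.2 hp').pow_left _) h5 (h3.trans h4)
    exact Subgroup.relIndex_eq_one.1 hone
  refine ⟨I.map g, ?_⟩
  rw [Subgroup.index_map_eq I hg hLI, hIidx]

end Cfsg.Agent.Char.FROrbit
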