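import Cfsg.Agent.Lib.Char.GaloisConj
import Cfsg.Agent.Lib.Char.Unique
import Cfsg.Agent.Lib.Char.ProjRep
import Cfsg.Agent.Lib.Solv.Cores
import Cfsg.Agent.Lib.Spor.ThreeLayer
import Mathlib

/-!
# A faithful character whose product with a Galois conjugate is irreducible

The product is the restriction to the diagonal of a representation of `G × G`, so sums over
normal families of operators there act by scalars.
-/

set_option autoImplicit false
set_option linter.unusedSectionVars false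
set_option linter.style.haveILetI false

namespace Cfsg.Agent.Char.GalProd

open Cfsg Cfsg.Agent Cfsg.Agent.Char Module
open scoped ComplexConjugate

universe u

variable {G : Type u} [Group G] [Fintype G]

/-- **The Fitting subgroup is the centre.** -/
theorem fitting_eq_center {χ : G → ℂ} (hχ : IsIrrCharacter G χ)
    (hfaith : ∀ g : G, χ g = χ 1 → g = 1) {k : ℕ} (hk : k.Coprime (Nat.card G))
    (hirr : IsIrrCharacter G (fun g => χ g * χ (g ^ k))) :
    fittingSubgroup G = Subgroup.center G := by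
  classical
  have hc := irr_isCharacter hχ
  obtain ⟨n, Φ, hΦ⟩ := isCharacter_mul (isCharacter_comp (MonoidHom.fst G G) hc)
    (isCharacter_comp (MonoidHom.snd G G) (isCharacter_pow hc hk))
  have hΦv : ∀ a b : G, LinearMap.trace ℂ _ (Φ (a, b)) = χ a * χ (b ^ k) := fun a b =>
    congrFun hΦ (a, b)
  let δ : G →* G × G := (MonoidHom.id G).prod (MonoidHom.id G)
  let τ : Representation ℂ G (Fin n → ℂ) := Φ.comp δ
  obtain ⟨m, τ', hτ', hch⟩ := id hirr
  haveI : τ.IsIrreducible := by
    obtain ⟨e⟩ := equiv_of_character_eq τ' τ (hch.trans (funext fun g => (hΦv g g).symm))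
    exact isIrreducible_of_equiv e hτ'
  have hn : (n : ℂ) ≠ 0 := by
    intro h0
    refine irr_one_ne_zero hirr ?_
    have := hΦv 1 1
    rw [show ((1, 1) : G × G) = 1 from rfl, map_one, LinearMap.trace_one, Module.finrank_fin_fun,
      h0] at this
    exact this.symm
  -- scalars
  have hscalar : ∀ {ι : Type u} [Fintype ι] (f : ι → G × G),
      (∀ g : G, ∃ σ : ι ≃ ι, ∀ i, δ g * f i * (δ g)⁻¹ = f (σ i)) →
      ∃ c : ℂ, (∑ i, Φ (f i)) = c • LinearMap.id := by
    intro ι _ f hf
    refine schur_scalar τ _ fun g => ?_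
    show (∑ i, Φ (f i)) ∘ₗ Φ (δ g) = Φ (δ g) ∘ₗ (∑ i, Φ (f i))
    rw [← Module.End.mul_eq_comp, ← Module.End.mul_eq_comp, Finset.sum_mul, Finset.mul_sum]
    obtain ⟨σ, hσ⟩ := hf g
    refine (Fintype.sum_equiv σ _ _ fun i => ?_).symm
    rw [← map_mul, ← map_mul, ← hσ i, inv_mul_cancel_right]
  have hZscal : ∀ z ∈ Subgroup.center G, ∃ c : ℂ, ∀ x, χ (z * x) = c * χ x := by
    intro z hz
    obtain ⟨d, ρ, hρ, hρχ⟩ := hχ
    haveI := hρ
    obtain ⟨c, hc'⟩ := schur_scalar ρ (ρ z) fun g => by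
      rw [← Module.End.mul_eq_comp, ← Module.End.mul_eq_comp, ← map_mul, ← map_mul,
        Subgroup.mem_center_iff.mp hz g]
    refine ⟨c, fun x => ?_⟩
    rw [← hρχ]
    simp only [Representation.character, map_mul, hc', smul_mul_assoc, map_smul, smul_eq_mul]
    rw [← Module.End.one_eq_id, one_mul]
  have hd : χ 1 ≠ 0 := irr_one_ne_zero hχ
  set F := fittingSubgroup G with hF
  haveI hFn : F.Normal := by rw [hF]; infer_instance
  haveI := Solv.fittingSubgroup_nilpotent (G := G)
  -- an abelian normal subgroup is central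
  have habel : ∀ A : Subgroup G, A.Normal → (∀ a ∈ A, ∀ b ∈ A, a * b = b * a) →
      A ≤ Subgroup.center G := by
    intro A hA hab
    let f : A → G × G := fun b => (((b : G) ^ k)⁻¹, (b : G))
    obtain ⟨c, hc'⟩ := hscalar f fun g =>
      ⟨(MulAut.conjNormal g).toEquiv, fun b => by
        show ((g * ((b : G) ^ k)⁻¹ * g⁻¹), (g * b * g⁻¹)) =
          (((g * b * g⁻¹) ^ k)⁻¹, g * b * g⁻¹)
        rw [conj_pow]
        group⟩
    have htr := congrArg (LinearMap.trace ℂ _) hc'
    simp only [map_sum, hΦv, map_smul, LinearMap.trace_id, smul_eq_mul, f, char_inv hc] at htr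
    have hc0 : c ≠ 0 := by
      intro h0
      rw [h0, zero_mul] at htr
      have h1 : ∑ b : A, Complex.normSq (χ ((b : G) ^ k)) = 0 := by
        apply Complex.ofReal_injective
        rw [Complex.ofReal_sum, Complex.ofReal_zero, ← htr]
        exact Finset.sum_congr rfl fun b _ => Complex.normSq_eq_conj_mul_self
      have := (Finset.sum_eq_zero_iff_of_nonneg fun b _ => Complex.normSq_nonneg _).mp h1 1
        (Finset.mem_univ _)
      rw [OneMemClass.coe_one, one_pow, Complex.normSq_eq_zero] at this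
      exact hd this
    have hid : ∀ y : A, Φ (f y) = LinearMap.id := by
      intro y
      have e : (∑ b, Φ (f b)) * Φ (f y) = ∑ b, Φ (f b) := by
        rw [Finset.sum_mul]
        refine Fintype.sum_equiv (Equiv.mulRight y) _ _ fun b => ?_
        rw [← map_mul]
        refine congrArg Φ ?_
        show (((b : G) ^ k)⁻¹ * ((y : G) ^ k)⁻¹, (b : G) * y) = ((((b : G) * y) ^ k)⁻¹,
          (b : G) * y)
        rw [Commute.mul_pow (hab _ b.2 _ y.2), mul_inv_rev,
          (Commute.inv_inv (Commute.pow_pow (hab _ y.2 _ b.2) k k)).eq]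
      rw [hc', smul_mul_assoc] at e
      have := smul_right_injective (M := Module.End ℂ (Fin n → ℂ)) hc0 e
      rwa [← Module.End.one_eq_id, one_mul] at this
    have hpow : ∀ y ∈ A, y ^ k ∈ Subgroup.center G := by
      intro y hy
      rw [Subgroup.mem_center_iff]
      intro g
      have h1 := hid ⟨y, hy⟩
      have h2 : Φ ((g, 1) * f ⟨y, hy⟩ * (g, 1)⁻¹ * (f ⟨y, hy⟩)⁻¹) = LinearMap.id := by
        have hinv : Φ (f ⟨y, hy⟩)⁻¹ = LinearMap.id := by
          have := map_mul Φ (f ⟨y, hy⟩)⁻¹ (f ⟨y, hy⟩)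
          rw [inv_mul_cancel, map_one, h1, ← Module.End.one_eq_id, mul_one] at this
          exact this.symm
        rw [map_mul, map_mul, map_mul, h1, hinv, ← Module.End.one_eq_id, mul_one, mul_one,
          ← map_mul, mul_inv_cancel, map_one]
      have h3 : χ (g * (y ^ k)⁻¹ * g⁻¹ * y ^ k) * χ 1 = χ 1 * χ 1 := by
        have := congrArg (LinearMap.trace ℂ _) h2
        rw [show ((g, (1 : G)) * f ⟨y, hy⟩ * (g, 1)⁻¹ * (f ⟨y, hy⟩)⁻¹) =
            (g * (y ^ k)⁻¹ * g⁻¹ * y ^ k, 1) by simp [f], hΦv, LinearMap.trace_id,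
          Module.finrank_fin_fun, one_pow] at this
        rw [this]
        have h4 := hΦv 1 1
        rw [show ((1, 1) : G × G) = 1 from rfl, map_one, LinearMap.trace_one,
          Module.finrank_fin_fun, one_pow] at h4
        exact h4
      have h5 := hfaith _ (mul_right_cancel₀ hd h3)
      have h6 : g * (y ^ k)⁻¹ * g⁻¹ = (y ^ k)⁻¹ := mul_eq_one_iff_eq_inv.mp h5
      have h7 := congrArg (·⁻¹) h6
      simp only [mul_inv_rev, inv_inv] at h7
      exact mul_inv_eq_iff_eq_mul.mp (by rw [← mul_assoc] at h7; exact h7)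
    intro y hy
    have hcop : (orderOf y).Coprime k :=
      (hk.coprime_dvd_right (orderOf_dvd_natCard y)).symm
    obtain ⟨j, hj⟩ := exists_pow_eq_self_of_coprime hcop.symm
    rw [← hj]
    exact Subgroup.pow_mem _ (hpow y hy) j
  have hZF : Subgroup.center G ≤ F := Spor.center_le_fitting
  refine le_antisymm ?_ hZF
  by_contra hnle
  -- the elements of `F` central modulo the centre
  have hcenF : ∀ v ∈ F, (∀ y ∈ F, v * y = y * v) → v ∈ Subgroup.center G := by
    intro v hv hcomm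
    set A := (Subgroup.center F).map F.subtype with hA
    haveI : A.Normal := ConjAct.normal_of_characteristic_of_normal
    refine habel A inferInstance ?_ ?_
    · rintro _ ⟨a, ha, rfl⟩ _ ⟨b, hb, rfl⟩
      exact congrArg Subtype.val (Subgroup.mem_center_iff.mp hb a)
    · exact ⟨⟨v, hv⟩, Subgroup.mem_center_iff.mpr fun y => Subtype.ext (hcomm y y.2).symm, rfl⟩
  set π := QuotientGroup.mk' (Subgroup.center G) with hπ
  haveI : Nontrivial (F.map π) := by
    rw [Subgroup.nontrivial_iff_ne_bot]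
    intro h0
    rw [Subgroup.map_eq_bot_iff, hπ, QuotientGroup.ker_mk'] at h0
    exact hnle h0
  haveI : Group.IsNilpotent (F.map π) :=
    Group.nilpotent_of_surjective (π.subgroupMap F) (π.subgroupMap_surjective F)
  haveI hcnt : Nontrivial (Subgroup.center (F.map π)) := by
    rw [Subgroup.nontrivial_iff_ne_bot]
    exact Group.IsNilpotent.center_ne_bot _
  obtain ⟨⟨⟨_, v, hvF, rfl⟩, hvc⟩, hv1⟩ := exists_ne (1 : Subgroup.center (F.map π))
  have hvZ : v ∉ Subgroup.center G := fun h => hv1 (Subtype.ext (Subtype.ext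
    ((QuotientGroup.eq_one_iff v).mpr h)))
  let Q : G → Prop := fun u => u ∈ F ∧ ∀ y ∈ F, u * y * u⁻¹ * y⁻¹ ∈ Subgroup.center G
  have hQv : Q v := ⟨hvF, fun y hy => by
    rw [← QuotientGroup.eq_one_iff]
    have h := congrArg (fun t : F.map π => (t : G ⧸ Subgroup.center G))
      (Subgroup.mem_center_iff.mp hvc ⟨π y, Subgroup.mem_map_of_mem π hy⟩)
    simp only [Subgroup.coe_mul] at h
    simp only [QuotientGroup.mk_mul, QuotientGroup.mk_inv]
    change π y * π v = π v * π y at h
    show π v * π y * (π v)⁻¹ * (π y)⁻¹ = 1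
    rw [← h]
    group⟩
  have hQ0 : ∀ u, Q u → u ∉ Subgroup.center G → χ u = 0 := by
    intro u hu huZ
    obtain ⟨y, hy, hne⟩ : ∃ y ∈ F, u * y ≠ y * u := by
      by_contra hcon
      push Not at hcon
      exact huZ (hcenF u hu.1 hcon)
    obtain ⟨c, hc'⟩ := hZscal _ (hu.2 y hy)
    have h1 := hc' (y * u * y⁻¹ * 1)
    rw [show u * y * u⁻¹ * y⁻¹ * (y * u * y⁻¹ * 1) = u * 1 by group, mul_one, mul_one,
      isClassFunction_character hc] at h1
    by_contra h0
    have hc1 : c = 1 := by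
      have : (c - 1) * χ u = 0 := by linear_combination -h1
      exact sub_eq_zero.mp ((mul_eq_zero.mp this).resolve_right h0)
    have := hc' 1
    rw [mul_one, hc1, one_mul] at this
    refine hne ?_
    have h3 := hfaith _ this
    rwa [mul_inv_eq_one, mul_inv_eq_iff_eq_mul] at h3
  obtain ⟨a, ha⟩ : ∃ a : ℕ, (a * k) % Nat.card G = (Nat.card G - 1) % Nat.card G := by
    have hG : 1 < Nat.card G := by
      rw [Finite.one_lt_card_iff_nontrivial]
      exact ⟨⟨v, 1, fun h => hvZ (h ▸ one_mem _)⟩⟩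
    obtain ⟨j, -, hj⟩ := Nat.exists_mul_mod_eq_one_of_coprime hk hG
    exact ⟨(Nat.card G - 1) * j, by
      rw [mul_assoc, mul_comm j k, Nat.mul_mod, hj, mul_one, Nat.mod_mod]⟩
  have hpowinv : ∀ z : G, (z ^ a) ^ k = z⁻¹ := fun z => by
    rw [← pow_mul, ← pow_mod_natCard, ha, pow_mod_natCard]
    refine eq_inv_of_mul_eq_one_left ?_
    rw [← pow_succ, Nat.sub_add_cancel Nat.card_pos, pow_card_eq_one']
  set w := v ^ a with hw
  let f : G → G × G := fun g => (g * v * g⁻¹, g * w * g⁻¹)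
  obtain ⟨c, hc'⟩ := hscalar f fun g => ⟨Equiv.mulLeft g, fun i => by
    show (g * (i * v * i⁻¹) * g⁻¹, g * (i * w * i⁻¹) * g⁻¹) =
      ((g * i) * v * (g * i)⁻¹, (g * i) * w * (g * i)⁻¹)
    group⟩
  have hc0 : c = 0 := by
    have htr := congrArg (LinearMap.trace ℂ _) hc'
    have hcf : ∀ g : G, χ (g * v * g⁻¹) = 0 := fun g => by
      rw [isClassFunction_character hc, hQ0 v hQv hvZ]
    simp only [map_sum, hΦv, map_smul, LinearMap.trace_id, smul_eq_mul, f,
      hcf, zero_mul, Finset.sum_const_zero] at htr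
    rw [Module.finrank_fin_fun] at htr
    exact (mul_eq_zero.mp htr.symm).resolve_right hn
  have hzero : ∑ g : G, χ (g * v * g⁻¹ * v⁻¹) * χ ((g * w * g⁻¹ * w⁻¹) ^ k) = 0 := by
    have h1 := congrArg (fun T => LinearMap.trace ℂ _ (T * Φ (v⁻¹, w⁻¹))) hc'
    simp only [hc0, zero_smul, zero_mul, map_zero, Finset.sum_mul, map_sum, ← map_mul] at h1
    rw [← h1]
    exact Finset.sum_congr rfl fun g _ => (hΦv _ _).symm
  have hQmul : ∀ u u', Q u → Q u' → Q (u * u'⁻¹) := by
    intro u u' hu hu'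
    refine ⟨F.mul_mem hu.1 (F.inv_mem hu'.1), fun y hy => ?_⟩
    have h1 := hu.2 y hy
    have h2 := hu'.2 y hy
    rw [← QuotientGroup.eq_one_iff] at h1 h2 ⊢
    simp only [QuotientGroup.mk_mul, QuotientGroup.mk_inv, mul_inv_eq_one] at h1 h2 ⊢
    rw [mul_inv_eq_iff_eq_mul] at h1 h2
    rw [mul_inv_eq_iff_eq_mul, mul_assoc, show ((u' : G ⧸ Subgroup.center G))⁻¹ * y = y * (u' : G ⧸ Subgroup.center G)⁻¹ from
      (Commute.inv_left h2).eq, ← mul_assoc, h1, mul_assoc]
  have hQconj : ∀ (g u : G), Q u → Q (g * u * g⁻¹) := by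
    intro g u hu
    refine ⟨hFn.conj_mem u hu.1 g, fun y hy => ?_⟩
    have h1 := hu.2 (g⁻¹ * y * g) (by simpa using hFn.conj_mem y hy g⁻¹)
    have := (inferInstance : (Subgroup.center G).Normal).conj_mem _ h1 g
    rw [show g * u * g⁻¹ * y * (g * u * g⁻¹)⁻¹ * y⁻¹ =
      g * (u * (g⁻¹ * y * g) * u⁻¹ * (g⁻¹ * y * g)⁻¹) * g⁻¹ by group]
    exact this
  -- each term is `|χ|²` at a central element or vanishes
  have hterm : ∀ g : G, χ (g * v * g⁻¹ * v⁻¹) * χ ((g * w * g⁻¹ * w⁻¹) ^ k) =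
      if g * v * g⁻¹ * v⁻¹ ∈ Subgroup.center G then
        (Complex.normSq (χ (g * v * g⁻¹ * v⁻¹)) : ℂ) else 0 := by
    intro g
    by_cases hz : g * v * g⁻¹ * v⁻¹ ∈ Subgroup.center G
    · rw [if_pos hz]
      set z := g * v * g⁻¹ * v⁻¹ with hzdef
      have hgw : g * w * g⁻¹ * w⁻¹ = z ^ a := by
        rw [hw, ← conj_pow, show g * v * g⁻¹ = z * v by rw [hzdef, inv_mul_cancel_right],
          Commute.mul_pow (Subgroup.mem_center_iff.mp hz v).symm, mul_inv_cancel_right]
      rw [hgw, hpowinv, char_inv hc, Complex.mul_conj]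
    · rw [if_neg hz, hQ0 _ (hQmul _ _ (hQconj g v hQv) hQv) hz, zero_mul]
  simp only [hterm, ← Finset.sum_filter] at hzero
  rw [← Complex.ofReal_sum, Complex.ofReal_eq_zero] at hzero
  have := (Finset.sum_eq_zero_iff_of_nonneg fun g _ => Complex.normSq_nonneg _).mp hzero 1
    (Finset.mem_filter.mpr ⟨Finset.mem_univ _, by simp⟩)
  rw [Complex.normSq_eq_zero] at this
  exact hd (by simpa using this)

end Cfsg.Agent.Char.GalProd
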