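import Cfsg.Agent.Lib.Char.RelGlauberman
import Cfsg.Agent.Lib.Char.Clifford
import Cfsg.Agent.Lib.Solv.SZ

/-!
# Invariant constituents of restrictions under coprime action
-/

set_option autoImplicit false
set_option linter.unusedSectionVars false
set_option linter.style.haveILetI false

namespace Cfsg.Agent.Char

open Cfsg Module
open scoped ComplexConjugate Pointwise

universe u

variable {Γ : Type u} [Group Γ] [Fintype Γ]

/-- Glauberman's lemma for the constituents of a restriction. -/
theorem exists_fixed_below (G N : Subgroup Γ) [G.Normal] [N.Normal] [Fintype G] [Fintype N]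
    (hNG : N ≤ G) (S : Subgroup Γ) (hGS : G ⊔ S = ⊤)
    (hcop : (N.relIndex G).Coprime (Nat.card S))
    (hsolv : Group.IsSolvable S ∨ Group.IsSolvable (G ⧸ N.subgroupOf G))
    (χ : IrrCharacter G)
    (hχ : ∀ s ∈ S, ∀ g : G, (χ : G → ℂ) (MulAut.conjNormal s g) = (χ : G → ℂ) g) :
    ∃ θ : IrrCharacter N,
      classInner (fun n : N => (χ : G → ℂ) (Subgroup.inclusion hNG n)) (θ : N → ℂ) ≠ 0 ∧
      ∀ s ∈ S, ∀ n : N, (θ : N → ℂ) (MulAut.conjNormal s n) = (θ : N → ℂ) n := by
  classical
  set M : Subgroup G := N.subgroupOf G with hM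
  haveI := Fintype.ofFinite M
  let e := Subgroup.subgroupOfEquivOfLe hNG
  have hres : ∀ (ψ : IrrCharacter N),
      classInner (fun n : N => (χ : G → ℂ) (Subgroup.inclusion hNG n)) (ψ : N → ℂ) =
      classInner (fun m : M => (χ : G → ℂ) m) (fun m => (ψ : N → ℂ) (e m)) := fun ψ => by
    simp only [classInner]
    rw [Nat.card_congr e.toEquiv]
    congr 1
    exact (Fintype.sum_equiv e.toEquiv _ _ fun m => rfl).symm
  -- a constituent
  have hc := isCharacter_comp (Subgroup.inclusion hNG) (irr_isCharacter χ.2)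
  obtain ⟨θ, hθ⟩ : ∃ θ : IrrCharacter N,
      classInner (fun n : N => (χ : G → ℂ) (Subgroup.inclusion hNG n)) (θ : N → ℂ) ≠ 0 := by
    by_contra hno
    push Not at hno
    have h1 := congrFun (classFun_expansion (isClassFunction_character hc)) 1
    refine irr_one_ne_zero χ.2 ((congrArg (χ : G → ℂ) (map_one _).symm).trans (h1.trans ?_))
    rw [Finset.sum_apply]
    refine Finset.sum_eq_zero fun ψ _ => ?_
    rw [Pi.smul_apply, show classInner ((χ : G → ℂ) ∘ Subgroup.inclusion hNG) (ψ : N → ℂ) = 0
      from hno ψ, zero_smul]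
  -- invariance of the multiplicity
  have hmult : ∀ s ∈ S, classInner (fun n : N => (χ : G → ℂ) (Subgroup.inclusion hNG n))
      (fun n => (θ : N → ℂ) (MulAut.conjNormal s n)) ≠ 0 := by
    intro s hs
    refine fun h0 => hθ (Eq.trans ?_ h0)
    simp only [classInner]
    congr 1
    refine (Fintype.sum_equiv (MulAut.conjNormal s : MulAut N).toEquiv _ _ fun n => ?_).symm
    show _ = (χ : G → ℂ) (Subgroup.inclusion hNG (MulAut.conjNormal s n)) *
      conj ((θ : N → ℂ) (MulAut.conjNormal s n))
    rw [show Subgroup.inclusion hNG (MulAut.conjNormal s n) =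
      MulAut.conjNormal s (Subgroup.inclusion hNG n) from Subtype.ext (by simp), hχ s hs]
  let H : Subgroup Γ :=
    { carrier := {x | ∀ n : N, (θ : N → ℂ) (MulAut.conjNormal x n) = (θ : N → ℂ) n}
      one_mem' := fun n => by rw [map_one]; rfl
      mul_mem' := fun {a b} ha hb n => by rw [map_mul, MulAut.mul_apply, ha, hb]
      inv_mem' := fun {a} ha n => by
        conv_rhs => rw [show n = MulAut.conjNormal a (MulAut.conjNormal a⁻¹ n) by
          rw [← MulAut.mul_apply, ← map_mul, mul_inv_cancel, map_one]; rfl]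
        rw [ha] }
  have hNH : N ≤ H := fun x hx n => by
    rw [show MulAut.conjNormal x n = (⟨x, hx⟩ : N) * n * (⟨x, hx⟩ : N)⁻¹ from Subtype.ext (by simp),
      isClassFunction_character (irr_isCharacter θ.2)]
  -- Frattini argument
  have hGH : G ⊔ H = ⊤ := by
    rw [eq_top_iff, ← hGS]
    refine sup_le le_sup_left fun s hs => ?_
    let θ' : IrrCharacter M := ⟨fun m => (θ : N → ℂ) (e m), isIrrCharacter_comp_equiv e θ.2⟩
    let θs : IrrCharacter M := ⟨fun m => (θ : N → ℂ) (MulAut.conjNormal s (e m)),
      isIrrCharacter_comp_equiv e (irrComp (MulAut.conjNormal s : MulAut N) θ).2⟩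
    have h1 : classInner (fun m : M => (χ : G → ℂ) m) (θ' : M → ℂ) ≠ 0 := by rw [← hres]; exact hθ
    have h2 : classInner (fun m : M => (χ : G → ℂ) m) (θs : M → ℂ) ≠ 0 := fun h0 =>
      hmult s hs ((hres (irrComp (MulAut.conjNormal s : MulAut N) θ)).trans h0)
    obtain ⟨g, hg⟩ := mem_cliffOrbit.mp (mem_cliffOrbit_of_constituent h1 h2)
    have hmem : s * (g : Γ)⁻¹ ∈ H := fun k => by
      have h5 := congrFun (congrArg Subtype.val hg) (e.symm (MulAut.conjNormal (g : Γ)⁻¹ k))
      simp only [irrComp_apply, θ', θs, MulEquiv.apply_symm_apply] at h5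
      rw [show ∀ n' : N, e (MulAut.conjNormal g (e.symm n')) = MulAut.conjNormal (g : Γ) n' from
        fun n' => Subtype.ext (by simp [e, M])] at h5
      rw [map_mul, MulAut.mul_apply, ← h5, ← MulAut.mul_apply, ← map_mul, mul_inv_cancel, map_one]
      rfl
    have := mul_mem (Subgroup.mem_sup_right (S := G) hmem) (Subgroup.mem_sup_left (T := H) g.2)
    rwa [inv_mul_cancel_right] at this
  -- conjugate a complement inside the stabiliser onto the image of `S`
  let f := QuotientGroup.mk' N
  have hf : Function.Surjective f := QuotientGroup.mk'_surjective N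
  let G' := G.map f
  haveI : G'.Normal := Subgroup.Normal.map inferInstance f hf
  let S' := S.map f
  let H' := H.map f
  have hker : f.ker = N := QuotientGroup.ker_mk' N
  have hG'card : Nat.card G' = N.relIndex G := by
    have h1 := Subgroup.card_mul_index G'
    rw [show G'.index = G.index from Subgroup.index_map_eq G hf (hker.le.trans hNG),
      ← Subgroup.index_eq_card, ← Subgroup.relIndex_mul_index hNG] at h1
    exact Nat.eq_of_mul_eq_mul_right (Nat.pos_of_ne_zero Subgroup.index_ne_zero_of_finite) h1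
  have hS'card : Nat.card S' ∣ Nat.card S := Subgroup.card_map_dvd S f
  have hcop' : (Nat.card G').Coprime (Nat.card S') := by
    rw [hG'card]; exact hcop.coprime_dvd_right hS'card
  have htopS : G' ⊔ S' = ⊤ := by
    rw [← Subgroup.map_sup, hGS, Subgroup.map_top_of_surjective f hf]
  have htopH : G' ⊔ H' = ⊤ := by
    rw [← Subgroup.map_sup, hGH, Subgroup.map_top_of_surjective f hf]
  have hidx : G'.index = Nat.card S' := by
    have h1 := Solv.card_sup_of_inf_eq_bot G' S' (Solv.coprime_inf hcop')
    rw [htopS, Subgroup.card_top, ← Subgroup.card_mul_index G'] at h1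
    exact Nat.eq_of_mul_eq_mul_left Nat.card_pos h1
  have hHidx : (G'.subgroupOf H').index = G'.index := by
    rw [← Subgroup.relIndex, ← Subgroup.relIndex_sup_right, sup_comm, htopH, Subgroup.relIndex_top_right]
  obtain ⟨T, hT⟩ := Subgroup.exists_right_complement'_of_coprime (N := G'.subgroupOf H') (by
    rw [hHidx, hidx]
    exact hcop'.coprime_dvd_left (Subgroup.card_comap_dvd_of_injective G' H'.subtype
      H'.subtype_injective))
  let K := T.map H'.subtype
  have hKcard : Nat.card K = G'.index := by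
    rw [Subgroup.card_map_of_injective H'.subtype_injective, ← hHidx]
    have h1 := hT.card_mul
    rw [← Subgroup.card_mul_index (G'.subgroupOf H')] at h1
    exact Nat.eq_of_mul_eq_mul_left Nat.card_pos h1
  have hKS : Nat.card K = Nat.card S' := hKcard.trans hidx
  obtain ⟨x, hx, hxS⟩ := Solv.sz_conj G' S' K (by rw [hidx]; exact hcop') hidx.symm hKcard (by
    rcases hsolv with h | h
    · haveI := h
      exact Or.inr (Group.isSolvable_of_surjective (f.subgroupMap_surjective S))
    · haveI := h
      refine Or.inl (Group.isSolvable_of_surjective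
        (f := QuotientGroup.lift (N.subgroupOf G) (f.subgroupMap G) (fun y hy =>
          Subtype.ext ((QuotientGroup.eq_one_iff (y : Γ)).2 (Subgroup.mem_subgroupOf.1 hy)))) ?_)
      intro y
      obtain ⟨z, rfl⟩ := f.subgroupMap_surjective G y
      exact ⟨QuotientGroup.mk z, rfl⟩)
  obtain ⟨g, hg, rfl⟩ := hx
  refine ⟨irrComp (MulAut.conjNormal g : MulAut N) θ, ?_, fun s hs n => ?_⟩
  · refine fun h0 => hθ (Eq.trans ?_ h0)
    simp only [classInner]
    congr 1
    refine (Fintype.sum_equiv (MulAut.conjNormal g : MulAut N).toEquiv _ _ fun n => ?_).symm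
    show _ = (χ : G → ℂ) (Subgroup.inclusion hNG (MulAut.conjNormal g n)) *
      conj ((θ : N → ℂ) (MulAut.conjNormal g n))
    rw [show Subgroup.inclusion hNG (MulAut.conjNormal g n) =
      (⟨g, hg⟩ : G) * Subgroup.inclusion hNG n * (⟨g, hg⟩ : G)⁻¹ from Subtype.ext (by simp),
      isClassFunction_character (irr_isCharacter χ.2)]
    rfl
  · have h1 : f g * f s * (f g)⁻¹ ∈ K := by
      rw [← hxS]
      exact ⟨f s, Subgroup.mem_map_of_mem f hs, rfl⟩
    have h2 : f g * f s * (f g)⁻¹ ∈ H' := Subgroup.map_subtype_le T h1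
    have h3 : g * s * g⁻¹ ∈ H := by
      rw [← map_inv, ← map_mul, ← map_mul] at h2
      obtain ⟨y, hy, he⟩ := h2
      have h4 : y⁻¹ * (g * s * g⁻¹) ∈ N := QuotientGroup.eq.1 he
      rw [show g * s * g⁻¹ = y * (y⁻¹ * (g * s * g⁻¹)) by group]
      exact mul_mem hy (hNH h4)
    simp only [irrComp_apply]
    rw [← MulAut.mul_apply, ← map_mul,
      show g * s = g * s * g⁻¹ * g by group, map_mul, MulAut.mul_apply]
    exact h3 _

end Cfsg.Agent.Char
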