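import Cfsg.Agent.Lib.Char.ResField
import Cfsg.Agent.Lib.Char.CentralHom
import Cfsg.Agent.Lib.Char.ModAlg
import Cfsg.Agent.Lib.Char.BrauerPairs
import Mathlib.RingTheory.Artinian.Module

/-!
# Nilpotence of graded elements with nilpotent part of degree one
-/

set_option autoImplicit false

namespace Cfsg.Agent.Char

open Cfsg Module
open scoped ComplexConjugate Classical

/-- A word with many segments of degree one is zero. -/
theorem prod_eq_zero_of_segments {R Q : Type*} [Ring R] [Group Q] [Fintype Q] (ε : Q → R)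
    (S : Set R) (k : ℕ) (hk : ∀ l : List R, (∀ s ∈ l, s ∈ S) → l.length = k → l.prod = 0)
    (hseg : ∀ l : List Q, l ≠ [] → l.prod = 1 → (l.map ε).prod ∈ S)
    (l : List Q) (hl : Fintype.card Q * k < l.length + 1) : (l.map ε).prod = 0 := by
  obtain ⟨d, -, hd⟩ := Finset.exists_lt_card_fiber_of_mul_lt_card_of_maps_to
    (s := Finset.range (l.length + 1)) (t := (Finset.univ : Finset Q))
    (f := fun i => (l.take i).prod) (n := k) (fun _ _ => Finset.mem_univ _)
    (by rwa [Finset.card_range, Finset.card_univ])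
  have key : ∀ j : ℕ, ∀ I : Finset ℕ, I.card = j + 1 → (∀ i ∈ I, i ≤ l.length ∧ (l.take i).prod = d) →
      ∃ a b : ℕ, b ∈ I ∧ (∀ i ∈ I, i ≤ b) ∧ ∃ segs : List R, (∀ s ∈ segs, s ∈ S) ∧
        segs.length = j ∧ ((l.take b).map ε).prod = ((l.take a).map ε).prod * segs.prod := by
    intro j
    induction j with
    | zero =>
      intro I hI _
      obtain ⟨a, rfl⟩ := Finset.card_eq_one.mp hI
      exact ⟨a, a, Finset.mem_singleton_self a,
        fun i hi => le_of_eq (Finset.mem_singleton.mp hi), [], by simp, rfl, by simp⟩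
    | succ j ih =>
      intro I hI hId
      have hne : I.Nonempty := Finset.card_pos.mp (by omega)
      set b := I.max' hne with hb
      have hbI := I.max'_mem hne
      obtain ⟨a, b', hb'I, hb'max, segs, hs, hlen, he⟩ := ih (I.erase b)
        (by rw [Finset.card_erase_of_mem hbI]; omega) fun i hi => hId i (Finset.mem_of_mem_erase hi)
      have hlt : b' < b := lt_of_le_of_ne (I.le_max' _ (Finset.mem_of_mem_erase hb'I))
        (Finset.ne_of_mem_erase hb'I)
      obtain ⟨hbl, hbd⟩ := hId b hbI
      obtain ⟨-, hb'd⟩ := hId b' (Finset.mem_of_mem_erase hb'I)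
      set seg := (l.take b).drop b' with hseg'
      have hsplit : l.take b = l.take b' ++ seg := by
        conv_lhs => rw [← List.take_append_drop b' (l.take b), List.take_take,
          Nat.min_eq_left hlt.le]
      have hsne : seg ≠ [] := fun h => by
        have h1 : seg.length = b - b' := by
          rw [hseg', List.length_drop, List.length_take, Nat.min_eq_left hbl]
        rw [h] at h1
        simp at h1
        omega
      have hs1 : seg.prod = 1 := by
        have h1 := congrArg List.prod hsplit
        rw [List.prod_append, hbd, hb'd] at h1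
        exact mul_eq_left.mp h1.symm
      refine ⟨a, b, hbI, fun i hi => I.le_max' i hi, segs ++ [(seg.map ε).prod], ?_, ?_, ?_⟩
      · intro s hs'
        rcases List.mem_append.mp hs' with h | h
        · exact hs s h
        · rw [List.mem_singleton.mp h]; exact hseg seg hsne hs1
      · rw [List.length_append, hlen]; rfl
      · rw [hsplit, List.map_append, List.prod_append, he, List.prod_append,
          List.prod_singleton, mul_assoc]
  obtain ⟨I, hIsub, hIcard⟩ := Finset.exists_subset_card_eq (Nat.succ_le_of_lt hd)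
  obtain ⟨a, b, -, -, segs, hs, hlen, he⟩ := key k I hIcard fun i hi => by
    obtain ⟨h1, h2⟩ := Finset.mem_filter.mp (hIsub hi)
    exact ⟨Nat.lt_succ_iff.mp (Finset.mem_range.mp h1), h2⟩
  rw [← List.take_append_drop b l, List.map_append, List.prod_append, he, hk segs hs hlen,
    mul_zero, zero_mul]

/-- A graded element all whose long words vanish is nilpotent. -/
theorem sum_pow_eq_zero {R Q : Type*} [Ring R] [Fintype Q] (ε : Q → R) (L : ℕ)
    (h : ∀ l : List Q, l.length = L → (l.map ε).prod = 0) : (∑ q, ε q) ^ L = 0 := by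
  have key : ∀ n : ℕ, ∀ l : List Q, l.length + n = L → (l.map ε).prod * (∑ q, ε q) ^ n = 0 := by
    intro n
    induction n with
    | zero => intro l hl; rw [h l (by omega), zero_mul]
    | succ n ih =>
      intro l hl
      rw [pow_succ', ← mul_assoc, Finset.mul_sum, Finset.sum_mul]
      refine Finset.sum_eq_zero fun q _ => ?_
      have := ih (l ++ [q]) (by rw [List.length_append]; simp; omega)
      rwa [List.map_append, List.prod_append, List.map_singleton, List.prod_singleton] at this
  simpa using key L [] (by simp)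

/-- Commuting nilpotent elements of a finite-dimensional algebra have long products zero. -/
theorem exists_prod_eq_zero {k R : Type*} [Field k] [Ring R] [Algebra k R] [Module.Finite k R]
    (S : Set R) (hc : ∀ a ∈ S, ∀ b ∈ S, a * b = b * a) (hn : ∀ a ∈ S, IsNilpotent a) :
    ∃ n : ℕ, ∀ l : List R, (∀ s ∈ l, s ∈ S) → l.length = n → l.prod = 0 := by
  letI := Algebra.adjoinCommRingOfComm k hc
  haveI : IsArtinianRing (Algebra.adjoin k S) := IsArtinianRing.of_finite k _
  obtain ⟨n, hnil⟩ := IsArtinianRing.isNilpotent_nilradical (R := Algebra.adjoin k S)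
  refine ⟨n, fun l hl hlen => ?_⟩
  have key : ∀ l : List R, (∀ s ∈ l, s ∈ S) → ∃ x : Algebra.adjoin k S, (x : R) = l.prod ∧
      x ∈ (nilradical (Algebra.adjoin k S)) ^ l.length := by
    intro l
    induction l with
    | nil => intro _; exact ⟨1, rfl, by simp⟩
    | cons a l ih =>
      intro hl
      obtain ⟨x, hx, hxm⟩ := ih fun s hs => hl s (List.mem_cons_of_mem a hs)
      have haS := hl a (List.mem_cons_self ..)
      obtain ⟨j, hj⟩ := hn a haS
      refine ⟨⟨a, Algebra.subset_adjoin haS⟩ * x, by simp [hx], ?_⟩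
      rw [List.length_cons, pow_succ']
      exact Ideal.mul_mem_mul (mem_nilradical.mpr ⟨j, Subtype.ext (by simpa using hj)⟩) hxm
  obtain ⟨x, hx, hxm⟩ := key l hl
  rw [hlen, hnil] at hxm
  rw [← hx, (Submodule.mem_bot (R := Algebra.adjoin k S)).mp hxm]
  rfl

section Reduce

universe u

variable {G : Type u} [Group G] [Fintype G] {M : Ideal AlgInt} (hP : M.IsPrime)

/-- Reduction of a function to the group algebra over the residue field. -/
noncomputable def rdAlg (f : G → ℂ) : MonoidAlgebra (Res hP) G :=
  ∑ x : G, MonoidAlgebra.single x (red hP (f x))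

theorem rdAlg_eq_zero_iff {f : G → ℂ} (hf : ∀ x, MemLocalRing M (f x)) :
    rdAlg hP f = 0 ↔ ∀ x, MemLocalIdeal M (f x) := by
  have hcoef : ∀ z, (rdAlg hP f).coeff z = red hP (f z) := fun z => by
    rw [rdAlg, MonoidAlgebra.coeff_sum, Finsupp.finset_sum_apply]
    simp [Finsupp.single_apply]
  constructor
  · intro h x
    rw [← red_eq_zero_iff hP (hf x), ← hcoef, h]
    rfl
  · intro h
    exact Finset.sum_eq_zero fun x _ => by rw [(red_eq_zero_iff hP (hf x)).mpr (h x)]; simp

theorem rdAlg_sum {ι : Type*} (s : Finset ι) (f : ι → G → ℂ)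
    (hf : ∀ i ∈ s, ∀ x, MemLocalRing M (f i x)) :
    rdAlg hP (∑ i ∈ s, f i) = ∑ i ∈ s, rdAlg hP (f i) := by
  simp only [rdAlg]
  rw [Finset.sum_comm]
  refine Finset.sum_congr rfl fun x _ => ?_
  rw [Finset.sum_apply, red_sum hP _ _ fun i hi => hf i hi x,
    ← MonoidAlgebra.singleAddHom_apply, map_sum]
  rfl

theorem rdAlg_conv {f g : G → ℂ} (hf : ∀ x, MemLocalRing M (f x)) (hg : ∀ x, MemLocalRing M (g x)) :
    rdAlg hP (conv f g) = rdAlg hP f * rdAlg hP g := by
  have hmul : rdAlg hP f * rdAlg hP g = ∑ y : G, ∑ z : G,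
      MonoidAlgebra.single (y * z) (red hP (f y) * red hP (g z)) := by
    rw [rdAlg, rdAlg, Finset.sum_mul]
    exact Finset.sum_congr rfl fun y _ => by
      rw [Finset.mul_sum]
      exact Finset.sum_congr rfl fun z _ => MonoidAlgebra.single_mul_single ..
  rw [hmul, rdAlg]
  simp only [conv]
  rw [Finset.sum_congr rfl fun z _ => show MonoidAlgebra.single z (red hP (∑ y, f y * g (y⁻¹ * z))) =
      ∑ y, MonoidAlgebra.single z (red hP (f y) * red hP (g (y⁻¹ * z))) by
    rw [red_sum hP _ _ fun y _ => memLR_mul hP (hf _) (hg _), ← MonoidAlgebra.singleAddHom_apply,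
      map_sum]
    exact Finset.sum_congr rfl fun y _ => by rw [red_mul hP (hf _) (hg _)]; rfl,
    Finset.sum_comm]
  refine Finset.sum_congr rfl fun y _ => ?_
  refine Fintype.sum_equiv (Equiv.mulLeft y⁻¹) _ _ fun z => ?_
  simp

theorem rdAlg_delta : rdAlg hP (delta : G → ℂ) = 1 := by
  rw [rdAlg, Finset.sum_eq_single 1 (fun x _ hx => by rw [delta_apply, if_neg hx, red_zero]; simp)
    (fun h => absurd (Finset.mem_univ _) h), delta_apply, if_pos rfl, red_one]
  rfl

theorem extendByZero_delta (N : Subgroup G) [Fintype N] :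
    extendByZero N (delta : N → ℂ) = (delta : G → ℂ) := by
  funext x
  by_cases hx : x ∈ N
  · rw [extendByZero_mem N _ hx, delta_apply, delta_apply]
    simp [Subtype.ext_iff]
  · rw [extendByZero_not_mem N _ hx, delta_apply, if_neg fun (h : x = 1) => hx (h ▸ N.one_mem)]

theorem memLR_extendByZero (hP : M.IsPrime) {N : Subgroup G} {f : N → ℂ} (hf : ∀ n, MemLocalRing M (f n)) (x : G) :
    MemLocalRing M (extendByZero N f x) := by
  by_cases hx : x ∈ N
  · rw [extendByZero_mem N _ hx]; exact hf _
  · rw [extendByZero_not_mem N _ hx]; exact memLR_zero hP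

theorem rdAlg_extend_cpow (N : Subgroup G) [Fintype N] {f : N → ℂ} (hf : IsIntClassFun M f) (n : ℕ) :
    rdAlg hP (extendByZero N (cpow f n)) = rdAlg hP (extendByZero N f) ^ n := by
  induction n with
  | zero => rw [cpow, extendByZero_delta, rdAlg_delta, pow_zero]
  | succ n ih =>
    rw [cpow, ← extendByZero_conv, rdAlg_conv hP
      (memLR_extendByZero hP (intClassFun_cpow hP hf n).2) (memLR_extendByZero hP hf.2), ih, pow_succ]

theorem memLR_conv (hP : M.IsPrime) {f g : G → ℂ} (hf : ∀ x, MemLocalRing M (f x)) (hg : ∀ x, MemLocalRing M (g x))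
    (x : G) : MemLocalRing M (conv f g x) :=
  memLR_sum hP _ _ fun _ _ => memLR_mul hP (hf _) (hg _)

end Reduce

end Cfsg.Agent.Char
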