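import Cfsg.Agent.Lib.Char.LocalRing

/-!
# The residue field of the local ring at a maximal ideal of the algebraic integers
-/

set_option autoImplicit false

namespace Cfsg.Agent.Char

open Cfsg

variable {M : Ideal AlgInt} {p : ℕ}

/-- The ideal of the local ring cut out by `MemLocalIdeal`. -/
def resIdeal (hP : M.IsPrime) : Ideal (locRing hP) where
  carrier := {x | MemLocalIdeal M (x : ℂ)}
  add_mem' := fun ha hb => memLI_add hP ha hb
  zero_mem' := memLI_zero hP
  smul_mem' := fun c _ hx => memLI_mul_left hP c.2 hx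

/-- The residue ring. -/
abbrev Res (hP : M.IsPrime) : Type := locRing hP ⧸ resIdeal hP

theorem resIdeal_isMaximal (hP : M.IsPrime) : (resIdeal hP).IsMaximal := by
  rw [Ideal.isMaximal_iff]
  refine ⟨memLI_one_iff hP, fun J x hJ hx hxJ => ?_⟩
  have hinv := memLR_inv hP x.2 hx
  have hx0 : (x : ℂ) ≠ 0 := fun h => hx (show MemLocalIdeal M (x : ℂ) by rw [h]; exact memLI_zero hP)
  have e : (⟨(x : ℂ)⁻¹, hinv⟩ : locRing hP) * x = 1 := Subtype.ext (inv_mul_cancel₀ hx0)
  exact e ▸ J.mul_mem_left _ hxJ

noncomputable instance instFieldRes (hP : M.IsPrime) : Field (Res hP) :=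
  letI := resIdeal_isMaximal hP
  Ideal.Quotient.field _

open scoped Classical in
/-- Reduction of a complex number (zero outside the local ring). -/
noncomputable def red (hP : M.IsPrime) (z : ℂ) : Res hP :=
  if h : MemLocalRing M z then Ideal.Quotient.mk (resIdeal hP) (⟨z, h⟩ : locRing hP) else 0

variable (hP : M.IsPrime)

theorem red_of_memLR {z : ℂ} (h : MemLocalRing M z) :
    red hP z = Ideal.Quotient.mk (resIdeal hP) (⟨z, h⟩ : locRing hP) := dif_pos h

/-- Reduction as a ring homomorphism on the local ring. -/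
noncomputable def redHom : locRing hP →+* Res hP where
  toFun z := Ideal.Quotient.mk (resIdeal hP) z
  map_one' := map_one (Ideal.Quotient.mk (resIdeal hP))
  map_mul' := map_mul (Ideal.Quotient.mk (resIdeal hP))
  map_zero' := map_zero (Ideal.Quotient.mk (resIdeal hP))
  map_add' := map_add (Ideal.Quotient.mk (resIdeal hP))

theorem redHom_apply (z : locRing hP) : redHom hP z = red hP (z : ℂ) :=
  (red_of_memLR hP z.2).symm

theorem red_add {x y : ℂ} (hx : MemLocalRing M x) (hy : MemLocalRing M y) :
    red hP (x + y) = red hP x + red hP y := by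
  rw [red_of_memLR hP hx, red_of_memLR hP hy, red_of_memLR hP (memLR_add hP hx hy)]
  exact map_add (Ideal.Quotient.mk (resIdeal hP)) ⟨x, hx⟩ ⟨y, hy⟩

theorem red_mul {x y : ℂ} (hx : MemLocalRing M x) (hy : MemLocalRing M y) :
    red hP (x * y) = red hP x * red hP y := by
  rw [red_of_memLR hP hx, red_of_memLR hP hy, red_of_memLR hP (memLR_mul hP hx hy)]
  exact map_mul (Ideal.Quotient.mk (resIdeal hP)) ⟨x, hx⟩ ⟨y, hy⟩

theorem red_zero : red hP 0 = 0 := by
  rw [red_of_memLR hP (memLR_zero hP)]
  exact map_zero (Ideal.Quotient.mk (resIdeal hP))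

theorem red_one : red hP 1 = 1 := by
  rw [red_of_memLR hP (memLR_one hP)]
  exact map_one (Ideal.Quotient.mk (resIdeal hP))

theorem red_eq_iff {x y : ℂ} (hx : MemLocalRing M x) (hy : MemLocalRing M y) :
    red hP x = red hP y ↔ MemLocalIdeal M (x - y) := by
  rw [red_of_memLR hP hx, red_of_memLR hP hy]
  exact Ideal.Quotient.mk_eq_mk_iff_sub_mem _ _

theorem red_eq_zero_iff {x : ℂ} (hx : MemLocalRing M x) : red hP x = 0 ↔ MemLocalIdeal M x := by
  rw [red_of_memLR hP hx]
  exact Ideal.Quotient.eq_zero_iff_mem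

theorem red_sum {ι : Type*} (s : Finset ι) (f : ι → ℂ) (h : ∀ i ∈ s, MemLocalRing M (f i)) :
    red hP (∑ i ∈ s, f i) = ∑ i ∈ s, red hP (f i) := by
  classical
  induction s using Finset.induction_on with
  | empty => simpa using red_zero hP
  | insert a s ha ih =>
    rw [Finset.sum_insert ha, Finset.sum_insert ha,
      red_add hP (h a (Finset.mem_insert_self a s))
        (memLR_sum hP _ _ fun i hi => h i (Finset.mem_insert_of_mem hi)),
      ih fun i hi => h i (Finset.mem_insert_of_mem hi)]

theorem red_natCast (k : ℕ) : red hP (k : ℂ) = (k : Res hP) := by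
  rw [red_of_memLR hP (memLR_natCast hP k)]
  exact map_natCast (Ideal.Quotient.mk (resIdeal hP)) k

theorem charP_res (hM : IsPModular p M) : CharP (Res hP) p := by
  haveI := Fact.mk hM.1
  refine (CharP.charP_iff_prime_eq_zero hM.1).mpr ?_
  rw [← red_natCast hP p, red_eq_zero_iff hP (memLR_natCast hP p)]
  exact memLI_p hM

end Cfsg.Agent.Char
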