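import Cfsg.Agent.Lib.Char.Defect
import Cfsg.Agent.Lib.Char.ResField

/-!
# A nonvanishing Sylow coset sum of a block idempotent (Green)
-/

set_option autoImplicit false

namespace Cfsg.Agent.Char

open Cfsg Module
open scoped ComplexConjugate

universe u

section Fixed

variable {S V : Type*} [Group S] [AddCommGroup V]

/-- A finite `p`-group acting additively on a group of exponent `p` fixes a nonzero element in
every invariant subgroup which is not trivial. -/
theorem exists_fixed_nonzero [Finite S] {p : ℕ} [Fact p.Prime] (hS : IsPGroup p S)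
    (act : S → V →+ V) (h1 : ∀ v, act 1 v = v) (hmul : ∀ a b v, act (a * b) v = act a (act b v))
    (hp : ∀ v : V, p • v = 0) (W : AddSubgroup V) (hW : ∀ a, ∀ v ∈ W, act a v ∈ W)
    {w : V} (hw : w ∈ W) (hw0 : w ≠ 0) : ∃ v ∈ W, v ≠ 0 ∧ ∀ a, act a v = v := by
  classical
  have := Fintype.ofFinite S
  let L : S → ZMod p →+ V := fun b => ZMod.lift p
    ⟨zmultiplesHom V (act b w), by simp [hp]⟩
  have hL : ∀ (b : S) (z : ℤ), L b (z : ZMod p) = z • act b w := fun b z => by
    simp [L, ZMod.lift_coe]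
  let φ : (S → ZMod p) →+ V := ∑ b, (L b).comp (Pi.evalAddMonoidHom (fun _ : S => ZMod p) b)
  have hφ : ∀ n, φ n = ∑ b, L b (n b) := fun n => by simp [φ]
  let R : AddSubgroup V := φ.range
  haveI : Finite R := (Set.finite_range φ).to_subtype
  have hR : ∀ a, ∀ v ∈ R, act a v ∈ R := by
    rintro a _ ⟨n, rfl⟩
    refine ⟨fun b => n (a⁻¹ * b), ?_⟩
    rw [hφ, hφ, map_sum]
    refine (Fintype.sum_equiv (Equiv.mulLeft a) _ _ fun b => ?_).symm
    obtain ⟨z, hz⟩ := ZMod.intCast_surjective (n b)
    rw [Equiv.coe_mulLeft, inv_mul_cancel_left, ← hz, hL, hL, map_zsmul, hmul]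
  have hRW : ∀ v ∈ R, v ∈ W := by
    rintro _ ⟨n, rfl⟩
    rw [hφ]
    refine W.sum_mem fun b _ => ?_
    obtain ⟨z, hz⟩ := ZMod.intCast_surjective (n b)
    rw [← hz, hL]
    exact W.zsmul_mem (hW b w hw) _
  have hwR : w ∈ R := ⟨Pi.single 1 1, by
    rw [hφ, Finset.sum_eq_single (1 : S) (fun b _ hb => by rw [Pi.single_eq_of_ne hb, map_zero])
      (by simp), Pi.single_eq_same, ← Int.cast_one, hL, one_zsmul, h1]⟩
  letI A : MulAction S R :=
    { smul := fun a v => ⟨act a v, hR a v v.2⟩
      one_smul := fun v => Subtype.ext (h1 v)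
      mul_smul := fun a b v => Subtype.ext (hmul a b v) }
  have hfix : (0 : R) ∈ MulAction.fixedPoints S R := fun a => Subtype.ext (map_zero (act a))
  have hdvd : p ∣ Nat.card R := by
    have ho : addOrderOf (⟨w, hwR⟩ : R) = p :=
      addOrderOf_eq_prime (Subtype.ext (hp w)) fun h => hw0 (congrArg Subtype.val h)
    exact ho ▸ addOrderOf_dvd_natCard _
  obtain ⟨v, hv, hne⟩ := hS.exists_fixed_point_of_prime_dvd_card_of_fixed_point (α := R) hdvd hfix
  exact ⟨v, hRW v v.2, fun h => hne (Subtype.ext h.symm), fun a => congrArg Subtype.val (hv a)⟩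

end Fixed

section Core

open scoped Classical

variable {C k : Type*} [Group C] [Fintype C] [Field k] {p : ℕ} [CharP k p]

/-- An element of a group algebra fixed by conjugation with `S`, annihilating the sum of `S`, and
supported on elements whose stabilizer in `S` is the central subgroup `Z`, annihilates the sum of
`Z` if it is idempotent. -/
theorem mul_sum_ne_zero_of_free_support [Fact p.Prime] (Z S : Subgroup C)
    (hZS : Z ≤ S) (hS : IsPGroup p S) (hZc : ∀ z ∈ Z, ∀ c : C, z * c = c * z)
    (e : MonoidAlgebra k C) (he : e * e = e)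
    (hcl : ∀ a y : C, e.coeff (a * y * a⁻¹) = e.coeff y)
    (hsupp : ∀ y, e.coeff y ≠ 0 → ∀ u ∈ S, u * y = y * u → u ∈ Z)
    (h0 : e * (∑ u : C with u ∈ S, MonoidAlgebra.single u (1 : k)) = 0) :
    e * (∑ u : C with u ∈ Z, MonoidAlgebra.single u (1 : k)) = 0 := by
  classical
  set Zs : MonoidAlgebra k C := ∑ u : C with u ∈ Z, MonoidAlgebra.single u (1 : k) with hZs
  set Ss : MonoidAlgebra k C := ∑ u : C with u ∈ S, MonoidAlgebra.single u (1 : k) with hSs
  by_contra hne
  have hcomm : ∀ x : MonoidAlgebra k C, e * x = x * e := by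
    intro x
    induction x using MonoidAlgebra.induction_linear with
    | zero => simp
    | add a b ha hb => rw [mul_add, add_mul, ha, hb]
    | single c r =>
      ext y
      rw [MonoidAlgebra.mul_single_apply, MonoidAlgebra.single_mul_apply]
      rw [show c⁻¹ * y = c⁻¹ * (y * c⁻¹) * c⁻¹⁻¹ by group, hcl, mul_comm]
  -- the subgroup of multiples `v = Zs * c` fixed by `e`
  let W : AddSubgroup (MonoidAlgebra k C) :=
    { carrier := {v | e * v = v ∧ ∃ c, v = Zs * c}
      add_mem' := by
        rintro a b ⟨ha, c, rfl⟩ ⟨hb, d, rfl⟩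
        exact ⟨by rw [mul_add, ha, hb], c + d, by rw [mul_add]⟩
      zero_mem' := ⟨mul_zero e, 0, by rw [mul_zero]⟩
      neg_mem' := by
        rintro a ⟨ha, c, rfl⟩
        exact ⟨by rw [mul_neg, ha], -c, by rw [mul_neg]⟩ }
  have hZsc : ∀ a : C, MonoidAlgebra.single a (1 : k) * Zs = Zs * MonoidAlgebra.single a (1 : k) := by
    intro a
    rw [hZs, Finset.mul_sum, Finset.sum_mul]
    refine Finset.sum_congr rfl fun z hz => ?_
    rw [MonoidAlgebra.single_mul_single, MonoidAlgebra.single_mul_single,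
      hZc z (Finset.mem_filter.mp hz).2 a]
  obtain ⟨v, ⟨hev, c, hvc⟩, hv0, hfix⟩ := exists_fixed_nonzero hS
    (fun a : S => AddMonoidHom.mulLeft (MonoidAlgebra.single (a : C) (1 : k)))
    (fun v => by simp [← MonoidAlgebra.one_def]) (fun a b v => by
      simp [← mul_assoc, MonoidAlgebra.single_mul_single])
    (fun v => by rw [← Nat.cast_smul_eq_nsmul k, CharP.cast_eq_zero k p, zero_smul]) W
    (fun a v hv => by
      obtain ⟨hev, c, rfl⟩ := hv
      refine ⟨?_, MonoidAlgebra.single (a : C) (1 : k) * c, ?_⟩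
      · rw [AddMonoidHom.coe_mulLeft, ← mul_assoc, hcomm, mul_assoc, hev]
      · rw [AddMonoidHom.coe_mulLeft, ← mul_assoc, hZsc, mul_assoc])
    (w := e * Zs) ⟨by rw [← mul_assoc, he], e, hcomm Zs⟩ hne
  refine hv0 ?_
  -- the free orbits of `S / Z` on the support
  letI A : MulAction S C := MulAction.compHom C
    (MonoidHom.comp (ConjAct.toConjAct : C ≃* ConjAct C).toMonoidHom S.subtype)
  have hsm : ∀ (u : S) (y : C), u • y = (u : C) * y * (u : C)⁻¹ := fun u y => rfl
  let Y := {y : C // e.coeff y ≠ 0}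
  letI AY : MulAction S Y :=
    { smul := fun u y => ⟨u • y.1, by rw [hsm, hcl]; exact y.2⟩
      one_smul := fun y => Subtype.ext (one_smul _ _)
      mul_smul := fun a b y => Subtype.ext (mul_smul _ _ _) }
  set Z' : Subgroup S := Z.subgroupOf S with hZ'
  have hstab : ∀ y : Y, MulAction.stabilizer S y = Z' := by
    intro y
    ext u
    rw [MulAction.mem_stabilizer_iff, Subgroup.mem_subgroupOf]
    constructor
    · intro h
      have h' := congrArg Subtype.val h
      change (u : C) * y.1 * (u : C)⁻¹ = y.1 at h'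
      exact hsupp y.1 y.2 u u.2 (mul_inv_eq_iff_eq_mul.mp h')
    · intro h
      refine Subtype.ext ?_
      change (u : C) * y.1 * (u : C)⁻¹ = y.1
      rw [hZc u h, mul_inv_cancel_right]
  let f : (Σ _ : MulAction.orbitRel.Quotient S Y, S ⧸ Z') → Y := fun x => x.2.out • x.1.out
  have hf : Function.Bijective f := by
    constructor
    · rintro ⟨ω, q⟩ ⟨ω', q'⟩ h
      change q.out • ω.out = q'.out • ω'.out at h
      have hω : ω = ω' := by
        have h' := congrArg (Quotient.mk (MulAction.orbitRel S Y)) h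
        have e : ∀ (u : S) (y : Y),
            Quotient.mk (MulAction.orbitRel S Y) (u • y) = Quotient.mk _ y :=
          fun u y => Quotient.sound ⟨u, rfl⟩
        rwa [e, e, Quotient.out_eq, Quotient.out_eq] at h'
      subst hω
      have hq : q.out⁻¹ * q'.out ∈ MulAction.stabilizer S ω.out := by
        rw [MulAction.mem_stabilizer_iff, mul_smul, ← h, inv_smul_smul]
      rw [hstab, ← QuotientGroup.eq, QuotientGroup.out_eq', QuotientGroup.out_eq'] at hq
      rw [hq]
    · intro y
      obtain ⟨u, hu⟩ : y ∈ MulAction.orbit S (Quotient.mk (MulAction.orbitRel S Y) y).out :=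
        (MulAction.orbitRel S Y).symm (Quotient.mk_out (s := MulAction.orbitRel S Y) y)
      refine ⟨⟨Quotient.mk _ y, (u : S ⧸ Z')⟩, ?_⟩
      change (u : S ⧸ Z').out • _ = y
      have hu' : u • (Quotient.mk (MulAction.orbitRel S Y) y).out = y := hu
      obtain ⟨z, hz⟩ := QuotientGroup.mk_out_eq_mul Z' u
      rw [hz, mul_smul,
        MulAction.mem_stabilizer_iff.mp (show (z : S) ∈ MulAction.stabilizer S
          (Quotient.mk (MulAction.orbitRel S Y) y).out by rw [hstab]; exact z.2), hu']
  set a : C → MonoidAlgebra k C := fun y => MonoidAlgebra.single y (e.coeff y)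
  have hesum : e = ∑ y : Y, a y.1 := by
    ext y
    simp only [a, MonoidAlgebra.coeff_sum, Finsupp.coe_finset_sum, Finset.sum_apply,
      MonoidAlgebra.coeff_single, Finsupp.single_apply]
    by_cases hy : e.coeff y = 0
    · rw [hy]
      exact (Finset.sum_eq_zero fun z _ => if_neg fun h => z.2 (h ▸ hy)).symm
    · rw [Finset.sum_eq_single (⟨y, hy⟩ : Y)]
      · simp
      · exact fun z _ hz => if_neg fun h => hz (Subtype.ext h)
      · simp
  set us : S ⧸ Z' → MonoidAlgebra k C := fun q => MonoidAlgebra.single ((q.out : S) : C) (1 : k)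
  set A0 : MonoidAlgebra k C := ∑ ω : MulAction.orbitRel.Quotient S Y, a ω.out.1
  have hterm : ∀ ω q, a (f ⟨ω, q⟩).1 * v = us q * (a ω.out.1 * v) := by
    intro ω q
    have hv' : MonoidAlgebra.single ((q.out : S) : C)⁻¹ (1 : k) * v = v := hfix (q.out)⁻¹
    change MonoidAlgebra.single (((q.out : S) : C) * ω.out.1 * ((q.out : S) : C)⁻¹)
      (e.coeff (((q.out : S) : C) * ω.out.1 * ((q.out : S) : C)⁻¹)) * v = _
    rw [hcl]
    conv_rhs => rw [← hv']
    simp only [us, a, ← mul_assoc, MonoidAlgebra.single_mul_single, one_mul, mul_one]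
  have h1 : e * v = (∑ q, us q) * (A0 * v) := by
    conv_lhs => rw [hesum]
    rw [Finset.sum_mul, ← (Equiv.ofBijective f hf).sum_comp, Fintype.sum_sigma, Finset.sum_mul]
    simp only [Equiv.ofBijective_apply, hterm]
    rw [Finset.sum_comm]
    exact Finset.sum_congr rfl fun q _ => by rw [Finset.sum_mul, Finset.mul_sum]
  have hUS : (∑ q, us q) * Zs = Ss := by
    have hbij : Function.Bijective fun x : (S ⧸ Z') × Z' => x.1.out * (x.2 : S) := by
      constructor
      · rintro ⟨q, z⟩ ⟨q', z'⟩ h
        change q.out * (z : S) = q'.out * (z' : S) at h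
        have hq : q = q' := by
          rw [← QuotientGroup.out_eq' q, ← QuotientGroup.out_eq' q', QuotientGroup.eq,
            show q.out⁻¹ * q'.out = (z : S) * (z' : S)⁻¹ by
              rw [eq_mul_inv_iff_mul_eq, mul_assoc, ← h, inv_mul_cancel_left]]
          exact Z'.mul_mem z.2 (Z'.inv_mem z'.2)
        subst hq
        exact Prod.ext rfl (Subtype.ext (mul_left_cancel h))
      · intro u
        refine ⟨((u : S ⧸ Z'), ⟨(u : S ⧸ Z').out⁻¹ * u, ?_⟩), mul_inv_cancel_left _ _⟩
        rw [← QuotientGroup.eq, QuotientGroup.out_eq']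
    have hS' : Ss = ∑ u : S, MonoidAlgebra.single (u : C) (1 : k) :=
      Finset.sum_subtype _ (fun x => by simp) _
    have hZ'' : Zs = ∑ z : Z', MonoidAlgebra.single ((z : S) : C) (1 : k) := by
      rw [hZs, Finset.sum_subtype (p := fun x => x ∈ Z) _ (fun x => by simp)]
      exact (Fintype.sum_equiv (Subgroup.subgroupOfEquivOfLe hZS).toEquiv _ _ fun z => rfl).symm
    rw [hS', ← (Equiv.ofBijective _ hbij).sum_comp, Fintype.sum_prod_type, hZ'', Finset.sum_mul]
    refine Finset.sum_congr rfl fun q _ => ?_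
    rw [Finset.mul_sum]
    exact Finset.sum_congr rfl fun z _ => by simp [us, MonoidAlgebra.single_mul_single]
  have hA0 : A0 * Zs = Zs * A0 := by
    simp only [A0, a, Finset.sum_mul, Finset.mul_sum]
    refine Finset.sum_congr rfl fun ω _ => ?_
    rw [hZs, Finset.mul_sum, Finset.sum_mul]
    refine Finset.sum_congr rfl fun z hz => ?_
    rw [MonoidAlgebra.single_mul_single, MonoidAlgebra.single_mul_single,
      hZc z (Finset.mem_filter.mp hz).2, mul_comm (e.coeff _)]
  calc v = e * (e * v) := by rw [hev, hev]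
    _ = e * ((∑ q, us q) * (A0 * (Zs * c))) := by rw [h1, ← hvc]
    _ = e * Ss * (A0 * c) := by
      rw [← hUS, ← mul_assoc A0, hA0]; simp only [mul_assoc]
    _ = 0 := by rw [h0, zero_mul]

end Core

end Cfsg.Agent.Char
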