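import Cfsg.Agent.Lib.Char.BrauerChar
import Cfsg.Agent.Lib.Char.Coherence
import Cfsg.Agent.Lib.Char.PPartElem
import Cfsg.Agent.Lib.Char.Linear
import Cfsg.Agent.Lib.Solv.FrobDiv

/-!
Lifting the characters of a Hall subgroup: the criterion of Brauer and Suzuki for a normal complement.
-/

set_option autoImplicit false
open scoped ComplexConjugate
open Cfsg

namespace Cfsg.Agent.Char.HallLift

variable {G : Type*} [Group G] [Finite G]

/-- The exponent cutting out the part of order dividing `a`. -/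
structure Expo (a b e : ℕ) : Prop where
  one_mod : ∃ d, e = a * d + 1
  zero_mod : b ∣ e

theorem exists_expo {a b : ℕ} (ha : 0 < a) (hb : 0 < b) (h : a.Coprime b) : ∃ e, Expo a b e := by
  obtain ⟨k, hk1, hk2⟩ := Nat.chineseRemainder h 1 0
  refine ⟨k + a * b, ⟨?_, ?_⟩⟩
  · have h1 : k + a * b ≡ 1 [MOD a] := by
      have := Nat.ModEq.add hk1 ((Nat.modEq_zero_iff_dvd).2 (dvd_mul_right a b))
      simpa using this
    obtain ⟨d, hd⟩ := (Nat.modEq_iff_dvd' (Nat.one_le_iff_ne_zero.2 (by
      have := Nat.mul_pos ha hb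
      omega))).1 h1.symm
    refine ⟨d, ?_⟩
    have := Nat.mul_pos ha hb
    omega
  · exact dvd_add (Nat.modEq_zero_iff_dvd.1 hk2) (dvd_mul_left b a)

section
variable {a b e : ℕ} (he : Expo a b e)
include he

omit [Finite G] in
theorem pow_self {x : G} (hx : x ^ a = 1) : x ^ e = x := by
  obtain ⟨d, hd⟩ := he.one_mod
  rw [hd, pow_succ, pow_mul, hx, one_pow, one_mul]

omit [Finite G] in
theorem pow_one' {x : G} (hx : x ^ b = 1) : x ^ e = 1 := by
  obtain ⟨d, hd⟩ := he.zero_mod
  rw [hd, pow_mul, hx, one_pow]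

theorem pow_mem_a (hab : a * b = Nat.card G) (x : G) : (x ^ e) ^ a = 1 := by
  obtain ⟨d, hd⟩ := he.zero_mod
  rw [← pow_mul, hd, show b * d * a = (a * b) * d by ring, hab, pow_mul, pow_card_eq_one', one_pow]

/-- On an elementary subgroup the projection is a homomorphism. -/
theorem exists_hom (hab : a * b = Nat.card G) (hcop : a.Coprime b) (E : Subgroup G) {ℓ : ℕ} (hℓ : ℓ.Prime)
    (hE : IsElementary ℓ E) : ∃ f : E →* E, ∀ u : E, f u = u ^ e := by
  obtain ⟨x, hxc, -, k, hk⟩ := hE
  have hj : (Subgroup.center E).index ∣ ℓ ^ k := hk ▸ Subgroup.index_dvd_of_le (Subgroup.zpowers_le.2 hxc)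
  have hkd : ℓ ^ k ∣ a * b := by
    rw [hab]
    exact (hk ▸ (Subgroup.zpowers x).index_dvd_card).trans (Subgroup.card_subgroup_dvd_card E)
  obtain ⟨d, hd⟩ := he.one_mod
  set τ := MonoidHom.transferCenterPow E
  set j := (Subgroup.center E).index with hjdef
  by_cases hla : ℓ ^ k ∣ a
  · obtain ⟨t, ht⟩ : j ∣ a * d := (hj.trans hla).trans (dvd_mul_right a d)
    refine ⟨MonoidHom.mk' (fun u => u ^ e) fun u v => ?_, fun u => rfl⟩
    have key : ∀ w : E, w ^ e = w * ((τ w ^ t : Subgroup.center E) : E) := fun w => by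
      rw [hd, pow_succ', ht, pow_mul]
      rfl
    rw [key, key, key, map_mul,
      (show Commute (τ u) (τ v) from Subtype.ext (Subgroup.mem_center_iff.1 (τ v).2 (τ u : E))).mul_pow,
      Subgroup.coe_mul]
    have hc := Subgroup.mem_center_iff.1 (τ u ^ t).2 v
    rw [mul_assoc u v, mul_assoc u _ _, ← mul_assoc v, hc, mul_assoc]
  · obtain ⟨t, ht⟩ : j ∣ e := by
      refine hj.trans (Dvd.dvd.trans ?_ he.zero_mod)
      rcases Nat.eq_zero_or_pos k with h0 | h0
      · subst h0; simp
      refine Nat.Coprime.dvd_of_dvd_mul_left ?_ hkd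
      refine Nat.Coprime.pow_left k (hℓ.coprime_iff_not_dvd.2 fun hl => hla ?_)
      have hlb : Nat.Coprime (ℓ ^ k) b := Nat.Coprime.pow_left k (hcop.coprime_dvd_left hl)
      exact hlb.dvd_of_dvd_mul_right hkd
    refine ⟨(Subgroup.center E).subtype.comp (MonoidHom.mk' (fun u => τ u ^ t) fun u v => by
      rw [map_mul, (show Commute (τ u) (τ v) from
        Subtype.ext (Subgroup.mem_center_iff.1 (τ v).2 (τ u : E))).mul_pow]), fun u => ?_⟩
    rw [ht, pow_mul]
    rfl

end

/-- The hypotheses of Brauer and Suzuki. -/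
structure Ctx (H : Subgroup G) : Prop where
  hall : Nat.Coprime (Nat.card H) H.index
  fus : ∀ x ∈ H, ∀ y ∈ H, IsConj x y → ∃ h ∈ H, h * x * h⁻¹ = y
  elem : ∀ (E : Subgroup G) (p : ℕ), p.Prime → IsElementary p E → Nat.card E ∣ Nat.card H →
    ∃ g : G, E.map (MulAut.conj g).toMonoidHom ≤ H

variable {H : Subgroup G} {e : ℕ}

omit [Finite G] in
theorem pow_card_of_mem {h : G} (hh : h ∈ H) [Finite H] : h ^ Nat.card H = 1 := by
  have := pow_card_eq_one' (x := (⟨h, hh⟩ : H))
  exact congrArg Subtype.val this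

/-- The order of the part of the centralizer. -/
theorem gcd_dvd_centralizer (hc : Ctx H) {h : G} (hh : h ∈ H) :
    Nat.gcd (Nat.card (Subgroup.centralizer ({h} : Set G))) (Nat.card H) ∣
      Nat.card (H ⊓ Subgroup.centralizer ({h} : Set G) : Subgroup G) := by
  classical
  rw [Nat.dvd_iff_prime_pow_dvd_dvd]
  intro p k hp hpk
  rcases Nat.eq_zero_or_pos k with h0 | h0
  · subst h0; simp
  haveI := Fact.mk hp
  set C := Subgroup.centralizer ({h} : Set G) with hC
  obtain ⟨P₀, hP₀⟩ := Sylow.exists_subgroup_card_pow_prime p (hpk.trans (Nat.gcd_dvd_left _ _))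
  set P' : Subgroup G := P₀.map C.subtype with hP'
  have hP'c : Nat.card P' = p ^ k := by
    rw [hP', Subgroup.card_map_of_injective C.subtype_injective, hP₀]
  have hP'C : P' ≤ C := Subgroup.map_subtype_le _
  set z := preg p h with hz
  set w := ppt p h with hw
  have hwz : w * z = h := ppt_mul_preg h
  have hzh : z ∈ Subgroup.zpowers h := preg_mem_zpowers hp h (Subgroup.mem_zpowers h)
  have hwh : w ∈ Subgroup.zpowers h := by
    have h1 : w = h * z⁻¹ := rfl
    rw [h1]
    exact mul_mem (Subgroup.mem_zpowers h) (inv_mem hzh)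
  have hCh : ∀ u ∈ C, ∀ v ∈ Subgroup.zpowers h, Commute u v := by
    intro u hu v hv
    obtain ⟨i, rfl⟩ := Subgroup.mem_zpowers_iff.1 hv
    exact (show Commute u h from (Subgroup.mem_centralizer_singleton_iff.1 hu)).zpow_right i
  -- the `p`-part
  obtain ⟨kw, hkw⟩ := ppt_ppower hp h
  have hwp : IsPGroup p (Subgroup.zpowers w) := IsPGroup.of_card (n := kw) (by rw [Nat.card_zpowers, hkw])
  set P₁ := P' ⊔ Subgroup.zpowers w with hP₁
  have hP₁p : IsPGroup p P₁ := by
    refine (IsPGroup.of_card hP'c).to_sup_of_normal_right' hwp ?_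
    intro u hu
    rw [Subgroup.mem_normalizer_iff]
    intro v
    have hcomm : ∀ s ∈ Subgroup.zpowers w, u * s * u⁻¹ = s := fun s hs => by
      rw [(hCh u (hP'C hu) s (Subgroup.zpowers_le.2 hwh hs)).eq, mul_inv_cancel_right]
    constructor
    · intro hv
      rw [hcomm v hv]; exact hv
    · intro hv
      have h1 := hcomm _ hv
      have h2 : u * v * u⁻¹ = v := mul_left_cancel (mul_right_cancel h1)
      rwa [h2] at hv
  have hP₁C : P₁ ≤ C := sup_le hP'C (Subgroup.zpowers_le.2 (Subgroup.mem_centralizer_singleton_iff.2 (by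
    obtain ⟨i, hi⟩ := Subgroup.mem_zpowers_iff.1 hwh
    rw [← hi]
    exact ((Commute.refl h).zpow_left i).eq)))
  have hcomm : ∀ (u : Subgroup.zpowers z) (v : P₁), Commute (u : G) (v : G) := fun u v =>
    (hCh v (hP₁C v.2) u (Subgroup.zpowers_le.2 hzh u.2)).symm
  have hzp : ¬ p ∣ orderOf z := (preg_spec hp h).2.1
  obtain ⟨j, hj⟩ := hP₁p.exists_card_eq
  have hzP : Nat.Coprime (orderOf z) (Nat.card P₁) := by
    rw [hj]; exact Nat.Coprime.pow_right j ((hp.coprime_iff_not_dvd.2 hzp).symm)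
  let f : Subgroup.zpowers z × P₁ →* G :=
    (Subgroup.zpowers z).subtype.noncommCoprod P₁.subtype hcomm
  have hf : ∀ (u : Subgroup.zpowers z) (v : P₁), f (u, v) = (u : G) * v := fun u v => rfl
  have hfinj : Function.Injective f := by
    rw [injective_iff_map_eq_one]
    rintro ⟨u, v⟩ huv
    rw [hf] at huv
    have hu1 : (u : G) ∈ P₁ := by rw [eq_inv_of_mul_eq_one_left huv]; exact inv_mem v.2
    have hu2 : orderOf (u : G) ∣ 1 := by
      rw [← hzP.gcd_eq_one]
      refine Nat.dvd_gcd ?_ (by rw [← Subgroup.orderOf_mk (u : G) hu1]; exact orderOf_dvd_natCard _)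
      rw [← Nat.card_zpowers z, Subgroup.orderOf_coe]
      exact orderOf_dvd_natCard _
    have hu3 : (u : G) = 1 := orderOf_eq_one_iff.1 (Nat.dvd_one.1 hu2)
    rw [hu3, one_mul] at huv
    exact Prod.ext (Subtype.ext hu3) (Subtype.ext huv)
  set E := f.range with hE
  have hEc : Nat.card E = orderOf z * Nat.card P₁ := by
    rw [hE, ← Nat.card_congr (MonoidHom.ofInjective hfinj).toEquiv, Nat.card_prod, Nat.card_zpowers]
  have hzE : z ∈ E := ⟨(⟨z, Subgroup.mem_zpowers z⟩, 1), by rw [hf]; simp⟩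
  have hpH : p ∣ Nat.card H := (dvd_pow_self p h0.ne').trans (hpk.trans (Nat.gcd_dvd_right _ _))
  have hEH : Nat.card E ∣ Nat.card H := by
    rw [hEc]
    refine hzP.mul_dvd_of_dvd_of_dvd ?_ ?_
    · refine (orderOf_dvd_of_mem_zpowers hzh).trans ?_
      exact orderOf_dvd_of_pow_eq_one (pow_card_of_mem hh)
    · have h1 : Nat.card P₁ ∣ Nat.card H * H.index := by
        rw [H.card_mul_index]; exact Subgroup.card_subgroup_dvd_card _
      refine Nat.Coprime.dvd_of_dvd_mul_right ?_ h1
      rw [hj]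
      exact Nat.Coprime.pow_left j (hc.hall.coprime_dvd_left hpH)
  have hEl : IsElementary p E := by
    refine ⟨⟨z, hzE⟩, Subgroup.mem_center_iff.2 ?_, ?_, j, ?_⟩
    · rintro ⟨_, ⟨u, v⟩, rfl⟩
      refine Subtype.ext ?_
      show f (u, v) * z = z * f (u, v)
      rw [hf]
      obtain ⟨i, hi⟩ := Subgroup.mem_zpowers_iff.1 u.2
      have c1 : Commute z (u : G) := by rw [← hi]; exact Commute.zpow_right (Commute.refl z) i
      exact ((c1.mul_right (hcomm ⟨z, Subgroup.mem_zpowers z⟩ v))).eq.symm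
    · rw [← Subgroup.orderOf_coe]
      exact (hp.coprime_iff_not_dvd.2 hzp).symm
    · have h1 := Subgroup.card_mul_index (Subgroup.zpowers (⟨z, hzE⟩ : E))
      rw [Nat.card_zpowers, Subgroup.orderOf_mk, hEc, hj] at h1
      exact Nat.eq_of_mul_eq_mul_left (orderOf_pos z) h1
  obtain ⟨g, hg⟩ := hc.elem E p hp hEl hEH
  have hP₁E : P₁ ≤ E := fun v hv => ⟨(1, ⟨v, hv⟩), by rw [hf]; simp⟩
  have hhE : h ∈ E := by
    rw [← hwz]
    exact mul_mem (hP₁E (Subgroup.mem_sup_right (Subgroup.mem_zpowers w))) hzE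
  have hgh : g * h * g⁻¹ ∈ H := hg ⟨h, hhE, rfl⟩
  obtain ⟨t, ht, hth⟩ := hc.fus _ hgh _ hh (isConj_iff.2 ⟨g⁻¹, by group⟩)
  have hle : P'.map (MulAut.conj (t * g)).toMonoidHom ≤ H ⊓ C := by
    rintro _ ⟨v, hv, rfl⟩
    refine ⟨?_, Subgroup.mem_centralizer_singleton_iff.2 ?_⟩
    · have hgv : g * v * g⁻¹ ∈ H := hg ⟨v, hP₁E (Subgroup.mem_sup_left hv), rfl⟩
      show (t * g) * v * (t * g)⁻¹ ∈ H
      rw [show (t * g) * v * (t * g)⁻¹ = t * (g * v * g⁻¹) * t⁻¹ by group]
      exact mul_mem (mul_mem ht hgv) (inv_mem ht)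
    · have hvh := (hCh v (hP'C hv) h (Subgroup.mem_zpowers h)).eq
      show (t * g) * v * (t * g)⁻¹ * h = h * ((t * g) * v * (t * g)⁻¹)
      have hfix : (t * g) * h * (t * g)⁻¹ = h := by
        rw [show (t * g) * h * (t * g)⁻¹ = t * (g * h * g⁻¹) * t⁻¹ by group]
        exact hth
      calc (t * g) * v * (t * g)⁻¹ * h = (t * g) * v * (t * g)⁻¹ * ((t * g) * h * (t * g)⁻¹) := by rw [hfix]
        _ = (t * g) * (v * h) * (t * g)⁻¹ := by group
        _ = (t * g) * (h * v) * (t * g)⁻¹ := by rw [hvh]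
        _ = ((t * g) * h * (t * g)⁻¹) * ((t * g) * v * (t * g)⁻¹) := by group
        _ = _ := by rw [hfix]
  have := Subgroup.card_dvd_of_le hle
  rwa [Subgroup.card_map_of_injective (MulEquiv.injective (MulAut.conj (t * g))), hP'c] at this

/-- The section of an element of `H` is large. -/
theorem le_card_section (hc : Ctx H) (he : Expo (Nat.card H) H.index e) {h : G} (hh : h ∈ H) :
    Nat.card {u : H // IsConj (⟨h, hh⟩ : H) u} * H.index ≤ Nat.card {x : G // IsConj h (x ^ e)} := by
  classical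
  haveI := Fintype.ofFinite G
  set C := Subgroup.centralizer ({h} : Set G) with hC
  set m := Nat.gcd (Nat.card C) H.index with hm
  have hm0 : Nat.card {z : C // z ^ m = 1} ≥ m :=
    Nat.le_of_dvd (Nat.card_pos_iff.2 ⟨⟨⟨1, one_pow m⟩⟩, inferInstance⟩)
      (Cfsg.Agent.Solv.frobenius_dvd m (Nat.gcd_dvd_left _ _))
  have hfib : ∀ y : {y : G // IsConj h y}, m ≤ Nat.card {x : G // x ^ e = (y : G)} := by
    rintro ⟨y, hy⟩
    obtain ⟨g, hg⟩ := isConj_iff.1 hy
    refine hm0.trans (Nat.card_le_card_of_injective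
      (fun z => ⟨g * (h * ((z : C) : G)) * g⁻¹, ?_⟩) ?_)
    · show (g * (h * ((z : C) : G)) * g⁻¹) ^ e = y
      have hzb : ((z : C) : G) ^ H.index = 1 := by
        obtain ⟨c, hc'⟩ := (hm ▸ Nat.gcd_dvd_right _ _ : m ∣ H.index)
        rw [hc', pow_mul, ← Subgroup.coe_pow, z.2, Subgroup.coe_one, one_pow]
      rw [conj_pow, (show Commute h ((z : C) : G) from (Subgroup.mem_centralizer_singleton_iff.1 (z : C).2).symm).mul_pow,
        pow_one' he hzb, pow_self he (pow_card_of_mem hh), mul_one, hg]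
    · intro z z' hzz
      exact Subtype.ext (Subtype.ext (mul_left_cancel (mul_left_cancel (mul_right_cancel
        (congrArg Subtype.val hzz)))))
  have hN : Nat.card {y : G // IsConj h y} * m ≤ Nat.card {x : G // IsConj h (x ^ e)} := by
    rw [← Nat.card_congr (Equiv.sigmaSubtypeFiberEquivSubtype (fun x : G => x ^ e) (q := fun y : G => IsConj h y)
      (p := fun x : G => IsConj h (x ^ e)) (fun x => Iff.rfl)), Nat.card_sigma,
      Nat.card_eq_fintype_card (α := {y : G // IsConj h y})]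
    calc Fintype.card {y : G // IsConj h y} * m = ∑ _y : {y : G // IsConj h y}, m := by simp
      _ ≤ _ := Finset.sum_le_sum fun y _ => hfib y
  have hG1 := card_conjClass_mul_centralizer h
  have hH1 := card_conjClass_mul_centralizer (⟨h, hh⟩ : H)
  have hcard : Nat.card (H ⊓ C : Subgroup G) = Nat.card (Subgroup.centralizer ({(⟨h, hh⟩ : H)} : Set H)) := by
    rw [← Subgroup.card_map_of_injective H.subtype_injective (K := Subgroup.centralizer ({(⟨h, hh⟩ : H)} : Set H))]
    congr 2
    ext v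
    simp only [Subgroup.mem_inf, hC, Subgroup.mem_map, Subgroup.mem_centralizer_singleton_iff]
    constructor
    · rintro ⟨hv, hvh⟩
      exact ⟨⟨v, hv⟩, Subtype.ext hvh, rfl⟩
    · rintro ⟨u, hu, rfl⟩
      exact ⟨u.2, congrArg Subtype.val hu⟩
  rw [← hcard] at hH1
  have hsplit : Nat.card C = Nat.gcd (Nat.card C) (Nat.card H) * m := by
    rw [hm, ← Nat.Coprime.gcd_mul _ hc.hall, H.card_mul_index]
    exact (Nat.gcd_eq_left (Subgroup.card_subgroup_dvd_card C)).symm
  have hle : Nat.gcd (Nat.card C) (Nat.card H) ≤ Nat.card (H ⊓ C : Subgroup G) :=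
    Nat.le_of_dvd Nat.card_pos (gcd_dvd_centralizer hc hh)
  refine le_trans ?_ hN
  refine Nat.le_of_mul_le_mul_right ?_ (Nat.card_pos (α := (H ⊓ C : Subgroup G)))
  calc Nat.card {u : H // IsConj (⟨h, hh⟩ : H) u} * H.index * Nat.card (H ⊓ C : Subgroup G)
      = Nat.card H * H.index := by rw [← hH1]; ring
    _ = Nat.card {y : G // IsConj h y} * Nat.card C := by rw [H.card_mul_index]; exact hG1.symm
    _ = Nat.card {y : G // IsConj h y} * m * Nat.gcd (Nat.card C) (Nat.card H) := by
        conv_lhs => rw [hsplit]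
        ring
    _ ≤ _ := Nat.mul_le_mul_left _ hle

/-- The projection onto the classes of `H`, with fibres of the expected size. -/
theorem exists_proj (hc : Ctx H) (he : Expo (Nat.card H) H.index e) :
    ∃ cls : G → ConjClasses H, (∀ x, ∃ h : H, cls x = ConjClasses.mk h ∧ IsConj (h : G) (x ^ e)) ∧
      ∀ c : ConjClasses H, Nat.card {x : G // cls x = c} = Nat.card c.carrier * H.index := by
  classical
  haveI := Fintype.ofFinite G
  haveI := Fintype.ofFinite H
  haveI := Fintype.ofFinite (ConjClasses H)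
  have uniq : ∀ {u v : H} {y : G}, IsConj (u : G) y → IsConj (v : G) y →
      ConjClasses.mk u = ConjClasses.mk v := by
    intro u v y hu hv
    obtain ⟨t, ht, htu⟩ := hc.fus _ u.2 _ v.2 (hu.trans hv.symm)
    exact ConjClasses.mk_eq_mk_iff_isConj.2 (isConj_iff.2 ⟨⟨t, ht⟩, Subtype.ext htu⟩)
  let F : Option (ConjClasses H) → ℕ := fun o => Nat.card {x : G //
    (if h : ∃ u : H, IsConj (u : G) (x ^ e) then some (ConjClasses.mk h.choose) else none) = o}
  have hsum : ∑ o, F o = Nat.card G := by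
    rw [← Nat.card_congr (Equiv.sigmaFiberEquiv (fun x : G =>
      if h : ∃ u : H, IsConj (u : G) (x ^ e) then some (ConjClasses.mk h.choose) else none)), Nat.card_sigma]
  have hge : ∀ c : ConjClasses H, Nat.card c.carrier * H.index ≤ F (some c) := by
    intro c
    obtain ⟨⟨h, hh⟩, rfl⟩ := ConjClasses.exists_rep c
    refine le_trans (le_of_eq ?_) ((le_card_section hc he hh).trans ?_)
    · refine congrArg (· * H.index) ?_
      refine Nat.card_congr (Equiv.subtypeEquivRight fun u => ?_)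
      exact (ConjClasses.mem_carrier_iff_mk_eq.trans ConjClasses.mk_eq_mk_iff_isConj).trans isConj_comm
    · refine Nat.card_le_card_of_injective (fun x => ⟨(x : G), ?_⟩) (fun x y hxy => Subtype.ext
        (by simpa using hxy))
      have hex : ∃ u : H, IsConj (u : G) ((x : G) ^ e) := ⟨⟨h, hh⟩, x.2⟩
      rw [dif_pos hex]
      exact congrArg some (uniq hex.choose_spec (u := hex.choose) (v := ⟨h, hh⟩) x.2)
  have htot : ∑ c : ConjClasses H, Nat.card c.carrier = Nat.card H := by
    rw [← Nat.card_congr (Equiv.sigmaFiberEquiv (ConjClasses.mk : H → ConjClasses H)), Nat.card_sigma]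
    refine Finset.sum_congr rfl fun c _ => Nat.card_congr (Equiv.subtypeEquivRight fun u => ?_)
    exact ConjClasses.mem_carrier_iff_mk_eq
  rw [Fintype.sum_option, ← H.card_mul_index, ← htot, Finset.sum_mul] at hsum
  have hle := Finset.sum_le_sum fun c (_ : c ∈ (Finset.univ : Finset (ConjClasses H))) => hge c
  have hnone : F none = 0 := by omega
  have heq : ∀ c, F (some c) = Nat.card c.carrier * H.index := fun c =>
    ((Finset.sum_eq_sum_iff_of_le fun d _ => hge d).1 (by omega) c (Finset.mem_univ c)).symm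
  have hall : ∀ x : G, ∃ u : H, IsConj (u : G) (x ^ e) := by
    intro x
    by_contra hx
    haveI := (Nat.card_eq_zero.1 hnone).resolve_right (not_infinite_iff_finite.2 inferInstance)
    exact IsEmpty.false (⟨x, dif_neg hx⟩ : {x : G //
      (if h : ∃ u : H, IsConj (u : G) (x ^ e) then some (ConjClasses.mk h.choose) else none) = none})
  refine ⟨fun x => ConjClasses.mk (hall x).choose, fun x => ⟨_, rfl, (hall x).choose_spec⟩, fun c => ?_⟩
  rw [← heq c]
  refine Nat.card_congr (Equiv.subtypeEquivRight fun x => ?_)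
  rw [dif_pos (hall x), Option.some_inj]

/-- Every irreducible character of `H` lifts to one of `G`. -/
theorem exists_lift [Fintype G] [Fintype H] (hc : Ctx H) (he : Expo (Nat.card H) H.index e) (θ : IrrCharacter H) :
    ∃ χ : IrrCharacter G, ∀ (x : G) (h : H), IsConj (h : G) (x ^ e) → (χ : G → ℂ) x = (θ : H → ℂ) h := by
  classical
  haveI := Fintype.ofFinite (ConjClasses H)
  obtain ⟨cls, hcls, hcard⟩ := exists_proj hc he
  have hθc : IsClassFunction H (θ : H → ℂ) := isClassFunction_character (irr_isCharacter θ.2)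
  have hθcls : ∀ {u v : H}, ConjClasses.mk u = ConjClasses.mk v → (θ : H → ℂ) u = (θ : H → ℂ) v := by
    intro u v huv
    obtain ⟨k, hk⟩ := isConj_iff.1 (ConjClasses.mk_eq_mk_iff_isConj.1 huv)
    rw [← hk, hθc u k]
  set f : G → ℂ := fun x => (θ : H → ℂ) (Quotient.out (cls x) : H) with hf
  have hout : ∀ c : ConjClasses H, ConjClasses.mk (Quotient.out c : H) = c := fun c => Quotient.out_eq c
  have hval : ∀ (x : G) (h : H), IsConj (h : G) (x ^ e) → f x = (θ : H → ℂ) h := by
    intro x h hh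
    obtain ⟨u, hu, hux⟩ := hcls x
    obtain ⟨t, ht, htu⟩ := hc.fus _ u.2 _ h.2 (hux.trans hh.symm)
    refine hθcls ?_
    rw [hout, hu]
    exact ConjClasses.mk_eq_mk_iff_isConj.2 (isConj_iff.2 ⟨⟨t, ht⟩, Subtype.ext htu⟩)
  have hfc : IsClassFunction G f := by
    intro x k
    obtain ⟨u, hu, hux⟩ := hcls x
    rw [hval x u hux]
    refine hval _ u (hux.trans (isConj_iff.2 ⟨k, ?_⟩))
    rw [conj_pow]
  have hgen : IsGeneralizedCharacter G f := by
    refine brauer_characterization hfc fun E ℓ hℓ hE => ?_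
    obtain ⟨φ, hφ⟩ := exists_hom he H.card_mul_index hc.hall E hℓ hE
    set R := φ.range.map E.subtype with hR
    have hRel : IsElementary ℓ R := by
      obtain ⟨x, hxc, hxo, k, hk⟩ := hE
      let ψ : E →* R := ((E.subtype.comp φ).codRestrict R fun u => ⟨φ u, ⟨u, rfl⟩, rfl⟩)
      have hψs : Function.Surjective ψ := by
        rintro ⟨_, _, ⟨u, rfl⟩, rfl⟩
        exact ⟨u, rfl⟩
      have hi : (Subgroup.zpowers (ψ x)).index ∣ ℓ ^ k := by
        rw [← MonoidHom.map_zpowers ψ x, ← hk]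
        exact Subgroup.index_map_dvd _ hψs
      obtain ⟨k', -, hk'⟩ := (Nat.dvd_prime_pow hℓ).1 hi
      refine ⟨ψ x, Subgroup.mem_center_iff.2 fun r => ?_, hxo.coprime_dvd_left (orderOf_map_dvd ψ x), k', hk'⟩
      obtain ⟨u, rfl⟩ := hψs r
      rw [← map_mul, ← map_mul, Subgroup.mem_center_iff.1 hxc u]
    have hRcard : Nat.card R ∣ Nat.card H := by
      have h1 : Nat.card R ∣ Nat.card H * H.index := by
        rw [H.card_mul_index]; exact Subgroup.card_subgroup_dvd_card R
      refine Nat.Coprime.dvd_of_dvd_mul_right (Nat.coprime_of_dvd fun q hq hqR hqi => ?_) h1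
      haveI := Fact.mk hq
      obtain ⟨⟨r, hr⟩, hro⟩ := exists_prime_orderOf_dvd_card' q hqR
      obtain ⟨_, ⟨u, rfl⟩, rfl⟩ := hr
      have h2 : q ∣ Nat.card H := by
        rw [← hro, ← Subgroup.orderOf_coe]
        refine orderOf_dvd_of_pow_eq_one ?_
        show ((φ u : E) : G) ^ _ = 1
        rw [hφ, Subgroup.coe_pow]
        exact pow_mem_a he H.card_mul_index _
      exact Nat.not_coprime_of_dvd_of_dvd hq.one_lt h2 hqi hc.hall
    obtain ⟨g, hg⟩ := hc.elem R ℓ hℓ hRel hRcard
    let toH : E →* H := (((MulAut.conj g).toMonoidHom).comp (E.subtype.comp φ)).codRestrict H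
      fun u => hg ⟨_, ⟨φ u, ⟨u, rfl⟩, rfl⟩, rfl⟩
    refine ⟨(θ : H → ℂ) ∘ toH, fun _ => 0, isCharacter_comp toH (irr_isCharacter θ.2), ?_, ?_⟩
    · convert isCharacter_sum (∅ : Finset Unit) (fun _ (_ : E) => (0 : ℂ)) (fun i hi => absurd hi (by simp))
        using 1
      funext u
      simp
    · funext u
      rw [Pi.sub_apply, sub_zero]
      refine hval _ _ (isConj_iff.2 ⟨g⁻¹, ?_⟩)
      show g⁻¹ * (g * ((φ u : E) : G) * g⁻¹) * g⁻¹⁻¹ = _
      rw [hφ, Subgroup.coe_pow]
      group
  have hnorm : classInner f f = 1 := by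
    rw [← irr_self θ.2, classInner, classInner]
    have h1 : ∑ x : G, f x * conj (f x) =
        ∑ c : ConjClasses H, ((Nat.card c.carrier * H.index : ℕ) : ℂ) *
          ((θ : H → ℂ) (Quotient.out c : H) * conj ((θ : H → ℂ) (Quotient.out c : H))) := by
      rw [← Finset.sum_fiberwise Finset.univ cls]
      refine Finset.sum_congr rfl fun c _ => ?_
      rw [Finset.sum_congr rfl (g := fun _ => (θ : H → ℂ) (Quotient.out c : H) *
        conj ((θ : H → ℂ) (Quotient.out c : H))) (fun x hx => by rw [hf]; simp only; rw [(Finset.mem_filter.1 hx).2]),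
        Finset.sum_const, nsmul_eq_mul, ← hcard c, Nat.card_eq_fintype_card, Fintype.card_subtype]
    have h2 : ∑ h : H, (θ : H → ℂ) h * conj ((θ : H → ℂ) h) =
        ∑ c : ConjClasses H, ((Nat.card c.carrier : ℕ) : ℂ) *
          ((θ : H → ℂ) (Quotient.out c : H) * conj ((θ : H → ℂ) (Quotient.out c : H))) := by
      rw [← Finset.sum_fiberwise Finset.univ (ConjClasses.mk : H → ConjClasses H)]
      refine Finset.sum_congr rfl fun c _ => ?_
      rw [Finset.sum_congr rfl (g := fun _ => (θ : H → ℂ) (Quotient.out c : H) *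
        conj ((θ : H → ℂ) (Quotient.out c : H))) (fun x hx => by
          rw [hθcls ((Finset.mem_filter.1 hx).2.trans (hout c).symm)]),
        Finset.sum_const, nsmul_eq_mul]
      congr 2
      rw [← Fintype.card_subtype, ← Nat.card_eq_fintype_card]
      refine Nat.card_congr (Equiv.subtypeEquivRight fun u => ?_)
      exact ConjClasses.mem_carrier_iff_mk_eq.symm
    rw [h1, h2, ← H.card_mul_index, Nat.cast_mul, mul_inv, mul_assoc, Finset.mul_sum, Finset.mul_sum, Finset.mul_sum]
    refine Finset.sum_congr rfl fun c _ => ?_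
    have hb : (H.index : ℂ) ≠ 0 := Nat.cast_ne_zero.2 Subgroup.index_ne_zero_of_finite
    push_cast
    field_simp
  obtain ⟨s, χ, hs, hfs⟩ := exists_sign_of_norm_one hgen hnorm
  rcases hs with rfl | rfl
  · exact ⟨χ, fun x h hh => by rw [← hval x h hh, hfs]; simp⟩
  · exfalso
    have h1 := congrFun hfs 1
    rw [hval 1 1 (by simp)] at h1
    obtain ⟨n, hn⟩ := charOne_eq_natCast (irr_isCharacter θ.2)
    obtain ⟨m, hm⟩ := charOne_eq_natCast (irr_isCharacter χ.2)
    simp only [Pi.smul_apply, smul_eq_mul, hn, hm] at h1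
    have h2 : (n : ℤ) = -(m : ℤ) := by
      have : ((n : ℤ) : ℂ) = ((-(m : ℤ) : ℤ) : ℂ) := by push_cast; rw [h1]; push_cast; ring
      exact_mod_cast this
    have : n = 0 := by omega
    exact irr_one_ne_zero θ.2 (by rw [hn, this, Nat.cast_zero])

/-- The theorem of Brauer and Suzuki. -/
theorem exists_normal_complement (hc : Ctx H) : ∃ K : Subgroup G, K.Normal ∧ K ⊔ H = ⊤ ∧ K ⊓ H = ⊥ := by
  classical
  haveI := Fintype.ofFinite G
  haveI := Fintype.ofFinite H
  obtain ⟨e, he⟩ := exists_expo (Nat.card_pos (α := H)) (Nat.pos_of_ne_zero H.index_ne_zero_of_finite) hc.hall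
  obtain ⟨cls, hcls, hcard⟩ := exists_proj hc he
  choose χ hχ using fun θ : IrrCharacter H => exists_lift hc he θ
  have hone : ∀ θ : IrrCharacter H, (χ θ : G → ℂ) 1 = (θ : H → ℂ) 1 := fun θ => hχ θ 1 1 (by simp)
  have hmem : ∀ x : G, x ^ e = 1 ↔ ∀ θ, (χ θ : G → ℂ) x = (χ θ : G → ℂ) 1 := by
    intro x
    constructor
    · intro hx θ
      rw [hone, hχ θ x 1 (by rw [hx, OneMemClass.coe_one])]
    · intro hx
      obtain ⟨u, -, hux⟩ := hcls x
      have hu : IsConj u (1 : H) := by
        by_contra hne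
        have h1 := second_orth u (1 : H)
        rw [if_neg hne, Finset.sum_congr rfl (g := fun θ : IrrCharacter H => (θ : H → ℂ) 1 ^ 2) (fun θ _ => by
          rw [← hχ θ x u hux, hx θ, hone, conj_char_one (irr_isCharacter θ.2)]; ring), sum_sq_deg] at h1
        exact Nat.cast_ne_zero.2 Nat.card_pos.ne' h1
      rw [isConj_one_right.1 hu.symm, OneMemClass.coe_one] at hux
      exact (isConj_one_right.1 hux)
  let K : Subgroup G :=
    { carrier := {x | x ^ e = 1}
      one_mem' := one_pow e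
      mul_mem' := fun {x y} hx hy => (hmem _).2 fun θ => by
        obtain ⟨n, σ, -, hσ⟩ := (χ θ).2
        have key : ∀ w : G, (χ θ : G → ℂ) w = (χ θ : G → ℂ) 1 → σ w = LinearMap.id := fun w hw => by
          rw [← eq_id_iff σ, congrFun hσ, hw, ← congrFun hσ 1, Representation.char_one]
        have hx' := key x ((hmem x).1 hx θ)
        have hy' := key y ((hmem y).1 hy θ)
        rw [← congrFun hσ, ← congrFun hσ 1]
        show LinearMap.trace ℂ _ (σ (x * y)) = LinearMap.trace ℂ _ (σ 1)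
        rw [map_mul, hx', hy', map_one]
        rfl
      inv_mem' := fun {x} hx => by
        show x⁻¹ ^ e = 1
        rw [inv_pow, show x ^ e = 1 from hx, inv_one] }
  haveI hKn : K.Normal := ⟨fun x hx g => by
    show (g * x * g⁻¹) ^ e = 1
    rw [conj_pow, show x ^ e = 1 from hx, mul_one, mul_inv_cancel]⟩
  have hK : Nat.card K = H.index := by
    have h1 := hcard (ConjClasses.mk 1)
    rw [show Nat.card (ConjClasses.mk (1 : H)).carrier = 1 by
      rw [Nat.card_eq_one_iff_unique]
      refine ⟨⟨fun u v => Subtype.ext ?_⟩, ⟨⟨1, ConjClasses.mem_carrier_mk⟩⟩⟩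
      have h2 : ∀ w ∈ (ConjClasses.mk (1 : H)).carrier, w = 1 := fun w hw =>
        isConj_one_right.1 (ConjClasses.mk_eq_mk_iff_isConj.1 (ConjClasses.mem_carrier_iff_mk_eq.1 hw)).symm
      rw [h2 _ u.2, h2 _ v.2], one_mul] at h1
    rw [← h1]
    refine Nat.card_congr (Equiv.subtypeEquivRight fun x => ?_)
    show x ^ e = 1 ↔ _
    obtain ⟨u, hu, hux⟩ := hcls x
    rw [hu, ConjClasses.mk_eq_mk_iff_isConj]
    constructor
    · intro hx
      rw [hx] at hux
      rw [show u = 1 from Subtype.ext (isConj_one_left.1 hux)]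
    · intro hu1
      rw [isConj_one_left.1 hu1, OneMemClass.coe_one] at hux
      exact isConj_one_right.1 hux
  have hcompl : K.IsComplement' H := Subgroup.isComplement'_of_coprime
    (by rw [hK, mul_comm, H.card_mul_index]) (by rw [hK]; exact hc.hall.symm)
  exact ⟨K, hKn, hcompl.sup_eq_top, hcompl.disjoint.eq_bot⟩

end Cfsg.Agent.Char.HallLift
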