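import Cfsg.Agent.Lib.Char.CoverDefect
import Cfsg.Agent.Lib.Char.FirstMainInduced
import Cfsg.Agent.Lib.Char.FirstMainExtended
import Cfsg.Agent.Lib.Char.FongReynolds

/-!
# The theorem of Harris and Knörr

Covering blocks correspond through the normalizer of a defect group of the covered block.
-/

set_option autoImplicit false
set_option linter.style.haveILetI false

namespace Cfsg.Agent.Char

open Cfsg
open scoped ComplexConjugate

universe u

variable {M : Ideal AlgInt} {p : ℕ}

theorem classInner_transport_equiv {H K : Type u} [Group H] [Fintype H] [Group K] [Fintype K]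
    (e : H ≃* K) (f g : K → ℂ) : classInner (f ∘ e) (g ∘ e) = classInner f g := by
  simp only [classInner, Nat.card_congr e.toEquiv]
  congr 1
  exact Fintype.sum_equiv e.toEquiv _ _ fun x => rfl

theorem lam_transport_equiv {H K : Type u} [Group H] [Fintype H] [Group K] [Fintype K]
    (e : H ≃* K) (χ f : K → ℂ) : lam (χ ∘ e) (f ∘ e) = lam χ f := by
  simp only [lam, Function.comp_apply, map_one]
  congr 1
  exact Fintype.sum_equiv e.toEquiv _ _ fun x => rfl

variable {G : Type u} [Group G] [Fintype G] {N : Subgroup G} [hN : N.Normal] [Fintype N]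
variable {K : Subgroup G} [Fintype K]

/-- The intersection seen in `K` and in `N`. -/
def swapEquiv (K N : Subgroup G) : N.subgroupOf K ≃* K.subgroupOf N where
  toFun x := ⟨⟨((x : K) : G), x.2⟩, (x : K).2⟩
  invFun x := ⟨⟨((x : N) : G), x.2⟩, (x : N).2⟩
  left_inv _ := rfl
  right_inv _ := rfl
  map_mul' _ _ := rfl

variable [Fintype (K.subgroupOf N)] [Fintype (N.subgroupOf K)]

/-- Induced blocks and covering are compatible. -/
theorem mem_orbU_iff_of_induced (hM : IsPModular p M) {c : Set (IrrCharacter K)}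
    {B : Set (IrrCharacter G)} (hind : IsInducedBlock M K c B) {ψ : IrrCharacter K} (hψ : ψ ∈ c)
    {η : IrrCharacter (N.subgroupOf K)}
    (hη : classInner (fun x : N.subgroupOf K => (ψ : K → ℂ) x) (η : N.subgroupOf K → ℂ) ≠ 0)
    {b : Set (IrrCharacter (K.subgroupOf N))} {d' : Set (IrrCharacter N)}
    (hd : IsInducedBlock M (K.subgroupOf N) b d')
    (hb : irrTransport (swapEquiv K N).symm η ∈ b) {θ₂ : IrrCharacter N} (hθ₂ : θ₂ ∈ d')
    (θ₀ : IrrCharacter N) {χ : IrrCharacter G} (hχ : χ ∈ B) {θ₁ : IrrCharacter N}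
    (hθ₁ : classInner (fun n : N => (χ : G → ℂ) n) (θ₁ : N → ℂ) ≠ 0) :
    θ₁ ∈ orbU M θ₀ ↔ θ₂ ∈ orbU M θ₀ := by
  classical
  have hP := pmod_prime hM
  set U := blockCoeff (orbU M θ₀) with hU
  have hUI := intClassFun_orbU hM θ₀
  have hginv := ginv_blockCoeff_orbU (M := M) θ₀
  have hF := intClassFun_extend hP hginv hUI.2
  set f1 : N.subgroupOf K → ℂ := fun x => U ⟨((x : K) : G), x.2⟩ with hf1
  have hres : (fun x : K => extendByZero N U (x : G)) = extendByZero (N.subgroupOf K) f1 := by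
    funext x
    by_cases hx : (x : G) ∈ N
    · rw [extendByZero_mem N U hx, extendByZero_mem (N.subgroupOf K) f1 hx]
    · rw [extendByZero_not_mem N U hx, extendByZero_not_mem (N.subgroupOf K) f1 hx]
  have hginv1 : GInvariant (N.subgroupOf K) f1 := fun g x => by
    simp only [hf1]
    refine Eq.trans ?_ (hginv (g : G) ⟨((x : K) : G), x.2⟩)
    congr 1
  have h1 := induced_congr_fun hP (fun g => hind.2.2 ψ hψ χ hχ g) hF
  rw [hres, lam_extend_of_constituent hη hginv1, lam_extend_of_constituent hθ₁ hginv,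
    lam_blockCoeff] at h1
  have h2 := induced_congr_fun hP (fun g => hd.2.2 _ hb θ₂ hθ₂ g) hUI
  rw [lam_blockCoeff] at h2
  have heq : lam (η : N.subgroupOf K → ℂ) f1 =
      lam (irrTransport (swapEquiv K N).symm η : K.subgroupOf N → ℂ)
        (fun x : K.subgroupOf N => U (x : N)) := by
    rw [← lam_transport_equiv (swapEquiv K N).symm (η : N.subgroupOf K → ℂ) f1]
    rfl
  rw [heq] at h1
  have h3 := memLI_trans hP (memLI_symm hP h1) h2
  by_cases ha : θ₁ ∈ orbU M θ₀ <;> by_cases hb' : θ₂ ∈ orbU M θ₀ <;> simp only [ha, hb', iff_true,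
    iff_false, not_true, not_false_iff, if_true, if_false, sub_zero, zero_sub] at h3 ⊢
  · exact memLI_one_iff hP h3
  · exact memLI_one_iff hP (by simpa using memLI_neg hP h3)

omit [Fintype (N.subgroupOf K)] in
/-- Transport of an induced block under conjugation by an element of `K`. -/
theorem induced_transport (hM : IsPModular p M) {b : Set (IrrCharacter (K.subgroupOf N))}
    {d' : Set (IrrCharacter N)} (hd : IsInducedBlock M (K.subgroupOf N) b d')
    (α : N ≃* N) (β : K.subgroupOf N ≃* K.subgroupOf N)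
    (hαβ : ∀ x, ((β x : K.subgroupOf N) : N) = α (x : N)) :
    IsInducedBlock M (K.subgroupOf N) (irrTransport β '' b) (irrTransport α '' d') := by
  have hP := pmod_prime hM
  refine ⟨isPBlock_transport _ hd.1, isPBlock_transport _ hd.2.1, ?_⟩
  rintro _ ⟨ξ, hξ, rfl⟩ _ ⟨θ, hθ, rfl⟩ g
  rw [inducedCentralChar_eq, ← omega_eq_centralChar,
    ← lam_classInd' (isClassFunction_character (irr_isCharacter (irrTransport α θ).2))]
  have hg : classInd g = classInd (α g) ∘ α := by
    funext x
    simp only [classInd, Function.comp_apply]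
    have hiff : IsConj g x ↔ IsConj (α g) (α x) := ⟨fun h => α.toMonoidHom.map_isConj h, fun h => by
      simpa using α.symm.toMonoidHom.map_isConj h⟩
    by_cases h : IsConj g x
    · rw [if_pos h, if_pos (hiff.mp h)]
    · rw [if_neg h, if_neg (mt hiff.mpr h)]
  have e1 : (fun x : K.subgroupOf N => classInd g (x : N)) =
      (fun x : K.subgroupOf N => classInd (α g) (x : N)) ∘ β := by
    funext x
    rw [hg, Function.comp_apply, Function.comp_apply, hαβ]
  rw [show (irrTransport β ξ : K.subgroupOf N → ℂ) = (ξ : K.subgroupOf N → ℂ) ∘ β from rfl, e1,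
    lam_transport_equiv, show (irrTransport α θ : N → ℂ) = (θ : N → ℂ) ∘ α from rfl, hg,
    lam_transport_equiv]
  have h := hd.2.2 ξ hξ θ hθ (α g)
  rwa [inducedCentralChar_eq, ← omega_eq_centralChar,
    ← lam_classInd' (isClassFunction_character (irr_isCharacter θ.2))] at h

variable {Q : Subgroup G}

omit [Fintype G] hN [Fintype N] [Fintype K] [Fintype (K.subgroupOf N)] [Fintype (N.subgroupOf K)] in
theorem normalizer_subgroupOf (hK : K = Subgroup.normalizer (Q : Set G)) (hQN : Q ≤ N) :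
    K.subgroupOf N = Subgroup.normalizer ((Q.subgroupOf N : Subgroup N) : Set N) := by
  subst hK
  ext n
  rw [Subgroup.mem_subgroupOf, Subgroup.mem_normalizer_iff, Subgroup.mem_normalizer_iff]
  constructor
  · intro h m
    simpa [Subgroup.mem_subgroupOf] using h (m : G)
  · intro h x
    constructor
    · intro hx
      simpa [Subgroup.mem_subgroupOf] using (h ⟨x, hQN hx⟩).mp hx
    · intro hx
      have hxN : x ∈ N := by
        have := N.mul_mem (N.mul_mem (N.inv_mem n.2) (hQN hx)) n.2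
        simpa [mul_assoc] using this
      exact (h ⟨x, hxN⟩).mpr (by simpa [Subgroup.mem_subgroupOf] using hx)

/-- The defect group of a covered block, moved by a transport. -/
theorem card_defect_transport (hM : IsPModular p M) {d : Set (IrrCharacter N)} {D : Subgroup N}
    (hD : IsDefectGroup p M d D) (g : G) (hd : IsPBlock M d) {E : Subgroup N}
    (hE : IsDefectGroup p M (irrTransport (MulAut.conjNormal g : N ≃* N) '' d) E) :
    Nat.card E = Nat.card D := by
  have h := isDefectGroup_transport (MulAut.conjNormal g : N ≃* N) hM.1 hD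
  obtain ⟨t, rfl⟩ := defect_groups_conj hM (isPBlock_transport _ hd) h hE
  rw [Subgroup.card_map_of_injective (MulEquiv.injective _),
    Subgroup.card_map_of_injective (MulEquiv.injective _)]

/-- Hypotheses: `e` is the Brauer correspondent of `d` in `N_N(Q)`. -/
structure HKCtx (p : ℕ) (M : Ideal AlgInt) (N K : Subgroup G) [Fintype N]
    [Fintype (K.subgroupOf N)] (Q : Subgroup G) (d : Set (IrrCharacter N))
    (e : Set (IrrCharacter (K.subgroupOf N))) : Prop where
  norm : K = Subgroup.normalizer (Q : Set G)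
  pgroup : IsPGroup p Q
  le : Q ≤ N
  dblock : IsPBlock M d
  ddefect : IsDefectGroup p M d (Q.subgroupOf N)
  edefect : IsDefectGroup p M e ((Q.subgroupOf N).subgroupOf (K.subgroupOf N))
  induced : IsInducedBlock M (K.subgroupOf N) e d

/-- A block of `K` covering `e`. -/
def CoversIn (c : Set (IrrCharacter K)) (e : Set (IrrCharacter (K.subgroupOf N))) : Prop :=
  ∃ ψ ∈ c, ∃ η : IrrCharacter (N.subgroupOf K), irrTransport (swapEquiv K N).symm η ∈ e ∧
    classInner (fun x : N.subgroupOf K => (ψ : K → ℂ) x) (η : N.subgroupOf K → ℂ) ≠ 0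

variable {d : Set (IrrCharacter N)} {e : Set (IrrCharacter (K.subgroupOf N))}

theorem HKCtx.covers_of (h : HKCtx p M N K Q d e) (hM : IsPModular p M) {c : Set (IrrCharacter K)}
    {B : Set (IrrCharacter G)} (hind : IsInducedBlock M K c B) (hc : CoversIn c e) :
    Covers B d := by
  have hP := pmod_prime hM
  obtain ⟨ψ, hψ, η, hη, hne⟩ := hc
  obtain ⟨θ₀, hθ₀⟩ := block_nonempty hP h.dblock
  obtain ⟨χ, hχ⟩ := block_nonempty hP hind.2.1
  obtain ⟨θ₁, hθ₁⟩ : ∃ θ₁ : IrrCharacter N,
      classInner (fun n : N => (χ : G → ℂ) n) (θ₁ : N → ℂ) ≠ 0 := by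
    obtain ⟨m, hm⟩ := exists_decomposition (isCharacter_comp N.subtype (irr_isCharacter χ.2))
    by_contra hno
    push Not at hno
    refine irr_one_ne_zero χ.2 ?_
    have h1 := congrFun hm 1
    rw [Function.comp_apply, map_one, Finset.sum_apply] at h1
    rw [h1]
    refine Finset.sum_eq_zero fun φ _ => ?_
    have h2 : m φ = 0 := by
      have h3 := hno φ
      rw [show (fun n : N => (χ : G → ℂ) n) = (χ : G → ℂ) ∘ N.subtype from rfl,
        decomposition_coeff m hm φ] at h3
      exact_mod_cast h3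
    simp [h2]
  obtain ⟨g, hg⟩ := (mem_orbU_iff_of_induced hM hind hψ hne h.induced hη hθ₀ θ₀ hχ hθ₁).mpr
    (orbU_self hP θ₀)
  exact ⟨χ, hχ, _, (mem_block_iff hP h.dblock hθ₀ _).mpr hg, constituent_irrComp hθ₁ g⟩

theorem HKCtx.coversIn_of (h : HKCtx p M N K Q d e) (hM : IsPModular p M)
    {c : Set (IrrCharacter K)} {B : Set (IrrCharacter G)} (hind : IsInducedBlock M K c B)
    (hcov : Covers B d) : CoversIn c e := by
  classical
  have hP := pmod_prime hM
  haveI := Fact.mk hM.1
  obtain ⟨χ, hχ, θ₀, hθ₀, hθ₀c⟩ := hcov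
  obtain ⟨ψ, hψ⟩ := block_nonempty hP hind.1
  obtain ⟨η, hη⟩ : ∃ η : IrrCharacter (N.subgroupOf K),
      classInner (fun x : N.subgroupOf K => (ψ : K → ℂ) x) (η : N.subgroupOf K → ℂ) ≠ 0 := by
    obtain ⟨m, hm⟩ := exists_decomposition
      (isCharacter_comp (N.subgroupOf K).subtype (irr_isCharacter ψ.2))
    by_contra hno
    push Not at hno
    refine irr_one_ne_zero ψ.2 ?_
    have h1 := congrFun hm 1
    rw [Function.comp_apply, map_one, Finset.sum_apply] at h1
    rw [h1]
    refine Finset.sum_eq_zero fun φ _ => ?_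
    have h2 : m φ = 0 := by
      have h3 := hno φ
      rw [show (fun x : N.subgroupOf K => (ψ : K → ℂ) x) = (ψ : K → ℂ) ∘ (N.subgroupOf K).subtype
        from rfl, decomposition_coeff m hm φ] at h3
      exact_mod_cast h3
    simp [h2]
  have hLn : (K.subgroupOf N) = Subgroup.normalizer ((Q.subgroupOf N : Subgroup N) : Set N) :=
    normalizer_subgroupOf h.norm h.le
  have hQL : Q.subgroupOf N ≤ (K.subgroupOf N) := hLn ▸ Subgroup.le_normalizer
  have hQNp : IsPGroup p (Q.subgroupOf N) := h.pgroup.of_equiv (Subgroup.subgroupOfEquivOfLe h.le).symm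
  set η₀ := irrTransport (swapEquiv K N).symm η with hη₀
  have hbb := isPBlock_blockOf M η₀
  obtain ⟨d', hd'⟩ := inducedBlockDefined_of_local hM hQNp hQL
    (le_trans (Subgroup.centralizer_le_normalizer _) hLn.ge) hLn.le hbb
  obtain ⟨θ₂, hθ₂⟩ := block_nonempty hP hd'.2.1
  obtain ⟨g, hg⟩ := (mem_orbU_iff_of_induced hM hind hψ hη hd' (self_mem_blockOf hP η₀) hθ₂ θ₀ hχ
    hθ₀c).mp (orbU_self hP θ₀)
  have hgd : irrComp (MulAut.conjNormal g) θ₂ ∈ d := (mem_block_iff hP h.dblock hθ₀ _).mpr hg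
  -- `d'` is the conjugate of `d`
  have hd'eq : d' = irrTransport (MulAut.conjNormal g⁻¹ : N ≃* N) '' d :=
    block_disjoint hP hd'.2.1 (isPBlock_transport _ h.dblock) hθ₂ ⟨_, hgd, Subtype.ext (funext fun n => by
      rw [irrTransport_apply, irrComp_apply, ← MulAut.mul_apply, ← map_mul, mul_inv_cancel, map_one]
      rfl)⟩
  -- defect groups
  set Q0 := (Q.subgroupOf N).subgroupOf (K.subgroupOf N) with hQ0
  haveI hQ0n : Q0.Normal := (Subgroup.normal_subgroupOf_iff_le_normalizer hQL).mpr hLn.le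
  have hQ0p : IsPGroup p Q0 := hQNp.of_equiv (Subgroup.subgroupOfEquivOfLe hQL).symm
  have hmapQ0 : Q0.map (K.subgroupOf N).subtype = Q.subgroupOf N := Subgroup.map_subgroupOf_eq_of_le hQL
  obtain ⟨D, hD⟩ := exists_isDefectGroup hM hbb
  obtain ⟨E, hE, hDE⟩ := induced_defect_le hM hd' hD
  have hQD := pCore_le_defectGroup hM hbb hD Q0 hQ0p
  have hEQ : E = Q.subgroupOf N := by
    refine (Subgroup.eq_of_le_of_card_ge
      ((hmapQ0 ▸ Subgroup.map_mono hQD).trans hDE) (le_of_eq ?_)).symm
    exact card_defect_transport hM h.ddefect g⁻¹ h.dblock (hd'eq ▸ hE)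
  -- move by an element of `K`
  obtain ⟨t, ht⟩ := defect_groups_conj hM (hd'eq ▸ hd'.2.1)
    (isDefectGroup_transport (MulAut.conjNormal g⁻¹ : N ≃* N) hM.1 h.ddefect) (hd'eq ▸ hEQ ▸ hE)
  set k : G := (t : G) * g with hk
  have hkK : k ∈ K := by
    rw [h.norm, Subgroup.mem_normalizer_iff_map_conj_eq]
    refine Subgroup.eq_of_le_of_card_ge ?_ (le_of_eq
      (Subgroup.card_map_of_injective (MulEquiv.injective (MulAut.conj k))).symm)
    rintro _ ⟨q, hq, rfl⟩
    have hm : (MulAut.conj t) ((MulAut.conjNormal g⁻¹ : N ≃* N).symm ⟨q, h.le hq⟩) ∈ Q.subgroupOf N :=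
      ht ▸ ⟨_, ⟨⟨q, h.le hq⟩, hq, rfl⟩, rfl⟩
    rw [Subgroup.mem_subgroupOf] at hm
    convert hm using 1
    show k * q * k⁻¹ = _
    have e1 : (((MulAut.conjNormal g⁻¹ : N ≃* N).symm ⟨q, h.le hq⟩ : N) : G) = g * q * g⁻¹ := by
      rw [MulAut.conjNormal_symm_apply]; group
    simp only [MulAut.conj_apply, Subgroup.coe_mul, InvMemClass.coe_inv, e1, hk]
    group
  set kK : K := ⟨k, hkK⟩
  let α : N ≃* N := MulAut.conjNormal k
  have hαL : ∀ x : (K.subgroupOf N), α (x : N) ∈ (K.subgroupOf N) := fun x => by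
    show ((α (x : N) : N) : G) ∈ K
    rw [MulAut.conjNormal_apply]
    exact K.mul_mem (K.mul_mem hkK x.2) (K.inv_mem hkK)
  have hαL' : ∀ x : (K.subgroupOf N), α.symm (x : N) ∈ (K.subgroupOf N) := fun x => by
    show ((α.symm (x : N) : N) : G) ∈ K
    rw [MulAut.conjNormal_symm_apply]
    exact K.mul_mem (K.mul_mem (K.inv_mem hkK) x.2) hkK
  let β : (K.subgroupOf N) ≃* (K.subgroupOf N) :=
    { toFun := fun x => ⟨α (x : N), hαL x⟩
      invFun := fun x => ⟨α.symm (x : N), hαL' x⟩
      left_inv := fun x => Subtype.ext (α.symm_apply_apply _)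
      right_inv := fun x => Subtype.ext (α.apply_symm_apply _)
      map_mul' := fun x y => Subtype.ext (map_mul α _ _) }
  have hd'' : irrTransport α '' d' = d := by
    refine block_disjoint hP (isPBlock_transport _ hd'.2.1) h.dblock ⟨θ₂, hθ₂, rfl⟩ ?_
    have he : irrTransport α θ₂ =
        irrTransport (MulAut.conj t⁻¹⁻¹ : N ≃* N) (irrTransport (MulAut.conjNormal g : N ≃* N) θ₂) := by
      refine Subtype.ext (funext fun n => ?_)
      rw [irrTransport_apply, irrTransport_apply, irrTransport_apply, inv_inv]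
      have hcl := isClassFunction_character (irr_isCharacter θ₂.2)
      have hgn : ∀ (a : N) (w : G), ((MulAut.conjNormal w a : N) : G) = w * a * w⁻¹ :=
        fun a w => MulAut.conjNormal_apply w a
      rw [show α n = t * (MulAut.conjNormal g n) * t⁻¹ from Subtype.ext (by
        rw [Subgroup.coe_mul, Subgroup.coe_mul, InvMemClass.coe_inv, hgn, hgn, hk]; group), hcl]
      have h2 := (MulAut.conjNormal g : N ≃* N).apply_symm_apply t
      rw [MulAut.conj_apply, map_mul, map_mul, map_inv, hcl]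
    rw [he]
    have hinner : ∀ (s : N) (θ : IrrCharacter N), irrTransport (MulAut.conj s : N ≃* N) θ = θ :=
      fun s θ => Subtype.ext (funext fun n => by
        rw [irrTransport_apply, MulAut.conj_apply, isClassFunction_character (irr_isCharacter θ.2)])
    rw [hinner]
    exact hgd
  have hind' := induced_transport hM hd' α β fun x => rfl
  rw [hd''] at hind'
  obtain ⟨D', hD'⟩ := exists_isDefectGroup hM hind'.1
  obtain ⟨E', hE', hDE'⟩ := induced_defect_le hM hind' hD'
  have hQD' := pCore_le_defectGroup hM hind'.1 hD' Q0 hQ0p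
  have hcardE' : Nat.card E' = Nat.card (Q.subgroupOf N) := by
    obtain ⟨s, rfl⟩ := defect_groups_conj hM h.dblock h.ddefect hE'
    rw [Subgroup.card_map_of_injective (MulEquiv.injective _)]
  have hD'Q : D' = Q0 := by
    refine (Subgroup.eq_of_le_of_card_ge hQD' ?_).symm
    calc Nat.card D' = Nat.card (D'.map (K.subgroupOf N).subtype) :=
          (Subgroup.card_map_of_injective (Subgroup.subtype_injective (K.subgroupOf N))).symm
      _ ≤ Nat.card E' := Subgroup.card_le_of_le hDE'
      _ = Nat.card Q0 := by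
        rw [hcardE', Nat.card_congr (Subgroup.subgroupOfEquivOfLe hQL).toEquiv]
  have hfm := first_main hM (H := (K.subgroupOf N)) Q0 (by rw [hmapQ0]; exact hLn)
  have heq := (hfm.2 d h.dblock (hmapQ0.symm ▸ h.ddefect)).unique
    ⟨hind'.1, hD'Q ▸ hD', hind'⟩ ⟨h.induced.1, h.edefect, h.induced⟩
  refine ⟨ψ, hψ, irrComp (MulAut.conjNormal kK) η, ?_, constituent_irrComp hη kK⟩
  rw [← heq]
  exact ⟨η₀, self_mem_blockOf hP η₀, Subtype.ext (funext fun x => rfl)⟩

omit [Fintype K] [Fintype (K.subgroupOf N)] [Fintype (N.subgroupOf K)] in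
theorem normalizer_le_of_inf (hK : K = Subgroup.normalizer (Q : Set G)) {E : Subgroup G}
    (hE : E ⊓ N = Q) : Subgroup.normalizer (E : Set G) ≤ K := by
  intro x hx
  rw [hK, Subgroup.mem_normalizer_iff_map_conj_eq]
  have h1 : E.map (MulAut.conj x).toMonoidHom = E := Subgroup.mem_normalizer_iff_map_conj_eq.mp hx
  rw [← hE]
  show (E ⊓ N).map (MulAut.conj x).toMonoidHom = _
  rw [Subgroup.map_inf _ _ _ (MulEquiv.injective (MulAut.conj x)), h1]
  congr 1
  exact Subgroup.Normal.map_conj_eq N x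

omit [Fintype (N.subgroupOf K)] in
/-- Any defect group of a block of `K` covering `e` is a defect group of the induced block, and the
Brauer congruence holds there. -/
theorem HKCtx.defect_of (h : HKCtx p M N K Q d e) (hM : IsPModular p M) {c : Set (IrrCharacter K)}
    {B : Set (IrrCharacter G)} (hind : IsInducedBlock M K c B) (hcov : Covers B d) {D : Subgroup K}
    (hD : IsDefectGroup p M c D) :
    IsDefectGroup p M B (D.map K.subtype) ∧ D.map K.subtype ⊓ N = Q ∧
      Subgroup.normalizer ((D.map K.subtype : Subgroup G) : Set G) ≤ K ∧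
      ∀ x : G, x ∈ Subgroup.centralizer ((D.map K.subtype : Subgroup G) : Set G) →
        MemLocalIdeal M (blockCoeff B x - subgroupBlockCoeff K c x) := by
  haveI := Fact.mk hM.1
  have hQK : Q ≤ K := h.norm ▸ Subgroup.le_normalizer
  haveI : (Q.subgroupOf K).Normal :=
    (Subgroup.normal_subgroupOf_iff_le_normalizer hQK).mpr h.norm.le
  have hQD := pCore_le_defectGroup hM hind.1 hD (Q.subgroupOf K)
    (h.pgroup.of_equiv (Subgroup.subgroupOfEquivOfLe hQK).symm)
  have hQD' : Q ≤ D.map K.subtype := fun q hq => ⟨⟨q, hQK hq⟩, hQD hq, rfl⟩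
  obtain ⟨E, hE, hDE⟩ := induced_defect_le hM hind hD
  obtain ⟨c', hc', -, hcov', hc'D⟩ := exists_stable_covered (N := N) hM hind.2.1 hE
  obtain ⟨g, hg⟩ := exists_transport_of_covers hM hind.2.1 h.dblock hc' hcov hcov'
  have hcard := card_defect_transport hM h.ddefect g h.dblock (hg ▸ hc'D)
  rw [Nat.card_congr (Subgroup.subgroupOfEquivOfLe inf_le_right).toEquiv,
    Nat.card_congr (Subgroup.subgroupOfEquivOfLe h.le).toEquiv] at hcard
  have hEN : E ⊓ N = Q :=
    (Subgroup.eq_of_le_of_card_ge (le_inf (hQD'.trans hDE) h.le) hcard.le).symm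
  have hDN : D.map K.subtype ⊓ N = Q :=
    le_antisymm ((inf_le_inf_right N hDE).trans hEN.le) (le_inf hQD' h.le)
  have hN' := normalizer_le_of_inf h.norm hDN
  obtain ⟨e0, B', hmax, hmax'⟩ := correspond_up hM hN' hind.1 hD
  have hC := le_trans (Subgroup.centralizer_le_normalizer _) hN'
  obtain rfl := pairOf_unique hM hmax'.1 (pairOf_of_induced hM hind hC hmax.1)
  exact ⟨maximal_pair_defect hM hmax', hDN, hN', brauer_congr_of_maximal hM hN' hmax hmax'⟩

omit [Fintype (N.subgroupOf K)] in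
theorem HKCtx.unique (h : HKCtx p M N K Q d e) (hM : IsPModular p M)
    {c₁ c₂ : Set (IrrCharacter K)} {B : Set (IrrCharacter G)} (h₁ : IsInducedBlock M K c₁ B)
    (h₂ : IsInducedBlock M K c₂ B) (hcov : Covers B d) : c₁ = c₂ := by
  obtain ⟨D₁, hD₁⟩ := exists_isDefectGroup hM h₁.1
  obtain ⟨D₂, hD₂⟩ := exists_isDefectGroup hM h₂.1
  obtain ⟨hB₁, hN₁, hK₁, hc₁⟩ := h.defect_of hM h₁ hcov hD₁
  obtain ⟨hB₂, hN₂, -, -⟩ := h.defect_of hM h₂ hcov hD₂
  obtain ⟨x, hx⟩ := defect_groups_conj hM h₁.2.1 hB₂ hB₁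
  have hxK : x ∈ K := by
    rw [h.norm, Subgroup.mem_normalizer_iff_map_conj_eq]
    show Q.map (MulAut.conj x).toMonoidHom = Q
    conv_lhs => rw [← hN₂]
    rw [Subgroup.map_inf _ _ _ (MulEquiv.injective (MulAut.conj x)), ← hx,
      show N.map (MulAut.conj x).toMonoidHom = N from Subgroup.Normal.map_conj_eq N x, hN₁]
  have hD₂' := isDefectGroup_conj hM hD₂ ⟨x, hxK⟩
  have hmap : D₂.map (MulAut.conj (⟨x, hxK⟩ : K)).toMonoidHom = D₁ := by
    refine Subgroup.map_injective (Subgroup.subtype_injective K) ?_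
    rw [hx, Subgroup.map_map, Subgroup.map_map]
    rfl
  rw [hmap] at hD₂'
  obtain ⟨-, -, -, hc₂⟩ := h.defect_of hM h₂ hcov hD₂'
  exact ((brauer_correspondence hM D₁ hK₁).1 B h₁.2.1 hB₁).unique ⟨h₁.1, hD₁, hc₁⟩
    ⟨h₂.1, hD₂', hc₂⟩

end Cfsg.Agent.Char
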