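import Mathlib

/-!
# Odd automorphisms of homocyclic two-groups of rank two
-/

set_option autoImplicit false
set_option linter.unusedSectionVars false

namespace Cfsg.Agent.Char

variable {A : Type*} [CommGroup A] [Finite A]

/-- An odd order automorphism of an abelian two-group fixing all involutions is trivial. -/
theorem aut_trivial_of_fix_involutions (hA : IsPGroup 2 A) (a : MulAut A) {n : ℕ} (hn : Odd n)
    (ha : a ^ n = 1) (hinv : ∀ t : A, t ^ 2 = 1 → a t = t) : a = 1 := by
  have key : ∀ k : ℕ, ∀ x : A, x ^ 2 ^ k = 1 → a x = x := by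
    intro k
    induction k with
    | zero => intro x hx; simp only [pow_zero, pow_one] at hx; simp [hx]
    | succ k ih =>
      intro x hx
      have h2 : a (x ^ 2) = x ^ 2 := ih _ (by rw [← pow_mul, ← pow_succ']; exact hx)
      set t := x⁻¹ * a x with ht
      have ht2 : t ^ 2 = 1 := by rw [ht, mul_pow, inv_pow, ← map_pow, h2, inv_mul_cancel]
      have hax : a x = x * t := by rw [ht, mul_inv_cancel_left]
      have hit : ∀ j : ℕ, (a ^ j) x = x * t ^ j := by
        intro j
        induction j with
        | zero => simp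
        | succ j ihj =>
          rw [pow_succ', MulAut.mul_apply, ihj, map_mul, map_pow, hinv t ht2, hax, mul_assoc,
            pow_succ']
      obtain ⟨m, rfl⟩ := hn
      have h := hit (2 * m + 1)
      rw [ha, MulAut.one_apply, pow_succ, pow_mul, ht2, one_pow, one_mul, left_eq_mul] at h
      rw [hax, h, mul_one]
  ext x
  obtain ⟨k, hk⟩ := hA x
  rw [key k x hk]; rfl

/-- An odd order automorphism, nontrivial, of an abelian two-group with at most three involutions
permutes them transitively. -/
theorem aut_transitive_involutions (hA : IsPGroup 2 A) (h4 : Nat.card {t : A // t ^ 2 = 1} ≤ 4)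
    (a : MulAut A) {n : ℕ} (hn : Odd n) (ha : a ^ n = 1) (hne : a ≠ 1) {s t : A}
    (hs : orderOf s = 2) (ht : orderOf t = 2) : ∃ j : ℕ, (a ^ j) s = t := by
  classical
  have := Fintype.ofFinite A
  set S := Finset.univ.filter fun x : A => x ^ 2 = 1 with hS
  have hS4 : S.card ≤ 4 := by
    rwa [Nat.card_eq_fintype_card, Fintype.card_subtype] at h4
  have hsq : ∀ {x : A}, orderOf x = 2 → x ^ 2 = 1 ∧ x ≠ 1 := fun {x} h =>
    ⟨h ▸ pow_orderOf_eq_one x, fun h1 => by rw [h1, orderOf_one] at h; omega⟩
  obtain ⟨hs2, hs1⟩ := hsq hs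
  obtain ⟨ht2, ht1⟩ := hsq ht
  have hmem : ∀ x : A, x ∈ S ↔ x ^ 2 = 1 := fun x => by simp [hS]
  have ha2 : ∀ x : A, x ^ 2 = 1 → (a x) ^ 2 = 1 := fun x h => by rw [← map_pow, h, map_one]
  have ha1 : ∀ x : A, x ≠ 1 → a x ≠ 1 := fun x h h' => h ((map_eq_one_iff a a.injective).mp h')
  -- no involution is fixed
  have hfix : ∀ x : A, x ^ 2 = 1 → x ≠ 1 → a x ≠ x := by
    intro x hx hx1 hfx
    refine hne (aut_trivial_of_fix_involutions hA a hn ha fun y hy => ?_)
    by_contra hy'
    have hy1 : y ≠ 1 := fun h => hy' (by rw [h, map_one])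
    have hyx : y ≠ x := fun h => hy' (h ▸ hfx)
    have hay : a y ≠ x := fun h => hyx (a.injective (h.trans hfx.symm))
    have haay : a (a y) = y := by
      by_contra hyy
      have hsub : ({1, x, y, a y, a (a y)} : Finset A) ⊆ S := by
        intro z hz
        simp only [Finset.mem_insert, Finset.mem_singleton] at hz
        rw [hmem]
        rcases hz with rfl | rfl | rfl | rfl | rfl
        exacts [one_pow _, hx, hy, ha2 _ hy, ha2 _ (ha2 _ hy)]
      have h5 : ({1, x, y, a y, a (a y)} : Finset A).card = 5 := by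
        rw [Finset.card_insert_of_notMem, Finset.card_insert_of_notMem,
          Finset.card_insert_of_notMem, Finset.card_insert_of_notMem, Finset.card_singleton] <;>
        simp only [Finset.mem_insert, Finset.mem_singleton, not_or]
        · exact fun h => hy' (a.injective h).symm
        · exact ⟨fun h => hy' h.symm, fun h => hyy h.symm⟩
        · exact ⟨hyx.symm, fun h => hay h.symm, fun h => hay (a.injective (hfx.trans h)).symm⟩
        · exact ⟨hx1.symm, hy1.symm, fun h => ha1 _ hy1 h.symm, fun h => ha1 _ (ha1 _ hy1) h.symm⟩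
      have := Finset.card_le_card hsub
      omega
    obtain ⟨m, rfl⟩ := hn
    have hit : ∀ i : ℕ, ((a ^ (2 * i)) : MulAut A) y = y := by
      intro i
      induction i with
      | zero => simp
      | succ i ih => rw [Nat.mul_succ, pow_add, MulAut.mul_apply, pow_two, MulAut.mul_apply, haay, ih]
    refine hy' ?_
    calc a y = a ((a ^ (2 * m)) y) := by rw [hit]
      _ = (a ^ (2 * m + 1)) y := by rw [pow_succ', MulAut.mul_apply]
      _ = y := by rw [ha, MulAut.one_apply]
  -- three involutions in one orbit
  by_contra hno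
  push Not at hno
  have e0 := hno 0
  have e1 := hno 1
  have e2 := hno 2
  rw [pow_zero, MulAut.one_apply] at e0
  rw [pow_one] at e1
  rw [pow_two, MulAut.mul_apply] at e2
  have hf0 := hfix s hs2 hs1
  have hf1 := hfix _ (ha2 _ hs2) (ha1 _ hs1)
  have hss : a (a s) ≠ s := by
    intro h
    obtain ⟨m, rfl⟩ := hn
    have hit : ∀ i : ℕ, ((a ^ (2 * i)) : MulAut A) s = s := by
      intro i
      induction i with
      | zero => simp
      | succ i ih => rw [Nat.mul_succ, pow_add, MulAut.mul_apply, pow_two, MulAut.mul_apply, h, ih]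
    refine hf0 ?_
    calc a s = a ((a ^ (2 * m)) s) := by rw [hit]
      _ = (a ^ (2 * m + 1)) s := by rw [pow_succ', MulAut.mul_apply]
      _ = s := by rw [ha, MulAut.one_apply]
  have hsub : ({1, t, s, a s, a (a s)} : Finset A) ⊆ S := by
    intro z hz
    simp only [Finset.mem_insert, Finset.mem_singleton] at hz
    rw [hmem]
    rcases hz with rfl | rfl | rfl | rfl | rfl
    exacts [one_pow _, ht2, hs2, ha2 _ hs2, ha2 _ (ha2 _ hs2)]
  have h5 : ({1, t, s, a s, a (a s)} : Finset A).card = 5 := by
    rw [Finset.card_insert_of_notMem, Finset.card_insert_of_notMem,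
      Finset.card_insert_of_notMem, Finset.card_insert_of_notMem, Finset.card_singleton] <;>
    simp only [Finset.mem_insert, Finset.mem_singleton, not_or]
    · exact hf1.symm
    · exact ⟨hf0.symm, hss.symm⟩
    · exact ⟨Ne.symm e0, Ne.symm e1, Ne.symm e2⟩
    · exact ⟨Ne.symm ht1, Ne.symm hs1, fun h => ha1 _ hs1 h.symm,
        fun h => ha1 _ (ha1 _ hs1) h.symm⟩
  have := Finset.card_le_card hsub
  omega

end Cfsg.Agent.Char
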