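import Cfsg.Agent.Lib.Char.HomocyclicFusion
import Cfsg.Agent.Lib.Char.DihedralColumns
import Mathlib.Analysis.Fourier.FiniteAbelian.PontryaginDuality
import Mathlib.Analysis.Fourier.FiniteAbelian.Orthogonality

/-!
# The columns of the principal block for a homocyclic Sylow 2-subgroup of rank two
-/

set_option autoImplicit false
set_option linter.unusedSectionVars false
set_option linter.style.haveILetI false

namespace Cfsg.Agent.Char

open Cfsg
open scoped ComplexConjugate

universe u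

variable {G : Type u} [Group G] [Fintype G] {M : Ideal AlgInt}
variable {N : ℕ} [NeZero N] {P : Sylow 2 G} {ι : Multiplicative (HV N) →* G}
variable {φ : HV N ≃+ HV N}

theorem hv_card : Fintype.card (HV N) = N * N := by simp [HV]

theorem hv_sum (μ : AddChar (HV N) ℂ) [Decidable (μ = 0)] :
    ∑ x, μ x = if μ = 0 then ((N * N : ℕ) : ℂ) else 0 := by
  rw [AddChar.sum_eq_ite, hv_card]

theorem hv_conj (μ : AddChar (HV N) ℂ) (x : HV N) : conj (μ x) = μ (-x) := by
  rw [AddChar.map_neg_eq_inv]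
  exact (AddChar.inv_apply_eq_conj μ x).symm

/-- The twisted character. -/
noncomputable abbrev hTw (φ : HV N ≃+ HV N) (μ : AddChar (HV N) ℂ) : AddChar (HV N) ℂ :=
  μ.compAddMonoidHom φ.toAddMonoidHom

theorem hTw_apply (μ : AddChar (HV N) ℂ) (x : HV N) : hTw φ μ x = μ (φ x) := rfl

/-- The multiplicity of a linear character minus that of the trivial one. -/
noncomputable def homV (ι : Multiplicative (HV N) →* G) (μ : AddChar (HV N) ℂ)
    (χ : IrrCharacter G) : ℤ :=
  ⌊(((N * N : ℕ) : ℂ)⁻¹ * ∑ x : HV N, (μ (-x) - 1) * (χ : G → ℂ) (hev ι x)).re⌋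

theorem hv_ne_zero : ((N * N : ℕ) : ℂ) ≠ 0 :=
  Nat.cast_ne_zero.2 (Nat.mul_ne_zero (NeZero.ne N) (NeZero.ne N))

theorem homV_spec (μ : AddChar (HV N) ℂ) (χ : IrrCharacter G) :
    ((N * N : ℕ) : ℂ) * (homV ι μ χ : ℂ) =
      ∑ x : HV N, (μ (-x) - 1) * (χ : G → ℂ) (hev ι x) := by
  classical
  have hmult : ∀ ν : AddChar (HV N) ℂ, ∃ n : ℕ,
      ∑ x : HV N, ν (-x) * (χ : G → ℂ) (hev ι x) = ((N * N : ℕ) : ℂ) * n := by
    intro ν
    obtain ⟨n, hn⟩ := classInner_natCast (isCharacter_comp ι (irr_isCharacter χ.2))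
      (isCharacter_linear ν.toMonoidHom.toHomUnits)
    refine ⟨n, ?_⟩
    rw [← hn, classInner, Nat.card_congr Multiplicative.toAdd, Nat.card_eq_fintype_card, hv_card,
      mul_inv_cancel_left₀ hv_ne_zero]
    refine Fintype.sum_equiv Multiplicative.ofAdd _ _ fun x => ?_
    simp [hv_conj, mul_comm]
  obtain ⟨a, ha⟩ := hmult μ
  obtain ⟨b, hb⟩ := hmult 0
  have key : ∑ x : HV N, (μ (-x) - 1) * (χ : G → ℂ) (hev ι x) =
      ((N * N : ℕ) : ℂ) * (((a : ℤ) - b : ℤ) : ℂ) := by
    simp only [sub_mul, Finset.sum_sub_distrib]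
    rw [ha]
    simp only [AddChar.zero_apply, one_mul] at hb
    simp only [one_mul, hb]
    push_cast; ring
  rw [homV, key, ← mul_assoc, inv_mul_cancel₀ hv_ne_zero, one_mul, Complex.intCast_re,
    Int.floor_intCast]

theorem homV_spec' (μ : AddChar (HV N) ℂ) (χ : IrrCharacter G) :
    ((N * N : ℕ) : ℂ) * (homV ι μ χ : ℂ) =
      ∑ x : HV N, (μ x - 1) * conj ((χ : G → ℂ) (hev ι x)) := by
  have h := congrArg conj (homV_spec (ι := ι) μ χ)
  simpa [hv_conj] using h

theorem homV_zero (χ : IrrCharacter G) : homV ι 0 χ = 0 := by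
  have h : ((N * N : ℕ) : ℂ) * (homV ι 0 χ : ℂ) = 0 := by rw [homV_spec]; simp
  exact_mod_cast (mul_eq_zero.1 h).resolve_left hv_ne_zero

theorem homV_irrOne {μ : AddChar (HV N) ℂ} (hμ : μ ≠ 0) :
    homV ι μ (irrOne : IrrCharacter G) = -1 := by
  classical
  have h : ((N * N : ℕ) : ℂ) * (homV ι μ (irrOne : IrrCharacter G) : ℂ) =
      ((N * N : ℕ) : ℂ) * ((-1 : ℤ) : ℂ) := by
    rw [homV_spec']
    simp only [irrOne_apply, map_one, mul_one, Finset.sum_sub_distrib, hv_sum, if_neg hμ,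
      Finset.sum_const, Finset.card_univ, hv_card, nsmul_one]
    push_cast; ring
  exact_mod_cast mul_left_cancel₀ hv_ne_zero h

/-- The values from the multiplicities. -/
theorem homV_value (χ : IrrCharacter G) {x : HV N} (hx : x ≠ 0) :
    (χ : G → ℂ) (hev ι x) = ∑ μ : AddChar (HV N) ℂ, μ x * (homV ι μ χ : ℂ) := by
  classical
  refine mul_left_cancel₀ (hv_ne_zero (N := N)) ?_
  rw [Finset.mul_sum, Finset.sum_congr rfl fun (μ : AddChar (HV N) ℂ) _ => show
      ((N * N : ℕ) : ℂ) * (μ x * (homV ι μ χ : ℂ)) =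
        ∑ y : HV N, (μ (x + -y) - μ x) * (χ : G → ℂ) (hev ι y) by
    rw [mul_left_comm, homV_spec, Finset.mul_sum]
    refine Finset.sum_congr rfl fun y _ => ?_
    rw [AddChar.map_add_eq_mul]
    ring, Finset.sum_comm]
  rw [Finset.sum_congr rfl fun (y : HV N) _ => show
      ∑ μ : AddChar (HV N) ℂ, (μ (x + -y) - μ x) * (χ : G → ℂ) (hev ι y) =
        (if y = x then ((N * N : ℕ) : ℂ) * (χ : G → ℂ) (hev ι y) else 0) by
    rw [← Finset.sum_mul, Finset.sum_sub_distrib, AddChar.sum_apply_eq_ite,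
      AddChar.sum_apply_eq_ite, if_neg hx, sub_zero, hv_card]
    by_cases hy : y = x
    · subst hy; simp
    · rw [if_neg hy, if_neg (by rw [← sub_eq_add_neg]; exact sub_ne_zero.2 (Ne.symm hy)), zero_mul],
    Finset.sum_ite_eq', if_pos (Finset.mem_univ _)]

theorem HomoData.value_phi (h : HomoData P ι φ) (χ : IrrCharacter G) (x : HV N) :
    (χ : G → ℂ) (hev ι (φ x)) = (χ : G → ℂ) (hev ι x) := by
  obtain ⟨n, hn⟩ := h.act
  rw [← hn, isClassFunction_character (irr_isCharacter χ.2)]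

theorem HomoData.homV_tw (h : HomoData P ι φ) (μ : AddChar (HV N) ℂ) (χ : IrrCharacter G) :
    homV ι (hTw φ μ) χ = homV ι μ χ := by
  have e : ((N * N : ℕ) : ℂ) * (homV ι (hTw φ μ) χ : ℂ) = ((N * N : ℕ) : ℂ) * (homV ι μ χ : ℂ) := by
    rw [homV_spec, homV_spec]
    refine Fintype.sum_equiv φ.toEquiv _ _ fun x => ?_
    simp [hTw_apply, h.value_phi, map_neg]
  exact_mod_cast mul_left_cancel₀ hv_ne_zero e

theorem HomoData.ppart_self (h : HomoData P ι φ) (x : HV N) :
    IsPPart 2 (hev ι x) (hev ι x) :=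
  ⟨1, mul_one _, Commute.one_right _, h.ppower x, by simp⟩

theorem HomoData.orbit_ne (h : HomoData P ι φ) {x : HV N} (hx : x ≠ 0) :
    φ x ≠ x ∧ φ (φ x) ≠ x ∧ φ (φ x) ≠ φ x := by
  refine ⟨fun e => hx (h.free x e), fun e => hx (h.free x ?_), fun e => ?_⟩
  · nth_rewrite 1 [← e]
    exact h.cube x
  · exact hx (h.free x (φ.injective e))

theorem HomoData.sum_col (h : HomoData P ι φ) (hM : IsPModular 2 M) {x : HV N} (hx : x ≠ 0)
    (F : HV N → ℂ) :
    ∑ y, F y * ∑ χ ∈ dihB0 M G, conj ((χ : G → ℂ) (hev ι x)) * (χ : G → ℂ) (hev ι y) =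
      ((N * N : ℕ) : ℂ) * (F x + F (φ x) + F (φ (φ x))) := by
  classical
  obtain ⟨h1, h2, h3⟩ := h.orbit_ne hx
  have hself : ∑ χ ∈ dihB0 M G, conj ((χ : G → ℂ) (hev ι x)) * (χ : G → ℂ) (hev ι x) =
      ((N * N : ℕ) : ℂ) := by
    rw [dihB0, (nilp_section hM (h.ppower _) (h.cent hx).1).2, (h.cent hx).2]
  have hzero : ∀ y, y ∉ ({x, φ x, φ (φ x)} : Finset (HV N)) →
      F y * ∑ χ ∈ dihB0 M G, conj ((χ : G → ℂ) (hev ι x)) * (χ : G → ℂ) (hev ι y) = 0 := by
    intro y hy
    refine mul_eq_zero_of_right _ ?_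
    refine sum_block_column_orth hM (isPBlock_principalBlock (G := G) M) (h.ppart_self _)
      (h.ppart_self _) fun hc => hy ?_
    -- the arguments come in either order
    rcases h.conj_cases hc with e | e | e
    · simp [e]
    · have : y = φ (φ x) := by rw [e, h.cube]
      simp [this]
    · have : y = φ x := by rw [e, h.cube]
      simp [this]
  rw [← Finset.sum_subset (Finset.subset_univ _) fun y _ hy => hzero y hy,
    Finset.sum_insert (by simp [h1.symm, h2.symm]), Finset.sum_pair h3.symm]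
  simp only [h.value_phi, hself]
  ring

theorem HomoData.gram (h : HomoData P ι φ) (hM : IsPModular 2 M) {a b : AddChar (HV N) ℂ}
    (ha : a ≠ 0) (hb : b ≠ 0) [DecidableEq (AddChar (HV N) ℂ)] :
    ∑ χ ∈ dihB0 M G, homV ι a χ * homV ι b χ =
      (if a = b then 1 else 0) + (if a = hTw φ b then 1 else 0) +
        (if a = hTw φ (hTw φ b) then 1 else 0) + 3 := by
  classical
  have hK := hv_ne_zero (N := N)
  set K : ℂ := ((N * N : ℕ) : ℂ) with hKdef
  have hS : ∀ c : AddChar (HV N) ℂ, ∑ x : HV N, a x * c (-x) = if a = c then K else 0 := by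
    intro c
    rw [Finset.sum_congr rfl fun x _ => (AddChar.sub_apply a c x).symm, hv_sum]
    exact if_congr sub_eq_zero rfl rfl
  have hN : ∀ c : AddChar (HV N) ℂ, c ≠ 0 → ∑ x : HV N, c (-x) = 0 := fun c hc => by
    rw [Finset.sum_congr rfl fun x _ => (AddChar.neg_apply c x).symm, hv_sum,
      if_neg (neg_ne_zero.2 hc)]
  have htw : ∀ c : AddChar (HV N) ℂ, c ≠ 0 → hTw φ c ≠ 0 := fun c hc e => hc <|
    AddChar.eq_zero_iff.2 fun x => by
      have := AddChar.eq_zero_iff.1 e (φ.symm x)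
      rwa [hTw_apply, AddEquiv.apply_symm_apply] at this
  have key : ∑ χ ∈ dihB0 M G, (K * (homV ι a χ : ℂ)) * (K * (homV ι b χ : ℂ)) =
      K * (K * ((if a = b then 1 else 0) + (if a = hTw φ b then 1 else 0) +
        (if a = hTw φ (hTw φ b) then 1 else 0) + 3)) := by
    calc ∑ χ ∈ dihB0 M G, (K * (homV ι a χ : ℂ)) * (K * (homV ι b χ : ℂ))
        = ∑ x : HV N, (a x - 1) * ∑ y : HV N, (b (-y) - 1) *
            ∑ χ ∈ dihB0 M G, conj ((χ : G → ℂ) (hev ι x)) * (χ : G → ℂ) (hev ι y) := by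
          rw [Finset.sum_congr rfl fun χ _ => by
            rw [hKdef, homV_spec' a χ, homV_spec b χ, Finset.sum_mul_sum], Finset.sum_comm]
          refine Finset.sum_congr rfl fun x _ => ?_
          rw [Finset.sum_comm, Finset.mul_sum]
          refine Finset.sum_congr rfl fun y _ => ?_
          rw [Finset.mul_sum, Finset.mul_sum]
          exact Finset.sum_congr rfl fun χ _ => by ring
      _ = ∑ x : HV N, K * ((a x * b (-x) + a x * hTw φ b (-x) +
            a x * hTw φ (hTw φ b) (-x)) - 3 * a x - b (-x) - hTw φ b (-x) -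
            hTw φ (hTw φ b) (-x) + 3) := by
          refine Finset.sum_congr rfl fun x _ => ?_
          by_cases hx : x = 0
          · subst hx
            simp only [neg_zero, AddChar.map_zero_eq_one, sub_self, mul_one]
            ring
          rw [h.sum_col hM hx]
          simp only [hTw_apply, map_neg, ← hKdef]
          ring
      _ = _ := by
          rw [← Finset.mul_sum]
          simp only [Finset.sum_add_distrib, Finset.sum_sub_distrib, hS, hN b hb, hN _ (htw _ hb),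
            hN _ (htw _ (htw _ hb)), ← Finset.mul_sum, hv_sum, if_neg ha, Finset.sum_const,
            Finset.card_univ, hv_card, nsmul_eq_mul, ← hKdef]
          split_ifs <;> ring
  have key2 : ((∑ χ ∈ dihB0 M G, homV ι a χ * homV ι b χ : ℤ) : ℂ) =
      (((if a = b then 1 else 0) + (if a = hTw φ b then 1 else 0) +
        (if a = hTw φ (hTw φ b) then 1 else 0) + 3 : ℤ) : ℂ) := by
    refine mul_left_cancel₀ hK (mul_left_cancel₀ hK ?_)
    push_cast
    rw [← key, Finset.mul_sum, Finset.mul_sum]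
    exact Finset.sum_congr rfl fun χ _ => by ring
  exact_mod_cast key2

theorem HomoData.regular_rel (h : HomoData P ι φ) (hM : IsPModular 2 M) (a : AddChar (HV N) ℂ)
    {ρ : G} (hρ : ¬ 2 ∣ orderOf ρ) :
    ∑ χ ∈ dihB0 M G, (homV ι a χ : ℂ) * (χ : G → ℂ) ρ = 0 := by
  classical
  refine mul_left_cancel₀ (hv_ne_zero (N := N)) ?_
  rw [Finset.mul_sum, mul_zero, Finset.sum_congr rfl fun χ _ => by
    rw [← mul_assoc, homV_spec' a χ, Finset.sum_mul], Finset.sum_comm]
  refine Finset.sum_eq_zero fun x _ => ?_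
  by_cases hx : x = 0
  · subst hx; simp
  rw [Finset.sum_congr rfl fun (χ : IrrCharacter G) _ => mul_assoc _ _ ((χ : G → ℂ) ρ),
    ← Finset.mul_sum]
  refine mul_eq_zero_of_right _ ?_
  refine sum_block_column_orth hM (isPBlock_principalBlock (G := G) M) (isPPart_regular hρ)
    (h.ppart_self _) fun hc => hx (h.eq_one_iff.1 ?_)
  exact isConj_one_right.1 hc

end Cfsg.Agent.Char
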