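import Cfsg.Agent.Lib.Char.HomocyclicFusion
import Cfsg.Agent.Lib.Char.KleinFourBlock
import Cfsg.Agent.Lib.Char.StarCount

/-!
# Blocks with a homocyclic defect group of rank two
-/

set_option autoImplicit false
set_option linter.unusedSectionVars false
set_option linter.style.haveILetI false

namespace Cfsg.Agent.Char

open Cfsg

universe u

variable {N : ℕ} [NeZero N]

/-- A group of automorphisms of odd order has order one or three and acts freely. -/
theorem homocyclic_aut (hN4 : 4 ∣ N) (hNk : ∃ k, N = 2 ^ k)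
    (H : Subgroup (MulAut (Multiplicative (HV N)))) (hodd : ¬ 2 ∣ Nat.card H) :
    (Nat.card H = 1 ∨ Nat.card H = 3) ∧ ∀ a ∈ H, a ≠ 1 → ∀ w, a w = w → w = 1 := by
  classical
  have hA : IsPGroup 2 (Multiplicative (HV N)) := by
    obtain ⟨k, hk⟩ := hNk
    refine IsPGroup.of_card (n := k + k) ?_
    rw [Nat.card_congr Multiplicative.toAdd, Nat.card_prod, Nat.card_zmod, hk, pow_add]
  have hpowc : ∀ a ∈ H, a ^ Nat.card H = 1 := fun a ha => by
    have := pow_card_eq_one' (x := (⟨a, ha⟩ : H))
    rw [← Subgroup.coe_one, ← this, Subgroup.coe_pow]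
  have hco : Odd (Nat.card H) := Nat.odd_iff.2 (by omega)
  set T := {t : Multiplicative (HV N) // t ^ 2 = 1}
  have hmemT : ∀ (a : H) (t : T), ((a : MulAut _) t.1) ^ 2 = 1 := fun a t => by
    rw [← map_pow, t.2, map_one]
  let toP : H →* Equiv.Perm T :=
    { toFun := fun a =>
        { toFun := fun t => ⟨(a : MulAut _) t.1, hmemT a t⟩
          invFun := fun t => ⟨((a⁻¹ : H) : MulAut _) t.1, hmemT _ t⟩
          left_inv := fun t => Subtype.ext (by
            show ((a⁻¹ : H) : MulAut _) ((a : MulAut _) t.1) = t.1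
            rw [← MulAut.mul_apply, ← Subgroup.coe_mul, inv_mul_cancel, OneMemClass.coe_one,
              MulAut.one_apply])
          right_inv := fun t => Subtype.ext (by
            show (a : MulAut _) (((a⁻¹ : H) : MulAut _) t.1) = t.1
            rw [← MulAut.mul_apply, ← Subgroup.coe_mul, mul_inv_cancel, OneMemClass.coe_one,
              MulAut.one_apply]) }
      map_one' := Equiv.ext fun t => rfl
      map_mul' := fun a b => Equiv.ext fun t => rfl }
  have htoP : Function.Injective toP := by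
    refine (injective_iff_map_eq_one toP).2 fun a ha => Subtype.ext ?_
    refine aut_trivial_of_fix_involutions hA a.1 hco (hpowc _ a.2) fun t ht => ?_
    exact congrArg Subtype.val (Equiv.ext_iff.1 ha ⟨t, ht⟩)
  have h3 : Nat.card H ∣ 3 := by
    have h1 : Nat.card H ∣ Nat.factorial 4 :=
      (Subgroup.card_dvd_of_injective toP htoP).trans
        (by rw [Nat.card_perm]; exact Nat.factorial_dvd_factorial (card_involutions_le hN4))
    rw [show Nat.factorial 4 = 8 * 3 from rfl] at h1
    refine Nat.Coprime.dvd_of_dvd_mul_left ?_ h1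
    rw [show (8 : ℕ) = 2 ^ 3 from rfl]
    exact (Nat.coprime_comm.1 (Nat.prime_two.coprime_iff_not_dvd.2 hodd)).pow_right 3
  refine ⟨(Nat.dvd_prime Nat.prime_three).1 h3, fun a ha ha1 w hw => ?_⟩
  by_contra hw1
  have hao : a ^ Nat.card H = 1 := hpowc a ha
  obtain ⟨k, hk⟩ := IsPGroup.iff_orderOf.mp hA w
  obtain ⟨j, rfl⟩ : ∃ j, k = j + 1 := by
    rcases k with _ | j
    · exact absurd (orderOf_eq_one_iff.1 (by rw [hk, pow_zero])) hw1
    · exact ⟨j, rfl⟩
  set s := w ^ 2 ^ j with hs
  have hso : orderOf s = 2 := by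
    rw [hs, orderOf_pow' _ (pow_ne_zero _ two_ne_zero), hk, Nat.gcd_eq_right
      (pow_dvd_pow 2 (Nat.le_succ j)), pow_succ, Nat.mul_div_cancel_left _ (pow_pos two_pos j)]
  have hfs : a s = s := by rw [hs, map_pow, hw]
  have hne : (((N / 2 : ℕ) : ZMod N)) ≠ 0 :=
    Fusion.DihedralFours.half_ne_zero ((dvd_mul_right 2 2).trans hN4)
  have hinv : ∀ x : HV N, x + x = 0 → x ≠ 0 → orderOf (Multiplicative.ofAdd x) = 2 :=
    fun x h1 h2 => orderOf_eq_prime (by rw [pow_two, ← ofAdd_add, h1]; rfl) (by simpa using h2)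
  have hhh : ((N / 2 : ℕ) : ZMod N) + ((N / 2 : ℕ) : ZMod N) = 0 := by
    rw [← Nat.cast_add, ← two_mul, Nat.mul_div_cancel' ((dvd_mul_right 2 2).trans hN4),
      ZMod.natCast_self]
  have hall : ∀ t, orderOf t = 2 → t = s := fun t ht => by
    obtain ⟨i, hi⟩ := aut_transitive_involutions hA (card_involutions_le hN4) a
      (n := Nat.card H) hco hao ha1 hso ht
    rw [← hi]
    induction i generalizing t with
    | zero => simp
    | succ i ih =>
      rw [pow_succ, MulAut.mul_apply, hfs]
      exact ih _ (by rw [show ((a ^ i) s) = (a ^ i).toMonoidHom s from rfl,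
        orderOf_injective _ (a ^ i).injective]; exact hso) rfl
  have h1 := hall _ (hinv (((N / 2 : ℕ) : ZMod N), 0) (Prod.ext hhh (add_zero _))
    fun e => hne (congrArg Prod.fst e))
  have h2 := hall _ (hinv ((0 : ZMod N), ((N / 2 : ℕ) : ZMod N)) (Prod.ext (add_zero _) hhh)
    fun e => hne (congrArg Prod.snd e))
  exact hne (congrArg Prod.fst (Multiplicative.ofAdd.injective (h1.trans h2.symm)))

variable {G : Type u} [Group G] [Fintype G] {M : Ideal AlgInt}

/-- The invariants of such a block. -/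
theorem homocyclic_defect_counts (hM : IsPModular 2 M) {B : Set (IrrCharacter G)} {D : Subgroup G}
    {c : Set (IrrCharacter (Subgroup.centralizer (D : Set G)))}
    (hmax : IsMaximalBrauerPair 2 M B D c) (hN4 : 4 ∣ N) (hNk : ∃ k, N = 2 ^ k)
    (iso : D ≃* Multiplicative (HV N)) :
    ∃ e : ℕ, (e = 1 ∨ e = 3) ∧ blockRank 2 B = e ∧ Nat.card B = e + (N * N - 1) / e ∧
      e ∣ N * N - 1 := by
  classical
  haveI : Fact (Nat.Prime 2) := ⟨Nat.prime_two⟩
  have hab : ∀ x ∈ D, ∀ y ∈ D, x * y = y * x := fun x hx y hy =>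
    congrArg Subtype.val (show (⟨x, hx⟩ : D) * ⟨y, hy⟩ = ⟨y, hy⟩ * ⟨x, hx⟩ from
      iso.injective (by rw [map_mul, map_mul, mul_comm]))
  set T := pairStab (pmod_prime hM) hmax.1.1.2 with hT
  have hTN : T ≤ Subgroup.normalizer (D : Set G) := fun t ht =>
    ((mem_pairStab (pmod_prime hM) hmax.1.1.2).mp ht).1
  set hom := D.normalizerMonoidHom with hhom
  set E : Subgroup (MulAut D) := (T.subgroupOf (Subgroup.normalizer (D : Set G))).map hom with hE
  have hcardE : Nat.card E = (Subgroup.centralizer (D : Set G)).relIndex T := by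
    rw [hE, ← Subgroup.relIndex_ker, hhom, Subgroup.normalizerMonoidHom_ker,
      Subgroup.relIndex_subgroupOf hTN]
  have hodd : ¬ 2 ∣ Nat.card E := by
    intro h2
    have h0 := KleinBlock.inertial_prime hM hmax hab
    rw [← hT, ← hcardE] at h0
    have := (Nat.prime_two.dvd_iff_one_le_factorization (Nat.card_pos (α := E)).ne').mp h2
    omega
  set E' := E.map (MulAut.congr iso).toMonoidHom with hE'
  have hcardE' : Nat.card E' = Nat.card E :=
    Subgroup.card_map_of_injective (MulAut.congr iso).injective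
  obtain ⟨h13, hfreeE⟩ := homocyclic_aut hN4 hNk E' (hcardE'.symm ▸ hodd)
  have hfree : ∀ t ∈ T, ∀ x ∈ D, x ≠ 1 → t * x * t⁻¹ = x →
      t ∈ Subgroup.centralizer (D : Set G) := by
    intro t ht x hx hx1 hfix
    have hker : hom ⟨t, hTN ht⟩ = 1 := by
      by_contra hne
      have hmem : MulAut.congr iso (hom ⟨t, hTN ht⟩) ∈ E' :=
        Subgroup.mem_map_of_mem _ ⟨⟨t, hTN ht⟩, ht, rfl⟩
      have h1 := hfreeE _ hmem (fun h => hne ((MulAut.congr iso).injective (h.trans (map_one _).symm)))
        (iso ⟨x, hx⟩) (by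
          show iso ((hom ⟨t, hTN ht⟩) (iso.symm (iso ⟨x, hx⟩))) = iso ⟨x, hx⟩
          rw [iso.symm_apply_apply]
          exact congrArg iso (Subtype.ext hfix))
      exact hx1 (congrArg Subtype.val (iso.injective (h1.trans (map_one iso).symm)))
    rw [← MonoidHom.mem_ker, hhom, Subgroup.normalizerMonoidHom_ker] at hker
    exact hker
  have hcardD : Nat.card D = N * N := by
    rw [Nat.card_congr iso.toEquiv, Nat.card_congr Multiplicative.toAdd, Nat.card_prod, Nat.card_zmod]
  have hN : 4 ≤ N := Nat.le_of_dvd (NeZero.pos N) hN4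
  have hD : D ≠ ⊥ := fun h => by
    rw [h, Subgroup.card_bot] at hcardD
    nlinarith
  obtain ⟨-, -, hiff, hsmall⟩ := StarCount.counts hM hmax hab hfree hD (Nat.card E) hcardE.symm
  obtain ⟨j, hj, -⟩ := StarCount.card_eq_rank_add hM hmax hab hfree hD
  rw [← hT, ← hcardE, hcardD] at hj
  rw [hcardE'] at h13
  rw [hcardD] at hiff hsmall
  have hl : blockRank 2 B = Nat.card E := by
    rcases hsmall (by omega) with h | ⟨-, h13', -⟩
    · exact h
    · exfalso
      obtain ⟨q, hq⟩ := hN4
      rw [hq] at h13'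
      nlinarith
  exact ⟨Nat.card E, h13, hl, hiff.mpr hl, ⟨j, hj.symm⟩⟩

end Cfsg.Agent.Char
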