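import Cfsg.Agent.Lib.Char.DihedralSection
import Cfsg.Agent.Lib.Char.Homocyclic
import Cfsg.Agent.Lib.Fusion.BurnsideFusion

/-!
# Fusion for homocyclic Sylow 2-subgroups of rank two
-/

set_option autoImplicit false
set_option linter.unusedSectionVars false
set_option linter.style.haveILetI false

namespace Cfsg.Agent.Char

open Cfsg
open Cfsg.Agent.Fusion (SylIn sylIn_top)

universe u

/-- The homocyclic group of rank two. -/
abbrev HV (N : ℕ) := ZMod N × ZMod N

variable {G : Type u} [Group G] [Finite G] {N : ℕ} [NeZero N]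

/-- The element attached to a vector. -/
abbrev hev (ι : Multiplicative (HV N) →* G) (x : HV N) : G := ι (Multiplicative.ofAdd x)

/-- A homocyclic Sylow 2-subgroup with a fixed point free automorphism of order three
controlling fusion. -/
structure HomoData (P : Sylow 2 G) (ι : Multiplicative (HV N) →* G) (φ : HV N ≃+ HV N) : Prop where
  four : 4 ∣ N
  pow : ∃ k, N = 2 ^ k
  inj : Function.Injective ι
  range : ι.range = (P : Subgroup G)
  cube : ∀ x, φ (φ (φ x)) = x
  free : ∀ x, φ x = x → x = 0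
  act : ∃ n : G, ∀ x, n * hev ι x * n⁻¹ = hev ι (φ x)
  norm : ∀ g ∈ Subgroup.normalizer ((P : Subgroup G) : Set G),
    (∀ x, g * hev ι x * g⁻¹ = hev ι x) ∨ (∀ x, g * hev ι x * g⁻¹ = hev ι (φ x)) ∨
      (∀ x, g * hev ι x * g⁻¹ = hev ι (φ (φ x)))

theorem card_involutions_le (hN : 4 ∣ N) :
    Nat.card {t : Multiplicative (HV N) // t ^ 2 = 1} ≤ 4 := by
  classical
  set h : ZMod N := ((N / 2 : ℕ) : ZMod N)
  have hle : ∀ t : {t : Multiplicative (HV N) // t ^ 2 = 1},
      t.1 ∈ ({Multiplicative.ofAdd (0, 0), Multiplicative.ofAdd (0, h), Multiplicative.ofAdd (h, 0),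
        Multiplicative.ofAdd (h, h)} : Finset (Multiplicative (HV N))) := by
    rintro ⟨t, ht⟩
    have e : Multiplicative.toAdd t + Multiplicative.toAdd t = 0 := by
      rw [← toAdd_mul, ← pow_two, ht, toAdd_one]
    rcases Fusion.zmod_double_eq_zero (congrArg Prod.fst e) with e1 | e1 <;>
      rcases Fusion.zmod_double_eq_zero (congrArg Prod.snd e) with e2 | e2
    all_goals
      show t ∈ _
      rw [show t = Multiplicative.ofAdd ((Multiplicative.toAdd t).1, (Multiplicative.toAdd t).2) from rfl,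
        e1, e2]
      simp [h]
  refine (Nat.card_le_card_of_injective (fun t => (⟨t.1, hle t⟩ : {x // x ∈ _}))
    fun a b e => Subtype.ext (congrArg Subtype.val e :)).trans ?_
  rw [Nat.card_eq_finsetCard]
  exact Finset.card_le_four

/-- The action of the normalizer on the Sylow subgroup. -/
theorem exists_normalizer_act (P : Sylow 2 G) (ι : Multiplicative (HV N) →* G)
    (hinj : Function.Injective ι) (hrange : ι.range = (P : Subgroup G)) :
    ∃ ρ : Subgroup.normalizer ((P : Subgroup G) : Set G) →* MulAut (Multiplicative (HV N)),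
      ∀ n w, ι (ρ n w) = (n : G) * ι w * (n : G)⁻¹ := by
  have hex : ∀ (n : Subgroup.normalizer ((P : Subgroup G) : Set G)) (w : Multiplicative (HV N)),
      ∃ w', ι w' = (n : G) * ι w * (n : G)⁻¹ := fun n w => by
    have h := (Subgroup.mem_normalizer_iff.1 n.2 (ι w)).1 (hrange ▸ ⟨w, rfl⟩)
    exact hrange.ge h
  choose f hf using hex
  have hf1 : ∀ w, f 1 w = w := fun w => hinj (by rw [hf]; simp)
  have hfm : ∀ m n w, f (m * n) w = f m (f n w) := fun m n w => hinj (by
    rw [hf, hf, hf, Subgroup.coe_mul]; group)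
  exact ⟨{
    toFun := fun n =>
      { toFun := f n
        invFun := f n⁻¹
        left_inv := fun w => by rw [← hfm, inv_mul_cancel, hf1]
        right_inv := fun w => by rw [← hfm, mul_inv_cancel, hf1]
        map_mul' := fun a b => hinj (by rw [map_mul, hf, hf, hf, map_mul]; group) }
    map_one' := MulEquiv.ext hf1
    map_mul' := fun m n => MulEquiv.ext (hfm m n) }, hf⟩

/-- Either the Sylow subgroup has a normal complement or fusion is given by an automorphism of
order three. -/
theorem homocyclic_data (P : Sylow 2 G) (ι : Multiplicative (HV N) →* G) (hN4 : 4 ∣ N)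
    (hNk : ∃ k, N = 2 ^ k) (hinj : Function.Injective ι) (hrange : ι.range = (P : Subgroup G)) :
    HasNormalPComplement 2 G ∨ ∃ φ, HomoData P ι φ := by
  classical
  haveI : Fact (Nat.Prime 2) := ⟨Nat.prime_two⟩
  obtain ⟨ρ, hρ⟩ := exists_normalizer_act P ι hinj hrange
  have hPN : (P : Subgroup G) ≤ Subgroup.normalizer ((P : Subgroup G) : Set G) := Subgroup.le_normalizer
  have hker : (P : Subgroup G).subgroupOf (Subgroup.normalizer ((P : Subgroup G) : Set G)) ≤ ρ.ker := by
    intro p hp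
    obtain ⟨d, hd⟩ := hrange.ge (Subgroup.mem_subgroupOf.1 hp)
    refine MonoidHom.mem_ker.2 (MulEquiv.ext fun w => hinj ?_)
    rw [hρ, ← hd, MulAut.one_apply, ← map_inv, ← map_mul, ← map_mul, mul_comm d w,
      mul_inv_cancel_right]
  have hdvd : Nat.card ρ.range ∣ ((P : Subgroup G).subgroupOf (Subgroup.normalizer ((P : Subgroup G) : Set G))).index := by
    rw [← Subgroup.index_ker]; exact Subgroup.index_dvd_of_le hker
  have hodd : ¬ 2 ∣ Nat.card ρ.range := fun h2 =>
    ((sylIn_top P).mono hPN le_top).not_dvd (h2.trans hdvd)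
  have hA : IsPGroup 2 (Multiplicative (HV N)) := by
    obtain ⟨k, hk⟩ := hNk
    refine IsPGroup.of_card (n := k + k) ?_
    rw [Nat.card_congr Multiplicative.toAdd, Nat.card_prod, Nat.card_zmod, hk, pow_add]
  have hpowc : ∀ a ∈ ρ.range, a ^ Nat.card ρ.range = 1 := fun a ha => by
    have := pow_card_eq_one' (x := (⟨a, ha⟩ : ρ.range))
    simpa using congrArg Subtype.val this
  have hco : Odd (Nat.card ρ.range) := Nat.odd_iff.2 (by omega)
  -- at most three automorphisms
  set T := {t : Multiplicative (HV N) // t ^ 2 = 1}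
  have hmemT : ∀ (a : ρ.range) (t : T), ((a : MulAut _) t.1) ^ 2 = 1 := fun a t => by
    rw [← map_pow, t.2, map_one]
  let toP : ρ.range →* Equiv.Perm T :=
    { toFun := fun a =>
        { toFun := fun t => ⟨(a : MulAut _) t.1, hmemT a t⟩
          invFun := fun t => ⟨((a⁻¹ : ρ.range) : MulAut _) t.1, hmemT _ t⟩
          left_inv := fun t => Subtype.ext (by
            show ((a⁻¹ : ρ.range) : MulAut _) ((a : MulAut _) t.1) = t.1
            rw [← MulAut.mul_apply, ← Subgroup.coe_mul, inv_mul_cancel, OneMemClass.coe_one,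
              MulAut.one_apply])
          right_inv := fun t => Subtype.ext (by
            show (a : MulAut _) (((a⁻¹ : ρ.range) : MulAut _) t.1) = t.1
            rw [← MulAut.mul_apply, ← Subgroup.coe_mul, mul_inv_cancel, OneMemClass.coe_one,
              MulAut.one_apply]) }
      map_one' := Equiv.ext fun t => rfl
      map_mul' := fun a b => Equiv.ext fun t => rfl }
  have htoP : Function.Injective toP := by
    refine (injective_iff_map_eq_one toP).2 fun a ha => Subtype.ext ?_
    refine aut_trivial_of_fix_involutions hA a.1 hco (hpowc _ a.2) fun t ht => ?_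
    exact congrArg Subtype.val (Equiv.ext_iff.1 ha ⟨t, ht⟩)
  have h3 : Nat.card ρ.range ∣ 3 := by
    have h1 : Nat.card ρ.range ∣ Nat.factorial 4 :=
      (Subgroup.card_dvd_of_injective toP htoP).trans
        (by rw [Nat.card_perm]; exact Nat.factorial_dvd_factorial (card_involutions_le hN4))
    rw [show Nat.factorial 4 = 8 * 3 from rfl] at h1
    refine Nat.Coprime.dvd_of_dvd_mul_left ?_ h1
    rw [show (8 : ℕ) = 2 ^ 3 from rfl]
    exact (Nat.coprime_comm.1 (Nat.prime_two.coprime_iff_not_dvd.2 hodd)).pow_right 3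
  rcases (Nat.dvd_prime Nat.prime_three).1 h3 with hc | hc
  · refine Or.inl (Fusion.hnpc_of_normalizer_le_centralizer P fun g hg => ?_)
    refine Subgroup.mem_centralizer_iff.2 fun p hp => ?_
    obtain ⟨w, rfl⟩ : p ∈ ι.range := hrange ▸ hp
    have h1 : ρ ⟨g, hg⟩ = 1 := Subgroup.mem_bot.1
      (Subgroup.eq_bot_of_card_eq _ hc ▸ ⟨_, rfl⟩ : ρ ⟨g, hg⟩ ∈ (⊥ : Subgroup _))
    have h2 := hρ ⟨g, hg⟩ w
    rw [h1, MulAut.one_apply] at h2
    nth_rewrite 1 [h2]
    group
  right
  obtain ⟨a, ha, ha1⟩ : ∃ a ∈ ρ.range, a ≠ 1 := by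
    by_contra hno
    push Not at hno
    have : ρ.range = ⊥ := (Subgroup.eq_bot_iff_forall _).2 hno
    rw [this, Subgroup.card_bot] at hc
    omega
  have ha3 : a ^ 3 = 1 := hc ▸ hpowc a ha
  have hzp : ∀ b ∈ ρ.range, b = 1 ∨ b = a ∨ b = a ^ 2 := by
    intro b hb
    have hgen : b ∈ Subgroup.zpowers a := by
      have he : Subgroup.zpowers a = ρ.range := by
        refine Subgroup.eq_of_le_of_card_ge (by rwa [Subgroup.zpowers_le]) ?_
        rw [hc, Nat.card_zpowers, orderOf_eq_prime ha3 ha1]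
      rw [he]; exact hb
    obtain ⟨i, hi, rfl⟩ : ∃ i, i < 3 ∧ a ^ i = b := by
      obtain ⟨i, rfl⟩ := Submonoid.mem_powers_iff _ _ |>.1
        ((isOfFinOrder_of_finite a).mem_powers_iff_mem_zpowers.2 hgen)
      exact ⟨i % 3, Nat.mod_lt _ (by norm_num), by
        conv_rhs => rw [← Nat.mod_add_div i 3, pow_add, pow_mul, ha3, one_pow, mul_one]⟩
    interval_cases i
    · exact Or.inl (pow_zero a)
    · exact Or.inr (Or.inl (pow_one a))
    · exact Or.inr (Or.inr rfl)
  -- the automorphism has no fixed points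
  have hfree : ∀ w, a w = w → w = 1 := by
    intro w hw
    by_contra hw1
    obtain ⟨k, hk⟩ := IsPGroup.iff_orderOf.mp hA w
    obtain ⟨j, rfl⟩ : ∃ j, k = j + 1 := by
      rcases k with _ | j
      · exact absurd (orderOf_eq_one_iff.1 (by rw [hk, pow_zero])) hw1
      · exact ⟨j, rfl⟩
    set s := w ^ 2 ^ j with hs
    have hso : orderOf s = 2 := by
      rw [hs, orderOf_pow' _ (pow_ne_zero _ two_ne_zero), hk, Nat.gcd_eq_right
        (pow_dvd_pow 2 (Nat.le_succ j)), pow_succ, Nat.mul_div_cancel_left _ (pow_pos two_pos j)]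
    have hfs : a s = s := by rw [hs, map_pow, hw]
    have hne : (((N / 2 : ℕ) : ZMod N)) ≠ 0 :=
      Fusion.DihedralFours.half_ne_zero ((dvd_mul_right 2 2).trans hN4)
    have hinv : ∀ x : HV N, x + x = 0 → x ≠ 0 → orderOf (Multiplicative.ofAdd x) = 2 :=
      fun x h1 h2 => orderOf_eq_prime (by rw [pow_two, ← ofAdd_add, h1]; rfl)
        (by simpa using h2)
    have hhh : ((N / 2 : ℕ) : ZMod N) + ((N / 2 : ℕ) : ZMod N) = 0 := by
      rw [← Nat.cast_add, ← two_mul, Nat.mul_div_cancel' ((dvd_mul_right 2 2).trans hN4),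
        ZMod.natCast_self]
    have hall : ∀ t, orderOf t = 2 → t = s := fun t ht => by
      obtain ⟨i, hi⟩ := aut_transitive_involutions hA (card_involutions_le hN4) a
        (n := 3) (by decide) ha3 ha1 hso ht
      rw [← hi]
      induction i generalizing t with
      | zero => simp
      | succ i ih =>
        rw [pow_succ, MulAut.mul_apply, hfs]
        exact ih _ (by rw [show ((a ^ i) s) = (a ^ i).toMonoidHom s from rfl,
          orderOf_injective _ (a ^ i).injective]; exact hso) rfl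
    have h1 := hall _ (hinv (((N / 2 : ℕ) : ZMod N), 0) (Prod.ext hhh (add_zero _))
      fun e => hne (congrArg Prod.fst e))
    have h2 := hall _ (hinv ((0 : ZMod N), ((N / 2 : ℕ) : ZMod N)) (Prod.ext (add_zero _) hhh)
      fun e => hne (congrArg Prod.snd e))
    exact hne (congrArg Prod.fst (Multiplicative.ofAdd.injective (h1.trans h2.symm)))
  let φ : HV N ≃+ HV N := MulEquiv.toAdditive a
  have hφ : ∀ x, Multiplicative.ofAdd (φ x) = a (Multiplicative.ofAdd x) := fun x => rfl
  refine ⟨φ, hN4, hNk, hinj, hrange, fun x => Multiplicative.ofAdd.injective ?_,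
    fun x hx => Multiplicative.ofAdd.injective ?_, ?_, fun g hg => ?_⟩
  · rw [hφ, hφ, hφ, ← MulAut.mul_apply, ← MulAut.mul_apply, ← pow_two, ← pow_succ, ha3,
      MulAut.one_apply]
  · rw [ofAdd_zero]
    exact hfree _ (by rw [← hφ, hx])
  · obtain ⟨n, hn⟩ := ha
    exact ⟨n, fun x => by rw [hev, hev, hφ, ← hn, hρ]⟩
  · rcases hzp _ ⟨⟨g, hg⟩, rfl⟩ with e | e | e
    · exact Or.inl fun x => by
        rw [hev, ← hρ ⟨g, hg⟩, e, MulAut.one_apply]
    · exact Or.inr (Or.inl fun x => by rw [hev, hev, ← hρ ⟨g, hg⟩, e, hφ])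
    · exact Or.inr (Or.inr fun x => by
        rw [hev, hev, ← hρ ⟨g, hg⟩, e, hφ, hφ, pow_two, MulAut.mul_apply])

variable {P : Sylow 2 G} {ι : Multiplicative (HV N) →* G} {φ : HV N ≃+ HV N}

theorem HomoData.mem (h : HomoData P ι φ) (x : HV N) : hev ι x ∈ (P : Subgroup G) :=
  h.range ▸ ⟨_, rfl⟩

theorem HomoData.exists_eq (h : HomoData P ι φ) {g : G} (hg : g ∈ (P : Subgroup G)) :
    ∃ x, hev ι x = g := by
  rw [← h.range] at hg
  obtain ⟨w, hw⟩ := hg
  exact ⟨Multiplicative.toAdd w, hw⟩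

theorem hev_zero : hev ι 0 = 1 := map_one ι

theorem hev_add (x y : HV N) : hev ι (x + y) = hev ι x * hev ι y := map_mul ι _ _

theorem hev_neg (x : HV N) : hev ι (-x) = (hev ι x)⁻¹ := map_inv ι _

theorem HomoData.ev_inj (h : HomoData P ι φ) : Function.Injective (hev ι) :=
  fun _ _ e => Multiplicative.ofAdd.injective (h.inj e)

theorem HomoData.eq_one_iff (h : HomoData P ι φ) {x : HV N} : hev ι x = 1 ↔ x = 0 :=
  ⟨fun e => h.ev_inj (e.trans hev_zero.symm), fun e => e ▸ hev_zero⟩

theorem HomoData.ppower (h : HomoData P ι φ) (x : HV N) :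
    ∃ k : ℕ, orderOf (hev ι x) = 2 ^ k := by
  obtain ⟨k, hk⟩ := IsPGroup.iff_orderOf.mp P.isPGroup' ⟨_, h.mem x⟩
  exact ⟨k, by rwa [Subgroup.orderOf_mk] at hk⟩

theorem HomoData.comm (h : HomoData P ι φ) :
    (P : Subgroup G) ≤ Subgroup.centralizer ((P : Subgroup G) : Set G) := by
  intro a ha
  refine Subgroup.mem_centralizer_iff.2 fun b hb => ?_
  obtain ⟨x, rfl⟩ := h.exists_eq ha
  obtain ⟨y, rfl⟩ := h.exists_eq hb
  rw [← hev_add, ← hev_add, add_comm]

theorem HomoData.conj_phi (h : HomoData P ι φ) (x : HV N) : IsConj (hev ι x) (hev ι (φ x)) := by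
  obtain ⟨n, hn⟩ := h.act
  exact isConj_iff.2 ⟨n, hn x⟩

/-- Fusion in the Sylow subgroup. -/
theorem HomoData.conj_cases (h : HomoData P ι φ) {x y : HV N}
    (hc : IsConj (hev ι x) (hev ι y)) : y = x ∨ y = φ x ∨ y = φ (φ x) := by
  haveI : Fact (Nat.Prime 2) := ⟨Nat.prime_two⟩
  obtain ⟨g, hg⟩ := isConj_iff.1 hc
  obtain ⟨n, hn, e⟩ := Fusion.fusion_of_abelian (sylIn_top P) h.comm (h.mem x) (hg ▸ h.mem y)
  rw [hg] at e
  rcases h.norm n hn with q | q | q
  · exact Or.inl (h.ev_inj (e.symm.trans (q x)))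
  · exact Or.inr (Or.inl (h.ev_inj (e.symm.trans (q x))))
  · exact Or.inr (Or.inr (h.ev_inj (e.symm.trans (q x))))

theorem HomoData.exists_conj (h : HomoData P ι φ) {x : G} (hx : ∃ k : ℕ, orderOf x = 2 ^ k) :
    ∃ y, IsConj x (hev ι y) := by
  haveI : Fact (Nat.Prime 2) := ⟨Nat.prime_two⟩
  obtain ⟨k, hk⟩ := hx
  obtain ⟨c, -, hc⟩ := (sylIn_top P).conj_le
    (IsPGroup.of_card (p := 2) (n := k) (by rw [Nat.card_zpowers, hk]) :
      IsPGroup 2 (Subgroup.zpowers x)) le_top
  obtain ⟨y, hy⟩ := h.exists_eq (hc (Fusion.conj_mem_cj (Subgroup.mem_zpowers x)))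
  exact ⟨y, isConj_iff.2 ⟨c, hy.symm⟩⟩

theorem HomoData.card_sylow (h : HomoData P ι φ) : Nat.card (P : Subgroup G) = N * N := by
  rw [← h.range, ← Nat.card_congr (MonoidHom.ofInjective h.inj).toEquiv,
    Nat.card_congr Multiplicative.toAdd, Nat.card_prod, Nat.card_zmod]

/-- The centralizer of a nontrivial element. -/
theorem HomoData.cent (h : HomoData P ι φ) {x : HV N} (hx : x ≠ 0) :
    HasNormalPComplement 2 (Subgroup.centralizer ({hev ι x} : Set G)) ∧
    2 ^ (Nat.card (Subgroup.centralizer ({hev ι x} : Set G))).factorization 2 = N * N := by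
  haveI : Fact (Nat.Prime 2) := ⟨Nat.prime_two⟩
  haveI := Fintype.ofFinite G
  set C := Subgroup.centralizer ({hev ι x} : Set G) with hC
  have hPC : (P : Subgroup G) ≤ C := fun g hg => Subgroup.mem_centralizer_singleton_iff.2
    (Subgroup.mem_centralizer_iff.1 (h.comm hg) _ (h.mem x)).symm
  refine ⟨Fusion.hnpc_of_normalizer_le_centralizer (P.subtype hPC) fun c hc => ?_,
    (factorization_of_sylIn ((sylIn_top P).mono hPC le_top)).trans h.card_sylow⟩
  have hcN : (c : G) ∈ Subgroup.normalizer ((P : Subgroup G) : Set G) := by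
    refine Fusion.mem_normalizer_of_cj_le ?_
    rintro _ ⟨p, hp, rfl⟩
    have := (Subgroup.mem_normalizer_iff.1 hc ⟨p, hPC hp⟩).1 hp
    exact this
  have hfix : (c : G) * hev ι x * (c : G)⁻¹ = hev ι x := by
    rw [Subgroup.mem_centralizer_singleton_iff.1 c.2, mul_inv_cancel_right]
  refine Subgroup.mem_centralizer_iff.2 fun p hp => Subtype.ext ?_
  obtain ⟨y, hy⟩ := h.exists_eq (g := (p : G)) hp
  show (p : G) * c = c * p
  rw [← hy]
  rcases h.norm _ hcN with q | q | q
  · nth_rewrite 1 [← q y]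
    group
  · exact absurd (h.free x (h.ev_inj ((q x).symm.trans hfix))) hx
  · refine absurd (h.free x ?_) hx
    have e := h.ev_inj ((q x).symm.trans hfix)
    nth_rewrite 1 [← e]
    exact h.cube x

end Cfsg.Agent.Char
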