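import Cfsg.Agent.Lib.Char.IndSpan
import Cfsg.Agent.Lib.Char.Unique
import Mathlib.LinearAlgebra.PID

/-!
Brauer's realization theorem: representations are realizable over a field
containing the roots of unity of order the exponent of the group.
-/

set_option linter.unusedSectionVars false
set_option linter.style.haveILetI false

open scoped ComplexConjugate
open Cfsg

namespace Cfsg.Agent.Char

universe u v

variable {G : Type u} [Group G] [Fintype G] {K : Type} [Field K] (ι : K →+* ℂ)

/-- Transport of a representation along a linear equivalence. -/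
def repConj {V : Type*} [AddCommGroup V] [Module K V] {W : Type*} [AddCommGroup W] [Module K W]
    (ρ : Representation K G V) (e : V ≃ₗ[K] W) : Representation K G W where
  toFun g := e.conj (ρ g)
  map_one' := by ext x; simp [LinearEquiv.conj_apply]
  map_mul' g h := by ext x; simp [LinearEquiv.conj_apply]

/-- The function is the image of the character of a representation over `K`. -/
def KReal (f : G → ℂ) : Prop :=
  ∃ (m : ℕ) (ρ : Representation K G (Fin m → K)), f = fun g => ι (ρ.character g)

/-- The function is the image of the character of an irreducible representation over `K`. -/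
def KSimple (f : G → ℂ) : Prop :=
  ∃ (m : ℕ) (ρ : Representation K G (Fin m → K)), m ≠ 0 ∧
    (∀ p : Submodule K (Fin m → K), (∀ g, ∀ x ∈ p, ρ g x ∈ p) → p = ⊥ ∨ p = ⊤) ∧
    f = fun g => ι (ρ.character g)

theorem kreal_of_rep {V : Type v} [AddCommGroup V] [Module K V] [FiniteDimensional K V]
    (ρ : Representation K G V) : KReal ι fun g => ι (ρ.character g) := by
  refine ⟨Module.finrank K V, repConj ρ (Module.finBasis K V).equivFun, funext fun g => congrArg ι ?_⟩
  exact (LinearMap.trace_conj' (ρ g) (Module.finBasis K V).equivFun).symm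

theorem kreal_zero : KReal (G := G) ι 0 :=
  ⟨0, 1, funext fun g => by simp [Representation.character, Subsingleton.elim ((1 : Representation K G (Fin 0 → K)) g) 0]⟩

theorem kreal_add {f₁ f₂ : G → ℂ} (h₁ : KReal ι f₁) (h₂ : KReal ι f₂) : KReal ι (f₁ + f₂) := by
  obtain ⟨m₁, ρ₁, rfl⟩ := h₁
  obtain ⟨m₂, ρ₂, rfl⟩ := h₂
  convert kreal_of_rep ι (ρ₁.prod ρ₂) using 1
  funext g
  rw [Pi.add_apply, ← map_add]
  exact congrArg ι (LinearMap.trace_prodMap' (ρ₁ g) (ρ₂ g)).symm

theorem kreal_isCharacter {f : G → ℂ} {m : ℕ} (ρ : Representation K G (Fin m → K))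
    (hf : f = fun g => ι (ρ.character g)) :
    ∃ σ : Representation ℂ G (Fin m → ℂ), σ.character = f ∧
      ∀ g i j, LinearMap.toMatrix' (σ g) i j ∈ Set.range ι := by
  classical
  refine ⟨
    { toFun := fun g => Matrix.toLin' ((LinearMap.toMatrix' (ρ g)).map ι)
      map_one' := by
        rw [map_one, LinearMap.toMatrix'_one, Matrix.map_one _ (map_zero ι) (map_one ι), Matrix.toLin'_one]
        rfl
      map_mul' := fun a b => by
        rw [map_mul, LinearMap.toMatrix'_mul, Matrix.map_mul, Matrix.toLin'_mul]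
        rfl }, ?_, fun g i j => ?_⟩
  · subst hf
    funext g
    show LinearMap.trace ℂ _ (Matrix.toLin' _) = ι (LinearMap.trace K _ (ρ g))
    rw [LinearMap.trace_eq_matrix_trace ℂ (Pi.basisFun ℂ (Fin m)),
      LinearMap.trace_eq_matrix_trace K (Pi.basisFun K (Fin m)), ← Matrix.toLin_eq_toLin',
      LinearMap.toMatrix_toLin, LinearMap.toMatrix_eq_toMatrix']
    simp [Matrix.trace, map_sum]
  · show LinearMap.toMatrix' (Matrix.toLin' _) i j ∈ Set.range ι
    rw [LinearMap.toMatrix'_toLin']
    exact ⟨_, rfl⟩

theorem kreal_decompose {m : ℕ} (ρ : Representation K G (Fin m → K)) :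
    (fun g => ι (ρ.character g)) ∈ Submodule.span ℤ {f | KSimple (G := G) ι f} := by
  classical
  haveI : CharZero K := ⟨fun a b h => Nat.cast_injective (R := ℂ) (by simpa using congrArg ι h)⟩
  induction m using Nat.strong_induction_on with
  | _ m ih =>
    by_cases hm : m = 0
    · subst hm
      have : (fun g => ι (ρ.character g)) = 0 := funext fun g => by
        simp [Representation.character, Subsingleton.elim (ρ g) 0]
      rw [this]
      exact zero_mem _
    by_cases hs : ∀ p : Submodule K (Fin m → K), (∀ g, ∀ x ∈ p, ρ g x ∈ p) → p = ⊥ ∨ p = ⊤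
    · exact Submodule.subset_span ⟨m, ρ, hm, hs, rfl⟩
    push Not at hs
    obtain ⟨p, hp, hpb, hpt⟩ := hs
    obtain ⟨π, hπ⟩ : ∃ π : (Fin m → K) →ₗ[K] (Fin m → K), LinearMap.IsProj p π := by
      obtain ⟨q, hq⟩ := p.exists_isCompl
      exact ⟨p.projection q hq, ⟨fun x => Submodule.projection_apply_mem hq x, fun x hx => Submodule.projection_apply_left hq ⟨x, hx⟩⟩⟩
    haveI : Invertible (Fintype.card G : K) := invertibleOfNonzero (by exact_mod_cast Fintype.card_ne_zero)
    set T : (Fin m → K) →ₗ[K] (Fin m → K) :=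
      (Fintype.card G : K)⁻¹ • ∑ g : G, (ρ g).comp (π.comp (ρ g⁻¹)) with hT
    have hTproj : LinearMap.IsProj p T := by
      constructor
      · intro x
        rw [hT, LinearMap.smul_apply, LinearMap.sum_apply]
        exact p.smul_mem _ (p.sum_mem fun g _ => hp g _ (hπ.map_mem _))
      · intro x hx
        rw [hT, LinearMap.smul_apply, LinearMap.sum_apply]
        have : ∀ g : G, ((ρ g).comp (π.comp (ρ g⁻¹))) x = x := fun g => by
          rw [LinearMap.comp_apply, LinearMap.comp_apply, hπ.map_id _ (hp _ _ hx)]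
          exact Representation.self_inv_apply ρ g x
        rw [Finset.sum_congr rfl fun g _ => this g, Finset.sum_const, Finset.card_univ,
          ← Nat.cast_smul_eq_nsmul K, smul_smul, inv_mul_cancel₀ (by exact_mod_cast Fintype.card_ne_zero), one_smul]
    have hTc : ∀ g x, T (ρ g x) = ρ g (T x) := by
      intro g x
      simp only [hT, LinearMap.smul_apply, LinearMap.sum_apply, map_smul, map_sum, LinearMap.comp_apply]
      congr 1
      refine Fintype.sum_equiv (Equiv.mulLeft g⁻¹) _ _ fun h => ?_
      simp only [Equiv.coe_mulLeft, mul_inv_rev, inv_inv, map_mul, Module.End.mul_apply,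
        Representation.self_inv_apply]
    set q := LinearMap.ker T with hq
    have hpq : IsCompl p q := hTproj.isCompl
    have hqinv : ∀ g, ∀ x ∈ q, ρ g x ∈ q := fun g x hx => by
      rw [hq, LinearMap.mem_ker] at hx ⊢
      rw [hTc, hx, map_zero]
    let ρp : Representation K G p :=
      { toFun := fun g => (ρ g).restrict (hp g)
        map_one' := by ext x; simp
        map_mul' := fun a b => by ext x; simp }
    let ρq : Representation K G q :=
      { toFun := fun g => (ρ g).restrict (hqinv g)
        map_one' := by ext x; simp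
        map_mul' := fun a b => by ext x; simp }
    have hsum : (fun g => ι (ρ.character g)) =
        (fun g => ι (ρp.character g)) + fun g => ι (ρq.character g) := by
      funext g
      rw [Pi.add_apply, ← map_add]
      refine congrArg ι ?_
      show LinearMap.trace K _ (ρ g) = LinearMap.trace K _ ((ρ g).restrict (hp g)) +
        LinearMap.trace K _ ((ρ g).restrict (hqinv g))
      rw [← LinearMap.trace_prodMap', ← LinearMap.trace_conj' _ (Submodule.prodEquivOfIsCompl p q hpq).symm]
      congr 1
      refine LinearMap.ext fun y => ?_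
      obtain ⟨a, b⟩ := y
      rw [LinearEquiv.conj_apply, LinearMap.comp_apply, LinearMap.comp_apply, LinearEquiv.coe_coe,
        LinearEquiv.coe_coe, LinearEquiv.symm_symm, LinearEquiv.symm_apply_eq,
        Submodule.coe_prodEquivOfIsCompl', Submodule.coe_prodEquivOfIsCompl', map_add]
      rfl
    have hdim := Submodule.finrank_add_eq_of_isCompl hpq
    rw [Module.finrank_fin_fun] at hdim
    have hp0 : Module.finrank K p ≠ 0 := fun h => hpb (Submodule.finrank_eq_zero.1 h)
    have hq0 : Module.finrank K q ≠ 0 := fun h => hpt (eq_top_of_isCompl_bot ((Submodule.finrank_eq_zero.1 h) ▸ hpq))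
    obtain ⟨mp, hmp, σp, hσp⟩ : ∃ mp, mp < m ∧ ∃ σ : Representation K G (Fin mp → K),
        (fun g => ι (ρp.character g)) = fun g => ι (σ.character g) :=
      ⟨_, by omega, repConj ρp (Module.finBasis K p).equivFun, funext fun g => congrArg ι
        (LinearMap.trace_conj' (ρp g) (Module.finBasis K p).equivFun).symm⟩
    obtain ⟨mq, hmq, σq, hσq⟩ : ∃ mq, mq < m ∧ ∃ σ : Representation K G (Fin mq → K),
        (fun g => ι (ρq.character g)) = fun g => ι (σ.character g) :=
      ⟨_, by omega, repConj ρq (Module.finBasis K q).equivFun, funext fun g => congrArg ι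
        (LinearMap.trace_conj' (ρq g) (Module.finBasis K q).equivFun).symm⟩
    rw [hsum, hσp, hσq]
    exact add_mem (ih mp hmp σp) (ih mq hmq σq)

theorem ksimple_inner {s t : G → ℂ} (hs : KSimple ι s) (ht : KSimple ι t) :
    ∃ n : ℕ, classInner s t = n ∧ (n ≠ 0 ↔ s = t) := by
  classical
  haveI : CharZero K := ⟨fun a b h => Nat.cast_injective (R := ℂ) (by simpa using congrArg ι h)⟩
  obtain ⟨a, ρs, ha0, has, hse⟩ := hs
  obtain ⟨b, ρt, hb0, hbs, hte⟩ := ht
  haveI : Invertible (Nat.card G : K) := invertibleOfNonzero (by exact_mod_cast (Nat.card_pos (α := G)).ne')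
  obtain ⟨σ, hσ, -⟩ := kreal_isCharacter ι ρt hte
  have hconj : ∀ g, conj (t g) = ι (ρt.character g⁻¹) := fun g => by
    rw [← char_inv ⟨b, σ, hσ⟩ g]
    exact congrFun hte g⁻¹
  refine ⟨Module.finrank K (Representation.IntertwiningMap ρt ρs), ?_, ?_, ?_⟩
  · unfold classInner
    rw [← map_natCast ι (Module.finrank K (Representation.IntertwiningMap ρt ρs)),
      ← Representation.card_inv_mul_sum_char_mul_char_eq_finrank, map_mul, map_inv₀, map_natCast, map_sum]
    refine congrArg _ (Finset.sum_congr rfl fun g _ => ?_)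
    rw [map_mul, hconj g, hse]
  · intro hn
    have : Nontrivial (Representation.IntertwiningMap ρt ρs) := Module.nontrivial_of_finrank_pos (Nat.pos_of_ne_zero hn)
    obtain ⟨T, hT⟩ := exists_ne (0 : Representation.IntertwiningMap ρt ρs)
    have hT' : T.toLinearMap ≠ 0 := fun h => hT (Representation.IntertwiningMap.ext_iff.2 h)
    have hcomm : ∀ g x, T.toLinearMap (ρt g x) = ρs g (T.toLinearMap x) := fun g x => Representation.IntertwiningMap.isIntertwining ρt ρs T g x
    rcases hbs (LinearMap.ker T.toLinearMap) (fun g x hx => by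
      rw [LinearMap.mem_ker] at hx ⊢
      rw [hcomm, hx, map_zero]) with hk | hk
    swap
    · exact absurd (LinearMap.ker_eq_top.1 hk) hT'
    rcases has (LinearMap.range T.toLinearMap) (fun g x hx => by
      obtain ⟨y, rfl⟩ := hx
      exact ⟨ρt g y, hcomm g y⟩) with hr | hr
    · exact absurd (LinearMap.range_eq_bot.1 hr) hT'
    let e := LinearEquiv.ofBijective T.toLinearMap ⟨LinearMap.ker_eq_bot.1 hk, LinearMap.range_eq_top.1 hr⟩
    rw [hse, hte]
    funext g
    refine congrArg ι ?_
    show LinearMap.trace K _ (ρs g) = LinearMap.trace K _ (ρt g)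
    rw [← LinearMap.trace_conj' (ρt g) e]
    congr 1
    refine LinearMap.ext fun x => ?_
    rw [LinearEquiv.conj_apply, LinearMap.comp_apply, LinearMap.comp_apply, LinearEquiv.coe_coe,
      LinearEquiv.coe_coe]
    show ρs g x = T.toLinearMap (ρt g (e.symm x))
    rw [hcomm]
    exact congrArg (ρs g) (e.apply_symm_apply x).symm
  · rintro rfl hn
    obtain ⟨σs, hσs, -⟩ := kreal_isCharacter ι ρs hse
    have hval : classInner s s = 0 := by
      rw [show classInner s s = ι (Module.finrank K (Representation.IntertwiningMap ρt ρs) : K) from ?_, hn,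
        Nat.cast_zero, map_zero]
      unfold classInner
      rw [← Representation.card_inv_mul_sum_char_mul_char_eq_finrank, map_mul, map_inv₀, map_natCast, map_sum]
      refine congrArg _ (Finset.sum_congr rfl fun g _ => ?_)
      rw [map_mul, hconj g, hse]
    have h0 := congrFun (classInner_self_eq_zero hval) 1
    rw [hse] at h0
    simp at h0
    exact ha0 h0

/-- The representation on functions `f` with `f (x e) = λ e⁻¹ f x`. -/
theorem kreal_indFun (E : Subgroup G) (lam : E →* ℂˣ) (hlam : ∀ e, (lam e : ℂ) ∈ Set.range ι) :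
    KReal ι (indFun E fun e => (lam e : ℂ)) := by
  classical
  haveI : CharZero K := ⟨fun a b h => Nat.cast_injective (R := ℂ) (by simpa using congrArg ι h)⟩
  choose l hl using hlam
  have hl1 : l 1 = 1 := ι.injective (by rw [hl, map_one, map_one, Units.val_one])
  have hlm : ∀ a b, l (a * b) = l a * l b := fun a b =>
    ι.injective (by rw [map_mul, hl, hl, hl, map_mul, Units.val_mul])
  haveI := Fintype.ofFinite E
  set c : K := (Nat.card E : K)⁻¹ with hc
  have hcE : c * (Fintype.card E : K) = 1 := by
    rw [hc, Nat.card_eq_fintype_card, inv_mul_cancel₀ (by exact_mod_cast Fintype.card_ne_zero)]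
  let P : (G → K) →ₗ[K] (G → K) :=
    { toFun := fun f x => c * ∑ e : E, l e * f (x * e)
      map_add' := fun f₁ f₂ => funext fun x => by
        simp only [Pi.add_apply, mul_add, Finset.sum_add_distrib]
      map_smul' := fun r f => funext fun x => by
        simp only [Pi.smul_apply, smul_eq_mul, Finset.mul_sum, RingHom.id_apply]
        exact Finset.sum_congr rfl fun e _ => by ring }
  have hP : ∀ f x, P f x = c * ∑ e : E, l e * f (x * e) := fun f x => rfl
  let Lg : G → (G → K) →ₗ[K] (G → K) := fun g => LinearMap.funLeft K K fun x => g⁻¹ * x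
  have hPL : ∀ g f, P (Lg g f) = Lg g (P f) := fun g f => funext fun x => by
    show c * ∑ e : E, l e * f (g⁻¹ * (x * e)) = c * ∑ e : E, l e * f (g⁻¹ * x * e)
    simp only [mul_assoc]
  set p := LinearMap.range P with hp
  have hPid : ∀ f ∈ p, P f = f := by
    rintro f ⟨f₀, rfl⟩
    funext x
    rw [hP (P f₀)]
    have : ∀ e : E, l e * P f₀ (x * e) = P f₀ x := fun e => by
      rw [hP, hP, Finset.mul_sum, Finset.mul_sum, Finset.mul_sum]
      refine Fintype.sum_equiv (Equiv.mulLeft e) _ _ fun d => ?_
      rw [Equiv.coe_mulLeft, hlm, Subgroup.coe_mul, ← mul_assoc x]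
      ring
    rw [Finset.sum_congr rfl fun e _ => this e, Finset.sum_const, Finset.card_univ, nsmul_eq_mul,
      ← mul_assoc, hcE, one_mul]
  have hinv : ∀ g, ∀ f ∈ p, Lg g f ∈ p := fun g f hf => ⟨Lg g f, by rw [hPL, hPid f hf]⟩
  let ρ : Representation K G p :=
    { toFun := fun g => (Lg g).restrict (hinv g)
      map_one' := by
        refine LinearMap.ext fun f => Subtype.ext (funext fun x => ?_)
        show (f : G → K) (1⁻¹ * x) = (f : G → K) x
        rw [inv_one, one_mul]
      map_mul' := fun a b => by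
        refine LinearMap.ext fun f => Subtype.ext (funext fun x => ?_)
        show (f : G → K) ((a * b)⁻¹ * x) = (f : G → K) (b⁻¹ * (a⁻¹ * x))
        rw [mul_inv_rev, mul_assoc] }
  convert kreal_of_rep ι ρ using 1
  funext g
  have hmem : ∀ f, ((Lg g).comp P) f ∈ p := fun f => hinv g _ ⟨f, rfl⟩
  have htr : ρ.character g = LinearMap.trace K _ ((Lg g).comp P) := by
    rw [← LinearMap.trace_restrict_eq_of_forall_mem p ((Lg g).comp P) hmem]
    show LinearMap.trace K _ ((Lg g).restrict (hinv g)) = _
    congr 1
    refine LinearMap.ext fun f => Subtype.ext ?_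
    show Lg g (f : G → K) = Lg g (P f)
    rw [hPid _ f.2]
  rw [htr, LinearMap.trace_eq_matrix_trace K (Pi.basisFun K G), LinearMap.toMatrix_eq_toMatrix', Matrix.trace,
    map_sum]
  unfold indFun
  rw [Finset.mul_sum]
  refine Finset.sum_congr rfl fun x _ => ?_
  rw [Matrix.diag_apply, LinearMap.toMatrix'_apply]
  show _ = ι (c * ∑ e : E, l e * (Pi.single x (1 : K) : G → K) (g⁻¹ * x * (e : G)))
  simp only [Pi.single_apply]
  rw [map_mul, hc, map_inv₀, map_natCast, map_sum]
  congr 1
  by_cases hx : x⁻¹ * g * x ∈ E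
  · rw [extendByZero_mem E _ hx, Finset.sum_eq_single (⟨_, hx⟩ : E)]
    · rw [if_pos (by simp only; group), mul_one, hl]
    · intro e _ he
      rw [if_neg, mul_zero, map_zero]
      intro h
      refine he (Subtype.ext ?_)
      show (e : G) = x⁻¹ * g * x
      calc (e : G) = (g⁻¹ * x)⁻¹ * (g⁻¹ * x * e) := by group
        _ = x⁻¹ * g * x := by rw [h]; group
    · exact fun h => absurd (Finset.mem_univ _) h
  · rw [extendByZero_not_mem E _ hx]
    symm
    refine Finset.sum_eq_zero fun e _ => ?_
    rw [if_neg, mul_zero, map_zero]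
    intro h
    refine hx ?_
    have : x⁻¹ * g * x = (e : G) := by
      calc x⁻¹ * g * x = (g⁻¹ * x)⁻¹ * x := by group
        _ = (g⁻¹ * x)⁻¹ * (g⁻¹ * x * e) := by rw [h]
        _ = (e : G) := by group
    rw [this]
    exact e.2

theorem irr_kreal (hroot : ∀ z : ℂ, z ^ Monoid.exponent G = 1 → z ∈ Set.range ι) {χ : G → ℂ}
    (hχ : IsIrrCharacter G χ) : KReal ι χ := by
  classical
  obtain ⟨L, -, hL⟩ := brauer_induction (irr_isCharacter hχ)
  have hmem : χ ∈ Submodule.span ℤ {f | KSimple (G := G) ι f} := by
    rw [hL]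
    refine list_sum_mem fun f hf => ?_
    obtain ⟨t, -, rfl⟩ := List.mem_map.1 hf
    rw [Int.cast_smul_eq_zsmul]
    refine Submodule.smul_mem _ _ ?_
    obtain ⟨m, ρ, hρ⟩ := kreal_indFun ι t.1 t.2.1 fun e => hroot _ (by
      rw [← Units.val_pow_eq_pow_val, ← map_pow,
        show e ^ Monoid.exponent G = 1 from Subtype.ext (by simpa using Monoid.pow_exponent_eq_one (e : G)),
        map_one, Units.val_one])
    rw [hρ]
    exact kreal_decompose ι ρ
  obtain ⟨c, hc, hsum⟩ := Submodule.mem_span_set.1 hmem
  have hins : ∀ s ∈ c.support, ∀ t ∈ c.support, ∃ n : ℕ, classInner s t = n ∧ (n ≠ 0 ↔ s = t) :=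
    fun s hs t ht => ksimple_inner ι (hc hs) (hc ht)
  choose! n hn hn' using hins
  have hχe : χ = ∑ s ∈ c.support, (c s : ℂ) • s := by
    rw [← hsum, Finsupp.sum]
    exact Finset.sum_congr rfl fun s _ => (Int.cast_smul_eq_zsmul ℂ (c s) s).symm
  have h1 : (1 : ℤ) = ∑ s ∈ c.support, c s * c s * (n s s : ℤ) := by
    have h := irr_self hχ
    rw [hχe, classInner_sum_left] at h
    refine (Int.cast_injective (α := ℂ)) ?_
    push_cast
    rw [← h]
    refine Finset.sum_congr rfl fun s hs => ?_
    rw [classInner_smul_left, classInner_sum_right, Finset.sum_eq_single s]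
    · rw [classInner_smul_right, hn s hs s hs, map_intCast]
      ring
    · intro t ht hts
      rw [classInner_smul_right, hn s hs t ht,
        show n s t = 0 from by_contra fun h' => hts ((hn' s hs t ht).1 h').symm]
      simp
    · exact fun h' => absurd hs h'
  have hpos : ∀ s ∈ c.support, (1 : ℤ) ≤ c s * c s * (n s s : ℤ) := by
    intro s hs
    have h2 : (1 : ℤ) ≤ (n s s : ℤ) := by exact_mod_cast Nat.pos_of_ne_zero ((hn' s hs s hs).2 rfl)
    have h3 : (1 : ℤ) ≤ c s * c s := by
      rcases lt_or_gt_of_ne (Finsupp.mem_support_iff.1 hs) with h | h <;> nlinarith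
    nlinarith
  have hcard : c.support.card ≤ 1 := by
    have h4 := Finset.sum_le_sum hpos
    rw [← h1, Finset.sum_const, nsmul_eq_mul, mul_one] at h4
    exact_mod_cast h4
  rcases Finset.card_le_one_iff_subset_singleton.1 hcard with ⟨s, hs⟩
  rcases Finset.subset_singleton_iff.1 hs with hs0 | hs1
  · rw [hs0, Finset.sum_empty] at h1
    exact absurd h1 one_ne_zero
  rw [hs1, Finset.sum_singleton] at h1
  rw [hs1, Finset.sum_singleton] at hχe
  have hsmem : s ∈ c.support := by rw [hs1]; exact Finset.mem_singleton_self s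
  obtain ⟨m, ρ, hm0, -, hse⟩ := hc hsmem
  obtain ⟨k, hk⟩ := charOne_eq_natCast (irr_isCharacter hχ)
  have hdeg : (k : ℤ) = c s * m := by
    have h5 := congrFun hχe 1
    rw [Pi.smul_apply, hk, smul_eq_mul, congrFun hse 1, Representation.char_one, Module.finrank_fin_fun,
      map_natCast] at h5
    exact_mod_cast h5
  have hc2 : c s = 1 := by
    rcases Int.eq_one_or_neg_one_of_mul_eq_one (u := c s) (v := c s * n s s) (by rw [← mul_assoc]; exact h1.symm) with h | h
    · exact h
    · rw [h] at hdeg
      have : 0 < m := Nat.pos_of_ne_zero hm0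
      omega
  refine ⟨m, ρ, ?_⟩
  rw [hχe, hc2, Int.cast_one, one_smul]
  exact hse

theorem realizable_over (hroot : ∀ z : ℂ, z ^ Monoid.exponent G = 1 → z ∈ Set.range ι) {n : ℕ}
    (ρ : Representation ℂ G (Fin n → ℂ)) :
    ∃ σ : Representation ℂ G (Fin n → ℂ), Nonempty (ρ.Equiv σ) ∧
      ∀ g i j, LinearMap.toMatrix' (σ g) i j ∈ Set.range ι := by
  classical
  obtain ⟨m, hm⟩ := exists_decomposition (G := G) (χ := ρ.character) ⟨n, ρ, rfl⟩
  have hreal : KReal ι ρ.character := by
    rw [hm]
    refine Finset.sum_induction _ (fun f => KReal ι f) (fun a b => kreal_add ι) (kreal_zero ι) ?_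
    intro χ _
    induction m χ with
    | zero => simpa using kreal_zero (G := G) ι
    | succ k ih =>
      rw [add_smul, one_smul]
      exact kreal_add ι ih (irr_kreal ι hroot χ.2)
  obtain ⟨k, τ, hτ⟩ := hreal
  obtain ⟨σ, hσ, hent⟩ := kreal_isCharacter ι τ hτ
  have hk : k = n := by
    have h := congrFun hσ 1
    rw [Representation.char_one, Representation.char_one, Module.finrank_fin_fun, Module.finrank_fin_fun] at h
    exact_mod_cast h
  subst hk
  exact ⟨σ, equiv_of_character_eq ρ σ hσ.symm, hent⟩

end Cfsg.Agent.Char
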