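import Cfsg.Agent.Lib.Char.RelProj
import Cfsg.Agent.Lib.Char.DefectLocal

/-!
# The second main theorem on blocks
-/

set_option autoImplicit false

namespace Cfsg.Agent.Char

open Cfsg Module
open scoped ComplexConjugate

universe u

variable {M : Ideal AlgInt} {p : ℕ}

/-- A valuation ring containing the local ring at `M`. -/
theorem exists_valuation (hM : IsPModular p M) :
    ∃ V : ValuationSubring ℂ, (∀ x, MemLocalRing M x → x ∈ V) ∧ ¬ IsUnit (p : V) := by
  have hP := pmod_prime hM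
  have hI : ∀ a : locRing hP, ¬ IsUnit a ↔ MemLocalIdeal M (a : ℂ) := by
    intro a
    constructor
    · intro h
      by_contra hn
      exact h (isUnit_iff_exists_inv.mpr ⟨⟨(a : ℂ)⁻¹, memLR_inv hP a.2 hn⟩,
        Subtype.ext (mul_inv_cancel₀ fun e => hn (e ▸ memLI_zero hP))⟩)
    · intro h hu
      obtain ⟨b, hb⟩ := isUnit_iff_exists_inv.mp hu
      have e : (a : ℂ) * (b : ℂ) = 1 := congrArg Subtype.val hb
      exact memLI_one_iff hP (e ▸ memLI_mul_right hP h b.2)
  haveI : IsLocalRing (locRing hP) := IsLocalRing.of_nonunits_add fun a b ha hb =>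
    (hI _).mpr (memLI_add hP ((hI a).mp ha) ((hI b).mp hb))
  obtain ⟨V, hV⟩ := LocalSubring.exists_le_valuationSubring
    ({ toSubring := locRing hP, isLocalRing := inferInstance } : LocalSubring ℂ)
  refine ⟨V, fun x hx => hV.1 hx, fun hu => ?_⟩
  have h1 : IsUnit ((p : ℕ) : locRing hP) := by
    refine hV.2.1 _ ?_
    rw [map_natCast]
    exact hu
  exact (hI _).mpr (by simpa using memLI_p hM) h1

/-- A function summed against a representation. -/
noncomputable def opSum {H : Type*} [Group H] [Fintype H] {n : ℕ}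
    (π : H →* Module.End ℂ (Fin n → ℂ)) (f : H → ℂ) : Module.End ℂ (Fin n → ℂ) :=
  ∑ x : H, f x • π x

section Op

variable {H : Type*} [Group H] [Fintype H] {n : ℕ} (π : H →* Module.End ℂ (Fin n → ℂ))

theorem opSum_conv (f g : H → ℂ) : opSum π (conv f g) = opSum π f * opSum π g := by
  simp only [opSum, conv, Finset.sum_smul]
  rw [Finset.sum_comm, Finset.sum_mul_sum]
  refine Finset.sum_congr rfl fun y _ => ?_
  refine Fintype.sum_equiv (Equiv.mulLeft y⁻¹) _ _ fun x => ?_
  rw [smul_mul_smul_comm, ← map_mul, Equiv.coe_mulLeft, mul_inv_cancel_left]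

theorem opSum_sub (f g : H → ℂ) : opSum π (f - g) = opSum π f - opSum π g := by
  rw [opSum, opSum, opSum, ← Finset.sum_sub_distrib]
  exact Finset.sum_congr rfl fun x _ => sub_smul (f x) (g x) (π x)

theorem opSum_delta : opSum π (delta : H → ℂ) = 1 := by
  classical
  simp [opSum, delta_apply, ite_smul]

theorem mul_opSum (f : H → ℂ) (k : H) :
    π k * opSum π f = opSum π (fun x => f (k⁻¹ * x * k)) * π k := by
  simp only [opSum, Finset.mul_sum, Finset.sum_mul, mul_smul_comm, smul_mul_assoc, ← map_mul]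
  refine Fintype.sum_equiv (MulAut.conj k).toEquiv _ _ fun x => ?_
  rw [show (MulAut.conj k).toEquiv x = k * x * k⁻¹ from rfl]
  congr 2
  · group
  · group

theorem opSum_commute {f : H → ℂ} (hf : IsClassFunction H f) (k : H) :
    π k * opSum π f = opSum π f * π k := by
  rw [mul_opSum]
  congr 2
  funext x
  simpa using hf x k⁻¹

end Op

section Choice

variable {G : Type u} [Group G]

/-- Stabilisers off the centraliser of the `p`-part are small. -/
theorem dvd_of_commute_zpow (hp : p.Prime) {h z g : G} (hz : IsPPart p h z)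
    (hzh : z ∈ Subgroup.zpowers h) {a : ℤ} (ha : Commute (h ^ a) g) (hg : ¬ Commute z g) :
    (p : ℤ) ∣ a := by
  by_contra hd
  obtain ⟨t, ht⟩ := Subgroup.mem_zpowers_iff.mp hzh
  obtain ⟨_, -, -, ⟨l, hl⟩, -⟩ := hz
  have hco : IsCoprime a ((p : ℤ) ^ l) :=
    (((Nat.prime_iff_prime_int.mp hp).coprime_iff_not_dvd.mpr hd).symm).pow_right
  obtain ⟨x, y, hxy⟩ := hco
  refine hg ?_
  have e : z = (h ^ a) ^ (t * x) := by
    calc z = z ^ (x * a + y * (p : ℤ) ^ l) := by rw [hxy, zpow_one]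
      _ = z ^ (x * a) := by
          rw [zpow_add, mul_comm y, zpow_mul z ((p : ℤ) ^ l), ← Nat.cast_pow, zpow_natCast, ← hl,
            pow_orderOf_eq_one, one_zpow, mul_one]
      _ = _ := by
          rw [← ht, ← zpow_mul, ← zpow_mul]
          congr 1
          ring
  rw [e]
  exact ha.zpow_left _

/-- A choice of one in every `p` consecutive points on each orbit. -/
theorem exists_section (hp : p.Prime) {H : Subgroup G} (h : G) (hh : h ∈ H) {z : G}
    (hz : IsPPart p h z) (hzh : z ∈ Subgroup.zpowers h)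
    (hC : Subgroup.centralizer ({z} : Set G) ≤ H) :
    ∃ A : Set G, (∀ g ∈ A, g ∉ H) ∧ (∀ g, h ^ p * g * (h ^ p)⁻¹ ∈ A ↔ g ∈ A) ∧
      ∀ g, g ∉ H → ∃! j : ℕ, j < p ∧ (h ^ j)⁻¹ * g * h ^ j ∈ A := by
  let r : Setoid G :=
    { r := fun x y => ∃ a : ℤ, y = h ^ a * x * (h ^ a)⁻¹
      iseqv :=
        { refl := fun x => ⟨0, by simp⟩
          symm := fun {x y} e => by obtain ⟨a, rfl⟩ := e; exact ⟨-a, by group⟩
          trans := fun {x y w} e e' => by
            obtain ⟨a, rfl⟩ := e; obtain ⟨b, rfl⟩ := e'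
            exact ⟨b + a, by group⟩ } }
  have hk : ∀ g : G, ∃ a : ℤ, g = h ^ a * (Quotient.mk r g).out * (h ^ a)⁻¹ :=
    fun g => Quotient.exact (Quotient.out_eq (Quotient.mk r g))
  choose K hK using hk
  have hconj : ∀ (a : ℤ) g, h ^ a * g * (h ^ a)⁻¹ ∈ H ↔ g ∈ H := fun a g =>
    ⟨fun e => by simpa [mul_assoc] using H.mul_mem (H.mul_mem (H.inv_mem (H.zpow_mem hh a)) e) (H.zpow_mem hh a),
      fun e => H.mul_mem (H.mul_mem (H.zpow_mem hh a) e) (H.inv_mem (H.zpow_mem hh a))⟩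
  have hnc : ∀ g, g ∉ H → ¬ Commute z g := fun g hg hc =>
    hg (hC (Subgroup.mem_centralizer_singleton_iff.mpr hc.eq.symm))
  have huniq : ∀ g, g ∉ H → ∀ a : ℤ, (p : ℤ) ∣ (K (h ^ a * g * (h ^ a)⁻¹) - (a + K g)) := by
    intro g hg a
    set g' := h ^ a * g * (h ^ a)⁻¹ with hg'
    have hq : Quotient.mk r g' = Quotient.mk r g := Quotient.sound ⟨-a, by rw [hg']; group⟩
    have e1 := hK g'
    rw [hq] at e1
    set o := (Quotient.mk r g).out
    have e2 : g' = h ^ (a + K g) * o * (h ^ (a + K g))⁻¹ := by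
      rw [hg']; conv_lhs => rw [hK g]
      show h ^ a * (h ^ K g * o * (h ^ K g)⁻¹) * (h ^ a)⁻¹ = _
      group
    have ho : o ∉ H := fun ho => hg (by rw [hK g]; exact (hconj _ _).mpr ho)
    refine dvd_of_commute_zpow hp hz hzh ?_ (hnc o ho)
    show h ^ (K g' - (a + K g)) * o = o * h ^ (K g' - (a + K g))
    have e3 := e1.symm.trans e2
    calc h ^ (K g' - (a + K g)) * o
        = h ^ (-(a + K g)) * (h ^ K g' * o * (h ^ K g')⁻¹) * h ^ K g' := by group
      _ = h ^ (-(a + K g)) * (h ^ (a + K g) * o * (h ^ (a + K g))⁻¹) * h ^ K g' := by rw [e3]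
      _ = o * h ^ (K g' - (a + K g)) := by group
  refine ⟨{g | g ∉ H ∧ (p : ℤ) ∣ K g}, fun g hg => hg.1, fun g => ?_, fun g hg => ?_⟩
  · have e : h ^ p * g * (h ^ p)⁻¹ = h ^ (p : ℤ) * g * (h ^ (p : ℤ))⁻¹ := by rw [zpow_natCast]
    rw [e]
    by_cases hg : g ∈ H
    · exact iff_of_false (fun x => x.1 ((hconj _ _).mpr hg)) (fun x => x.1 hg)
    have hd : (p : ℤ) ∣ K (h ^ (p : ℤ) * g * (h ^ (p : ℤ))⁻¹) - K g := by
      refine (congrArg ((p : ℤ) ∣ ·) ?_).mp (dvd_add (huniq g hg p) (dvd_refl (p : ℤ)))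
      ring
    simp only [Set.mem_setOf_eq, (not_congr (hconj _ _)), hg, not_false_eq_true, true_and]
    exact ⟨fun x => by simpa using dvd_sub x hd, fun x => by simpa using dvd_add hd x⟩
  · have hp0 : (0 : ℤ) < p := by exact_mod_cast hp.pos
    have hiff : ∀ j : ℕ, (h ^ j)⁻¹ * g * h ^ j ∈ {g | g ∉ H ∧ (p : ℤ) ∣ K g} ↔
        (p : ℤ) ∣ K g - j := by
      intro j
      have e : (h ^ j)⁻¹ * g * h ^ j = h ^ (-(j : ℤ)) * g * (h ^ (-(j : ℤ)))⁻¹ := by
        simp [zpow_neg, zpow_natCast]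
      have hd := huniq g hg (-(j : ℤ))
      rw [e]
      simp only [Set.mem_setOf_eq, (not_congr (hconj _ _)), hg, not_false_eq_true, true_and]
      constructor
      · intro x
        have := dvd_sub x hd
        refine (congrArg ((p : ℤ) ∣ ·) ?_).mp this
        ring
      · intro x
        have := dvd_add hd x
        refine (congrArg ((p : ℤ) ∣ ·) ?_).mp this
        ring
    refine ⟨(K g % p).toNat, ⟨?_, (hiff _).mpr ?_⟩, fun j ⟨hj, hjA⟩ => ?_⟩
    · have := Int.emod_lt_of_pos (K g) hp0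
      omega
    · rw [Int.toNat_of_nonneg (Int.emod_nonneg _ hp0.ne')]
      exact Int.dvd_self_sub_emod
    · have hj' := (hiff j).mp hjA
      have e1 : K g % p = (j : ℤ) % p := (Int.emod_eq_emod_iff_emod_sub_eq_zero.mpr
        (Int.emod_eq_zero_of_dvd hj'))
      rw [e1, Int.emod_eq_of_lt (Int.natCast_nonneg j) (by exact_mod_cast hj)]
      simp

end Choice

section Main

variable {G : Type u} [Group G] [Fintype G]

/-- An inverse of `1 - s` on a block. -/
theorem exists_block_inverse (hM : IsPModular p M) {b : Set (IrrCharacter G)} (hb : IsPBlock M b)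
    {s : G → ℂ} (hs : IsIntClassFun M s)
    (hsI : ∀ ξ ∈ b, MemLocalIdeal M (lam (ξ : G → ℂ) s)) :
    ∃ v : G → ℂ, IsIntClassFun M v ∧ conv v (delta - s) = blockCoeff b := by
  classical
  have hP := pmod_prime hM
  set a := (Nat.card G).factorization p with ha
  have hpow : ∀ ξ : IrrCharacter G, ∃ m : ℕ, ξ ∈ b →
      ∃ y, MemLocalRing M y ∧ lam (ξ : G → ℂ) s ^ m = (p : ℂ) ^ a * y := fun ξ => by
    by_cases hx : ξ ∈ b
    · obtain ⟨m, hm⟩ := memLI_pow_dvd hM (hsI ξ hx) a; exact ⟨m, fun _ => hm⟩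
    · exact ⟨0, fun h => absurd h hx⟩
  choose m hm using hpow
  set N := ∑ ξ, m ξ with hN
  set c : IrrCharacter G → ℂ := fun ξ =>
    if ξ ∈ b then (1 - lam (ξ : G → ℂ) s)⁻¹ else 0 with hc
  set v : G → ℂ := ∑ ξ, c ξ • idem (ξ : G → ℂ) with hv
  have hunit : ∀ ξ ∈ b, ¬ MemLocalIdeal M (1 - lam (ξ : G → ℂ) s) := fun ξ hx h =>
    memLI_one_iff hP (by simpa using memLI_add hP h (hsI ξ hx))
  have hvc : IsClassFunction G v := fun g k => by
    simp only [hv, Finset.sum_apply, Pi.smul_apply, smul_eq_mul,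
      isClassFunction_idem (irr_isCharacter (Subtype.prop _)) g k]
  have hlv : ∀ ξ : IrrCharacter G, lam (ξ : G → ℂ) v = c ξ := fun ξ => by
    simp [hv, lam_sum, lam_smul, lam_idem]
  have hds : IsIntClassFun M (delta - s) := intClassFun_sub hP (intClassFun_delta hP) hs
  refine ⟨v, ⟨hvc, fun g => ?_⟩, ?_⟩
  · set w : G → ℂ := conv (blockCoeff b) (∑ i ∈ Finset.range N, cpow s i) with hw
    have hgeo : IsIntClassFun M (∑ i ∈ Finset.range N, cpow s i) :=
      ⟨fun g k => by simp only [Finset.sum_apply, (intClassFun_cpow hP hs _).1 g k],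
        fun g => by rw [Finset.sum_apply]; exact memLR_sum hP _ _ fun i _ => (intClassFun_cpow hP hs i).2 g⟩
    have hwI : IsIntClassFun M w := intClassFun_conv hP (isIntClassFun_blockCoeff hM hb) hgeo
    have hy : ∀ ξ : IrrCharacter G, ∃ y, MemLocalRing M y ∧
        c ξ - lam (ξ : G → ℂ) w = (p : ℂ) ^ a * y := by
      intro ξ
      rw [hw, lam_conv ξ.2 (isClassFunction_blockCoeff b) hgeo.1, lam_blockCoeff, lam_sum]
      simp only [lam_cpow hP ξ.2 hs]
      by_cases hx : ξ ∈ b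
      · simp only [hc, if_pos hx, one_mul]
        obtain ⟨y, hy, e⟩ := hm ξ hx
        obtain ⟨d, hd⟩ := Nat.exists_eq_add_of_le
          (Finset.single_le_sum (fun i _ => Nat.zero_le (m i)) (Finset.mem_univ ξ))
        set t := lam (ξ : G → ℂ) s
        have h0 : 1 - t ≠ 0 := fun e0 => hunit ξ hx (e0 ▸ memLI_zero hP)
        refine ⟨y * t ^ d * (1 - t)⁻¹, memLR_mul hP (memLR_mul hP hy (memLR_pow hP
          (memLR_lam hP ξ.2 hs.1 hs.2) d)) (memLR_inv hP (memLR_sub hP (memLR_one hP)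
            (memLR_lam hP ξ.2 hs.1 hs.2)) (hunit ξ hx)), ?_⟩
        have h1 : (∑ i ∈ Finset.range N, t ^ i) = (1 - t ^ N) * (1 - t)⁻¹ := by
          rw [← geom_sum_mul_neg, mul_assoc, mul_inv_cancel₀ h0, mul_one]
        rw [h1, hN, hd, pow_add, e]
        ring
      · exact ⟨0, memLR_zero hP, by simp [hc, if_neg hx]⟩
    choose y hyR hye using hy
    obtain ⟨q, hq⟩ := Nat.ordProj_dvd (Nat.card G) p
    rw [← ha] at hq
    have hpq : ¬ p ∣ q := by
      have := Nat.not_dvd_ordCompl hM.1 (Nat.card_pos (α := G)).ne'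
      rwa [← ha, hq, Nat.mul_div_cancel_left _ (Nat.pow_pos hM.1.pos)] at this
    have e : v = w + ∑ ξ : IrrCharacter G, ((p : ℂ) ^ a * y ξ) • idem (ξ : G → ℂ) := by
      conv_rhs => arg 1; rw [classFun_eq_sum_idem hwI.1]
      rw [← Finset.sum_add_distrib, hv]
      refine Finset.sum_congr rfl fun ξ _ => ?_
      rw [← hye, sub_smul, add_sub_cancel]
    rw [e, Pi.add_apply, Finset.sum_apply]
    refine memLR_add hP (hwI.2 g) (memLR_sum hP _ _ fun ξ _ => ?_)
    have e2 : ((p : ℂ) ^ a * y ξ) • idem (ξ : G → ℂ) g =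
        y ξ * ((ξ : G → ℂ) 1 * conj ((ξ : G → ℂ) g)) * (q : ℂ)⁻¹ := by
      have hp0 : (p : ℂ) ^ a ≠ 0 := pow_ne_zero _ (Nat.cast_ne_zero.mpr hM.1.ne_zero)
      simp only [idem, smul_eq_mul, hq]
      push_cast
      rw [mul_inv]
      field_simp
    rw [Pi.smul_apply, e2]
    refine memLR_mul hP (memLR_mul hP (hyR ξ) (memLR_mul hP (memLR_char hP (irr_isCharacter ξ.2) 1) ?_))
      (memLR_inv_natCast hM hpq)
    rw [← char_inv (irr_isCharacter ξ.2)]
    exact memLR_char hP (irr_isCharacter ξ.2) _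
  · rw [classFun_eq_sum_idem (isClassFunction_conv hvc hds.1),
      classFun_eq_sum_idem (isClassFunction_blockCoeff b)]
    refine Finset.sum_congr rfl fun ξ _ => ?_
    rw [lam_conv ξ.2 hvc hds.1, hlv, lam_sub, lam_delta ξ.2, lam_blockCoeff]
    simp only [hc]
    split_ifs with hx
    · rw [inv_mul_cancel₀ fun e0 => hunit ξ hx (by rw [e0]; exact memLI_zero hP)]
    · rw [zero_mul]

/-- The second main theorem, idempotent form. -/
theorem second_main (hM : IsPModular p M) {H : Subgroup G} [Fintype H]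
    {b : Set (IrrCharacter H)} (hb : IsPBlock M b) (h : H) {z : G} (hz : IsPPart p (h : G) z)
    (hC : Subgroup.centralizer ({z} : Set G) ≤ H) (χ : IrrCharacter G)
    (hne : ∀ ξ ∈ b, MemLocalIdeal M
      (lam (ξ : H → ℂ) (fun k : H => blockCoeff (blockOf M (χ : G → ℂ)) k))) :
    ∑ k : H, blockCoeff b k * (χ : G → ℂ) ((k : G) * (h : G)) = 0 := by
  classical
  have hP := pmod_prime hM
  haveI := Fact.mk hM.1
  have hp := hM.1
  obtain ⟨V, hV, hpV⟩ := exists_valuation hM
  obtain ⟨n, ρ, hρ, hch⟩ := χ.2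
  rw [← hch] at hne ⊢
  set E := blockCoeff (blockOf M ρ.character) with hE
  have hBE : IsPBlock M (blockOf M ρ.character) := hch ▸ isPBlock_blockOf M χ
  have hEI : IsIntClassFun M E := isIntClassFun_blockCoeff hM hBE
  have hlamE : lam ρ.character E = 1 := by
    rw [hE, hch, lam_blockCoeff (blockOf M (χ : G → ℂ)) χ,
      if_pos (self_mem_blockOf hP χ)]
  set s : H → ℂ := fun k => E k with hs
  have hsI : IsIntClassFun M s :=
    ⟨fun a k => by simpa [hs] using hEI.1 (a : G) (k : G), fun k => hEI.2 _⟩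
  obtain ⟨v, hvI, hveq⟩ := exists_block_inverse hM hb hsI hne
  let π : H →* Module.End ℂ (Fin n → ℂ) := MonoidHom.comp ρ H.subtype
  set T := opSum π (blockCoeff b) with hT
  set R0 := opSum π v with hR0
  have hTT : T * T = T := by
    rw [hT, ← opSum_conv]
    congr 1
    have hbc := isClassFunction_blockCoeff b
    rw [classFun_eq_sum_idem (isClassFunction_conv hbc hbc)]
    conv_rhs => rw [classFun_eq_sum_idem hbc]
    refine Finset.sum_congr rfl fun ξ _ => ?_
    rw [lam_conv ξ.2 hbc hbc, lam_blockCoeff]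
    split_ifs <;> simp
  have hTh : ∀ k : H, π k * T = T * π k := opSum_commute π (isClassFunction_blockCoeff b)
  have hRh : ∀ k : H, π k * R0 = R0 * π k := opSum_commute π hvI.1
  -- the part outside `H`
  have hzh : z ∈ Subgroup.zpowers (h : G) := by
    have e := preg_eq hp hz
    have hm := preg_mem_zpowers hp (h : G) (Subgroup.mem_zpowers (h : G))
    have e2 : z = (h : G) * (preg p (h : G))⁻¹ := by
      obtain ⟨y, hy1, hy2, -, -⟩ := hz
      rw [e, ← hy1, inv_mul_cancel_left]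
      group
    rw [e2]
    exact Subgroup.mul_mem _ (Subgroup.mem_zpowers _) (Subgroup.inv_mem _ hm)
  obtain ⟨A, hAH, hAp, hA1⟩ := exists_section hp (h : G) h.2 hz hzh hC
  set f : G → ℂ := fun g => if g ∈ A then E g else 0 with hf
  set Fo := opSum (ρ : G →* Module.End ℂ (Fin n → ℂ)) f with hFo
  have hpowh : ∀ j : ℕ, ρ ((h : G) ^ j) = π (h ^ j) := fun j => by simp [π]
  have hFp : ρ ((h : G) ^ p) * Fo = Fo * ρ ((h : G) ^ p) := by
    rw [hFo, mul_opSum]
    congr 2
    funext g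
    simp only [hf]
    have hiff : ((h : G) ^ p)⁻¹ * g * (h : G) ^ p ∈ A ↔ g ∈ A := by
      conv_rhs => rw [show g = (h : G) ^ p * (((h : G) ^ p)⁻¹ * g * (h : G) ^ p) * ((h : G) ^ p)⁻¹ by group]
      exact (hAp _).symm
    have he : E (((h : G) ^ p)⁻¹ * g * (h : G) ^ p) = E g := by
      simpa using hEI.1 g ((h : G) ^ p)⁻¹
    simp only [hiff, he]
  have hsplit : ∑ j ∈ Finset.range p, ρ ((h : G) ^ j) * Fo * ρ ((h : G) ^ j)⁻¹ = 1 - opSum π s := by
    have e1 : ∀ j : ℕ, ρ ((h : G) ^ j) * Fo * ρ ((h : G) ^ j)⁻¹ =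
        opSum (ρ : G →* Module.End ℂ (Fin n → ℂ)) (fun g => f (((h : G) ^ j)⁻¹ * g * (h : G) ^ j)) := by
      intro j
      rw [hFo, mul_opSum, mul_assoc, ← map_mul, mul_inv_cancel, map_one, mul_one]
    have e2 : ∀ g : G, ∑ j ∈ Finset.range p, f (((h : G) ^ j)⁻¹ * g * (h : G) ^ j) =
        if g ∈ H then 0 else E g := by
      intro g
      by_cases hg : g ∈ H
      · rw [if_pos hg]
        refine Finset.sum_eq_zero fun j _ => if_neg fun hm => hAH _ hm ?_
        exact H.mul_mem (H.mul_mem (H.inv_mem (H.pow_mem h.2 j)) hg) (H.pow_mem h.2 j)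
      · rw [if_neg hg]
        obtain ⟨j0, ⟨hj0, hj0A⟩, huniq⟩ := hA1 g hg
        rw [Finset.sum_eq_single j0]
        · simp only [hf, if_pos hj0A]
          simpa using hEI.1 g ((h : G) ^ j0)⁻¹
        · exact fun j hj hne' => if_neg fun hm => hne' (huniq j ⟨Finset.mem_range.mp hj, hm⟩)
        · exact fun hn => absurd (Finset.mem_range.mpr hj0) hn
    have e3 : opSum (ρ : G →* Module.End ℂ (Fin n → ℂ)) E = 1 := by
      have := hρ
      rw [opSum, show (∑ x : G, E x • (ρ : G →* Module.End ℂ (Fin n → ℂ)) x) =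
        ∑ x : G, E x • ρ x from rfl, rep_sum_eq_lam ρ hEI.1, hlamE, one_smul]
      rfl
    simp only [e1, opSum]
    rw [Finset.sum_comm]
    simp only [← Finset.sum_smul, e2]
    rw [← e3, opSum, eq_sub_iff_add_eq]
    have e4 : ∑ x : H, s x • π x = ∑ g : G, (if g ∈ H then E g else 0) • ρ g := by
      rw [← Finset.sum_filter_of_ne (p := fun g => g ∈ H) (s := Finset.univ)
        (f := fun g : G => (if g ∈ H then E g else 0) • ρ g) (fun g _ hg => by
          by_contra hgn
          exact hg (by rw [if_neg hgn, zero_smul]))]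
      refine Finset.sum_bij (fun (k : H) _ => (k : G))
        (fun k _ => Finset.mem_filter.mpr ⟨Finset.mem_univ _, k.2⟩)
        (fun a _ b _ e => Subtype.ext e)
        (fun g hg => ⟨⟨g, (Finset.mem_filter.mp hg).2⟩, Finset.mem_univ _, rfl⟩)
        (fun k _ => by rw [if_pos k.2]; rfl)
    rw [e4, ← Finset.sum_add_distrib]
    refine Finset.sum_congr rfl fun g _ => ?_
    rw [← add_smul]
    split_ifs <;> simp
  set Φ0 := R0 * Fo with hΦ0
  have hTeq : R0 * (1 - opSum π s) = T := by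
    rw [hR0, hT, ← hveq, opSum_conv, opSum_sub, opSum_delta]
  set Φ := T * Φ0 * T with hΦ
  have hj : ∀ j : ℕ, ρ ((h : G) ^ j) * T = T * ρ ((h : G) ^ j) := fun j => by
    rw [hpowh]; exact hTh _
  have hjR : ∀ j : ℕ, ρ ((h : G) ^ j) * R0 = R0 * ρ ((h : G) ^ j) := fun j => by
    rw [hpowh]; exact hRh _
  have hsumΦ : ∑ j ∈ Finset.range p, ρ ((h : G) ^ j) * Φ * ρ ((h : G) ^ j)⁻¹ = T := by
    have e1 : ∀ j : ℕ, ρ ((h : G) ^ j) * Φ * ρ ((h : G) ^ j)⁻¹ =
        T * R0 * (ρ ((h : G) ^ j) * Fo * ρ ((h : G) ^ j)⁻¹) * T := fun j => by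
      have hji : T * ρ ((h : G) ^ j)⁻¹ = ρ ((h : G) ^ j)⁻¹ * T := by
        have := (hTh (h ^ j)⁻¹).symm
        simpa [π] using this
      rw [hΦ, hΦ0]
      calc ρ ((h : G) ^ j) * (T * (R0 * Fo) * T) * ρ ((h : G) ^ j)⁻¹
          = (ρ ((h : G) ^ j) * T) * R0 * Fo * (T * ρ ((h : G) ^ j)⁻¹) := by simp only [mul_assoc]
        _ = T * (ρ ((h : G) ^ j) * R0) * Fo * (ρ ((h : G) ^ j)⁻¹ * T) := by
            rw [hj, hji]; simp only [mul_assoc]
        _ = _ := by rw [hjR]; simp only [mul_assoc]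
    simp only [e1]
    rw [← Finset.sum_mul, ← Finset.mul_sum, hsplit, mul_assoc T R0, hTeq, hTT, hTT]
  have hTΦ : T * Φ = Φ * T := by
    rw [hΦ]
    simp only [← mul_assoc, hTT]
    rw [mul_assoc (T * Φ0) T T, hTT]
  -- powers of `h ^ p`
  set Q : Module.End ℂ (Fin n → ℂ) := ρ ((h : G) ^ p) with hQ
  have hQT : Q * T = T * Q := hj p
  have hQΦ : Q * Φ = Φ * Q := by
    rw [hΦ, hΦ0]
    calc Q * (T * (R0 * Fo) * T) = (Q * T) * R0 * Fo * T := by simp only [mul_assoc]
      _ = T * (Q * R0) * Fo * T := by rw [hQT]; simp only [mul_assoc]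
      _ = T * R0 * (Q * Fo) * T := by
          rw [show Q * R0 = R0 * Q from hjR p]; simp only [mul_assoc]
      _ = T * R0 * Fo * (Q * T) := by rw [hFp]; simp only [mul_assoc]
      _ = _ := by rw [hQT]; simp only [mul_assoc]
  set N := Nat.card G with hNdef
  have hN0 : N ≠ 0 := Nat.card_pos.ne'
  have hQN : Q ^ N = 1 := by rw [hQ, ← map_pow, hNdef, pow_card_eq_one', map_one]
  have hζ := Complex.isPrimitiveRoot_exp (p * N) (Nat.mul_ne_zero hp.ne_zero hN0)
  set ζ := Complex.exp (2 * Real.pi * Complex.I / ((p * N : ℕ) : ℂ))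
  set ω := ζ ^ p with hω
  have hωp : IsPrimitiveRoot ω N := hζ.pow (Nat.mul_pos hp.pos Nat.card_pos) rfl
  have hω0 : ω ≠ 0 := hωp.ne_zero hN0
  let pr : ℕ → Module.End ℂ (Fin n → ℂ) := fun i =>
    (N : ℂ)⁻¹ • ∑ k ∈ Finset.range N, (ω⁻¹ ^ i) ^ k • Q ^ k
  have hprc : ∀ i (F : Module.End ℂ (Fin n → ℂ)), Q * F = F * Q → pr i * F = F * pr i := by
    intro i F hF
    simp only [pr, smul_mul_assoc, mul_smul_comm, Finset.sum_mul, Finset.mul_sum]
    congr 1
    exact Finset.sum_congr rfl fun k _ => by rw [((show Commute Q F from hF).pow_left k).eq]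
  have hprQ : ∀ i, Q * pr i = ω ^ i • pr i := by
    intro i
    simp only [pr, mul_smul_comm, Finset.mul_sum]
    rw [smul_comm (ω ^ i)]
    congr 1
    rw [Finset.smul_sum]
    set a := ω⁻¹ ^ i with ha
    have haN : a ^ N = 1 := by
      rw [ha, ← pow_mul, mul_comm, pow_mul, inv_pow, hωp.pow_eq_one, inv_one, one_pow]
    have hai : ω ^ i * a = 1 := by rw [ha, ← mul_pow, mul_inv_cancel₀ hω0, one_pow]
    set F : ℕ → Module.End ℂ (Fin n → ℂ) := fun k => ω ^ i • a ^ k • Q ^ k with hF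
    have e1 : ∀ k, a ^ k • (Q * Q ^ k) = F (k + 1) := fun k => by
      simp only [hF]
      rw [← pow_succ', smul_smul, pow_succ' a, ← mul_assoc, hai, one_mul]
    rw [Finset.sum_congr rfl fun k _ => e1 k]
    have e2 : F N = F 0 := by simp only [hF, haN, hQN, pow_zero]
    have := (Finset.sum_range_succ' F N).symm.trans (Finset.sum_range_succ F N)
    rw [e2] at this
    exact add_right_cancel this
  have hidem : ∀ i, pr i * pr i = pr i := by
    intro i
    have e : ∀ k : ℕ, Q ^ k * pr i = (ω ^ i) ^ k • pr i := by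
      intro k
      induction k with
      | zero => simp
      | succ k ih =>
        rw [pow_succ Q, mul_assoc, hprQ, mul_smul_comm, ih, smul_smul, pow_succ (ω ^ i), mul_comm]
    conv_lhs => arg 1; simp only [pr]
    rw [smul_mul_assoc, Finset.sum_mul]
    simp only [smul_mul_assoc, e, smul_smul, ← mul_pow, inv_mul_cancel₀ hω0, one_pow, one_smul]
    rw [Finset.sum_const, Finset.card_range, ← Nat.cast_smul_eq_nsmul ℂ, smul_smul,
      inv_mul_cancel₀ (Nat.cast_ne_zero.mpr hN0), one_smul]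
  have hsum1 : ∑ i ∈ Finset.range N, pr i = 1 := by
    simp only [pr, ← Finset.smul_sum]
    rw [Finset.sum_comm]
    simp only [← Finset.sum_smul]
    rw [Finset.sum_eq_single 0]
    · simp only [pow_zero, Finset.sum_const, Finset.card_range, nsmul_eq_mul, mul_one, smul_smul]
      rw [inv_mul_cancel₀ (Nat.cast_ne_zero.mpr hN0), one_smul]
    · intro k hk hk0
      have hne1 : ω⁻¹ ^ k ≠ 1 := fun e => hk0 (by
        rw [inv_pow, inv_eq_one] at e
        exact Nat.eq_zero_of_dvd_of_lt (hωp.dvd_of_pow_eq_one k e) (Finset.mem_range.mp hk))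
      have hgz : ∑ i ∈ Finset.range N, (ω⁻¹ ^ i) ^ k = 0 := by
        have e1 : (∑ i ∈ Finset.range N, (ω⁻¹ ^ k) ^ i) * (ω⁻¹ ^ k - 1) = 0 := by
          rw [geom_sum_mul, ← pow_mul, mul_comm, pow_mul, inv_pow, hωp.pow_eq_one, inv_one, one_pow,
            sub_self]
        rw [Finset.sum_congr rfl fun i _ => by rw [← pow_mul, mul_comm, pow_mul]]
        exact (mul_eq_zero.mp e1).resolve_right (sub_ne_zero.mpr hne1)
      rw [hgz, zero_smul]
    · intro h0; exact absurd (Finset.mem_range.mpr (Nat.pos_of_ne_zero hN0)) h0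
  -- the lattice
  let gen : G × Fin n → (Fin n → ℂ) := fun x => ρ x.1 (Pi.single x.2 1)
  let Λ : Submodule V (Fin n → ℂ) := Submodule.span V (Set.range gen)
  have hfg : Λ.FG := Submodule.fg_span (Set.finite_range gen)
  have hspan : Submodule.span ℂ (Λ : Set (Fin n → ℂ)) = ⊤ := by
    rw [eq_top_iff, ← (Pi.basisFun ℂ (Fin n)).span_eq, Submodule.span_le]
    rintro _ ⟨i, rfl⟩
    exact Submodule.subset_span (Submodule.subset_span ⟨(1, i), by simp [gen]⟩)
  have hstabρ : ∀ g : G, Stab Λ (ρ g) := by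
    intro g x hx
    induction hx using Submodule.span_induction with
    | mem x hx =>
      obtain ⟨⟨g', i⟩, rfl⟩ := hx
      exact Submodule.subset_span ⟨(g * g', i), by simp [gen]⟩
    | zero => simp
    | add x y _ _ hx hy => rw [map_add]; exact Submodule.add_mem _ hx hy
    | smul a x _ hx =>
      rw [show (a • x : Fin n → ℂ) = (a : ℂ) • x from rfl, map_smul]
      exact Λ.smul_mem a hx
  have hstab_sum : ∀ {K : Type u} [Group K] [Fintype K] (π' : K →* Module.End ℂ (Fin n → ℂ))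
      (f' : K → ℂ), (∀ k, Stab Λ (π' k)) → (∀ k, MemLocalRing M (f' k)) → Stab Λ (opSum π' f') := by
    intro K _ _ π' f' h1 h2 x hx
    rw [opSum, LinearMap.sum_apply]
    refine Submodule.sum_mem _ fun k _ => ?_
    exact Λ.smul_mem ⟨f' k, hV _ (h2 k)⟩ (h1 k x hx)
  have hstabΦ : Stab Λ Φ := by
    have hT' : Stab Λ T := hstab_sum π _ (fun k => hstabρ k) (memLR_blockCoeff hM hb)
    have hR' : Stab Λ R0 := hstab_sum π _ (fun k => hstabρ k) hvI.2
    have hF' : Stab Λ Fo := hstab_sum (ρ : G →* Module.End ℂ (Fin n → ℂ)) _ hstabρ fun g => by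
      simp only [hf]
      split_ifs
      exacts [hEI.2 g, memLR_zero hP]
    intro x hx
    exact hT' _ (hR' _ (hF' _ (hT' x hx)))
  -- the trace
  have hzero : ∀ i, LinearMap.trace ℂ _ (pr i * T * ρ (h : G)) = 0 := by
    intro i
    set c := ζ ^ i with hc
    have hcp : c ^ p = ω ^ i := by rw [hc, hω, ← pow_mul, ← pow_mul, mul_comm]
    have hζ0 : ζ ≠ 0 := hζ.ne_zero (Nat.mul_ne_zero hp.ne_zero hN0)
    have hc0 : c ≠ 0 := pow_ne_zero _ hζ0
    have hcV : c⁻¹ ∈ V := mem_of_pow_eq_one V (Nat.mul_ne_zero hp.ne_zero hN0)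
      (show c⁻¹ ^ (p * N) = 1 by
        rw [inv_pow, hc, ← pow_mul, mul_comm, pow_mul, hζ.pow_eq_one, one_pow, inv_one])
    have hhQ : Q * ρ (h : G) = ρ (h : G) * Q := by
      rw [hQ, ← map_mul, ← map_mul, ← pow_succ, ← pow_succ']
    have hhT : ρ (h : G) * T = T * ρ (h : G) := hTh h
    have hprT : pr i * T = T * pr i := hprc i T hQT
    refine trace_range_eq_zero hp hpV Λ hfg hspan (pr i * T) (ρ (h : G)) Φ hc0 hcV ?_ ?_ ?_ ?_ ?_
      (hstabρ _) hstabΦ
    · calc pr i * T * (pr i * T) = pr i * (T * pr i) * T := by simp only [mul_assoc]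
        _ = pr i * pr i * (T * T) := by rw [← hprT]; simp only [mul_assoc]
        _ = _ := by rw [hidem, hTT]
    · rw [mul_assoc, ← hhT, ← mul_assoc, hprc i _ hhQ, mul_assoc]
    · rw [mul_assoc, hTΦ, ← mul_assoc, hprc i _ hQΦ, mul_assoc]
    · rw [← map_pow, ← hQ, ← mul_assoc, hprQ, hcp, smul_mul_assoc]
    · rw [← Finset.smul_sum, smul_mul_assoc]
      have e : ∀ j ∈ Finset.range p, ρ (h : G) ^ j * Φ * ρ (h : G) ^ (p - j) =
          ρ ((h : G) ^ j) * Φ * ρ ((h : G) ^ j)⁻¹ * Q := by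
        intro j hj
        rw [← map_pow, ← map_pow, mul_assoc (ρ ((h : G) ^ j) * Φ), hQ, ← map_mul]
        congr 2
        rw [pow_sub _ (Finset.mem_range.mp hj).le]
        exact (((Commute.refl (h : G)).pow_pow p j).inv_right).eq
      rw [Finset.sum_congr rfl e, ← Finset.sum_mul, hsumΦ, inv_pow, hcp,
        mul_assoc, ← mul_assoc Q, hprQ, smul_mul_assoc, mul_smul_comm, ← mul_assoc, ← hprT,
        mul_assoc, hTT, smul_smul, inv_mul_cancel₀ (pow_ne_zero _ hω0), one_smul]
  have htr : LinearMap.trace ℂ _ (T * ρ (h : G)) = 0 := by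
    rw [← one_mul T, ← hsum1, Finset.sum_mul, Finset.sum_mul, map_sum]
    exact Finset.sum_eq_zero fun i _ => hzero i
  refine Eq.trans ?_ htr
  simp only [hT, opSum, Finset.sum_mul, map_sum, smul_mul_assoc, map_smul, smul_eq_mul]
  exact Finset.sum_congr rfl fun k _ => by
    simp [Representation.character, π, ← map_mul]

end Main

end Cfsg.Agent.Char
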