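import Cfsg.Agent.Lib.Char.IdemLift
import Cfsg.Agent.Lib.Char.SecondMain
import Cfsg.Agent.Lib.Char.BrauerHom
import Cfsg.Agent.Lib.Char.Realizable

/-!
# The group algebra over the local ring of algebraic integers

Coefficients, the action on a representation, traces of idempotents, inverses near the identity, and
multiplicativity of restriction to the centralizer of a `p`-subgroup.
-/

set_option autoImplicit false
set_option linter.unusedSectionVars false

namespace Cfsg.Agent.Char.IdemAlg

open Cfsg Module Polynomial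
open scoped ComplexConjugate

universe u

variable {G : Type u} [Group G] [Fintype G] {M : Ideal AlgInt} {p : ℕ} {hP : M.IsPrime}

/-- The group algebra over the local ring. -/
abbrev OA (hP : M.IsPrime) (G : Type u) [Group G] : Type u := MonoidAlgebra (locRing hP) G

/-- The coefficient of a group element, as a complex number. -/
noncomputable def co (x : OA hP G) (g : G) : ℂ := ((x.coeff g : locRing hP) : ℂ)

/-- A group element in the group algebra. -/
noncomputable def gen (hP : M.IsPrime) (g : G) : OA hP G := MonoidAlgebra.single g 1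

theorem memLR_co (x : OA hP G) (g : G) : MemLocalRing M (co x g) := (x.coeff g).2

theorem ext_co {x y : OA hP G} (h : ∀ g, co x g = co y g) : x = y :=
  MonoidAlgebra.coeff_injective (Finsupp.ext fun g => Subtype.ext (h g))

theorem co_add (x y : OA hP G) : co (x + y) = co x + co y := by
  funext g; simp [co]

theorem co_sub (x y : OA hP G) : co (x - y) = co x - co y := by
  funext g; simp [co]

theorem co_zero : co (0 : OA hP G) = 0 := by
  funext g; simp [co]

theorem co_smul (c : locRing hP) (x : OA hP G) : co (c • x) = (c : ℂ) • co x := by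
  funext g; simp [co]

theorem co_sum {ι : Type*} (s : Finset ι) (f : ι → OA hP G) : co (∑ i ∈ s, f i) = ∑ i ∈ s, co (f i) := by
  classical
  induction s using Finset.induction_on with
  | empty => simp [co_zero]
  | insert a s ha ih => rw [Finset.sum_insert ha, Finset.sum_insert ha, co_add, ih]

theorem co_one : co (1 : OA hP G) = delta := by
  classical
  funext g
  rw [delta_apply, co, MonoidAlgebra.one_def, MonoidAlgebra.coeff_single, Finsupp.single_apply]
  by_cases hg : g = 1
  · simp [hg]
  · simp [hg, Ne.symm hg]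

theorem co_mul (x y : OA hP G) : co (x * y) = conv (co x) (co y) := by
  funext g
  simp only [co, conv, MonoidAlgebra.coeff_mul_apply_left]
  rw [Finsupp.sum_fintype _ _ (fun i => zero_mul _), AddSubmonoidClass.coe_finset_sum]
  rfl

open scoped Classical in
theorem co_gen (g h : G) : co (gen hP g) h = if g = h then 1 else 0 := by
  rw [co, gen, MonoidAlgebra.coeff_single, Finsupp.single_apply]
  split_ifs <;> simp

theorem co_gen_mul (g : G) (x : OA hP G) (h : G) : co (gen hP g * x) h = co x (g⁻¹ * h) := by
  simp [co, gen]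

theorem co_mul_gen (g : G) (x : OA hP G) (h : G) : co (x * gen hP g) h = co x (h * g⁻¹) := by
  simp [co, gen]

theorem co_conj (g : G) (x : OA hP G) (h : G) :
    co (gen hP g * x * gen hP g⁻¹) h = co x (g⁻¹ * h * g) := by
  rw [co_mul_gen, co_gen_mul, inv_inv, mul_assoc]

theorem gen_mul (g h : G) : gen hP (g * h) = gen hP g * gen hP h := by
  simp [gen]

theorem gen_one : gen hP (1 : G) = 1 := rfl

theorem commute_gen_iff (g : G) (x : OA hP G) :
    Commute (gen hP g) x ↔ ∀ h, co x (g * h * g⁻¹) = co x h := by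
  constructor
  · intro hc h
    have := congrArg (fun w => co w (g * h)) hc.eq
    simp only [co_gen_mul, co_mul_gen, inv_mul_cancel_left] at this
    exact this.symm
  · intro hc
    refine ext_co fun h => ?_
    rw [co_gen_mul, co_mul_gen, ← hc (g⁻¹ * h)]
    congr 1
    group

/-- The element with given coefficients. -/
noncomputable def ofFun (hP : M.IsPrime) (f : G → ℂ) (hf : ∀ g, MemLocalRing M (f g)) : OA hP G :=
  MonoidAlgebra.ofCoeff (Finsupp.equivFunOnFinite.symm fun g => (⟨f g, hf g⟩ : locRing hP))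

theorem co_ofFun (f : G → ℂ) (hf : ∀ g, MemLocalRing M (f g)) : co (ofFun hP f hf) = f := by
  funext g
  simp [co, ofFun]

/-- The basis of group elements. -/
noncomputable def basis (hP : M.IsPrime) (G : Type u) [Group G] : Basis G (locRing hP) (OA hP G) :=
  Basis.ofRepr (MonoidAlgebra.coeffLinearEquiv _)

instance finite_oa (hP : M.IsPrime) : Module.Finite (locRing hP) (OA hP G) :=
  Module.Finite.of_basis (basis hP G)

theorem exists_monic (x : OA hP G) : ∃ P : (locRing hP)[X], P.Monic ∧ aeval x P = 0 :=
  IsIntegral.of_finite (locRing hP) x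

section Ev

variable {n : ℕ} (ρ : G →* Module.End ℂ (Fin n → ℂ))

/-- The action on a representation. -/
noncomputable def ev : OA hP G →+* Module.End ℂ (Fin n → ℂ) where
  toFun x := opSum ρ (co x)
  map_one' := by rw [co_one, opSum_delta]
  map_mul' x y := by rw [co_mul, opSum_conv]
  map_zero' := by simp [co_zero, opSum]
  map_add' x y := by simp [co_add, opSum, add_smul, Finset.sum_add_distrib]

theorem ev_apply (x : OA hP G) : ev ρ x = opSum ρ (co x) := rfl

theorem ev_gen (g : G) : ev (hP := hP) ρ (gen hP g) = ρ g := by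
  classical
  simp [ev_apply, opSum, co_gen, ite_smul]

theorem ev_smul (c : locRing hP) (x : OA hP G) : ev ρ (c • x) = (c : ℂ) • ev ρ x := by
  simp [ev_apply, opSum, co_smul, Finset.smul_sum, smul_smul]

end Ev

/-- A function evaluated on the group algebra. -/
noncomputable def trC (f : G → ℂ) (x : OA hP G) : ℂ := ∑ g, co x g * f g

theorem trC_add (f : G → ℂ) (x y : OA hP G) : trC f (x + y) = trC f x + trC f y := by
  simp [trC, co_add, add_mul, Finset.sum_add_distrib]

theorem trC_sub (f : G → ℂ) (x y : OA hP G) : trC f (x - y) = trC f x - trC f y := by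
  simp [trC, co_sub, sub_mul, Finset.sum_sub_distrib]

theorem trC_smul (f : G → ℂ) (c : locRing hP) (x : OA hP G) : trC f (c • x) = (c : ℂ) * trC f x := by
  simp [trC, co_smul, mul_assoc, Finset.mul_sum]

theorem trC_zero (f : G → ℂ) : trC f (0 : OA hP G) = 0 := by
  simp [trC, co_zero]

theorem trC_sum {ι : Type*} (f : G → ℂ) (s : Finset ι) (x : ι → OA hP G) :
    trC f (∑ i ∈ s, x i) = ∑ i ∈ s, trC f (x i) := by
  simp only [trC, co_sum, Finset.sum_apply, Finset.sum_mul]
  exact Finset.sum_comm

theorem trC_gen (f : G → ℂ) (g : G) : trC f (gen hP g) = f g := by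
  classical
  simp [trC, co_gen]

theorem trC_gen_mul (f : G → ℂ) (g : G) (x : OA hP G) :
    trC f (gen hP g * x) = ∑ h, co x h * f (g * h) := by
  simp only [trC, co_gen_mul]
  exact Fintype.sum_equiv (Equiv.mulLeft g⁻¹) _ _ fun h => by simp

theorem memLI_trC_sub {f : G → ℂ} (hf : ∀ g, MemLocalRing M (f g)) {x y : OA hP G}
    (h : ∀ g, MemLocalIdeal M (co x g - co y g)) : MemLocalIdeal M (trC f x - trC f y) := by
  simp only [trC, ← Finset.sum_sub_distrib, ← sub_mul]
  exact memLI_sum hP _ _ fun g _ => memLI_mul_right hP (h g) (hf g)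

theorem trC_eq_trace {n : ℕ} (ρ : Representation ℂ G (Fin n → ℂ)) (x : OA hP G) :
    trC ρ.character x = LinearMap.trace ℂ _ (ev ρ x) := by
  simp [trC, ev_apply, opSum, Representation.character]

theorem trC_mul_comm {χ : G → ℂ} (h : IsCharacter G χ) (x y : OA hP G) :
    trC χ (x * y) = trC χ (y * x) := by
  obtain ⟨n, ρ, rfl⟩ := h
  rw [trC_eq_trace, trC_eq_trace, map_mul (ev (hP := hP) _), map_mul (ev (hP := hP) _), LinearMap.trace_mul_comm]

/-- The trace of an idempotent is a natural number. -/
theorem exists_nat_trC {χ : G → ℂ} (h : IsCharacter G χ) {e : OA hP G} (he : IsIdempotentElem e) :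
    ∃ n : ℕ, trC χ e = n := by
  obtain ⟨m, ρ, rfl⟩ := h
  have h1 : IsIdempotentElem (ev (hP := hP) (ρ : G →* Module.End ℂ (Fin m → ℂ)) e) := he.map _
  exact ⟨_, (trC_eq_trace ρ e).trans (LinearMap.IsIdempotentElem.isProj_range _ h1).trace⟩

/-- The rank of an idempotent. -/
theorem exists_rank {e : OA hP G} (he : IsIdempotentElem e) :
    ∃ n : ℕ, (Nat.card G : ℂ) * co e 1 = n ∧ (n = 0 → e = 0) := by
  classical
  let L := Algebra.leftMulMatrix (basis hP G) e
  have hL : ∀ i j, ((L i j : locRing hP) : ℂ) = co e (i * j⁻¹) := fun i j => by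
    rw [← co_mul_gen]
    simp only [L, Algebra.leftMulMatrix_eq_repr_mul, basis, Basis.coe_ofRepr]
    rfl
  let T : Module.End ℂ (G → ℂ) := Matrix.toLinAlgEquiv' (L.map (locRing hP).subtype)
  have hT : IsIdempotentElem T :=
    ((he.map (Algebra.leftMulMatrix (basis hP G))).map (locRing hP).subtype.mapMatrix).map
      (Matrix.toLinAlgEquiv' : Matrix G G ℂ ≃ₐ[ℂ] _)
  have htr : LinearMap.trace ℂ _ T = (Nat.card G : ℂ) * co e 1 := by
    show LinearMap.trace ℂ _ (Matrix.toLin' (L.map (locRing hP).subtype)) = _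
    rw [Matrix.trace_toLin'_eq, Matrix.trace, Finset.sum_congr rfl (g := fun _ => co e 1) fun i _ => by
      rw [Matrix.diag_apply, Matrix.map_apply, Subring.coe_subtype, hL, mul_inv_cancel],
      Finset.sum_const, Finset.card_univ, nsmul_eq_mul, Nat.card_eq_fintype_card]
  refine ⟨finrank ℂ (LinearMap.range T), htr.symm.trans (LinearMap.IsIdempotentElem.isProj_range _ hT).trace, fun h0 => ?_⟩
  have hT0 : T = 0 := LinearMap.IsIdempotentElem.eq_zero_of_trace_eq_zero hT
    (by rw [(LinearMap.IsIdempotentElem.isProj_range _ hT).trace, h0, Nat.cast_zero])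
  refine Algebra.leftMulMatrix_injective (basis hP G) ?_
  rw [map_zero]
  refine Matrix.map_injective (f := (locRing hP).subtype) Subtype.val_injective ?_
  refine (Matrix.toLinAlgEquiv' : Matrix G G ℂ ≃ₐ[ℂ] _).injective (hT0.trans ?_)
  simp

/-- Inverse of `1 - m` as a polynomial in `m`. -/
theorem exists_inv_one_sub (m : OA hP G) (h : ∀ g, MemLocalIdeal M (co m g)) :
    ∃ f : (locRing hP)[X], aeval m f * (1 - m) = 1 := by
  classical
  set L := Algebra.leftMulMatrix (basis hP G) m
  set P := L.charpoly
  have hann : aeval m P = 0 := Algebra.leftMulMatrix_injective (basis hP G) (by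
    rw [← aeval_algHom_apply, map_zero]
    exact Matrix.aeval_self_charpoly L)
  have hred : L.map (redHom hP) = 0 := by
    ext i j
    rw [Matrix.map_apply, Matrix.zero_apply, redHom_apply]
    refine (red_eq_zero_iff hP (Subtype.prop _)).mpr ?_
    have hL : ((L i j : locRing hP) : ℂ) = co m (i * j⁻¹) := by
      rw [← co_mul_gen]
      simp only [L, Algebra.leftMulMatrix_eq_repr_mul, basis, Basis.coe_ofRepr]
      rfl
    rw [hL]
    exact h (i * j⁻¹)
  have h1 : redHom hP (P.eval 1) = 1 := by
    rw [← eval_map_apply, map_one, ← Matrix.charpoly_map, hred, Matrix.charpoly_zero]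
    simp
  have hu : IsUnit (P.eval 1) := IdemLift.isUnit_of_not_mem hP fun hI => by
    rw [redHom_apply, (red_eq_zero_iff hP (Subtype.prop _)).mpr hI] at h1
    exact zero_ne_one h1
  obtain ⟨b, hb⟩ := isUnit_iff_exists_inv.mp hu
  obtain ⟨Q, hQ⟩ := X_sub_C_dvd_sub_C_eval (a := (1 : locRing hP)) (p := P)
  refine ⟨C b * Q, ?_⟩
  have h2 := congrArg (aeval m) hQ
  rw [map_sub, map_mul, map_sub, hann, aeval_X, aeval_C, aeval_C, map_one, zero_sub] at h2
  have h3 : aeval m Q * (1 - m) = algebraMap _ _ (P.eval 1) := by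
    have hc : aeval m Q * m = m * aeval m Q := by
      conv_lhs => arg 2; rw [← aeval_X (R := locRing hP) m]
      rw [← map_mul, mul_comm Q, map_mul, aeval_X]
    rw [mul_sub, mul_one, hc, ← neg_neg (algebraMap (locRing hP) (OA hP G) (P.eval 1)), h2, sub_mul,
      one_mul, neg_sub]
  rw [map_mul, aeval_C, mul_assoc, h3, ← map_mul, mul_comm b, hb, map_one]

open scoped Classical in
/-- Restriction to the centralizer is multiplicative modulo `M`. -/
theorem mul_congr (hM : IsPModular p M) {S : Subgroup G} (hS : IsPGroup p S) {x y : OA hP G}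
    (hx : ∀ u ∈ S, Commute (gen hP u) x) (hy : ∀ u ∈ S, Commute (gen hP u) y) {g : G}
    (hg : g ∈ Subgroup.centralizer (S : Set G)) :
    MemLocalIdeal M (co (x * y) g -
      ∑ w : G with w ∈ Subgroup.centralizer (S : Set G), co x w * co y (w⁻¹ * g)) := by
  rw [co_mul]
  refine sum_centralizer_congr hM hS (fun w => co x w * co y (w⁻¹ * g))
    (fun w => memLR_mul hP (memLR_co x w) (memLR_co y _)) fun u hu w => ?_
  rw [(commute_gen_iff u x).mp (hx u hu) w]
  congr 1
  have h1 : u * g = g * u := hg u hu
  rw [← (commute_gen_iff u y).mp (hy u hu) (w⁻¹ * g)]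
  congr 1
  calc (u * w * u⁻¹)⁻¹ * g = u * w⁻¹ * u⁻¹ * (g * u) * u⁻¹ := by group
    _ = u * w⁻¹ * u⁻¹ * (u * g) * u⁻¹ := by rw [h1]
    _ = u * (w⁻¹ * g) * u⁻¹ := by group

end Cfsg.Agent.Char.IdemAlg
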