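import Cfsg.Agent.Lib.Char.BlockMatrix

/-!
# Idempotents over a surjection onto matrix algebras

A ring surjecting onto a product of matrix algebras, with units detected by the image and idempotents liftable
inside corners: every additive function invariant under `x * y ↦ y * x` takes on an idempotent the combination
of its values on rank one idempotents given by the ranks of the image.
-/

set_option autoImplicit false
set_option linter.unusedSectionVars false

namespace Cfsg.Agent.Char.IdemClass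

open Matrix

variable {k A : Type*} [Field k] [Ring A] {m : ℕ} {d : Fin m → ℕ}

/-- The hypotheses on a surjection onto matrix algebras. -/
structure Good (π : A →+* ∀ j, Matrix (Fin (d j)) (Fin (d j)) k) : Prop where
  surj : Function.Surjective π
  unit : ∀ a, π a = 0 → IsUnit (1 - a)
  lift : ∀ e x : A, IsIdempotentElem e → e * x = x → x * e = x → IsIdempotentElem (π x) →
    ∃ f, IsIdempotentElem f ∧ e * f = f ∧ f * e = f ∧ π f = π x

variable {π : A →+* ∀ j, Matrix (Fin (d j)) (Fin (d j)) k} (h : Good π)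
  {V : Type*} [AddCommGroup V] (τ : A →+ V) (hτ : ∀ x y, τ (x * y) = τ (y * x))
include h hτ

/-- Idempotents with the same image have the same value. -/
theorem eq_of_image_eq {a b : A} (ha : IsIdempotentElem a) (hb : IsIdempotentElem b)
    (hab : π a = π b) : τ a = τ b := by
  set w := a * b + (1 - a) * (1 - b) with hw
  have h1 : π (1 - w) = 0 := by
    rw [hw, map_sub, map_add, map_mul, map_mul, map_sub, map_sub, map_one, hab]
    have := (hb.map π).eq
    simp only [sub_mul, mul_sub, one_mul, mul_one, this]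
    abel
  obtain ⟨u, hu⟩ : IsUnit w := by simpa using h.unit _ h1
  have e1 : a * w = a * b := by
    rw [hw, mul_add, ← mul_assoc, ha.eq, ← mul_assoc, show a * (1 - a) = 0 by rw [mul_sub, mul_one, ha.eq, sub_self],
      zero_mul, add_zero]
  have e2 : w * b = a * b := by
    rw [hw, add_mul, mul_assoc, hb.eq, mul_assoc, sub_mul 1 b b, one_mul, hb.eq, sub_self, mul_zero,
      add_zero]
  calc τ a = τ (a * w * (u⁻¹ : Aˣ)) := by rw [← hu, Units.mul_inv_cancel_right]
    _ = τ ((u⁻¹ : Aˣ) * (w * b)) := by rw [hτ, e1, e2]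
    _ = τ b := by rw [← hu, Units.inv_mul_cancel_left]

/-- An idempotent splits along a splitting of its image. -/
theorem exists_split {e : A} (he : IsIdempotentElem e) {q : ∀ j, Matrix (Fin (d j)) (Fin (d j)) k}
    (hq : IsIdempotentElem q) (h1 : π e * q = q) (h2 : q * π e = q) :
    ∃ f, IsIdempotentElem f ∧ IsIdempotentElem (e - f) ∧ π f = q ∧ τ e = τ f + τ (e - f) := by
  obtain ⟨x0, hx0⟩ := h.surj q
  have hπ : π (e * x0 * e) = q := by rw [map_mul, map_mul, hx0, h1, h2]
  obtain ⟨f, hf, hef, hfe, hfq⟩ := h.lift e (e * x0 * e) he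
    (by rw [← mul_assoc, ← mul_assoc, he.eq]) (by rw [mul_assoc, he.eq]) (by rw [hπ]; exact hq)
  refine ⟨f, hf, ?_, hfq.trans hπ, by rw [← map_add, add_sub_cancel]⟩
  show (e - f) * (e - f) = e - f
  rw [sub_mul, mul_sub, mul_sub, he.eq, hef, hfe, hf.eq, sub_self, sub_zero]

/-- Idempotents with equivalent images have the same value. -/
theorem eq_of_image_equiv {f g : A} (hf : IsIdempotentElem f) (hg : IsIdempotentElem g)
    {a b : ∀ j, Matrix (Fin (d j)) (Fin (d j)) k} (hab : π f = a * b) (hba : π g = b * a) :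
    τ f = τ g := by
  obtain ⟨A0, hA0⟩ := h.surj a
  obtain ⟨B0, hB0⟩ := h.surj b
  set a' := f * A0 * g with ha'
  set b' := g * B0 * f with hb'
  have hfq := (hf.map π).eq
  have hgq := (hg.map π).eq
  rw [hab] at hfq
  rw [hba] at hgq
  have hπab : π (a' * b') = a * b := by
    simp only [ha', hb', map_mul, hA0, hB0, hab, hba]
    calc a * b * a * (b * a) * (b * a * b * (a * b))
        = a * b * (a * b) * (a * b) * (a * b) * (a * b) := by simp only [mul_assoc]
      _ = a * b := by simp only [hfq]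
  set z := f - a' * b' with hz
  have hz0 : π z = 0 := by rw [hz, map_sub, hπab, hab, sub_self]
  obtain ⟨u, hu⟩ := h.unit z hz0
  have hfa : f * a' = a' := by rw [ha', ← mul_assoc, ← mul_assoc, hf.eq]
  have hbf : b' * f = b' := by rw [hb', mul_assoc, hf.eq]
  have hfu : f * u = a' * b' := by
    rw [hu, mul_sub, mul_one, hz, mul_sub, hf.eq, ← mul_assoc f a', hfa, sub_sub_cancel]
  have huf : (u : A) * f = a' * b' := by
    rw [hu, sub_mul, one_mul, hz, sub_mul, hf.eq, mul_assoc, hbf, sub_sub_cancel]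
  set a'' := (u⁻¹ : Aˣ) * a' with ha''
  have hab'' : a'' * b' = f := by
    rw [ha'', mul_assoc, ← huf, Units.inv_mul_cancel_left]
  have hfa'' : f * a'' = a'' := by
    have hc : f * (u⁻¹ : Aˣ) = (u⁻¹ : Aˣ) * f := by
      rw [← Units.inv_mul_cancel_left u (f * (u⁻¹ : Aˣ) : A), ← mul_assoc (u : A), huf, ← hfu,
        mul_assoc, Units.mul_inv, mul_one]
    rw [ha'', ← mul_assoc, hc, mul_assoc, hfa]
  have hg' : IsIdempotentElem (b' * a'') := by
    show b' * a'' * (b' * a'') = b' * a''
    rw [← mul_assoc, mul_assoc b' a'' b', hab'', mul_assoc, hfa'']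
  have hπu : π (u : A) = 1 := by rw [hu, map_sub, map_one, hz0, sub_zero]
  have hπui : π ((u⁻¹ : Aˣ) : A) = 1 := by
    have := congrArg π u.inv_mul
    rwa [map_mul, map_one, hπu, mul_one] at this
  have hπg : π (b' * a'') = π g := by
    simp only [ha'', map_mul, hπui, one_mul]
    simp only [ha', hb', map_mul, hA0, hB0, hab, hba]
    calc b * a * b * (a * b) * (a * b * a * (b * a))
        = b * a * (b * a) * (b * a) * (b * a) * (b * a) := by simp only [mul_assoc]
      _ = b * a := by simp only [hgq]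
  calc τ f = τ (a'' * b') := by rw [hab'']
    _ = τ (b' * a'') := hτ _ _
    _ = τ g := eq_of_image_eq h τ hτ hg' hg hπg

omit hτ in
/-- Lifts of the standard rank one idempotents. -/
theorem exists_rank_one (hd : ∀ j : Fin m, 0 < d j) : ∃ f : Fin m → A, ∀ j, IsIdempotentElem (f j) ∧
    π (f j) = Pi.single j (single (⟨0, hd j⟩ : Fin (d j)) ⟨0, hd j⟩ (1 : k)) := by
  classical
  have key : ∀ j : Fin m, ∃ f : A, IsIdempotentElem f ∧
      π f = Pi.single j (single (⟨0, hd j⟩ : Fin (d j)) ⟨0, hd j⟩ (1 : k)) := by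
    intro j
    obtain ⟨x, hx⟩ := h.surj (Pi.single j (single (⟨0, hd j⟩ : Fin (d j)) ⟨0, hd j⟩ (1 : k)))
    have hi : IsIdempotentElem (π x) := by
      show π x * π x = π x
      rw [hx, ← Pi.single_mul, Matrix.single_mul_single_same, mul_one]
    obtain ⟨f, hf, -, -, hfq⟩ := h.lift 1 x IsIdempotentElem.one (one_mul x) (mul_one x) hi
    exact ⟨f, hf, hfq.trans hx⟩
  choose f hf using key
  exact ⟨f, hf⟩

omit h hτ in
theorem exists_rank_one_below {n : ℕ} {q : Matrix (Fin n) (Fin n) k} (hq : IsIdempotentElem q)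
    (hq0 : q ≠ 0) : ∃ v w : Fin n → k, w ⬝ᵥ v = 1 ∧ q *ᵥ v = v ∧ w ᵥ* q = w ∧
      (q - vecMulVec v w).rank < q.rank := by
  classical
  obtain ⟨i, j, hij⟩ : ∃ i j, q i j ≠ 0 := by
    by_contra hno
    push Not at hno
    exact hq0 (Matrix.ext hno)
  set v : Fin n → k := q *ᵥ Pi.single j 1 with hv
  have hqv : q *ᵥ v = v := by rw [hv, Matrix.mulVec_mulVec, hq.eq]
  set w0 : Fin n → k := Pi.single i (q i j)⁻¹ with hw0
  have hw0v : w0 ⬝ᵥ v = 1 := by
    rw [hw0, single_dotProduct, hv, Matrix.mulVec_single_one, Matrix.col_apply, inv_mul_cancel₀ hij]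
  refine ⟨v, w0 ᵥ* q, by rw [← Matrix.dotProduct_mulVec, hqv, hw0v], hqv,
    by rw [Matrix.vecMul_vecMul, hq.eq], ?_⟩
  set w := w0 ᵥ* q
  have hwv : w ⬝ᵥ v = 1 := by rw [← Matrix.dotProduct_mulVec, hqv, hw0v]
  have hwq : w ᵥ* q = w := by rw [Matrix.vecMul_vecMul, hq.eq]
  refine Submodule.finrank_lt_finrank_of_lt ?_
  refine lt_of_le_of_ne ?_ fun e => ?_
  · rintro _ ⟨y, rfl⟩
    refine ⟨y - (w ⬝ᵥ y) • v, ?_⟩
    simp only [Matrix.mulVecLin_apply, Matrix.mulVec_sub, Matrix.mulVec_smul, hqv, Matrix.sub_mulVec,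
      Matrix.vecMulVec_mulVec]
    simp
  · have hmem : v ∈ LinearMap.range q.mulVecLin := ⟨v, hqv⟩
    rw [← e] at hmem
    obtain ⟨y, hy⟩ := hmem
    rw [Matrix.mulVecLin_apply, Matrix.sub_mulVec, Matrix.vecMulVec_mulVec] at hy
    have := congrArg (fun z => w ⬝ᵥ z) hy
    simp only [dotProduct_sub, dotProduct_smul, Matrix.dotProduct_mulVec, hwq, hwv, op_smul_eq_smul,
      smul_eq_mul, mul_one, sub_self] at this
    exact zero_ne_one this

/-- The value on an idempotent is a combination of the values on rank one idempotents, with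
coefficients independent of the function. -/
theorem exists_nat_comb_aux (hd : ∀ j : Fin m, 0 < d j) {f : Fin m → A}
    (hf : ∀ j, IsIdempotentElem (f j) ∧
      π (f j) = Pi.single j (single (⟨0, hd j⟩ : Fin (d j)) ⟨0, hd j⟩ (1 : k))) :
    ∀ (n : ℕ) (e : A), IsIdempotentElem e → ∑ j, (π e j).rank = n →
      τ e = ∑ j, (π e j).rank • τ (f j) := by
  classical
  intro n
  induction n using Nat.strong_induction_on with
  | _ n ih =>
    intro e he hn
    by_cases h0 : π e = 0
    · rw [eq_of_image_eq h τ hτ he IsIdempotentElem.zero (h0.trans (map_zero π).symm), map_zero]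
      refine (Finset.sum_eq_zero fun j _ => ?_).symm
      rw [h0, Pi.zero_apply, Matrix.rank_zero, zero_smul]
    obtain ⟨j, hj⟩ := Function.ne_iff.1 h0
    have hqj : IsIdempotentElem (π e j) := congrFun (he.map π).eq j
    obtain ⟨v, w, hwv, hqv, hwq, hlt⟩ := exists_rank_one_below hqj hj
    set q1 : ∀ i, Matrix (Fin (d i)) (Fin (d i)) k := Pi.single j (vecMulVec v w) with hq1
    have hq1i : IsIdempotentElem q1 := by
      show q1 * q1 = q1
      rw [hq1, ← Pi.single_mul, Matrix.vecMulVec_mul_vecMulVec, hwv, one_smul]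
    have hl : π e * q1 = q1 := by
      funext i
      by_cases hi : i = j
      · subst hi
        rw [Pi.mul_apply, hq1, Pi.single_eq_same, Matrix.mul_vecMulVec, hqv]
      · rw [Pi.mul_apply, hq1, Pi.single_eq_of_ne hi, mul_zero]
    have hr : q1 * π e = q1 := by
      funext i
      by_cases hi : i = j
      · subst hi
        rw [Pi.mul_apply, hq1, Pi.single_eq_same, Matrix.vecMulVec_mul, hwq]
      · rw [Pi.mul_apply, hq1, Pi.single_eq_of_ne hi, zero_mul]
    obtain ⟨f1, hf1, hrest, hπf1, hsplit⟩ := exists_split h τ hτ he hq1i hl hr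
    set e0 : Fin (d j) → k := Pi.single ⟨0, hd j⟩ 1 with he0
    have h00 : e0 ⬝ᵥ e0 = 1 := by rw [he0, single_dotProduct, Pi.single_eq_same, mul_one]
    have hval1 : τ f1 = τ (f j) := by
      refine eq_of_image_equiv h τ hτ hf1 (hf j).1
        (a := Pi.single j (vecMulVec v e0)) (b := Pi.single j (vecMulVec e0 w)) ?_ ?_
      · rw [hπf1, hq1, ← Pi.single_mul, Matrix.vecMulVec_mul_vecMulVec, h00, one_smul]
      · rw [(hf j).2, ← Pi.single_mul, Matrix.vecMulVec_mul_vecMulVec, hwv, one_smul]
        congr 1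
        rw [he0, ← Matrix.single_eq_single_vecMulVec_single]
    have hπr : ∀ i, π (e - f1) i = π e i - q1 i := fun i => by rw [map_sub, hπf1, Pi.sub_apply]
    have hq1j : q1 j = vecMulVec v w := by rw [hq1, Pi.single_eq_same]
    have hrj : (π e j).rank = (π (e - f1) j).rank + 1 := by
      rw [hπr, hq1j]
      have h1 : (π e j).rank ≤ (π e j - vecMulVec v w).rank + (vecMulVec v w).rank := by
        refine le_trans ?_ (Submodule.finrank_add_le_finrank_add_finrank _ _)
        refine Submodule.finrank_mono ?_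
        rintro _ ⟨y, rfl⟩
        refine Submodule.mem_sup.2 ⟨_, ⟨y, rfl⟩, _, ⟨y, rfl⟩, ?_⟩
        simp [Matrix.sub_mulVec]
      have h2 := Matrix.rank_vecMulVec_le v w
      omega
    have hne : ∀ i ∈ Finset.univ.erase j, π (e - f1) i = π e i := fun i hi => by
      rw [hπr i, hq1, Pi.single_eq_of_ne (Finset.ne_of_mem_erase hi), sub_zero]
    have hsum : ∑ i, (π e i).rank = (∑ i, (π (e - f1) i).rank) + 1 := by
      rw [← Finset.add_sum_erase _ _ (Finset.mem_univ j),
        ← Finset.add_sum_erase _ (fun i => (π (e - f1) i).rank) (Finset.mem_univ j), hrj,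
        Finset.sum_congr rfl fun i hi => congrArg Matrix.rank (hne i hi)]
      ring
    rw [hsplit, hval1, ih _ (by omega) (e - f1) hrest rfl,
      ← Finset.add_sum_erase _ _ (Finset.mem_univ j),
      ← Finset.add_sum_erase _ (fun i => (π e i).rank • τ (f i)) (Finset.mem_univ j), hrj,
      add_smul, one_smul, ← add_assoc, add_comm (τ (f j)),
      Finset.sum_congr rfl fun i hi => congrArg (fun q => Matrix.rank q • τ (f i)) (hne i hi)]

theorem value_eq (hd : ∀ j : Fin m, 0 < d j) {f : Fin m → A}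
    (hf : ∀ j, IsIdempotentElem (f j) ∧
      π (f j) = Pi.single j (single (⟨0, hd j⟩ : Fin (d j)) ⟨0, hd j⟩ (1 : k)))
    {e : A} (he : IsIdempotentElem e) : τ e = ∑ j, (π e j).rank • τ (f j) :=
  exists_nat_comb_aux h τ hτ hd hf _ e he rfl

end Cfsg.Agent.Char.IdemClass
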