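import Cfsg.Agent.Lib.Char.ResClosed

/-!
# Idempotent polynomials over the local ring of algebraic integers

A monic polynomial over the local ring splits there, so it has a separating polynomial: its value at any element
annihilated by the polynomial is an idempotent, congruent to the element whenever the element is idempotent
modulo an ideal containing the local ideal.
-/

set_option autoImplicit false
set_option linter.unusedSectionVars false

namespace Cfsg.Agent.Char.IdemLift

open Cfsg Polynomial

variable {M : Ideal AlgInt} (hP : M.IsPrime)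

theorem isUnit_of_not_mem {x : locRing hP} (hx : ¬ MemLocalIdeal M (x : ℂ)) : IsUnit x :=
  isUnit_iff_exists_inv.mpr ⟨⟨(x : ℂ)⁻¹, memLR_inv hP x.2 hx⟩,
    Subtype.ext (mul_inv_cancel₀ fun e => hx (e ▸ memLI_zero hP))⟩

/-- A monic polynomial over the local ring is a product of linear factors. -/
theorem exists_roots {P : (locRing hP)[X]} (hPm : P.Monic) :
    ∃ s : Multiset (locRing hP), P = (s.map fun a => X - C a).prod := by
  set ι := (locRing hP).subtype
  have hs := (IsAlgClosed.splits (P.map ι)).eq_prod_roots_of_monic (hPm.map ι)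
  have hmem : ∀ z ∈ (P.map ι).roots, MemLocalRing M z := fun z hz =>
    memLR_of_monic_root hP hPm (by
      rw [← eval_map]
      exact (mem_roots'.mp hz).2)
  refine ⟨(P.map ι).roots.attach.map fun z => ⟨z.1, hmem z.1 z.2⟩, map_injective ι Subtype.val_injective ?_⟩
  rw [Polynomial.map_multiset_prod, Multiset.map_map, Multiset.map_map]
  conv_lhs => rw [hs, ← Multiset.attach_map_val (P.map ι).roots, Multiset.map_map]
  refine congrArg _ (Multiset.map_congr rfl fun z _ => ?_)
  simp [ι]

open scoped Classical in
/-- The separating polynomial. -/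
theorem exists_separator {P : (locRing hP)[X]} (hPm : P.Monic) :
    ∃ g : (locRing hP)[X], g.eval 0 = 0 ∧ P ∣ g * (g - 1) ∧
      (MemLocalIdeal M ((g.eval 1 - 1 : locRing hP) : ℂ) ∨
        ¬ MemLocalIdeal M ((P.eval 1 : locRing hP) : ℂ)) := by
  obtain ⟨s, hs⟩ := exists_roots hP hPm
  set q : locRing hP → Prop := fun a => MemLocalIdeal M (((a : locRing hP) : ℂ) - 1) with hq
  set A := ((s.filter q).map fun a => X - C a).prod with hA
  set B := ((s.filter fun a => ¬ q a).map fun a => X - C a).prod * X with hB
  have hP' : P * X = A * B := by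
    rw [hA, hB, ← mul_assoc, ← Multiset.prod_add, ← Multiset.map_add, Multiset.filter_add_not, ← hs]
  have hunit : ∀ a b : locRing hP, q a → ¬ q b → IsUnit (a - b) := by
    intro a b ha hb
    refine isUnit_of_not_mem hP fun h => hb ?_
    have := memLI_sub hP ha h
    simpa [hq] using this
  have hunit0 : ∀ a : locRing hP, q a → IsUnit (a - 0) := by
    intro a ha
    refine hunit a 0 ha fun h => memLI_one_iff hP ?_
    simpa [hq] using memLI_neg hP h
  have hAB : IsCoprime A B := by
    have key : ∀ (t : Multiset (locRing hP)) (C0 : (locRing hP)[X]),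
        (∀ a ∈ t, IsCoprime (X - C a) C0) → IsCoprime (t.map fun a => X - C a).prod C0 := by
      intro t C0
      induction t using Multiset.induction_on with
      | empty => intro _; simpa using isCoprime_one_left
      | cons a t ih =>
        intro h
        rw [Multiset.map_cons, Multiset.prod_cons]
        exact (h a (Multiset.mem_cons_self a t)).mul_left (ih fun b hb => h b (Multiset.mem_cons_of_mem hb))
    refine key _ _ fun a ha => IsCoprime.mul_right ((key _ _ fun b hb => ?_).symm) ?_
    · exact (isCoprime_X_sub_C_of_isUnit_sub (hunit a b (Multiset.mem_filter.mp ha).2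
        (Multiset.mem_filter.mp hb).2)).symm
    · have := isCoprime_X_sub_C_of_isUnit_sub (hunit0 a (Multiset.mem_filter.mp ha).2)
      simpa using this
  obtain ⟨u, v, huv⟩ := hAB
  refine ⟨v * B, by simp [hB], ?_, ?_⟩
  · refine ⟨X * (-(v * u)), ?_⟩
    rw [← mul_assoc P X, hP']
    linear_combination (v * B) * huv
  · by_cases hne : ∃ a ∈ s, q a
    · left
      obtain ⟨a, ha, haq⟩ := hne
      obtain ⟨t, ht⟩ := Multiset.exists_cons_of_mem (Multiset.mem_filter.mpr ⟨ha, haq⟩ : a ∈ s.filter q)
      have h1 : (v * B).eval 1 - 1 = (1 - a) * (-(u.eval 1 * ((t.map fun b => X - C b).prod).eval 1)) := by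
        have := congrArg (Polynomial.eval 1) huv
        rw [hA, ht, Multiset.map_cons, Multiset.prod_cons] at this
        simp only [eval_add, eval_mul, eval_sub, eval_X, eval_C, eval_one] at this ⊢
        linear_combination this
      rw [h1, MulMemClass.coe_mul]
      refine memLI_mul_right hP ?_ (Subtype.prop _)
      rw [AddSubgroupClass.coe_sub, OneMemClass.coe_one]
      exact memLI_symm hP haq
    · right
      intro hI
      have h1 : IsUnit (P.eval 1) := by
        rw [hs, eval_multiset_prod, Multiset.map_map]
        refine Multiset.prod_induction IsUnit _ (fun _ _ hu hv => hu.mul hv) isUnit_one fun x hx => ?_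
        obtain ⟨a, ha, rfl⟩ := Multiset.mem_map.mp hx
        simp only [Function.comp_apply, eval_sub, eval_X, eval_C]
        refine isUnit_of_not_mem hP fun h => hne ⟨a, ha, ?_⟩
        exact memLI_symm hP (by simpa using h)
      obtain ⟨b, hb⟩ := isUnit_iff_exists_inv.mp h1
      refine memLI_one_iff hP ?_
      have := memLI_mul_right hP hI b.2
      rwa [← MulMemClass.coe_mul, hb, OneMemClass.coe_one] at this

variable {hP} {A : Type*} [Ring A] [Algebra (locRing hP) A]

/-- The polynomial evaluates to an idempotent. -/
theorem idem_of_dvd {P g : (locRing hP)[X]} (hg : P ∣ g * (g - 1)) {x : A} (hx : aeval x P = 0) :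
    IsIdempotentElem (aeval x g) := by
  obtain ⟨c, hc⟩ := hg
  have := congrArg (aeval x) hc
  rw [map_mul, map_mul, hx, zero_mul, map_sub, map_one, mul_sub, mul_one, sub_eq_zero] at this
  exact this

/-- It is congruent to an element idempotent modulo `J`. -/
theorem aeval_sub_mem {P g : (locRing hP)[X]} (hg0 : g.eval 0 = 0)
    (hg1 : MemLocalIdeal M ((g.eval 1 - 1 : locRing hP) : ℂ) ∨
      ¬ MemLocalIdeal M ((P.eval 1 : locRing hP) : ℂ))
    {x : A} (hx : aeval x P = 0) (J : Submodule (locRing hP) A)
    (hmul : ∀ j ∈ J, x * j ∈ J) (hsm : ∀ c : locRing hP, MemLocalIdeal M (c : ℂ) → c • x ∈ J)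
    (hxx : x * x - x ∈ J) : aeval x g - x ∈ J := by
  have key : ∀ f : (locRing hP)[X], x * aeval x f - f.eval 1 • x ∈ J := by
    intro f
    induction f using Polynomial.induction_on' with
    | add f f' h h' =>
      rw [map_add, mul_add, eval_add, add_smul]
      convert J.add_mem h h' using 1
      abel
    | monomial n a =>
      rw [aeval_monomial, eval_monomial, one_pow, mul_one, ← Algebra.smul_def, mul_smul_comm, ← smul_sub]
      refine J.smul_mem a ?_
      induction n with
      | zero => simp
      | succ n ih =>
        rw [pow_succ']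
        convert J.add_mem (hmul _ ih) hxx using 1
        rw [mul_sub]
        abel
  obtain ⟨f, rfl⟩ : X ∣ g := X_dvd_iff.mpr (by rw [coeff_zero_eq_eval_zero, hg0])
  rw [eval_mul, eval_X, one_mul] at hg1
  rw [map_mul, aeval_X]
  rcases hg1 with h | h
  · have e : x * aeval x f - x = (x * aeval x f - f.eval 1 • x) + (f.eval 1 - 1) • x := by
      rw [sub_smul, one_smul]
      abel
    rw [e]
    exact J.add_mem (key f) (hsm _ h)
  · have hP1 : P.eval 1 • x ∈ J := by
      have := key P
      rw [hx, mul_zero, zero_sub] at this
      exact neg_mem_iff.mp this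
    obtain ⟨b, hb⟩ := isUnit_iff_exists_inv.mp (isUnit_of_not_mem hP h)
    have hxJ : x ∈ J := by
      have := J.smul_mem b hP1
      rwa [smul_smul, mul_comm b, hb, one_smul] at this
    have e : x * aeval x f - x = (x * aeval x f - f.eval 1 • x) + (f.eval 1 • x - x) := by abel
    rw [e]
    exact J.add_mem (key f) (J.sub_mem (J.smul_mem _ hxJ) hxJ)

end Cfsg.Agent.Char.IdemLift
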