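import Cfsg.Agent.Lib.Char.FirstMainInduced

/-!
# Induction from a subgroup containing the centralizer of a defect group

The induced block is defined, and the centre of a defect group lying above the pair of the defect
group downstairs falls into it.
-/

set_option autoImplicit false
set_option linter.unusedSectionVars false

namespace Cfsg.Agent.Char.IndCenter

open Cfsg Cfsg.Agent.Char Module
open scoped ComplexConjugate

universe u

variable {G : Type u} [Group G] [Fintype G] {M : Ideal AlgInt} {p : ℕ} {H : Subgroup G} [Fintype H]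
  {P0 : Subgroup H}

theorem induced_of_centralizer (hM : IsPModular p M)
    (hC : Subgroup.centralizer ((P0.map H.subtype : Subgroup G) : Set G) ≤ H)
    {e0 : Set (IrrCharacter (Subgroup.centralizer (P0 : Set H)))} {b : Set (IrrCharacter H)}
    (hc : IsBrauerPairOf p M b P0 e0) {B : Set (IrrCharacter G)}
    (hB : IsBrauerPairOf p M B (P0.map H.subtype) (liftBlock P0 e0)) :
    IsInducedBlock M H b B := by
  classical
  have hMp := pmod_prime hM
  haveI := Fintype.ofFinite (Subgroup.centralizer (P0 : Set H))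
  haveI := Fintype.ofFinite (Subgroup.centralizer ((P0.map H.subtype : Subgroup G) : Set G))
  refine ⟨hc.2.1, hB.2.1, fun ξ hξ χ hχ g => ?_⟩
  obtain ⟨η, hη⟩ := block_nonempty hMp hc.1.2
  have hF := intClassFun_classInd hMp g
  have hFH : IsIntClassFun M (fun x : H => classInd g (x : G)) :=
    ⟨isClassFunction_restrict hF.1, fun x => hF.2 _⟩
  have h1 := pair_lam hM hc hη hξ hFH
  have hη' : irrTransport (liftEquiv P0 hC).symm η ∈ liftBlock P0 e0 := by
    rw [liftBlock_eq P0 hC]
    exact ⟨η, hη, rfl⟩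
  have h2 := pair_lam hM hB hη' hχ hF
  have e : lam (irrTransport (liftEquiv P0 hC).symm η :
        Subgroup.centralizer ((P0.map H.subtype : Subgroup G) : Set G) → ℂ)
        (tr (P0.map H.subtype) (classInd g)) =
      lam (η : Subgroup.centralizer (P0 : Set H) → ℂ)
        (tr P0 (fun x : H => classInd g (x : G))) := by
    simp only [lam, irrTransport_apply, map_one]
    congr 1
    refine (Fintype.sum_equiv (liftEquiv P0 hC).toEquiv _ _ fun c => ?_).symm
    simp only [MulEquiv.toEquiv_eq_coe, EquivLike.coe_coe, MulEquiv.symm_apply_apply, tr_apply]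
    rfl
  rw [e] at h2
  rw [inducedCentralChar_eq, ← omega_eq_centralChar,
    ← lam_classInd' (isClassFunction_character (irr_isCharacter χ.2))]
  exact memLI_trans hMp (memLI_symm hMp h1) h2

theorem normalSubpair_descend (hM : IsPModular p M)
    {e0 : Set (IrrCharacter (Subgroup.centralizer (P0 : Set H)))} (he0 : IsBrauerPair p M P0 e0)
    {R0 : Subgroup H} {g0 : Set (IrrCharacter (Subgroup.centralizer (R0 : Set H)))}
    (hg0 : IsPBlock M g0)
    (hC : Subgroup.centralizer ((P0.map H.subtype : Subgroup G) : Set G) ≤ H)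
    (ha : IsNormalSubpair p M (P0.map H.subtype) (liftBlock P0 e0) (R0.map H.subtype)
      (liftBlock R0 g0)) :
    IsNormalSubpair p M P0 e0 R0 g0 := by
  classical
  have hle : P0 ≤ R0 := fun x hx => by
    obtain ⟨y, hy, hyx⟩ := ha.2.2.1 ⟨x, hx, rfl⟩
    exact Subtype.ext hyx ▸ hy
  have hCR := centralizer_lift_le hle hC
  haveI := Fintype.ofFinite (Subgroup.centralizer (P0 : Set H))
  have hR0p : IsPGroup p R0 :=
    ha.2.1.1.of_equiv (R0.equivMapOfInjective _ (Subgroup.subtype_injective H)).symm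
  have hN0 : R0 ≤ Subgroup.normalizer (P0 : Set H) := fun u hu => by
    rw [Subgroup.mem_normalizer_iff]
    intro y
    have h1 := (Subgroup.mem_normalizer_iff.mp (ha.2.2.2.1 ⟨u, hu, rfl⟩)) (y : G)
    constructor
    · intro hy
      obtain ⟨z, hz, hzy⟩ := h1.mp ⟨y, hy, rfl⟩
      exact (show z = u * y * u⁻¹ from Subtype.ext hzy) ▸ hz
    · intro hy
      obtain ⟨z, hz, hzy⟩ := h1.mpr ⟨_, hy, rfl⟩
      exact (show z = y from Subtype.ext hzy) ▸ hz
  have hst : ∀ u ∈ R0, StabilizesBlock (Subgroup.centralizer (P0 : Set H)) e0 u := fun u hu => by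
    refine stabilizes_of_blockCoeff (pmod_prime hM) (hN0 hu) he0.2 fun y => ?_
    haveI := Fintype.ofFinite (Subgroup.centralizer ((P0.map H.subtype : Subgroup G) : Set G))
    have hu' : (u : G) ∈ R0.map H.subtype := ⟨u, hu, rfl⟩
    have h2 : subgroupBlockCoeff (Subgroup.centralizer ((P0.map H.subtype : Subgroup G) : Set G))
        (liftBlock P0 e0) ((u : G) * (y : G) * (u : G)⁻¹) =
        subgroupBlockCoeff (Subgroup.centralizer ((P0.map H.subtype : Subgroup G) : Set G))
        (liftBlock P0 e0) (y : G) :=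
      blockCoeff_conj_eq_of_stabilizes (ha.2.2.2.1 hu') (ha.2.2.2.2.1 _ hu') (y : G)
    rw [subgroupBlockCoeff_lift P0 hC, subgroupBlockCoeff_lift P0 hC, extendByZero_mem _ _ y.2,
      extendByZero_mem _ _ (mul_mem (mul_mem u.2 y.2) (inv_mem u.2))] at h2
    exact h2
  refine ⟨he0, ⟨hR0p, hg0⟩, hle, hN0, hst, ?_⟩
  refine (brOne_lift_iff R0 hCR (fun x _ => ?_) g0).mp ha.2.2.2.2.2
  rw [subgroupBlockCoeff_lift P0 hC, extendByZero_mem _ _ x.2]

/-- A defect group upstairs above the pair has its centre in the defect group downstairs. -/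
theorem exists_defect_above (hM : IsPModular p M)
    (hC : Subgroup.centralizer ((P0.map H.subtype : Subgroup G) : Set G) ≤ H)
    {e0 : Set (IrrCharacter (Subgroup.centralizer (P0 : Set H)))} {b : Set (IrrCharacter H)}
    (hc : IsMaximalBrauerPair p M b P0 e0) {B : Set (IrrCharacter G)}
    (hB : IsBrauerPairOf p M B (P0.map H.subtype) (liftBlock P0 e0)) :
    ∃ R : Subgroup G, IsDefectGroup p M B R ∧ P0.map H.subtype ≤ R ∧
      (∀ z ∈ R, (∀ y ∈ R, y * z = z * y) → z ∈ P0.map H.subtype) := by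
  classical
  set P := P0.map H.subtype with hP
  obtain ⟨⟨R, r⟩, ⟨hQR, hR⟩, hRmax⟩ := Set.exists_max_image
    {a : BrauerPairIdx G | Relation.ReflTransGen (NormalSubpairRel p M) ⟨P, liftBlock P0 e0⟩ a ∧
      IsBrauerPairOf p M B a.1 a.2} (fun a => Nat.card a.1) (Set.toFinite _)
    ⟨⟨P, liftBlock P0 e0⟩, Relation.ReflTransGen.refl, hB⟩
  have hRm : IsMaximalBrauerPair p M B R r := ⟨hR, fun R' r' hp hle => by
    have h1 := hRmax ⟨R', r'⟩ ⟨hQR.trans hle, hp⟩
    exact (Subgroup.eq_of_le_of_card_ge (subpair_le hle) h1).symm⟩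
  have hPR : P ≤ R := subpair_le hQR
  refine ⟨R, maximal_pair_defect hM hRm, hPR, fun z hz hzc => ?_⟩
  set S := P ⊔ Subgroup.zpowers z with hS
  have hzle : Subgroup.zpowers z ≤ R := Subgroup.zpowers_le.mpr hz
  have hSR : S ≤ R := sup_le hPR hzle
  have hzC : z ∈ Subgroup.centralizer (P : Set G) := Subgroup.mem_centralizer_iff.mpr fun y hy =>
    hzc y (hPR hy)
  have hSH : S ≤ H :=
    sup_le (Subgroup.map_subtype_le _) ((Subgroup.zpowers_le.mpr (hC hzC)))
  have hSN : S ≤ Subgroup.normalizer (P : Set G) :=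
    sup_le Subgroup.le_normalizer
      (Subgroup.zpowers_le.mpr (Subgroup.centralizer_le_normalizer (P : Set G) hzC))
  obtain ⟨s, ⟨hs, hsR⟩, -⟩ := existsUnique_subpair hM hR.1 hSR
  have hSp : IsPGroup p S := hR.1.1.to_le hSR
  obtain ⟨f, hf, -⟩ := existsUnique_normalSubpair hM hSp (le_sup_left : P ≤ S) hSN hs
  obtain rfl : f = liftBlock P0 e0 := (existsUnique_subpair hM hR.1 hPR).unique
    ⟨hf.1.2, Relation.ReflTransGen.head (a := (⟨P, f⟩ : BrauerPairIdx G))
      (b := ⟨S, s⟩) hf hsR⟩ ⟨hB.1.2, hQR⟩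
  obtain ⟨S0, hS0⟩ : ∃ S0 : Subgroup H, S0.map H.subtype = S :=
    ⟨S.subgroupOf H, Subgroup.map_subgroupOf_eq_of_le hSH⟩
  clear_value S
  subst hS0
  have hle : P0 ≤ S0 := (Subgroup.map_le_map_iff_of_injective (Subgroup.subtype_injective H)).mp
    (hS ▸ le_sup_left)
  obtain ⟨g0, hg0, rfl⟩ := exists_preimage S0 (centralizer_lift_le hle hC) hs
  have h3 := normalSubpair_descend hM hc.1.1 hg0 hC hf
  have heq : S0 = P0 := hc.2 S0 g0 ((brauerPairOf_iff hM hc.1.2.1 h3).mp hc.1)
    (Relation.ReflTransGen.single (show NormalSubpairRel p M (⟨P0, e0⟩ : BrauerPairIdx H) ⟨S0, g0⟩ from h3))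
  have hzS : z ∈ S0.map H.subtype := by
    rw [hS]
    exact Subgroup.mem_sup_right (Subgroup.mem_zpowers z)
  rwa [heq] at hzS

end Cfsg.Agent.Char.IndCenter
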