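import Cfsg.Agent.Lib.Char.CentralizerPairs
import Cfsg.Agent.Lib.Char.CentralPairs
import Cfsg.Agent.Lib.Char.KleinFourBlock

/-!
# Blocks induced inside a centralizer and free action of the inertial quotient

For an abelian maximal pair `(P, c)` the block of `C(Q)`, `Q ≤ P`, induced by `c` is the one of the pair below
`(P, c)`; all of these are nilpotent exactly when the stabilizer of the pair acts freely modulo `C(P)`.
-/

set_option autoImplicit false
set_option linter.unusedSectionVars false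
set_option linter.style.haveILetI false

open Cfsg

namespace Cfsg.Agent.Char.InducedIn

universe u

variable {G : Type u} [Group G] [Fintype G] {M : Ideal AlgInt} {p : ℕ}

/-- A subgroup of `H` as a subgroup of the group `H`. -/
def subEquiv {H K : Subgroup G} (h : K ≤ H) : K ≃* K.subgroupOf H where
  toFun x := ⟨⟨(x : G), h x.2⟩, x.2⟩
  invFun x := ⟨((x : H) : G), x.2⟩
  left_inv _ := rfl
  right_inv _ := rfl
  map_mul' _ _ := rfl

/-- Induction inside `H` is induction in the group `H`. -/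
theorem inducedBlockIn_iff {H K : Subgroup G} (h : K ≤ H)
    [Fintype (K.subgroupOf H)] [Fintype K] (e : Set (IrrCharacter K)) (f : Set (IrrCharacter H)) (he : IsPBlock M e) :
    IsInducedBlockIn M H K e f ↔
      IsInducedBlock M (K.subgroupOf H) (irrTransport (subEquiv h).symm '' e) f := by
  have key : ∀ (ξ : IrrCharacter K) (g : H),
      inducedCentralCharIn H K (ξ : K → ℂ) (g : G) = inducedCentralChar (K.subgroupOf H)
        (irrTransport (subEquiv h).symm ξ : K.subgroupOf H → ℂ) g := by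
    intro ξ g
    rw [inducedCentralChar, inducedCentralCharIn]
    refine finsum_mem_eq_of_bijOn (subEquiv h) ⟨fun x hx => ?_, (subEquiv h).injective.injOn,
      fun y hy => ?_⟩ (fun x _ => ?_)
    · obtain ⟨c, hc⟩ := hx
      exact (isConj_iff.mpr ⟨c, Subtype.ext hc⟩ : IsConj ((subEquiv h x : K.subgroupOf H) : H) g).symm
    · obtain ⟨c, hc⟩ := isConj_iff.mp (hy : IsConj g (y : H))
      refine ⟨(subEquiv h).symm y, ⟨c⁻¹, ?_⟩, (subEquiv h).apply_symm_apply y⟩
      show ((c⁻¹ : H) : G) * ((y : H) : G) * ((c⁻¹ : H) : G)⁻¹ = g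
      rw [← hc]
      push_cast
      group
    · rw [irrTransport_apply, irrTransport_apply, MulEquiv.symm_apply_apply, map_one]
  constructor
  · rintro ⟨-, hf, hcong⟩
    refine ⟨isPBlock_transport _ he, hf, ?_⟩
    rintro _ ⟨ξ, hξ, rfl⟩ χ hχ g
    rw [← key]
    exact hcong ξ hξ χ hχ g
  · rintro ⟨-, hf, hcong⟩
    refine ⟨he, hf, fun ξ hξ χ hχ g => ?_⟩
    rw [key]
    exact hcong _ ⟨ξ, hξ, rfl⟩ χ hχ g

variable {P Q : Subgroup G} {c : Set (IrrCharacter (Subgroup.centralizer (P : Set G)))}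
  {f : Set (IrrCharacter (Subgroup.centralizer (Q : Set G)))}

theorem centralizer_mono (hQP : Q ≤ P) :
    Subgroup.centralizer (P : Set G) ≤ Subgroup.centralizer (Q : Set G) :=
  Subgroup.centralizer_le hQP

/-- A block of `C(Q)` induced by `c` lies below `(P, c)`. -/
theorem normal_of_inducedIn (hM : IsPModular p M) (hP : IsPGroup p P) (hQP : Q ≤ P)
    (hPQ : P ≤ Subgroup.centralizer (Q : Set G))
    (h : IsInducedBlockIn M (Subgroup.centralizer (Q : Set G)) (Subgroup.centralizer (P : Set G)) c f) :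
    IsNormalSubpair p M Q f P c := by
  classical
  have hMp := pmod_prime hM
  have hle := centralizer_mono hQP
  haveI := Fintype.ofFinite (Subgroup.centralizer (P : Set G))
  haveI := Fintype.ofFinite (Subgroup.centralizer (Q : Set G))
  haveI := Fintype.ofFinite ((Subgroup.centralizer (P : Set G)).subgroupOf (Subgroup.centralizer (Q : Set G)))
  have h' := (inducedBlockIn_iff hle c f h.1).mp h
  refine ⟨⟨hP.to_le hQP, h.2.1⟩, ⟨hP, h.1⟩, hQP, fun x hx => centralizer_le_norm Q (hPQ hx),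
    fun x hx => stabilizesBlock_of_centralizer hM (hP.to_le hQP) h.2.1 (hPQ hx), fun ξ hξ => ?_⟩
  obtain ⟨χ, hχ⟩ := block_nonempty hMp h.2.1
  have h2 := induced_congr_fun hMp (h'.2.2 _ ⟨ξ, hξ, rfl⟩ χ hχ) (isIntClassFun_blockCoeff hM h.2.1)
  rw [lam_blockCoeff, if_pos hχ] at h2
  rw [brauerOmega_eq]
  convert h2 using 2
  simp only [lam, irrTransport_apply, map_one]
  congr 1
  refine Fintype.sum_equiv (subEquiv hle).toEquiv _ _ fun x => ?_
  simp only [MulEquiv.toEquiv_eq_coe, EquivLike.coe_coe, tr_apply, MulEquiv.symm_apply_apply]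
  rw [subgroupBlockCoeff_eq, extendByZero_mem _ _ (hle x.2)]
  rfl

/-- Some block of `C(Q)` is induced by `c`. -/
theorem exists_inducedIn (hM : IsPModular p M) (hP : IsPGroup p P) (hQP : Q ≤ P)
    (hPQ : P ≤ Subgroup.centralizer (Q : Set G)) (hPP : P ≤ Subgroup.centralizer (P : Set G))
    (hc : IsPBlock M c) :
    ∃ f, IsInducedBlockIn M (Subgroup.centralizer (Q : Set G)) (Subgroup.centralizer (P : Set G)) c f := by
  have hle := centralizer_mono hQP
  haveI := Fintype.ofFinite (Subgroup.centralizer (P : Set G))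
  haveI := Fintype.ofFinite (Subgroup.centralizer (Q : Set G))
  haveI := Fintype.ofFinite ((Subgroup.centralizer (P : Set G)).subgroupOf (Subgroup.centralizer (Q : Set G)))
  obtain ⟨f, hf⟩ := inducedBlockDefined_of_local hM (P := P.subgroupOf (Subgroup.centralizer (Q : Set G)))
    (H := (Subgroup.centralizer (P : Set G)).subgroupOf (Subgroup.centralizer (Q : Set G)))
    (hP.of_equiv (Subgroup.subgroupOfEquivOfLe hPQ).symm) (fun x hx => hPP hx)
    (fun x hx y hy => congrArg Subtype.val (hx ⟨y, hPQ hy⟩ hy))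
    (fun x hx => centralizer_le_norm _ fun y hy => Subtype.ext (hx (y : G) hy))
    (isPBlock_transport (subEquiv hle).symm hc)
  exact ⟨f, (inducedBlockIn_iff hle c f hc).mpr hf⟩

variable {B : Set (IrrCharacter G)}

/-- Freeness makes the local blocks nilpotent. -/
theorem nilpotent_of_free (hM : IsPModular p M) (hmax : IsMaximalBrauerPair p M B P c)
    (hab : ∀ x ∈ P, ∀ y ∈ P, x * y = y * x) (hQ : IsNormalSubpair p M Q f P c)
    (hfree : ∀ t ∈ pairStab (pmod_prime hM) hmax.1.1.2, (∀ u ∈ Q, t * u = u * t) →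
      t ∈ Subgroup.centralizer (P : Set G)) :
    IsNilpotentBlock p M f := by
  classical
  have hMp := pmod_prime hM
  have hPQ : P ≤ Subgroup.centralizer (Q : Set G) := fun y hy w hw => hab w (hQ.2.2.1 hw) y hy
  refine ⟨hQ.1.2, fun R0 g0 hR x hx hst _ => ?_⟩
  have hns := normalSubpair_centSup hM hQ.1.1 hR
  obtain ⟨hn, hs⟩ := stabilizes_centSup hM hR.1.2 hx hst
  have hctx : StabCtx p M Q f (Subgroup.centralizer (Q : Set G)) :=
    ⟨hQ.1.1, hQ.1.2, hQ.2.2.1.trans hPQ, le_rfl,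
      fun u hu => ⟨centralizer_le_norm _ hu, stabilizesBlock_of_centralizer hM hQ.1.1 hQ.1.2 hu⟩⟩
  have hover : IsOver p M (Subgroup.centralizer (Q : Set G)) Q f
      (⟨supSub Q R0, centSupBlock R0 g0⟩ : BrauerPairIdx G) :=
    ⟨hns, sup_le (hQ.2.2.1.trans hPQ) (Subgroup.map_subtype_le _)⟩
  have hmaxO : IsMaxOver p M (Subgroup.centralizer (Q : Set G)) Q f (⟨P, c⟩ : BrauerPairIdx G) := by
    refine ⟨⟨hQ, hPQ⟩, fun a ha => ?_⟩
    exact card_le_of_pairOf hM hmax ((brauerPairOf_iff hM hmax.1.2.1 ha.1).mp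
      ((brauerPairOf_iff hM hmax.1.2.1 hQ).mpr hmax.1))
  obtain ⟨h, hh, hle⟩ := hctx.conj_into_max hM hover hmaxO
  set S := supSub Q R0 with hS
  set s := centSupBlock R0 g0 with hsdef
  have hsb : IsPBlock M (⟨S, s⟩ : BrauerPairIdx G).2 := hns.2.1.2
  have hfix : conjIdx (x : G) (⟨S, s⟩ : BrauerPairIdx G) = ⟨S, s⟩ :=
    (conjIdx_eq_self_iff hMp hsb (x : G)).mpr ⟨hn, hs⟩
  obtain ⟨S', s', hS'⟩ : ∃ S' s', (⟨S', s'⟩ : BrauerPairIdx G) = conjIdx h ⟨S, s⟩ := ⟨_, _, rfl⟩
  rw [← hS'] at hle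
  have hS'eq : S' = S.map (MulAut.conj h).toMonoidHom := (Sigma.mk.inj_iff.mp hS').1
  have hs'b : IsPBlock M (⟨S', s'⟩ : BrauerPairIdx G).2 := (isBrauerPair_of_le hmax.1.1 hle).2
  have hfix' : conjIdx (h * x * h⁻¹) (⟨S', s'⟩ : BrauerPairIdx G) = ⟨S', s'⟩ := by
    rw [hS', conjIdx_mul hMp _ _ _ hsb, inv_mul_cancel_right, ← conjIdx_mul hMp h x _ hsb, hfix]
  obtain ⟨c', hc', hy⟩ := abelian_conj_fix hM hmax hab hle (g := h * x * h⁻¹) (by rw [hfix']; exact hle)
  replace hc' : c' ∈ Subgroup.centralizer (S' : Set G) := by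
    have e1 : S'.map (MulAut.conj (h * x * h⁻¹)).toMonoidHom = S' :=
      Subgroup.mem_normalizer_iff_map_conj_eq.mp ((conjIdx_eq_self_iff hMp hs'b _).mp hfix').1
    rwa [e1] at hc'
  have hQS : ∀ u ∈ Q, u ∈ S' := fun u hu => hS'eq ▸ ⟨u, (le_sup_left : Q ≤ supSub Q R0) hu, by
    show h * u * h⁻¹ = u
    rw [← hh u hu, mul_inv_cancel_right]⟩
  have htC : c' * (h * x * h⁻¹) ∈ Subgroup.centralizer (P : Set G) := by
    refine hfree _ hy fun u hu => ?_
    have hxC : h * (x : G) * h⁻¹ ∈ Subgroup.centralizer (Q : Set G) :=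
      mul_mem (mul_mem hh x.2) (inv_mem hh)
    have hc'Q : c' ∈ Subgroup.centralizer (Q : Set G) := fun w hw => hc' w (hQS w hw)
    exact ((mul_mem hc'Q hxC) u hu).symm
  have hxc : h * (x : G) * h⁻¹ ∈ Subgroup.centralizer (S' : Set G) := by
    have h1 : c' * (h * x * h⁻¹) ∈ Subgroup.centralizer (S' : Set G) :=
      Subgroup.centralizer_le (subpair_le hle) htC
    simpa [← mul_assoc] using mul_mem (inv_mem hc') h1
  intro r hr
  refine Subtype.ext ?_
  show (r : G) * (x : G) = (x : G) * (r : G)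
  have h2 := hxc (h * (r : G) * h⁻¹) (hS'eq ▸ ⟨(r : G),
    (le_sup_right : R0.map _ ≤ supSub Q R0) ⟨r, hr, rfl⟩, rfl⟩)
  calc (r : G) * (x : G) = h⁻¹ * (h * r * h⁻¹ * (h * x * h⁻¹)) * h := by group
    _ = h⁻¹ * (h * x * h⁻¹ * (h * r * h⁻¹)) * h := by rw [h2]
    _ = x * r := by group

/-- Nilpotent local blocks have no stabilizing element outside `C(P)`. -/
theorem mem_centralizer_of_nilpotent (hM : IsPModular p M) (hmax : IsMaximalBrauerPair p M B P c)
    (hab : ∀ x ∈ P, ∀ y ∈ P, x * y = y * x) (hQ : IsNormalSubpair p M Q f P c)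
    (hnil : IsNilpotentBlock p M f) {t : G} (ht : t ∈ pairStab (pmod_prime hM) hmax.1.1.2)
    (htQ : ∀ u ∈ Q, t * u = u * t) : t ∈ Subgroup.centralizer (P : Set G) := by
  classical
  have hMp := pmod_prime hM
  haveI := Fact.mk hM.1
  have hPQ : P ≤ Subgroup.centralizer (Q : Set G) := fun y hy w hw => hab w (hQ.2.2.1 hw) y hy
  set R0 := P.subgroupOf (Subgroup.centralizer (Q : Set G)) with hR0
  haveI := Fintype.ofFinite (Subgroup.centralizer (Q : Set G))
  haveI := Fintype.ofFinite (Subgroup.centralizer (P : Set G))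
  haveI := Fintype.ofFinite (Subgroup.centralizer (R0 : Set (Subgroup.centralizer (Q : Set G))))
  have hcl : Subgroup.centralizer (P : Set G) ≤ (Subgroup.centralizer (Q : Set G)) := centralizer_mono hQ.2.2.1
  let ε : Subgroup.centralizer (R0 : Set (Subgroup.centralizer (Q : Set G))) ≃* Subgroup.centralizer (P : Set G) :=
    { toFun := fun x => ⟨((x : (Subgroup.centralizer (Q : Set G))) : G), fun y hy => congrArg Subtype.val (x.2 ⟨y, hPQ hy⟩ hy)⟩
      invFun := fun x => ⟨⟨(x : G), hcl x.2⟩, fun y hy => Subtype.ext (x.2 (y : G) hy)⟩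
      left_inv := fun _ => rfl
      right_inv := fun _ => rfl
      map_mul' := fun _ _ => rfl }
  have hpair : IsBrauerPairOf p M f R0 (irrTransport ε '' c) := by
    refine ⟨⟨hmax.1.1.1.of_equiv (Subgroup.subgroupOfEquivOfLe hPQ).symm,
      isPBlock_transport _ hmax.1.1.2⟩, hQ.1.2, ?_⟩
    rintro _ ⟨ξ, hξ, rfl⟩
    have h1 := hQ.2.2.2.2.2 ξ hξ
    rw [brauerOmega_eq] at h1 ⊢
    convert h1 using 2
    simp only [lam, irrTransport_apply, map_one]
    congr 1
    refine Fintype.sum_equiv ε.toEquiv _ _ fun x => ?_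
    simp only [MulEquiv.toEquiv_eq_coe, EquivLike.coe_coe, tr_apply]
    rw [subgroupBlockCoeff_eq]
    refine congrArg₂ (· * ·) ?_ rfl
    exact (extendByZero_mem (Subgroup.centralizer (Q : Set G)) _ (hcl (ε x).2)).symm
  obtain ⟨htN, hts⟩ := (mem_pairStab hMp hmax.1.1.2).mp ht
  have htH : t ∈ (Subgroup.centralizer (Q : Set G)) := fun u hu => (htQ u hu).symm
  have hreg : ∀ y : (Subgroup.centralizer (Q : Set G)), (y : G) ∈ pairStab hMp hmax.1.1.2 → ¬ p ∣ orderOf y →
      (y : G) ∈ Subgroup.centralizer (P : Set G) := by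
    intro y hy hyr
    obtain ⟨hyN, hys⟩ := (mem_pairStab hMp hmax.1.1.2).mp hy
    have hn0 : y ∈ Subgroup.normalizer (R0 : Set (Subgroup.centralizer (Q : Set G))) :=
      Subgroup.mem_normalizer_iff.mpr fun z => Subgroup.mem_normalizer_iff.mp hyN (z : G)
    have hst0 : StabilizesBlock (Subgroup.centralizer (R0 : Set (Subgroup.centralizer (Q : Set G)))) (irrTransport ε '' c) y := by
      refine ⟨?_, ?_⟩
      · refine Subgroup.mem_normalizer_iff.mpr fun z => ?_
        constructor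
        · intro hz w hw
          have h1 := hz (y⁻¹ * w * y) ((Subgroup.mem_normalizer_iff.mp hn0 _).mpr (by simpa [mul_assoc] using hw))
          calc w * (y * z * y⁻¹) = y * (y⁻¹ * w * y * z) * y⁻¹ := by group
            _ = y * (z * (y⁻¹ * w * y)) * y⁻¹ := by rw [h1]
            _ = y * z * y⁻¹ * w := by group
        · intro hz w hw
          have h1 := hz (y * w * y⁻¹) ((Subgroup.mem_normalizer_iff.mp hn0 _).mp hw)
          calc w * z = y⁻¹ * (y * w * y⁻¹ * (y * z * y⁻¹)) * y := by group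
            _ = y⁻¹ * (y * z * y⁻¹ * (y * w * y⁻¹)) * y := by rw [h1]
            _ = z * w := by group
      · rintro _ ⟨ξ, hξ, rfl⟩
        obtain ⟨ξ', hξ', hcj⟩ := hys.2 ξ hξ
        refine ⟨irrTransport ε ξ', ⟨ξ', hξ', rfl⟩, fun k k' hk => ?_⟩
        rw [irrTransport_apply, irrTransport_apply]
        exact hcj (ε k) (ε k') (congrArg Subtype.val hk)
    intro u hu
    exact congrArg Subtype.val (hnil.2 R0 _ hpair y hn0 hst0 hyr ⟨u, hPQ hu⟩ hu)
  -- the part of order prime to `p`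
  have hidx := KleinBlock.inertial_prime hM hmax hab
  set S := pairStab hMp hmax.1.1.2 with hSdef
  haveI : ((Subgroup.centralizer (P : Set G)).subgroupOf S).Normal :=
    (Subgroup.normal_subgroupOf_iff_le_normalizer
      (stabCtx_pairStab hM hmax.1.1.1 hmax.1.1.2).cent).mpr
      fun u hu => ((stabCtx_pairStab hM hmax.1.1.1 hmax.1.1.2).stab u hu).2.1
  set ord := orderOf (⟨t, htH⟩ : (Subgroup.centralizer (Q : Set G))) with hord
  set a := ord.factorization p with ha
  have hpow : (⟨t, htH⟩ : (Subgroup.centralizer (Q : Set G))) ^ p ^ a = (⟨t ^ p ^ a, pow_mem htH _⟩ : (Subgroup.centralizer (Q : Set G))) := Subtype.ext rfl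
  have h1 : t ^ p ^ a ∈ Subgroup.centralizer (P : Set G) := by
    refine hreg ⟨t ^ p ^ a, pow_mem htH _⟩ (pow_mem ht _) ?_
    rw [← hpow, orderOf_pow' _ (pow_ne_zero _ hM.1.ne_zero), Nat.gcd_eq_right (Nat.ordProj_dvd _ _)]
    exact Nat.not_dvd_ordCompl hM.1 (orderOf_pos _).ne'
  set τ : S ⧸ (Subgroup.centralizer (P : Set G)).subgroupOf S := QuotientGroup.mk ⟨t, ht⟩ with hτ
  have h2 : τ ^ p ^ a = 1 := by
    rw [hτ, ← QuotientGroup.mk_pow, QuotientGroup.eq_one_iff, Subgroup.mem_subgroupOf]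
    exact h1
  have h3 : orderOf τ = 1 := by
    have hd1 := orderOf_dvd_of_pow_eq_one h2
    have hd2 : orderOf τ ∣ (Subgroup.centralizer (P : Set G)).relIndex S := orderOf_dvd_natCard τ
    refine Nat.eq_one_of_dvd_one ?_
    have hcop : Nat.Coprime (p ^ a) ((Subgroup.centralizer (P : Set G)).relIndex S) := by
      refine (hM.1.coprime_iff_not_dvd.mpr fun h => ?_).pow_left _
      have : 1 ≤ ((Subgroup.centralizer (P : Set G)).relIndex S).factorization p :=
        (hM.1.dvd_iff_one_le_factorization Subgroup.index_ne_zero_of_finite).mp h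
      omega
    exact hcop ▸ Nat.dvd_gcd hd1 hd2
  exact (QuotientGroup.eq_one_iff (⟨t, ht⟩ : S)).mp (orderOf_eq_one_iff.mp h3)

end Cfsg.Agent.Char.InducedIn
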