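import Cfsg.Agent.Lib.Char.InducedHeightZero
import Cfsg.Agent.Lib.Char.CentralHom

/-!
# Degrees of block parts of induced characters
-/

set_option autoImplicit false
set_option linter.unusedSectionVars false
set_option linter.style.haveILetI false

namespace Cfsg.Agent.Char

open Cfsg
open scoped ComplexConjugate

universe u

variable {G : Type u} [Group G] [Fintype G] {M : Ideal AlgInt} {p : ℕ}
  {H : Subgroup G} [Fintype H]

open scoped Classical in
/-- The value at one of a block part of a character. -/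
theorem blockPart_one_eq_nat (B : Set (IrrCharacter G)) {θ : G → ℂ} (hθ : IsCharacter G θ) :
    ∃ m : IrrCharacter G → ℕ, (∀ χ : IrrCharacter G, classInner θ (χ : G → ℂ) = (m χ : ℂ)) ∧
      blockPart B θ 1 =
        ((∑ χ : IrrCharacter G with χ ∈ B, m χ * deg (χ : G → ℂ) : ℕ) : ℂ) := by
  choose m hm using fun χ : IrrCharacter G => classInner_natCast hθ (irr_isCharacter χ.2)
  refine ⟨m, hm, ?_⟩
  rw [blockPart_eq, Nat.cast_sum]
  refine Finset.sum_congr rfl fun χ _ => ?_
  rw [hm, char_one_eq_deg (irr_isCharacter χ.2), Nat.cast_mul]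

/-- The value at one of a block part of an induced function. -/
theorem blockPart_indFun_one (B : Set (IrrCharacter G)) (ξ : IrrCharacter H) :
    blockPart B (indFun H (ξ : H → ℂ)) 1 =
      (H.index : ℂ) * (ξ : H → ℂ) 1 * lam (ξ : H → ℂ) (fun x : H => blockCoeff B (x : G)) := by
  have hθ : IsCharacter G (indFun H (ξ : H → ℂ)) := isCharacter_indFun H (irr_isCharacter ξ.2)
  rw [← sum_blockCoeff_shift B (isClassFunction_character hθ) 1]
  have hf : IsClassFunction G (fun g => conj (blockCoeff B g)) := fun a k => by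
    show conj _ = conj _
    rw [isClassFunction_blockCoeff B a k]
  have h := frobenius H (ξ : H → ℂ) hf
  simp only [classInner, Complex.conj_conj] at h
  have hG : (Nat.card G : ℂ) ≠ 0 := Nat.cast_ne_zero.mpr Nat.card_pos.ne'
  have hH : (Nat.card H : ℂ) ≠ 0 := Nat.cast_ne_zero.mpr Nat.card_pos.ne'
  have h2 : ∑ k : G, blockCoeff B k * indFun H (ξ : H → ℂ) (k * 1) =
      (Nat.card G : ℂ) * ((Nat.card H : ℂ)⁻¹ *
        ∑ x : H, (ξ : H → ℂ) x * blockCoeff B (x : G)) := by
    rw [← h, ← mul_assoc, mul_inv_cancel₀ hG, one_mul]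
    exact Finset.sum_congr rfl fun k _ => by rw [mul_one, mul_comm]
  rw [h2, lam, ← H.index_mul_card, Nat.cast_mul]
  have h1 : (ξ : H → ℂ) 1 ≠ 0 := irr_one_ne_zero ξ.2
  rw [Finset.sum_congr rfl fun (x : H) _ => mul_comm (blockCoeff B (x : G)) ((ξ : H → ℂ) x)]
  field_simp

open scoped Classical in
/-- The restricted idempotent of a block is seen only by the blocks inducing it. -/
theorem lam_blockCoeff_restrict (hM : IsPModular p M) {b : Set (IrrCharacter H)}
    {B₀ : Set (IrrCharacter G)} (hind : IsInducedBlock M H b B₀) {B : Set (IrrCharacter G)}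
    (hB : IsPBlock M B) {ξ : IrrCharacter H} (hξ : ξ ∈ b) :
    MemLocalRing M (lam (ξ : H → ℂ) (fun x : H => blockCoeff B (x : G))) ∧
      (MemLocalIdeal M (lam (ξ : H → ℂ) (fun x : H => blockCoeff B (x : G))) ↔ B ≠ B₀) := by
  have hP := pmod_prime hM
  obtain ⟨χ, hχ⟩ := block_nonempty hP hind.2.1
  have hf := isIntClassFun_blockCoeff hM hB
  have h := induced_congr_fun hP (hind.2.2 ξ hξ χ hχ) hf
  refine ⟨memLR_lam hP ξ.2 (fun a k => by simpa using hf.1 (a : G) (k : G)) fun x => hf.2 _, ?_⟩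
  rw [lam_blockCoeff] at h
  constructor
  · rintro hl rfl
    rw [if_pos hχ] at h
    exact memLI_one_iff hP (by simpa using memLI_sub hP hl h)
  · intro hne
    have hn : χ ∉ B := fun hc => hne
      ((block_eq_blockOf hP hB hc).trans (block_eq_blockOf hP hind.2.1 hχ).symm)
    simpa [if_neg hn] using h

/-- The exponent of `p` in the degree of the parts of an induced character in the various blocks. -/
theorem blockPart_indFun_valuation (hM : IsPModular p M) {b : Set (IrrCharacter H)}
    {B₀ : Set (IrrCharacter G)} (hind : IsInducedBlock M H b B₀) {ξ : IrrCharacter H} (hξ : ξ ∈ b)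
    {B : Set (IrrCharacter G)} (hB : IsPBlock M B) {n : ℕ}
    (hn : blockPart B (indFun H (ξ : H → ℂ)) 1 = (n : ℂ)) :
    p ^ (charDegree (indFun H (ξ : H → ℂ))).factorization p ∣ n ∧
      (p ^ ((charDegree (indFun H (ξ : H → ℂ))).factorization p + 1) ∣ n ↔ B ≠ B₀) := by
  have hP := pmod_prime hM
  have hθ : IsCharacter G (indFun H (ξ : H → ℂ)) := isCharacter_indFun H (irr_isCharacter ξ.2)
  obtain ⟨hu, hiff⟩ := lam_blockCoeff_restrict hM hind hB hξ
  set u := lam (ξ : H → ℂ) (fun x : H => blockCoeff B (x : G)) with hu_def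
  set N := charDegree (indFun H (ξ : H → ℂ)) with hN
  have hN1 : (N : ℂ) = (H.index : ℂ) * (ξ : H → ℂ) 1 := by
    rw [hN, charDegree_eq_deg, ← char_one_eq_deg hθ, indFun_one]
  have hN0 : N ≠ 0 := by
    intro h0
    rw [h0, Nat.cast_zero, eq_comm, mul_eq_zero] at hN1
    rcases hN1 with h1 | h1
    · exact Subgroup.index_ne_zero_of_finite (Nat.cast_eq_zero.mp h1)
    · exact irr_one_ne_zero ξ.2 h1
  set c := N / p ^ N.factorization p with hc_def
  have hc : ¬ p ∣ c := Nat.not_dvd_ordCompl hM.1 hN0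
  have hNc : N = p ^ N.factorization p * c := (Nat.ordProj_mul_ordCompl_eq_self N p).symm
  rw [blockPart_indFun_one, ← hu_def, ← hN1] at hn
  generalize N.factorization p = a at hNc ⊢
  rw [hNc] at hn
  push_cast at hn
  have heq : ((c : ℂ) * u) * (p : ℂ) ^ a = ((n : ℤ) : ℂ) := by
    push_cast
    rw [← hn]; ring
  have hcu : MemLocalRing M ((c : ℂ) * u) := memLR_mul hP (memLR_natCast hP c) hu
  have h1 := int_dvd_of_local hM hcu heq
  have h2 := int_dvd_succ_iff hM hcu heq
  have h3 : MemLocalIdeal M ((c : ℂ) * u) ↔ MemLocalIdeal M u := by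
    refine ⟨fun h => ?_, fun h => memLI_mul_left hP (memLR_natCast hP c) h⟩
    have hc0 : (c : ℂ) ≠ 0 := Nat.cast_ne_zero.mpr fun h0 => hc (h0 ▸ dvd_zero p)
    rw [show u = (c : ℂ)⁻¹ * ((c : ℂ) * u) by rw [← mul_assoc, inv_mul_cancel₀ hc0, one_mul]]
    exact memLI_mul_left hP (memLR_inv_natCast hM hc) h
  refine ⟨by exact_mod_cast h1, ?_⟩
  rw [← hiff, ← h3, h2]
  constructor <;> intro h <;> exact_mod_cast h

open scoped Classical in
/-- A height zero character of a block of full defect in its induced block has a height zero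
constituent of multiplicity prime to `p` among those of its induced character. -/
theorem exists_height_zero_induced_constituent (hM : IsPModular p M) {b : Set (IrrCharacter H)}
    {B : Set (IrrCharacter G)} (hind : IsInducedBlock M H b B)
    (hdef : blockDefect p b = blockDefect p B) {ζ : IrrCharacter H} (hζ : ζ ∈ b)
    (hζ0 : blockHeight p b (ζ : H → ℂ) = 0) :
    ∃ χ ∈ B, blockHeight p B (χ : G → ℂ) = 0 ∧ ∃ a : ℕ,
      classInner (indFun H (ζ : H → ℂ)) (χ : G → ℂ) = (a : ℂ) ∧ ¬ p ∣ a := by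
  have hP := pmod_prime hM
  have hp := hM.1
  have hθ : IsCharacter G (indFun H (ζ : H → ℂ)) := isCharacter_indFun H (irr_isCharacter ζ.2)
  obtain ⟨m, hm, hn⟩ := blockPart_one_eq_nat B hθ
  obtain ⟨-, hiff⟩ := blockPart_indFun_valuation hM hind hζ hind.2.1 hn
  set S := (fun χ : IrrCharacter G => (charDegree (χ : G → ℂ)).factorization p) '' B with hS
  set Sb := (fun χ : IrrCharacter H => (charDegree (χ : H → ℂ)).factorization p) '' b with hSb
  have hSne : S.Nonempty := (block_nonempty hP hind.2.1).image _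
  have hminG : sInf S ≤ (Nat.card G).factorization p := by
    obtain ⟨χ, -, he⟩ := Nat.sInf_mem hSne
    rw [← he]
    exact (Nat.factorization_le_iff_dvd (deg_pos χ.2).ne' Nat.card_pos.ne').mpr
      (deg_dvd_card χ.2) p
  have hminH : sInf Sb ≤ (Nat.card H).factorization p := by
    obtain ⟨χ, -, he⟩ := Nat.sInf_mem ((block_nonempty hP hind.1).image
      (fun χ : IrrCharacter H => (charDegree (χ : H → ℂ)).factorization p))
    rw [hSb, ← he]
    exact (Nat.factorization_le_iff_dvd (deg_pos χ.2).ne' Nat.card_pos.ne').mpr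
      (deg_dvd_card χ.2) p
  have hζd : (deg (ζ : H → ℂ)).factorization p = sInf Sb := by
    have h1 : sInf Sb ≤ (deg (ζ : H → ℂ)).factorization p :=
      Nat.sInf_le ⟨ζ, hζ, rfl⟩
    have h2 : (deg (ζ : H → ℂ)).factorization p - sInf Sb = 0 := hζ0
    omega
  have hN : (charDegree (indFun H (ζ : H → ℂ))).factorization p = sInf S := by
    have e : charDegree (indFun H (ζ : H → ℂ)) = H.index * deg (ζ : H → ℂ) := by
      apply Nat.cast_injective (R := ℂ)
      rw [charDegree_eq_deg, ← char_one_eq_deg hθ, indFun_one, Nat.cast_mul,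
        ← char_one_eq_deg (irr_isCharacter ζ.2)]
    rw [e, Nat.factorization_mul Subgroup.index_ne_zero_of_finite (deg_pos ζ.2).ne',
      Finsupp.coe_add, Pi.add_apply, hζd]
    have hcard : (Nat.card G).factorization p =
        H.index.factorization p + (Nat.card H).factorization p := by
      rw [← H.index_mul_card, Nat.factorization_mul Subgroup.index_ne_zero_of_finite
        Nat.card_pos.ne', Finsupp.coe_add, Pi.add_apply]
    have hd : (Nat.card H).factorization p - sInf Sb = (Nat.card G).factorization p - sInf S := hdef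
    omega
  rw [hN] at hiff
  obtain ⟨χ, hχ, hnd⟩ : ∃ χ ∈ B, ¬ p ^ (sInf S + 1) ∣ m χ * deg (χ : G → ℂ) := by
    by_contra hall
    push Not at hall
    exact hiff.mp (Finset.dvd_sum fun χ hχ => hall χ (Finset.mem_filter.mp hχ).2) rfl
  have hle : sInf S ≤ (deg (χ : G → ℂ)).factorization p := Nat.sInf_le ⟨χ, hχ, rfl⟩
  have hdd : p ^ (deg (χ : G → ℂ)).factorization p ∣ deg (χ : G → ℂ) := Nat.ordProj_dvd _ _
  refine ⟨χ, hχ, ?_, m χ, hm χ, fun hpm => hnd ?_⟩
  · show (deg (χ : G → ℂ)).factorization p - sInf S = 0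
    by_contra hh
    exact hnd (((Nat.pow_dvd_pow p (show sInf S + 1 ≤ _ by omega)).trans hdd).mul_left _)
  · rw [pow_succ']
    exact mul_dvd_mul hpm ((Nat.pow_dvd_pow p hle).trans hdd)

/-- The regular part of the restriction of a character, tested against the central character of a
member of a block inducing a block. -/
theorem classInner_regRestrict (χ : IrrCharacter G) (ψ : IrrCharacter H) :
    classInner (fun h : H => if p ∣ orderOf h then (0 : ℂ)
        else ((p ^ (Nat.card H).factorization p : ℕ) : ℂ) * (χ : G → ℂ) h) (ψ : H → ℂ) /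
      (ψ : H → ℂ) 1 = ((p ^ (Nat.card H).factorization p : ℕ) : ℂ) * (Nat.card H : ℂ)⁻¹ *
      lam (ψ : H → ℂ) (regConj p (fun x : H => (χ : G → ℂ) x)) := by
  rw [classInner, lam, mul_div_assoc', mul_assoc, mul_left_comm]
  congr 1
  congr 1
  rw [Finset.mul_sum]
  refine Fintype.sum_equiv (Equiv.inv H) _ _ fun h => ?_
  simp only [Equiv.inv_apply, regConj, regInd, orderOf_inv, Subgroup.coe_inv,
    char_inv (irr_isCharacter χ.2), char_inv (irr_isCharacter ψ.2), Complex.conj_conj]
  split_ifs <;> ring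

/-- Blocks not induced do not see the regular part of a restriction. -/
theorem lam_restrict_memLI (hM : IsPModular p M) {b : Set (IrrCharacter H)}
    {B : Set (IrrCharacter G)} (hind : IsInducedBlock M H b B) {χ : IrrCharacter G} (hχ : χ ∉ B)
    {ξ : IrrCharacter H} (hξ : ξ ∈ b) :
    MemLocalIdeal M (lam (ξ : H → ℂ) (regConj p (fun x : H => (χ : G → ℂ) (x : G)))) := by
  have hP := pmod_prime hM
  obtain ⟨χ₀, hχ₀⟩ := block_nonempty hP hind.2.1
  have h1 := induced_congr_fun hP (hind.2.2 ξ hξ χ₀ hχ₀) (f := regConj p (χ : G → ℂ))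
    ⟨regConj_class (irr_isCharacter χ.2), regConj_memLR hP (irr_isCharacter χ.2)⟩
  rw [regConj_restrict, lam_regConj (χ₀ : G → ℂ) (χ : G → ℂ), einner_eq_zero_of_not_sameBlock hM χ₀ χ
    (fun h => hχ ((mem_block_iff hP hind.2.1 hχ₀ χ).mpr h)), mul_zero, zero_div, sub_zero] at h1
  exact h1

/-- A unit multiple lies in the local ideal with the original. -/
theorem memLI_ordProj_mul_iff (hM : IsPModular p M) {k : ℕ} (hk : k ≠ 0) (x : ℂ) :
    MemLocalIdeal M (((p ^ k.factorization p : ℕ) : ℂ) * (k : ℂ)⁻¹ * x) ↔ MemLocalIdeal M x := by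
  have hP := pmod_prime hM
  have hm : ¬ p ∣ k / p ^ k.factorization p := Nat.not_dvd_ordCompl hM.1 hk
  have he := (Nat.ordProj_mul_ordCompl_eq_self k p).symm
  have hpc : ((p ^ k.factorization p : ℕ) : ℂ) ≠ 0 :=
    Nat.cast_ne_zero.mpr (pow_ne_zero _ hM.1.ne_zero)
  generalize k / p ^ k.factorization p = m at hm he
  have hm0 : (m : ℂ) ≠ 0 := Nat.cast_ne_zero.mpr fun h0 => hm (h0 ▸ dvd_zero p)
  have e : ((p ^ k.factorization p : ℕ) : ℂ) * (k : ℂ)⁻¹ = (m : ℂ)⁻¹ := by
    conv_lhs => rw [show (k : ℂ) = ((p ^ k.factorization p : ℕ) : ℂ) * (m : ℂ) by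
      rw [← Nat.cast_mul]; exact congrArg _ he]
    field_simp
  rw [e]
  refine ⟨fun h => ?_, fun h => memLI_mul_left hP (memLR_inv_natCast hM hm) h⟩
  rw [show x = (m : ℂ) * ((m : ℂ)⁻¹ * x) by rw [← mul_assoc, mul_inv_cancel₀ hm0, one_mul]]
  exact memLI_mul_left hP (memLR_natCast hP m) h

end Cfsg.Agent.Char
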