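import Cfsg.Agent.Lib.Char.InertiaFixedSum

/-!
# The weighted count inside the centralizer of a subgroup of the defect group

For `Q ≤ P` the block of `C(Q)` induced by the block `c` of a maximal pair `(P, c)` has `(P, c)` as maximal
pair with stabilizer `T ∩ C(Q)`; its local blocks are the blocks of `C(Q ⊔ ⟨v⟩)` induced by `c`.
-/

set_option autoImplicit false
set_option linter.unusedSectionVars false
set_option linter.style.haveILetI false

namespace Cfsg.Agent.Char.InertiaFixed

open Cfsg Cfsg.Agent.Char.Star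

universe u

section Pull

variable {G G' : Type u} [Group G] [Group G'] [Fintype G] [Fintype G'] {M : Ideal AlgInt}

theorem centralChar_transport {H : Type u} [Group H] [Fintype H] {K : Type u} [Group K] [Fintype K]
    (ψ : H ≃* K) (χ : IrrCharacter K) (g : H) :
    centralChar (irrTransport ψ χ : H → ℂ) g = centralChar (χ : K → ℂ) (ψ g) := by
  rw [← omega_eq_centralChar, ← omega_eq_centralChar, omega_transport]

/-- Induction inside a subgroup along an injective homomorphism. -/
theorem inducedIn_pull (η : G' →* G) (hη : Function.Injective η) {H' K' : Subgroup G'} {H K : Subgroup G}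
    [Fintype H'] [Fintype K'] [Fintype H] [Fintype K]
    (ψ : H' ≃* H) (hψ : ∀ x : H', ((ψ x : H) : G) = η x) (φ : K' ≃* K)
    (hφ : ∀ x : K', ((φ x : K) : G) = η x) {e : Set (IrrCharacter K)} {b : Set (IrrCharacter H)}
    (h : IsInducedBlockIn M H K e b) :
    IsInducedBlockIn M H' K' (irrTransport φ '' e) (irrTransport ψ '' b) := by
  obtain ⟨he, hb, hcong⟩ := h
  refine ⟨isPBlock_transport φ he, isPBlock_transport ψ hb, ?_⟩
  rintro _ ⟨ξ, hξ, rfl⟩ _ ⟨χ, hχ, rfl⟩ g
  have key : inducedCentralCharIn H' K' (irrTransport φ ξ : K' → ℂ) (g : G') =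
      inducedCentralCharIn H K (ξ : K → ℂ) ((ψ g : H) : G) := by
    rw [inducedCentralCharIn, inducedCentralCharIn]
    refine finsum_mem_eq_of_bijOn φ ⟨fun x hx => ?_, φ.injective.injOn, fun y hy => ?_⟩ (fun x _ => ?_)
    · obtain ⟨w, hw⟩ := hx
      refine ⟨ψ w, ?_⟩
      rw [hψ, hφ, hψ, ← hw, map_mul, map_mul, map_inv]
    · obtain ⟨w, hw⟩ := hy
      refine ⟨φ.symm y, ⟨ψ.symm w, hη ?_⟩, φ.apply_symm_apply y⟩
      rw [map_mul, map_mul, map_inv, ← hψ, ← hφ, ψ.apply_symm_apply, φ.apply_symm_apply, hw, hψ]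
    · rw [irrTransport_apply, irrTransport_apply, map_one]
  rw [key, centralChar_transport]
  exact hcong ξ hξ χ hχ (ψ g)

omit [Fintype G] in
theorem norm_cent {Q : Subgroup G} {t : G} (ht : t ∈ Subgroup.normalizer (Q : Set G)) :
    t ∈ Subgroup.normalizer (Subgroup.centralizer (Q : Set G) : Set G) := by
  refine Subgroup.mem_normalizer_iff.mpr fun z => ?_
  constructor
  · intro hz w hw
    have h1 := hz (t⁻¹ * w * t) ((Subgroup.mem_normalizer_iff.mp ht _).mpr (by simpa [mul_assoc] using hw))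
    calc w * (t * z * t⁻¹) = t * (t⁻¹ * w * t * z) * t⁻¹ := by group
      _ = t * (z * (t⁻¹ * w * t)) * t⁻¹ := by rw [h1]
      _ = t * z * t⁻¹ * w := by group
  · intro hz w hw
    have h1 := hz (t * w * t⁻¹) ((Subgroup.mem_normalizer_iff.mp ht _).mp hw)
    calc w * z = t⁻¹ * (t * w * t⁻¹ * (t * z * t⁻¹)) * t := by group
      _ = t⁻¹ * (t * z * t⁻¹ * (t * w * t⁻¹)) * t := by rw [h1]
      _ = z * w := by group

omit [Fintype G] in
theorem mem_centralizer_sup {Q R : Subgroup G} {x : G} :
    x ∈ Subgroup.centralizer ((Q ⊔ R : Subgroup G) : Set G) ↔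
      x ∈ Subgroup.centralizer (Q : Set G) ∧ x ∈ Subgroup.centralizer (R : Set G) := by
  refine ⟨fun h => ⟨Subgroup.centralizer_le (le_sup_left : Q ≤ Q ⊔ R) h,
    Subgroup.centralizer_le (le_sup_right : R ≤ Q ⊔ R) h⟩, fun ⟨h1, h2⟩ y hy => ?_⟩
  have hle : Q ⊔ R ≤ Subgroup.centralizer ({x} : Set G) :=
    sup_le (fun z hz => Subgroup.mem_centralizer_singleton_iff.mpr (h1 z hz))
      (fun z hz => Subgroup.mem_centralizer_singleton_iff.mpr (h2 z hz))
  exact Subgroup.mem_centralizer_singleton_iff.mp (hle hy)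

end Pull

variable {G : Type u} [Group G] [Fintype G] {M : Ideal AlgInt} {p : ℕ} {B : Set (IrrCharacter G)}
  {P : Subgroup G} {c : Set (IrrCharacter (Subgroup.centralizer (P : Set G)))}

open scoped Classical in
/-- The block of `H` induced by `c` inside `H`. -/
noncomputable def loc (M : Ideal AlgInt) (P : Subgroup G)
    (c : Set (IrrCharacter (Subgroup.centralizer (P : Set G)))) (H : Subgroup G) : Set (IrrCharacter H) :=
  Classical.epsilon fun f => IsInducedBlockIn M H (Subgroup.centralizer (P : Set G)) c f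

/-- Its rank. -/
noncomputable def rk (p : ℕ) (M : Ideal AlgInt) (P : Subgroup G)
    (c : Set (IrrCharacter (Subgroup.centralizer (P : Set G)))) (H : Subgroup G) : ℕ :=
  blockRank p (loc M P c H)

/-- Its number of characters. -/
noncomputable def kk (M : Ideal AlgInt) (P : Subgroup G)
    (c : Set (IrrCharacter (Subgroup.centralizer (P : Set G)))) (H : Subgroup G) : ℕ :=
  Nat.card (loc M P c H)

variable (hM : IsPModular p M) (hmax : IsMaximalBrauerPair p M B P c) (hab : ∀ x ∈ P, ∀ y ∈ P, x * y = y * x)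
include hM hmax hab

theorem loc_spec {Q : Subgroup G} (hQ : Q ≤ P) :
    IsInducedBlockIn M (Subgroup.centralizer (Q : Set G)) (Subgroup.centralizer (P : Set G)) c
      (loc M P c (Subgroup.centralizer (Q : Set G))) := by
  obtain ⟨f, hf⟩ := InducedIn.exists_inducedIn hM hmax.1.1.1 hQ (BelowData.le_centralizer hab hQ)
    (BelowData.le_centralizer hab le_rfl) hmax.1.1.2
  exact Classical.epsilon_spec (p := fun f => IsInducedBlockIn M (Subgroup.centralizer (Q : Set G))
    (Subgroup.centralizer (P : Set G)) c f) ⟨f, hf⟩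

theorem loc_unique {Q : Subgroup G} (hQ : Q ≤ P) {f : Set (IrrCharacter (Subgroup.centralizer (Q : Set G)))}
    (hf : IsInducedBlockIn M (Subgroup.centralizer (Q : Set G)) (Subgroup.centralizer (P : Set G)) c f) :
    f = loc M P c (Subgroup.centralizer (Q : Set G)) :=
  SubsectionOrbits.below_unique hM
    (InducedIn.normal_of_inducedIn hM hmax.1.1.1 hQ (BelowData.le_centralizer hab hQ) hf)
    (InducedIn.normal_of_inducedIn hM hmax.1.1.1 hQ (BelowData.le_centralizer hab hQ) (loc_spec hM hmax hab hQ))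

open scoped Classical in
set_option maxHeartbeats 800000 in
/-- The weighted count in the centralizer of `Q`. -/
theorem local_count [Fintype P] {Q : Subgroup G} (hQ : Q ≤ P) (l : P →* ℂˣ)
    (hl : ∀ t ∈ pairStab (pmod_prime hM) hmax.1.1.2 ⊓ Subgroup.centralizer (Q : Set G),
      ∀ x y : P, (y : G) = t * x * t⁻¹ → l y = l x) :
    ∑ v : P, (l v : ℂ) *
        ((cP (pairStab (pmod_prime hM) hmax.1.1.2 ⊓ Subgroup.centralizer (Q : Set G)) (v : G) : ℂ) *
          (rk p M P c (Subgroup.centralizer ((Q ⊔ Subgroup.zpowers (v : G) : Subgroup G) : Set G)) : ℂ)) =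
      (Nat.card (pairStab (pmod_prime hM) hmax.1.1.2 ⊓ Subgroup.centralizer (Q : Set G) : Subgroup G) : ℂ) *
        (if l = 1 then (kk M P c (Subgroup.centralizer (Q : Set G)) : ℂ) else 0) := by
  have hMp := pmod_prime hM
  have hPQ : P ≤ Subgroup.centralizer (Q : Set G) := BelowData.le_centralizer hab hQ
  have hcl : Subgroup.centralizer (P : Set G) ≤ Subgroup.centralizer (Q : Set G) := Subgroup.centralizer_le hQ
  haveI := Fintype.ofFinite (Subgroup.centralizer (Q : Set G))
  haveI := Fintype.ofFinite (Subgroup.centralizer (P : Set G))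
  have hb := loc_spec hM hmax hab hQ
  have hQn := InducedIn.normal_of_inducedIn hM hmax.1.1.1 hQ hPQ hb
  have hdef := BelowData.defect hM hmax hab hQn
  set b := loc M P c (Subgroup.centralizer (Q : Set G)) with hbd
  set R0 := P.subgroupOf (Subgroup.centralizer (Q : Set G)) with hR0
  haveI := Fintype.ofFinite (Subgroup.centralizer (R0 : Set (Subgroup.centralizer (Q : Set G))))
  let ε : Subgroup.centralizer (R0 : Set (Subgroup.centralizer (Q : Set G))) ≃*
      Subgroup.centralizer (P : Set G) :=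
    { toFun := fun x => ⟨((x : (Subgroup.centralizer (Q : Set G))) : G),
        fun y hy => congrArg Subtype.val (x.2 ⟨y, hPQ hy⟩ hy)⟩
      invFun := fun x => ⟨⟨(x : G), hcl x.2⟩, fun y hy => Subtype.ext (x.2 (y : G) hy)⟩
      left_inv := fun _ => rfl
      right_inv := fun _ => rfl
      map_mul' := fun _ _ => rfl }
  set c' := irrTransport ε '' c with hc'
  have hR0p : IsPGroup p R0 := hmax.1.1.1.of_equiv (Subgroup.subgroupOfEquivOfLe hPQ).symm
  have hpair : IsBrauerPairOf p M b R0 c' := by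
    refine ⟨⟨hR0p, isPBlock_transport _ hmax.1.1.2⟩, hQn.1.2, ?_⟩
    rintro _ ⟨ξ, hξ, rfl⟩
    have h1 := hQn.2.2.2.2.2 ξ hξ
    rw [brauerOmega_eq] at h1 ⊢
    convert h1 using 2
    simp only [lam, irrTransport_apply, map_one]
    congr 1
    refine Fintype.sum_equiv ε.toEquiv _ _ fun x => ?_
    simp only [MulEquiv.toEquiv_eq_coe, EquivLike.coe_coe, tr_apply]
    rw [subgroupBlockCoeff_eq]
    refine congrArg₂ (· * ·) ?_ rfl
    exact (extendByZero_mem (Subgroup.centralizer (Q : Set G)) _ (hcl (ε x).2)).symm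
  have hR0ab : ∀ x ∈ R0, ∀ y ∈ R0, x * y = y * x := fun x hx y hy => Subtype.ext (hab _ hx _ hy)
  have hmax' : IsMaximalBrauerPair p M b R0 c' := by
    refine ⟨hpair, fun R g hR hle => ?_⟩
    obtain ⟨D0, hD0⟩ := exists_isDefectGroup hM hQn.1.2
    obtain ⟨t, ht⟩ := card_pairOf_le hM hD0 hR
    have h1 := Subgroup.card_le_of_le ht
    rw [Subgroup.card_map_of_injective (MulEquiv.injective _), card_defectGroup hM hQn.1.2 hD0, hdef,
      ← card_defectGroup hM hmax.1.2.1 (maximal_pair_defect hM hmax),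
      ← Nat.card_congr (Subgroup.subgroupOfEquivOfLe hPQ).toEquiv] at h1
    exact (Subgroup.eq_of_le_of_card_ge (subpair_le hle) h1).symm
  -- the stabilizer
  have hT : ∀ t : Subgroup.centralizer (Q : Set G),
      t ∈ pairStab hMp hmax'.1.1.2 ↔ (t : G) ∈ pairStab hMp hmax.1.1.2 := by
    intro t
    rw [mem_pairStab, mem_pairStab]
    have hN : t ∈ Subgroup.normalizer (R0 : Set (Subgroup.centralizer (Q : Set G))) ↔
        (t : G) ∈ Subgroup.normalizer (P : Set G) := by
      refine ⟨fun h => Subgroup.mem_normalizer_iff.mpr fun z => ?_,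
        fun h => Subgroup.mem_normalizer_iff.mpr fun z => Subgroup.mem_normalizer_iff.mp h (z : G)⟩
      constructor
      · intro hz
        exact (Subgroup.mem_normalizer_iff.mp h ⟨z, hPQ hz⟩).mp hz
      · intro hz
        have hzQ : z ∈ Subgroup.centralizer (Q : Set G) := by
          have := mul_mem (mul_mem (inv_mem t.2) (hPQ hz)) t.2
          simpa [mul_assoc] using this
        exact (Subgroup.mem_normalizer_iff.mp h ⟨z, hzQ⟩).mpr hz
    constructor
    · rintro ⟨hn, -, hst⟩
      refine ⟨hN.mp hn, norm_cent (hN.mp hn), fun ξ hξ => ?_⟩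
      obtain ⟨_, ⟨ξ', hξ', rfl⟩, hcj⟩ := hst _ ⟨ξ, hξ, rfl⟩
      refine ⟨ξ', hξ', fun k k' hk => ?_⟩
      have := hcj (ε.symm k) (ε.symm k') (Subtype.ext hk)
      rwa [irrTransport_apply, irrTransport_apply, ε.apply_symm_apply, ε.apply_symm_apply] at this
    · rintro ⟨hn, -, hst⟩
      refine ⟨hN.mpr hn, norm_cent (hN.mpr hn), ?_⟩
      rintro _ ⟨ξ, hξ, rfl⟩
      obtain ⟨ξ', hξ', hcj⟩ := hst ξ hξ
      refine ⟨irrTransport ε ξ', ⟨ξ', hξ', rfl⟩, fun k k' hk => ?_⟩
      rw [irrTransport_apply, irrTransport_apply]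
      exact hcj (ε k) (ε k') (congrArg Subtype.val hk)
  -- the local ranks
  have hrk : ∀ v : R0, blockRank p (pairAt p M R0 c' (v : Subgroup.centralizer (Q : Set G))).2 =
      rk p M P c (Subgroup.centralizer
        ((Q ⊔ Subgroup.zpowers ((v : Subgroup.centralizer (Q : Set G)) : G) : Subgroup G) : Set G)) := by
    intro v
    set v0 : Subgroup.centralizer (Q : Set G) := (v : Subgroup.centralizer (Q : Set G)) with hv0
    have hvP : (v0 : G) ∈ P := v.2
    have hR : Q ⊔ Subgroup.zpowers (v0 : G) ≤ P := sup_le hQ (Subgroup.zpowers_le.mpr hvP)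
    have hmemR : ∀ x : G, x ∈ Subgroup.centralizer ((Q ⊔ Subgroup.zpowers (v0 : G) : Subgroup G) : Set G) ↔
        x ∈ Subgroup.centralizer (Q : Set G) ∧ Commute (v0 : G) x := fun x => by
      rw [mem_centralizer_sup, mem_czp]
    let ψ : Subgroup.centralizer (Subgroup.zpowers v0 : Set (Subgroup.centralizer (Q : Set G))) ≃*
        Subgroup.centralizer ((Q ⊔ Subgroup.zpowers (v0 : G) : Subgroup G) : Set G) :=
      { toFun := fun x => ⟨((x : Subgroup.centralizer (Q : Set G)) : G),
          (hmemR _).mpr ⟨(x : Subgroup.centralizer (Q : Set G)).2, congrArg Subtype.val (mem_czp.mp x.2).eq⟩⟩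
        invFun := fun x => ⟨⟨(x : G), ((hmemR _).mp x.2).1⟩, mem_czp.mpr (Subtype.ext ((hmemR _).mp x.2).2.eq)⟩
        left_inv := fun _ => rfl
        right_inv := fun _ => rfl
        map_mul' := fun _ _ => rfl }
    haveI := Fintype.ofFinite (Subgroup.centralizer ((Q ⊔ Subgroup.zpowers (v0 : G) : Subgroup G) : Set G))
    haveI := Fintype.ofFinite
      (Subgroup.centralizer (Subgroup.zpowers v0 : Set (Subgroup.centralizer (Q : Set G))))
    have hin := inducedIn_pull (M := M) (Subgroup.centralizer (Q : Set G)).subtype Subtype.val_injective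
      ψ (fun _ => rfl) ε (fun _ => rfl) (loc_spec hM hmax hab hR)
    have hle : Subgroup.zpowers v0 ≤ R0 := Subgroup.zpowers_le.mpr v.2
    have hn := InducedIn.normal_of_inducedIn hM hR0p hle (BelowData.le_centralizer hR0ab hle) hin
    rw [show (pairAt p M R0 c' v0).2 = irrTransport ψ ''
        loc M P c (Subgroup.centralizer ((Q ⊔ Subgroup.zpowers (v0 : G) : Subgroup G) : Set G)) from
      SubsectionOrbits.below_unique hM (pairAt_normal hM hmax' hR0ab v.2) hn]
    exact SubsectionOrbits.blockRank_transport ψ _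
  set σ := Subgroup.subgroupOfEquivOfLe hPQ with hσ
  have hσv : ∀ v : R0, (σ v : G) = ((v : Subgroup.centralizer (Q : Set G)) : G) := fun v => rfl
  have hcT : ∀ v : Subgroup.centralizer (Q : Set G),
      cP (pairStab hMp hmax'.1.1.2) v = cP (pairStab hMp hmax.1.1.2 ⊓ Subgroup.centralizer (Q : Set G)) (v : G) := by
    intro v
    refine Nat.card_congr
      { toFun := fun x => ⟨((x : Subgroup.centralizer (Q : Set G)) : G), ⟨(hT _).mp x.2.1,
          (x : Subgroup.centralizer (Q : Set G)).2⟩, mem_czp.mpr (congrArg Subtype.val (mem_czp.mp x.2.2).eq)⟩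
        invFun := fun x => ⟨⟨(x : G), x.2.1.2⟩, (hT _).mpr x.2.1.1,
          mem_czp.mpr (Subtype.ext (mem_czp.mp x.2.2).eq)⟩
        left_inv := fun _ => rfl
        right_inv := fun _ => rfl }
  have hTc : Nat.card (pairStab hMp hmax'.1.1.2) =
      Nat.card (pairStab hMp hmax.1.1.2 ⊓ Subgroup.centralizer (Q : Set G) : Subgroup G) :=
    Nat.card_congr
      { toFun := fun x => ⟨((x : Subgroup.centralizer (Q : Set G)) : G), (hT _).mp x.2,
          (x : Subgroup.centralizer (Q : Set G)).2⟩
        invFun := fun x => ⟨⟨(x : G), x.2.2⟩, (hT _).mpr x.2.1⟩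
        left_inv := fun _ => rfl
        right_inv := fun _ => rfl }
  have hl1 : l.comp σ.toMonoidHom = 1 ↔ l = 1 := by
    refine ⟨fun h => MonoidHom.ext fun x => ?_, fun h => by rw [h]; rfl⟩
    have h1 := DFunLike.congr_fun h (σ.symm x)
    rwa [MonoidHom.comp_apply, MulEquiv.coe_toMonoidHom, σ.apply_symm_apply] at h1
  haveI := Fintype.ofFinite R0
  have hcount := weighted_count hM hmax' hR0ab (l.comp σ.toMonoidHom) fun t ht x y hxy =>
    hl (t : G) ⟨(hT t).mp ht, t.2⟩ (σ x) (σ y) (congrArg Subtype.val hxy)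
  rw [hTc] at hcount
  simp only [hl1] at hcount
  rw [kk, ← hbd, ← hcount]
  refine (Fintype.sum_equiv σ.toEquiv _ _ fun v => ?_).symm
  rw [hrk v, hcT]
  rfl

end Cfsg.Agent.Char.InertiaFixed
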