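import Cfsg.Agent.Lib.Char.InertiaFixedLocal

/-!
# Centralizing an element fixed by the inertial stabilizer keeps the counts

With the norm map `N` of the stabilizer on `P`, the weighted local ranks have the same total on every fibre of
`N`.  By induction on the centralizer the fibres through `u` and through `1` agree for the two blocks.
-/

set_option autoImplicit false
set_option linter.unusedSectionVars false
set_option linter.style.haveILetI false

namespace Cfsg.Agent.Char.InertiaFixed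

open Cfsg Cfsg.Agent.Char.Star

universe u

section Norm

variable {G : Type u} [Group G] [Fintype G] {P : Subgroup G}

/-- The norm of a group of automorphisms of order prime to `p`. -/
theorem exists_norm {p k : ℕ} (hp : p.Prime) (hcard : Nat.card P = p ^ k)
    (hab : ∀ x ∈ P, ∀ y ∈ P, x * y = y * x) {S : Subgroup G}
    (hSN : S ≤ Subgroup.normalizer (P : Set G))
    (hidx : ¬ p ∣ (Subgroup.centralizer (P : Set G)).relIndex S) :
    ∃ (N : P →* P) (m : ℕ), (Nat.card P).Coprime m ∧
      (∀ t ∈ S, ∀ x y : P, (y : G) = t * x * t⁻¹ → N y = N x) ∧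
      ∀ x : P, (∀ t ∈ S, t * (x : G) * t⁻¹ = x) → N x = x ^ m := by
  classical
  letI : CommGroup P :=
    { (inferInstance : Group P) with mul_comm := fun x y => Subtype.ext (hab x x.2 y y.2) }
  set φ : S →* MulAut P := (Subgroup.normalizerMonoidHom P).comp (Subgroup.inclusion hSN) with hφ
  have hφv : ∀ (t : S) (x : P), ((φ t x : P) : G) = t * x * (t : G)⁻¹ := fun t x => rfl
  haveI : Fintype φ.range := Fintype.ofFinite _
  let N : P →* P :=
    { toFun := fun x => ∏ a : φ.range, (a : MulAut P) x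
      map_one' := by simp
      map_mul' := fun x y => by simp [Finset.prod_mul_distrib] }
  refine ⟨N, Nat.card φ.range, ?_, fun t ht x y hy => ?_, fun x hx => ?_⟩
  · rw [hcard, ← Subgroup.index_ker φ]
    refine Nat.Coprime.pow_left k (hp.coprime_iff_not_dvd.mpr ?_)
    convert hidx using 4
    rw [Subgroup.relIndex]
    congr 1
    ext t
    rw [MonoidHom.mem_ker, Subgroup.mem_subgroupOf]
    refine ⟨fun h z hz => ?_, fun h => MulEquiv.ext fun z => Subtype.ext ?_⟩
    · have h1 : (t : G) * z * (t : G)⁻¹ = z := by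
        rw [← hφv t ⟨z, hz⟩, h]
        rfl
      exact (mul_inv_eq_iff_eq_mul.mp h1).symm
    · rw [hφv, ← h z z.2, mul_inv_cancel_right]
      rfl
  · have e : y = φ ⟨t, ht⟩ x := Subtype.ext hy
    show ∏ a : φ.range, (a : MulAut P) y = ∏ a : φ.range, (a : MulAut P) x
    rw [e]
    exact Fintype.prod_equiv (Equiv.mulRight ⟨φ ⟨t, ht⟩, ⟨t, ht⟩, rfl⟩) _ _ fun a => rfl
  · show ∏ a : φ.range, (a : MulAut P) x = x ^ Nat.card φ.range
    rw [Finset.prod_congr rfl (g := fun _ => x) fun a _ => ?_, Finset.prod_const, Finset.card_univ,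
      Nat.card_eq_fintype_card]
    obtain ⟨t, ht⟩ := a.2
    rw [← ht]
    exact Subtype.ext ((hφv t x).trans (hx t t.2))

open scoped Classical in
/-- Orthogonality makes the fibre sums of a homomorphism constant. -/
theorem fibre_const {A : Type u} [Group A] [Fintype A] [DecidableEq A] (hcomm : ∀ x y : A, x * y = y * x) (N : A →* A) (c : A → ℂ)
    (K : ℂ) (h : ∀ μ : A →* ℂˣ, ∑ v, (μ (N v) : ℂ) * c v = if μ.comp N = 1 then K else 0) :
    (∀ v0 : A, ∑ v with N v = N v0, c v = ∑ v with N v = 1, c v) ∧ ∑ v, c v = K := by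
  letI : CommGroup A := { (inferInstance : Group A) with mul_comm := hcomm }
  haveI : NeZero (Monoid.exponent A) := ⟨Monoid.exponent_ne_zero_of_finite⟩
  haveI : Finite (A →* ℂˣ) := Nat.finite_of_card_ne_zero (by
    rw [CommGroup.card_monoidHom_of_hasEnoughRootsOfUnity]; exact Nat.card_pos.ne')
  haveI : Fintype (A →* ℂˣ) := Fintype.ofFinite _
  have horth : ∀ y : A, ∑ μ : A →* ℂˣ, (μ y : ℂ) = if y = 1 then (Nat.card (A →* ℂˣ) : ℂ) else 0 := by
    intro y
    by_cases hy : y = 1
    · rw [if_pos hy, hy, Nat.card_eq_fintype_card]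
      simp
    · rw [if_neg hy]
      obtain ⟨μ0, hμ0⟩ := CommGroup.exists_apply_ne_one_of_hasEnoughRootsOfUnity A ℂ hy
      have e : ∑ μ : A →* ℂˣ, (μ y : ℂ) = (μ0 y : ℂ) * ∑ μ : A →* ℂˣ, (μ y : ℂ) := by
        rw [Finset.mul_sum]
        refine (Fintype.sum_equiv (Equiv.mulLeft μ0) _ _ fun μ => ?_).symm
        rw [Equiv.coe_mulLeft, MonoidHom.mul_apply, Units.val_mul]
      by_contra hne
      exact hμ0 (Units.val_eq_one.mp (mul_eq_right₀ hne |>.mp e.symm))
  refine ⟨fun v0 => ?_, ?_⟩
  · have hD : (Nat.card (A →* ℂˣ) : ℂ) ≠ 0 := Nat.cast_ne_zero.mpr Nat.card_pos.ne'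
    have key : ∀ z : A, ∑ μ : A →* ℂˣ, (μ z⁻¹ : ℂ) * ∑ v, (μ (N v) : ℂ) * c v =
        (Nat.card (A →* ℂˣ) : ℂ) * ∑ v with N v = z, c v := by
      intro z
      simp only [Finset.mul_sum, Finset.sum_filter]
      rw [Finset.sum_comm]
      refine Finset.sum_congr rfl fun v _ => ?_
      rw [Finset.sum_congr rfl (g := fun μ : A →* ℂˣ => (μ (z⁻¹ * N v) : ℂ) * c v) fun μ _ => by
        rw [map_mul, Units.val_mul, mul_assoc], ← Finset.sum_mul, horth]
      by_cases hz : N v = z
      · rw [if_pos hz, if_pos (by rw [hz, inv_mul_cancel])]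
      · rw [if_neg hz, if_neg (fun h => hz (inv_mul_eq_one.mp h).symm), zero_mul, mul_zero]
    refine mul_left_cancel₀ hD ?_
    rw [← key, ← key]
    refine Finset.sum_congr rfl fun μ _ => ?_
    rw [h]
    split_ifs with hμ
    · have : μ (N v0) = 1 := DFunLike.congr_fun hμ v0
      rw [map_inv, this, inv_one, map_inv, map_one, inv_one]
    · rw [mul_zero, mul_zero]
  · have h1 := h 1
    rw [if_pos (MonoidHom.one_comp N)] at h1
    simpa using h1

end Norm

variable {G : Type u} [Group G] [Fintype G] {M : Ideal AlgInt} {p : ℕ} {B : Set (IrrCharacter G)}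
  {P : Subgroup G} {c : Set (IrrCharacter (Subgroup.centralizer (P : Set G)))}
  (hM : IsPModular p M) (hmax : IsMaximalBrauerPair p M B P c) (hab : ∀ x ∈ P, ∀ y ∈ P, x * y = y * x)
include hM hmax hab

open scoped Classical in
/-- The counts of the block of `C(Q)` and of the block of `C(Q ⊔ ⟨w⟩)` agree. -/
theorem counts_fixed : ∀ (n : ℕ) (Q : Subgroup G), Q ≤ P → Nat.card (Subgroup.centralizer (Q : Set G)) ≤ n →
    ∀ w ∈ P, (∀ t ∈ pairStab (pmod_prime hM) hmax.1.1.2 ⊓ Subgroup.centralizer (Q : Set G), t * w * t⁻¹ = w) →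
      rk p M P c (Subgroup.centralizer (Q : Set G)) =
          rk p M P c (Subgroup.centralizer ((Q ⊔ Subgroup.zpowers w : Subgroup G) : Set G)) ∧
        kk M P c (Subgroup.centralizer (Q : Set G)) =
          kk M P c (Subgroup.centralizer ((Q ⊔ Subgroup.zpowers w : Subgroup G) : Set G)) := by
  intro n
  induction n with
  | zero => intro Q _ hn; exact absurd hn Nat.card_pos.not_ge
  | succ n ih =>
  intro Q hQ hn w hw hwT
  haveI := Fintype.ofFinite P
  haveI := Fact.mk hM.1
  set R := Q ⊔ Subgroup.zpowers w with hRd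
  by_cases hQR : Subgroup.centralizer (R : Set G) = Subgroup.centralizer (Q : Set G)
  · rw [hQR]; exact ⟨rfl, rfl⟩
  set T := pairStab (pmod_prime hM) hmax.1.1.2 with hTd
  set S := T ⊓ Subgroup.centralizer (Q : Set G) with hSd
  have hRP : R ≤ P := sup_le hQ (Subgroup.zpowers_le.mpr hw)
  have hS : T ⊓ Subgroup.centralizer (R : Set G) = S := by
    ext t
    rw [Subgroup.mem_inf, hRd, mem_centralizer_sup, mem_czp, hSd, Subgroup.mem_inf]
    refine ⟨fun h => ⟨h.1, h.2.1⟩, fun h => ⟨h.1, h.2, ?_⟩⟩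
    exact (mul_inv_eq_iff_eq_mul.mp (hwT t ⟨h.1, h.2⟩)).symm
  have hSN : S ≤ Subgroup.normalizer (P : Set G) := fun t ht => ((mem_pairStab _ _).mp ht.1).1
  have hidx : ¬ p ∣ (Subgroup.centralizer (P : Set G)).relIndex S := by
    intro hd
    have h0 := KleinBlock.inertial_prime hM hmax hab
    rw [← hTd] at h0
    have hCS : Subgroup.centralizer (P : Set G) ≤ S :=
      le_inf ((stabCtx_pairStab hM hmax.1.1.1 hmax.1.1.2).cent) (Subgroup.centralizer_le hQ)
    have hd' : p ∣ (Subgroup.centralizer (P : Set G)).relIndex T :=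
      hd.trans (Dvd.intro _ (Subgroup.relIndex_mul_relIndex _ _ _ hCS inf_le_left))
    have : 1 ≤ ((Subgroup.centralizer (P : Set G)).relIndex T).factorization p :=
      (hM.1.dvd_iff_one_le_factorization Subgroup.index_ne_zero_of_finite).mp hd'
    omega
  obtain ⟨k, hk⟩ := IsPGroup.iff_card.mp hmax.1.1.1
  obtain ⟨N, m, hm, hNinv, hNfix⟩ := exists_norm hM.1 hk hab hSN hidx
  set a : P → ℂ := fun v => (cP S (v : G) : ℂ) *
    (rk p M P c (Subgroup.centralizer ((Q ⊔ Subgroup.zpowers (v : G) : Subgroup G) : Set G)) : ℂ) with ha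
  set b : P → ℂ := fun v => (cP S (v : G) : ℂ) *
    (rk p M P c (Subgroup.centralizer ((R ⊔ Subgroup.zpowers (v : G) : Subgroup G) : Set G)) : ℂ) with hb
  have hcomm : ∀ x y : P, x * y = y * x := fun x y => Subtype.ext (hab x x.2 y y.2)
  have hA := fibre_const hcomm N a ((Nat.card S : ℂ) * (kk M P c (Subgroup.centralizer (Q : Set G)) : ℂ))
    fun μ => by
      rw [← mul_zero (Nat.card S : ℂ), ← mul_ite]
      have h1 := local_count hM hmax hab hQ (μ.comp N) fun t ht x y hxy => by
        rw [MonoidHom.comp_apply, MonoidHom.comp_apply, hNinv t ht x y hxy]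
      rw [← hTd, ← hSd] at h1
      simp only [MonoidHom.comp_apply] at h1
      convert h1 using 3
  have hB := fibre_const hcomm N b ((Nat.card S : ℂ) * (kk M P c (Subgroup.centralizer (R : Set G)) : ℂ))
    fun μ => by
      rw [← mul_zero (Nat.card S : ℂ), ← mul_ite]
      have h1 := local_count hM hmax hab hRP (μ.comp N) fun t ht x y hxy => by
        rw [MonoidHom.comp_apply, MonoidHom.comp_apply, hNinv t (hS ▸ ht) x y hxy]
      rw [← hTd, hS] at h1
      simp only [MonoidHom.comp_apply] at h1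
      convert h1 using 3
  -- away from the central elements the two weights agree
  have hstep : ∀ v : P, Subgroup.centralizer ((Q ⊔ Subgroup.zpowers (v : G) : Subgroup G) : Set G) ≠
      Subgroup.centralizer (Q : Set G) → a v = b v := by
    intro v hv
    have hlt : Nat.card (Subgroup.centralizer ((Q ⊔ Subgroup.zpowers (v : G) : Subgroup G) : Set G)) ≤ n := by
      refine Nat.lt_succ_iff.mp (lt_of_lt_of_le ?_ hn)
      refine Nat.lt_of_not_le fun hle => hv ?_
      exact Subgroup.eq_of_le_of_card_ge (Subgroup.centralizer_le (le_sup_left : Q ≤ Q ⊔ Subgroup.zpowers (v : G))) hle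
    have h1 := (ih _ (sup_le hQ (Subgroup.zpowers_le.mpr v.2)) hlt w hw fun t ht =>
      hwT t ⟨ht.1, Subgroup.centralizer_le (le_sup_left : Q ≤ Q ⊔ Subgroup.zpowers (v : G)) ht.2⟩).1
    rw [ha, hb]
    dsimp only
    rw [h1, hRd, sup_right_comm]
  have hcen : ∀ v : P, Subgroup.centralizer ((Q ⊔ Subgroup.zpowers (v : G) : Subgroup G) : Set G) =
      Subgroup.centralizer (Q : Set G) → N v = v ^ m := by
    intro v hv
    refine hNfix v fun t ht => ?_
    have ht' : t ∈ Subgroup.centralizer ((Q ⊔ Subgroup.zpowers (v : G) : Subgroup G) : Set G) := hv ▸ ht.2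
    rw [← (mem_czp.mp (mem_centralizer_sup.mp ht').2).eq, mul_inv_cancel_right]
  have hNw : N ⟨w, hw⟩ = (⟨w, hw⟩ : P) ^ m := hNfix _ hwT
  have hinj : Function.Injective fun v : P => v ^ m := (powCoprime hm).injective
  -- the fibre through `w` gives the number of characters
  have hfw : ∑ v with N v = N ⟨w, hw⟩, a v = ∑ v with N v = N ⟨w, hw⟩, b v := by
    refine Finset.sum_congr rfl fun v hv => hstep v fun hc => hQR ?_
    have e : v = ⟨w, hw⟩ := hinj (((hcen v hc).symm.trans (Finset.mem_filter.mp hv).2).trans hNw)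
    rw [e] at hc
    exact hc
  have hf1 : ∑ v with N v = 1, a v = ∑ v with N v = 1, b v := by
    rw [← hA.1 ⟨w, hw⟩, hfw, hB.1]
  have htot : ∀ f : P → ℂ, (∀ v0 : P, ∑ v with N v = N v0, f v = ∑ v with N v = 1, f v) →
      ∑ v, f v = ∑ z ∈ Finset.univ.image N, ∑ v with N v = 1, f v := fun f hf => by
    rw [← Finset.sum_fiberwise_of_maps_to (fun v _ => Finset.mem_image_of_mem N (Finset.mem_univ v)) f]
    refine Finset.sum_congr rfl fun z hz => ?_
    obtain ⟨v0, -, rfl⟩ := Finset.mem_image.mp hz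
    exact hf v0
  refine ⟨?_, ?_⟩
  · have hone : (1 : P) ∈ Finset.univ.filter fun v : P => N v = 1 :=
      Finset.mem_filter.mpr ⟨Finset.mem_univ _, map_one N⟩
    rw [← Finset.add_sum_erase _ _ hone, ← Finset.add_sum_erase _ _ hone,
      Finset.sum_congr rfl (g := b) fun v hv => hstep v fun hc => ?_] at hf1
    · have h2 := add_right_cancel hf1
      simp only [ha, hb, OneMemClass.coe_one, Subgroup.zpowers_one_eq_bot, sup_bot_eq] at h2
      have hne : (cP S (1 : G) : ℂ) ≠ 0 := Nat.cast_ne_zero.mpr Nat.card_pos.ne'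
      exact_mod_cast mul_left_cancel₀ hne h2
    · obtain ⟨hv1, hv⟩ := Finset.mem_erase.mp hv
      refine hv1 (hinj ?_)
      show v ^ m = (1 : P) ^ m
      rw [← hcen v hc, (Finset.mem_filter.mp hv).2, one_pow]
  · have h2 : (Nat.card S : ℂ) * (kk M P c (Subgroup.centralizer (Q : Set G)) : ℂ) =
        (Nat.card S : ℂ) * (kk M P c (Subgroup.centralizer (R : Set G)) : ℂ) := by
      rw [← hA.2, ← hB.2, htot a hA.1, htot b hB.1, hf1]
    exact_mod_cast mul_left_cancel₀ (Nat.cast_ne_zero.mpr Nat.card_pos.ne') h2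

omit hmax hab in
open scoped Classical in
/-- Inside the whole group induction is induction. -/
theorem top_counts {H : Subgroup G} (hH : H = ⊤) [Fintype H] {f : Set (IrrCharacter H)}
    (hf : IsInducedBlockIn M H (Subgroup.centralizer (P : Set G)) c f)
    (hc : IsInducedBlock M (Subgroup.centralizer (P : Set G)) c B) :
    blockRank p f = blockRank p B ∧ Nat.card f = Nat.card B := by
  have hP := pmod_prime hM
  set ε : G ≃* H := ((MulEquiv.subgroupCongr hH).trans Subgroup.topEquiv).symm with hε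
  have hεv : ∀ g : G, ((ε g : H) : G) = g := fun g => rfl
  have hfG : IsPBlock M (irrTransport ε '' f) := isPBlock_transport ε hf.2.1
  have hind : ∀ ξ ∈ c, ∀ χ ∈ irrTransport ε '' f, ∀ g : G,
      MemLocalIdeal M (inducedCentralChar (Subgroup.centralizer (P : Set G)) (ξ : _ → ℂ) g -
        centralChar (χ : G → ℂ) g) := by
    rintro ξ hξ _ ⟨χ, hχ, rfl⟩ g
    rw [centralChar_transport]
    convert hf.2.2 ξ hξ χ hχ (ε g) using 3
    rw [inducedCentralChar, inducedCentralCharIn, hεv]
    refine finsum_mem_congr (Set.ext fun k =>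
      ⟨fun h => ?_, fun ⟨x, hx⟩ => (isConj_iff.mpr ⟨(x : G), hx⟩ : IsConj (k : G) g).symm⟩) fun _ _ => rfl
    obtain ⟨x, hx⟩ := isConj_iff.mp (IsConj.symm h)
    exact ⟨⟨x, hH ▸ Subgroup.mem_top x⟩, hx⟩
  have hfB : irrTransport ε '' f = B := by
    obtain ⟨ξ, hξ⟩ := block_nonempty hP hc.1
    obtain ⟨χ, hχ⟩ := block_nonempty hP hfG
    obtain ⟨ψ, hψ⟩ := block_nonempty hP hc.2.1
    refine block_disjoint hP hfG hc.2.1 hχ ((mem_block_iff hP hc.2.1 hψ χ).mpr fun g => ?_)
    exact memLI_trans hP (memLI_symm hP (hc.2.2 ξ hξ ψ hψ g)) (hind ξ hξ χ hχ g)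
  rw [← hfB, SubsectionOrbits.blockRank_transport, Nat.card_image_of_injective (irrTransport_injective ε)]
  exact ⟨rfl, rfl⟩

end Cfsg.Agent.Char.InertiaFixed
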