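import Cfsg.Agent.Lib.Char.StarPairs
import Cfsg.Agent.Lib.Char.BelowData
import Cfsg.Agent.Lib.Char.SectionNorm

/-!
# The weighted count of local ranks below an abelian maximal pair

For an abelian maximal pair `(P, e)` with stabilizer `T`, a linear character `l` of `P` invariant under `T`
permutes the characters of the block and fixes one of them only when it is trivial.  So
`∑ x ∈ P, l x * |C_T(x)| * l(b_x)` is `|T| * k(B)` for trivial `l` and zero otherwise.
-/

set_option autoImplicit false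
set_option linter.unusedSectionVars false
set_option linter.style.haveILetI false

namespace Cfsg.Agent.Char.InertiaFixed

open Cfsg Relation Cfsg.Agent.Char.Star
open scoped ComplexConjugate

universe u

variable {G : Type u} [Group G] [Fintype G] {M : Ideal AlgInt} {p : ℕ} {B : Set (IrrCharacter G)}
  {P : Subgroup G} {e : Set (IrrCharacter (Subgroup.centralizer (P : Set G)))}
  (hM : IsPModular p M) (hmax : IsMaximalBrauerPair p M B P e) (hab : ∀ x ∈ P, ∀ y ∈ P, x * y = y * x)

include hM hmax hab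

theorem pairAt_normal {v : G} (hv : v ∈ P) :
    IsNormalSubpair p M (pairAt p M P e v).1 (pairAt p M P e v).2 P e :=
  SubsectionOrbits.normal_of_le hM hmax hab (pairAt_spec hM hmax hv).2

/-- The stabilizer moves the pair at `v` to the pair at the conjugate. -/
theorem pairAt_stab {v t : G} (hv : v ∈ P) (ht : t ∈ pairStab (pmod_prime hM) hmax.1.1.2) :
    t * v * t⁻¹ ∈ P ∧ conjIdx t (pairAt p M P e v) = pairAt p M P e (t * v * t⁻¹) := by
  have htN := ((mem_pairStab _ _).mp ht).1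
  have htv : t * v * t⁻¹ ∈ P := (Subgroup.mem_normalizer_iff.mp htN v).mp hv
  refine ⟨htv, pairAt_eq hM hmax htv ?_ (isPBlock_conjBlock t (pairAt_spec hM hmax hv).1) ?_⟩
  · show (Subgroup.zpowers v).map _ = _
    rw [MonoidHom.map_zpowers]
    rfl
  · refine ReflTransGen.single ?_
    exact Eq.mp (congrArg (fun a : BrauerPairIdx G => IsNormalSubpair p M (conjIdx t (pairAt p M P e v)).1
      (conjIdx t (pairAt p M P e v)).2 a.1 a.2) (show conjIdx t (⟨P, e⟩ : BrauerPairIdx G) = ⟨P, e⟩ from ht))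
        (normalSubpair_conj hM t (pairAt_normal hM hmax hab hv))

/-- Pairs below the maximal one that are conjugate are conjugate by the stabilizer. -/
theorem pairAt_fuse {v v' k : G} (hv : v ∈ P) (hv' : v' ∈ P) (hk : k * v * k⁻¹ = v')
    (hc : conjIdx k (pairAt p M P e v) = pairAt p M P e v') :
    ∃ t ∈ pairStab (pmod_prime hM) hmax.1.1.2, t * v * t⁻¹ = v' :=
  CentralPairs.fuse hM hmax (pairAt_normal hM hmax hab hv) (pairAt_normal hM hmax hab hv')
    (fun d hd => hab d hd v hv) (fun d hd => hab d hd v' hv') hk hc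

/-- An invariant linear character is stable. -/
theorem stable_invariant (l : P →* ℂˣ)
    (hl : ∀ t ∈ pairStab (pmod_prime hM) hmax.1.1.2, ∀ x y : P, (y : G) = t * x * t⁻¹ → l y = l x) :
    Stable p M P e (linFun l) := by
  intro a v k ha h1 h2
  obtain ⟨Q, f⟩ := a
  dsimp only at ha
  subst ha
  have hv : v ∈ P := subpair_rel_le h1 (Subgroup.mem_zpowers v)
  have hkv : k * v * k⁻¹ ∈ P := subpair_rel_le h2 ⟨v, Subgroup.mem_zpowers v, rfl⟩
  have hfb : IsPBlock M (⟨Subgroup.zpowers v, f⟩ : BrauerPairIdx G).2 := (isBrauerPair_of_le hmax.1.1 h1).2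
  have e1 : (⟨Subgroup.zpowers v, f⟩ : BrauerPairIdx G) = pairAt p M P e v := pairAt_eq hM hmax hv rfl hfb h1
  have e2 : conjIdx k (⟨Subgroup.zpowers v, f⟩ : BrauerPairIdx G) = pairAt p M P e (k * v * k⁻¹) :=
    pairAt_eq hM hmax hkv (by show (Subgroup.zpowers v).map _ = _; rw [MonoidHom.map_zpowers]; rfl)
      (isPBlock_conjBlock k hfb) h2
  rw [e1] at e2
  obtain ⟨t, ht, htv⟩ := pairAt_fuse hM hmax hab hv hkv rfl e2
  rw [show linFun l (k * v * k⁻¹) = _ from linFun_mem l ⟨_, hkv⟩, show linFun l v = _ from linFun_mem l ⟨v, hv⟩,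
    hl t ht ⟨v, hv⟩ ⟨_, hkv⟩ htv.symm]

open scoped Classical in
/-- A character fixed by a linear character makes it trivial. -/
theorem trivial_of_fixed {l : P →* ℂˣ} (hlam : Stable p M P e (linFun l)) {χ : IrrCharacter G} (hχ : χ ∈ B)
    (hfix : theta p M B P e (linFun l) (χ : G → ℂ) = (χ : G → ℂ)) : l = 1 := by
  refine MonoidHom.ext fun z => ?_
  have hzD : ∀ d ∈ P, d * (z : G) = (z : G) * d := fun d hd => hab d hd z z.2
  obtain ⟨f, hn, -, hind, hdef⟩ := CentralPairs.exists_below hM hmax z.2 hzD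
  haveI := Fact.mk hM.1
  obtain ⟨k, hk⟩ := IsPGroup.iff_card.mp hn.1.1
  obtain ⟨s, hs, hne⟩ :=
    exists_part_ne hM ⟨k, by rwa [Nat.card_zpowers] at hk⟩ hn.1.2 hind hχ (Or.inr hdef)
  have h := weight_one_of_fixed hM hmax hlam hχ hfix z.2 (ReflTransGen.single hn) hs hne
  rw [linFun_mem] at h
  exact Units.val_eq_one.mp h

open scoped Classical in
/-- The trace of the permutation of the characters by a linear character. -/
theorem trace_eq {l : P →* ℂˣ} (hlam : Stable p M P e (linFun l)) :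
    ∑ χ : IrrCharacter G with χ ∈ B, classInner (theta p M B P e (linFun l) (χ : G → ℂ)) (χ : G → ℂ) =
      if l = 1 then (Nat.card B : ℂ) else 0 := by
  by_cases hl : l = 1
  · rw [if_pos hl, Finset.sum_congr rfl (g := fun _ => (1 : ℂ)) fun χ hχ => ?_, Finset.sum_const,
      nsmul_eq_mul, mul_one]
    · rw [Nat.card_eq_fintype_card, ← Fintype.card_subtype]
    have hχ' := (Finset.mem_filter.mp hχ).2
    rw [show theta p M B P e (linFun l) (χ : G → ℂ) = (χ : G → ℂ) from ?_, irr_orth χ.2 χ.2, if_pos rfl]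
    conv_rhs => rw [← theta_one hM hmax hχ']
    funext g
    refine Finset.sum_congr rfl fun a ha => ?_
    obtain ⟨w, hw, -, e1⟩ := exists_into hM hmax hlam ha
    rw [e1, wt_one hM hmax ha, show linFun l _ = _ from linFun_mem l ⟨_, hw⟩, hl]
    rfl
  · rw [if_neg hl]
    refine Finset.sum_eq_zero fun χ hχ => ?_
    have hχ' := (Finset.mem_filter.mp hχ).2
    obtain ⟨ψ, -, hψ, -⟩ := exists_act hM hmax hlam χ hχ'
    rw [hψ, irr_orth ψ.2 χ.2, if_neg fun h => hl (trivial_of_fixed hM hmax hab hlam hχ' (hψ.trans h))]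

omit hM hmax hab in
theorem conj_blockPart_shift (x : G) {C : Subgroup G} [Fintype C] (hC : C = Subgroup.centralizer ({x} : Set G))
    (f : Set (IrrCharacter C)) (χ : IrrCharacter G) (s : C) :
    conj (blockPart f (fun c : C => (χ : G → ℂ) (x * (c : G))) s) =
      blockPart f (fun c : C => (χ : G → ℂ) (x⁻¹ * (c : G))) s⁻¹ := by
  subst hC
  have e : (fun c : Subgroup.centralizer ({x} : Set G) => (χ : G → ℂ) (x * (c : G))) = secFun x (χ : G → ℂ) := by
    funext c
    rw [secFun]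
  rw [e]
  exact (blockPart_secFun_inv f χ s).symm

omit hmax hab in
open scoped Classical in
/-- Over a subsection the norms add up to the local rank. -/
theorem sum_sct (hB : IsPBlock M B) {u : G} (hu : ∃ k : ℕ, orderOf u = p ^ k) {a : BrauerPairIdx G}
    (ha : a ∈ prs p M B u) :
    ∑ χ : IrrCharacter G with χ ∈ B, sct p (χ : G → ℂ) (χ : G → ℂ) u a =
      (cG u : ℂ) * (blockRank p a.2 : ℂ) := by
  obtain ⟨h1, h2⟩ := mem_prs.mp ha
  obtain ⟨Q, f⟩ := a
  dsimp only at h1
  subst h1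
  haveI := Fintype.ofFinite (Subgroup.centralizer (Subgroup.zpowers u : Set G))
  have h := sum_subsection_norms hM hu hB (centralizer_zp u) h2.1.2 fun ξ hξ => by
    have h3 := h2.2.2 ξ hξ
    rwa [brauerOmega_eq] at h3
  refine Eq.trans ?_ h
  refine Finset.sum_congr rfl fun χ _ => ?_
  rw [sct, sum_regC, Finset.sum_filter]
  refine Finset.sum_congr rfl fun s _ => ?_
  by_cases hs : p ∣ orderOf s
  · simp [pRegularPart, IsPRegular, hs]
  · rw [if_pos hs, pc_eq_blockPart (isClassFunction_character (irr_isCharacter χ.2)) (Subgroup.mem_zpowers u) f s]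
    simp only [pRegularPart, IsPRegular, hs, not_false_eq_true, if_true]
    congr 1
    exact conj_blockPart_shift u (centralizer_zp u) f χ s

omit hM hmax hab in
theorem cG_conj (w v : G) : cG (w * v * w⁻¹) = cG v := by
  rw [cG_eq, cG_eq, Star.card_centralizer_conj]

omit hmax hab in
theorem blockRank_conjIdx (w : G) {a : BrauerPairIdx G} : blockRank p (conjIdx w a).2 = blockRank p a.2 := by
  haveI := Fintype.ofFinite (Subgroup.centralizer (a.1 : Set G))
  haveI := Fintype.ofFinite (Subgroup.centralizer ((a.1.map (MulAut.conj w).toMonoidHom : Subgroup G) : Set G))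
  show blockRank p (conjBlock a.1 w a.2) = _
  rw [conjBlock_eq, SubsectionOrbits.blockRank_transport]

open scoped Classical in
/-- Sums over subsections as sums over `P`, weighted by the centralizers in the stabilizer. -/
theorem sum_orbits [Fintype P] (F : G → BrauerPairIdx G → ℂ)
    (hF : ∀ (w u : G), ∀ a ∈ prs p M B u, F (w * u * w⁻¹) (conjIdx w a) = F u a) :
    (Nat.card (pairStab (pmod_prime hM) hmax.1.1.2) : ℂ) * ∑ u ∈ pels G p, ∑ a ∈ prs p M B u, F u a =
      (Nat.card G : ℂ) * ∑ v : P, (cP (pairStab (pmod_prime hM) hmax.1.1.2) (v : G) : ℂ) / (cG (v : G) : ℂ) *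
        F v (pairAt p M P e v) := by
  have hP := pmod_prime hM
  haveI := Fact.mk hM.1
  set T := pairStab (pmod_prime hM) hmax.1.1.2 with hT
  let w : G → ℂ := fun v => (cP T v : ℂ) / (cG v : ℂ)
  let Φ : P × G → Σ _ : G, BrauerPairIdx G := fun x =>
    ⟨x.2 * x.1 * x.2⁻¹, conjIdx x.2 (pairAt p M P e x.1)⟩
  have hmem : ∀ v : P, pairAt p M P e (v : G) ∈ prs p M B (v : G) := fun v => pairAt_mem hM hmax v.2
  have hmaps : ∀ x ∈ (Finset.univ : Finset (P × G)), Φ x ∈ (pels G p).sigma (prs p M B) := by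
    intro x _
    refine Finset.mem_sigma.mpr ⟨mem_pels.mpr ?_, prs_conj_mem x.2 (hmem x.1)⟩
    obtain ⟨k, hk⟩ := IsPGroup.iff_orderOf.mp hmax.1.1.1 x.1
    refine ⟨k, ?_⟩
    show orderOf (x.2 * (x.1 : G) * x.2⁻¹) = p ^ k
    rw [show x.2 * (x.1 : G) * x.2⁻¹ = MulAut.conj x.2 x.1 from rfl, MulEquiv.orderOf_eq,
      Subgroup.orderOf_coe, hk]
  have htot : ∑ x : P × G, w x.1 * F (Φ x).1 (Φ x).2 =
      (Nat.card G : ℂ) * ∑ v : P, w v * F v (pairAt p M P e v) := by
    rw [Fintype.sum_prod_type, Finset.mul_sum]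
    refine Finset.sum_congr rfl fun v _ => ?_
    rw [Finset.sum_congr rfl (g := fun _ => w v * F v (pairAt p M P e v)) fun g _ => by
      show w v * F (g * v * g⁻¹) (conjIdx g (pairAt p M P e v)) = _
      rw [hF g v _ (hmem v)], Finset.sum_const, Finset.card_univ, nsmul_eq_mul,
      ← Nat.card_eq_fintype_card]
  rw [← htot, ← Finset.sum_fiberwise_of_maps_to hmaps, Finset.sum_sigma, Finset.mul_sum]
  refine Finset.sum_congr rfl fun u hu => ?_
  rw [Finset.mul_sum]
  refine Finset.sum_congr rfl fun a ha => ?_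
  rw [Finset.sum_congr rfl (g := fun x => w x.1 * F u a) fun x hx => by
    rw [(Finset.mem_filter.mp hx).2], ← Finset.sum_mul]
  congr 1
  -- the fibre
  obtain ⟨h1, h2⟩ := mem_prs.mp ha
  obtain ⟨g, hg⟩ := pairs_conj_into_maximal hM hmax h2
  have hv0 : g * u * g⁻¹ ∈ P := subpair_rel_le hg ⟨u, h1 ▸ Subgroup.mem_zpowers u, rfl⟩
  set v0 : P := ⟨g * u * g⁻¹, hv0⟩ with hv0d
  have hp0 : conjIdx g a = pairAt p M P e (v0 : G) := pairAt_eq hM hmax hv0
    (by show a.1.map _ = _; rw [h1, MonoidHom.map_zpowers]; rfl) (isPBlock_conjBlock g h2.1.2) hg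
  have hconjT : ∀ t : T, (t : G) * (v0 : G) * (t : G)⁻¹ ∈ P := fun t => (pairAt_stab hM hmax hab v0.2 t.2).1
  let orb : T → P := fun t => ⟨(t : G) * (v0 : G) * (t : G)⁻¹, hconjT t⟩
  have horb : ∀ v ∈ Finset.univ.image orb,
      (Finset.univ.filter fun t : T => orb t = v).card = cP T (v : G) := by
    intro v hv
    obtain ⟨s, -, rfl⟩ := Finset.mem_image.mp hv
    rw [cP, ← Fintype.card_subtype, ← Nat.card_eq_fintype_card]
    have key : ∀ c : G, c * (s : G) * (v0 : G) * (c * (s : G))⁻¹ = (s : G) * (v0 : G) * (s : G)⁻¹ ↔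
        Commute ((s : G) * (v0 : G) * (s : G)⁻¹) c := fun c => by
      rw [show c * (s : G) * (v0 : G) * (c * (s : G))⁻¹ = c * ((s : G) * (v0 : G) * (s : G)⁻¹) * c⁻¹ by group,
        mul_inv_eq_iff_eq_mul, commute_iff_eq, eq_comm]
    refine (Nat.card_congr (α := (T ⊓ Subgroup.centralizer
        (Subgroup.zpowers ((s : G) * (v0 : G) * (s : G)⁻¹) : Set G) : Subgroup G))
      (β := {t : T // orb t = orb s})
      { toFun := fun c => ⟨⟨(c : G) * (s : G), T.mul_mem c.2.1 s.2⟩,
          Subtype.ext ((key (c : G)).mpr (mem_czp.mp c.2.2))⟩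
        invFun := fun t => ⟨(t.1 : G) * (s : G)⁻¹, T.mul_mem t.1.2 (T.inv_mem s.2), mem_czp.mpr ((key _).mp (by
          rw [inv_mul_cancel_right]
          exact congrArg (fun v : P => (v : G)) t.2))⟩
        left_inv := fun c => Subtype.ext (mul_inv_cancel_right (c : G) (s : G))
        right_inv := fun t => Subtype.ext (Subtype.ext (inv_mul_cancel_right (t.1 : G) (s : G))) }).symm
  have hin : ∀ x ∈ Finset.univ.filter (fun x : P × G => Φ x = ⟨u, a⟩), x.1 ∈ Finset.univ.image orb := by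
    intro x hx
    obtain ⟨hx1, hx2⟩ := Sigma.mk.inj_iff.mp (Finset.mem_filter.mp hx).2
    have hx2' : conjIdx x.2 (pairAt p M P e x.1) = a := eq_of_heq hx2
    have hk1 : g * x.2 * (x.1 : G) * (g * x.2)⁻¹ = (v0 : G) := by
      show g * x.2 * (x.1 : G) * (g * x.2)⁻¹ = g * u * g⁻¹
      rw [← hx1]; group
    have hk2 : conjIdx (g * x.2) (pairAt p M P e x.1) = pairAt p M P e (v0 : G) := by
      rw [← conjIdx_mul hP _ _ _ (pairAt_spec hM hmax x.1.2).1, hx2', hp0]
    obtain ⟨t, ht, htv⟩ := pairAt_fuse hM hmax hab x.1.2 v0.2 hk1 hk2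
    refine Finset.mem_image.mpr ⟨⟨t⁻¹, T.inv_mem ht⟩, Finset.mem_univ _, Subtype.ext ?_⟩
    show t⁻¹ * (v0 : G) * t⁻¹⁻¹ = _
    rw [← htv]; group
  have hne : ∀ v : G, (cG v : ℂ) ≠ 0 := fun v => Nat.cast_ne_zero.mpr Nat.card_pos.ne'
  rw [← Finset.sum_fiberwise_of_maps_to hin, Finset.sum_congr rfl fun v hv => ?_, ← Nat.cast_sum]
  · rw [← Finset.card_eq_sum_card_fiberwise (s := (Finset.univ : Finset T)) (f := orb)
      fun t _ => Finset.mem_image_of_mem _ (Finset.mem_univ t), Finset.card_univ, Nat.card_eq_fintype_card]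
  rw [Finset.sum_congr rfl (g := fun _ => w (v : G)) fun x hx => by rw [(Finset.mem_filter.mp hx).2],
    Finset.sum_const, nsmul_eq_mul]
  have hcount : ((Finset.univ.filter fun x : P × G => Φ x = ⟨u, a⟩).filter fun x => x.1 = v).card =
      cG (v : G) := by
    obtain ⟨t, -, rfl⟩ := Finset.mem_image.mp hv
    rw [cG, ← Nat.card_eq_finsetCard]
    set y := g⁻¹ * (t : G)⁻¹ with hy
    have hy1 : y * (orb t : G) * y⁻¹ = u := by
      show g⁻¹ * (t : G)⁻¹ * ((t : G) * (g * u * g⁻¹) * (t : G)⁻¹) * (g⁻¹ * (t : G)⁻¹)⁻¹ = u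
      group
    have hb0 : IsPBlock M (pairAt p M P e (v0 : G)).2 := (pairAt_spec hM hmax v0.2).1
    have hy2 : conjIdx y (pairAt p M P e (orb t : G)) = a := by
      rw [show pairAt p M P e (orb t : G) = conjIdx (t : G) (pairAt p M P e (v0 : G)) from
        (pairAt_stab hM hmax hab v0.2 t.2).2.symm, conjIdx_mul hP _ _ _ hb0, hy, inv_mul_cancel_right, ← hp0,
        conjIdx_mul hP _ _ _ h2.1.2, inv_mul_cancel, conjIdx_one hP _ h2.1.2]
    refine (Nat.card_congr (Equiv.ofBijective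
      (fun c : Subgroup.centralizer (Subgroup.zpowers (orb t : G) : Set G) => (⟨(orb t, y * (c : G)), ?_⟩ :
        {x // x ∈ (Finset.univ.filter fun x : P × G => Φ x = ⟨u, a⟩).filter fun x => x.1 = orb t})) ⟨?_, ?_⟩)).symm
    · have hc := mem_czp.mp c.2
      refine Finset.mem_filter.mpr ⟨Finset.mem_filter.mpr ⟨Finset.mem_univ _, ?_⟩, rfl⟩
      show (⟨_, _⟩ : Σ _ : G, BrauerPairIdx G) = ⟨u, a⟩
      rw [← conjIdx_mul hP _ _ _ (pairAt_spec hM hmax (orb t).2).1, pairAt_fix hM hmax (orb t).2 hc, hy2]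
      congr 1
      calc y * (c : G) * (orb t : G) * (y * (c : G))⁻¹
          = y * ((c : G) * (orb t : G) * (c : G)⁻¹) * y⁻¹ := by group
        _ = u := by rw [← hc.eq, mul_inv_cancel_right, hy1]
    · intro c c' h
      exact Subtype.ext (mul_left_cancel (congrArg (fun x : {x // x ∈ (Finset.univ.filter
        fun x : P × G => Φ x = ⟨u, a⟩).filter fun x => x.1 = orb t} => x.1.2) h))
    · rintro ⟨⟨v, z⟩, hx⟩
      obtain ⟨hx1, hx2⟩ := Finset.mem_filter.mp hx
      dsimp only at hx2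
      subst hx2
      obtain ⟨hz, -⟩ := Sigma.mk.inj_iff.mp (Finset.mem_filter.mp hx1).2
      refine ⟨⟨y⁻¹ * z, mem_czp.mpr ?_⟩, Subtype.ext (Prod.ext rfl (mul_inv_cancel_left y z))⟩
      have hz' : z * (orb t : G) * z⁻¹ = y * (orb t : G) * y⁻¹ := hz.trans hy1.symm
      calc (orb t : G) * (y⁻¹ * z) = y⁻¹ * (y * (orb t : G) * y⁻¹) * z := by group
        _ = y⁻¹ * (z * (orb t : G) * z⁻¹) * z := by rw [hz']
        _ = y⁻¹ * z * (orb t : G) := by group
  rw [hcount, horb v hv]
  exact mul_div_cancel₀ _ (hne _)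

open scoped Classical in
/-- The weighted count of the local ranks. -/
theorem weighted_count [Fintype P] (l : P →* ℂˣ)
    (hl : ∀ t ∈ pairStab (pmod_prime hM) hmax.1.1.2, ∀ x y : P, (y : G) = t * x * t⁻¹ → l y = l x) :
    ∑ v : P, (l v : ℂ) * ((cP (pairStab (pmod_prime hM) hmax.1.1.2) (v : G) : ℂ) *
        (blockRank p (pairAt p M P e (v : G)).2 : ℂ)) =
      (Nat.card (pairStab (pmod_prime hM) hmax.1.1.2) : ℂ) * (if l = 1 then (Nat.card B : ℂ) else 0) := by
  have hlam := stable_invariant hM hmax hab l hl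
  have hP := pmod_prime hM
  rw [show (if l = 1 then (Nat.card B : ℂ) else 0) = _ by convert (trace_eq hM hmax hab hlam).symm,
    Finset.sum_congr rfl fun χ hχ => inner_theta_irr hM hmax (linFun l) (irr_isCharacter χ.2)
      (Finset.mem_filter.mp hχ).2, ← Finset.mul_sum, Finset.sum_comm,
    Finset.sum_congr rfl (g := fun u => ∑ a ∈ prs p M B u, wt p M P e (linFun l) u a *
      ((cG u : ℂ) * (blockRank p a.2 : ℂ))) fun u hu => by
        rw [Finset.sum_comm]
        refine Finset.sum_congr rfl fun a ha => ?_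
        rw [← Finset.mul_sum, sum_sct hM hmax.1.2.1 (mem_pels.mp hu) ha],
    mul_left_comm, sum_orbits hM hmax hab _ fun w u a ha => by
      rw [wt_conj hM hlam (mem_prs.mp ha).1 (mem_prs.mp ha).2.1.2, cG_conj, blockRank_conjIdx hM],
    inv_mul_cancel_left₀ (Nat.cast_ne_zero.mpr Nat.card_pos.ne')]
  refine Finset.sum_congr rfl fun v _ => ?_
  have hb := pairAt_spec hM hmax v.2
  have hr : ReflTransGen (NormalSubpairRel p M) (conjIdx 1 (pairAt p M P e (v : G))) ⟨P, e⟩ := by
    rw [conjIdx_one hP _ hb.1]; exact hb.2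
  rw [wt_eq hM hlam rfl hb.1 hr, one_mul, inv_one, mul_one, linFun_mem]
  have hne : (cG (v : G) : ℂ) ≠ 0 := Nat.cast_ne_zero.mpr Nat.card_pos.ne'
  field_simp

end Cfsg.Agent.Char.InertiaFixed
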