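import Cfsg.Agent.Lib.Char.OverBlock
import Cfsg.Agent.Lib.Char.GlaubermanOver
import Cfsg.Agent.Lib.Char.GlaubermanCount
import Cfsg.Agent.Lib.Fusion.AB
import Cfsg.Agent.Lib.Fusion.Basic

/-!
# Brauer correspondents of the block over an invariant character
-/

set_option autoImplicit false

namespace Cfsg.Agent.Char

open Cfsg Module
open scoped ComplexConjugate Classical

universe u

variable {G : Type u} [Group G] [Fintype G] {M : Ideal AlgInt} {p : ℕ}

theorem exists_mul_mem_centralizer (hp : p.Prime) {R K : Subgroup G} [K.Normal]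
    (hR : IsPGroup p R) (hK : ¬ p ∣ Nat.card K) {g : G}
    (hg : ∀ r ∈ R, g⁻¹ * (r * g * r⁻¹) ∈ K) :
    ∃ k ∈ K, g * k ∈ Subgroup.centralizer (R : Set G) := by
  let e : {x : G | g⁻¹ * x ∈ K} ≃ K :=
    { toFun := fun x => ⟨g⁻¹ * x, x.2⟩
      invFun := fun k => ⟨g * k, show g⁻¹ * (g * k) ∈ K by rw [inv_mul_cancel_left]; exact k.2⟩
      left_inv := fun x => Subtype.ext (mul_inv_cancel_left g x)
      right_inv := fun k => Subtype.ext (inv_mul_cancel_left g k) }
  obtain ⟨a, ha, hfix⟩ := exists_fixed_of_card (φ := MulAut.conj.comp R.subtype) hp hR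
    {x : G | g⁻¹ * x ∈ K}
    (fun s a ha => by
      show g⁻¹ * ((s : G) * a * (s : G)⁻¹) ∈ K
      rw [show g⁻¹ * ((s : G) * a * (s : G)⁻¹) =
        g⁻¹ * ((s : G) * g * (s : G)⁻¹) * ((s : G) * (g⁻¹ * a) * (s : G)⁻¹) by group]
      exact K.mul_mem (hg s s.2) (Subgroup.Normal.conj_mem inferInstance _ ha _))
    (by rw [Nat.card_congr e]; exact hK)
  refine ⟨g⁻¹ * a, ha, ?_⟩
  rw [mul_inv_cancel_left, Subgroup.mem_centralizer_iff]
  intro r hr
  have h1 : r * a * r⁻¹ = a := hfix ⟨r, hr⟩
  rwa [mul_inv_eq_iff_eq_mul] at h1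

/-- On `C_G(R)` the coefficient function of an invariant character of a normal `p'`-subgroup
reduces to that of its Glauberman correspondent. -/
theorem exists_correspondent_centralizer (hM : IsPModular p M) (K : Subgroup G) [K.Normal]
    [Fintype K] (hK : ¬ p ∣ Nat.card K) (θ : IrrCharacter K) (hθ : GInvariant K (θ : K → ℂ))
    (R : Subgroup G) (hR : IsPGroup p R) :
    ∃ β : IrrCharacter (K.subgroupOf (Subgroup.centralizer (R : Set G))),
      GInvariant (K.subgroupOf (Subgroup.centralizer (R : Set G)))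
        (β : K.subgroupOf (Subgroup.centralizer (R : Set G)) → ℂ) ∧
      ∀ n : K.subgroupOf (Subgroup.centralizer (R : Set G)), MemLocalIdeal M
        (idem (θ : K → ℂ) ⟨((n : Subgroup.centralizer (R : Set G)) : G), n.2⟩ -
          idem (β : K.subgroupOf (Subgroup.centralizer (R : Set G)) → ℂ) n) := by
  set C := Subgroup.centralizer (R : Set G) with hC
  let φ := conjActHom K R fun s _ g hg => Subgroup.Normal.conj_mem inferInstance g hg s
  let ι : K.subgroupOf C →* K :=
    { toFun := fun n => ⟨((n : C) : G), n.2⟩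
      map_one' := rfl
      map_mul' := fun _ _ => rfl }
  have h : CoprimeFix M p φ ι := by
    refine ⟨hM, hR, hK, fun a b hab => Subtype.ext (Subtype.ext (congrArg (fun x : K => (x : G)) hab)),
      fun g => ⟨?_, fun hg => ?_⟩⟩
    · rintro ⟨n, rfl⟩ s
      refine Subtype.ext ?_
      rw [conjActHom_coe]
      show (s : G) * ((n : C) : G) * (s : G)⁻¹ = ((n : C) : G)
      rw [mul_inv_eq_iff_eq_mul]
      exact Subgroup.mem_centralizer_iff.mp (n : C).2 s s.2
    · refine ⟨⟨⟨(g : G), Subgroup.mem_centralizer_iff.mpr fun r hr => ?_⟩, g.2⟩, rfl⟩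
      have h1 := congrArg (fun x : K => (x : G)) (hg ⟨r, hr⟩)
      rw [conjActHom_coe] at h1
      rwa [mul_inv_eq_iff_eq_mul] at h1
  obtain ⟨β, hβ⟩ := h.corr_surjective (χ := θ) fun s g => by
    rw [← hθ (s : G) g]
    exact congrArg _ (Subtype.ext rfl)
  refine ⟨β, fun c n => ?_, fun n => ?_⟩
  · have h1 := h.corr_comp (MulAut.conjNormal (c : G)) (MulAut.conjNormal c)
      (fun _ => Subtype.ext rfl)
      (fun s => ⟨s, fun g => Subtype.ext (by
        show (c : G) * ((s : G) * g * (s : G)⁻¹) * (c : G)⁻¹ =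
          (s : G) * ((c : G) * g * (c : G)⁻¹) * (s : G)⁻¹
        have hc : (s : G) * c = c * s := Subgroup.mem_centralizer_iff.mp c.2 s s.2
        rw [show (c : G) * ((s : G) * g * (s : G)⁻¹) * (c : G)⁻¹ =
          ((c : G) * s) * g * ((c : G) * s)⁻¹ by group, ← hc]
        group)⟩) β
    rw [hβ, show irrComp (MulAut.conjNormal (c : G)) θ = θ from
      Subtype.ext (funext fun k => hθ (c : G) k), ← hβ] at h1
    exact congrArg (fun χ : IrrCharacter (K.subgroupOf C) => (χ : K.subgroupOf C → ℂ) n)
      (h.corr_injective h1)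
  · have h1 := h.corr_idem β n
    rwa [hβ] at h1

theorem ginv_idem {N : Subgroup G} [N.Normal] {θ : N → ℂ} (hθ : GInvariant N θ) :
    GInvariant N (idem θ) := fun g n => by
  simp only [idem, hθ g n]

theorem lam_extend_idem {N : Subgroup G} [N.Normal] [Fintype N] (θ : IrrCharacter N)
    (hθ : GInvariant N (θ : N → ℂ)) (χ : IrrCharacter G) :
    lam (χ : G → ℂ) (extendByZero N (idem (θ : N → ℂ))) =
      if classInner (fun n : N => (χ : G → ℂ) n) (θ : N → ℂ) ≠ 0 then 1 else 0 := by
  split_ifs with h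
  · rw [lam_extend_of_constituent h (ginv_idem hθ), lam_idem, if_pos rfl]
  · obtain ⟨η, hη⟩ := exists_constituent (N := N) χ
    rw [lam_extend_of_constituent hη (ginv_idem hθ), lam_idem, if_neg]
    rintro rfl
    exact h hη

/-- If the characters of `C_G(R)` over the Glauberman correspondent form one block, it is the only
block inducing the block over the invariant character. -/
theorem existsUnique_induced_over (hM : IsPModular p M) (K : Subgroup G) [K.Normal]
    [Fintype K] (hK : ¬ p ∣ Nat.card K) (θ : IrrCharacter K) (hθ : GInvariant K (θ : K → ℂ))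
    (B : Set (IrrCharacter G)) (hBblock : IsPBlock M B)
    (hB : ∀ χ : IrrCharacter G, χ ∈ B ↔ classInner (fun n : K => (χ : G → ℂ) n) (θ : K → ℂ) ≠ 0)
    (R : Subgroup G) (hR : IsPGroup p R)
    (hone : ∀ β : IrrCharacter (K.subgroupOf (Subgroup.centralizer (R : Set G))),
      GInvariant (K.subgroupOf (Subgroup.centralizer (R : Set G)))
        (β : K.subgroupOf (Subgroup.centralizer (R : Set G)) → ℂ) →
      IsPBlock M {ξ : IrrCharacter (Subgroup.centralizer (R : Set G)) |
        classInner (fun n : K.subgroupOf (Subgroup.centralizer (R : Set G)) =>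
          (ξ : Subgroup.centralizer (R : Set G) → ℂ) n)
          (β : K.subgroupOf (Subgroup.centralizer (R : Set G)) → ℂ) ≠ 0}) :
    ∃! f : Set (IrrCharacter (Subgroup.centralizer (R : Set G))),
      IsInducedBlock M (Subgroup.centralizer (R : Set G)) f B := by
  have hP := pmod_prime hM
  set C := Subgroup.centralizer (R : Set G) with hC
  obtain ⟨β, hβinv, hβ⟩ := exists_correspondent_centralizer hM K hK θ hθ R hR
  set e := extendByZero K (idem (θ : K → ℂ)) with he
  have heI : IsIntClassFun M e :=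
    intClassFun_extend hP (ginv_idem hθ) fun n => memLR_idem hM hK θ n
  have hcentral := fun ξ : IrrCharacter C =>
    isCentralHom_brLam hM (H := C) hR le_rfl ((Subgroup.centralizer_le_normalizer (R : Set G))) ξ
  have hcls : ∀ (ξ : IrrCharacter C) (g : G),
      inducedCentralChar C (ξ : C → ℂ) g = brLam R C (ξ : C → ℂ) (classInd g) := fun ξ g => by
    rw [inducedCentralChar_eq, brLam]
    congr 1
    funext x
    rw [brRes, if_pos x.2]
  have hval : ∀ ξ : IrrCharacter C, MemLocalIdeal M (brLam R C (ξ : C → ℂ) e -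
      if classInner (fun n : K.subgroupOf C => (ξ : C → ℂ) n) (β : K.subgroupOf C → ℂ) ≠ 0
        then 1 else 0) := by
    intro ξ
    have hF := intClassFun_brRes hP ((Subgroup.centralizer_le_normalizer (R : Set G))) (H := C) heI
    rw [← lam_extend_idem β hβinv ξ, brLam, ← lam_sub]
    refine memLI_lam hP ξ.2 (intClassFun_sub hP hF (intClassFun_extend hP (ginv_idem hβinv)
      fun n => memLR_idem hM (fun hd => hK (hd.trans (by
        simpa using Subgroup.card_comap_dvd_of_injective K C.subtype C.subtype_injective)))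
        β n)).1 fun x => ?_
    simp only [Pi.sub_apply, brRes]
    rw [if_pos x.2]
    by_cases hx : (x : G) ∈ K
    · rw [he, extendByZero_mem K _ hx, extendByZero_mem (K.subgroupOf C) _ hx]
      exact hβ ⟨x, hx⟩
    · rw [he, extendByZero_not_mem K _ hx, extendByZero_not_mem (K.subgroupOf C) _ hx, sub_self]
      exact memLI_zero hP
  refine ⟨{ξ : IrrCharacter C |
    classInner (fun n : K.subgroupOf C => (ξ : C → ℂ) n) (β : K.subgroupOf C → ℂ) ≠ 0},
    ⟨hone β hβinv, hBblock, fun ξ hξ χ hχ g => ?_⟩, fun f hf => ?_⟩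
  · obtain ⟨B', hB', -, hcongr⟩ := (hcentral ξ).exists_block hM
    obtain ⟨χ', hχ'⟩ := block_nonempty hP hB'
    have h1 := hcongr χ' hχ' e heI
    have hmem : χ' ∈ B := by
      rw [hB]
      intro hn
      have h2 := hval ξ
      rw [if_pos (show classInner (fun n : K.subgroupOf C => (ξ : C → ℂ) n)
        (β : K.subgroupOf C → ℂ) ≠ 0 from hξ)] at h2
      rw [lam_extend_idem θ hθ, if_neg (not_not.mpr hn), sub_zero] at h1
      have := memLI_sub hP h1 h2
      rw [sub_sub_cancel] at this
      exact memLI_one_iff hP this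
    obtain rfl := block_disjoint hP hBblock hB' hmem hχ'
    rw [hcls, ← omega_eq_centralChar,
      ← lam_classInd' (isClassFunction_character (irr_isCharacter χ.2))]
    exact hcongr χ hχ _ (intClassFun_classInd hP g)
  · obtain ⟨hfb, -, hfind⟩ := hf
    obtain ⟨ξ, hξ⟩ := block_nonempty hP hfb
    obtain ⟨χ, hχ⟩ := block_nonempty hP hBblock
    refine block_disjoint hP hfb (hone β hβinv) hξ ?_
    show classInner _ _ ≠ 0
    intro hn
    obtain ⟨B', hB', -, hcongr⟩ := (hcentral ξ).exists_block hM
    obtain ⟨χ', hχ'⟩ := block_nonempty hP hB'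
    have hs : SameBlock M (χ' : G → ℂ) (χ : G → ℂ) := fun g => by
      have h1 := hcongr χ' hχ' _ (intClassFun_classInd hP g)
      rw [lam_classInd' (isClassFunction_character (irr_isCharacter χ'.2)),
        omega_eq_centralChar, ← hcls] at h1
      exact memLI_trans hP (memLI_symm hP h1) (hfind ξ hξ χ hχ g)
    have hmem : χ' ∈ B := (mem_block_iff hP hBblock hχ χ').mpr (sameBlock_symm hP hs)
    have h1 := hcongr χ' hχ' e heI
    have h2 := hval ξ
    rw [if_neg (not_not.mpr hn), sub_zero] at h2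
    rw [lam_extend_idem θ hθ, if_pos ((hB χ').mp hmem)] at h1
    have := memLI_sub hP h2 h1
    rw [sub_sub_cancel] at this
    exact memLI_one_iff hP this

/-- The data pass to the centralizer of a `p`-subgroup. -/
theorem OverCtx.centralizer {K L Q : Subgroup G} (h : OverCtx p K L Q) [Fact p.Prime]
    (hcent : Subgroup.centralizer (Q : Set G) ≤ L) {R : Subgroup G} (hR : IsPGroup p R) :
    ∃ Q' : Subgroup (Subgroup.centralizer (R : Set G)),
      OverCtx p (K.subgroupOf (Subgroup.centralizer (R : Set G)))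
        (L.subgroupOf (Subgroup.centralizer (R : Set G))) Q' := by
  have hp : p.Prime := Fact.out
  haveI := h.normal
  haveI := h.lnormal
  set C := Subgroup.centralizer (R : Set G) with hC
  set L' := L.subgroupOf C with hL'
  set K' := K.subgroupOf C with hK'
  obtain ⟨P₀⟩ : Nonempty (Sylow p L') := inferInstance
  set Q' := (P₀ : Subgroup L').map L'.subtype with hQ'
  have hQ'S : Cfsg.Agent.Fusion.SylIn p Q' L' := Cfsg.Agent.Fusion.sylIn_map L' P₀
  obtain ⟨j, hj⟩ := h.index
  obtain ⟨i, hi⟩ : ∃ i, K'.relIndex L' = p ^ i := by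
    have h1 : K'.relIndex L' = K.relIndex ((L ⊓ C) ⊔ K) := by
      rw [Subgroup.relIndex_sup_right, hK', hL',
        ← Subgroup.inf_subgroupOf_right L C, Subgroup.relIndex_subgroupOf inf_le_right]
    rw [h1]
    exact relIndex_eq_pow_of_le hp le_sup_right h.le (sup_le inf_le_left h.le) hj
  have hsup : L' ≤ Q' ⊔ K' := by
    refine Subgroup.relIndex_eq_one.mp ?_
    have h1 : (Q' ⊔ K').relIndex L' ∣ p ^ i := hi ▸ Subgroup.relIndex_dvd_of_le_left _ le_sup_right
    have h2 : (Q' ⊔ K').relIndex L' ∣ Q'.relIndex L' :=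
      Subgroup.relIndex_dvd_of_le_left _ le_sup_left
    exact Nat.eq_one_of_dvd_coprimes
      (((Nat.Prime.coprime_iff_not_dvd hp).mpr hQ'S.not_dvd).pow_left i) h1 h2
  refine ⟨Q', inferInstance, inferInstance, fun hd => h.coprime (hd.trans (by
      simpa using Subgroup.card_comap_dvd_of_injective K C.subtype C.subtype_injective)),
    fun x hx => h.le hx, ⟨i, hi⟩, hQ'S.le, hQ'S.isPGroup, fun y hy hyreg => ?_⟩
  let π := QuotientGroup.mk' K
  have hcomm : ∀ a b : G, π a * π b = π b * π a → a⁻¹ * (b * a * b⁻¹) ∈ K := fun a b hab => by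
    refine (QuotientGroup.eq_one_iff _).mp ?_
    show π (a⁻¹ * (b * a * b⁻¹)) = 1
    rw [map_mul, map_mul, map_mul, map_inv, map_inv, ← hab]
    group
  have hUp : IsPGroup p (L.map π) := by
    refine IsPGroup.of_card (n := j) ?_
    rw [← hj]
    have h1 := Subgroup.relIndex_ker (f := π) (K := L)
    rw [QuotientGroup.ker_mk'] at h1
    exact h1.symm
  have hyC : ∀ r ∈ R, (y : G) * r = r * y := fun r hr =>
    (Subgroup.mem_centralizer_iff.mp y.2 r hr).symm
  have hx : π (y : G) ∈ Subgroup.centralizer (L.map π : Set (G ⧸ K)) := by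
    have hnorm : Subgroup.normalizer (L.map π : Set (G ⧸ K)) = ⊤ := by
      haveI := (inferInstance : L.Normal).map π (QuotientGroup.mk'_surjective K)
      exact Subgroup.normalizer_eq_top _
    refine Cfsg.Agent.Fusion.mem_centralizer_of_AB hUp (hR.map π) (hnorm ▸ le_top)
      (hnorm ▸ Subgroup.mem_top _) ?_ ?_ ?_
    · rintro _ ⟨r, hr, rfl⟩
      rw [← map_mul, ← map_mul, hyC r hr]
    · refine Nat.Coprime.of_dvd_left (orderOf_map_dvd π (y : G)) ?_
      rw [Nat.coprime_comm, Nat.Prime.coprime_iff_not_dvd hp, Subgroup.orderOf_coe]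
      exact hyreg
    · rintro _ ⟨u, hu, rfl⟩ hcu
      obtain ⟨k, hk, huk⟩ := exists_mul_mem_centralizer hp hR h.coprime (g := u) fun r hr =>
        hcomm u r (hcu _ ⟨r, hr, rfl⟩)
      have hz : (⟨u * k, huk⟩ : C) ∈ Q' ⊔ K' :=
        hsup (show u * k ∈ L from L.mul_mem hu (h.le hk))
      obtain ⟨q, hq, n, hn, hqn⟩ := Subgroup.mem_sup_of_normal_right.mp hz
      have e1 : π u = π (q : G) := by
        have h2 : π (u * k) = π ((q : G) * (n : G)) :=
          congrArg π (congrArg Subtype.val hqn).symm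
        rw [map_mul, map_mul, show π k = 1 from (QuotientGroup.eq_one_iff k).mpr hk,
          show π (n : G) = 1 from (QuotientGroup.eq_one_iff (n : G)).mpr hn] at h2
        simpa using h2
      rw [e1, ← map_mul, ← map_mul]
      exact congrArg π (congrArg Subtype.val (Subgroup.mem_centralizer_iff.mp hy q hq).symm)
  show (y : G) ∈ L
  obtain ⟨k, hk, hyk⟩ := exists_mul_mem_centralizer hp h.pgroup h.coprime (g := (y : G))
    fun q hq => hcomm (y : G) q
      (Subgroup.mem_centralizer_iff.mp hx _ ⟨q, h.qle hq, rfl⟩).symm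
  have h3 := L.mul_mem (hcent hyk) (L.inv_mem (h.le hk))
  rwa [mul_inv_cancel_right] at h3

end Cfsg.Agent.Char
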