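import Cfsg.Agent.Lib.Char.CoverUnit
import Cfsg.Agent.Lib.Char.OverInduce
import Cfsg.Agent.Lib.Char.FongReynolds
import Cfsg.Agent.Lib.Char.Codegree

/-!
# Principal blocks over a normal subgroup supplemented by a centralizer

If the index of a normal subgroup `N` is prime to `p` and every coset of `N` meets the
centralizer of a Sylow subgroup, the principal block restricts bijectively to `N`.
-/

set_option autoImplicit false
set_option linter.style.haveILetI false

namespace Cfsg.Agent.Char

open Cfsg Matrix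
open scoped ComplexConjugate

universe u

variable {M : Ideal AlgInt} {p : ℕ}

section Mat

variable {ι : Type*}

theorem memLI_prod_sub (hP : M.IsPrime) (s : Finset ι) (f g : ι → ℂ)
    (hf : ∀ i ∈ s, MemLocalRing M (f i)) (hg : ∀ i ∈ s, MemLocalRing M (g i))
    (h : ∀ i ∈ s, MemLocalIdeal M (f i - g i)) :
    MemLocalIdeal M (∏ i ∈ s, f i - ∏ i ∈ s, g i) := by
  classical
  induction s using Finset.induction_on with
  | empty => simp only [Finset.prod_empty, sub_self]; exact memLI_zero hP
  | insert a s ha ih =>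
    rw [Finset.prod_insert ha, Finset.prod_insert ha,
      show f a * ∏ i ∈ s, f i - g a * ∏ i ∈ s, g i =
        f a * (∏ i ∈ s, f i - ∏ i ∈ s, g i) + (f a - g a) * ∏ i ∈ s, g i by ring]
    refine memLI_add hP (memLI_mul_left hP (hf a (Finset.mem_insert_self a s))
      (ih (fun i hi => hf i (Finset.mem_insert_of_mem hi))
        (fun i hi => hg i (Finset.mem_insert_of_mem hi))
        fun i hi => h i (Finset.mem_insert_of_mem hi))) ?_
    exact memLI_mul_right hP (h a (Finset.mem_insert_self a s))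
      (memLR_prod hP s g fun i hi => hg i (Finset.mem_insert_of_mem hi))

variable [Fintype ι] [DecidableEq ι]

theorem memLI_det_sub (hP : M.IsPrime) (A B : Matrix ι ι ℂ) (hA : ∀ i j, MemLocalRing M (A i j))
    (hB : ∀ i j, MemLocalRing M (B i j)) (h : ∀ i j, MemLocalIdeal M (A i j - B i j)) :
    MemLocalIdeal M (A.det - B.det) := by
  rw [Matrix.det_apply', Matrix.det_apply', ← Finset.sum_sub_distrib]
  refine memLI_sum hP _ _ fun σ _ => ?_
  rw [← mul_sub]
  exact memLI_mul_left hP (memLR_intCast hP _)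
    (memLI_prod_sub hP _ _ _ (fun i _ => hA _ _) (fun i _ => hB _ _) fun i _ => h _ _)

/-- The trace of an idempotent matrix is its rank. -/
theorem trace_eq_rank_of_idem (E : Matrix ι ι ℂ) (h : E * E = E) : E.trace = (E.rank : ℂ) := by
  have hproj : LinearMap.IsProj (LinearMap.range (Matrix.toLin' E)) (Matrix.toLin' E) := by
    refine ⟨fun x => LinearMap.mem_range_self _ x, fun x hx => ?_⟩
    obtain ⟨y, rfl⟩ := hx
    rw [← LinearMap.comp_apply, ← Matrix.toLin'_mul, h]
  have ht := hproj.trace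
  rw [LinearMap.trace_eq_matrix_trace ℂ (Pi.basisFun ℂ ι), ← Matrix.toLin_eq_toLin',
    LinearMap.toMatrix_toLin] at ht
  rw [ht]
  rfl

/-- An idempotent congruent to the averaging matrix has trace one. -/
theorem trace_eq_one_of_congr (hM : IsPModular p M) (E : Matrix ι ι ℂ) (h : E * E = E)
    (hn : ¬ p ∣ Fintype.card ι) (hE : ∀ i j, MemLocalRing M (E i j))
    (hc : ∀ i j, MemLocalIdeal M (E i j - (Fintype.card ι : ℂ)⁻¹)) : E.trace = 1 := by
  have hP := pmod_prime hM
  set n := Fintype.card ι with hnd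
  have hn0 : n ≠ 0 := fun h0 => hn (h0 ▸ dvd_zero p)
  obtain ⟨i0⟩ : Nonempty ι := Fintype.card_pos_iff.mp (Nat.pos_of_ne_zero hn0)
  have hinv : MemLocalRing M (n : ℂ)⁻¹ := memLR_inv_natCast hM hn
  set F := (1 : Matrix ι ι ℂ) - E with hF
  have hFF : F * F = F := by
    rw [hF, sub_mul, mul_sub, mul_sub, one_mul, mul_one, one_mul, h]; abel
  let e : {i : ι // i ≠ i0} → ι := Subtype.val
  have hcard : Fintype.card {i : ι // i ≠ i0} = n - 1 := by
    rw [Fintype.card_subtype_compl, Fintype.card_subtype_eq]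
  set A := F.submatrix e e with hA
  set J : Matrix {i : ι // i ≠ i0} {i : ι // i ≠ i0} ℂ :=
    1 + replicateCol Unit (fun _ => -(n : ℂ)⁻¹) * replicateRow Unit (fun _ => (1 : ℂ)) with hJ
  have hJd : J.det = (n : ℂ)⁻¹ := by
    rw [hJ, det_one_add_replicateCol_mul_replicateRow]
    simp only [dotProduct, one_mul, Finset.sum_const, Finset.card_univ, hcard, nsmul_eq_mul]
    rw [Nat.cast_sub (Nat.one_le_iff_ne_zero.mpr hn0), Nat.cast_one]
    field_simp
    ring
  have hJe : ∀ i j, J i j = (1 : Matrix ι ι ℂ) (e i) (e j) - (n : ℂ)⁻¹ := fun i j => by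
    rw [hJ, Matrix.add_apply, Matrix.mul_apply]
    simp only [Finset.univ_unique, Finset.sum_singleton, replicateCol_apply, replicateRow_apply,
      mul_one, Matrix.one_apply, e, Subtype.val_inj]
    ring
  have h1 : ∀ i j : ι, MemLocalRing M ((1 : Matrix ι ι ℂ) i j) := fun i j => by
    rw [Matrix.one_apply]; split_ifs
    exacts [memLR_one hP, memLR_zero hP]
  have hdet : ¬ MemLocalIdeal M A.det := by
    intro hmem
    have h2 := memLI_det_sub hP A J (fun i j => memLR_sub hP (h1 _ _) (hE _ _))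
      (fun i j => by rw [hJe]; exact memLR_sub hP (h1 _ _) hinv) fun i j => by
        rw [hJe]
        simp only [hA, hF, submatrix_apply, Matrix.sub_apply]
        rw [show ((1 : Matrix ι ι ℂ) (e i) (e j) - E (e i) (e j)) -
          ((1 : Matrix ι ι ℂ) (e i) (e j) - (n : ℂ)⁻¹) = -(E (e i) (e j) - (n : ℂ)⁻¹) by ring]
        exact memLI_neg hP (hc _ _)
    have h3 := memLI_sub hP hmem h2
    rw [sub_sub_cancel, hJd] at h3
    have h4 := memLI_mul_left hP (memLR_natCast hP n) h3
    rw [mul_inv_cancel₀ (Nat.cast_ne_zero.mpr hn0)] at h4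
    exact memLI_one_iff hP h4
  have hAu : IsUnit A := (Matrix.isUnit_iff_isUnit_det A).mpr
    (isUnit_iff_ne_zero.mpr fun h0 => hdet (h0 ▸ memLI_zero hP))
  have hr1 : n - 1 ≤ F.rank := by
    rw [← hcard, ← Matrix.rank_of_isUnit A hAu]
    exact Matrix.rank_submatrix_le F e e
  have hr2 : F.rank ≤ n := Matrix.rank_le_card_width F
  have ht : F.trace = (F.rank : ℂ) := trace_eq_rank_of_idem F hFF
  rw [hF, Matrix.trace_sub, Matrix.trace_one] at ht
  have htr : MemLocalIdeal M (E.trace - 1) := by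
    have : (1 : ℂ) = ∑ _i : ι, (n : ℂ)⁻¹ := by
      rw [Finset.sum_const, Finset.card_univ, nsmul_eq_mul, ← hnd,
        mul_inv_cancel₀ (Nat.cast_ne_zero.mpr hn0)]
    rw [this, Matrix.trace, ← Finset.sum_sub_distrib]
    exact memLI_sum hP _ _ fun i _ => hc i i
  rcases (by omega : F.rank = n - 1 ∨ F.rank = n) with hr | hr
  · rw [hr, Nat.cast_sub (Nat.one_le_iff_ne_zero.mpr hn0), Nat.cast_one] at ht
    linear_combination -ht
  · rw [hr] at ht
    rw [show E.trace = 0 by linear_combination -ht] at htr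
    exact absurd (memLI_neg hP htr) (by simpa using memLI_one_iff hP)

end Mat

variable {G : Type u} [Group G] [Fintype G] {N : Subgroup G} [hN : N.Normal] [Fintype N]

theorem ninv_conv_comm {F : G → ℂ} (hF : NormalInv N F) (a : N → ℂ) :
    conv F (extendByZero N a) = conv (extendByZero N a) F := by
  classical
  funext x
  simp only [conv]
  refine Fintype.sum_equiv ((Equiv.inv G).trans (Equiv.mulRight x)) _ _ fun y => ?_
  simp only [Equiv.trans_apply, Equiv.inv_apply, Equiv.coe_mulRight]
  by_cases hy : y⁻¹ * x ∈ N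
  · rw [mul_comm, ← hF (y⁻¹ * x)⁻¹ (N.inv_mem hy) y, inv_inv]
    congr 2
    group
  · rw [extendByZero_not_mem N a hy, mul_zero, zero_mul]

omit [Fintype G] [Fintype N] in
theorem mk_conj {n : G} (hn : n ∈ N) (x : G) : ((n * x * n⁻¹ : G) : G ⧸ N) = (x : G ⧸ N) := by
  rw [QuotientGroup.mk_mul, QuotientGroup.mk_mul, QuotientGroup.mk_inv,
    (QuotientGroup.eq_one_iff n).mpr hn]
  simp

/-- The value of the central character of `θ` at the restriction to `N`. -/
noncomputable def lamN (θ : IrrCharacter N) (F : G → ℂ) : ℂ := lam (θ : N → ℂ) (fun n : N => F n)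

omit hN in
theorem eq_extend_trunc {F : G → ℂ} (h : ∀ x, x ∉ N → F x = 0) :
    F = extendByZero N (fun n : N => F n) := by
  funext x
  by_cases hx : x ∈ N
  · rw [extendByZero_mem N _ hx]
  · rw [extendByZero_not_mem N _ hx, h x hx]

theorem conv_extend_idem (θ : IrrCharacter N) {F : G → ℂ} (hF : NormalInv N F)
    (h : ∀ x, x ∉ N → F x = 0) :
    conv F (extendByZero N (idem (θ : N → ℂ))) = lamN θ F • extendByZero N (idem (θ : N → ℂ)) := by
  classical
  conv_lhs => rw [eq_extend_trunc h]
  rw [extendByZero_conv]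
  have hc : IsClassFunction N (fun n : N => F n) := fun a k => hF k k.2 a
  have hi := isClassFunction_idem (irr_isCharacter θ.2)
  have key : conv (fun n : N => F n) (idem (θ : N → ℂ)) = lamN θ F • idem (θ : N → ℂ) := by
    rw [classFun_eq_sum_idem (isClassFunction_conv hc hi), Finset.sum_eq_single θ]
    · rw [lam_conv θ.2 hc hi, lam_idem, if_pos rfl, mul_one, lamN]
    · intro η _ hη
      rw [lam_conv η.2 hc hi, lam_idem, if_neg hη, mul_zero, zero_smul]
    · exact fun h0 => absurd (Finset.mem_univ θ) h0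
  rw [key]
  funext x
  by_cases hx : x ∈ N
  · rw [Pi.smul_apply, extendByZero_mem N _ hx, extendByZero_mem N _ hx]; rfl
  · rw [Pi.smul_apply, extendByZero_not_mem N _ hx, extendByZero_not_mem N _ hx, smul_zero]

section Pieces

variable (e : G → ℂ)

open scoped Classical in
/-- The part of a function on a coset. -/
noncomputable def piece (t : G ⧸ N) : G → ℂ := fun x => if (x : G ⧸ N) = t then e x else 0

/-- Being supported on a coset. -/
def SuppAt (F : G → ℂ) (t : G ⧸ N) : Prop := ∀ x, F x ≠ 0 → (x : G ⧸ N) = t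

omit [Fintype G] [Fintype N] in
theorem suppAt_piece (t : G ⧸ N) : SuppAt (piece e t) t := by
  intro x hx
  by_contra h
  exact hx (if_neg h)

omit [Fintype G] [Fintype N] in
theorem ninv_piece {e : G → ℂ} (he : IsClassFunction G e) (t : G ⧸ N) : NormalInv N (piece e t) := by
  intro n hn x
  simp only [piece]
  rw [he x n]
  classical exact if_congr (by rw [mk_conj hn x]) rfl rfl

omit [Fintype N] in
theorem SuppAt.conv {F H : G → ℂ} {s t : G ⧸ N} (hF : SuppAt F s) (hH : SuppAt H t) :
    SuppAt (conv F H) (s * t) := by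
  intro x hx
  simp only [Cfsg.Agent.Char.conv] at hx
  obtain ⟨y, -, hy⟩ := Finset.exists_ne_zero_of_sum_ne_zero hx
  obtain ⟨h1, h2⟩ := mul_ne_zero_iff.mp hy
  rw [← hF y h1, ← hH _ h2, ← QuotientGroup.mk_mul, mul_inv_cancel_left]

omit [Fintype G] [Fintype N] in
theorem SuppAt.off {F : G → ℂ} (hF : SuppAt F (1 : G ⧸ N)) : ∀ x, x ∉ N → F x = 0 := by
  intro x hx
  by_contra h
  exact hx ((QuotientGroup.eq_one_iff x).mp (hF x h))

end Pieces

theorem conv_smul_left (a : ℂ) (F H : G → ℂ) : conv (a • F) H = a • conv F H := by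
  funext x; simp [conv, Finset.mul_sum, mul_assoc]

theorem conv_smul_right (a : ℂ) (F H : G → ℂ) : conv F (a • H) = a • conv F H := by
  funext x; simp [conv, Finset.mul_sum, mul_left_comm]

theorem sum_conv (F H : G → ℂ) : ∑ x, conv F H x = (∑ x, F x) * ∑ x, H x := by
  simp only [conv]
  rw [Finset.sum_comm, Finset.sum_mul]
  refine Finset.sum_congr rfl fun y _ => ?_
  rw [← Finset.mul_sum]
  congr 1
  exact Fintype.sum_equiv (Equiv.mulLeft y⁻¹) _ _ fun x => rfl

theorem lamN_trivial {t' : IrrCharacter N} (ht' : (t' : N → ℂ) = fun _ => 1) {F : G → ℂ}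
    (h : SuppAt F (1 : G ⧸ N)) : lamN t' F = ∑ x, F x := by
  classical
  rw [lamN, lam, ht']
  simp only [mul_one, div_one]
  conv_rhs => rw [eq_extend_trunc h.off]
  simpa using (sum_extendByZero_mul N (fun n : N => F n) (fun _ => (1 : ℂ))).symm

open scoped Classical in
/-- If a central idempotent has all its coset pieces of total `1/[G:N]`, its central character at
any `θ` in the principal block of `N` is `1/[G:N]`. -/
theorem lamN_eq_inv_index (hM : IsPModular p M) (hidx : ¬ p ∣ N.index) {e : G → ℂ}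
    (he : IsIntClassFun M e) (hee : conv e e = e)
    (htot : ∀ t : G ⧸ N, ∑ x, piece e t x = (N.index : ℂ)⁻¹)
    {t' : IrrCharacter N} (ht' : (t' : N → ℂ) = fun _ => 1) {θ : IrrCharacter N}
    (hθ : SameBlock M (θ : N → ℂ) (t' : N → ℂ)) : lamN θ e = (N.index : ℂ)⁻¹ := by
  have hP := pmod_prime hM
  have := Fintype.ofFinite (G ⧸ N)
  set n := N.index with hn
  have hn0 : (n : ℂ) ≠ 0 := Nat.cast_ne_zero.mpr Subgroup.index_ne_zero_of_finite
  have hcard : Fintype.card (G ⧸ N) = n := by
    rw [← Nat.card_eq_fintype_card]; rfl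
  set u := piece (N := N) e with hu
  have hui : ∀ t, NormalInv N (u t) := ninv_piece he.1
  have hur : ∀ t x, MemLocalRing M (u t x) := fun t x => by
    simp only [hu, piece]; split_ifs
    exacts [he.2 x, memLR_zero hP]
  have hus : ∀ t, SuppAt (u t) t := suppAt_piece e
  set f := extendByZero N (idem (θ : N → ℂ)) with hf
  -- congruence with the trivial character
  have hcong : ∀ F : G → ℂ, NormalInv N F → (∀ x, MemLocalRing M (F x)) → SuppAt F (1 : G ⧸ N) →
      MemLocalRing M (lamN θ F) ∧ MemLocalIdeal M (lamN θ F - ∑ x, F x) := by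
    intro F hi hr hs
    have hI := intClassFun_trunc (M := M) hi hr
    rw [← lamN_trivial ht' hs]
    exact ⟨memLR_lam hP θ.2 hI.1 hI.2, lam_congr hP θ.2 t'.2 hθ hI.1 hI.2⟩
  set d : G ⧸ N → ℂ := fun t => lamN θ (conv (u t⁻¹) (u t)) with hd
  have hdI : ∀ t, MemLocalRing M (d t) ∧ MemLocalIdeal M (d t - ((n : ℂ)⁻¹ * (n : ℂ)⁻¹)) := by
    intro t
    have h := hcong (conv (u t⁻¹) (u t)) ((hui _).conv (hui _)) (memLR_conv hP (hur _) (hur _))
      (by simpa using (hus t⁻¹).conv (hus t))
    rwa [sum_conv, htot, htot] at h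
  have hninv : MemLocalRing M (n : ℂ)⁻¹ := memLR_inv_natCast hM hidx
  have hdu : ∀ t, ¬ MemLocalIdeal M (d t) := by
    intro t hmem
    have h2 := memLI_mul_left hP (memLR_mul hP (memLR_natCast hP n) (memLR_natCast hP n))
      (memLI_sub hP hmem (hdI t).2)
    rw [sub_sub_cancel, show ((n : ℂ) * n) * ((n : ℂ)⁻¹ * (n : ℂ)⁻¹) = 1 by field_simp] at h2
    exact memLI_one_iff hP h2
  have hd0 : ∀ t, d t ≠ 0 := fun t h0 => hdu t (h0 ▸ memLI_zero hP)
  set w : G ⧸ N → G → ℂ := fun t => conv (u t) f with hw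
  have hwd : ∀ t, conv (u t⁻¹) (w t) = d t • f := fun t => by
    rw [hw, ← conv_assoc, conv_extend_idem θ ((hui _).conv (hui _))
      (SuppAt.off (by simpa using (hus t⁻¹).conv (hus t)))]
  have hf0 : f ≠ 0 := by
    intro h0
    have := congrFun h0 1
    rw [hf, extendByZero_mem N _ N.one_mem, idem, Pi.zero_apply] at this
    rw [show ((⟨1, N.one_mem⟩ : N)) = 1 from rfl] at this
    simp only [mul_eq_zero, inv_eq_zero, Nat.cast_eq_zero, Nat.card_pos.ne', map_eq_zero,
      irr_one_ne_zero θ.2, or_self] at this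
  have hf1 : SuppAt f (1 : G ⧸ N) := fun x hx => (QuotientGroup.eq_one_iff x).mpr (by
    by_contra h
    exact hx (extendByZero_not_mem N _ h))
  have hws : ∀ t, SuppAt (w t) t := fun t => by simpa using (hus t).conv hf1
  have hw0 : ∀ t, ∃ x, w t x ≠ 0 := by
    intro t
    by_contra hno
    push Not at hno
    have h := hwd t
    rw [show w t = 0 from funext hno] at h
    refine hf0 (funext fun x => ?_)
    have h2 := congrFun h x
    simp only [conv, Pi.zero_apply, mul_zero, Finset.sum_const_zero, Pi.smul_apply, smul_eq_mul] at h2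
    exact (mul_eq_zero.mp h2.symm).resolve_left (hd0 t)
  -- coordinates
  have hgen : ∀ (F : G → ℂ) (t : G ⧸ N), NormalInv N F → SuppAt F t →
      conv F f = (lamN θ (conv F (u t⁻¹)) / d t) • w t := by
    intro F t hi hs
    have h1 : conv (conv F (u t⁻¹)) (conv (u t) f) = d t • conv F f := by
      rw [conv_assoc, show conv (u t⁻¹) (conv (u t) f) = d t • f from hwd t, conv_smul_right]
    have h2 : conv (conv F (u t⁻¹)) (conv (u t) f) = lamN θ (conv F (u t⁻¹)) • w t := by
      rw [ninv_conv_comm (hui t), ← conv_assoc, conv_extend_idem θ (hi.conv (hui _))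
        (SuppAt.off (by simpa using hs.conv (hus t⁻¹))), conv_smul_left,
        ← ninv_conv_comm (hui t)]
    rw [← inv_smul_smul₀ (hd0 t) (conv F f), ← h1, h2, smul_smul, inv_mul_eq_div]
  set E : Matrix (G ⧸ N) (G ⧸ N) ℂ :=
    fun i j => lamN θ (conv (conv (u (i * j⁻¹)) (u j)) (u i⁻¹)) / d i with hE
  have hsum : e = ∑ t : G ⧸ N, u t := by
    funext x
    simp [hu, piece, Finset.sum_apply]
  have hcsum : ∀ (F : G ⧸ N → G → ℂ) (H : G → ℂ), conv (∑ t, F t) H = ∑ t, conv (F t) H := by
    intro F H; funext x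
    simp only [conv, Finset.sum_apply, Finset.sum_mul]
    rw [Finset.sum_comm]
  have hew : ∀ j, conv e (w j) = ∑ i, E i j • w i := by
    intro j
    rw [hsum, hcsum]
    refine Fintype.sum_equiv (Equiv.mulRight j) _ _ fun t => ?_
    simp only [Equiv.coe_mulRight, hE, mul_inv_cancel_right]
    rw [hw, ← conv_assoc]
    exact hgen _ _ ((hui t).conv (hui j)) ((hus t).conv (hus j))
  have hcsum2 : ∀ (c : G ⧸ N → ℂ), conv e (∑ j, c j • w j) = ∑ j, c j • conv e (w j) := by
    intro c; funext x
    simp only [conv, Finset.sum_apply, Pi.smul_apply, smul_eq_mul, Finset.mul_sum]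
    rw [Finset.sum_comm]
    exact Finset.sum_congr rfl fun j _ => Finset.sum_congr rfl fun y _ => by ring
  have hindep : ∀ c c' : G ⧸ N → ℂ, ∑ i, c i • w i = ∑ i, c' i • w i → c = c' := by
    intro c c' h
    funext t
    obtain ⟨x, hx⟩ := hw0 t
    have h2 := congrFun h x
    simp only [Finset.sum_apply, Pi.smul_apply, smul_eq_mul] at h2
    have hone : ∀ s ∈ Finset.univ, s ≠ t → w s x = 0 := fun s _ hs => by
      by_contra h3
      exact hs ((hws s x h3).symm.trans (hws t x hx))
    rw [Finset.sum_eq_single t (fun s hs hne => by rw [hone s hs hne, mul_zero]) (by simp),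
      Finset.sum_eq_single t (fun s hs hne => by rw [hone s hs hne, mul_zero]) (by simp)] at h2
    exact mul_right_cancel₀ hx h2
  have hEE : E * E = E := by
    ext i k
    have h := congrArg (conv e) (hew k)
    rw [← conv_assoc, hee, hcsum2, hew k] at h
    simp only [hew, Finset.smul_sum, smul_smul] at h
    rw [Finset.sum_comm] at h
    simp only [← Finset.sum_smul] at h
    have h3 := congrFun (hindep _ _ h) i
    rw [Matrix.mul_apply, h3]
    exact Finset.sum_congr rfl fun j _ => mul_comm _ _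
  have hEmem : ∀ i j, MemLocalRing M (E i j) ∧ MemLocalIdeal M (E i j - (n : ℂ)⁻¹) := by
    intro i j
    have h := hcong (conv (conv (u (i * j⁻¹)) (u j)) (u i⁻¹)) (((hui _).conv (hui _)).conv (hui _))
      (memLR_conv hP (memLR_conv hP (hur _) (hur _)) (hur _))
      (by simpa using ((hus (i * j⁻¹)).conv (hus j)).conv (hus i⁻¹))
    rw [sum_conv, sum_conv, htot, htot, htot] at h
    have hdinv := memLR_inv hP (hdI i).1 (hdu i)
    refine ⟨?_, ?_⟩
    · simp only [hE, div_eq_mul_inv]; exact memLR_mul hP h.1 hdinv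
    · simp only [hE]
      rw [show lamN θ (conv (conv (u (i * j⁻¹)) (u j)) (u i⁻¹)) / d i - (n : ℂ)⁻¹ =
        (d i)⁻¹ * ((lamN θ (conv (conv (u (i * j⁻¹)) (u j)) (u i⁻¹)) -
          (n : ℂ)⁻¹ * (n : ℂ)⁻¹ * (n : ℂ)⁻¹) -
          (n : ℂ)⁻¹ * (d i - (n : ℂ)⁻¹ * (n : ℂ)⁻¹)) by field_simp [hd0 i]; ring]
      exact memLI_mul_left hP hdinv (memLI_sub hP h.2 (memLI_mul_left hP hninv (hdI i).2))
  have htr := trace_eq_one_of_congr hM E hEE (by rwa [hcard]) (fun i j => (hEmem i j).1)
    (fun i j => by rw [hcard]; exact (hEmem i j).2)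
  have hu1 : lamN θ (u 1) = lamN θ e := by
    unfold lamN
    congr 1
    funext x
    simp [hu, piece, (QuotientGroup.eq_one_iff (x : G)).mpr x.2]
  have hdiag : ∀ i, E i i = lamN θ e := by
    intro i
    have h1 : conv (conv (u 1) (u i)) f = E i i • w i := by
      simp only [hE, mul_inv_cancel]
      exact hgen _ _ ((hui 1).conv (hui i)) (by simpa using (hus 1).conv (hus i))
    have h2 : conv (conv (u 1) (u i)) f = lamN θ (u 1) • w i := by
      rw [show u 1 = extendByZero N (fun m : N => u 1 m) from eq_extend_trunc (hus 1).off,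
        ← ninv_conv_comm (hui i), ← eq_extend_trunc (hus 1).off, conv_assoc,
        conv_extend_idem θ (hui 1) (hus 1).off, conv_smul_right]
    obtain ⟨x, hx⟩ := hw0 i
    have h3 := congrFun (h1.symm.trans h2) x
    rw [← hu1]
    exact mul_right_cancel₀ hx h3
  rw [Matrix.trace, Finset.sum_congr rfl fun i _ => (show E.diag i = lamN θ e from hdiag i),
    Finset.sum_const, Finset.card_univ, hcard, nsmul_eq_mul] at htr
  exact eq_inv_of_mul_eq_one_right htr

end Cfsg.Agent.Char
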