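import Cfsg.Agent.Lib.Char.GroupAlg
import Cfsg.Agent.Lib.Char.IndValue

/-!
# Local-integral combinations of irreducible characters
-/

set_option autoImplicit false

namespace Cfsg.Agent.Char

open Cfsg Module
open scoped ComplexConjugate

universe u

variable {G : Type u} [Group G] [Fintype G] {M : Ideal AlgInt}

/-- A class function which is a combination of irreducible characters with local-integral
coefficients. -/
def IntComb (M : Ideal AlgInt) (f : G → ℂ) : Prop :=
  IsClassFunction G f ∧ ∀ χ : IrrCharacter G, MemLocalRing M (classInner f (χ : G → ℂ))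

theorem intComb_inner (hM : M.IsPrime) {f : G → ℂ} (hf : IntComb M f) {ψ : G → ℂ}
    (hψ : IsCharacter G ψ) : MemLocalRing M (classInner f ψ) := by
  classical
  obtain ⟨m, hm⟩ := exists_decomposition hψ
  rw [hm, ← classInner_symm, classInner_sum_left, map_sum]
  refine memLR_sum hM _ _ fun η _ => ?_
  rw [← Nat.cast_smul_eq_nsmul ℂ, classInner_smul_left, map_mul, map_natCast, classInner_symm]
  exact memLR_mul hM (memLR_natCast hM _) (hf.2 η)

theorem intComb_char (hM : M.IsPrime) {χ : G → ℂ} (h : IsCharacter G χ) : IntComb M χ :=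
  ⟨isClassFunction_character h, fun η => by
    obtain ⟨n, hn⟩ := classInner_natCast h (irr_isCharacter η.2)
    rw [hn]
    exact memLR_natCast hM n⟩

theorem intComb_zero (hM : M.IsPrime) : IntComb M (0 : G → ℂ) :=
  intComb_char hM isCharacter_zero

theorem intComb_add (hM : M.IsPrime) {f g : G → ℂ} (hf : IntComb M f) (hg : IntComb M g) :
    IntComb M (f + g) :=
  ⟨fun a k => by simp only [Pi.add_apply, hf.1 a k, hg.1 a k], fun η => by
    rw [classInner_add_left]; exact memLR_add hM (hf.2 η) (hg.2 η)⟩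

theorem intComb_sub (hM : M.IsPrime) {f g : G → ℂ} (hf : IntComb M f) (hg : IntComb M g) :
    IntComb M (f - g) :=
  ⟨fun a k => by simp only [Pi.sub_apply, hf.1 a k, hg.1 a k], fun η => by
    rw [classInner_sub_left]; exact memLR_sub hM (hf.2 η) (hg.2 η)⟩

theorem intComb_smul (hM : M.IsPrime) {r : ℂ} (hr : MemLocalRing M r) {f : G → ℂ}
    (hf : IntComb M f) : IntComb M (r • f) :=
  ⟨fun a k => by simp only [Pi.smul_apply, hf.1 a k], fun η => by
    rw [classInner_smul_left]; exact memLR_mul hM hr (hf.2 η)⟩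

theorem intComb_sum (hM : M.IsPrime) {ι : Type*} (s : Finset ι) (f : ι → G → ℂ)
    (h : ∀ i ∈ s, IntComb M (f i)) : IntComb M (∑ i ∈ s, f i) := by
  classical
  induction s using Finset.induction_on with
  | empty => simpa using intComb_zero hM
  | insert a s ha ih =>
    rw [Finset.sum_insert ha]
    exact intComb_add hM (h a (Finset.mem_insert_self a s))
      (ih fun i hi => h i (Finset.mem_insert_of_mem hi))

theorem intComb_mul (hM : M.IsPrime) {f g : G → ℂ} (hf : IntComb M f) (hg : IntComb M g) :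
    IntComb M (f * g) := by
  classical
  rw [classFun_expansion hf.1, classFun_expansion hg.1, Finset.sum_mul_sum]
  refine intComb_sum hM _ _ fun χ _ => intComb_sum hM _ _ fun ψ _ => ?_
  rw [smul_mul_smul_comm]
  exact intComb_smul hM (memLR_mul hM (hf.2 χ) (hg.2 ψ))
    (intComb_char hM (isCharacter_mul (irr_isCharacter χ.2) (irr_isCharacter ψ.2)))

theorem intComb_pow (hM : M.IsPrime) {f : G → ℂ} (hf : IntComb M f) :
    ∀ n : ℕ, IntComb M (f ^ n)
  | 0 => by rw [pow_zero]; exact intComb_char hM isCharacter_one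
  | n + 1 => by rw [pow_succ]; exact intComb_mul hM (intComb_pow hM hf n) hf

theorem intComb_ind (hM : M.IsPrime) (H : Subgroup G) [Fintype H] {f : H → ℂ}
    (hf : IntComb M f) : IntComb M (indFun H f) :=
  ⟨isClassFunction_indFun H f, fun η => by
    rw [frobenius H f (isClassFunction_character (irr_isCharacter η.2))]
    exact intComb_inner hM hf (isCharacter_comp H.subtype (irr_isCharacter η.2))⟩

theorem conj_char_memLR (hM : M.IsPrime) {χ : G → ℂ} (h : IsCharacter G χ) (g : G) :
    MemLocalRing M (conj (χ g)) := by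
  rw [← char_inv h]
  exact memLR_char hM h g⁻¹

variable {ℓ : ℕ}

/-- Class functions whose values are divisible by the `ℓ`-part of the group order are
local-integral combinations of characters. -/
theorem intComb_of_dvd (hM : IsPModular ℓ M) {f : G → ℂ} (hf : IsClassFunction G f)
    (h : ∀ x, ∃ y, MemLocalRing M y ∧ f x = (ℓ : ℂ) ^ (Nat.card G).factorization ℓ * y) :
    IntComb M f := by
  have hP := pmod_prime hM
  refine ⟨hf, fun η => ?_⟩
  set a := (Nat.card G).factorization ℓ with ha
  obtain ⟨m, hm⟩ : ℓ ^ a ∣ Nat.card G := Nat.ordProj_dvd _ _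
  have hpm : ¬ ℓ ∣ m := by
    have := Nat.not_dvd_ordCompl hM.1 (Nat.card_pos (α := G)).ne'
    rwa [← ha, hm, Nat.mul_div_cancel_left _ (Nat.pow_pos hM.1.pos)] at this
  choose y hy hfy using h
  have hne : (ℓ : ℂ) ^ a ≠ 0 := pow_ne_zero _ (Nat.cast_ne_zero.mpr hM.1.ne_zero)
  have : classInner f (η : G → ℂ) = (m : ℂ)⁻¹ * ∑ x, y x * conj ((η : G → ℂ) x) := by
    rw [classInner, hm, Finset.mul_sum, Finset.mul_sum]
    refine Finset.sum_congr rfl fun x _ => ?_
    rw [hfy x, Nat.cast_mul, Nat.cast_pow, mul_inv]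
    field_simp
  rw [this]
  exact memLR_mul hP (memLR_inv_natCast hM hpm)
    (memLR_sum hP _ _ fun x _ => memLR_mul hP (hy x) (conj_char_memLR hP (irr_isCharacter η.2) x))

/-- A natural number prime to `ℓ` has a power congruent to one modulo a given power of `ℓ`. -/
theorem exists_pow_eq_one_add (hℓ : ℓ.Prime) {n : ℕ} (hn : ¬ ℓ ∣ n) (a : ℕ) :
    ∃ z : ℤ, ((n : ℤ)) ^ (ℓ ^ a * (ℓ - 1)) = 1 + (ℓ : ℤ) ^ a * z := by
  have hcop : Nat.Coprime n (ℓ ^ (a + 1)) :=
    Nat.Coprime.pow_right _ ((hℓ.coprime_iff_not_dvd.mpr hn).symm)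
  have h := Nat.ModEq.pow_totient hcop
  rw [Nat.totient_prime_pow_succ hℓ] at h
  obtain ⟨z, hz⟩ := (Int.natCast_modEq_iff.mpr h).symm.dvd
  push_cast at hz
  exact ⟨(ℓ : ℤ) * z, by linear_combination hz⟩

end Cfsg.Agent.Char
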