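import Cfsg.Agent.Lib.Char.SquareRoots
import Cfsg.Agent.Lib.Char.Coprime
import Cfsg.Agent.Lib.Char.FreeTrace

/-!
# 2-groups with involution count one modulo four
-/

set_option autoImplicit false
set_option linter.style.haveILetI false
open scoped ComplexConjugate
open Cfsg

namespace Cfsg.Agent.Char

universe u

variable {G : Type u} [Group G] [Fintype G]

/-- Twisting by linear characters. -/
noncomputable def twist (l : G →* ℂˣ) (χ : IrrCharacter G) : IrrCharacter G :=
  ⟨fun g => (l g : ℂ) * (χ : G → ℂ) g, isIrr_linear_mul χ.2 l⟩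

theorem twist_apply (l : G →* ℂˣ) (χ : IrrCharacter G) (g : G) :
    (twist l χ : G → ℂ) g = (l g : ℂ) * (χ : G → ℂ) g := rfl

theorem twist_mul (a b : G →* ℂˣ) (χ : IrrCharacter G) : twist (a * b) χ = twist a (twist b χ) :=
  Subtype.ext (funext fun g => by simp [twist_apply, mul_assoc])

theorem twist_one (χ : IrrCharacter G) : twist (1 : G →* ℂˣ) χ = χ :=
  Subtype.ext (funext fun g => by simp [twist_apply])

noncomputable instance twistAction : MulAction (G →* ℂˣ) (IrrCharacter G) where
  smul := twist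
  one_smul := twist_one
  mul_smul := twist_mul

theorem deg_twist (l : G →* ℂˣ) (χ : IrrCharacter G) : deg (twist l χ : G → ℂ) = deg (χ : G → ℂ) := by
  simp [deg, twist_apply]

/-- At most `deg ^ 2` linear characters fix a character. -/
theorem card_twist_fix_le (χ : IrrCharacter G) (s : Finset (G →* ℂˣ))
    (hs : ∀ l ∈ s, twist l χ = χ) : s.card ≤ deg (χ : G → ℂ) ^ 2 := by
  classical
  set F : G → ℂ := fun g => (χ : G → ℂ) g * conj ((χ : G → ℂ) g) with hF
  have hFc : IsCharacter G F := isCharacter_mul (irr_isCharacter χ.2) (isCharacter_conj (irr_isCharacter χ.2))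
  obtain ⟨m, hm⟩ := exists_decomposition hFc
  let e : (G →* ℂˣ) → IrrCharacter G := fun l => ⟨fun g => (l g : ℂ), isIrrCharacter_linear l⟩
  have he : Function.Injective e := fun a b h => MonoidHom.ext fun g =>
    Units.ext (congrFun (congrArg Subtype.val h) g)
  have hone : ∀ l ∈ s, m (e l) = 1 := by
    intro l hl
    have h1 : classInner F (e l : G → ℂ) = classInner (χ : G → ℂ) (twist l χ : G → ℂ) := by
      simp only [classInner]
      congr 1
      refine Finset.sum_congr rfl fun g _ => ?_
      simp only [hF, e, twist_apply, map_mul]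
      ring
    rw [hs l hl, irr_self χ.2, decomposition_coeff m hm] at h1
    exact_mod_cast h1
  have h1 := congrFun hm 1
  choose d hd using fun ψ : IrrCharacter G => charOne_eq_natCast (irr_isCharacter ψ.2)
  simp only [hF, Finset.sum_apply, Pi.smul_apply, nsmul_eq_mul, Pi.mul_apply, Pi.natCast_apply, hd] at h1
  have hdχ : deg (χ : G → ℂ) = d χ := by rw [deg, hd]; simp
  rw [hdχ]
  rw [Complex.conj_natCast] at h1
  have h2 : d χ * d χ = ∑ ψ : IrrCharacter G, m ψ * d ψ := by exact_mod_cast h1
  rw [sq, h2]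
  refine le_trans ?_ (Finset.sum_le_univ_sum_of_nonneg (s := s.image e) fun ψ => Nat.zero_le _)
  rw [Finset.sum_image fun a _ b _ h => he h, Finset.card_eq_sum_ones]
  refine Finset.sum_le_sum fun l hl => ?_
  have hde : d (e l) = 1 := by
    have := hd (e l)
    simp only [e, map_one, Units.val_one] at this
    exact_mod_cast this.symm
  rw [hone l hl, hde]

theorem indicator_linear (l : G →* ℂˣ) :
    indicator2 (fun g => (l g : ℂ)) = if (∀ g, l g * l g = 1) then 1 else 0 := by
  classical
  have h := irrC_orth (⟨fun g => ((l * l) g : ℂ), isIrrCharacter_linear (l * l)⟩ : IrrCharacter G)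
    ⟨fun g => ((1 : G →* ℂˣ) g : ℂ), isIrrCharacter_linear 1⟩
  simp only [classInner, MonoidHom.one_apply, Units.val_one, map_one, mul_one] at h
  rw [indicator2, Finset.sum_congr rfl (g := fun g => ((l * l) g : ℂ)) (fun g _ => by
    rw [MonoidHom.mul_apply, map_mul]), h]
  refine if_congr ⟨fun e g => ?_, fun e => ?_⟩ rfl rfl
  · exact Units.ext (congrFun (congrArg Subtype.val e) g)
  · exact Subtype.ext (funext fun g => congrArg Units.val (e g))

/-- A 2-group with a unique index two subgroup is cyclic; here phrased with characters. -/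
theorem isCyclic_of_few_real_linear (hG : IsPGroup 2 G)
    (h : ∀ a b : G →* ℂˣ, a ≠ 1 → b ≠ 1 → (∀ g, a g * a g = 1) → (∀ g, b g * b g = 1) → a = b) :
    IsCyclic G := by
  classical
  haveI := Fact.mk Nat.prime_two
  haveI := hG.isNilpotent
  rcases subsingleton_or_nontrivial G with hs | hnt
  · infer_instance
  have hlin : ∀ M : Subgroup G, IsCoatom M → ∃ a : G →* ℂˣ, a ≠ 1 ∧ (∀ g, a g * a g = 1) ∧
      ∀ g, a g = 1 ↔ g ∈ M := by
    intro M hM
    haveI hMn : M.Normal := Subgroup.normalizer_eq_top_iff.1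
      (hM.2 _ (Group.normalizerCondition_of_isNilpotent M (lt_top_iff_ne_top.2 hM.1)))
    have hidx : M.index = 2 := by
      obtain ⟨k, hk⟩ := IsPGroup.iff_card.1 hG
      have hk0 : k ≠ 0 := fun h0 => by
        rw [h0, pow_zero] at hk
        exact absurd hk Finite.one_lt_card.ne'
      have hn := Group.normalizerCondition_of_isNilpotent M (lt_top_iff_ne_top.2 hM.1)
      obtain ⟨j, -, hj⟩ := (Nat.dvd_prime_pow Nat.prime_two).1 (hk ▸ M.index_dvd_card)
      rcases j with _ | j
      · exact absurd (Subgroup.index_eq_one.1 (hj.trans (pow_zero 2))) hM.1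
      have h2 : 2 ∣ Nat.card (G ⧸ M) := by
        show 2 ∣ M.index
        rw [hj]; exact dvd_pow_self 2 (Nat.succ_ne_zero j)
      obtain ⟨y, hy⟩ := exists_prime_orderOf_dvd_card' 2 h2
      have hyM : (Subgroup.zpowers y).comap (QuotientGroup.mk' M) = ⊤ := by
        refine hM.2 _ (lt_of_le_of_ne (fun x hx => ?_) fun e => ?_)
        · rw [Subgroup.mem_comap, QuotientGroup.mk'_apply, (QuotientGroup.eq_one_iff x).2 hx]
          exact one_mem _
        · obtain ⟨g, rfl⟩ := QuotientGroup.mk'_surjective M y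
          have h5 : g ∈ M := e ▸ (Subgroup.mem_zpowers _ : QuotientGroup.mk' M g ∈ _)
          rw [QuotientGroup.mk'_apply, (QuotientGroup.eq_one_iff g).2 h5, orderOf_one] at hy
          omega
      have h6 : Subgroup.zpowers y = ⊤ :=
        Subgroup.comap_injective (QuotientGroup.mk'_surjective M) (hyM.trans (Subgroup.comap_top _).symm)
      show Nat.card (G ⧸ M) = 2
      rw [← Subgroup.card_top (G := G ⧸ M), ← h6, Nat.card_zpowers, hy]
    let a : G →* ℂˣ := MonoidHom.mk' (fun g => if g ∈ M then 1 else -1) fun g k => by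
      have h2 := Subgroup.mul_mem_iff_of_index_two hidx (a := g) (b := k)
      by_cases hg : g ∈ M <;> by_cases hk : k ∈ M <;> simp_all
    have hval : ∀ g, a g = 1 ↔ g ∈ M := fun g => by
      show (if g ∈ M then (1 : ℂˣ) else -1) = 1 ↔ _
      by_cases hg : g ∈ M
      · simp [hg]
      · rw [if_neg hg]
        refine iff_of_false (fun e => ?_) hg
        have := congrArg Units.val e
        norm_num at this
    refine ⟨a, fun e => hM.1 (top_unique fun g _ => (hval g).1 (by rw [e, MonoidHom.one_apply])), fun g => ?_, hval⟩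
    show (if g ∈ M then (1 : ℂˣ) else -1) * (if g ∈ M then (1 : ℂˣ) else -1) = 1
    split_ifs <;> simp
  obtain ⟨M₀, hM₀, -⟩ := (eq_top_or_exists_le_coatom (⊥ : Subgroup G)).resolve_left bot_ne_top
  obtain ⟨a, ha1, ha2, ha⟩ := hlin M₀ hM₀
  obtain ⟨g, hg⟩ : ∃ g, g ∉ M₀ := by
    by_contra hc
    push Not at hc
    exact hM₀.1 (top_unique fun x _ => hc x)
  refine ⟨g, fun x => ?_⟩
  rcases eq_top_or_exists_le_coatom (Subgroup.zpowers g) with htop | ⟨M, hM, hle⟩
  · exact Subgroup.mem_zpowers_iff.1 (htop ▸ Subgroup.mem_top x)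
  · exfalso
    obtain ⟨b, hb1, hb2, hb⟩ := hlin M hM
    exact hg ((ha g).1 (h a b ha1 hb1 ha2 hb2 ▸ (hb g).2 (hle (Subgroup.mem_zpowers g))))

/-- The theorem of Alperin, Feit and Thompson. -/
theorem cyclic_or_index_four (hG : IsPGroup 2 G) (ht : Nat.card {x : G // orderOf x = 2} % 4 = 1) :
    IsCyclic G ∨ (commutator G).index = 4 := by
  classical
  haveI := Fact.mk Nat.prime_two
  haveI := finite_hom_units G
  haveI := Fintype.ofFinite (G →* ℂˣ)
  obtain ⟨k, hk⟩ := IsPGroup.iff_card.1 hG
  have hLp : IsPGroup 2 (G →* ℂˣ) := fun l => ⟨k, MonoidHom.ext fun g => by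
    rw [MonoidHom.pow_apply, MonoidHom.one_apply, ← map_pow, ← hk, pow_card_eq_one', map_one]⟩
  set V : Finset (G →* ℂˣ) := Finset.univ.filter fun l => ∀ g, l g * l g = 1 with hV
  set S : Finset (IrrCharacter G) :=
    Finset.univ.filter fun χ => deg (χ : G → ℂ) = 2 ∧ indicator2 (χ : G → ℂ) ≠ 0 with hS
  have hnu : ∀ χ : IrrCharacter G, ∃ z : ℤ, indicator2 (χ : G → ℂ) = z ∧ (z = 0 ∨ z = 1 ∨ z = -1) := by
    intro χ
    rcases (indicator_trichotomy χ.2).1 with h | h | h
    · exact ⟨0, by simp [h]⟩
    · exact ⟨1, by simp [h]⟩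
    · exact ⟨-1, by simp [h]⟩
  choose ν hν hν' using hnu
  -- the count of square roots of one
  have hroots : ((Finset.univ.filter fun u : G => u * u = 1).card : ℤ) =
      ∑ χ : IrrCharacter G, ν χ * deg (χ : G → ℂ) := by
    have h1 := sum_indicator_mul (G := G) 1
    simp only [hν, char_one_eq_deg (irr_isCharacter (Subtype.prop _))] at h1
    exact_mod_cast h1.symm
  have hone : (Finset.univ.filter fun u : G => u * u = 1).card = Nat.card {x : G // orderOf x = 2} + 1 := by
    have h1 : (Finset.univ.filter fun u : G => u * u = 1) =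
        insert 1 (Finset.univ.filter fun u : G => orderOf u = 2) := by
      ext u
      simp only [Finset.mem_filter, Finset.mem_univ, true_and, Finset.mem_insert]
      constructor
      · intro hu
        rcases eq_or_ne u 1 with h | h
        · exact Or.inl h
        · exact Or.inr (orderOf_eq_prime (by rw [pow_two]; exact hu) h)
      · rintro (rfl | hu)
        · rw [one_mul]
        · rw [← pow_two, ← hu, pow_orderOf_eq_one]
    rw [h1, Finset.card_insert_of_notMem (by simp), ← Fintype.card_subtype, Nat.card_eq_fintype_card]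
  let e : (G →* ℂˣ) → IrrCharacter G := fun l => ⟨fun g => (l g : ℂ), isIrrCharacter_linear l⟩
  have he : Function.Injective e := fun a b h => MonoidHom.ext fun g =>
    Units.ext (congrFun (congrArg Subtype.val h) g)
  have hterm : ∀ χ : IrrCharacter G, ((ν χ * deg (χ : G → ℂ) : ℤ) : ZMod 4) =
      (if χ ∈ V.image e then 1 else 0) + (if χ ∈ S then 2 else 0) := by
    intro χ
    obtain ⟨n, -, hn⟩ := (Nat.dvd_prime_pow Nat.prime_two).1 (hk ▸ deg_dvd_card χ.2)
    have hS' : χ ∈ S ↔ n = 1 ∧ ν χ ≠ 0 := by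
      rw [hS, Finset.mem_filter, hn, hν]
      simp only [Finset.mem_univ, true_and, Int.cast_ne_zero]
      refine and_congr_left fun _ => ⟨fun h => Nat.pow_right_injective le_rfl (h.trans (pow_one 2).symm), fun h => by rw [h, pow_one]⟩
    have hdeg1 : χ ∈ V.image e → n = 0 := by
      intro h
      obtain ⟨l, -, rfl⟩ := Finset.mem_image.1 h
      have h1 : deg ((e l : IrrCharacter G) : G → ℂ) = 1 := by simp [deg, e]
      rw [hn] at h1
      exact Nat.pow_right_injective le_rfl (h1.trans (pow_zero 2).symm)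
    rcases (show n = 0 ∨ n = 1 ∨ 2 ≤ n by omega) with rfl | rfl | hn2
    · obtain ⟨l, hl⟩ := exists_hom_of_degree_one (irr_isCharacter χ.2) (by
        rw [char_one_eq_deg (irr_isCharacter χ.2), hn, pow_zero, Nat.cast_one])
      have hχe : χ = e l := Subtype.ext hl
      have h1 := hν χ
      rw [hχe] at h1
      rw [if_neg (show χ ∉ S by rw [hS']; simp), add_zero]
      simp only [e, indicator_linear] at h1
      rw [hn, pow_zero, Nat.cast_one, mul_one, hχe]
      by_cases hl2 : ∀ g, l g * l g = 1
      · rw [if_pos hl2] at h1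
        rw [if_pos (Finset.mem_image_of_mem e (by simp [hV, hl2]))]
        have : ν (e l) = 1 := by exact_mod_cast h1.symm
        simp [this]
      · rw [if_neg hl2] at h1
        rw [if_neg (fun h => hl2 (by
          obtain ⟨l', hl', he'⟩ := Finset.mem_image.1 h
          rw [← he he']
          exact (Finset.mem_filter.1 hl').2))]
        have : ν (e l) = 0 := by exact_mod_cast h1.symm
        simp [this]
    · rw [if_neg (fun h => one_ne_zero (hdeg1 h)), zero_add, hn, pow_one]
      rcases hν' χ with h | h | h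
      · rw [if_neg (show χ ∉ S by rw [hS', h]; simp), h]; simp
      · rw [if_pos (show χ ∈ S by rw [hS', h]; simp), h]; simp
      · rw [if_pos (show χ ∈ S by rw [hS', h]; simp), h]; simp; decide
    · rw [if_neg (fun h => by have := hdeg1 h; omega), if_neg (show χ ∉ S by rw [hS']; omega), add_zero, hn]
      obtain ⟨j, rfl⟩ := Nat.exists_eq_add_of_le hn2
      rw [pow_add]
      push_cast
      simp [show (2 : ZMod 4) ^ 2 = 0 from rfl, show (4 : ZMod 4) = 0 from rfl]
  have hmain : (2 : ZMod 4) = (V.card : ZMod 4) + 2 * (S.card : ZMod 4) := by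
    have h1 := congrArg (fun z : ℤ => (z : ZMod 4)) hroots
    simp only [hone, Int.cast_sum, hterm, Finset.sum_add_distrib, Finset.sum_ite_mem, Finset.univ_inter,
      Finset.sum_const, nsmul_eq_mul, mul_one, Finset.card_image_of_injective V he] at h1
    rw [mul_comm (2 : ZMod 4), ← h1, Int.cast_natCast, Nat.cast_add, Nat.cast_one,
      show (Nat.card {x : G // orderOf x = 2} : ZMod 4) = 1 from by
        rw [← ZMod.natCast_mod, ht, Nat.cast_one]]
    rfl
  have hV1 : (1 : G →* ℂˣ) ∈ V := by simp [hV]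
  let Vs : Subgroup (G →* ℂˣ) :=
    { carrier := {l | ∀ g, l g * l g = 1}
      one_mem' := fun g => by simp
      mul_mem' := fun {a b} ha hb g => by
        rw [MonoidHom.mul_apply, mul_mul_mul_comm, ha, hb, one_mul]
      inv_mem' := fun {a} ha g => by rw [MonoidHom.inv_apply, ← mul_inv, ha, inv_one] }
  haveI : Fintype Vs := Fintype.ofFinite Vs
  have hcardV : Nat.card Vs = V.card := by
    rw [hV, ← Fintype.card_subtype, ← Nat.card_eq_fintype_card]
    exact Nat.card_congr (Equiv.subtypeEquivRight fun l => Iff.rfl)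
  obtain ⟨r, hr⟩ := IsPGroup.iff_card.1 (hLp.to_subgroup Vs)
  rcases (show r = 0 ∨ r = 1 ∨ 2 ≤ r by omega) with rfl | rfl | hr2
  · exfalso
    rw [← hcardV, hr, pow_zero, Nat.cast_one] at hmain
    have : ∀ a : ZMod 4, (2 : ZMod 4) ≠ 1 + 2 * a := by decide
    exact this _ hmain
  · left
    refine isCyclic_of_few_real_linear hG fun a b ha hb ha2 hb2 => ?_
    have h2 : Nat.card Vs = 2 := by rw [hr, pow_one]
    obtain ⟨x, y, -, hxy⟩ := Nat.card_eq_two_iff.1 h2
    have h3 : ∀ v : Vs, v = x ∨ v = y := fun v => by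
      have := Set.ext_iff.1 hxy v
      simpa using this
    rcases h3 ⟨a, ha2⟩ with e1 | e1 <;> rcases h3 ⟨b, hb2⟩ with e2 | e2 <;>
      rcases h3 1 with e3 | e3 <;> first
        | exact congrArg Subtype.val (e1.trans e2.symm)
        | exact absurd (congrArg Subtype.val (e1.trans e3.symm)) ha
        | exact absurd (congrArg Subtype.val (e2.trans e3.symm)) hb
  right
  by_contra h4
  have h4d : (4 : ℕ) ∣ V.card := hcardV ▸ hr ▸ (show 2 ^ 2 ∣ 2 ^ r from pow_dvd_pow 2 hr2)
  -- degree two real characters form an even set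
  have hSmem : ∀ χ : IrrCharacter G, χ ∈ S ↔ deg (χ : G → ℂ) = 2 ∧ ∀ g, conj ((χ : G → ℂ) g) = (χ : G → ℂ) g := by
    intro χ
    rw [hS, Finset.mem_filter, Ne, (indicator_trichotomy χ.2).2]
    simp [Complex.conj_eq_iff_im]
  have hVS : ∀ l ∈ Vs, ∀ χ ∈ S, twist l χ ∈ S := by
    intro l hl χ hχ
    rw [hSmem] at hχ ⊢
    refine ⟨(deg_twist l χ).trans hχ.1, fun g => ?_⟩
    rw [twist_apply, map_mul, hχ.2, ← char_inv (isCharacter_linear l), map_inv, inv_eq_of_mul_eq_one_right (hl g)]
  letI : MulAction Vs {χ : IrrCharacter G // χ ∈ S} :=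
    { smul := fun l χ => ⟨twist (l : G →* ℂˣ) χ.1, hVS _ l.2 _ χ.2⟩
      one_smul := fun χ => Subtype.ext (twist_one χ.1)
      mul_smul := fun a b χ => Subtype.ext (twist_mul _ _ χ.1) }
  have hmod := (hLp.to_subgroup Vs).card_modEq_card_fixedPoints {χ : IrrCharacter G // χ ∈ S}
  set SV := Finset.univ.filter (fun χ : IrrCharacter G => χ ∈ S ∧ ∀ l ∈ Vs, twist l χ = χ) with hSV
  have hSV' : Nat.card (MulAction.fixedPoints Vs {χ : IrrCharacter G // χ ∈ S}) = SV.card := by
    rw [hSV, ← Fintype.card_subtype, ← Nat.card_eq_fintype_card]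
    exact Nat.card_congr
      { toFun := fun x => ⟨x.1.1, x.1.2, fun l hl => congrArg Subtype.val (x.2 ⟨l, hl⟩)⟩
        invFun := fun x => ⟨⟨x.1, x.2.1⟩, fun l => Subtype.ext (x.2.2 l l.2)⟩
        left_inv := fun x => rfl
        right_inv := fun x => rfl }
  rw [hSV', Nat.card_eq_fintype_card, Fintype.card_coe] at hmod
  have heven : SV.card % 2 = 0 := by
    let Us : Subgroup (G →* ℂˣ) :=
      { carrier := {l | l * l ∈ Vs}
        one_mem' := fun g => by simp
        mul_mem' := fun {a b} ha hb => by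
          show a * b * (a * b) ∈ Vs
          have h5 : a * b * (a * b) = a * a * (b * b) :=
            MonoidHom.ext fun g => by simp [mul_mul_mul_comm]
          rw [h5]; exact mul_mem ha hb
        inv_mem' := fun {a} ha => by
          show a⁻¹ * a⁻¹ ∈ Vs
          have h5 : a⁻¹ * a⁻¹ = (a * a)⁻¹ := MonoidHom.ext fun g => by simp [mul_inv]
          rw [h5]; exact inv_mem ha }
    have hUS : ∀ l ∈ Us, ∀ χ ∈ SV, twist l χ ∈ SV := by
      intro l hl χ hχ
      obtain ⟨hχS, hfix⟩ := (Finset.mem_filter.1 hχ).2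
      refine Finset.mem_filter.2 ⟨Finset.mem_univ _, (hSmem _).2 ⟨(deg_twist l χ).trans ((hSmem χ).1 hχS).1,
        fun g => ?_⟩, fun v hv => ?_⟩
      · rw [twist_apply, map_mul, ((hSmem χ).1 hχS).2, ← char_inv (isCharacter_linear l), map_inv]
        have h5 := congrFun (congrArg Subtype.val (hfix _ (inv_mem hl))) g
        rw [twist_apply, MonoidHom.inv_apply, MonoidHom.mul_apply] at h5
        conv_rhs => rw [← h5, ← mul_assoc, ← Units.val_mul, mul_inv, ← mul_assoc, mul_inv_cancel, one_mul]
      · rw [← twist_mul, show v * l = l * v from MonoidHom.ext fun g => mul_comm _ _, twist_mul, hfix v hv]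
    letI : MulAction Us {χ : IrrCharacter G // χ ∈ SV} :=
      { smul := fun l χ => ⟨twist (l : G →* ℂˣ) χ.1, hUS _ l.2 _ χ.2⟩
        one_smul := fun χ => Subtype.ext (twist_one χ.1)
        mul_smul := fun a b χ => Subtype.ext (twist_mul _ _ χ.1) }
    have hmod2 := (hLp.to_subgroup Us).card_modEq_card_fixedPoints {χ : IrrCharacter G // χ ∈ SV}
    have hempty : IsEmpty (MulAction.fixedPoints Us {χ : IrrCharacter G // χ ∈ SV}) := by
      refine ⟨fun x => ?_⟩
      have hfix : ∀ l ∈ Us, twist l x.1.1 = x.1.1 := fun l hl => congrArg Subtype.val (x.2 ⟨l, hl⟩)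
      have hdeg : deg (x.1.1 : G → ℂ) = 2 :=
        ((hSmem _).1 (Finset.mem_filter.1 x.1.2).2.1).1
      have hUle : Nat.card Us ≤ 4 := by
        have h5 := card_twist_fix_le x.1.1 (Finset.univ.filter fun l => l ∈ Us)
          (fun l hl => hfix l (Finset.mem_filter.1 hl).2)
        rw [hdeg, ← Fintype.card_subtype] at h5
        rw [Nat.card_eq_fintype_card]
        exact h5
      have hVU : Vs ≤ Us := fun l hl => mul_mem hl hl
      have hVeq : Vs = Us := Subgroup.eq_of_le_of_card_ge hVU (hUle.trans (by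
        rw [hr]; calc 4 = 2 ^ 2 := rfl
          _ ≤ 2 ^ r := Nat.pow_le_pow_right (by norm_num) hr2))
      -- then every linear character is real
      have hall : ∀ l : G →* ℂˣ, l ∈ Vs := by
        intro l
        obtain ⟨j, hj⟩ := hLp l
        induction j generalizing l with
        | zero => rw [pow_zero, pow_one] at hj; rw [hj]; exact one_mem _
        | succ j ih =>
          have h5 : l * l ∈ Vs := ih (l * l) (MonoidHom.ext fun g => by
            have h6 := DFunLike.congr_fun hj g
            rw [MonoidHom.pow_apply, MonoidHom.one_apply, pow_succ', pow_mul, pow_two] at h6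
            rw [MonoidHom.pow_apply, MonoidHom.mul_apply, MonoidHom.one_apply]
            exact h6)
          rw [hVeq]
          exact h5
      apply h4
      rw [← card_hom_units, ← Subgroup.card_top, show (⊤ : Subgroup (G →* ℂˣ)) = Us from
        (top_unique fun l _ => hVeq ▸ hall l).symm]
      refine le_antisymm hUle ?_
      rw [← hVeq, hr]
      calc 4 = 2 ^ 2 := rfl
        _ ≤ 2 ^ r := Nat.pow_le_pow_right (by norm_num) hr2
    rw [Nat.card_eq_fintype_card, Fintype.card_coe, Nat.card_of_isEmpty] at hmod2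
    exact hmod2
  have hSeven : S.card % 2 = 0 := by
    rw [Nat.ModEq, heven] at hmod
    exact hmod
  obtain ⟨a, ha⟩ := h4d
  obtain ⟨b, hb⟩ := Nat.dvd_of_mod_eq_zero hSeven
  rw [ha, hb, Nat.cast_mul, Nat.cast_mul, show ((4 : ℕ) : ZMod 4) = 0 from rfl, zero_mul, zero_add,
    ← mul_assoc, show (2 : ZMod 4) * ((2 : ℕ) : ZMod 4) = 0 from rfl, zero_mul] at hmain
  exact absurd hmain (by decide)

end Cfsg.Agent.Char
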