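import Cfsg.Agent.Lib.Char.IsolatedBase

/-!
# Isolated involutions: the step for groups with a four-subgroup
-/

set_option autoImplicit false
set_option linter.unusedSectionVars false
set_option linter.style.haveILetI false

namespace Cfsg.Agent.Char

open Cfsg
open scoped ComplexConjugate

universe u

variable {G : Type u} [Group G] [Finite G]

/-- The induction hypothesis below the order of `G`. -/
def ZStarBelow (G : Type u) [Group G] : Prop :=
  ∀ (H : Type u) [Group H] [Finite H], Nat.card H < Nat.card G →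
    ∀ s : H, OddInvol s → CentralModCore s

theorem ZStarBelow.proper (hIH : ZStarBelow G) {t : G} (ht : OddInvol t) (K : Subgroup G)
    (hK : K ≠ ⊤) (h : t ∈ K) : CentralModCore (⟨t, h⟩ : K) :=
  hIH K (lt_of_le_of_ne (Nat.le_of_dvd Nat.card_pos K.card_subgroup_dvd_card)
    fun e => hK (Subgroup.eq_top_of_card_eq K e)) _ (ht.subgroup h)

theorem card_oddCore_odd (G : Type u) [Group G] [Finite G] : Odd (Nat.card (oddCore G)) :=
  Nat.coprime_two_right.mp (Fusion.card_pPrimeCore_coprime 2 G)

/-- A central involution besides the isolated one forces centrality. -/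
theorem central_of_central_involution (hO : oddCore G = ⊥) (hIH : ZStarBelow G) {t : G}
    (ht : OddInvol t) {z : G} (hz : z * z = 1) (hz1 : z ≠ 1) (hzt : z ≠ t)
    (hzc : ∀ g : G, z * g = g * z) : ∀ g : G, t * g = g * t := by
  intro g
  set Z := Subgroup.zpowers z with hZdef
  haveI hZn : Z.Normal := by
    refine ⟨fun n hn a => ?_⟩
    obtain ⟨k, rfl⟩ := Subgroup.mem_zpowers_iff.mp hn
    have hc : Commute a (z ^ k) := Commute.zpow_right (hzc a).symm k
    rwa [hc.eq, mul_inv_cancel_right]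
  have hZcard : Nat.card Z = 2 := by
    rw [Nat.card_zpowers, orderOf_eq_prime (by rw [pow_two, hz]) hz1]
  have htZ : t ∉ Z := by
    intro h
    have := orderOf_eq_prime (p := 2) (x := z) (by rw [pow_two, hz]) hz1
    obtain ⟨k, hk⟩ := Subgroup.mem_zpowers_iff.mp h
    rw [← zpow_mod_orderOf, this] at hk
    rcases Int.emod_two_eq_zero_or_one k with e | e <;> push_cast at hk <;> rw [e] at hk
    · exact ht.ne_one (by simpa using hk.symm)
    · exact hzt (by simpa using hk)
  have hlt : Nat.card (G ⧸ Z) < Nat.card G := by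
    rw [Subgroup.card_eq_card_quotient_mul_card_subgroup Z, hZcard]
    have := Nat.card_pos (α := G ⧸ Z)
    omega
  have hq := hIH (G ⧸ Z) hlt (QuotientGroup.mk' Z t)
    (ht.map _ (QuotientGroup.mk'_surjective Z) (fun e => htZ ((QuotientGroup.eq_one_iff t).mp e)))
    (QuotientGroup.mk' Z g)
  set K := (oddCore (G ⧸ Z)).comap (QuotientGroup.mk' Z) with hKdef
  have hwK : t * g * t⁻¹ * g⁻¹ ∈ K := by simpa [hKdef] using hq
  have hZK : Z ≤ K := fun a ha => by
    simp [hKdef, (QuotientGroup.eq_one_iff a).2 ha]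
  set Z' := Z.subgroupOf K
  haveI : Z'.Normal := hZn.comap _
  have hZ'card : Nat.card Z' = 2 := by
    rw [Nat.card_congr (Subgroup.subgroupOfEquivOfLe hZK).toEquiv, hZcard]
  have hidx : Z'.index = Nat.card (oddCore (G ⧸ Z)) := by
    have h2 := Subgroup.relIndex_ker (f := QuotientGroup.mk' Z) (K := K)
    rwa [QuotientGroup.ker_mk', Subgroup.map_comap_eq_self_of_surjective
      (QuotientGroup.mk'_surjective Z)] at h2
  have hcop : (Nat.card Z').Coprime Z'.index := by
    rw [hZ'card, hidx]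
    exact Nat.coprime_two_left.mpr (card_oddCore_odd _)
  obtain ⟨N, hN⟩ := Subgroup.exists_right_complement'_of_coprime hcop
  haveI hNn : N.Normal := by
    refine Subgroup.normalizer_eq_top_iff.mp (top_le_iff.mp (hN.sup_eq_top ▸ sup_le ?_ Subgroup.le_normalizer))
    intro a ha
    rw [Subgroup.mem_normalizer_iff]
    intro n
    have hca : ∀ b : K, a * b = b * a := fun b => by
      obtain ⟨k, hk⟩ := Subgroup.mem_zpowers_iff.mp (Subgroup.mem_subgroupOf.mp ha)
      refine Subtype.ext ?_
      rw [Subgroup.coe_mul, Subgroup.coe_mul, ← hk]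
      exact (Commute.zpow_left (hzc b) k).eq
    rw [hca n, mul_inv_cancel_right]
  have hNcard : Odd (Nat.card N) := by
    have h := hN.card_mul_card
    rw [hZ'card, ← Z'.index_mul_card, hZ'card, mul_comm 2] at h
    have h2 : Nat.card N = Z'.index := Nat.eq_of_mul_eq_mul_right two_pos h
    rw [h2, hidx]
    exact card_oddCore_odd _
  haveI : K.Normal := inferInstance
  have hNbot : N = ⊥ := by
    rw [eq_bot_iff, ← oddCore_normal_eq_bot hO K]
    exact Fusion.le_pPrimeCore (Nat.coprime_two_right.mpr hNcard)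
  rw [hNbot, Subgroup.isComplement'_bot_right] at hN
  have hwZ : t * g * t⁻¹ * g⁻¹ ∈ Z := by
    have : (⟨_, hwK⟩ : K) ∈ Z' := hN ▸ Subgroup.mem_top _
    exact Subgroup.mem_subgroupOf.mp this
  have hodd : Odd (orderOf (t * g * t⁻¹ * g⁻¹)) := by
    have h := ht.odd g
    rwa [show t * (g * t * g⁻¹) = t * g * t⁻¹ * g⁻¹ by rw [ht.inv_eq]; group] at h
  have h2 : orderOf (t * g * t⁻¹ * g⁻¹) ∣ 2 :=
    hZcard ▸ Subgroup.orderOf_dvd_natCard Z hwZ
  rcases (Nat.dvd_prime Nat.prime_two).mp h2 with e | e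
  · rw [orderOf_eq_one_iff, mul_inv_eq_one, mul_inv_eq_iff_eq_mul] at e
    exact e
  · exact absurd (e ▸ hodd) (by decide)

variable {M : Ideal AlgInt}

/-- The product formula for an isolated involution and a commuting involution. -/
theorem value_mul_of_commute (hM : IsPModular 2 M) (hIH : ZStarBelow G) {t : G} (ht : OddInvol t)
    (hnc : ∀ z : G, z * z = 1 → z ≠ 1 → z ≠ t → Subgroup.centralizer ({z} : Set G) ≠ ⊤)
    {x : G} (hx : x * x = 1) (hx1 : x ≠ 1) (hxt : x ≠ t)
    (hc : Commute t x) (χ : IrrCharacter G) (hχ : χ ∈ principalBlock M G) :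
    (χ : G → ℂ) 1 * (χ : G → ℂ) (t * x) = (χ : G → ℂ) t * (χ : G → ℂ) x := by
  classical
  letI := Fintype.ofFinite G
  have hcf := isClassFunction_character (irr_isCharacter χ.2)
  have key : ∀ g : G, (χ : G → ℂ) (t * (g * x * g⁻¹)) = (χ : G → ℂ) (t * x) := by
    intro g
    set x' := g * x * g⁻¹ with hx'
    have hx'2 : x' * x' = 1 := by
      rw [hx', show g * x * g⁻¹ * (g * x * g⁻¹) = g * (x * x) * g⁻¹ by group, hx, mul_one,
        mul_inv_cancel]
    have hx'1 : x' ≠ 1 := fun e => hx1 (conj_eq_one_iff.mp e)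
    have hnconj : ∀ c : G, c * t * c⁻¹ ≠ x' := by
      intro c e
      have e' : g⁻¹ * c * t * (g⁻¹ * c)⁻¹ = x := by
        rw [show g⁻¹ * c * t * (g⁻¹ * c)⁻¹ = g⁻¹ * (c * t * c⁻¹) * g by group, e, hx']
        group
      exact hxt (e'.symm.trans (ht.eq_of_commute (by rw [e']; exact hc)))
    set d := t * x' with hd
    have hodd' : ¬ Odd (orderOf d) := fun ho => by
      obtain ⟨c, -, e⟩ := exists_zpowers_conj ht.sq hx'2 ho
      exact hnconj c e
    rw [Nat.not_odd_iff_even, even_iff_two_dvd] at hodd'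
    obtain ⟨m, hm⟩ := hodd'
    have hinv : ∀ j : ℕ, t * d ^ j * t⁻¹ = (d ^ j)⁻¹ := fun j => by
      have h1 : t * d * t⁻¹ = d⁻¹ := by
        rw [hd, mul_inv_rev, inv_eq_of_mul_eq_one_left hx'2, ht.inv_eq, ← mul_assoc t t, ht.sq,
          one_mul]
      rw [← conj_pow, h1, inv_pow]
    have hm0 : 0 < m := by
      have := orderOf_pos d
      omega
    have hmodd : Odd m := by
      by_contra hme
      rw [Nat.not_odd_iff_even, even_iff_two_dvd] at hme
      obtain ⟨k, rfl⟩ := hme
      have h1 := ht.odd (d ^ k)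
      have h2 : t * (d ^ k * t * (d ^ k)⁻¹) = (d ^ (2 * k))⁻¹ := by
        calc t * (d ^ k * t * (d ^ k)⁻¹) = t * d ^ k * t⁻¹ * (d ^ k)⁻¹ := by
              rw [ht.inv_eq]; group
          _ = _ := by rw [hinv, ← mul_inv_rev, ← pow_add, two_mul]
      rw [h2, orderOf_inv, orderOf_pow_of_dvd (by omega) ⟨2, by omega⟩, hm,
        show 2 * (2 * k) / (2 * k) = 2 from Nat.mul_div_cancel _ (by omega)] at h1
      exact absurd h1 (by decide)
    set z := d ^ m with hz
    have hz2 : z * z = 1 := by rw [hz, ← pow_add, ← two_mul, ← hm, pow_orderOf_eq_one]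
    have hz1 : z ≠ 1 := pow_ne_one_of_lt_orderOf hm0.ne' (by omega)
    have hzi : z⁻¹ = z := inv_eq_of_mul_eq_one_left hz2
    have hzct : Commute t z := by
      have := hinv m
      rwa [← hz, hzi, mul_inv_eq_iff_eq_mul] at this
    have hzcd : Commute d z := Commute.self_pow d m
    have hzcx' : Commute x' z := by
      have : x' = t * d := by rw [hd, ← mul_assoc, ht.sq, one_mul]
      rw [this]
      exact hzct.mul_left hzcd
    have hzt : z ≠ t := by
      intro e
      have hdt : t * d * t⁻¹ = d := by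
        rw [← e]; exact mul_inv_eq_of_eq_mul hzcd.eq.symm
      have h1 := hinv 1
      rw [pow_one, hdt] at h1
      have h2 : d * d = 1 := by nth_rewrite 1 [h1]; exact inv_mul_cancel d
      have h3 : orderOf d ∣ 2 := orderOf_dvd_of_pow_eq_one (by rw [pow_two, h2])
      have h4 : m = 1 := by
        have := Nat.le_of_dvd two_pos h3
        omega
      rw [hz, h4, pow_one, hd] at e
      exact hx'1 (mul_eq_left.mp e)
    set s := d * z with hs
    have hsodd : Odd (orderOf s) := by
      refine Odd.of_dvd_nat hmodd (orderOf_dvd_of_pow_eq_one ?_)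
      obtain ⟨k, hk⟩ := hmodd
      rw [hs, hz, ← pow_succ', ← pow_mul, show (m + 1) * m = (2 * m) * (k + 1) by rw [hk]; ring,
        pow_mul, ← hm, pow_orderOf_eq_one, one_pow]
    have hx''2 : x' * z * (x' * z) = 1 := by
      rw [Commute.mul_mul_mul_comm hzcx'.symm, hx'2, hz2, one_mul]
    obtain ⟨c, hc', hcx⟩ := exists_zpowers_conj ht.sq hx''2
      (by rw [← mul_assoc]; exact hsodd)
    have hsC : s ∈ Subgroup.centralizer ({z} : Set G) :=
      Subgroup.mem_centralizer_singleton_iff.mpr
        ((Commute.mul_left hzcd (Commute.refl z)).eq)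
    have hcC : c ∈ Subgroup.centralizer ({z} : Set G) := by
      refine (Subgroup.zpowers_le.mpr ?_) hc'
      rw [← mul_assoc]; exact hsC
    have htC : t ∈ Subgroup.centralizer ({z} : Set G) :=
      Subgroup.mem_centralizer_singleton_iff.mpr hzct.eq
    have hN := hIH.proper ht _ (hnc z hz2 hz1 hzt) htC ⟨c, hcC⟩
    have hsN : (⟨s, hsC⟩ : Subgroup.centralizer ({z} : Set G)) ∈
        oddCore (Subgroup.centralizer ({z} : Set G)) := by
      convert hN using 1
      refine Subtype.ext ?_
      show s = t * c * t⁻¹ * c⁻¹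
      rw [ht.inv_eq, show t * c * t * c⁻¹ = t * (c * t * c⁻¹) by group, hcx, hs, hd, mul_assoc]
    have hsec := principal_section_const hM (x := z)
      ⟨1, by rw [pow_one, orderOf_eq_prime (by rw [pow_two, hz2]) hz1]⟩
      (oddCore (Subgroup.centralizer ({z} : Set G)))
      (fun h => (Nat.not_even_iff_odd.mpr (card_oddCore_odd _)) (even_iff_two_dvd.mpr h))
      χ hχ 1 ⟨s, hsC⟩ hsN (by simp)
      (by
        rw [mul_one, ← Subgroup.orderOf_coe]
        exact fun h => (Nat.not_even_iff_odd.mpr hsodd) (even_iff_two_dvd.mpr h))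
    simp only [mul_one, Subgroup.coe_one] at hsec
    have hzs : z * s = d := by
      rw [hs, ← mul_assoc, ← hzcd.eq, mul_assoc, hz2, mul_one]
    rw [hzs] at hsec
    rw [hsec]
    -- `z` is conjugate to `t * x`
    set h := c⁻¹ * g with hh
    have hw : h * x * h⁻¹ = t * z := by
      have e : c * (t * z) * c⁻¹ = x' := by
        rw [show c * (t * z) * c⁻¹ = c * t * c⁻¹ * (c * z * c⁻¹) by group, hcx,
          show c * z * c⁻¹ = z by rw [Subgroup.mem_centralizer_singleton_iff.mp hcC,
            mul_inv_cancel_right], mul_assoc, hz2, mul_one]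
      rw [hh, show c⁻¹ * g * x * (c⁻¹ * g)⁻¹ = c⁻¹ * (g * x * g⁻¹) * c by group, ← hx', ← e]
      group
    have hcw : Commute (h * t * h⁻¹) (t * z) := by
      rw [← hw]; exact Commute.map hc (MulAut.conj h)
    have htw : Commute t (t * z) := (Commute.refl t).mul_right hzct
    obtain ⟨e, he, het⟩ := exists_zpowers_conj ht.sq (ht.conj h).sq (ht.odd h)
    have hew : Commute e (t * z) := by
      obtain ⟨j, rfl⟩ := Subgroup.mem_zpowers_iff.mp he
      exact (htw.mul_left hcw).zpow_left j
    set k := e⁻¹ * h with hk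
    have hkt : k * t * k⁻¹ = t := by
      rw [hk, show e⁻¹ * h * t * (e⁻¹ * h)⁻¹ = e⁻¹ * (h * t * h⁻¹) * e by group, ← het]
      group
    have hkx : k * x * k⁻¹ = t * z := by
      rw [hk, show e⁻¹ * h * x * (e⁻¹ * h)⁻¹ = e⁻¹ * (h * x * h⁻¹) * e by group, hw,
        hew.inv_left.eq, inv_mul_cancel_right]
    rw [← hcf (t * x) k, show k * (t * x) * k⁻¹ = k * t * k⁻¹ * (k * x * k⁻¹) by group, hkt, hkx,
      ← mul_assoc, ht.sq, one_mul]
  have h := sum_conj_mul χ.2 t x
  rw [Finset.sum_congr rfl fun g _ => key g, Finset.sum_const, Finset.card_univ, nsmul_eq_mul,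
    ← Nat.card_eq_fintype_card] at h
  refine mul_left_cancel₀ (Nat.cast_ne_zero.mpr (Nat.card_pos (α := G)).ne' : (Nat.card G : ℂ) ≠ 0) ?_
  linear_combination h

/-- **The step**: with a commuting second involution an isolated involution is central. -/
theorem central_of_commuting_involution (hO : oddCore G = ⊥) (hIH : ZStarBelow G) {t : G}
    (ht : OddInvol t) {x : G} (hx : x * x = 1) (hx1 : x ≠ 1) (hxt : x ≠ t) (hc : Commute t x) :
    ∀ g : G, t * g = g * t := by
  classical
  by_contra hgoal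
  letI := Fintype.ofFinite G
  have hnc : ∀ z : G, z * z = 1 → z ≠ 1 → z ≠ t → Subgroup.centralizer ({z} : Set G) ≠ ⊤ := by
    intro z hz hz1 hzt htop
    refine hgoal (central_of_central_involution hO hIH ht hz hz1 hzt fun g => ?_)
    exact (Subgroup.mem_centralizer_singleton_iff.mp (htop ▸ Subgroup.mem_top g)).symm
  obtain ⟨M, hM⟩ := exists_pModular Nat.prime_two
  have hP := pmod_prime hM
  have htx2 : t * x * (t * x) = 1 := by
    rw [Commute.mul_mul_mul_comm hc.symm, ht.sq, hx, one_mul]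
  have htx1 : t * x ≠ 1 := fun e => hxt (mul_left_cancel (a := t) (e.trans ht.sq.symm))
  have htxt : t * x ≠ t := fun e => hx1 (mul_eq_left.mp e)
  have horth : ∀ w : G, w * w = 1 → w ≠ 1 →
      ∑ χ : IrrCharacter G with χ ∈ principalBlock M G,
        (χ : G → ℂ) 1 * (χ : G → ℂ) w = 0 := by
    intro w hw hw1
    have h := weak_orthogonality hM (isPBlock_principalBlock (G := G) M) (x := 1) (y := w⁻¹)
      (by simp) (by rw [orderOf_inv, orderOf_eq_prime (by rw [pow_two, hw]) hw1])
    rw [finsum_mem_irr] at h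
    rw [← h]
    refine Finset.sum_congr rfl fun χ _ => ?_
    rw [char_inv (irr_isCharacter χ.2), Complex.conj_conj]
  have h1 := horth x hx hx1
  have h2 := horth (t * x) htx2 htx1
  have hval : ∀ χ : IrrCharacter G, χ ∈ principalBlock M G →
      (χ : G → ℂ) 1 * (χ : G → ℂ) x + (χ : G → ℂ) 1 * (χ : G → ℂ) (t * x) =
        if (χ : G → ℂ) = (fun _ => 1) then 2 else 0 := by
    intro χ hχ
    by_cases h0 : (χ : G → ℂ) = fun _ => 1
    · rw [if_pos h0, h0]; norm_num
    rw [if_neg h0]
    have e1 := value_mul_of_commute hM hIH ht hnc hx hx1 hxt hc χ hχ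
    have e2 := value_mul_of_commute hM hIH ht hnc htx2 htx1 htxt
      ((Commute.refl t).mul_right hc) χ hχ
    rw [← mul_assoc t t x, ht.sq, one_mul] at e2
    have hne : (χ : G → ℂ) t ≠ (χ : G → ℂ) 1 := fun e =>
      hgoal (central_of_char_kernel ht hO (hIH.proper ht) χ h0 e)
    have hfac : ((χ : G → ℂ) t - (χ : G → ℂ) 1) *
        ((χ : G → ℂ) 1 * (χ : G → ℂ) x + (χ : G → ℂ) 1 * (χ : G → ℂ) (t * x)) = 0 := by
      linear_combination (-(χ : G → ℂ) 1) * e2 + (-(χ : G → ℂ) 1) * e1
    exact (mul_eq_zero.mp hfac).resolve_left (sub_ne_zero.mpr hne)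
  have hsum : ∑ χ : IrrCharacter G with χ ∈ principalBlock M G,
      (if (χ : G → ℂ) = (fun _ => 1) then (2 : ℂ) else 0) = 0 := by
    rw [← Finset.sum_congr rfl fun χ hχ => hval χ (Finset.mem_filter.mp hχ).2,
      Finset.sum_add_distrib, h1, h2, add_zero]
  rw [Finset.sum_eq_single (⟨fun _ => 1, isIrrCharacter_one⟩ : IrrCharacter G)
    (fun χ _ hne => if_neg fun e => hne (Subtype.ext e))
    (fun h => h.elim (Finset.mem_filter.mpr ⟨Finset.mem_univ _,
      show (⟨_, isIrrCharacter_one⟩ : IrrCharacter G) ∈ principalBlock M G from sameBlock_refl hP _⟩)),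
    if_pos rfl] at hsum
  exact two_ne_zero hsum

end Cfsg.Agent.Char
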