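import Cfsg.Agent.Lib.Char.Linear
import Mathlib.Analysis.InnerProductSpace.PiL2
import Mathlib.Analysis.InnerProductSpace.Orthonormal
import Mathlib.Analysis.Normed.Module.FiniteDimension

/-!
# The theorem of Frobenius on finite unitary groups
-/

set_option autoImplicit false

namespace Cfsg.Agent.Char

open Cfsg Module
open scoped ComplexConjugate InnerProductSpace

universe u v

/-- The centre of the disc cut out by an arc of thirty degrees. -/
noncomputable def jc : ℝ := Real.sqrt 3 / 2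

theorem jc_sq : jc ^ 2 = 3 / 4 := by
  rw [jc, div_pow, Real.sq_sqrt (by norm_num)]
  norm_num

theorem jc_bounds : 4 / 5 < jc ∧ jc < 1 := by
  have h := jc_sq
  have h0 : 0 ≤ jc := div_nonneg (Real.sqrt_nonneg 3) two_pos.le
  constructor <;> nlinarith

/-- Two unit numbers in one arc of thirty degrees. -/
theorem norm_sub_jc_lt {z : ℂ} (hz : ‖z‖ = 1) (h : |z.arg| < Real.pi / 6) :
    ‖z - (jc : ℂ)‖ < 1 / 2 := by
  have hre : z.re = Real.cos z.arg := by
    have := Complex.norm_mul_cos_arg z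
    rw [hz, one_mul] at this
    exact this.symm
  have hcos : jc < Real.cos z.arg := by
    rw [← Real.cos_abs z.arg, jc, ← Real.cos_pi_div_six]
    exact Real.cos_lt_cos_of_nonneg_of_le_pi_div_two (abs_nonneg _) (by linarith [Real.pi_pos]) h
  have hsq : ‖z - (jc : ℂ)‖ ^ 2 < (1 / 2) ^ 2 := by
    have h1 : z.re ^ 2 + z.im ^ 2 = 1 := by
      have := Complex.sq_norm z
      rw [hz, Complex.normSq_apply] at this
      nlinarith
    rw [Complex.sq_norm, Complex.normSq_apply]
    simp only [Complex.sub_re, Complex.sub_im, Complex.ofReal_re, Complex.ofReal_im, sub_zero]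
    rw [← hre] at hcos
    have := jc_sq
    have := jc_bounds.1
    nlinarith
  exact lt_of_pow_lt_pow_left₀ 2 (by norm_num) hsq

/-- The argument in `[-π, π)`. -/
noncomputable def argLeft (z : ℂ) : ℝ := if z.arg = Real.pi then -Real.pi else z.arg

theorem argLeft_mem (z : ℂ) : -Real.pi ≤ argLeft z ∧ argLeft z < Real.pi := by
  have hpi := Real.pi_pos
  rw [argLeft]
  split_ifs with h
  · constructor <;> linarith
  · exact ⟨(Complex.neg_pi_lt_arg z).le, lt_of_le_of_ne (Complex.arg_le_pi z) h⟩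

theorem exp_argLeft {z : ℂ} (hz : ‖z‖ = 1) : Complex.exp ((argLeft z : ℂ) * Complex.I) = z := by
  have h := Complex.norm_mul_exp_arg_mul_I z
  rw [hz, Complex.ofReal_one, one_mul] at h
  rw [argLeft]
  split_ifs with he
  · rw [he, Complex.exp_pi_mul_I] at h
    rw [Complex.ofReal_neg, neg_mul, Complex.exp_neg, Complex.exp_pi_mul_I, ← h]
    norm_num
  · exact h

/-- The arc of a unit number, among twelve. -/
noncomputable def arcIdx (z : ℂ) : Fin 12 :=
  ⟨⌊(argLeft z + Real.pi) / (Real.pi / 6)⌋₊, by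
    have h := argLeft_mem z
    have hpi := Real.pi_pos
    rw [Nat.floor_lt (div_nonneg (by linarith [h.1]) (by positivity)), div_lt_iff₀ (by positivity)]
    push_cast
    linarith [h.2]⟩

theorem norm_div_sub_jc_lt {z w : ℂ} (hz : ‖z‖ = 1) (hw : ‖w‖ = 1) (h : arcIdx z = arcIdx w) :
    ‖z⁻¹ * w - (jc : ℂ)‖ < 1 / 2 := by
  have hpi := Real.pi_pos
  set a := (argLeft z + Real.pi) / (Real.pi / 6) with ha
  set b := (argLeft w + Real.pi) / (Real.pi / 6) with hb
  have h' : ⌊a⌋₊ = ⌊b⌋₊ := congrArg Fin.val h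
  have a0 : 0 ≤ a := div_nonneg (by linarith [(argLeft_mem z).1]) (by positivity)
  have b0 : 0 ≤ b := div_nonneg (by linarith [(argLeft_mem w).1]) (by positivity)
  have hlt : |b - a| < 1 := by
    have a1 := Nat.floor_le a0
    have a2 := Nat.lt_floor_add_one a
    have b1 := Nat.floor_le b0
    have b2 := Nat.lt_floor_add_one b
    have e : (⌊a⌋₊ : ℝ) = (⌊b⌋₊ : ℝ) := by exact_mod_cast h'
    rw [abs_lt]
    constructor <;> linarith
  have hd : argLeft w - argLeft z = (b - a) * (Real.pi / 6) := by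
    rw [ha, hb]; field_simp; ring
  have habs : |argLeft w - argLeft z| < Real.pi / 6 := by
    rw [hd, abs_mul, abs_of_pos (show (0 : ℝ) < Real.pi / 6 by positivity)]
    exact mul_lt_of_lt_one_left (by positivity) hlt
  have hn : ‖z⁻¹ * w‖ = 1 := by rw [norm_mul, norm_inv, hz, hw]; norm_num
  have hq : z⁻¹ * w = Complex.exp (((argLeft w - argLeft z : ℝ) : ℂ) * Complex.I) := by
    push_cast
    rw [sub_mul, Complex.exp_sub, exp_argLeft hw, exp_argLeft hz, div_eq_inv_mul]
  refine norm_sub_jc_lt hn ?_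
  rw [hq, Complex.arg_exp_mul_I, (toIocMod_eq_self _).mpr]
  · exact habs
  · constructor <;> linarith [(abs_lt.mp habs).1, (abs_lt.mp habs).2]

section Unitary

variable {G : Type u} [Group G] [Finite G] {V : Type v} [NormedAddCommGroup V]
  [InnerProductSpace ℂ V] [FiniteDimensional ℂ V] (U : G →* (V →L[ℂ] V))
  (hU : ∀ g v, ‖U g v‖ = ‖v‖)

theorem U_cancel (g : G) (v : V) : U g⁻¹ (U g v) = v := by
  rw [← ContinuousLinearMap.mul_apply, ← map_mul, inv_mul_cancel, map_one]
  rfl

include hU in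
theorem U_inner (g : G) (v w : V) : ⟪U g v, U g w⟫_ℂ = ⟪v, w⟫_ℂ :=
  LinearIsometry.inner_map_map ⟨(U g).toLinearMap, hU g⟩ v w

/-- The linear characters of a finite abelian subgroup split the space. -/
noncomputable def subEigProj (H : Subgroup G) [Fintype H] (l : IrrCharacter H) : V →L[ℂ] V :=
  (Nat.card H : ℂ)⁻¹ • ∑ h : H, conj ((l : H → ℂ) h) • U (h : G)

variable (H : Subgroup G) [Fintype H] (hH : ∀ x ∈ H, ∀ y ∈ H, x * y = y * x)
include hH

theorem irr_one_of_comm (l : IrrCharacter H) : (l : H → ℂ) 1 = 1 :=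
  (forall_linear_iff_comm.mp fun a b => Subtype.ext (hH a a.2 b b.2)) l

theorem irr_mul_of_comm (l : IrrCharacter H) (a b : H) :
    (l : H → ℂ) (a * b) = (l : H → ℂ) a * (l : H → ℂ) b := by
  obtain ⟨m, hm⟩ := exists_hom_of_degree_one (irr_isCharacter l.2) (irr_one_of_comm H hH l)
  simp [hm]

theorem irr_norm_of_comm (l : IrrCharacter H) (a : H) : ‖(l : H → ℂ) a‖ = 1 := by
  obtain ⟨m, hm⟩ := exists_hom_of_degree_one (irr_isCharacter l.2) (irr_one_of_comm H hH l)
  rw [hm]
  exact Complex.norm_eq_one_of_pow_eq_one (linear_pow_card m a) (orderOf_pos a).ne'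

theorem eigProj_eigen (l : IrrCharacter H) (k : H) (v : V) :
    U (k : G) (subEigProj U H l v) = (l : H → ℂ) k • subEigProj U H l v := by
  simp only [subEigProj, ContinuousLinearMap.smul_apply, map_smul]
  rw [smul_comm]
  congr 1
  rw [ContinuousLinearMap.sum_apply, map_sum, Finset.smul_sum]
  refine Fintype.sum_equiv (Equiv.mulLeft k) _ _ fun h => ?_
  simp only [Equiv.coe_mulLeft, ContinuousLinearMap.smul_apply, map_smul, smul_smul]
  rw [irr_mul_of_comm H hH l, map_mul (starRingEnd ℂ), ← mul_assoc,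
    Complex.mul_conj, Complex.normSq_eq_norm_sq, irr_norm_of_comm H hH l,
    ← ContinuousLinearMap.mul_apply, ← map_mul]
  norm_num

theorem sum_eigProj (v : V) : ∑ l : IrrCharacter H, subEigProj U H l v = v := by
  classical
  simp only [subEigProj, ContinuousLinearMap.smul_apply, ContinuousLinearMap.sum_apply,
    ← Finset.smul_sum]
  rw [Finset.sum_comm]
  simp only [← Finset.sum_smul]
  have key : ∀ h : H, ∑ l : IrrCharacter H, conj ((l : H → ℂ) h) =
      if h = 1 then (Nat.card H : ℂ) else 0 := fun h => by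
    have e := second_orth (G := H) 1 h
    simp only [irr_one_of_comm H hH, one_mul] at e
    rw [e]
    have hiff : IsConj 1 h ↔ h = 1 := isConj_one_right
    split_ifs with h1 h2 h2
    · subst h2
      haveI : Unique {x : H // IsConj 1 x} :=
        ⟨⟨⟨1, IsConj.refl 1⟩⟩, fun x => Subtype.ext (isConj_one_right.mp x.2)⟩
      rw [Nat.card_unique (α := {x : H // IsConj 1 x}), Nat.cast_one, div_one]
    · exact absurd (hiff.mp h1) h2
    · exact absurd (hiff.mpr h2) h1
    · rfl
  simp only [key, ite_smul, zero_smul, Finset.sum_ite_eq', Finset.mem_univ, if_true]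
  rw [OneMemClass.coe_one, map_one, smul_smul,
    inv_mul_cancel₀ (Nat.cast_ne_zero.mpr Nat.card_pos.ne'), one_smul]
  rfl

include hU

theorem eigProj_orth {l m : IrrCharacter H} (hlm : l ≠ m) (v w : V) :
    ⟪subEigProj U H l v, subEigProj U H m w⟫_ℂ = 0 := by
  obtain ⟨k, hk⟩ : ∃ k : H, (l : H → ℂ) k ≠ (m : H → ℂ) k := by
    by_contra h
    push Not at h
    exact hlm (Subtype.ext (funext h))
  have h := U_inner U hU (k : G) (subEigProj U H l v) (subEigProj U H m w)
  rw [eigProj_eigen U H hH, eigProj_eigen U H hH, inner_smul_left, inner_smul_right, ← mul_assoc] at h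
  by_contra hne
  have h1 : conj ((l : H → ℂ) k) * (m : H → ℂ) k = 1 := by
    exact mul_right_cancel₀ hne (by rw [h, one_mul])
  apply hk
  have h2 : (l : H → ℂ) k * conj ((l : H → ℂ) k) = 1 := by
    rw [Complex.mul_conj, Complex.normSq_eq_norm_sq, irr_norm_of_comm H hH l]
    norm_num
  calc (l : H → ℂ) k = (l : H → ℂ) k * (conj ((l : H → ℂ) k) * (m : H → ℂ) k) := by rw [h1, mul_one]
    _ = (m : H → ℂ) k := by rw [← mul_assoc, h2, one_mul]

theorem norm_sum_eigProj (a : IrrCharacter H → ℂ) (v : V) :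
    ‖∑ l, a l • subEigProj U H l v‖ ^ 2 = ∑ l, ‖a l‖ ^ 2 * ‖subEigProj U H l v‖ ^ 2 := by
  classical
  have h : ⟪∑ l, a l • subEigProj U H l v, ∑ l, a l • subEigProj U H l v⟫_ℂ =
      ((∑ l, ‖a l‖ ^ 2 * ‖subEigProj U H l v‖ ^ 2 : ℝ) : ℂ) := by
    rw [sum_inner]
    push_cast
    refine Finset.sum_congr rfl fun l _ => ?_
    rw [inner_sum, Finset.sum_eq_single l]
    · rw [inner_smul_left, inner_smul_right, inner_self_eq_norm_sq_to_K, ← mul_assoc,
        mul_comm (conj (a l)), Complex.mul_conj, Complex.normSq_eq_norm_sq]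
      push_cast
      ring_nf
      rfl
    · intro m _ hm
      rw [inner_smul_left, inner_smul_right, eigProj_orth U hU H hH (Ne.symm hm), mul_zero, mul_zero]
    · simp
  rw [inner_self_eq_norm_sq_to_K] at h
  exact Complex.ofReal_injective (by push_cast; push_cast at h; exact h)

theorem card_eigen_le [DecidablePred fun l : IrrCharacter H => subEigProj U H l ≠ 0] :
    (Finset.univ.filter fun l : IrrCharacter H => subEigProj U H l ≠ 0).card ≤ finrank ℂ V := by
  classical
  set L := Finset.univ.filter fun l : IrrCharacter H => subEigProj U H l ≠ 0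
  have hv : ∀ l : L, ∃ v : V, subEigProj U H (l : IrrCharacter H) v ≠ 0 := fun l => by
    by_contra h
    push Not at h
    exact (Finset.mem_filter.mp l.2).2 (ContinuousLinearMap.ext h)
  choose v hv using hv
  have hli : LinearIndependent ℂ fun l : L => subEigProj U H (l : IrrCharacter H) (v l) :=
    linearIndependent_of_ne_zero_of_inner_eq_zero hv fun i j hij =>
      eigProj_orth U hU H hH (fun e => hij (Subtype.ext e)) _ _
  simpa using hli.fintype_card_le_finrank

omit hU hH

/-- The generators of the abelian normal subgroup. -/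
def IsNearScalar (g : G) : Prop := ‖U g - (jc : ℂ) • (1 : V →L[ℂ] V)‖ < 1 / 2

omit [Fintype H]

include hU in
theorem opNorm_U_le (g : G) : ‖U g‖ ≤ 1 :=
  ContinuousLinearMap.opNorm_le_bound _ zero_le_one fun v => by rw [hU, one_mul]

include hU in
/-- Frobenius: commuting with a conjugate by an element near one. -/
theorem frobenius_commute (hinj : Function.Injective U) {g h : G}
    (hc : Commute g (h * g * h⁻¹)) (hh : ‖U h - 1‖ < Real.sqrt 2) : Commute g h := by
  classical
  set g' := h * g * h⁻¹ with hg'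
  let A : Subgroup G := Subgroup.closure {g, g'}
  haveI : Fintype A := Fintype.ofFinite _
  haveI : IsMulCommutative A := Subgroup.isMulCommutative_closure (by
    rintro x (rfl | rfl) y (rfl | rfl)
    exacts [rfl, hc, hc.symm, rfl])
  have hA : ∀ x ∈ A, ∀ y ∈ A, x * y = y * x := fun x hx y hy =>
    congrArg Subtype.val (IsMulCommutative.is_comm.comm (⟨x, hx⟩ : A) ⟨y, hy⟩)
  let a : A := ⟨g, Subgroup.subset_closure (Set.mem_insert _ _)⟩
  let a' : A := ⟨g', Subgroup.subset_closure (Set.mem_insert_of_mem _ rfl)⟩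
  suffices h0 : g = g' by
    show g * h = h * g
    calc g * h = g' * h := by rw [← h0]
      _ = h * g := by rw [hg']; group
  apply hinj
  ext v
  rw [← sum_eigProj U A hA v, map_sum, map_sum]
  refine Finset.sum_congr rfl fun l _ => ?_
  rw [show U g (subEigProj U A l v) = U (a : G) (subEigProj U A l v) from rfl,
    show U g' (subEigProj U A l v) = U (a' : G) (subEigProj U A l v) from rfl,
    eigProj_eigen U A hA, eigProj_eigen U A hA]
  by_cases hl : (l : A → ℂ) a = (l : A → ℂ) a'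
  · rw [hl]
  suffices hw : subEigProj U A l v = 0 by rw [hw, smul_zero, smul_zero]
  set w := subEigProj U A l v with hw
  set x := U h⁻¹ w with hx
  have hgx : U g x = (l : A → ℂ) a' • x := by
    rw [hx, ← ContinuousLinearMap.mul_apply, ← map_mul,
      show g * h⁻¹ = h⁻¹ * g' by rw [hg']; group, map_mul, ContinuousLinearMap.mul_apply,
      show U g' w = U (a' : G) w from rfl, hw, eigProj_eigen U A hA, map_smul]
  have hgw : U g w = (l : A → ℂ) a • w := eigProj_eigen U A hA l a v
  have horth : ⟪w, x⟫_ℂ = 0 := by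
    have h1 := U_inner U hU g w x
    rw [hgw, hgx, inner_smul_left, inner_smul_right, ← mul_assoc] at h1
    by_contra hne
    have h2 : conj ((l : A → ℂ) a) * (l : A → ℂ) a' = 1 :=
      mul_right_cancel₀ hne (by rw [h1, one_mul])
    apply hl
    have h3 : (l : A → ℂ) a * conj ((l : A → ℂ) a) = 1 := by
      rw [Complex.mul_conj, Complex.normSq_eq_norm_sq, irr_norm_of_comm A hA l]
      norm_num
    calc (l : A → ℂ) a = (l : A → ℂ) a * (conj ((l : A → ℂ) a) * (l : A → ℂ) a') := by
          rw [h2, mul_one]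
      _ = (l : A → ℂ) a' := by rw [← mul_assoc, h3, one_mul]
  have hhx : U h x = w := by
    rw [hx, ← ContinuousLinearMap.mul_apply, ← map_mul, mul_inv_cancel, map_one]; rfl
  by_contra hne
  have hxne : x ≠ 0 := fun e => hne (by rw [← hhx, e, map_zero])
  have h1 : ‖(U h - 1) x‖ ^ 2 = 2 * ‖x‖ ^ 2 := by
    rw [ContinuousLinearMap.sub_apply, hhx, @norm_sub_sq ℂ]
    simp only [ContinuousLinearMap.one_apply, horth, map_zero, mul_zero, sub_zero]
    rw [show ‖w‖ = ‖x‖ by rw [← hhx, hU]]
    ring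
  have h2 := (U h - 1).le_opNorm x
  have h3 : ‖U h - 1‖ ^ 2 < 2 := by
    have := pow_lt_pow_left₀ hh (norm_nonneg _) two_ne_zero
    rwa [Real.sq_sqrt (by norm_num)] at this
  have h4 : ‖(U h - 1) x‖ ^ 2 ≤ ‖U h - 1‖ ^ 2 * ‖x‖ ^ 2 := by
    rw [← mul_pow]; exact pow_le_pow_left₀ (norm_nonneg _) h2 2
  have h5 : 0 < ‖x‖ ^ 2 := by positivity
  nlinarith

include hU in
theorem norm_commutator_le {g h : G} :
    ‖U (g * h * g⁻¹ * h⁻¹) - 1‖ ≤ 2 * ‖U g - (jc : ℂ) • (1 : V →L[ℂ] V)‖ * ‖U h - 1‖ := by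
  set A := U g - (jc : ℂ) • (1 : V →L[ℂ] V) with hA
  set B := U h - 1 with hB
  have e : U (g * h * g⁻¹ * h⁻¹) - 1 = (A * B - B * A) * U (g⁻¹ * h⁻¹) := by
    have e1 : A * B - B * A = U g * U h - U h * U g := by
      rw [hA, hB]
      simp only [mul_sub, sub_mul, mul_one, one_mul, smul_mul_assoc, mul_smul_comm, smul_sub]
      abel
    rw [e1, sub_mul, ← map_mul, ← map_mul, ← map_mul, ← map_mul,
      show g * h * (g⁻¹ * h⁻¹) = g * h * g⁻¹ * h⁻¹ by group,
      show h * g * (g⁻¹ * h⁻¹) = 1 by group, map_one]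
  rw [e]
  refine (norm_mul_le _ _).trans ((mul_le_of_le_one_right (norm_nonneg _) (opNorm_U_le U hU _)).trans ?_)
  refine (norm_sub_le _ _).trans ?_
  have h1 := norm_mul_le A B
  have h2 := norm_mul_le B A
  nlinarith [norm_nonneg A, norm_nonneg B]

include hU in
theorem nearScalar_commute (hinj : Function.Injective U) {g h : G} (hg : IsNearScalar U g)
    (hh : IsNearScalar U h) : Commute g h := by
  classical
  obtain ⟨s, hs0, hs⟩ : ∃ s : ℕ → G, s 0 = h ∧ ∀ k, s (k + 1) = g * s k * g⁻¹ * (s k)⁻¹ :=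
    ⟨fun k => (fun x => g * x * g⁻¹ * x⁻¹)^[k] h, rfl, fun k =>
      Function.iterate_succ_apply' (fun x => g * x * g⁻¹ * x⁻¹) k h⟩
  set t := 2 * ‖U g - (jc : ℂ) • (1 : V →L[ℂ] V)‖ with ht
  have ht1 : t < 1 := by
    have := hg
    rw [IsNearScalar] at this
    linarith
  have ht0 : 0 ≤ t := by positivity
  have hdec : ∀ k, ‖U (s k) - 1‖ ≤ t ^ k * ‖U h - 1‖ := by
    intro k
    induction k with
    | zero => rw [hs0, pow_zero, one_mul]
    | succ k ih =>
      rw [hs, pow_succ' t k, mul_assoc t]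
      exact le_trans (norm_commutator_le U hU (g := g) (h := s k))
        (mul_le_mul_of_nonneg_left ih ht0)
  have hsmall : ∀ k, ‖U (s k) - 1‖ < Real.sqrt 2 := by
    intro k
    refine lt_of_le_of_lt ((hdec k).trans (mul_le_of_le_one_left (norm_nonneg _)
      (pow_le_one₀ ht0 ht1.le))) ?_
    have h1 : ‖((jc : ℂ) - 1) • (1 : V →L[ℂ] V)‖ ≤ 1 - jc := by
      have hn : ‖((jc : ℂ) - 1)‖ = 1 - jc := by
        rw [← Complex.ofReal_one, ← Complex.ofReal_sub, Complex.norm_real, Real.norm_eq_abs,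
          abs_of_nonpos (by linarith [jc_bounds.2])]
        ring
      refine (ContinuousLinearMap.opNorm_smul_le _ _).trans ?_
      rw [hn]
      exact mul_le_of_le_one_right (by linarith [jc_bounds.2]) (ContinuousLinearMap.norm_id_le)
    have h2 : U h - 1 = (U h - (jc : ℂ) • (1 : V →L[ℂ] V)) + ((jc : ℂ) - 1) • (1 : V →L[ℂ] V) := by
      rw [sub_smul, one_smul]; abel
    have h3 : (1 : ℝ) ≤ Real.sqrt 2 := Real.one_le_sqrt.mpr one_le_two
    rw [h2]
    refine lt_of_le_of_lt (norm_add_le _ _) ?_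
    have h4 := hh
    rw [IsNearScalar] at h4
    linarith [jc_bounds.1]
  obtain ⟨k, hk⟩ : ∃ k, s k = 1 := by
    by_contra hne
    push Not at hne
    haveI : Fintype G := Fintype.ofFinite G
    set F := (Finset.univ.filter fun x : G => x ≠ 1) with hF
    obtain ⟨m, hm, hmin⟩ := F.exists_min_image (fun x => ‖U x - 1‖)
      ⟨s 0, Finset.mem_filter.mpr ⟨Finset.mem_univ _, hne 0⟩⟩
    have hpos : 0 < ‖U m - 1‖ := norm_pos_iff.mpr fun e =>
      (Finset.mem_filter.mp hm).2 (hinj (by rw [map_one]; exact sub_eq_zero.mp e))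
    have hb : (0:ℝ) < ‖U h - 1‖ + 1 := by positivity
    obtain ⟨k, hk⟩ := exists_pow_lt_of_lt_one (div_pos hpos hb) ht1
    have h5 := (hmin (s k) (Finset.mem_filter.mpr ⟨Finset.mem_univ _, hne k⟩)).trans (hdec k)
    rw [lt_div_iff₀ hb] at hk
    have : 0 ≤ t ^ k := pow_nonneg ht0 k
    nlinarith
  have hdown : ∀ j, j ≤ k → Commute g (s j) := by
    intro j hj
    induction hj using Nat.decreasingInduction with
    | self => rw [hk]; exact Commute.one_right g
    | of_succ j hj ih =>
      refine frobenius_commute U hU hinj ?_ (hsmall j)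
      rw [hs] at ih
      have e : s j * g * (s j)⁻¹ = (g * s j * g⁻¹ * (s j)⁻¹)⁻¹ * g := by group
      rw [e]
      exact ih.inv_right.mul_right (Commute.refl g)
  exact hs0 ▸ hdown 0 (Nat.zero_le _)

include hU in
theorem nearScalar_conj {g x : G} (hg : IsNearScalar U g) : IsNearScalar U (x * g * x⁻¹) := by
  have e : U (x * g * x⁻¹) - (jc : ℂ) • (1 : V →L[ℂ] V) =
      U x * (U g - (jc : ℂ) • (1 : V →L[ℂ] V)) * U x⁻¹ := by
    simp only [mul_sub, sub_mul, ← map_mul, mul_smul_comm, smul_mul_assoc, mul_one]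
    rw [mul_inv_cancel, map_one]
  rw [IsNearScalar, e]
  refine lt_of_le_of_lt ((norm_mul_le _ _).trans ((mul_le_of_le_one_right (norm_nonneg _)
    (opNorm_U_le U hU _)).trans ((norm_mul_le _ _).trans
      (mul_le_of_le_one_left (norm_nonneg _) (opNorm_U_le U hU _))))) hg

include hU in
/-- An abelian normal subgroup of bounded index in every abelian subgroup. -/
theorem exists_abelian_normal (hinj : Function.Injective U) :
    ∃ A : Subgroup G, A.Normal ∧ (∀ x ∈ A, ∀ y ∈ A, x * y = y * x) ∧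
      ∀ H : Subgroup G, (∀ x ∈ H, ∀ y ∈ H, x * y = y * x) →
        (A.subgroupOf H).index ≤ 12 ^ finrank ℂ V := by
  classical
  let A := Subgroup.closure {g : G | IsNearScalar U g}
  refine ⟨A, ⟨fun n hn x => ?_⟩, ?_, fun H hH => ?_⟩
  · have hmap : A.map (MulAut.conj x).toMonoidHom ≤ A := by
      rw [MonoidHom.map_closure]
      refine Subgroup.closure_mono ?_
      rintro _ ⟨g, hg, rfl⟩
      exact nearScalar_conj U hU hg
    exact hmap ⟨n, hn, rfl⟩
  · haveI : IsMulCommutative A := Subgroup.isMulCommutative_closure fun x hx y hy =>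
      nearScalar_commute U hU hinj hx hy
    exact fun x hx y hy => congrArg Subtype.val (IsMulCommutative.is_comm.comm (⟨x, hx⟩ : A) ⟨y, hy⟩)
  haveI : Fintype H := Fintype.ofFinite _
  set L := Finset.univ.filter fun l : IrrCharacter H => subEigProj U H l ≠ 0
  have hlabel : ∀ a b : H, (∀ l : L, arcIdx ((l.1 : H → ℂ) a) = arcIdx ((l.1 : H → ℂ) b)) →
      (a⁻¹ * b : H) ∈ A.subgroupOf H := by
    intro a b hab
    refine Subgroup.mem_subgroupOf.mpr (Subgroup.subset_closure ?_)
    show IsNearScalar U _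
    have hnorm : ∀ (l : IrrCharacter H), l ∈ L → ‖(l : H → ℂ) (a⁻¹ * b) - (jc : ℂ)‖ < 1 / 2 := by
      intro l hl
      have h1 := irr_mul_of_comm H hH l a (a⁻¹ * b)
      rw [mul_inv_cancel_left] at h1
      have ha0 : (l : H → ℂ) a ≠ 0 := fun e => by simpa [e] using irr_norm_of_comm H hH l a
      rw [show (l : H → ℂ) (a⁻¹ * b) = ((l : H → ℂ) a)⁻¹ * (l : H → ℂ) b by
        rw [h1, inv_mul_cancel_left₀ ha0]]
      exact norm_div_sub_jc_lt (irr_norm_of_comm H hH l a) (irr_norm_of_comm H hH l b) (hab ⟨l, hl⟩)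
    -- the largest deviation
    obtain ⟨r, hr0, hr1, hr⟩ : ∃ r : ℝ, 0 ≤ r ∧ r < 1 / 2 ∧
        ∀ l ∈ L, ‖(l : H → ℂ) (a⁻¹ * b) - (jc : ℂ)‖ ≤ r := by
      rcases L.eq_empty_or_nonempty with hL | hL
      · exact ⟨0, le_rfl, by norm_num, by simp [hL]⟩
      · obtain ⟨l, hl, hmax⟩ := L.exists_max_image
          (fun l => ‖(l : H → ℂ) (a⁻¹ * b) - (jc : ℂ)‖) hL
        exact ⟨_, norm_nonneg _, hnorm l hl, hmax⟩
    refine lt_of_le_of_lt (ContinuousLinearMap.opNorm_le_bound _ hr0 fun v => ?_) hr1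
    refine le_of_pow_le_pow_left₀ two_ne_zero (by positivity) ?_
    have e : (U ((a⁻¹ * b : H) : G) - (jc : ℂ) • (1 : V →L[ℂ] V)) v =
        ∑ l : IrrCharacter H, ((l : H → ℂ) (a⁻¹ * b) - (jc : ℂ)) • subEigProj U H l v := by
      conv_lhs => rw [ContinuousLinearMap.sub_apply, ContinuousLinearMap.smul_apply,
        ContinuousLinearMap.one_apply, ← sum_eigProj U H hH v]
      simp only [map_sum, eigProj_eigen U H hH, Finset.smul_sum, sub_smul, Finset.sum_sub_distrib]
    have e2 := norm_sum_eigProj U hU H hH (fun _ => 1) v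
    simp only [one_smul, sum_eigProj U H hH, norm_one, one_pow, one_mul] at e2
    rw [e, norm_sum_eigProj U hU H hH, mul_pow, e2, Finset.mul_sum]
    refine Finset.sum_le_sum fun l _ => ?_
    by_cases hl : l ∈ L
    · exact mul_le_mul_of_nonneg_right (pow_le_pow_left₀ (norm_nonneg _) (hr l hl) 2) (sq_nonneg _)
    · have : subEigProj U H l = 0 := by simpa [L] using hl
      simp [this]
  let lab : H ⧸ A.subgroupOf H → (L → Fin 12) := fun q l => arcIdx ((l.1 : H → ℂ) q.out)
  have hlab : Function.Injective lab := by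
    intro q q' hq
    rw [← Quotient.out_eq q, ← Quotient.out_eq q']
    exact QuotientGroup.eq.mpr (hlabel _ _ (congrFun hq))
  calc (A.subgroupOf H).index = Nat.card (H ⧸ A.subgroupOf H) := rfl
    _ ≤ Nat.card (L → Fin 12) := Nat.card_le_card_of_injective lab hlab
    _ = 12 ^ L.card := by simp
    _ ≤ 12 ^ finrank ℂ V := Nat.pow_le_pow_right (by norm_num) (card_eigen_le U hU H hH)

end Unitary

end Cfsg.Agent.Char

namespace Cfsg.Agent.Char

open Cfsg Module

theorem exists_abelian_normal_aux {G : Type*} [Group G] [Finite G] {m : ℕ}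
    (ρ : Representation ℂ G (Fin m → ℂ)) (hinj : ∀ g, ρ g = 1 → g = 1)
    {V : Type*} [NormedAddCommGroup V] [InnerProductSpace ℂ V] [FiniteDimensional ℂ V]
    (e : (Fin m → ℂ) ≃ₗ[ℂ] V) (hnorm : ∀ g v, ‖e (ρ g v)‖ = ‖e v‖) :
    ∃ A : Subgroup G, A.Normal ∧ (∀ x ∈ A, ∀ y ∈ A, x * y = y * x) ∧
      ∀ H : Subgroup G, (∀ x ∈ H, ∀ y ∈ H, x * y = y * x) → (A.subgroupOf H).index ≤ 12 ^ m := by
  let U : G →* (V →L[ℂ] V) :=
    { toFun := fun g => LinearMap.toContinuousLinearMap (e.toLinearMap ∘ₗ (ρ g) ∘ₗ e.symm.toLinearMap)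
      map_one' := by ext1 x; simp
      map_mul' := fun a b => by ext1 x; simp }
  have hU : ∀ g x, ‖U g x‖ = ‖x‖ := by
    intro g x
    obtain ⟨v, rfl⟩ := e.surjective x
    show ‖e (ρ g (e.symm (e v)))‖ = ‖e v‖
    rw [e.symm_apply_apply, hnorm]
  have hi : Function.Injective U := by
    intro a b h
    have h1 : ∀ v, ρ a v = ρ b v := fun v => by
      have := congrArg (fun F : V →L[ℂ] V => e.symm (F (e v))) h
      simpa [U] using this
    have : ρ (b⁻¹ * a) = 1 := by
      refine LinearMap.ext fun v => ?_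
      rw [map_mul, Module.End.mul_apply, h1, ← Module.End.mul_apply, ← map_mul, inv_mul_cancel,
        map_one]
    exact (inv_mul_eq_one.mp (hinj _ this)).symm
  obtain ⟨A, h1, h2, h3⟩ := exists_abelian_normal U hU hi
  refine ⟨A, h1, h2, fun H hH => (h3 H hH).trans_eq ?_⟩
  rw [← e.finrank_eq, Module.finrank_fintype_fun_eq_card, Fintype.card_fin]

/-- The diagonal embedding making a representation unitary. -/
noncomputable def unitEmb {G : Type*} [Group G] [Fintype G] {m : ℕ}
    (ρ : Representation ℂ G (Fin m → ℂ)) :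
    (Fin m → ℂ) →ₗ[ℂ] EuclideanSpace ℂ (G × Fin m) where
  toFun v := WithLp.toLp 2 fun x => ρ x.1 v x.2
  map_add' v w := by ext x; simp
  map_smul' c v := by ext x; simp

theorem unitEmb_injective {G : Type*} [Group G] [Fintype G] {m : ℕ}
    (ρ : Representation ℂ G (Fin m → ℂ)) : Function.Injective (unitEmb ρ) := by
  intro v w h
  funext i
  have := congrFun (congrArg WithLp.ofLp h) (1, i)
  simpa [unitEmb] using this

theorem norm_unitEmb {G : Type*} [Group G] [Fintype G] {m : ℕ}
    (ρ : Representation ℂ G (Fin m → ℂ)) (g : G) (v : Fin m → ℂ) :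
    ‖unitEmb ρ (ρ g v)‖ = ‖unitEmb ρ v‖ := by
  rw [EuclideanSpace.norm_eq, EuclideanSpace.norm_eq]
  congr 1
  refine Fintype.sum_equiv ((Equiv.mulRight g).prodCongr (Equiv.refl (Fin m))) _ _ fun x => ?_
  simp [unitEmb]

/-- A faithful representation is unitary for a suitable norm. -/
theorem exists_abelian_normal_of_faithful {G : Type*} [Group G] [Finite G] {m : ℕ}
    (ρ : Representation ℂ G (Fin m → ℂ)) (hinj : ∀ g, ρ g = 1 → g = 1) :
    ∃ A : Subgroup G, A.Normal ∧ (∀ x ∈ A, ∀ y ∈ A, x * y = y * x) ∧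
      ∀ H : Subgroup G, (∀ x ∈ H, ∀ y ∈ H, x * y = y * x) → (A.subgroupOf H).index ≤ 12 ^ m := by
  letI : Fintype G := Fintype.ofFinite G
  exact exists_abelian_normal_aux ρ hinj (V := LinearMap.range (unitEmb ρ))
    (LinearEquiv.ofInjective (unitEmb ρ) (unitEmb_injective ρ))
    (fun g v => by rw [Submodule.coe_norm, Submodule.coe_norm, LinearEquiv.ofInjective_apply,
      LinearEquiv.ofInjective_apply, norm_unitEmb])

end Cfsg.Agent.Char
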