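import Cfsg.Agent.Lib.Char.GaloisOrbit
import Cfsg.Agent.Lib.Char.TwoDegreesPrime
import Cfsg.Agent.Lib.Char.MonomialNilp
import Cfsg.Agent.Lib.Char.CliffordInd

/-!
# A bound for the order of a p-group with a faithful character of given degree and field
-/

set_option autoImplicit false
open Cfsg
open scoped ComplexConjugate

namespace Cfsg.Agent.Char.PBound

open TwoDeg

universe u

variable {p k : ℕ} [Fact p.Prime] {P : Type u} [Group P] [Fintype P]

theorem mem_kerC_iff (χ : IrrCharacter P) (g : P) : g ∈ kerC χ ↔ (χ : P → ℂ) g = (χ : P → ℂ) 1 := by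
  refine ⟨fun h => ?_, mem_kerC_of_eq χ⟩
  have := h 1
  rwa [mul_one] at this

theorem exists_scalar (χ : IrrCharacter P) {z : P} (hz : z ∈ cz χ) :
    ∃ ω : ℂ, ω ≠ 0 ∧ ∀ i : ℕ, (χ : P → ℂ) (z ^ i) = ω ^ i * (χ : P → ℂ) 1 := by
  obtain ⟨m, σ, hirr, hσ⟩ := χ.2
  have hn : (deg (χ : P → ℂ) : ℝ) = (Module.finrank ℂ (Fin m → ℂ) : ℝ) := by
    have h3 := char_one_eq_deg (irr_isCharacter χ.2)
    rw [← congrFun hσ, Representation.char_one] at h3
    exact_mod_cast h3.symm
  have h2 := (mem_cz_iff χ z).1 hz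
  rw [hn, ← congrFun hσ] at h2
  obtain ⟨ω, hω⟩ := (eq_scalar_iff σ z).1 h2
  have hval : ∀ i : ℕ, (χ : P → ℂ) (z ^ i) = ω ^ i * (χ : P → ℂ) 1 := fun i => by
    rw [← congrFun hσ, ← congrFun hσ]
    show LinearMap.trace ℂ _ (σ _) = ω ^ i * LinearMap.trace ℂ _ (σ 1)
    rw [map_pow, hω, smul_pow, map_smul, map_one]
    simp [← Module.End.one_eq_id]
  refine ⟨ω, fun h0 => irr_one_ne_zero χ.2 ?_, hval⟩
  have h1 := hval (orderOf z)
  rwa [pow_orderOf_eq_one, h0, zero_pow (orderOf_pos z).ne', zero_mul] at h1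

/-- A stabilizer fixing a root of unity of order `p ^ b` has index divisible by `φ (p ^ b)`. -/
theorem totient_dvd_index (S : Subgroup (ZMod (p ^ k))ˣ) {b : ℕ} (hb : b ≤ k) {ω : ℂ}
    (hω : orderOf ω = p ^ b) (hS : ∀ u ∈ S, ω ^ (u : ZMod (p ^ k)).val = ω) :
    (p ^ b).totient ∣ S.index := by
  haveI : NeZero (p ^ k) := ⟨pow_ne_zero _ (Fact.out : p.Prime).ne_zero⟩
  haveI : NeZero (p ^ b) := ⟨pow_ne_zero _ (Fact.out : p.Prime).ne_zero⟩
  have hdvd : p ^ b ∣ p ^ k := pow_dvd_pow p hb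
  have hω0 : ω ≠ 0 := fun h => (pow_ne_zero b (Fact.out : p.Prime).ne_zero) (by
    rw [← hω, h, orderOf_zero])
  have hle : S ≤ (ZMod.unitsMap hdvd).ker := fun u hu => by
    rw [MonoidHom.mem_ker]
    refine Units.ext ?_
    rw [ZMod.unitsMap_val, Units.val_one]
    have h1 : orderOf (Units.mk0 ω hω0) = p ^ b := by rw [← orderOf_units]; exact hω
    have h2 : Units.mk0 ω hω0 ^ (u : ZMod (p ^ k)).val = Units.mk0 ω hω0 ^ 1 :=
      Units.ext (by rw [Units.val_pow_eq_pow_val, Units.val_pow_eq_pow_val, pow_one]; exact hS u hu)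
    rw [pow_eq_pow_iff_modEq, h1] at h2
    rw [← ZMod.natCast_eq_natCast_iff] at h2
    rw [Nat.cast_one, ZMod.natCast_val] at h2
    exact h2
  have h3 := Subgroup.index_dvd_of_le hle
  rwa [Subgroup.index_ker, MonoidHom.range_eq_top.2 (ZMod.unitsMap_surjective hdvd), Subgroup.card_top,
    Nat.card_eq_fintype_card, ZMod.card_units_eq_totient] at h3

theorem exists_orderOf_prime_scalar (hP : IsPGroup p P) (χ : IrrCharacter P) (hne : kerC χ ≠ ⊤) :
    ∃ z ∈ cz χ, z ∉ kerC χ ∧ z ^ p ∈ kerC χ := by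
  haveI : Nontrivial (P ⧸ kerC χ) := QuotientGroup.nontrivial_iff.2 hne
  haveI : Nontrivial (Subgroup.center (P ⧸ kerC χ)) := (hP.to_quotient (kerC χ)).center_nontrivial
  obtain ⟨j, hj0, hj⟩ := ((hP.to_quotient (kerC χ)).to_subgroup
    (Subgroup.center (P ⧸ kerC χ))).nontrivial_iff_card.1 inferInstance
  obtain ⟨q, hq⟩ := exists_prime_orderOf_dvd_card' (G := Subgroup.center (P ⧸ kerC χ)) p
    (hj ▸ dvd_pow_self p hj0.ne')
  obtain ⟨z, hz⟩ := QuotientGroup.mk'_surjective (kerC χ) (q : P ⧸ kerC χ)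
  refine ⟨z, ?_, fun h => ?_, ?_⟩
  · rw [cz, Subgroup.mem_comap, hz]; exact q.2
  · have h1 : (q : P ⧸ kerC χ) = 1 := by rw [← hz]; exact (QuotientGroup.eq_one_iff z).2 h
    have h2 : q = 1 := Subtype.ext h1
    rw [h2, orderOf_one] at hq
    exact (Fact.out : p.Prime).ne_one hq.symm
  · rw [← QuotientGroup.eq_one_iff, QuotientGroup.mk_pow]
    rw [show (QuotientGroup.mk z : P ⧸ kerC χ) = (q : P ⧸ kerC χ) from hz, ← Subgroup.coe_pow]
    have h3 := pow_orderOf_eq_one q
    rw [hq] at h3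
    rw [h3, Subgroup.coe_one]

theorem sub_one_dvd_index (hP : IsPGroup p P) (hk : 1 ≤ k) (hexp : ∀ g : P, g ^ p ^ k = 1)
    (χ : IrrCharacter P) (hne : kerC χ ≠ ⊤) :
    p - 1 ∣ (galStab hexp (χ : P → ℂ)).index := by
  haveI : NeZero (p ^ k) := ⟨pow_ne_zero _ (Fact.out : p.Prime).ne_zero⟩
  obtain ⟨z, hz, hz1, hzp⟩ := exists_orderOf_prime_scalar hP χ hne
  obtain ⟨ω, -, hω⟩ := exists_scalar χ hz
  have h10 := irr_one_ne_zero χ.2
  have hωp : ω ^ p = 1 := mul_right_cancel₀ h10 (by rw [← hω, (mem_kerC_iff χ _).1 hzp, one_mul])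
  have hω1 : ω ≠ 1 := fun h => hz1 (mem_kerC_of_eq χ (by
    have := hω 1; rwa [pow_one, h, one_pow, one_mul] at this))
  have h1 := totient_dvd_index (galStab hexp (χ : P → ℂ)) hk (b := 1)
    (by rw [pow_one]; exact orderOf_eq_prime hωp hω1) (fun u hu => mul_right_cancel₀ h10 (by
      have h2 := congrFun (mem_galStab.1 hu) z
      simp only [gal, hω] at h2
      have h3 := hω 1
      rw [pow_one, pow_one] at h3
      rw [h2, h3]))
  rwa [pow_one, Nat.totient_prime (Fact.out : p.Prime)] at h1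

/-- Every stabilizer of a nonprincipal character has order a power of `p`. -/
theorem relIndex_cases (hP : IsPGroup p P) (hk : 1 ≤ k) (hexp : ∀ g : P, g ^ p ^ k = 1)
    (χ : IrrCharacter P) (hne : kerC χ ≠ ⊤) :
    IsPGroup p (galStab hexp (χ : P → ℂ)) := by
  haveI : NeZero (p ^ k) := ⟨pow_ne_zero _ (Fact.out : p.Prime).ne_zero⟩
  obtain ⟨c, hc⟩ := sub_one_dvd_index hP hk hexp χ hne
  have h1 := (galStab hexp (χ : P → ℂ)).card_mul_index
  rw [hc, Nat.card_eq_fintype_card (α := (ZMod (p ^ k))ˣ), ZMod.card_units_eq_totient,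
    Nat.totient_prime_pow (Fact.out : p.Prime) hk] at h1
  have hp1 : 0 < p - 1 := by have := (Fact.out : p.Prime).two_le; omega
  have h2 : Nat.card (galStab hexp (χ : P → ℂ)) * c = p ^ (k - 1) :=
    Nat.eq_of_mul_eq_mul_right hp1 (by rw [mul_assoc, mul_comm c]; exact h1)
  obtain ⟨j, -, hj⟩ := (Nat.dvd_prime_pow (Fact.out : p.Prime)).1 (Dvd.intro _ h2)
  exact IsPGroup.of_card hj

theorem kerC_gal (hexp : ∀ g : P, g ^ p ^ k = 1) (θ θ' : IrrCharacter P) (u : (ZMod (p ^ k))ˣ)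
    (h : (θ' : P → ℂ) = gal u (θ : P → ℂ)) : kerC θ' = kerC θ := by
  haveI : NeZero (p ^ k) := ⟨pow_ne_zero _ (Fact.out : p.Prime).ne_zero⟩
  ext g
  rw [mem_kerC_iff, mem_kerC_iff, h]
  simp only [gal, one_pow]
  refine ⟨fun h1 => ?_, fun h1 => (mem_kerC_iff θ _).1 (pow_mem ((mem_kerC_iff θ g).2 h1) _)⟩
  obtain ⟨j, hj⟩ := exists_pow_eq_self_of_coprime (x := g) (n := (u : ZMod (p ^ k)).val)
    ((val_coprime u).coprime_dvd_right (orderOf_dvd_of_pow_eq_one (hexp g)))
  rw [← mem_kerC_iff] at h1 ⊢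
  rw [← hj]
  exact pow_mem h1 j

theorem kerC_comp_conj (H : Subgroup P) [H.Normal] [Fintype H] (θ : IrrCharacter H) (g : P) (x : H) :
    x ∈ kerC (irrComp (MulAut.conjNormal g) θ) ↔ MulAut.conjNormal g x ∈ kerC θ := by
  rw [mem_kerC_iff, mem_kerC_iff, irrComp_apply, irrComp_apply, map_one]

theorem linear_case (hP : IsPGroup p P) (hexp : ∀ g : P, g ^ p ^ k = 1) (χ : IrrCharacter P)
    (h1 : deg (χ : P → ℂ) = 1) {b t : ℕ} (hb : (kerC χ).index = p ^ b)
    (ht : (galStab hexp (χ : P → ℂ)).index = (p - 1) * p ^ t) :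
    (p - 1) * b ≤ (p - 1) * (t + 1) := by
  haveI : NeZero (p ^ k) := ⟨pow_ne_zero _ (Fact.out : p.Prime).ne_zero⟩
  rcases Nat.eq_zero_or_pos b with rfl | hb0
  · simp
  have hp := (Fact.out : p.Prime)
  obtain ⟨l, hl⟩ := exists_hom_of_degree_one (irr_isCharacter χ.2)
    (by rw [char_one_eq_deg (irr_isCharacter χ.2), h1, Nat.cast_one])
  have hker : l.ker = kerC χ := by
    ext g
    rw [mem_kerC_iff, congrFun hl, congrFun hl, map_one, MonoidHom.mem_ker, Units.val_inj]
  haveI : Finite l.range := inferInstance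
  obtain ⟨⟨w, g₀, rfl⟩, hw⟩ := IsCyclic.exists_generator (α := l.range)
  have hord : orderOf (l g₀) = p ^ b := by
    rw [← hb, ← hker, Subgroup.index_ker, ← orderOf_eq_card_of_forall_mem_zpowers hw,
      ← Subgroup.orderOf_coe]
  have hbk : b ≤ k := by
    have h2 : p ^ b ∣ p ^ k := hord ▸ (orderOf_map_dvd l g₀).trans (orderOf_dvd_of_pow_eq_one (hexp g₀))
    exact (Nat.pow_dvd_pow_iff_le_right hp.one_lt).1 h2
  have h3 := totient_dvd_index (galStab hexp (χ : P → ℂ)) hbk (ω := (l g₀ : ℂ))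
    (by rw [orderOf_units]; exact hord) (fun u hu => by
      have h2 := congrFun (mem_galStab.1 hu) g₀
      simp only [gal, congrFun hl, map_pow, Units.val_pow_eq_pow_val] at h2
      exact h2)
  rw [Nat.totient_prime_pow hp hb0, ht, mul_comm] at h3
  have hp1 : 0 < p - 1 := by have := hp.two_le; omega
  have h4 := (Nat.pow_dvd_pow_iff_le_right hp.one_lt).1 (Nat.dvd_of_mul_dvd_mul_left hp1 h3)
  exact Nat.mul_le_mul_left _ (by omega)

theorem exists_index_prime (hP : IsPGroup p P) (χ : IrrCharacter P) (h1 : deg (χ : P → ℂ) ≠ 1) :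
    ∃ (H : Subgroup P) (_ : H.Normal) (θ : IrrCharacter H),
      H.index = p ∧ (χ : P → ℂ) = indFun H (θ : H → ℂ) := by
  classical
  haveI := hP.isNilpotent
  obtain ⟨A, l, hA⟩ := monomial_of_nilpotent _ P rfl (χ : P → ℂ) χ.2
  have hAtop : A ≠ ⊤ := by
    rintro rfl
    have h2 := congrFun hA 1
    rw [indFun_one, map_one, Subgroup.index_top, char_one_eq_deg (irr_isCharacter χ.2)] at h2
    exact h1 (by simpa using h2)
  obtain ⟨H, hH, hAH⟩ := (eq_top_or_exists_le_coatom A).resolve_left hAtop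
  have hHn : H.Normal := Subgroup.NormalizerCondition.normal_of_coatom H Group.normalizerCondition_of_isNilpotent hH
  haveI := hHn
  have hidx : H.index = p := by
    obtain ⟨j, hj⟩ := IsPGroup.iff_card.1 (hP.to_subgroup H)
    obtain ⟨i, hi⟩ := IsPGroup.iff_card.1 hP
    have hlt : j < i := by
      by_contra hcon
      refine hH.1 (Subgroup.eq_top_of_le_card H ?_)
      rw [hi, hj]
      exact Nat.pow_le_pow_right (Fact.out : p.Prime).pos (not_lt.1 hcon)
    obtain ⟨K, hK, hHK⟩ := Sylow.exists_subgroup_card_pow_succ (p := p) (n := j)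
      (hi ▸ pow_dvd_pow p hlt) hj
    have hKtop : K = ⊤ := hH.2 K (lt_of_le_of_ne hHK fun he => by
      rw [← he, hj] at hK
      exact absurd (Nat.pow_right_injective (Fact.out : p.Prime).two_le hK) (by omega))
    rw [hKtop, Subgroup.card_top] at hK
    have h3 := H.card_mul_index
    rw [hj, hK, pow_succ] at h3
    exact Nat.eq_of_mul_eq_mul_left (pow_pos (Fact.out : p.Prime).pos j) h3
  haveI := Fintype.ofFinite H
  set θ' : H → ℂ := indFun (A.subgroupOf H) (fun x => (l ⟨(x : H), x.2⟩ : ℂ)) with hθ'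
  have hlin : IsCharacter (A.subgroupOf H) (fun x => (l ⟨(x : H), x.2⟩ : ℂ)) :=
    isCharacter_comp (Subgroup.subgroupOfEquivOfLe hAH).toMonoidHom (isCharacter_linear l)
  have hθc : IsCharacter H θ' := isCharacter_indFun _ hlin
  have hind : indFun H θ' = (χ : P → ℂ) := by
    rw [hA, hθ']
    exact indFun_trans A H hAH (fun x => (l x : ℂ))
  obtain ⟨m, hm⟩ := exists_decomposition hθc
  have h11 : classInner (indFun H θ') (χ : P → ℂ) = 1 := by rw [hind, irrC_orth, if_pos rfl]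
  rw [hm, indFun_sum, classInner_sum_left] at h11
  obtain ⟨ψ, -, hψ⟩ := Finset.exists_ne_zero_of_sum_ne_zero (h11 ▸ one_ne_zero)
  have hψ' : classInner (indFun H (ψ : H → ℂ)) (χ : P → ℂ) ≠ 0 ∧ m ψ ≠ 0 := by
    rw [← Nat.cast_smul_eq_nsmul ℂ, indFun_smul, classInner_smul_left] at hψ
    obtain ⟨h2, h3⟩ := mul_ne_zero_iff.1 hψ
    exact ⟨h3, by exact_mod_cast h2⟩
  refine ⟨H, hHn, ψ, hidx, (eq_of_inner_ne_zero_of_deg (isCharacter_indFun H (irr_isCharacter ψ.2)) χ
    hψ'.1 ?_).symm⟩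
  -- degrees
  obtain ⟨c, hc⟩ := charOne_eq_natCast (isCharacter_indFun H (irr_isCharacter ψ.2))
  obtain ⟨e, he⟩ := charOne_eq_natCast (irr_isCharacter χ.2)
  have hle : e ≤ c := by
    have h2 := degree_le_of_classInner_ne_zero (isCharacter_indFun H (irr_isCharacter ψ.2)) χ hψ'.1
    rw [hc, he, Complex.natCast_re, Complex.natCast_re] at h2
    exact_mod_cast h2
  have hge : c ≤ e := by
    obtain ⟨a, ha⟩ := charOne_eq_natCast (irr_isCharacter ψ.2)
    obtain ⟨a', ha'⟩ := charOne_eq_natCast hθc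
    have h2 : a ≤ a' := by
      have h3 := congrFun hm 1
      rw [ha', Finset.sum_apply] at h3
      choose d hd using fun φ : IrrCharacter H => charOne_eq_natCast (irr_isCharacter φ.2)
      simp only [Pi.smul_apply, hd, nsmul_eq_mul] at h3
      have h4 : a' = ∑ φ, m φ * d φ := by exact_mod_cast h3
      have h5 : a = d ψ := by exact_mod_cast ha.symm.trans (hd ψ)
      rw [h4, h5]
      exact le_trans (Nat.le_mul_of_pos_left _ (Nat.pos_of_ne_zero hψ'.2))
        (Finset.single_le_sum (f := fun φ => m φ * d φ) (fun _ _ => Nat.zero_le _) (Finset.mem_univ ψ))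
    have h6 : c = H.index * a := by
      have := indFun_one H (ψ : H → ℂ); rw [hc, ha] at this; exact_mod_cast this
    have h7 : e = H.index * a' := by
      have := congrFun hind 1; rw [indFun_one, he, ha'] at this; exact_mod_cast this.symm
    rw [h6, h7]
    exact Nat.mul_le_mul_left _ h2
  rw [hc, he, le_antisymm hle hge]

theorem step_split (hp2 : 2 ≤ p) {b b' t f g : ℕ} (hf : f = p * g)
    (hb : b ≤ b' * p + 1) (ih : (p - 1) * b' ≤ (g - 1) + (p - 1) * (t + 1) * g) (hg : 1 ≤ g) :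
    (p - 1) * b ≤ (f - 1) + (p - 1) * (t + 1) * f := by
  subst hf
  obtain ⟨q, rfl⟩ : ∃ q, p = q + 1 := ⟨p - 1, by omega⟩
  obtain ⟨h, rfl⟩ : ∃ h, g = h + 1 := ⟨g - 1, by omega⟩
  rw [Nat.add_sub_cancel] at ih ⊢
  rw [Nat.add_sub_cancel] at ih
  have h1 : ((q + 1) * (h + 1)) = ((q + 1) * h + q) + 1 := by ring
  rw [h1, Nat.add_sub_cancel, ← h1]
  nlinarith [Nat.mul_le_mul_left q hb, Nat.mul_le_mul_left (q + 1) ih]

theorem step_fused (hp2 : 2 ≤ p) {b b' t f g : ℕ} (hf : f = p * g)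
    (hb : b ≤ b' + 1) (ih : (p - 1) * b' ≤ (g - 1) + (p - 1) * (t + 1 + 1) * g) (hg : 1 ≤ g) :
    (p - 1) * b ≤ (f - 1) + (p - 1) * (t + 1) * f := by
  subst hf
  obtain ⟨q, rfl⟩ : ∃ q, p = q + 1 := ⟨p - 1, by omega⟩
  obtain ⟨h, rfl⟩ : ∃ h, g = h + 1 := ⟨g - 1, by omega⟩
  rw [Nat.add_sub_cancel] at ih ⊢
  rw [Nat.add_sub_cancel] at ih
  have h1 : ((q + 1) * (h + 1)) = ((q + 1) * h + q) + 1 := by ring
  rw [h1, Nat.add_sub_cancel, ← h1]
  have hq : q ≤ q * q := Nat.le_mul_of_pos_left q (by omega)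
  nlinarith [Nat.mul_le_mul_left q hb, ih, Nat.zero_le (q * q * h), Nat.zero_le (q * q * (t * h)),
    Nat.zero_le (q * q * t), Nat.zero_le (q * h)]

theorem bound (f : ℕ) : ∀ {P : Type u} [Group P] [Fintype P], IsPGroup p P → 1 ≤ k →
    ∀ (hexp : ∀ g : P, g ^ p ^ k = 1) (χ : IrrCharacter P), deg (χ : P → ℂ) = f → kerC χ ≠ ⊤ →
    ∀ b t : ℕ, (kerC χ).index = p ^ b → (galStab hexp (χ : P → ℂ)).index = (p - 1) * p ^ t →
      (p - 1) * b ≤ (f - 1) + (p - 1) * (t + 1) * f := by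
  induction f using Nat.strong_induction_on with
  | _ f IH =>
  intro P _ _ hP hk hexp χ hf hne b t hb ht
  classical
  have hp := (Fact.out : p.Prime)
  haveI : NeZero (p ^ k) := ⟨pow_ne_zero _ hp.ne_zero⟩
  rcases eq_or_ne f 1 with rfl | hf1
  · simpa using linear_case hP hexp χ hf hb ht
  obtain ⟨H, hHn, θ, hidx, hχ⟩ := exists_index_prime hP χ (by rw [hf]; exact hf1)
  haveI := hHn
  haveI := Fintype.ofFinite H
  have hexpH : ∀ x : H, x ^ p ^ k = 1 := fun x => Subtype.ext (by simp [hexp (x : P)])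
  set g := deg (θ : H → ℂ) with hgdef
  have hfg : f = p * g := by
    have h1 := congrFun hχ 1
    rw [indFun_one, char_one_eq_deg (irr_isCharacter χ.2), char_one_eq_deg (irr_isCharacter θ.2),
      hidx, hf] at h1
    exact_mod_cast h1
  have hg1 : 1 ≤ g := Nat.pos_of_ne_zero fun h => cast_ne_zero_deg θ h
  have hgf : g < f := by rw [hfg]; exact lt_mul_of_one_lt_left (by omega) hp.one_lt
  have hcf := isClassFunction_character (irr_isCharacter χ.2)
  -- `θ` is not principal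
  have hθne : kerC θ ≠ ⊤ := by
    intro htop
    have hval : ∀ x : H, (θ : H → ℂ) x = (θ : H → ℂ) 1 := fun x =>
      (mem_kerC_iff θ x).1 (htop ▸ Subgroup.mem_top x)
    have h1 : classInner (χ : P → ℂ) (fun _ : P => (1 : ℂ)) ≠ 0 := by
      rw [hχ, frobenius H _ (fun _ _ => rfl)]
      simp only [classInner, hval, map_one, mul_one, Finset.sum_const, Finset.card_univ, nsmul_eq_mul,
        ← Nat.card_eq_fintype_card]
      rw [← mul_assoc, inv_mul_cancel₀ (Nat.cast_ne_zero.2 Nat.card_pos.ne'), one_mul]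
      exact irr_one_ne_zero θ.2
    have h2 := irrC_orth χ ⟨_, isIrrCharacter_one⟩
    rw [h2] at h1
    have h3 : χ = ⟨fun _ => 1, isIrrCharacter_one⟩ := by
      by_contra h4
      rw [if_neg h4] at h1
      exact h1 rfl
    refine hne (eq_top_iff.2 fun x _ => mem_kerC_of_eq χ ?_)
    rw [h3]
  -- conjugates of `θ`
  have hθc : classInner (fun x : H => (χ : P → ℂ) x) (θ : H → ℂ) ≠ 0 := by
    rw [← classInner_symm, ← frobenius H _ hcf, ← hχ, irrC_orth, if_pos rfl, map_one]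
    exact one_ne_zero
  set S := galStab hexp (χ : P → ℂ) with hS
  set T := galStab hexpH (θ : H → ℂ) with hT
  have hTS : T ≤ S := fun u hu => by
    rw [hS, mem_galStab, hχ, gal_indFun hexp, mem_galStab.1 hu]
  have hgalmem : ∀ u ∈ S, (⟨_, isIrr_gal hexpH u θ.2⟩ : IrrCharacter H) ∈ cliffOrbit H θ := fun u hu => by
    refine mem_cliffOrbit_of_constituent hθc ?_
    show classInner (fun x : H => (χ : P → ℂ) x) (gal u (θ : H → ℂ)) ≠ 0
    rw [← classInner_symm, ← frobenius H _ hcf, ← gal_indFun hexp, ← hχ, mem_galStab.1 hu, irrC_orth,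
      if_pos rfl, map_one]
    exact one_ne_zero
  let conjOut : P ⧸ H → IrrCharacter H := fun q => irrComp (MulAut.conjNormal q.out) θ
  have hconj : ∀ x : P, irrComp (MulAut.conjNormal x) θ = conjOut (QuotientGroup.mk x) := fun x => by
    refine Subtype.ext (funext fun y => ?_)
    simp only [conjOut, irrComp_apply]
    set q := (QuotientGroup.mk x : P ⧸ H).out
    have hh : x * q⁻¹ ∈ H := by
      have h1 : q⁻¹ * x ∈ H := QuotientGroup.eq.1 (QuotientGroup.out_eq' _)
      exact hHn.mem_comm h1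
    have h2 : MulAut.conjNormal x y = ⟨x * q⁻¹, hh⟩ * MulAut.conjNormal q y * (⟨x * q⁻¹, hh⟩ : H)⁻¹ :=
      Subtype.ext (by simp [MulAut.conjNormal_apply, mul_assoc])
    rw [h2]
    exact isClassFunction_character (irr_isCharacter θ.2) _ _
  have horb : (cliffOrbit H θ).card ≤ p := by
    calc (cliffOrbit H θ).card ≤ ((Finset.univ : Finset (P ⧸ H)).image conjOut).card :=
          Finset.card_le_card fun ψ hψ => by
            obtain ⟨x, rfl⟩ := mem_cliffOrbit.1 hψ
            exact Finset.mem_image.2 ⟨_, Finset.mem_univ _, (hconj x).symm⟩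
      _ ≤ (Finset.univ : Finset (P ⧸ H)).card := Finset.card_image_le
      _ = p := by rw [Finset.card_univ, ← Nat.card_eq_fintype_card, ← Subgroup.index_eq_card, hidx]
  let Φ : S ⧸ T.subgroupOf S → cliffOrbit H θ := fun q => Quotient.liftOn q
    (fun u => ⟨_, hgalmem u u.2⟩)
    (fun a c hac => Subtype.ext (Subtype.ext ((gal_eq_gal_iff hexpH _ _ _).2
      (Subgroup.mem_subgroupOf.1 (QuotientGroup.leftRel_apply.1 hac)))))
  have hΦ : Function.Injective Φ := by
    intro a c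
    induction a using Quotient.inductionOn with
    | _ a =>
    induction c using Quotient.inductionOn with
    | _ c =>
    intro h
    exact Quotient.sound (QuotientGroup.leftRel_apply.2 (Subgroup.mem_subgroupOf.2
      ((gal_eq_gal_iff hexpH _ _ _).1 (congrArg Subtype.val (congrArg Subtype.val h)))))
  have hrel : T.relIndex S ≤ p := by
    refine le_trans ?_ horb
    rw [Subgroup.relIndex, Subgroup.index_eq_card, ← Nat.card_eq_finsetCard]
    exact Nat.card_le_card_of_injective Φ hΦ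
  have hidxT : T.relIndex S * S.index = T.index := Subgroup.relIndex_mul_index hTS
  obtain ⟨b', hb'⟩ : ∃ b', (kerC θ).index = p ^ b' := (hP.to_subgroup H).index _
  obtain ⟨i, hi⟩ := IsPGroup.iff_card.1 (relIndex_cases hP hk hexp χ hne)
  obtain ⟨r, -, hr⟩ := (Nat.dvd_prime_pow hp).1 (hi ▸ Subgroup.index_dvd_card (T.subgroupOf S) :
    T.relIndex S ∣ p ^ i)
  have hr1 : r ≤ 1 := (Nat.pow_le_pow_iff_right hp.one_lt).1 (by rw [← hr, pow_one]; exact hrel)
  have hker : ∀ x : H, (∀ q : P ⧸ H, MulAut.conjNormal q.out x ∈ kerC θ) → (x : P) ∈ kerC χ := by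
    intro x hx
    refine mem_kerC_of_eq χ ?_
    rw [hχ, ← Subgroup.coe_one H, indFun_restrict_normal, indFun_restrict_normal]
    congr 1
    refine Finset.sum_congr rfl fun y _ => ?_
    have h1 := congrFun (congrArg Subtype.val (hconj y)) x
    simp only [conjOut, irrComp_apply] at h1
    rw [h1, map_one]
    exact (mem_kerC_iff θ _).1 (hx _)
  rcases Nat.le_one_iff_eq_zero_or_eq_one.1 hr1 with rfl | rfl
  · -- the stabilizers agree
    rw [hr, pow_zero, one_mul, ht] at hidxT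
    have ih := IH g hgf (hP.to_subgroup H) hk hexpH θ rfl hθne b' t hb' hidxT.symm
    refine step_split hp.two_le hfg ?_ ih hg1
    set L : Subgroup H := ⨅ q : P ⧸ H, (kerC θ).comap (MulAut.conjNormal q.out : MulAut H).toMonoidHom
    have hLle : L.map H.subtype ≤ kerC χ := by
      rintro _ ⟨x, hx, rfl⟩
      exact hker x fun q => Subgroup.mem_comap.1 ((Subgroup.mem_iInf.1 hx) q)
    have hLidx : L.index ≤ (p ^ b') ^ p := by
      refine (Subgroup.index_iInf_le _).trans_eq ?_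
      rw [Finset.prod_congr rfl (fun q _ => by
          rw [Subgroup.index_comap_of_surjective _ (MulEquiv.surjective _), hb']),
        Finset.prod_const, Finset.card_univ, ← Nat.card_eq_fintype_card, ← Subgroup.index_eq_card, hidx]
    have h2 : (kerC χ).index ≤ L.index * p :=
      Nat.le_of_dvd (Nat.mul_pos (Nat.pos_of_ne_zero Subgroup.index_ne_zero_of_finite) hp.pos)
        (by rw [← hidx, ← Subgroup.index_map_subtype]; exact Subgroup.index_dvd_of_le hLle)
    rw [hb] at h2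
    refine (Nat.pow_le_pow_iff_right hp.one_lt).1 (h2.trans ?_)
    rw [pow_succ, pow_mul]
    exact Nat.mul_le_mul_right _ hLidx
  · -- all conjugates are Galois conjugate
    rw [hr, pow_one, ht] at hidxT
    have hidxT' : T.index = (p - 1) * p ^ (t + 1) := by rw [← hidxT, pow_succ]; ring
    have ih := IH g hgf (hP.to_subgroup H) hk hexpH θ rfl hθne b' (t + 1) hb' hidxT'
    refine step_fused hp.two_le hfg ?_ ih hg1
    have hbij : Function.Bijective Φ := by
      refine (Nat.bijective_iff_injective_and_card Φ).2 ⟨hΦ, le_antisymm (Nat.card_le_card_of_injective Φ hΦ) ?_⟩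
      rw [Nat.card_eq_finsetCard, ← Subgroup.index_eq_card]
      exact horb.trans_eq (by rw [← Subgroup.relIndex, hr, pow_one])
    have hLle : (kerC θ).map H.subtype ≤ kerC χ := by
      rintro _ ⟨x, hx, rfl⟩
      refine hker x fun q => ?_
      rw [← kerC_comp_conj H θ]
      obtain ⟨w, hw⟩ := hbij.2 ⟨irrComp (MulAut.conjNormal q.out) θ, mem_cliffOrbit.2 ⟨_, rfl⟩⟩
      induction w using Quotient.inductionOn with
      | _ w =>
      rw [← show _ = irrComp (MulAut.conjNormal q.out) θ from congrArg Subtype.val hw]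
      exact (kerC_gal hexpH θ _ (w : (ZMod (p ^ k))ˣ) rfl).ge hx
    have h2 := Subgroup.index_dvd_of_le hLle
    rw [Subgroup.index_map_subtype, hb, hb', hidx, ← pow_succ] at h2
    exact (Nat.pow_dvd_pow_iff_le_right hp.one_lt).1 h2

end Cfsg.Agent.Char.PBound
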