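import Cfsg.Agent.Lib.Char.Blichfeldt
import Cfsg.Agent.Lib.Char.Jordan
import Cfsg.Agent.Lib.Char.PGroupOrderBound

/-!
# The index of Jordan's abelian normal subgroup
-/

set_option autoImplicit false
set_option linter.style.haveILetI false
open Cfsg
open scoped ComplexConjugate

namespace Cfsg.Agent.Char.JordanIndex

universe u

theorem index_normalCore_dvd {P : Type u} [Group P] [Finite P] (A : Subgroup P) :
    A.normalCore.index ∣ A.index.factorial := by
  rw [Subgroup.normalCore_eq_ker, Subgroup.index_ker]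
  refine (Subgroup.card_subgroup_dvd_card _).trans ?_
  rw [Nat.card_perm]
  rfl

/-- A linear `p`-group has an abelian subgroup of index dividing `n!`. -/
theorem exists_abelian {P : Type u} [Group P] [Finite P] {p : ℕ} [Fact p.Prime] (hP : IsPGroup p P) {m : ℕ}
    (ρ : Representation ℂ P (Fin m → ℂ)) (hinj : ∀ g, ρ g = 1 → g = 1) :
    ∃ H : Subgroup P, (∀ a ∈ H, ∀ b ∈ H, a * b = b * a) ∧ H.index ∣ m.factorial := by
  classical
  haveI := Fintype.ofFinite P
  haveI := hP.isNilpotent
  obtain ⟨mult, hmult⟩ := exists_decomposition (isCharacter_character ρ)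
  choose A l hA using fun χ : IrrCharacter P => monomial_of_nilpotent _ P rfl (χ : P → ℂ) χ.2
  have hdeg : ∀ χ : IrrCharacter P, (χ : P → ℂ) 1 = (A χ).index := fun χ => by
    rw [hA χ, indFun_one, map_one, Units.val_one, mul_one]
  set S := Finset.univ.filter fun χ => mult χ ≠ 0 with hS
  have hsum : ∑ χ ∈ S, (A χ).index ≤ m := by
    have h1 : ((∑ χ : IrrCharacter P, mult χ * (A χ).index : ℕ) : ℂ) = (m : ℂ) := by
      have := congrFun hmult 1
      rw [Representation.char_one, Finset.sum_apply, Module.finrank_fintype_fun_eq_card, Fintype.card_fin] at this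
      rw [this]
      push_cast
      exact Finset.sum_congr rfl fun χ _ => by simp [hdeg χ]
    have h2 : ∑ χ : IrrCharacter P, mult χ * (A χ).index = m := by exact_mod_cast h1
    rw [← h2]
    refine le_trans (Finset.sum_le_sum fun χ hχ => ?_) (Finset.sum_le_sum_of_subset (Finset.subset_univ S))
    exact Nat.le_mul_of_pos_left _ (Nat.pos_of_ne_zero (Finset.mem_filter.1 hχ).2)
  have hind : ∀ T : Finset (IrrCharacter P), ∃ H : Subgroup P, H.Normal ∧ (∀ χ ∈ T, H ≤ (A χ).normalCore) ∧
      H.index ∣ ∏ χ ∈ T, (A χ).index.factorial := by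
    intro T
    induction T using Finset.induction with
    | empty => exact ⟨⊤, inferInstance, by simp, by simp⟩
    | @insert χ T hχ ih =>
      obtain ⟨H, hn, hle, hdvd⟩ := ih
      haveI := hn
      refine ⟨(A χ).normalCore ⊓ H, inferInstance, fun θ hθ => ?_, ?_⟩
      · rcases Finset.mem_insert.1 hθ with rfl | hθ
        · exact inf_le_left
        · exact inf_le_right.trans (hle θ hθ)
      · rw [Finset.prod_insert hχ, ← Subgroup.relIndex_mul_index (inf_le_right : (A χ).normalCore ⊓ H ≤ H),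
          Subgroup.inf_relIndex_right]
        exact mul_dvd_mul ((Subgroup.relIndex_dvd_index_of_normal _ _).trans (index_normalCore_dvd _)) hdvd
  obtain ⟨H, -, hle, hdvd⟩ := hind S
  refine ⟨H, fun a ha b hb => ?_, (hdvd.trans (Nat.prod_factorial_dvd_factorial_sum _ _)).trans
    (Nat.factorial_dvd_factorial hsum)⟩
  refine eq_of_mul_inv_eq_one (hinj _ ((eq_id_iff ρ _).1 ?_))
  rw [← Representation.char_one ρ, hmult, Finset.sum_apply, Finset.sum_apply]
  refine Finset.sum_congr rfl fun χ _ => ?_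
  by_cases h0 : mult χ = 0
  · simp [h0]
  rw [Pi.smul_apply, Pi.smul_apply]
  congr 1
  -- the commutator lies in the kernel of the induced linear character
  have hcore := hle χ (Finset.mem_filter.2 ⟨Finset.mem_univ _, h0⟩)
  have hconj : ∀ x : P, ∀ c ∈ H, x⁻¹ * c * x ∈ A χ := fun x c hc => by
    simpa using hcore hc x⁻¹
  rw [hdeg, hA χ]
  simp only [indFun]
  rw [Finset.sum_congr rfl (g := fun _ => (1 : ℂ)) fun x _ => ?_, Finset.sum_const, Finset.card_univ, nsmul_eq_mul, mul_one,
    ← Nat.card_eq_fintype_card, ← (A χ).index_mul_card]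
  · have : (Nat.card (A χ) : ℂ) ≠ 0 := Nat.cast_ne_zero.mpr Nat.card_pos.ne'
    push_cast
    field_simp
  · have e : x⁻¹ * (a * b * (b * a)⁻¹) * x =
        x⁻¹ * a * x * (x⁻¹ * b * x) * ((x⁻¹ * b * x) * (x⁻¹ * a * x))⁻¹ := by group
    have hm1 := hconj x a ha
    have hm2 := hconj x b hb
    rw [e, extendByZero_mem (A χ) _ ((A χ).mul_mem ((A χ).mul_mem hm1 hm2) ((A χ).inv_mem ((A χ).mul_mem hm2 hm1)))]
    have e2 : (⟨_, (A χ).mul_mem ((A χ).mul_mem hm1 hm2) ((A χ).inv_mem ((A χ).mul_mem hm2 hm1))⟩ : A χ) =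
        (⟨_, hm1⟩ * ⟨_, hm2⟩) * (⟨_, hm2⟩ * ⟨_, hm1⟩)⁻¹ := rfl
    rw [e2, map_mul, map_inv, map_mul, map_mul, mul_comm (l χ ⟨_, hm2⟩), mul_inv_cancel, Units.val_one]

/-- Jordan's bound. -/
theorem exists_abelian_normal {G : Type u} [Group G] [Finite G] {m : ℕ} (ρ : Representation ℂ G (Fin m → ℂ))
    (hinj : ∀ g, ρ g = 1 → g = 1) :
    ∃ A : Subgroup G, A.Normal ∧ (∀ x ∈ A, ∀ y ∈ A, x * y = y * x) ∧
      A.index ≤ m.factorial * 12 ^ (m * (Nat.primeCounting (m + 1) + 1)) := by
  classical
  obtain ⟨A, hAn, hAab, hA⟩ := exists_abelian_normal_of_faithful ρ hinj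
  haveI := hAn
  refine ⟨A, hAn, hAab, ?_⟩
  have hA0 : A.index ≠ 0 := Subgroup.index_ne_zero_of_finite
  set e := A.index.factorization with he
  set S1 := A.index.primeFactors.filter fun p => p ≤ m + 1
  set S2 := A.index.primeFactors.filter fun p => ¬ p ≤ m + 1
  have hsplit : A.index = (∏ p ∈ S1, p ^ e p) * ∏ p ∈ S2, p ^ e p := by
    rw [Finset.prod_filter_mul_prod_filter_not]
    exact (Nat.prod_factorization_pow_eq_self hA0).symm
  have hrel : ∀ L : Subgroup G, A.index ∣ (A.subgroupOf L).index * L.index := fun L => by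
    show A.index ∣ A.relIndex L * L.index
    rw [← Subgroup.inf_relIndex_right, Subgroup.relIndex_mul_index inf_le_right]
    exact Subgroup.index_dvd_of_le inf_le_left
  -- small primes
  have hsmall : ∀ p ∈ S1, p ^ e p ≤ 12 ^ m * p ^ (m.factorial.factorization p) := by
    intro p hp
    have hpp : p.Prime := Nat.prime_of_mem_primeFactors (Finset.mem_filter.1 hp).1
    haveI : Fact p.Prime := ⟨hpp⟩
    obtain ⟨P⟩ : Nonempty (Sylow p G) := inferInstance
    obtain ⟨H, hH, hHidx⟩ := exists_abelian P.2 (ρ.comp (P : Subgroup G).subtype)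
      (fun g hg => Subtype.ext (hinj _ hg))
    have h1 : p ^ e p ∣ (A.subgroupOf P).index := by
      refine Nat.Coprime.dvd_of_dvd_mul_right ?_ ((Nat.ordProj_dvd A.index p).trans (hrel P))
      exact ((hpp.coprime_iff_not_dvd).2 P.not_dvd_index).pow_left _
    set H' := H.map (P : Subgroup G).subtype
    have h2 : (A.subgroupOf P).index ≤ (A.subgroupOf H').index * H.index := by
      refine Nat.le_of_dvd (Nat.mul_pos (Nat.pos_of_ne_zero Subgroup.index_ne_zero_of_finite)
        (Nat.pos_of_ne_zero Subgroup.index_ne_zero_of_finite)) ?_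
      have hH'P : H' ≤ (P : Subgroup G) := Subgroup.map_subtype_le H
      have hH'H : H'.relIndex P = H.index := by
        rw [Subgroup.relIndex, Subgroup.subgroupOf, Subgroup.comap_map_eq_self_of_injective (P : Subgroup G).subtype_injective]
      show A.relIndex P ∣ A.relIndex H' * H.index
      rw [← hH'H, ← Subgroup.inf_relIndex_right A H',
        Subgroup.relIndex_mul_relIndex _ _ _ inf_le_right hH'P]
      exact Subgroup.relIndex_dvd_of_le_left _ inf_le_left
    have h3 := hA H' (by
      rintro _ ⟨a, ha, rfl⟩ _ ⟨b, hb, rfl⟩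
      rw [← map_mul, ← map_mul, hH a ha b hb])
    have h4 : H.index ≤ p ^ (m.factorial.factorization p) := by
      obtain ⟨i, hi⟩ := P.2.index H
      rw [hi] at hHidx ⊢
      exact Nat.pow_le_pow_right hpp.pos ((hpp.pow_dvd_iff_le_factorization m.factorial_ne_zero).1 hHidx)
    exact (Nat.le_of_dvd (Nat.pos_of_ne_zero Subgroup.index_ne_zero_of_finite) h1).trans
      (h2.trans (Nat.mul_le_mul h3 h4))
  -- large primes
  have hlarge : ∏ p ∈ S2, p ^ e p ≤ 12 ^ m := by
    obtain ⟨U, hU1, hU2⟩ := Blichfeldt.exists_hall_aux m _ G rfl m ρ hinj le_rfl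
    have h3 := hA U (fun a ha b hb => Blichfeldt.commute_of_primes ρ hinj U
      (fun r hr hrd => by have := hU1 r hr hrd; omega) ha hb)
    refine le_trans (Nat.le_of_dvd (Nat.pos_of_ne_zero Subgroup.index_ne_zero_of_finite) ?_) h3
    refine Nat.Coprime.dvd_of_dvd_mul_right ?_
      ((Dvd.intro_left _ hsplit.symm).trans (hrel U))
    refine Nat.Coprime.prod_left fun p hp => ?_
    have hpp : p.Prime := Nat.prime_of_mem_primeFactors (Finset.mem_filter.1 hp).1
    refine ((hpp.coprime_iff_not_dvd).2 fun h => ?_).pow_left _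
    exact (Finset.mem_filter.1 hp).2 (hU2 p hpp h)
  have hfac : ∏ p ∈ S1, p ^ (m.factorial.factorization p) ≤ m.factorial := by
    refine Nat.le_of_dvd m.factorial_pos ?_
    refine Finset.prod_dvd_of_isRelPrime (fun p hp q hq hpq => ?_) fun p _ => Nat.ordProj_dvd _ _
    have hpp : p.Prime := Nat.prime_of_mem_primeFactors (Finset.mem_filter.1 hp).1
    have hqq : q.Prime := Nat.prime_of_mem_primeFactors (Finset.mem_filter.1 hq).1
    exact Nat.coprime_iff_isRelPrime.1 (Nat.Coprime.pow _ _ ((Nat.coprime_primes hpp hqq).2 hpq))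
  have hS1 : S1.card ≤ Nat.primeCounting (m + 1) := by
    rw [Nat.primeCounting, Nat.primeCounting', Nat.count_eq_card_filter_range]
    refine Finset.card_le_card fun p hp => ?_
    obtain ⟨hp1, hp2⟩ := Finset.mem_filter.1 hp
    exact Finset.mem_filter.2 ⟨Finset.mem_range.2 (by omega), Nat.prime_of_mem_primeFactors hp1⟩
  calc A.index = (∏ p ∈ S1, p ^ e p) * ∏ p ∈ S2, p ^ e p := hsplit
    _ ≤ (∏ p ∈ S1, 12 ^ m * p ^ (m.factorial.factorization p)) * 12 ^ m :=
        Nat.mul_le_mul (Finset.prod_le_prod' hsmall) hlarge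
    _ = ((12 ^ m) ^ S1.card * ∏ p ∈ S1, p ^ (m.factorial.factorization p)) * 12 ^ m := by
        rw [Finset.prod_mul_distrib, Finset.prod_const]
    _ ≤ ((12 ^ m) ^ Nat.primeCounting (m + 1) * m.factorial) * 12 ^ m := by
        gcongr
        exact Nat.one_le_pow _ _ (by norm_num)
    _ = m.factorial * 12 ^ (m * (Nat.primeCounting (m + 1) + 1)) := by
        rw [← pow_mul, mul_add, mul_one, pow_add]; ring

end Cfsg.Agent.Char.JordanIndex
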