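import Cfsg.Agent.Lib.Char.RankTwoSolvableGroup
import Cfsg.Agent.Lib.Char.PSolvHeight
import Cfsg.Agent.Lib.Char.Gallagher

/-!
# `2`-blocks of solvable groups with a long cyclic defect subgroup have rank at most two
-/

set_option autoImplicit false
set_option linter.style.haveILetI false
open scoped ComplexConjugate
open Cfsg

namespace Cfsg.Agent.Char

universe u

variable {G : Type u} [Group G] [Fintype G]

/-- On a coset generating a cyclic section the characters over an invariant character are proportional. -/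
theorem value_on_coset (N : Subgroup G) [N.Normal] [Fintype N] {θ : IrrCharacter N}
    (hinv : ∀ g : G, irrComp (MulAut.conjNormal g) θ = θ) (x : G) :
    ∃ F : N → ℂ, ∀ χ : IrrCharacter G, classInner (fun n : N => (χ : G → ℂ) n) (θ : N → ℂ) ≠ 0 →
      ∃ A : ℂ, ∀ n : N, (χ : G → ℂ) (x * n) = A * F n := by
  classical
  set H := (Subgroup.zpowers (x : G ⧸ N)).comap (QuotientGroup.mk' N) with hH
  have hNH : N ≤ H := fun n hn => by
    show (QuotientGroup.mk n : G ⧸ N) ∈ Subgroup.zpowers (x : G ⧸ N)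
    rw [(QuotientGroup.eq_one_iff n).mpr hn]
    exact one_mem _
  have hxH : x ∈ H := Subgroup.mem_zpowers _
  haveI : Fintype H := Fintype.ofFinite _
  set N' := N.subgroupOf H with hN'
  haveI : N'.Normal := inferInstanceAs ((N.subgroupOf H).Normal)
  haveI : Fintype N' := Fintype.ofFinite _
  set e : N' ≃* N := Subgroup.subgroupOfEquivOfLe hNH
  set θ' : IrrCharacter N' := ⟨fun w => (θ : N → ℂ) (e w), isIrrCharacter_comp_equiv e θ.2⟩ with hθ'
  have hinv' : ∀ (a : H) (n : N'), (θ' : N' → ℂ) (MulAut.conjNormal a n) = (θ' : N' → ℂ) n := by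
    intro a n
    have h := congrFun (congrArg Subtype.val (hinv (a : G))) (e n)
    rw [irrComp_apply] at h
    show (θ : N → ℂ) (e (MulAut.conjNormal a n)) = _
    rw [← h]
    exact congrArg _ (Subtype.ext rfl)
  have hcyc : IsCyclic (H ⧸ N') := by
    refine ⟨((⟨x, hxH⟩ : H) : H ⧸ N'), fun w => ?_⟩
    induction w using QuotientGroup.induction_on with | _ a
    obtain ⟨i, hi⟩ := Subgroup.mem_zpowers_iff.mp a.2
    refine Subgroup.mem_zpowers_iff.mpr ⟨i, ?_⟩
    rw [← QuotientGroup.mk_zpow, QuotientGroup.eq]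
    show (((⟨x, hxH⟩ : H) ^ i)⁻¹ * a : H).1 ∈ N
    simp only [Subgroup.coe_mul, Subgroup.coe_inv, SubgroupClass.coe_zpow]
    refine (QuotientGroup.eq (s := N)).mp ?_
    rw [QuotientGroup.mk_zpow]
    exact hi
  obtain ⟨θe, hθe, hres⟩ := exists_extension_cyclic (N := N') hcyc θ'.2 hinv'
  refine ⟨fun n => θe (⟨x, hxH⟩ * ⟨n, hNH n.2⟩), fun χ hθ => ?_⟩
  obtain ⟨m, hm⟩ := exists_decomposition (isCharacter_comp H.subtype (irr_isCharacter χ.2))
  have hone : (fun _ : N' => (1 : ℂ)) * (θ' : N' → ℂ) = (θ' : N' → ℂ) := by funext n; simp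
  have hG := gallagher N' (fun _ => 1) (θ' : N' → ℂ) isIrrCharacter_one (fun _ _ => rfl) hinv'
    (by rw [hone]; exact θ'.2) (irr_isCharacter hθe) hres
  rw [hone] at hG
  -- each constituent is a linear multiple of the extension
  have hkey : ∀ η : IrrCharacter H, m η ≠ 0 →
      ∃ c : ℂ, ∀ n : N, (η : H → ℂ) (⟨x, hxH⟩ * ⟨n, hNH n.2⟩) = c * θe (⟨x, hxH⟩ * ⟨n, hNH n.2⟩) := by
    intro η hη
    let inc : N →* H := Subgroup.inclusion hNH
    obtain ⟨φ, hφ⟩ : ∃ φ : IrrCharacter N, classInner ((η : H → ℂ) ∘ inc) (φ : N → ℂ) ≠ 0 := by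
      obtain ⟨φ, hφ⟩ := exists_constituent (N := N') η
      refine ⟨⟨fun w => (φ : N' → ℂ) (e.symm w), isIrrCharacter_comp_equiv e.symm φ.2⟩, ?_⟩
      refine fun h => hφ (Eq.trans ?_ h)
      simp only [classInner, Nat.card_congr e.toEquiv]
      congr 1
      exact Fintype.sum_equiv e.toEquiv _ _ fun w => by
        simp only [MulEquiv.toEquiv_eq_coe, EquivLike.coe_coe, Function.comp_apply, MulEquiv.symm_apply_apply]
        rfl
    have hφθ : φ = θ := by
      have hχφ : classInner (fun n : N => (χ : G → ℂ) n) (φ : N → ℂ) ≠ 0 := by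
        have e1 : (fun n : N => (χ : G → ℂ) n) = ∑ ψ, (m ψ : ℂ) • ((ψ : H → ℂ) ∘ inc) := by
          funext n
          have := congrFun hm (inc n)
          simp only [Finset.sum_apply, Pi.smul_apply, Function.comp_apply, nsmul_eq_mul, smul_eq_mul] at this ⊢
          exact this
        choose k hk using fun ψ : IrrCharacter H =>
          classInner_natCast (isCharacter_comp inc (irr_isCharacter ψ.2)) (irr_isCharacter φ.2)
        rw [e1, classInner_sum_left]
        simp only [classInner_smul_left, hk, ← Nat.cast_mul, ← Nat.cast_sum]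
        rw [Nat.cast_ne_zero]
        intro h0
        rw [hk η, Nat.cast_ne_zero] at hφ
        exact mul_ne_zero hη hφ (Finset.sum_eq_zero_iff.mp h0 η (Finset.mem_univ _))
      obtain ⟨g, hg⟩ := mem_cliffOrbit.mp (mem_cliffOrbit_of_constituent hθ hχφ)
      rw [← hg, hinv g]
    subst hφθ
    have hmem : classInner (indFun N' (θ' : N' → ℂ)) (η : H → ℂ) ≠ 0 := by
      rw [frobenius N' _ (isClassFunction_character (irr_isCharacter η.2)), ← classInner_symm, map_ne_zero]
      refine fun h => hφ (Eq.trans ?_ h)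
      simp only [classInner, Nat.card_congr e.toEquiv]
      congr 1
      exact (Fintype.sum_equiv e.toEquiv _ _ fun w => rfl).symm
    obtain ⟨β, ⟨hβ, hβ1⟩, hβη⟩ := hG.surjOn ⟨η.2, hmem⟩
    obtain ⟨β', hβ'⟩ := exists_deflate N' hβ (fun k hk =>
      (constituent_indFun_one_iff N' hβ).mp hβ1 ⟨k, hk⟩)
    refine ⟨β ⟨x, hxH⟩, fun n => ?_⟩
    rw [← hβη]
    show β _ * θe _ = _
    rw [← hβ' (⟨x, hxH⟩ * _), QuotientGroup.mk_mul,
      (QuotientGroup.eq_one_iff (⟨(n : G), hNH n.2⟩ : H)).mpr n.2, mul_one, hβ']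
  choose c hc using hkey
  refine ⟨∑ η, if h : m η = 0 then 0 else (m η : ℂ) * c η h, fun n => ?_⟩
  have h := congrFun hm (⟨x, hxH⟩ * ⟨n, hNH n.2⟩)
  simp only [Finset.sum_apply, Pi.smul_apply, nsmul_eq_mul, Pi.mul_apply, Pi.natCast_apply] at h
  rw [Finset.sum_mul]
  refine h.trans (Finset.sum_congr rfl fun η _ => ?_)
  split_ifs with h0
  · simp [h0]
  · rw [hc η h0 n, mul_assoc]

/-- Blocks over an invariant character of the odd core. -/
theorem rank_le_two_of_inv (hsol : Group.IsSolvable G) [Fintype (pPrimeCore 2 G)]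
    {θ : IrrCharacter (pPrimeCore 2 G)} (hinv : ∀ g : G, irrComp (MulAut.conjNormal g) θ = θ) {B : Set (IrrCharacter G)}
    (hB : ∀ χ ∈ B, classInner (fun n : pPrimeCore 2 G => (χ : G → ℂ) n) (θ : pPrimeCore 2 G → ℂ) ≠ 0)
    (P : Sylow 2 G) (hP : LongCyclic (P : Subgroup G)) : blockRank 2 B ≤ 2 := by
  classical
  haveI : Fact (Nat.Prime 2) := ⟨Nat.prime_two⟩
  set π := QuotientGroup.mk' (pPrimeCore 2 G) with hπ
  have hπs : Function.Surjective π := QuotientGroup.mk'_surjective _
  have hinj : Function.Injective (π.comp (P : Subgroup G).subtype) := by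
    rw [← MonoidHom.ker_eq_bot_iff, Subgroup.eq_bot_iff_forall]
    intro w hw
    have hw' : (w : G) ∈ (pPrimeCore 2 G) := (QuotientGroup.eq_one_iff _).mp hw
    obtain ⟨k, hk⟩ := P.isPGroup' w
    refine orderOf_eq_one_iff.mp (Nat.eq_one_of_dvd_coprimes
      (Nat.Coprime.pow_left k (Fusion.card_pPrimeCore_coprime 2 G).symm) (orderOf_dvd_of_pow_eq_one hk) ?_)
    rw [← Subgroup.orderOf_coe, ← Subgroup.orderOf_mk _ hw']
    exact orderOf_dvd_natCard _
  have hPb : LongCyclic (P.mapSurjective hπs : Subgroup (G ⧸ (pPrimeCore 2 G))) :=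
    hP.of_equiv ((MonoidHom.ofInjective hinj).trans (MulEquiv.subgroupCongr (by
      rw [MonoidHom.range_comp, Subgroup.range_subtype]; rfl)))
  obtain ⟨q₀, hq₀⟩ := two_regular_classes (Group.isSolvable_of_surjective hπs)
    Fusion.pPrimeCore_quotient_eq_bot _ hPb
  obtain ⟨x₀, rfl⟩ := hπs q₀
  set r : Bool → G := fun b => if b then x₀ else 1 with hr
  choose f hf using fun b => value_on_coset (pPrimeCore 2 G) hinv (r b)
  have hcls : ∀ g : G, IsPRegular 2 g → ∃ (b : Bool) (t : G) (n : (pPrimeCore 2 G)), t * g * t⁻¹ = r b * n := by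
    intro g hg
    have ho : Odd (orderOf (π g)) :=
      (Nat.odd_iff.mpr (Nat.two_dvd_ne_zero.mp hg)).of_dvd_nat (orderOf_map_dvd π g)
    rcases hq₀ _ ho with h1 | hc
    · exact ⟨false, 1, ⟨g, (QuotientGroup.eq_one_iff g).mp h1⟩, by simp [hr]⟩
    · obtain ⟨tb, htb⟩ := isConj_iff.mp hc
      obtain ⟨t, rfl⟩ := hπs tb
      rw [← map_inv, ← map_mul, ← map_mul] at htb
      exact ⟨true, t, ⟨_, QuotientGroup.eq.mp htb.symm⟩, by simp [hr]⟩
  choose b t n hbtn using hcls
  set F : Bool → G → ℂ := fun a g => if hg : IsPRegular 2 g then (if b g hg = a then f a (n g hg) else 0) else 0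
    with hF
  have hle : Submodule.span ℂ ((fun χ : IrrCharacter G => pRegularPart 2 (χ : G → ℂ)) '' B) ≤
      Submodule.span ℂ (Set.range F) := by
    refine Submodule.span_le.mpr ?_
    rintro _ ⟨χ, hχ, rfl⟩
    choose A hA using fun a => hf a χ (hB χ hχ)
    have e : pRegularPart 2 (χ : G → ℂ) = ∑ a, A a • F a := by
      funext g
      simp only [pRegularPart, hF, Finset.sum_apply, Pi.smul_apply, smul_eq_mul]
      by_cases hg : IsPRegular 2 g
      · simp only [hg, if_true, dif_pos]
        rw [Finset.sum_eq_single (b g hg) (fun a _ hne => by rw [if_neg (Ne.symm hne), mul_zero])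
          (fun h => absurd (Finset.mem_univ _) h), if_pos rfl, ← hA, ← hbtn g hg]
        exact (isClassFunction_character (irr_isCharacter χ.2) g (t g hg)).symm
      · simp [hg]
    simp only [SetLike.mem_coe, e]
    exact Submodule.sum_mem _ fun a _ => Submodule.smul_mem _ _ (Submodule.subset_span ⟨a, rfl⟩)
  haveI : FiniteDimensional ℂ (G → ℂ) := inferInstance
  exact (Submodule.finrank_mono hle).trans ((finrank_range_le_card F).trans (by simp))

variable {M : Ideal AlgInt}

/-- Solvable groups. -/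
theorem solvable_rank_le_two (hM : IsPModular 2 M) :
    ∀ (k : ℕ) {G : Type u} [Group G] [Fintype G], Nat.card G = k → Group.IsSolvable G →
      ∀ {B : Set (IrrCharacter G)}, IsPBlock M B → ∀ {D : Subgroup G}, IsDefectGroup 2 M B D →
        LongCyclic D → blockRank 2 B ≤ 2 := by
  intro k
  induction k using Nat.strong_induction_on with
  | _ k ih =>
  intro G _ _ hk hsol B hB D hD hL
  classical
  haveI : Fact (Nat.Prime 2) := ⟨Nat.prime_two⟩
  have hPm := pmod_prime hM
  haveI : Fintype (pPrimeCore 2 G) := Fintype.ofFinite _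
  have hNp : ¬ 2 ∣ Nat.card (pPrimeCore 2 G) :=
    Nat.prime_two.coprime_iff_not_dvd.mp (Fusion.card_pPrimeCore_coprime 2 G).symm
  have hps := isPSolvable_of_isSolvable Nat.prime_two _ rfl hsol
  obtain ⟨χ, hχ⟩ := block_nonempty hPm hB
  obtain ⟨θ, hθ⟩ := exists_constituent (N := pPrimeCore 2 G) χ
  obtain ⟨T, -, -, hNT, -, -, -, hT, -, -⟩ := exists_correspondent χ.2 (pPrimeCore 2 G) θ hθ
  haveI : Fintype T := Fintype.ofFinite _
  by_cases htop : T = ⊤
  · have hinv : ∀ g : G, irrComp (MulAut.conjNormal g) θ = θ :=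
      fun g => (hT g).mp (htop ▸ Subgroup.mem_top g)
    obtain ⟨B', hB', hmem, -, hall⟩ := S4492.result 2 M hM hps (pPrimeCore 2 G) rfl θ (fun g m => by
      have h := congrFun (congrArg Subtype.val (hinv g)) m
      rw [irrComp_apply] at h
      exact (congrArg _ (Subtype.ext rfl)).trans h)
    obtain rfl : B = B' := block_disjoint hPm hB hB' hχ ((hmem χ).mpr hθ)
    obtain ⟨P, rfl⟩ := hall D hD
    exact rank_le_two_of_inv hsol hinv (fun φ hφ => (hmem φ).mp hφ) P hL
  · set b : Set (IrrCharacter (pPrimeCore 2 G)) := blockOf M (θ : pPrimeCore 2 G → ℂ) with hb'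
    have hb : IsPBlock M b := isPBlock_blockOf M θ
    have hbs : b = {θ} := by
      refine (singleton_iff_dexp hM θ).mpr (le_antisymm (dexp_le θ.2) ?_)
      rw [Nat.factorization_eq_zero_of_not_dvd hNp]
      exact Nat.zero_le _
    have hst : IsStabilizer (pPrimeCore 2 G) b T := fun g => by
      rw [hT g, hbs]
      simp
    have hθb : θ ∈ b := self_mem_blockOf hPm θ
    obtain ⟨B', hB', hcov, hind⟩ := fong_reynolds_surjective hM hst hb hNT hB ⟨χ, hχ, θ, hθb, hθ⟩
    obtain ⟨hdef, -⟩ := fong_reynolds_defect hM hst hb hB' hcov hind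
    obtain ⟨C, hC, -, hfrom, -⟩ := fong_reynolds hM hst hb hB' hcov
    obtain rfl := induced_unique hPm hC hind
    obtain ⟨D', hD'⟩ := exists_isDefectGroup hM hB'
    obtain ⟨s, hs⟩ := defect_groups_conj hM hC.2.1 (hdef D' hD') hD
    have hlt : Nat.card T < k := hk ▸ lt_of_le_of_ne (Subgroup.card_le_card_group T)
      (fun h => htop (Subgroup.eq_top_of_card_eq T h))
    have hL' : LongCyclic D' := hL.of_equiv ((D'.equivMapOfInjective _ T.subtype_injective).trans
      (((D'.map T.subtype).equivMapOfInjective _ (MulAut.conj s).injective).trans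
        (MulEquiv.subgroupCongr hs.symm))).symm
    have hle := ih _ hlt rfl (haveI := hsol; inferInstance) hB' hD' hL'
    refine le_trans ?_ hle
    let I : (T → ℂ) →ₗ[ℂ] (G → ℂ) :=
      { toFun := indFun T
        map_add' := fun a c => indFun_add T a c
        map_smul' := fun a c => indFun_smul T a c }
    have hreg : ∀ φ : T → ℂ, I (pRegularPart 2 φ) = pRegularPart 2 (indFun T φ) := by
      intro φ
      funext g
      have hord : ∀ w : G, orderOf (w⁻¹ * g * w) = orderOf g := fun w => by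
        rw [show w⁻¹ * g * w = MulAut.conj w⁻¹ g by simp, MulEquiv.orderOf_eq]
      have hext : ∀ w : G, extendByZero T (pRegularPart 2 φ) (w⁻¹ * g * w) =
          if IsPRegular 2 g then extendByZero T φ (w⁻¹ * g * w) else 0 := fun w => by
        by_cases hw : w⁻¹ * g * w ∈ T
        · rw [extendByZero_mem _ _ hw, extendByZero_mem _ _ hw, pRegularPart]
          simp only [IsPRegular, Subgroup.orderOf_mk, hord]
          by_cases h2 : 2 ∣ orderOf g <;> simp [h2]
        · rw [extendByZero_not_mem _ _ hw, extendByZero_not_mem _ _ hw]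
          simp
      show indFun T (pRegularPart 2 φ) g = _
      rw [indFun, pRegularPart]
      simp only [hext]
      split_ifs with h
      · rw [indFun]
      · simp
    have hsub : Submodule.span ℂ ((fun φ : IrrCharacter G => pRegularPart 2 (φ : G → ℂ)) '' C) ≤
        (Submodule.span ℂ ((fun φ : IrrCharacter T => pRegularPart 2 (φ : T → ℂ)) '' B')).map I := by
      refine Submodule.span_le.mpr ?_
      rintro _ ⟨φ, hφ, rfl⟩
      obtain ⟨ψ, hψ, he⟩ := hfrom φ hφ
      refine ⟨_, Submodule.subset_span ⟨ψ, hψ, rfl⟩, ?_⟩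
      rw [hreg, ← he]
    exact (Submodule.finrank_mono hsub).trans (Submodule.finrank_map_le _ _)

end Cfsg.Agent.Char
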