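import Cfsg.Agent.Lib.Solv.LayerClasses.Module
import Cfsg.Agent.Lib.Char.RankTwoSolvable
import Cfsg.Agent.Lib.Solv.PGroupPhi
import Cfsg.Agent.Lib.Solv.ClassFortyNine.Main
import Cfsg.Agent.Lib.Solv.HallHigman

/-!
# The number of characters in a block of a soluble group

A block of defect `d ≥ 1` of a soluble group has at most `3 ^ (d - 1) * p ^ d` characters.
-/

set_option autoImplicit false
set_option linter.style.haveILetI false
set_option linter.unusedSectionVars false
set_option maxHeartbeats 1000000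
open scoped ComplexConjugate IsMulCommutative
open Cfsg

namespace Cfsg.Agent.Char.KBSolv

universe u

/-- A soluble group without normal subgroup of order prime to `p`. -/
theorem classes_le {X : Type u} [Group X] [Finite X] {p : ℕ} [hp : Fact p.Prime]
    (hsol : Group.IsSolvable X) (h0 : pPrimeCore p X = ⊥) (hd : 0 < (Nat.card X).factorization p) :
    Nat.card (ConjClasses X) ≤
      3 ^ ((Nat.card X).factorization p - 1) * p ^ (Nat.card X).factorization p := by
  classical
  obtain ⟨d, hddef⟩ : ∃ d, d = (Nat.card X).factorization p := ⟨_, rfl⟩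
  rw [← hddef] at hd ⊢
  have hps := isPSolvable_of_isSolvable hp.out _ rfl hsol
  have hC := centralizer_pCore_le_of_pSolvable hps h0
  obtain ⟨P, hP⟩ : ∃ P, P = pCore p X := ⟨_, rfl⟩
  rw [← hP] at hC
  haveI : P.Characteristic := hP ▸ Fusion.pCore_characteristic
  have hPp : IsPGroup p P := hP ▸ Fusion.isPGroup_pCore p X
  have hPne : P ≠ ⊥ := by
    intro h
    rw [h] at hC
    have htop : ∀ x : X, x = 1 := fun x =>
      Subgroup.mem_bot.1 (hC (Subgroup.mem_centralizer_iff.2 fun y hy => by
        rw [Subgroup.mem_bot.1 hy, one_mul, mul_one]))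
    have : Nat.card X = 1 := Nat.card_eq_one_iff_unique.2 ⟨⟨fun a b => (htop a).trans (htop b).symm⟩, ⟨1⟩⟩
    rw [this, Nat.factorization_one] at hddef
    simp at hddef
    omega
  obtain ⟨Φ, hΦ⟩ : ∃ Φ : Subgroup X, Φ = (frattini P).map P.subtype := ⟨_, rfl⟩
  haveI hΦn : Φ.Normal := hΦ ▸ Solv.map_subtype_normal_of_characteristic P _
  have hΦP : Φ ≤ P := hΦ ▸ Subgroup.map_subtype_le _
  let π := QuotientGroup.mk' Φ
  let Pb : Subgroup (X ⧸ Φ) := P.map π
  haveI : Pb.Normal := (inferInstance : P.Normal).map π (QuotientGroup.mk'_surjective Φ)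
  have hmemΦ : ∀ (x : P), x ∈ frattini P → (x : X) ∈ Φ := fun x hx => hΦ ▸ ⟨x, hx, rfl⟩
  haveI : IsMulCommutative Pb := ⟨⟨by
    rintro ⟨_, x, hx, rfl⟩ ⟨_, y, hy, rfl⟩
    refine Subtype.ext ?_
    show π x * π y = π y * π x
    rw [← map_mul, ← map_mul]
    refine QuotientGroup.eq.2 ?_
    have h1 : (⟨y, hy⟩ : P)⁻¹ * (⟨x, hx⟩ : P)⁻¹ * ⟨y, hy⟩ * ⟨x, hx⟩ ∈ commutator P := by
      have := Subgroup.commutator_mem_commutator (Subgroup.mem_top (⟨y, hy⟩ : P)⁻¹)
        (Subgroup.mem_top (⟨x, hx⟩ : P)⁻¹)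
      simpa [commutator_def, commutatorElement_def] using this
    have h2 := hmemΦ _ (Solv.commutator_le_frattini_pgroup hPp h1)
    simpa [mul_assoc] using h2⟩⟩
  -- orders
  obtain ⟨a, ha⟩ := IsPGroup.iff_card.1 (hPp.to_le hΦP)
  obtain ⟨m, hm⟩ := IsPGroup.iff_card.1 (hPp.map π)
  obtain ⟨b, hb⟩ := IsPGroup.iff_card.1 hPp
  have hbm : b = a + m := by
    refine Nat.pow_right_injective hp.out.two_le ?_
    show p ^ b = p ^ (a + m)
    rw [pow_add, ← hb, ← ha, ← hm]
    have h2 := Subgroup.relIndex_ker (f := π) (K := P)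
    rw [QuotientGroup.ker_mk'] at h2
    have h3 := (Φ.subgroupOf P).card_mul_index
    rw [Nat.card_congr (Subgroup.subgroupOfEquivOfLe hΦP).toEquiv] at h3
    rw [← h3]
    exact congrArg _ h2
  have hm1 : 1 ≤ m := by
    refine Nat.pos_of_ne_zero fun h => hPne ?_
    rw [h, pow_zero] at hm
    have h1 : ∀ x ∈ P, x ∈ Φ := fun x hx =>
      (QuotientGroup.eq_one_iff x).1 (Subgroup.mem_bot.1 ((Subgroup.card_eq_one.1 hm).le ⟨x, hx, rfl⟩))
    have h2 : frattini P = ⊤ := eq_top_iff.2 fun x _ => by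
      have h3 := h1 x x.2
      rw [hΦ] at h3
      obtain ⟨y, hy, e⟩ := h3
      rwa [← P.subtype_injective e]
    have h3 : (⊥ : Subgroup P) = ⊤ := frattini_nongenerating (by rw [h2, sup_top_eq])
    refine (Subgroup.eq_bot_iff_forall _).2 fun x hx => congrArg Subtype.val
      (Subgroup.mem_bot.1 (h3.ge (Subgroup.mem_top (⟨x, hx⟩ : P))))
  -- a Hall subgroup
  obtain ⟨H, hH⟩ := Solv.hall_exists hsol (m := Nat.card X / p ^ d) (n := p ^ d)
    (Nat.div_mul_cancel (hddef ▸ Nat.ordProj_dvd _ _)).symm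
    (hddef ▸ (Nat.coprime_ordCompl hp.out Nat.card_pos.ne').symm.pow_right _)
  have hHp : ¬p ∣ Nat.card H := by
    rw [hH, hddef]
    exact Nat.not_dvd_ordCompl hp.out Nat.card_pos.ne'
  letI : DistribMulAction (X ⧸ Φ) (Additive Pb) := Solv.C49.conjAct Pb
  letI : DistribMulAction H (Additive Pb) := DistribMulAction.compHom (Additive Pb) (π.comp H.subtype)
  have hcoe : ∀ (h : H) (x : (Additive Pb)), ((Additive.toMul (h • x) : Pb) : X ⧸ Φ) =
      π h * ((Additive.toMul x : Pb) : X ⧸ Φ) * (π h)⁻¹ := fun h x => Solv.C49.coe_conjAct Pb (π h) x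
  have hexp : ∀ x : (Additive Pb), p • x = 0 := by
    intro x
    obtain ⟨y, hy, e⟩ := (Additive.toMul x : Pb).2
    refine Additive.toMul.injective (Subtype.ext ?_)
    show (((Additive.toMul x : Pb) ^ p : Pb) : X ⧸ Φ) = 1
    rw [Subgroup.coe_pow, ← e, ← map_pow]
    exact (QuotientGroup.eq_one_iff _).2 (hmemΦ _ (Solv.pow_mem_frattini hPp ⟨y, hy⟩))
  have hfree : ∀ h : H, (h : X) ∈ P → h = 1 := by
    intro h hh
    obtain ⟨i, hi⟩ := hPp ⟨h, hh⟩
    refine orderOf_eq_one_iff.1 (Nat.eq_one_of_dvd_coprimes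
      ((hp.out.coprime_iff_not_dvd.2 hHp).pow_left i) (orderOf_dvd_of_pow_eq_one (x := h)
        (Subtype.ext (by simpa using congrArg Subtype.val hi))) (orderOf_dvd_natCard h))
  have hf : ∀ h : H, (∀ x : (Additive Pb), h • x = x) → h = 1 := by
    intro h hh
    refine hfree h (hC (Solv.centralizes_of_frattini P hPp (h : X)
      (by rw [Subgroup.normalizer_eq_top]; exact Subgroup.mem_top _) ?_ fun x hx => ?_))
    · exact Nat.Coprime.coprime_dvd_left (Subgroup.orderOf_coe h ▸ orderOf_dvd_natCard h)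
        (hp.out.coprime_iff_not_dvd.2 hHp).symm
    · have h1 := congrArg (fun z : (Additive Pb) => ((Additive.toMul z : Pb) : X ⧸ Φ))
        (hh (Additive.ofMul ⟨π x, x, hx, rfl⟩))
      simp only [hcoe, toMul_ofMul] at h1
      rw [← hΦ, ← QuotientGroup.eq_one_iff]
      show π (x * h * x⁻¹ * (h : X)⁻¹) = 1
      rw [show x * h * x⁻¹ * (h : X)⁻¹ = x * (h * x * (h : X)⁻¹)⁻¹ by group, map_mul, map_inv,
        map_mul, map_mul, map_inv, h1, mul_inv_cancel]
  -- the semidirect product
  let i₁ : Multiplicative (Additive Pb) →* X ⧸ Φ :=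
    { toFun := fun x => ((Additive.toMul (Multiplicative.toAdd x) : Pb) : X ⧸ Φ)
      map_one' := rfl
      map_mul' := fun _ _ => rfl }
  let j : Solv.LayerCls.Hol H (Additive Pb) →* X ⧸ Φ :=
    SemidirectProduct.lift i₁ (π.comp H.subtype) fun h => MonoidHom.ext fun x => by
      simpa [i₁, Solv.LayerCls.actHom_apply] using hcoe h (Multiplicative.toAdd x)
  have hj : Function.Injective j := by
    refine (injective_iff_map_eq_one j).2 fun x hx => ?_
    have hx' : i₁ x.left * π x.right = 1 := hx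
    have h1 : π x.right ∈ Pb := by
      rw [eq_inv_of_mul_eq_one_right hx']
      exact Pb.inv_mem (Additive.toMul (Multiplicative.toAdd x.left) : Pb).2
    obtain ⟨y, hy, e⟩ := h1
    have h2 : (x.right : X) ∈ P := by
      have h3 := P.mul_mem hy (hΦP (QuotientGroup.eq.1 e))
      rwa [mul_inv_cancel_left] at h3
    have h3 := hfree x.right h2
    rw [h3, OneMemClass.coe_one, map_one, mul_one] at hx'
    refine SemidirectProduct.ext ?_ h3
    exact congrArg (fun z : Pb => Multiplicative.ofAdd (Additive.ofMul z))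
      (Subtype.ext hx' : (Additive.toMul (Multiplicative.toAdd x.left) : Pb) = 1)
  have hcardR : Nat.card j.range = p ^ m * Nat.card H := by
    rw [← Nat.card_congr (MonoidHom.ofInjective hj).toEquiv, Solv.LayerCls.card_hol]
    exact congrArg (· * Nat.card H) hm
  have hXΦ : p ^ a * Nat.card (X ⧸ Φ) = p ^ d * Nat.card H := by
    rw [← ha, ← Subgroup.index_eq_card, Φ.card_mul_index, hH, Nat.mul_div_cancel' (hddef ▸ Nat.ordProj_dvd _ _)]
  obtain ⟨i, hi⟩ : ∃ i, i = j.range.index := ⟨_, rfl⟩
  have hidx : p ^ (a + m) * i = p ^ d := by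
    have h1 := j.range.card_mul_index
    rw [hcardR, ← hi] at h1
    rw [← h1] at hXΦ
    refine Nat.eq_of_mul_eq_mul_right (m := Nat.card H) Nat.card_pos ?_
    rw [← hXΦ, pow_add]; ring
  have hmd : m ≤ d := by
    have h1 : p ^ m ∣ p ^ d := hidx ▸ Dvd.dvd.mul_right (pow_dvd_pow p (Nat.le_add_left m a)) i
    exact (Nat.pow_dvd_pow_iff_le_right hp.out.one_lt).1 h1
  have hsolH : Group.IsSolvable H := by
    haveI := hsol
    exact Group.isSolvable_of_isSolvable_injective (Subgroup.subtype_injective H)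
  have hk := Solv.LayerCls.hol_bound (m + 1) m (Nat.lt_succ_self m) H (Additive Pb) hsolH hHp hf hexp hm hm1
  have hQ : Nat.card (ConjClasses (X ⧸ Φ)) ≤ i * (3 ^ (m - 1) * p ^ m) := by
    refine (Solv.LayerCls.classes_le_index_mul j.range).trans (hi ▸ Nat.mul_le_mul_left _ ?_)
    exact (Solv.LayerCls.classes_quot_le j.rangeRestrict j.rangeRestrict_surjective).trans hk
  refine (Solv.LayerCls.classes_le_mul_quot Φ).trans ?_
  refine (Nat.mul_le_mul ((Solv.LayerCls.card_classes_le_card (G := Φ)).trans ha.le) hQ).trans ?_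
  rw [show p ^ a * (i * (3 ^ (m - 1) * p ^ m)) = 3 ^ (m - 1) * (p ^ (a + m) * i) by rw [pow_add]; ring, hidx]
  exact Nat.mul_le_mul_right _ (Nat.pow_le_pow_right (by norm_num) (by omega))

variable {G : Type u} [Group G] [Fintype G]

/-- Characters over an invariant character are no more than the classes of the quotient. -/
theorem ncard_over_le (N : Subgroup G) [N.Normal] [Fintype N] {θ : IrrCharacter N}
    (hinv : ∀ g : G, irrComp (MulAut.conjNormal g) θ = θ) (B : Set (IrrCharacter G))
    (hB : ∀ χ ∈ B, classInner (fun n : N => (χ : G → ℂ) n) (θ : N → ℂ) ≠ 0) :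
    Set.ncard B ≤ Nat.card (ConjClasses (G ⧸ N)) := by
  classical
  haveI : Fintype (ConjClasses (G ⧸ N)) := Fintype.ofFinite _
  choose r hr using fun c : ConjClasses (G ⧸ N) => ConjClasses.exists_rep c
  let x : ConjClasses (G ⧸ N) → G := fun c => (r c).out
  choose f hf using fun c => value_on_coset N hinv (x c)
  have hcls : ∀ g : G, ∃ (t : G) (n : N), t * g * t⁻¹ = x (ConjClasses.mk (g : G ⧸ N)) * n := by
    intro g
    obtain ⟨q, hq⟩ := isConj_iff.1 (ConjClasses.mk_eq_mk_iff_isConj.1 (hr (ConjClasses.mk (g : G ⧸ N))).symm)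
    obtain ⟨t, rfl⟩ := QuotientGroup.mk_surjective q
    rw [← QuotientGroup.mk_inv, ← QuotientGroup.mk_mul, ← QuotientGroup.mk_mul] at hq
    have h2 : ((x (ConjClasses.mk (g : G ⧸ N)) : G) : G ⧸ N) = ((t * g * t⁻¹ : G) : G ⧸ N) := by
      rw [hq]
      exact QuotientGroup.out_eq' _
    exact ⟨t, ⟨_, QuotientGroup.eq.1 h2⟩, by rw [mul_inv_cancel_left]⟩
  choose t n htn using hcls
  let F : ConjClasses (G ⧸ N) → G → ℂ := fun c g =>
    if ConjClasses.mk (g : G ⧸ N) = c then f c (n g) else 0
  have hle : Submodule.span ℂ (Set.range fun χ : B => (χ.1 : G → ℂ)) ≤ Submodule.span ℂ (Set.range F) := by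
    refine Submodule.span_le.2 ?_
    rintro _ ⟨χ, rfl⟩
    choose A hA using fun c => hf c χ.1 (hB χ.1 χ.2)
    have e : (χ.1 : G → ℂ) = ∑ c, A c • F c := by
      funext g
      simp only [F, Finset.sum_apply, Pi.smul_apply, smul_eq_mul]
      rw [Finset.sum_eq_single (ConjClasses.mk (g : G ⧸ N))
        (fun c _ hne => by rw [if_neg (Ne.symm hne), mul_zero])
        (fun h => absurd (Finset.mem_univ _) h), if_pos rfl, ← hA, ← htn g]
      exact (isClassFunction_character (irr_isCharacter χ.1.2) g (t g)).symm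
    simp only [SetLike.mem_coe, e]
    exact Submodule.sum_mem _ fun c _ => Submodule.smul_mem _ _ (Submodule.subset_span ⟨c, rfl⟩)
  haveI : FiniteDimensional ℂ (G → ℂ) := inferInstance
  haveI : Fintype B := Fintype.ofFinite _
  have h2 := finrank_span_eq_card ((linearIndependent_irr (G := G)).comp (fun χ : B => χ.1) Subtype.val_injective)
  rw [← Nat.card_coe_set_eq, Nat.card_eq_fintype_card, ← h2, Nat.card_eq_fintype_card]
  exact (Submodule.finrank_mono hle).trans (finrank_range_le_card F)

variable {p : ℕ} {M : Ideal AlgInt}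

/-- The block bound. -/
theorem block_card_le [hp : Fact p.Prime] (hM : IsPModular p M) :
    ∀ (k : ℕ) {G : Type u} [Group G] [Fintype G], Nat.card G = k → Group.IsSolvable G →
      ∀ {B : Set (IrrCharacter G)}, IsPBlock M B → 0 < blockDefect p B →
        Set.ncard B ≤ 3 ^ (blockDefect p B - 1) * p ^ blockDefect p B := by
  intro k
  induction k using Nat.strong_induction_on with
  | _ k ih =>
  intro G _ _ hk hsol B hB hd
  classical
  have hPm := pmod_prime hM
  haveI : Fintype (pPrimeCore p G) := Fintype.ofFinite _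
  have hNp : ¬ p ∣ Nat.card (pPrimeCore p G) :=
    hp.out.coprime_iff_not_dvd.mp (Fusion.card_pPrimeCore_coprime p G).symm
  have hps := isPSolvable_of_isSolvable hp.out _ rfl hsol
  obtain ⟨χ, hχ⟩ := block_nonempty hPm hB
  obtain ⟨θ, hθ⟩ := exists_constituent (N := pPrimeCore p G) χ
  obtain ⟨T, -, -, hNT, -, -, -, hT, -, -⟩ := exists_correspondent χ.2 (pPrimeCore p G) θ hθ
  haveI : Fintype T := Fintype.ofFinite _
  by_cases htop : T = ⊤
  · have hinv : ∀ g : G, irrComp (MulAut.conjNormal g) θ = θ :=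
      fun g => (hT g).mp (htop ▸ Subgroup.mem_top g)
    obtain ⟨B', hB', hmem, hsyl, -⟩ := S4492.result p M hM hps (pPrimeCore p G) rfl θ (fun g m => by
      have h := congrFun (congrArg Subtype.val (hinv g)) m
      rw [irrComp_apply] at h
      exact (congrArg _ (Subtype.ext rfl)).trans h)
    obtain rfl : B = B' := block_disjoint hPm hB hB' hχ ((hmem χ).mpr hθ)
    obtain ⟨P⟩ : Nonempty (Sylow p G) := inferInstance
    have hdef : blockDefect p B = (Nat.card G).factorization p := by
      refine Nat.pow_right_injective hp.out.two_le ?_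
      show p ^ blockDefect p B = p ^ (Nat.card G).factorization p
      rw [← card_defectGroup hM hB (hsyl P), P.card_eq_multiplicity]
    have hquot : (Nat.card (G ⧸ pPrimeCore p G)).factorization p = (Nat.card G).factorization p := by
      rw [← Subgroup.index_eq_card, ← (pPrimeCore p G).card_mul_index,
        Nat.factorization_mul Nat.card_pos.ne' Subgroup.index_ne_zero_of_finite, Finsupp.add_apply,
        Nat.factorization_eq_zero_of_not_dvd hNp, zero_add]
    haveI := hsol
    refine (ncard_over_le (pPrimeCore p G) hinv B fun φ hφ => (hmem φ).mp hφ).trans ?_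
    rw [hdef, ← hquot]
    exact classes_le (Group.isSolvable_of_surjective (QuotientGroup.mk'_surjective _))
      Fusion.pPrimeCore_quotient_eq_bot (by rw [hquot, ← hdef]; exact hd)
  · set b : Set (IrrCharacter (pPrimeCore p G)) := blockOf M (θ : pPrimeCore p G → ℂ) with hb'
    have hb : IsPBlock M b := isPBlock_blockOf M θ
    have hbs : b = {θ} := by
      refine (singleton_iff_dexp hM θ).mpr (le_antisymm (dexp_le θ.2) ?_)
      rw [Nat.factorization_eq_zero_of_not_dvd hNp]
      exact Nat.zero_le _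
    have hst : IsStabilizer (pPrimeCore p G) b T := fun g => by
      rw [hT g, hbs]
      simp
    have hθb : θ ∈ b := self_mem_blockOf hPm θ
    obtain ⟨B', hB', hcov, hind⟩ := fong_reynolds_surjective hM hst hb hNT hB ⟨χ, hχ, θ, hθb, hθ⟩
    obtain ⟨hdef, -⟩ := fong_reynolds_defect hM hst hb hB' hcov hind
    obtain ⟨C, hC, -, hfrom, -⟩ := fong_reynolds hM hst hb hB' hcov
    obtain rfl := induced_unique hPm hC hind
    obtain ⟨D', hD'⟩ := exists_isDefectGroup hM hB'
    have hdd : blockDefect p C = blockDefect p B' := by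
      refine Nat.pow_right_injective hp.out.two_le ?_
      show p ^ blockDefect p C = p ^ blockDefect p B'
      rw [← card_defectGroup hM hC.2.1 (hdef D' hD'), ← card_defectGroup hM hB' hD',
        Subgroup.card_map_of_injective T.subtype_injective]
    have hlt : Nat.card T < k := hk ▸ lt_of_le_of_ne (Subgroup.card_le_card_group T)
      (fun h => htop (Subgroup.eq_top_of_card_eq T h))
    rw [hdd] at hd ⊢
    refine le_trans ?_ (ih _ hlt rfl (haveI := hsol; inferInstance) hB' hd)
    choose ψ hψ he using hfrom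
    exact Set.ncard_le_ncard_of_injOn (fun φ => if h : φ ∈ C then ψ φ h else Classical.choice ⟨(block_nonempty hPm hB').choose⟩)
      (fun φ hφ => by simp only [dif_pos hφ]; exact hψ φ hφ)
      (fun φ hφ φ' hφ' e => by
        simp only [dif_pos hφ, dif_pos hφ'] at e
        exact Subtype.ext (by rw [he φ hφ, he φ' hφ', e])) (Set.toFinite _)

end Cfsg.Agent.Char.KBSolv
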