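import Cfsg.Agent.Lib.Char.Rational
import Cfsg.Agent.Lib.Char.Congr
import Cfsg.Agent.Lib.Char.DegreeDvd
import Cfsg.Agent.Lib.Char.Linear
import Cfsg.Agent.Lib.Char.FreeTrace
import Mathlib

/-!
# `k(GV) ≤ |V|` when some vector has an abelian stabilizer

Products of Gauss sums give a virtual character `δ` of the stabilizer with `|δ(c)|² ≤ |V : C_V(c)|`
that is divisible by a prime over `p` away from the identity.
-/

set_option autoImplicit false
set_option linter.unusedSectionVars false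
set_option linter.style.haveILetI false

namespace Cfsg.Agent.Char.KGV

open Cfsg
open scoped ComplexConjugate

universe u

theorem card_le_of_galois_bound {ι : Type*} [Fintype ι] {N : ℕ} (hN : N ≠ 0) (a : ι → ℂ)
    (hm : ∀ i, a i ∈ cyc N) (hI : ∀ i, IsIntegral ℤ (a i)) (h0 : ∀ i, a i ≠ 0) (B : ℝ)
    (hB : ∀ φ : cyc N →ₐ[ℚ] ℂ, ∑ i, ‖φ ⟨a i, hm i⟩‖ ^ 2 ≤ B) : (Fintype.card ι : ℝ) ≤ B := by
  classical
  haveI : NeZero N := ⟨hN⟩
  haveI : Finite {μ : ℂ | μ ^ N = 1} := by
    refine Set.Finite.to_subtype ((Polynomial.nthRootsFinset N (1 : ℂ)).finite_toSet.subset fun μ hμ => ?_)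
    rw [Finset.mem_coe, Polynomial.mem_nthRootsFinset (Nat.pos_of_ne_zero hN)]
    exact hμ
  haveI : FiniteDimensional ℚ (cyc N) :=
    IntermediateField.finiteDimensional_adjoin (K := ℚ) fun s hs => (cyc_splits hN s hs).1
  haveI : Nonempty (cyc N →ₐ[ℚ] ℂ) := ⟨(cyc N).val⟩
  have key : ∀ i, (Fintype.card (cyc N →ₐ[ℚ] ℂ) : ℝ) ≤ ∑ φ : cyc N →ₐ[ℚ] ℂ, ‖φ ⟨a i, hm i⟩‖ ^ 2 := fun i => by
    set z : cyc N := ⟨a i, hm i⟩ with hz
    have hzI : IsIntegral ℤ z :=
      (isIntegral_algHom_iff ((cyc N).val.restrictScalars ℤ) (cyc N).val.injective).1 (hI i)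
    have hz0 : z ≠ 0 := fun h => h0 i (congrArg Subtype.val h)
    have hne : ∀ φ : cyc N →ₐ[ℚ] ℂ, φ z ≠ 0 := fun φ h =>
      hz0 (φ.toRingHom.injective (h.trans (map_zero φ.toRingHom).symm))
    have hP := Algebra.norm_eq_prod_embeddings ℚ ℂ z
    have hPI : IsIntegral ℤ ((Algebra.norm ℚ z : ℚ) : ℂ) := by
      rw [← eq_ratCast (algebraMap ℚ ℂ), hP]
      exact IsIntegral.prod _ fun φ _ => hzI.map (φ.restrictScalars ℤ)
    obtain ⟨m, hmz⟩ := isIntegral_rat_cast_imp hPI
    have hprod : ∏ φ : cyc N →ₐ[ℚ] ℂ, φ z = (m : ℂ) := by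
      rw [← hP, eq_ratCast, ← hmz, Rat.cast_intCast]
    have hm0 : m ≠ 0 := fun h => by
      rw [h, Int.cast_zero, Finset.prod_eq_zero_iff] at hprod
      obtain ⟨φ, -, hφ⟩ := hprod
      exact hne φ hφ
    have h1 : (1 : ℝ) ≤ ∏ φ : cyc N →ₐ[ℚ] ℂ, ‖φ z‖ ^ 2 := by
      rw [Finset.prod_pow, ← norm_prod, hprod, Complex.norm_intCast, sq_abs]
      exact_mod_cast one_le_sq_iff_one_le_abs _ |>.2 (Int.one_le_abs hm0)
    have h2 : (0 : ℝ) ≤ ∑ φ : cyc N →ₐ[ℚ] ℂ, Real.log (‖φ z‖ ^ 2) := by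
      rw [← Real.log_prod fun φ _ => pow_ne_zero 2 (norm_ne_zero_iff.2 (hne φ))]
      exact Real.log_nonneg h1
    have h3 := Finset.sum_le_sum (s := (Finset.univ : Finset (cyc N →ₐ[ℚ] ℂ))) fun φ _ =>
      Real.log_le_sub_one_of_pos (x := ‖φ z‖ ^ 2) (pow_pos (norm_pos_iff.2 (hne φ)) 2)
    rw [Finset.sum_sub_distrib, Finset.sum_const, nsmul_one, Finset.card_univ] at h3
    linarith
  have h1 := Finset.sum_le_sum (s := (Finset.univ : Finset ι)) fun i _ => key i
  rw [Finset.sum_const, nsmul_eq_mul, Finset.card_univ, Finset.sum_comm] at h1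
  have h2 := h1.trans (Finset.sum_le_sum fun φ _ => hB φ)
  rw [Finset.sum_const, nsmul_eq_mul, Finset.card_univ, mul_comm] at h2
  exact le_of_mul_le_mul_left h2 (by exact_mod_cast Fintype.card_pos)

section IntComb

variable {C : Type u} [CommGroup C] [Fintype C] [Fintype (C →* ℂˣ)]

/-- A combination of linear characters with algebraic integer coefficients. -/
def IntComb (f : C → ℂ) : Prop :=
  ∃ a : (C →* ℂˣ) → ℂ, (∀ l, IsIntegral ℤ (a l)) ∧ ∀ c, f c = ∑ l, a l * (l c : ℂ)

theorem intComb_hom {z : ℂ} (hz : IsIntegral ℤ z) (l : C →* ℂˣ) : IntComb fun c => z * (l c : ℂ) := by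
  classical
  refine ⟨fun m => if m = l then z else 0, fun m => ?_, fun c => ?_⟩
  · dsimp only
    split_ifs
    exacts [hz, isIntegral_zero]
  · simp [ite_mul]

theorem intComb_const {z : ℂ} (hz : IsIntegral ℤ z) : IntComb (fun _ : C => z) := by
  have h := intComb_hom hz (1 : C →* ℂˣ)
  simpa using h

theorem intComb_sum {ι : Type*} (s : Finset ι) (f : ι → C → ℂ) (h : ∀ i ∈ s, IntComb (f i)) :
    IntComb fun c => ∑ i ∈ s, f i c := by
  classical
  induction s using Finset.induction_on with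
  | empty => simpa using intComb_const (C := C) isIntegral_zero
  | insert i s hi ih =>
    obtain ⟨a, ha, hf⟩ := h i (Finset.mem_insert_self i s)
    obtain ⟨b, hb, hg⟩ := ih fun j hj => h j (Finset.mem_insert_of_mem hj)
    refine ⟨a + b, fun l => (ha l).add (hb l), fun c => ?_⟩
    simp only [Finset.sum_insert hi, hf, hg, ← Finset.sum_add_distrib]
    simp [add_mul]

theorem intComb_mul {f g : C → ℂ} (hf : IntComb f) (hg : IntComb g) : IntComb fun c => f c * g c := by
  obtain ⟨a, ha, hfa⟩ := hf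
  obtain ⟨b, hb, hgb⟩ := hg
  have e : (fun c => f c * g c) =
      fun c => ∑ l : C →* ℂˣ, ∑ m : C →* ℂˣ, (a l * b m) * ((l * m) c : ℂ) := by
    funext c
    rw [hfa, hgb, Finset.sum_mul_sum]
    exact Finset.sum_congr rfl fun l _ => Finset.sum_congr rfl fun m _ => by
      rw [MonoidHom.mul_apply, Units.val_mul]; ring
  rw [e]
  exact intComb_sum _ _ fun l _ => intComb_sum _ _ fun m _ => intComb_hom ((ha l).mul (hb m)) _

theorem intComb_comp {D : Type u} [CommGroup D] [Fintype D] [Fintype (D →* ℂˣ)] (j : C →* D) (z : D)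
    {f : D → ℂ} (hf : IntComb f) : IntComb fun c => f (z * j c) := by
  obtain ⟨a, ha, hfa⟩ := hf
  simp only [hfa, map_mul, Units.val_mul, ← mul_assoc]
  exact intComb_sum _ _ fun l _ => intComb_hom ((ha l).mul (root_of_unity_isIntegral (Nat.card_pos (α := D)).ne'
    (by rw [← Units.val_pow_eq_pow_val, ← map_pow, pow_card_eq_one', map_one, Units.val_one]))) (l.comp j)

theorem intComb_avg {f : C → ℂ} (hf : IntComb f) : IsIntegral ℤ ((Fintype.card C : ℂ)⁻¹ * ∑ c, f c) := by
  classical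
  obtain ⟨a, ha, hfa⟩ := hf
  have h1 : ∀ l : C →* ℂˣ, ∑ c, (l c : ℂ) = if l = 1 then (Fintype.card C : ℂ) else 0 := fun l => by
    have h := sum_hom_units ((Units.coeHom ℂ).comp l)
    simp only [MonoidHom.coe_comp, Function.comp_apply, Units.coeHom_apply] at h
    rw [h]
    by_cases hl : l = 1
    · rw [if_pos hl, if_pos (by subst hl; ext c; simp)]
    · rw [if_neg hl, if_neg fun e => hl (by ext c; exact DFunLike.congr_fun e c), Nat.cast_zero]
  simp only [hfa]
  rw [Finset.sum_comm]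
  simp only [← Finset.mul_sum, h1, mul_ite, mul_zero, Finset.sum_ite_eq', Finset.mem_univ, if_true]
  rw [mul_comm, mul_assoc, mul_inv_cancel₀ (Nat.cast_ne_zero.2 Fintype.card_ne_zero), mul_one]
  exact ha 1

theorem intComb_char {χ : C → ℂ} (h : IsCharacter C χ) : IntComb χ := by
  classical
  obtain hd := fun μ : IrrCharacter C => classInner_natCast h (irr_isCharacter μ.2)
  rw [char_expansion h]
  have e : ∀ c, (∑ μ : IrrCharacter C, classInner χ (μ : C → ℂ) • (μ : C → ℂ)) c =
      ∑ μ : IrrCharacter C, classInner χ (μ : C → ℂ) * (μ : C → ℂ) c := fun c => by simp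
  rw [funext e]
  refine intComb_sum _ _ fun μ _ => ?_
  obtain ⟨l, hl⟩ := exists_hom_of_degree_one (irr_isCharacter μ.2)
    (forall_linear_iff_comm.1 (fun a b => mul_comm a b) μ)
  obtain ⟨n, hn⟩ := hd μ
  rw [hn]
  simp only [hl]
  exact intComb_hom ((map_natCast (algebraMap ℤ ℂ) n) ▸ isIntegral_algebraMap) l

end IntComb

/-- A nontrivial additive character and a nontrivial multiplicative one give a sum of norm `√q`. -/
theorem norm_sq_gauss {R : Type u} [Field R] [Fintype R] [DecidableEq R] (l : Rˣ →* ℂˣ) (hl : l ≠ 1)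
    (ψ : AddChar R ℂ) (hψ : ψ ≠ 1) :
    ‖∑ x : Rˣ, (l x : ℂ) * ψ (x : R)‖ ^ 2 = Nat.card R := by
  set χ := MulChar.ofUnitHom l with hχdef
  have hval : ∀ x : Rˣ, χ (x : R) = (l x : ℂ) := fun x => MulChar.ofUnitHom_coe l x
  have hχ : χ ≠ 1 := fun h => hl (by
    ext x
    have := congrArg (fun m : MulChar R ℂ => m (x : R)) h
    simpa [hval] using this)
  have hsum : gaussSum χ ψ = ∑ x : Rˣ, (l x : ℂ) * ψ (x : R) := by
    rw [gaussSum, ← Finset.sum_filter_add_sum_filter_not Finset.univ (fun a : R => a ≠ 0),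
      Finset.sum_eq_zero (s := Finset.filter (fun a : R => ¬ a ≠ 0) _) fun a ha => by
        rw [not_not.1 (Finset.mem_filter.1 ha).2, MulChar.map_zero, zero_mul], add_zero]
    refine (Finset.sum_bij (fun (x : Rˣ) _ => (x : R)) (fun x _ => by simp) (fun x _ y _ h => Units.ext h)
      (fun a ha => ⟨Units.mk0 a (Finset.mem_filter.1 ha).2, Finset.mem_univ _, rfl⟩) fun x _ => ?_).symm
    rw [hval]
  have hprod := gaussSum_mul_gaussSum_eq_card hχ (AddChar.IsPrimitive.of_ne_one hψ)
  have hconj : gaussSum χ⁻¹ ψ⁻¹ = conj (gaussSum χ ψ) := by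
    rw [gaussSum, gaussSum, map_sum]
    refine Finset.sum_congr rfl fun a _ => ?_
    rw [map_mul, AddChar.inv_apply, AddChar.map_neg_eq_conj]
    congr 1
    exact (MulChar.star_apply' χ a).symm
  rw [hconj, Complex.mul_conj'] at hprod
  rw [← hsum, Nat.card_eq_fintype_card]
  exact_mod_cast hprod

section Delta

variable {C : Type u} [CommGroup C] [Fintype C] [Fintype (C →* ℂˣ)] {p N : ℕ} {M : Ideal AlgInt}

/-- The class function attached to an action of `C` on an elementary abelian `p`-group. -/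
def HasDelta (M : Ideal AlgInt) (N : ℕ) {W : Type u} [AddCommGroup W] (ρ : C →* AddMonoid.End W) : Prop :=
  ∃ δ : C → ℂ, IntComb δ ∧ δ 1 * δ 1 = 1 ∧ (∀ c, (∃ w, ρ c w ≠ w) → MemLocalIdeal M (δ c)) ∧
    ∀ c, ∃ hm : δ c ∈ cyc N, ∀ (φ : cyc N →ₐ[ℚ] ℂ),
      ‖φ ⟨δ c, hm⟩‖ ^ 2 * (Nat.card {w : W // ρ c w = w} : ℝ) ≤ Nat.card W

theorem hasDelta_simple (hp : p.Prime) (hM : IsPModular p M) (hN : N ≠ 0) (hCN : Nat.card C ∣ N)
    (hpN : p ∣ N) {W : Type u} [AddCommGroup W] [Finite W] [Nontrivial W] (hexp : ∀ w : W, p • w = 0)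
    (ρ : C →* AddMonoid.End W)
    (hsimple : ∀ U : AddSubgroup W, (∀ c, ∀ w ∈ U, ρ c w ∈ U) → U = ⊥ ∨ U = ⊤) : HasDelta M N ρ := by
  classical
  let R := Subring.closure (Set.range ρ)
  haveI : Finite (AddMonoid.End W) := Finite.of_injective _ (DFunLike.coe_injective (F := AddMonoid.End W))
  have hcomm : ∀ a ∈ Set.range ρ, ∀ b ∈ Set.range ρ, a * b = b * a := by
    rintro _ ⟨c, rfl⟩ _ ⟨d, rfl⟩
    rw [← map_mul, ← map_mul, mul_comm]
  haveI := Subring.isMulCommutative_closure hcomm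
  letI : CommRing R := { (inferInstance : Ring R) with mul_comm := fun a b => mul_comm' a b }
  let ρR : C →* R := ρ.codRestrict R fun c => Subring.subset_closure ⟨c, rfl⟩
  have hcρ : ∀ (r : R) (c : C) (w : W), (r : AddMonoid.End W) (ρ c w) = ρ c ((r : AddMonoid.End W) w) :=
    fun r c w => DFunLike.congr_fun (congrArg Subtype.val (mul_comm r (ρR c))) w
  have hinjR : ∀ r : R, r ≠ 0 → ∀ w : W, (r : AddMonoid.End W) w = 0 → w = 0 := fun r hr w hw => by
    let U : AddSubgroup W := AddMonoidHom.ker (show W →+ W from (r : AddMonoid.End W))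
    rcases hsimple U (fun c x hx => show (r : AddMonoid.End W) (ρ c x) = 0 by
      rw [hcρ, show (r : AddMonoid.End W) x = 0 from hx, map_zero]) with h | h
    · exact (h ▸ (show w ∈ U from hw) : w ∈ (⊥ : AddSubgroup W))
    · refine absurd ?_ hr
      apply Subtype.ext
      apply DFunLike.ext
      intro x
      exact (h ▸ AddSubgroup.mem_top x : x ∈ U)
  haveI : Nontrivial R := ⟨0, 1, fun h => by
    obtain ⟨w, hw⟩ := exists_ne (0 : W)
    exact hw (DFunLike.congr_fun (congrArg Subtype.val h.symm) w)⟩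
  haveI : NoZeroDivisors R := ⟨fun {a b} hab => by
    by_cases ha : a = 0
    · exact Or.inl ha
    · refine Or.inr (Subtype.ext (DFunLike.ext _ _ fun w => hinjR a ha _ ?_))
      exact DFunLike.congr_fun (congrArg Subtype.val hab) w⟩
  haveI : IsDomain R := NoZeroDivisors.to_isDomain R
  haveI : Fintype R := Fintype.ofFinite R
  letI : Field R := Fintype.fieldOfDomain R
  -- `R` and `W` have the same size
  obtain ⟨w₀, hw₀⟩ := exists_ne (0 : W)
  have hcard : Nat.card R = Nat.card W := by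
    let ev : R →+ W :=
      { toFun := fun r => (r : AddMonoid.End W) w₀
        map_zero' := rfl
        map_add' := fun _ _ => rfl }
    refine Nat.card_eq_of_bijective ev ⟨(injective_iff_map_eq_zero ev).2 fun r hr => ?_, fun w => ?_⟩
    · by_contra h
      exact hw₀ (hinjR r h w₀ hr)
    · rcases hsimple ev.range (fun c x hx => by
          obtain ⟨r, rfl⟩ := hx
          exact ⟨ρR c * r, rfl⟩) with h | h
      · exact absurd (h ▸ (⟨1, rfl⟩ : w₀ ∈ ev.range) : w₀ ∈ (⊥ : AddSubgroup W)) hw₀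
      · exact (h ▸ AddSubgroup.mem_top w : w ∈ ev.range)
  let u : C →* Rˣ := ρR.toHomUnits
  have hu : ∀ c w, ((u c : R) : AddMonoid.End W) w = ρ c w := fun c w => rfl
  haveI : NeZero (Monoid.exponent Rˣ) := ⟨Monoid.exponent_ne_zero_of_finite⟩
  obtain ⟨e⟩ := CommGroup.monoidHom_mulEquiv_of_hasEnoughRootsOfUnity Rˣ ℂ
  let L : C →* (Rˣ →* ℂˣ) := e.symm.toMonoidHom.comp u
  obtain ⟨ψ, hψ⟩ := AddChar.exists_apply_ne_zero.2 (one_ne_zero (α := R))
  have hψ1 : ψ ≠ 1 := fun h => hψ (by rw [h]; rfl)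
  have hRp : ∀ x : R, p • x = 0 := fun x =>
    Subtype.ext (DFunLike.ext _ _ fun w => hexp ((x : AddMonoid.End W) w))
  have hψp : ∀ x : R, ψ x ^ p = 1 := fun x => by rw [← AddChar.map_nsmul_eq_pow, hRp, AddChar.map_zero_eq_one]
  have hψN : ∀ x : R, ψ x ^ N = 1 := fun x => by
    obtain ⟨t, rfl⟩ := hpN
    rw [pow_mul, hψp, one_pow]
  have hLN : ∀ (c : C) (x : Rˣ), (L c x : ℂ) ^ N = 1 := fun c x => by
    obtain ⟨t, rfl⟩ := hCN
    rw [pow_mul, ← Units.val_pow_eq_pow_val, ← MonoidHom.pow_apply, ← map_pow, pow_card_eq_one', map_one,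
      MonoidHom.one_apply, Units.val_one, one_pow]
  refine ⟨fun c => ∑ x : Rˣ, (L c x : ℂ) * ψ (x : R), ?_, ?_, ?_, ?_⟩
  · refine intComb_sum _ _ fun x _ => ?_
    have h := intComb_hom (root_of_unity_isIntegral hp.pos.ne' (hψp x)) ((MonoidHom.eval x).comp L)
    simpa [mul_comm] using h
  · have h0 : ∑ x : Rˣ, ψ (x : R) = -1 := by
      have h1 : ∑ a : R, ψ a = 0 := AddChar.sum_eq_zero_of_ne_one hψ1
      rw [← Finset.add_sum_erase _ _ (Finset.mem_univ (0 : R)), AddChar.map_zero_eq_one] at h1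
      have h2 : ∑ x : Rˣ, ψ (x : R) = ∑ a ∈ Finset.univ.erase (0 : R), ψ a :=
        Finset.sum_bij (fun (x : Rˣ) _ => (x : R)) (fun x _ => by simp) (fun x _ y _ h => Units.ext h)
          (fun a ha => ⟨Units.mk0 a (Finset.ne_of_mem_erase ha), Finset.mem_univ _, rfl⟩) fun x _ => rfl
      rw [h2]
      linear_combination h1
    simp only [map_one, MonoidHom.one_apply, Units.val_one, one_mul, h0]
    norm_num
  · rintro c ⟨w, hw⟩
    have hLc : L c ≠ 1 := fun h => by
      have hu1 : u c = 1 := e.symm.injective (h.trans (map_one e.symm).symm)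
      exact hw (by rw [← hu, hu1]; rfl)
    obtain ⟨x₀, hx₀⟩ : ∃ x, L c x ≠ 1 := by
      by_contra hh
      push Not at hh
      exact hLc (MonoidHom.ext hh)
    have hs : ∑ x : Rˣ, (L c x : ℂ) = 0 := by
      refine sum_hom_units_eq_zero ((Units.coeHom ℂ).comp (L c)) fun h => hx₀ ?_
      exact Units.ext (DFunLike.congr_fun h x₀)
    show MemLocalIdeal M (∑ x : Rˣ, (L c x : ℂ) * ψ (x : R))
    rw [show ∑ x : Rˣ, (L c x : ℂ) * ψ (x : R) = ∑ x : Rˣ, (L c x : ℂ) * (ψ (x : R) - 1) by
      simp only [mul_sub, mul_one, Finset.sum_sub_distrib, hs, sub_zero]]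
    refine memLI_sum (pmod_prime hM) _ _ fun x _ => ?_
    refine memLI_mul_left (pmod_prime hM) (memLocalRing_of_isIntegral (pmod_prime hM).ne_top
      (root_of_unity_isIntegral hN (hLN c x))) ?_
    have hint := root_of_unity_isIntegral hp.pos.ne' (hψp x)
    let A : AlgInt := ⟨ψ (x : R), hint⟩
    have h : A - 1 ∈ M := algInt_eq_mod hM (n := 1) (Subtype.ext (by simpa [A] using hψp x))
    have h' := (memLI_coe_iff (pmod_prime hM) _).2 h
    simpa [A] using h'
  · intro c
    have hmem : ∀ x : Rˣ, (L c x : ℂ) * ψ (x : R) ∈ cyc N := fun x =>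
      mul_mem (mem_cyc (hLN c x)) (mem_cyc (hψN x))
    refine ⟨sum_mem fun x _ => hmem x, fun φ => ?_⟩
    obtain ⟨k, hk, hφ⟩ := exists_power_of_embedding hN φ
    have hval : φ ⟨∑ x : Rˣ, (L c x : ℂ) * ψ (x : R), sum_mem fun x _ => hmem x⟩ =
        ∑ x : Rˣ, ((L (c ^ k)) x : ℂ) * (ψ ^ k) (x : R) := by
      rw [show (⟨∑ x : Rˣ, (L c x : ℂ) * ψ (x : R), sum_mem fun x _ => hmem x⟩ : cyc N) =
        ∑ x : Rˣ, (⟨(L c x : ℂ), mem_cyc (hLN c x)⟩ : cyc N) * ⟨ψ (x : R), mem_cyc (hψN x)⟩ by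
          ext; simp]
      rw [map_sum]
      refine Finset.sum_congr rfl fun x _ => ?_
      rw [map_mul, hφ _ (hLN c x), hφ _ (hψN x), AddChar.pow_apply, map_pow, MonoidHom.pow_apply,
        Units.val_pow_eq_pow_val]
    rw [hval]
    by_cases hc : ∀ w, ρ c w = w
    · have hu1 : u c = 1 := Units.ext (Subtype.ext (DFunLike.ext _ _ hc))
      have hL1 : L (c ^ k) = 1 := by
        show e.symm (u (c ^ k)) = 1
        rw [map_pow u, hu1, one_pow, map_one]
      rw [Nat.card_congr (Equiv.subtypeUnivEquiv hc), hL1]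
      refine mul_le_of_le_one_left (Nat.cast_nonneg _) ?_
      have hk1 : ψ ^ k ≠ 1 := fun h => hψ (by
        have h1 : ψ 1 ^ k = 1 := by rw [← AddChar.pow_apply, h]; rfl
        have := Nat.Coprime.coprime_dvd_right hpN hk
        exact (pow_eq_one_iff_of_coprime this.symm).1 ⟨hψp 1, h1⟩)
      have h0 : ∑ x : Rˣ, ((1 : Rˣ →* ℂˣ) x : ℂ) * (ψ ^ k) (x : R) = -1 := by
        have h1 : ∑ a : R, (ψ ^ k) a = 0 := AddChar.sum_eq_zero_of_ne_one hk1
        rw [← Finset.add_sum_erase _ _ (Finset.mem_univ (0 : R)), AddChar.map_zero_eq_one] at h1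
        have h2 : ∑ x : Rˣ, ((1 : Rˣ →* ℂˣ) x : ℂ) * (ψ ^ k) (x : R) = ∑ a ∈ Finset.univ.erase (0 : R), (ψ ^ k) a :=
          Finset.sum_bij (fun (x : Rˣ) _ => (x : R)) (fun x _ => by simp) (fun x _ y _ h => Units.ext h)
            (fun a ha => ⟨Units.mk0 a (Finset.ne_of_mem_erase ha), Finset.mem_univ _, rfl⟩) fun x _ => by simp
        rw [h2]
        linear_combination h1
      rw [h0]
      simp
    · obtain ⟨w, hw⟩ := not_forall.1 hc
      have hcore : Nat.card {w : W // ρ c w = w} = 1 := by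
        rw [Nat.card_eq_one_iff_unique]
        refine ⟨⟨fun a b => Subtype.ext ?_⟩, ⟨⟨0, map_zero _⟩⟩⟩
        have hne : (u c : R) - 1 ≠ 0 := fun h => hw (by rw [← hu, sub_eq_zero.1 h]; rfl)
        refine sub_eq_zero.1 (hinjR _ hne _ ?_)
        show ρ c ((a : W) - b) - ((a : W) - b) = 0
        rw [map_sub, a.2, b.2, sub_self]
      rw [hcore, Nat.cast_one, mul_one, norm_sq_gauss, hcard]
      · intro h
        have h3 : L c = 1 := MonoidHom.ext fun x =>
          (pow_eq_one_iff_of_coprime (Nat.Coprime.coprime_dvd_right hCN hk).symm).1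
            ⟨by rw [← MonoidHom.pow_apply, ← map_pow, pow_card_eq_one', map_one, MonoidHom.one_apply],
              by rw [← MonoidHom.pow_apply, ← map_pow, h, MonoidHom.one_apply]⟩
        exact hw (by rw [← hu, e.symm.injective (h3.trans (map_one e.symm).symm)]; rfl)
      · intro h
        have h1 : ψ 1 ^ k = 1 := by rw [← AddChar.pow_apply, h]; rfl
        exact hψ ((pow_eq_one_iff_of_coprime (Nat.Coprime.coprime_dvd_right hpN hk).symm).1 ⟨hψp 1, h1⟩)

theorem exists_hasDelta (hp : p.Prime) (hM : IsPModular p M) (hN : N ≠ 0) (hCN : Nat.card C ∣ N)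
    (hpN : p ∣ N) (hpC : ¬ p ∣ Nat.card C) (n : ℕ) : ∀ (W : Type u) [AddCommGroup W] [Finite W],
      Nat.card W = n → (∀ w : W, p • w = 0) → ∀ ρ : C →* AddMonoid.End W, HasDelta M N ρ := by
  classical
  induction n using Nat.strong_induction_on with
  | _ n ih =>
    intro W _ _ hn hexp ρ
    by_cases hsub : Subsingleton W
    · refine ⟨fun _ => 1, intComb_const isIntegral_one, one_mul 1,
        fun c ⟨w, hw⟩ => absurd (Subsingleton.elim _ _) hw, fun c => ⟨one_mem _, fun φ => ?_⟩⟩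
      rw [show (⟨(1 : ℂ), one_mem _⟩ : cyc N) = 1 from rfl, map_one, norm_one, one_pow, one_mul]
      exact_mod_cast Finite.card_subtype_le _
    haveI := not_subsingleton_iff_nontrivial.1 hsub
    haveI : Finite (AddSubgroup W) := Finite.of_injective _ SetLike.coe_injective
    haveI := Fintype.ofFinite (AddSubgroup W)
    by_cases hs : ∀ U : AddSubgroup W, (∀ c, ∀ w ∈ U, ρ c w ∈ U) → U = ⊥ ∨ U = ⊤
    · exact hasDelta_simple hp hM hN hCN hpN hexp ρ hs
    push Not at hs
    obtain ⟨U, hU, hUb, hUt⟩ := hs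
    have hmul : Nat.card W = Nat.card (W ⧸ U) * Nat.card U :=
      AddSubgroup.card_eq_card_quotient_mul_card_addSubgroup U
    have hU2 : 1 < Nat.card U := (AddSubgroup.one_lt_card_iff_ne_bot U).2 hUb
    have hQ2 : 1 < Nat.card (W ⧸ U) := by
      have h : U.index ≠ 1 := fun h => hUt (AddSubgroup.index_eq_one.1 h)
      have h' : U.index ≠ 0 := AddSubgroup.index_ne_zero_of_finite
      show 1 < U.index
      omega
    let ρU : C →* AddMonoid.End U :=
      { toFun := fun c => ((ρ c : W →+ W).comp U.subtype).codRestrict U fun w => hU c w w.2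
        map_one' := AddMonoidHom.ext fun w => Subtype.ext
          (show ρ 1 (w : W) = (w : W) by rw [map_one]; rfl)
        map_mul' := fun c d => AddMonoidHom.ext fun w => Subtype.ext
          (show ρ (c * d) (w : W) = ρ c (ρ d (w : W)) by rw [map_mul]; rfl) }
    let ρQ : C →* AddMonoid.End (W ⧸ U) :=
      { toFun := fun c => QuotientAddGroup.map U U (ρ c : W →+ W) fun w hw => hU c w hw
        map_one' := AddMonoidHom.ext fun q => by
          induction q using QuotientAddGroup.induction_on with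
          | _ w => show ((ρ 1 w : W) : W ⧸ U) = (w : W ⧸ U); rw [map_one]; rfl
        map_mul' := fun c d => AddMonoidHom.ext fun q => by
          induction q using QuotientAddGroup.induction_on with
          | _ w => show ((ρ (c * d) w : W) : W ⧸ U) = ((ρ c (ρ d w) : W) : W ⧸ U); rw [map_mul]; rfl }
    obtain ⟨δ₁, i₁, o₁, l₁, b₁⟩ := ih (Nat.card U) (by nlinarith) U rfl
      (fun w => Subtype.ext (by simpa using hexp w)) ρU
    obtain ⟨δ₂, i₂, o₂, l₂, b₂⟩ := ih (Nat.card (W ⧸ U)) (by nlinarith) (W ⧸ U) rfl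
      (fun q => by
        induction q using QuotientAddGroup.induction_on with
        | _ w => rw [← QuotientAddGroup.mk_nsmul, hexp]; rfl) ρQ
    have hP := pmod_prime hM
    have hLR : ∀ {δ : C → ℂ}, IntComb δ → ∀ c, MemLocalRing M (δ c) := fun {δ} hδ c => by
      obtain ⟨a, ha, hf⟩ := hδ
      rw [hf]
      refine memLocalRing_of_isIntegral hP.ne_top (IsIntegral.sum _ fun l _ => (ha l).mul ?_)
      exact root_of_unity_isIntegral (Nat.card_pos (α := C)).ne'
        (by rw [← Units.val_pow_eq_pow_val, ← map_pow, pow_card_eq_one', map_one, Units.val_one])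
    refine ⟨fun c => δ₁ c * δ₂ c, intComb_mul i₁ i₂, by linear_combination δ₂ 1 * δ₂ 1 * o₁ + o₂, ?_, ?_⟩
    · rintro c ⟨w, hw⟩
      by_cases h₁ : ∃ x, ρU c x ≠ x
      · exact memLI_mul_right hP (l₁ c h₁) (hLR i₂ c)
      refine memLI_mul_left hP (hLR i₁ c) (l₂ c ⟨(w : W ⧸ U), fun hq => hw ?_⟩)
      push Not at h₁
      have hq' : ρ c w - w ∈ U := (QuotientAddGroup.eq_iff_sub_mem).1 hq
      set d := ρ c w - w with hd
      have hfix : ρ c d = d := congrArg Subtype.val (h₁ ⟨d, hq'⟩)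
      have hpow : ∀ m : ℕ, ρ (c ^ m) w = w + m • d := fun m => by
        induction m with
        | zero => rw [pow_zero, map_one, zero_smul, add_zero]; rfl
        | succ m ihm =>
          rw [pow_succ', map_mul]
          show ρ c (ρ (c ^ m) w) = _
          rw [ihm, map_add, map_nsmul, hfix, succ_nsmul', ← add_assoc, hd, add_sub_cancel]
      have h1 : Nat.card C • d = 0 := by
        have := hpow (Nat.card C)
        rw [pow_card_eq_one', map_one] at this
        exact left_eq_add.1 this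
      have hord : addOrderOf d ∣ 1 := by
        rw [← (hp.coprime_iff_not_dvd.2 hpC : Nat.Coprime p (Nat.card C))]
        exact Nat.dvd_gcd (addOrderOf_dvd_iff_nsmul_eq_zero.2 (hexp d)) (addOrderOf_dvd_iff_nsmul_eq_zero.2 h1)
      exact sub_eq_zero.1 (AddMonoid.addOrderOf_eq_one_iff.1 (Nat.dvd_one.1 hord))
    · intro c
      obtain ⟨m₁, e₁⟩ := b₁ c
      obtain ⟨m₂, e₂⟩ := b₂ c
      refine ⟨mul_mem m₁ m₂, fun φ => ?_⟩
      have hle : Nat.card {w : W // ρ c w = w} ≤
          Nat.card {x : U // ρU c x = x} * Nat.card {q : W ⧸ U // ρQ c q = q} := by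
        let K : AddSubgroup W :=
          { carrier := {w | ρ c w = w}
            add_mem' := fun {a b} (ha : ρ c a = a) (hb : ρ c b = b) =>
              show ρ c (a + b) = a + b by rw [map_add, ha, hb]
            zero_mem' := map_zero (ρ c)
            neg_mem' := fun {a} (ha : ρ c a = a) => show ρ c (-a) = -a by rw [map_neg, ha] }
        let f : K →+ W ⧸ U := (QuotientAddGroup.mk' U).comp K.subtype
        show Nat.card K ≤ _
        rw [AddSubgroup.card_eq_card_quotient_mul_card_addSubgroup f.ker,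
          Nat.card_congr (QuotientAddGroup.quotientKerEquivRange f).toEquiv, mul_comm]
        refine Nat.mul_le_mul ?_ ?_
        · refine Nat.card_le_card_of_injective
            (fun x : f.ker => (⟨⟨(x : K), (QuotientAddGroup.eq_zero_iff _).1 x.2⟩,
              Subtype.ext (x : K).2⟩ : {x : U // ρU c x = x})) fun x y h => ?_
          exact Subtype.ext (Subtype.ext (congrArg (fun z : {x : U // ρU c x = x} => ((z : U) : W)) h))
        · refine Nat.card_le_card_of_injective
            (fun q : f.range => (⟨(q : W ⧸ U), ?_⟩ : {q : W ⧸ U // ρQ c q = q})) fun x y h => ?_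
          · obtain ⟨k, hk⟩ := q.2
            rw [← hk]
            exact congrArg (QuotientAddGroup.mk) k.2
          · exact Subtype.ext (congrArg (fun z : {q : W ⧸ U // ρQ c q = q} => (z : W ⧸ U)) h)
      rw [show (⟨δ₁ c * δ₂ c, mul_mem m₁ m₂⟩ : cyc N) = ⟨δ₁ c, m₁⟩ * ⟨δ₂ c, m₂⟩ from rfl, map_mul,
        norm_mul, mul_pow, hmul, Nat.cast_mul, mul_comm (Nat.card (W ⧸ U) : ℝ)]
      calc ‖φ ⟨δ₁ c, m₁⟩‖ ^ 2 * ‖φ ⟨δ₂ c, m₂⟩‖ ^ 2 * (Nat.card {w : W // ρ c w = w} : ℝ)
          ≤ ‖φ ⟨δ₁ c, m₁⟩‖ ^ 2 * ‖φ ⟨δ₂ c, m₂⟩‖ ^ 2 *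
              ((Nat.card {x : U // ρU c x = x} : ℝ) * Nat.card {q : W ⧸ U // ρQ c q = q}) := by
            refine mul_le_mul_of_nonneg_left ?_ (by positivity)
            exact_mod_cast hle
        _ = (‖φ ⟨δ₁ c, m₁⟩‖ ^ 2 * Nat.card {x : U // ρU c x = x}) *
              (‖φ ⟨δ₂ c, m₂⟩‖ ^ 2 * Nat.card {q : W ⧸ U // ρQ c q = q}) := by ring
        _ ≤ _ := mul_le_mul (e₁ φ) (e₂ φ) (by positivity) (by positivity)

end Delta

theorem class_number_le {X : Type u} [Group X] [Finite X] (p : ℕ) [hp : Fact p.Prime] (V : Subgroup X)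
    [hVn : V.Normal] (hVexp : ∀ v ∈ V, v ^ p = 1) (hidx : ¬ p ∣ V.index)
    (hself : Subgroup.centralizer (V : Set X) = V) (G : Subgroup X) (hGV : Subgroup.IsComplement' V G)
    (v : X) (hv : v ∈ V) (hab : ∀ a ∈ G ⊓ Subgroup.centralizer ({v} : Set X),
      ∀ b ∈ G ⊓ Subgroup.centralizer ({v} : Set X), a * b = b * a) :
    Nat.card (ConjClasses X) ≤ Nat.card V := by
  classical
  haveI := Fintype.ofFinite X
  have hVab : ∀ a ∈ V, ∀ b ∈ V, a * b = b * a := fun a ha b hb =>
    (Subgroup.mem_centralizer_iff.1 (hself.symm ▸ hb : b ∈ Subgroup.centralizer (V : Set X)) a ha)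
  by_cases hV1 : V = ⊥
  · have htop : (⊤ : Subgroup X) = ⊥ := by
      rw [← hV1, eq_comm, ← hself, Subgroup.centralizer_eq_top_iff_subset, hV1]
      simp
    haveI : Subsingleton X := ⟨fun a b => by
      have ha : a ∈ (⊥ : Subgroup X) := htop ▸ Subgroup.mem_top a
      have hb : b ∈ (⊥ : Subgroup X) := htop ▸ Subgroup.mem_top b
      rw [Subgroup.mem_bot.1 ha, Subgroup.mem_bot.1 hb]⟩
    have h2 : Nat.card (ConjClasses X) ≤ Nat.card X := Nat.card_le_card_of_surjective _ ConjClasses.mk_surjective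
    rw [Nat.card_of_subsingleton (1 : X)] at h2
    exact h2.trans Nat.card_pos
  set Cs : Subgroup X := G ⊓ Subgroup.centralizer ({v} : Set X) with hCs
  letI : CommGroup Cs := { (inferInstance : Group Cs) with mul_comm := fun a b => Subtype.ext (hab a a.2 b b.2) }
  haveI := finite_hom_units Cs
  haveI := Fintype.ofFinite (Cs →* ℂˣ)
  letI : CommGroup V := { (inferInstance : Group V) with mul_comm := fun a b => Subtype.ext (hVab a a.2 b b.2) }
  obtain ⟨M, hM⟩ := exists_pModular (p := p) hp.out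
  have hP := pmod_prime hM
  have hcv : ∀ c : Cs, (c : X) * v = v * c := fun c => (Subgroup.mem_centralizer_singleton_iff.1 c.2.2)
  have hGidx : Nat.card G = V.index := by
    exact hGV.symm.index_eq_card.symm
  have hCV : ∀ c : X, c ∈ G → c ∈ V → c = 1 := fun c hG' hV' =>
    Subgroup.mem_bot.1 (hGV.disjoint.le_bot ⟨hV', hG'⟩)
  have hpC : ¬ p ∣ Nat.card Cs := fun h => hidx (hGidx ▸ h.trans (Subgroup.card_dvd_of_le inf_le_left))
  have hpX : p ∣ Nat.card X := by
    obtain ⟨x, hx, hx1⟩ := (Subgroup.ne_bot_iff_exists_ne_one).1 hV1 |>.elim fun a ha =>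
      (⟨(a : X), a.2, fun h => ha (Subtype.ext h)⟩ : ∃ x, x ∈ V ∧ x ≠ 1)
    rw [← orderOf_eq_prime (hVexp x hx) hx1]
    exact orderOf_dvd_natCard x
  -- the virtual character
  let ρ : Cs →* AddMonoid.End (Additive V) :=
    { toFun := fun c => (MonoidHom.toAdditive (MulAut.conjNormal (H := V) (c : X)).toMonoidHom : Additive V →+ Additive V)
      map_one' := AddMonoidHom.ext fun w => congrArg Additive.ofMul
        (show MulAut.conjNormal ((1 : Cs) : X) w.toMul = w.toMul by simp)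
      map_mul' := fun c d => AddMonoidHom.ext fun w => congrArg Additive.ofMul
        (show MulAut.conjNormal ((c * d : Cs) : X) w.toMul =
          MulAut.conjNormal (c : X) (MulAut.conjNormal (d : X) w.toMul) by simp [map_mul]) }
  obtain ⟨δ, hδI, hδ1, hδM, hδb⟩ := exists_hasDelta (M := M) (N := Nat.card X) hp.out hM
    Nat.card_pos.ne' (Subgroup.card_subgroup_dvd_card Cs) hpX hpC _ (Additive V) rfl
    (fun w => Additive.toMul.injective (Subtype.ext (by
      show ((w.toMul ^ p : V) : X) = 1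
      rw [Subgroup.coe_pow]
      exact hVexp _ w.toMul.2))) ρ
  choose hδm hδn using hδb
  -- the coefficients
  set α : IrrCharacter X → ℂ := fun χ => (Fintype.card Cs : ℂ)⁻¹ * ∑ c : Cs, (χ : X → ℂ) (v * c) * δ c with hα
  have hαI : ∀ χ, IsIntegral ℤ (α χ) := fun χ => by
    refine intComb_avg (intComb_mul ?_ hδI)
    let Z : Subgroup X := Subgroup.zpowers v
    letI : CommGroup Z := IsCyclic.commGroup
    let j : Cs × Z →* X := Cs.subtype.noncommCoprod Z.subtype (fun c z => by
      obtain ⟨i, hi⟩ := Subgroup.mem_zpowers_iff.1 z.2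
      show Commute (c : X) (z : X)
      rw [← hi]
      exact (show Commute (c : X) v from hcv c).zpow_right i)
    haveI : Fintype (Cs × Z) := Fintype.ofFinite _
    haveI := finite_hom_units (Cs × Z)
    haveI := Fintype.ofFinite (Cs × Z →* ℂˣ)
    have h := intComb_comp (MonoidHom.inl Cs Z) ((1 : Cs), (⟨v, Subgroup.mem_zpowers v⟩ : Z))
      (intComb_char (isCharacter_comp j (irr_isCharacter χ.2)))
    convert h using 1
    funext c
    show _ = (χ : X → ℂ) ((((1 : Cs) * c : Cs) : X) * (((⟨v, Subgroup.mem_zpowers v⟩ : Z) * 1 : Z) : X))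
    rw [one_mul, mul_one, hcv]
  have hαm : ∀ χ, α χ ∈ cyc (Nat.card X) := fun χ =>
    mul_mem (inv_mem (natCast_mem _ _)) (sum_mem fun c _ =>
      mul_mem (char_galois (irr_isCharacter χ.2) _).1 (hδm c))
  have hord : ∃ j : ℕ, orderOf v = p ^ j := by
    obtain ⟨j, -, hj⟩ := (Nat.dvd_prime_pow hp.out).1 (orderOf_dvd_of_pow_eq_one
      (show v ^ p ^ 1 = 1 by rw [pow_one]; exact hVexp v hv))
    exact ⟨j, hj⟩
  have hδLR : ∀ c, MemLocalRing M (δ c) := fun c => by
    obtain ⟨a, ha, hf⟩ := hδI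
    rw [hf]
    refine memLocalRing_of_isIntegral hP.ne_top (IsIntegral.sum _ fun l _ => (ha l).mul ?_)
    exact root_of_unity_isIntegral (Nat.card_pos (α := Cs)).ne'
      (by rw [← Units.val_pow_eq_pow_val, ← map_pow, pow_card_eq_one', map_one, Units.val_one])
  have hα0 : ∀ χ, α χ ≠ 0 := fun χ h0 => by
    have h1 : ∑ c : Cs, (χ : X → ℂ) (v * c) * δ c = 0 :=
      (mul_eq_zero.1 h0).resolve_left (inv_ne_zero (Nat.cast_ne_zero.2 Fintype.card_ne_zero))
    rw [← Finset.add_sum_erase _ _ (Finset.mem_univ (1 : Cs))] at h1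
    have h2 : MemLocalIdeal M ((χ : X → ℂ) (v * ((1 : Cs) : X)) * δ 1) := by
      rw [eq_neg_of_add_eq_zero_left h1]
      refine memLI_neg hP (memLI_sum hP _ _ fun c hc => memLI_mul_left hP
        (memLocalRing_of_isIntegral hP.ne_top (char_isIntegral (irr_isCharacter χ.2) _)) (hδM c ?_))
      by_contra hh
      push Not at hh
      refine Finset.ne_of_mem_erase hc (Subtype.ext (hCV _ c.2.1 ?_))
      refine hself ▸ (Subgroup.mem_centralizer_iff.2 fun w hw => ?_)
      have h3 := congrArg (fun z : Additive V => ((z.toMul : V) : X)) (hh (Additive.ofMul ⟨w, hw⟩))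
      change (c : X) * w * (c : X)⁻¹ = w at h3
      exact (mul_inv_eq_iff_eq_mul.1 h3).symm
    have h3 := memLI_mul_right hP h2 (hδLR 1)
    rw [mul_assoc, hδ1, mul_one, Subgroup.coe_one, mul_one] at h3
    have h4 := memLI_congr hP (memLI_symm hP (char_congr_deg hM (irr_isCharacter χ.2) hord)) h3
    rw [char_one_eq_deg (irr_isCharacter χ.2), memLI_natCast_iff hM] at h4
    exact hidx (h4.trans (deg_dvd_index_abelian_normal χ.2 V fun a b => Subtype.ext (hVab a a.2 b b.2)))
  -- the Galois conjugates of the square sum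
  have hB : ∀ φ : cyc (Nat.card X) →ₐ[ℚ] ℂ, ∑ χ, ‖φ ⟨α χ, hαm χ⟩‖ ^ 2 ≤ (Nat.card V : ℝ) := by
    intro φ
    obtain ⟨k, hk, hφ⟩ := exists_power_of_embedding (Nat.card_pos (α := X)).ne' φ
    set d : Cs → ℂ := fun c => φ ⟨δ c, hδm c⟩ with hd
    set y : Cs → X := fun c => (v * c) ^ k with hy
    have hval : ∀ χ : IrrCharacter X, φ ⟨α χ, hαm χ⟩ =
        (Fintype.card Cs : ℂ)⁻¹ * ∑ c : Cs, (χ : X → ℂ) (y c) * d c := fun χ => by
      rw [show (⟨α χ, hαm χ⟩ : cyc (Nat.card X)) = (Fintype.card Cs : cyc (Nat.card X))⁻¹ *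
          ∑ c : Cs, (⟨(χ : X → ℂ) (v * c), (char_galois (irr_isCharacter χ.2) _).1⟩ : cyc (Nat.card X)) *
            ⟨δ c, hδm c⟩ by ext; simp [hα]]
      rw [map_mul, map_inv₀, map_natCast, map_sum]
      congr 1
      refine Finset.sum_congr rfl fun c _ => ?_
      rw [map_mul, (char_galois (irr_isCharacter χ.2) _).2 φ k hφ]
    have hcy : ∀ c : Cs, y c = v ^ k * (c : X) ^ k := fun c => (show Commute v (c : X) from (hcv c).symm).mul_pow k
    -- conjugating inside the set
    have hkey : ∀ (c c' : Cs) (g : X), g * y c * g⁻¹ = y c' →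
        c = c' ∧ ∃ w : V, ∃ h : Cs, g = w * h ∧ ρ c (Additive.ofMul w) = Additive.ofMul w := by
      intro c c' g hg
      rw [hcy, hcy] at hg
      have hcomm1 : ∀ c : Cs, Commute (v ^ k) ((c : X) ^ k) := fun c =>
        (show Commute v (c : X) from (hcv c).symm).pow_pow k k
      have hgv : g * v * g⁻¹ = v := by
        have h1 := congrArg (· ^ Nat.card Cs) hg
        simp only [conj_pow, (hcomm1 _).mul_pow, ← pow_mul] at h1
        have hc0 : ∀ c : Cs, (c : X) ^ (k * Nat.card Cs) = 1 := fun c => by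
          rw [mul_comm, pow_mul, ← Subgroup.coe_pow, pow_card_eq_one', Subgroup.coe_one, one_pow]
        simp only [hc0, mul_one] at h1
        have hco : (k * Nat.card Cs).Coprime (orderOf v) :=
          Nat.Coprime.mul_left (hk.coprime_dvd_right (orderOf_dvd_natCard v))
            ((hp.out.coprime_iff_not_dvd.2 hpC).symm.coprime_dvd_right
              (orderOf_dvd_of_pow_eq_one (hVexp v hv)))
        obtain ⟨m, hm⟩ := exists_pow_eq_self_of_coprime (x := v) hco
        have h2 := congrArg (· ^ m) h1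
        simpa only [conj_pow, hm] using h2
      obtain ⟨⟨w, h⟩, hwh⟩ := hGV.2 g
      simp only at hwh
      have hh : (h : X) ∈ Cs := by
        refine ⟨h.2, Subgroup.mem_centralizer_singleton_iff.2 ?_⟩
        have e1 : (h : X) * v * (h : X)⁻¹ = (w : X)⁻¹ * v * w := by
          calc (h : X) * v * (h : X)⁻¹ = (w : X)⁻¹ * ((w * h) * v * (w * h : X)⁻¹) * w := by group
            _ = _ := by rw [hwh, hgv]
        rw [hVab _ (V.inv_mem w.2) _ hv, inv_mul_cancel_right] at e1
        exact mul_inv_eq_iff_eq_mul.1 e1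
      set hC : Cs := ⟨h, hh⟩
      have hck : ∀ c : Cs, (hC : X) * (c : X) * (hC : X)⁻¹ = c := fun c => by
        rw [hab _ hC.2 _ c.2, mul_inv_cancel_right]
      have e2 : (w : X) * (c : X) ^ k * (w : X)⁻¹ = (c' : X) ^ k := by
        have e3 : g * (v ^ k * (c : X) ^ k) * g⁻¹ = v ^ k * ((w : X) * (c : X) ^ k * (w : X)⁻¹) := by
          rw [← hwh]
          calc (w : X) * h * (v ^ k * (c : X) ^ k) * ((w : X) * h)⁻¹
              = (w : X) * (((h : X) * v * (h : X)⁻¹) ^ k * ((h : X) * c * (h : X)⁻¹) ^ k) * (w : X)⁻¹ := by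
                simp only [conj_pow]; group
            _ = ((w : X) * v ^ k * (w : X)⁻¹) * ((w : X) * (c : X) ^ k * (w : X)⁻¹) := by
                rw [show (h : X) * v * (h : X)⁻¹ = v from mul_inv_eq_iff_eq_mul.2 (hcv hC),
                  show (h : X) * (c : X) * (h : X)⁻¹ = c from hck c]
                group
            _ = _ := by rw [hVab _ w.2 _ (V.pow_mem hv k), mul_inv_cancel_right]
        exact mul_left_cancel (e3.symm.trans hg)
      have e4 : (c' : X) ^ k * ((c : X) ^ k)⁻¹ ∈ V := by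
        rw [← e2, show (w : X) * (c : X) ^ k * (w : X)⁻¹ * ((c : X) ^ k)⁻¹ =
          (w : X) * ((c : X) ^ k * (w : X)⁻¹ * ((c : X) ^ k)⁻¹) by group]
        exact V.mul_mem w.2 (hVn.conj_mem _ (V.inv_mem w.2) _)
      have e5 : c' ^ k = c ^ k := Subtype.ext (by
        rw [Subgroup.coe_pow, Subgroup.coe_pow]
        exact mul_inv_eq_one.1 (hCV _ (G.mul_mem (G.pow_mem c'.2.1 k) (G.inv_mem (G.pow_mem c.2.1 k))) e4))
      have hcc : c = c' :=
        ((powCoprime (hk.coprime_dvd_right (Subgroup.card_subgroup_dvd_card Cs)).symm).injective e5).symm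
      refine ⟨hcc, w, hC, hwh.symm, ?_⟩
      subst hcc
      obtain ⟨m, hm⟩ := exists_pow_eq_self_of_coprime (x := (c : X))
        (hk.coprime_dvd_right (orderOf_dvd_natCard (c : X)))
      have e6 : Commute (w : X) ((c : X) ^ k) := mul_inv_eq_iff_eq_mul.1 e2
      have e7 := e6.pow_right m
      rw [hm] at e7
      refine congrArg Additive.ofMul (Subtype.ext ?_)
      show (c : X) * w * (c : X)⁻¹ = w
      rw [← e7.eq, mul_inv_cancel_right]
    -- the column sums
    have hcol : ∀ c c' : Cs, ∑ χ : IrrCharacter X, (χ : X → ℂ) (y c) * conj ((χ : X → ℂ) (y c')) =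
        if c = c' then (Nat.card (Subgroup.centralizer ({y c} : Set X)) : ℂ) else 0 := by
      intro c c'
      rw [second_orth]
      by_cases hcc : c = c'
      · subst hcc
        rw [if_pos (IsConj.refl _), if_pos rfl, div_eq_iff (Nat.cast_ne_zero.2 (card_conjClass_ne_zero _)),
          ← Nat.cast_mul]
        rw [mul_comm, card_conjClass_mul_centralizer]
      · rw [if_neg hcc, if_neg]
        intro hconj
        obtain ⟨g, hg⟩ := isConj_iff.1 hconj
        exact hcc (hkey c c' g hg).1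
    have hcent : ∀ c : Cs, Nat.card (Subgroup.centralizer ({y c} : Set X)) ≤
        Nat.card {w : Additive V // ρ c w = w} * Nat.card Cs := by
      intro c
      have hg : ∀ g : Subgroup.centralizer ({y c} : Set X), (g : X) * y c * (g : X)⁻¹ = y c := fun g => by
        rw [Subgroup.mem_centralizer_singleton_iff.1 g.2, mul_inv_cancel_right]
      choose w h hw hf using fun g : Subgroup.centralizer ({y c} : Set X) => (hkey c c (g : X) (hg g)).2
      rw [← Nat.card_prod]
      refine Nat.card_le_card_of_injective (fun g => ((⟨Additive.ofMul (w g), hf g⟩ : {w // ρ c w = w}), h g))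
        fun a b hab' => Subtype.ext ?_
      rw [hw a, hw b, show w a = w b from congrArg (fun z => (z.1.1 : Additive V).toMul) hab',
        show h a = h b from congrArg Prod.snd hab']
    -- expand
    have hsum : ((∑ χ, ‖φ ⟨α χ, hαm χ⟩‖ ^ 2 : ℝ) : ℂ) = (((Fintype.card Cs : ℝ)⁻¹) ^ 2 *
        ∑ c : Cs, ‖d c‖ ^ 2 * (Nat.card (Subgroup.centralizer ({y c} : Set X)) : ℝ) : ℝ) := by
      push_cast
      simp only [hval, ← Complex.mul_conj', map_mul, map_inv₀, map_natCast, map_sum]
      calc ∑ χ : IrrCharacter X, (Fintype.card Cs : ℂ)⁻¹ * (∑ c, (χ : X → ℂ) (y c) * d c) *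
            ((Fintype.card Cs : ℂ)⁻¹ * ∑ c', conj ((χ : X → ℂ) (y c')) * conj (d c'))
          = ((Fintype.card Cs : ℂ)⁻¹) ^ 2 * ∑ c, ∑ c', d c * conj (d c') *
              ∑ χ : IrrCharacter X, (χ : X → ℂ) (y c) * conj ((χ : X → ℂ) (y c')) := by
            simp only [Finset.mul_sum, Finset.sum_mul]
            conv_rhs => rw [Finset.sum_comm]
            rw [Finset.sum_comm]
            refine Finset.sum_congr rfl fun c _ => ?_
            rw [Finset.sum_comm]
            exact Finset.sum_congr rfl fun χ _ => Finset.sum_congr rfl fun c' _ => by ring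
        _ = _ := by
            simp only [hcol, mul_ite, mul_zero, Finset.sum_ite_eq, Finset.mem_univ, if_true]
    have hsum' := Complex.ofReal_injective hsum
    rw [hsum']
    have hterm : ∀ c : Cs, ‖d c‖ ^ 2 * (Nat.card (Subgroup.centralizer ({y c} : Set X)) : ℝ) ≤
        (Nat.card V : ℝ) * Fintype.card Cs := fun c => by
      calc ‖d c‖ ^ 2 * (Nat.card (Subgroup.centralizer ({y c} : Set X)) : ℝ)
          ≤ ‖d c‖ ^ 2 * ((Nat.card {w : Additive V // ρ c w = w} : ℝ) * Nat.card Cs) := by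
            refine mul_le_mul_of_nonneg_left ?_ (by positivity)
            exact_mod_cast hcent c
        _ ≤ _ := by
            rw [← mul_assoc, Nat.card_eq_fintype_card (α := Cs)]
            exact mul_le_mul_of_nonneg_right (hδn c φ) (Nat.cast_nonneg _)
    refine (mul_le_mul_of_nonneg_left (Finset.sum_le_sum fun c _ => hterm c) (by positivity)).trans ?_
    rw [Finset.sum_const, nsmul_eq_mul, Finset.card_univ]
    have : (Fintype.card Cs : ℝ) ≠ 0 := Nat.cast_ne_zero.2 Fintype.card_ne_zero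
    field_simp
    exact le_refl _
  have h := card_le_of_galois_bound (Nat.card_pos (α := X)).ne' α hαm hαI hα0 _ hB
  rw [← card_irr, Nat.card_eq_fintype_card]
  exact_mod_cast h

end Cfsg.Agent.Char.KGV
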