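import Cfsg.Agent.Lib.Char.KGVAbelian
import Cfsg.Agent.Lib.Char.IndValue
import Cfsg.Agent.Lib.Char.ExtraspecialChar

/-!
# `k(GV) ≤ |V|` from a virtual character of a stabilizer

The class function `δ` may have coefficients with powers of `p` in the denominators; its values are
algebraic integers.
-/

set_option autoImplicit false
set_option linter.unusedSectionVars false
set_option linter.style.haveILetI false

namespace Cfsg.Agent.Char.KGV

open Cfsg
open scoped ComplexConjugate

universe u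

section GComb

variable {C : Type u} [Group C] [Fintype C]

/-- A combination of irreducible characters with algebraic integer coefficients. -/
def GComb (f : C → ℂ) : Prop :=
  ∃ a : IrrCharacter C → ℂ, (∀ μ, IsIntegral ℤ (a μ)) ∧ ∀ c, f c = ∑ μ, a μ * (μ : C → ℂ) c

theorem isIntegral_natCast' (n : ℕ) : IsIntegral ℤ (n : ℂ) :=
  (map_natCast (algebraMap ℤ ℂ) n) ▸ isIntegral_algebraMap

theorem gComb_char {χ : C → ℂ} (h : IsCharacter C χ) {z : ℂ} (hz : IsIntegral ℤ z) :
    GComb fun c => z * χ c := by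
  choose n hn using fun μ : IrrCharacter C => classInner_natCast h (irr_isCharacter μ.2)
  refine ⟨fun μ => z * n μ, fun μ => hz.mul (isIntegral_natCast' _), fun c => ?_⟩
  dsimp only
  conv_lhs => rw [char_expansion h]
  simp only [Finset.sum_apply, Pi.smul_apply, smul_eq_mul, hn, Finset.mul_sum, mul_assoc]

theorem gComb_const {z : ℂ} (hz : IsIntegral ℤ z) : GComb (fun _ : C => z) := by
  simpa using gComb_char (C := C) isCharacter_one hz

theorem gComb_sum {ι : Type*} (s : Finset ι) (f : ι → C → ℂ) (h : ∀ i ∈ s, GComb (f i)) :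
    GComb fun c => ∑ i ∈ s, f i c := by
  classical
  induction s using Finset.induction_on with
  | empty => simpa using gComb_const (C := C) isIntegral_zero
  | insert i s hi ih =>
    obtain ⟨a, ha, hf⟩ := h i (Finset.mem_insert_self i s)
    obtain ⟨b, hb, hg⟩ := ih fun j hj => h j (Finset.mem_insert_of_mem hj)
    refine ⟨a + b, fun l => (ha l).add (hb l), fun c => ?_⟩
    simp only [Finset.sum_insert hi, hf, hg, ← Finset.sum_add_distrib]
    simp [add_mul]

theorem gComb_add {f g : C → ℂ} (hf : GComb f) (hg : GComb g) : GComb fun c => f c + g c := by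
  obtain ⟨a, ha, hf⟩ := hf
  obtain ⟨b, hb, hg⟩ := hg
  refine ⟨a + b, fun l => (ha l).add (hb l), fun c => ?_⟩
  simp [hf, hg, add_mul, Finset.sum_add_distrib]

theorem gComb_mul {f g : C → ℂ} (hf : GComb f) (hg : GComb g) : GComb fun c => f c * g c := by
  obtain ⟨a, ha, hfa⟩ := hf
  obtain ⟨b, hb, hgb⟩ := hg
  have e : (fun c => f c * g c) = fun c => ∑ l : IrrCharacter C, ∑ m : IrrCharacter C,
      (a l * b m) * ((l : C → ℂ) c * (m : C → ℂ) c) := by
    funext c
    rw [hfa, hgb, Finset.sum_mul_sum]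
    exact Finset.sum_congr rfl fun l _ => Finset.sum_congr rfl fun m _ => by ring
  rw [e]
  exact gComb_sum _ _ fun l _ => gComb_sum _ _ fun m _ =>
    gComb_char (isCharacter_mul (irr_isCharacter l.2) (irr_isCharacter m.2)) ((ha l).mul (hb m))

theorem gComb_smul {f : C → ℂ} (hf : GComb f) {z : ℂ} (hz : IsIntegral ℤ z) : GComb fun c => z * f c :=
  gComb_mul (gComb_const hz) hf

theorem gComb_class {f : C → ℂ} (hf : GComb f) (g x : C) : f (x * g * x⁻¹) = f g := by
  obtain ⟨a, -, hfa⟩ := hf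
  rw [hfa, hfa]
  exact Finset.sum_congr rfl fun μ _ => by rw [isClassFunction_character (irr_isCharacter μ.2) g x]

theorem gComb_avg {f : C → ℂ} (hf : GComb f) : IsIntegral ℤ ((Fintype.card C : ℂ)⁻¹ * ∑ c, f c) := by
  obtain ⟨a, ha, hfa⟩ := hf
  simp only [hfa]
  rw [Finset.sum_comm, Finset.mul_sum]
  refine IsIntegral.sum _ fun μ _ => ?_
  rw [← Finset.mul_sum, mul_left_comm]
  refine (ha μ).mul ?_
  obtain ⟨n, hn⟩ := classInner_natCast (irr_isCharacter μ.2) (isCharacter_one (G := C))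
  have : (Fintype.card C : ℂ)⁻¹ * ∑ c, (μ : C → ℂ) c = (n : ℂ) := by
    rw [← hn, classInner, ← Nat.card_eq_fintype_card]
    simp
  rw [this]
  exact isIntegral_natCast' n

/-- The number of fixed points is a character. -/
theorem isCharacter_card_fixed {X : Type*} [Fintype X] [DecidableEq X] (π : C →* Equiv.Perm X) :
    IsCharacter C fun c => (((Finset.univ.filter fun x => π c x = x).card : ℕ) : ℂ) := by
  classical
  let ρ : Representation ℂ C (X → ℂ) :=
    { toFun := fun c => LinearMap.funLeft ℂ ℂ (π c⁻¹)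
      map_one' := by ext f x; simp
      map_mul' := fun a b => by ext f x; simp [mul_inv_rev] }
  have h := isCharacter_character ρ
  convert h using 1
  funext c
  rw [Representation.character, LinearMap.trace_eq_matrix_trace ℂ (Pi.basisFun ℂ X), Matrix.trace]
  simp only [Matrix.diag, LinearMap.toMatrix_apply, Pi.basisFun_apply, Pi.basisFun_repr]
  rw [Finset.natCast_card_filter]
  refine Finset.sum_congr rfl fun x _ => ?_
  show _ = (Pi.single x (1 : ℂ) : X → ℂ) (π c⁻¹ x)
  rw [Pi.single_apply]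
  refine if_congr ?_ rfl rfl
  rw [map_inv, Equiv.Perm.inv_def, Equiv.symm_apply_eq, eq_comm]

/-- Sums of an invariant function over fixed points. -/
theorem gComb_fixedSum {X : Type*} [Fintype X] [DecidableEq X] (π : C →* Equiv.Perm X) (f : X → ℂ)
    (hf : ∀ x, IsIntegral ℤ (f x)) (hinv : ∀ c x, f (π c x) = f x) :
    GComb fun c => ∑ x ∈ Finset.univ.filter (fun x => π c x = x), f x := by
  classical
  have hmem : ∀ (z : ℂ) (c : C) (x : X), f x = z ↔ f (π c x) = z := fun z c x => by rw [hinv]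
  let πz : ∀ _z : ℂ, C →* Equiv.Perm {x : X // f x = _z} := fun z =>
    { toFun := fun c => (π c).subtypePerm fun x => (hmem z c x).symm
      map_one' := by ext x; simp
      map_mul' := fun a b => Equiv.ext fun x => Subtype.ext (show π (a * b) (x : X) = π a (π b (x : X)) by rw [map_mul]; rfl) }
  have e : ∀ c, ∑ x ∈ Finset.univ.filter (fun x => π c x = x), f x = ∑ z ∈ Finset.univ.image f,
      z * (((Finset.univ.filter fun x : {x : X // f x = z} => πz z c x = x).card : ℕ) : ℂ) := by
    intro c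
    rw [← Finset.sum_fiberwise_of_maps_to (g := f) (t := Finset.univ.image f)
      (fun x _ => Finset.mem_image_of_mem f (Finset.mem_univ x))]
    refine Finset.sum_congr rfl fun z _ => ?_
    rw [Finset.sum_congr rfl fun x hx => (Finset.mem_filter.1 hx).2, Finset.sum_const, nsmul_eq_mul,
      mul_comm]
    congr 2
    refine (Finset.card_bij (fun (x : {x : X // f x = z}) _ => (x : X)) (fun x hx => ?_)
      (fun x _ y _ h => Subtype.ext h) fun x hx => ?_).symm
    · simp only [Finset.mem_filter, Finset.mem_univ, true_and] at hx ⊢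
      exact ⟨congrArg Subtype.val hx, x.2⟩
    · simp only [Finset.mem_filter, Finset.mem_univ, true_and] at hx
      exact ⟨⟨x, hx.2⟩, Finset.mem_filter.2 ⟨Finset.mem_univ _, Subtype.ext hx.1⟩, rfl⟩
  simp only [e]
  refine gComb_sum _ _ fun z hz => ?_
  obtain ⟨x, -, rfl⟩ := Finset.mem_image.1 hz
  exact gComb_char (isCharacter_card_fixed (πz (f x))) (hf x)

/-- A function taking powers of `p` as values has an inverse up to a power of `p`. -/
theorem gComb_inverse {p : ℕ} {P : C → ℂ} (hP : GComb P) (h : ∀ c, ∃ j : ℕ, P c = (p : ℂ) ^ j) :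
    ∃ (R : C → ℂ) (k : ℕ), GComb R ∧ ∀ c, P c * R c = (p : ℂ) ^ k := by
  classical
  choose j hj using h
  suffices hs : ∀ s : Finset ℕ, ∃ (R : C → ℂ) (k : ℕ), GComb R ∧ ∀ c, j c ∈ s → P c * R c = (p : ℂ) ^ k by
    obtain ⟨R, k, hR, hk⟩ := hs (Finset.univ.image j)
    exact ⟨R, k, hR, fun c => hk c (Finset.mem_image_of_mem j (Finset.mem_univ c))⟩
  intro s
  induction s using Finset.induction_on with
  | empty => exact ⟨fun _ => 0, 0, gComb_const isIntegral_zero, fun c hc => absurd hc (Finset.notMem_empty _)⟩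
  | insert i s _ ih =>
    obtain ⟨R, k, hR, hk⟩ := ih
    have hp : ∀ n : ℕ, IsIntegral ℤ ((p : ℂ) ^ n) := fun n => (isIntegral_natCast' p).pow n
    refine ⟨fun c => (p : ℂ) ^ i * R c + ((p : ℂ) ^ k + (-1) * (P c * R c)), i + k,
      gComb_add (gComb_smul hR (hp i)) (gComb_add (gComb_const (hp k))
        (gComb_smul (gComb_mul hP hR) isIntegral_one.neg)), fun c hc => ?_⟩
    rcases Finset.mem_insert.1 hc with h1 | h1
    · dsimp only
      rw [hj c, h1, pow_add]; ring
    · rw [pow_add]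
      linear_combination ((p : ℂ) ^ i - P c) * hk c h1

/-- A combination with powers of `p` allowed in the denominators. -/
def PComb (p : ℕ) (f : C → ℂ) : Prop := ∃ k : ℕ, GComb fun c => (p : ℂ) ^ k * f c

theorem pComb_mul {p : ℕ} {f g : C → ℂ} (hf : PComb p f) (hg : PComb p g) :
    PComb p fun c => f c * g c := by
  obtain ⟨k, hf⟩ := hf
  obtain ⟨l, hg⟩ := hg
  refine ⟨k + l, ?_⟩
  convert gComb_mul hf hg using 1
  funext c
  ring

theorem pComb_class {p : ℕ} (hp : p ≠ 0) {f : C → ℂ} (hf : PComb p f) (g x : C) :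
    f (x * g * x⁻¹) = f g := by
  obtain ⟨k, hf⟩ := hf
  exact mul_left_cancel₀ (pow_ne_zero k (Nat.cast_ne_zero.2 hp)) (gComb_class hf g x)

theorem pComb_avg {p : ℕ} (hp : p.Prime) (hC : ¬ p ∣ Nat.card C) {f : C → ℂ} (hf : PComb p f)
    (hI : ∀ c, IsIntegral ℤ (f c)) : IsIntegral ℤ ((Fintype.card C : ℂ)⁻¹ * ∑ c, f c) := by
  obtain ⟨k, hf⟩ := hf
  have h1 := gComb_avg hf
  rw [← Finset.mul_sum, mul_left_comm] at h1
  have hco : (p ^ k).Coprime (Fintype.card C) :=
    ((hp.coprime_iff_not_dvd.2 (by rwa [← Nat.card_eq_fintype_card])).pow_left k)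
  obtain ⟨a, b, hab⟩ : ∃ a b : ℤ, a * (p ^ k : ℕ) + b * (Fintype.card C : ℕ) = 1 :=
    (Int.isCoprime_iff_gcd_eq_one.2 (by exact_mod_cast hco))
  set S := ∑ c, f c
  have hc : (Fintype.card C : ℂ) ≠ 0 := Nat.cast_ne_zero.2 Fintype.card_ne_zero
  have e : (Fintype.card C : ℂ)⁻¹ * S = (a : ℂ) * ((p : ℂ) ^ k * ((Fintype.card C : ℂ)⁻¹ * S)) + (b : ℂ) * S := by
    have hab' : (a : ℂ) * (p : ℂ) ^ k + (b : ℂ) * Fintype.card C = 1 := by exact_mod_cast hab
    field_simp
    linear_combination -S * hab'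
  rw [e]
  have hz : ∀ z : ℤ, IsIntegral ℤ (z : ℂ) := fun z => (eq_intCast (algebraMap ℤ ℂ) z) ▸ isIntegral_algebraMap
  exact ((hz a).mul h1).add ((hz b).mul (IsIntegral.sum _ fun c _ => hI c))

/-- The class function attached to an action of `C` on a finite abelian `p`-group. -/
def HasClassDelta (p N : ℕ) (M : Ideal AlgInt) {W : Type*} (act : C → W → W) : Prop :=
  ∃ δ : C → ℂ, (∀ c, IsIntegral ℤ (δ c)) ∧ PComb p δ ∧ ¬ MemLocalIdeal M (δ 1) ∧
    (∀ c, (∃ w, act c w ≠ w) → MemLocalIdeal M (δ c)) ∧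
    ∀ c, ∃ hm : δ c ∈ cyc N, ∀ φ : cyc N →ₐ[ℚ] ℂ,
      ‖φ ⟨δ c, hm⟩‖ ^ 2 * (Nat.card {w : W // act c w = w} : ℝ) ≤ Nat.card W

end GComb

/-- The counting step. -/
theorem class_number_le_of_delta {X : Type u} [Group X] [Finite X] (p : ℕ) [hp : Fact p.Prime]
    (V : Subgroup X) [hVn : V.Normal] (hVexp : ∀ v ∈ V, v ^ p = 1) (hidx : ¬ p ∣ V.index)
    (hVab : ∀ a ∈ V, ∀ b ∈ V, a * b = b * a) (G : Subgroup X) (hGV : Subgroup.IsComplement' V G)
    (v : X) (hv : v ∈ V) (M : Ideal AlgInt) (hM : IsPModular p M)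
    (Cs : Subgroup X) (hCs : Cs = G ⊓ Subgroup.centralizer ({v} : Set X)) [Fintype Cs]
    (δ : Cs → ℂ) (hδI : ∀ c, IsIntegral ℤ (δ c))
    (hδP : PComb p δ) (hδ1 : ¬ MemLocalIdeal M (δ 1)) (hδM : ∀ c, c ≠ 1 → MemLocalIdeal M (δ c))
    (hδb : ∀ c : Cs, ∃ hm : δ c ∈ cyc (Nat.card X),
      ∀ φ : cyc (Nat.card X) →ₐ[ℚ] ℂ,
        ‖φ ⟨δ c, hm⟩‖ ^ 2 * (Nat.card {w : V // (c : X) * w = w * c} : ℝ) ≤ Nat.card V) :
    Nat.card (ConjClasses X) ≤ Nat.card V := by
  classical
  haveI := Fintype.ofFinite X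
  choose hδm hδn using hδb
  have hP := pmod_prime hM
  have hmem : ∀ c : Cs, (c : X) ∈ G ⊓ Subgroup.centralizer ({v} : Set X) := fun c => hCs.le c.2
  have hcv : ∀ c : Cs, (c : X) * v = v * c := fun c => (Subgroup.mem_centralizer_singleton_iff.1 (hmem c).2)
  have hGidx : Nat.card G = V.index := hGV.symm.index_eq_card.symm
  have hCV : ∀ c : X, c ∈ G → c ∈ V → c = 1 := fun c hG' hV' =>
    Subgroup.mem_bot.1 (hGV.disjoint.le_bot ⟨hV', hG'⟩)
  have hpC : ¬ p ∣ Nat.card Cs := fun h => hidx (hGidx ▸ h.trans (Subgroup.card_dvd_of_le (hCs.le.trans inf_le_left)))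
  -- the coefficients
  set α : IrrCharacter X → ℂ := fun χ => (Fintype.card Cs : ℂ)⁻¹ * ∑ c : Cs, (χ : X → ℂ) (v * c) * δ c with hα
  have hαI : ∀ χ, IsIntegral ℤ (α χ) := fun χ => by
    refine pComb_avg hp.out hpC (pComb_mul ⟨0, ?_⟩ hδP) fun c => (char_isIntegral (irr_isCharacter χ.2) _).mul (hδI c)
    simp only [pow_zero, one_mul]
    let Z : Subgroup X := Subgroup.zpowers v
    let j : Cs × Z →* X := Cs.subtype.noncommCoprod Z.subtype (fun c z => by
      obtain ⟨i, hi⟩ := Subgroup.mem_zpowers_iff.1 z.2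
      show Commute (c : X) (z : X)
      rw [← hi]
      exact (show Commute (c : X) v from hcv c).zpow_right i)
    haveI : Fintype (Cs × Z) := Fintype.ofFinite _
    have hj := isCharacter_comp j (irr_isCharacter χ.2)
    have hz : ((1 : Cs), (⟨v, Subgroup.mem_zpowers v⟩ : Z)) ∈ Subgroup.center (Cs × Z) := by
      rw [Subgroup.mem_center_iff]
      rintro ⟨a, b⟩
      refine Prod.ext (by simp) ?_
      show b * _ = _ * b
      exact (IsCyclic.commGroup (α := Z)).mul_comm _ _
    choose n hn using fun μ : IrrCharacter (Cs × Z) => classInner_natCast hj (irr_isCharacter μ.2)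
    choose ω hω1 hω using fun μ : IrrCharacter (Cs × Z) => char_mul_central μ.2 hz
    have e : ∀ c : Cs, (χ : X → ℂ) (v * c) =
        ∑ μ : IrrCharacter (Cs × Z), ((n μ : ℂ) * ω μ) * (μ : Cs × Z → ℂ) (c, 1) := fun c => by
      have h1 := congrFun (char_expansion hj) ((c, 1) * ((1 : Cs), (⟨v, Subgroup.mem_zpowers v⟩ : Z)))
      simp only [Finset.sum_apply, Pi.smul_apply, smul_eq_mul, hn, hω] at h1
      have h2 : j ((c, 1) * ((1 : Cs), (⟨v, Subgroup.mem_zpowers v⟩ : Z))) = (c : X) * v := by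
        simp [j]
      rw [show (v : X) * c = c * v from (hcv c).symm, ← h2]
      refine h1.trans (Finset.sum_congr rfl fun μ _ => ?_)
      ring
    simp only [e]
    refine gComb_sum _ _ fun μ _ => ?_
    refine gComb_char (isCharacter_comp (MonoidHom.inl Cs Z) (irr_isCharacter μ.2))
      ((isIntegral_natCast' _).mul ?_)
    -- the scalar is a root of unity
    have hpow : ∀ (m : ℕ) (x : Cs × Z),
        (μ : Cs × Z → ℂ) (x * ((1 : Cs), (⟨v, Subgroup.mem_zpowers v⟩ : Z)) ^ m) = ω μ ^ m * (μ : Cs × Z → ℂ) x := by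
      intro m
      induction m with
      | zero => intro x; simp
      | succ m ihm => intro x; rw [pow_succ, ← mul_assoc, hω, ihm, pow_succ]; ring
    refine root_of_unity_isIntegral (Nat.card_pos (α := Cs × Z)).ne' ?_
    refine mul_right_cancel₀ (irr_one_ne_zero μ.2) ?_
    rw [← hpow, one_mul, one_mul, pow_card_eq_one']
  have hαm : ∀ χ, α χ ∈ cyc (Nat.card X) := fun χ =>
    mul_mem (inv_mem (natCast_mem _ _)) (sum_mem fun c _ =>
      mul_mem (char_galois (irr_isCharacter χ.2) _).1 (hδm c))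
  have hord : ∃ j : ℕ, orderOf v = p ^ j := by
    obtain ⟨j, -, hj⟩ := (Nat.dvd_prime_pow hp.out).1 (orderOf_dvd_of_pow_eq_one
      (show v ^ p ^ 1 = 1 by rw [pow_one]; exact hVexp v hv))
    exact ⟨j, hj⟩
  have hLR : ∀ {z : ℂ}, IsIntegral ℤ z → MemLocalRing M z := fun h => memLocalRing_of_isIntegral hP.ne_top h
  have hα0 : ∀ χ, α χ ≠ 0 := fun χ h0 => by
    have h1 : ∑ c : Cs, (χ : X → ℂ) (v * c) * δ c = 0 :=
      (mul_eq_zero.1 h0).resolve_left (inv_ne_zero (Nat.cast_ne_zero.2 Fintype.card_ne_zero))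
    rw [← Finset.add_sum_erase _ _ (Finset.mem_univ (1 : Cs))] at h1
    have h2 : MemLocalIdeal M ((χ : X → ℂ) v * δ 1) := by
      have h3 : MemLocalIdeal M ((χ : X → ℂ) (v * ((1 : Cs) : X)) * δ 1) := by
        rw [eq_neg_of_add_eq_zero_left h1]
        exact memLI_neg hP (memLI_sum hP _ _ fun c hc => memLI_mul_left hP
          (hLR (char_isIntegral (irr_isCharacter χ.2) _)) (hδM c (Finset.ne_of_mem_erase hc)))
      simpa using h3
    rcases memLI_mul_mem hP (hLR (char_isIntegral (irr_isCharacter χ.2) v)) (hLR (hδI 1)) h2 with h3 | h3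
    · have h4 := memLI_congr hP (memLI_symm hP (char_congr_deg hM (irr_isCharacter χ.2) hord)) h3
      rw [char_one_eq_deg (irr_isCharacter χ.2), memLI_natCast_iff hM] at h4
      exact hidx (h4.trans (deg_dvd_index_abelian_normal χ.2 V fun a b => Subtype.ext (hVab a a.2 b b.2)))
    · exact hδ1 h3
  have hB : ∀ φ : cyc (Nat.card X) →ₐ[ℚ] ℂ, ∑ χ, ‖φ ⟨α χ, hαm χ⟩‖ ^ 2 ≤ (Nat.card V : ℝ) := by
    intro φ
    obtain ⟨k, hk, hφ⟩ := exists_power_of_embedding (Nat.card_pos (α := X)).ne' φ
    set d : Cs → ℂ := fun c => φ ⟨δ c, hδm c⟩ with hd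
    set y : Cs → X := fun c => (v * c) ^ k with hy
    have hval : ∀ χ : IrrCharacter X, φ ⟨α χ, hαm χ⟩ =
        (Fintype.card Cs : ℂ)⁻¹ * ∑ c : Cs, (χ : X → ℂ) (y c) * d c := fun χ => by
      rw [show (⟨α χ, hαm χ⟩ : cyc (Nat.card X)) = (Fintype.card Cs : cyc (Nat.card X))⁻¹ *
          ∑ c : Cs, (⟨(χ : X → ℂ) (v * c), (char_galois (irr_isCharacter χ.2) _).1⟩ : cyc (Nat.card X)) *
            ⟨δ c, hδm c⟩ by ext; simp [hα]]
      rw [map_mul, map_inv₀, map_natCast, map_sum]
      congr 1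
      refine Finset.sum_congr rfl fun c _ => ?_
      rw [map_mul, (char_galois (irr_isCharacter χ.2) _).2 φ k hφ]
    have hcy : ∀ c : Cs, y c = v ^ k * (c : X) ^ k := fun c => (show Commute v (c : X) from (hcv c).symm).mul_pow k
    have hpowinj : Function.Injective fun c : Cs => c ^ k :=
      (powCoprime (hk.coprime_dvd_right (Subgroup.card_subgroup_dvd_card Cs)).symm).injective
    -- conjugating inside the set
    have hkey : ∀ (c c' : Cs) (g : X), g * y c * g⁻¹ = y c' →
        ∃ h : Cs, h * c * h⁻¹ = c' ∧ (c = c' → ∃ w : V, g = w * h ∧ (c : X) * w = w * c) := by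
      intro c c' g hg
      rw [hcy, hcy] at hg
      have hcomm1 : ∀ c : Cs, Commute (v ^ k) ((c : X) ^ k) := fun c =>
        (show Commute v (c : X) from (hcv c).symm).pow_pow k k
      have hgv : g * v * g⁻¹ = v := by
        have h1 := congrArg (· ^ Nat.card Cs) hg
        simp only [conj_pow, (hcomm1 _).mul_pow, ← pow_mul] at h1
        have hc0 : ∀ c : Cs, (c : X) ^ (k * Nat.card Cs) = 1 := fun c => by
          rw [mul_comm, pow_mul, ← Subgroup.coe_pow, pow_card_eq_one', Subgroup.coe_one, one_pow]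
        simp only [hc0, mul_one] at h1
        have hco : (k * Nat.card Cs).Coprime (orderOf v) :=
          Nat.Coprime.mul_left (hk.coprime_dvd_right (orderOf_dvd_natCard v))
            ((hp.out.coprime_iff_not_dvd.2 hpC).symm.coprime_dvd_right
              (orderOf_dvd_of_pow_eq_one (hVexp v hv)))
        obtain ⟨m, hm⟩ := exists_pow_eq_self_of_coprime (x := v) hco
        have h2 := congrArg (· ^ m) h1
        simpa only [conj_pow, hm] using h2
      obtain ⟨⟨w, h⟩, hwh⟩ := hGV.2 g
      simp only at hwh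
      have hh : (h : X) ∈ Cs := by
        refine hCs.ge ⟨h.2, Subgroup.mem_centralizer_singleton_iff.2 ?_⟩
        have e1 : (h : X) * v * (h : X)⁻¹ = (w : X)⁻¹ * v * w := by
          calc (h : X) * v * (h : X)⁻¹ = (w : X)⁻¹ * ((w * h) * v * (w * h : X)⁻¹) * w := by group
            _ = _ := by rw [hwh, hgv]
        rw [hVab _ (V.inv_mem w.2) _ hv, inv_mul_cancel_right] at e1
        exact mul_inv_eq_iff_eq_mul.1 e1
      set hC : Cs := ⟨h, hh⟩
      set d₀ : X := (((hC * c * hC⁻¹) ^ k : Cs) : X) with hd₀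
      have e2 : (w : X) * d₀ * (w : X)⁻¹ = (c' : X) ^ k := by
        have e3 : g * (v ^ k * (c : X) ^ k) * g⁻¹ = v ^ k * ((w : X) * d₀ * (w : X)⁻¹) := by
          rw [← hwh, hd₀, Subgroup.coe_pow]
          show _ = v ^ k * ((w : X) * ((h : X) * (c : X) * (h : X)⁻¹) ^ k * (w : X)⁻¹)
          calc (w : X) * h * (v ^ k * (c : X) ^ k) * ((w : X) * h)⁻¹
              = (w : X) * (((h : X) * v * (h : X)⁻¹) ^ k * ((h : X) * c * (h : X)⁻¹) ^ k) * (w : X)⁻¹ := by
                simp only [conj_pow]; group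
            _ = ((w : X) * v ^ k * (w : X)⁻¹) * ((w : X) * ((h : X) * c * (h : X)⁻¹) ^ k * (w : X)⁻¹) := by
                rw [show (h : X) * v * (h : X)⁻¹ = v from mul_inv_eq_iff_eq_mul.2 (hcv hC)]
                group
            _ = _ := by rw [hVab _ w.2 _ (V.pow_mem hv k), mul_inv_cancel_right]
        exact mul_left_cancel (e3.symm.trans hg)
      have e4 : (c' : X) ^ k * d₀⁻¹ ∈ V := by
        rw [← e2, show (w : X) * d₀ * (w : X)⁻¹ * d₀⁻¹ = (w : X) * (d₀ * (w : X)⁻¹ * d₀⁻¹) by group]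
        exact V.mul_mem w.2 (hVn.conj_mem _ (V.inv_mem w.2) _)
      have e5 : c' ^ k = (hC * c * hC⁻¹) ^ k := Subtype.ext (by
        rw [Subgroup.coe_pow]
        exact mul_inv_eq_one.1 (hCV _ (G.mul_mem (G.pow_mem (hmem c').1 k)
          (G.inv_mem (hmem ((hC * c * hC⁻¹) ^ k)).1)) e4))
      refine ⟨hC, (hpowinj e5).symm, fun hcc => ⟨w, hwh.symm, ?_⟩⟩
      subst hcc
      have e6' : d₀ = (c : X) ^ k := by rw [hd₀, ← e5, Subgroup.coe_pow]
      rw [e6'] at e2
      obtain ⟨m, hm⟩ := exists_pow_eq_self_of_coprime (x := (c : X))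
        (hk.coprime_dvd_right (orderOf_dvd_natCard (c : X)))
      have e6 : Commute (w : X) ((c : X) ^ k) := mul_inv_eq_iff_eq_mul.1 e2
      have e7 := e6.pow_right m
      rw [hm] at e7
      exact e7.eq.symm
    have hcol : ∀ c c' : Cs, ∑ χ : IrrCharacter X, (χ : X → ℂ) (y c) * conj ((χ : X → ℂ) (y c')) =
        if IsConj (y c) (y c') then (Nat.card (Subgroup.centralizer ({y c} : Set X)) : ℂ) else 0 := by
      intro c c'
      rw [second_orth]
      by_cases hcc : IsConj (y c) (y c')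
      · rw [if_pos hcc, if_pos hcc, div_eq_iff (Nat.cast_ne_zero.2 (card_conjClass_ne_zero _))]
        have e1 : Nat.card {z : X // IsConj (y c') z} = Nat.card {z : X // IsConj (y c) z} :=
          Nat.card_congr (Equiv.subtypeEquivRight fun z => ⟨fun h => hcc.trans h, fun h => hcc.symm.trans h⟩)
        rw [e1, ← Nat.cast_mul, mul_comm, card_conjClass_mul_centralizer]
      · rw [if_neg hcc, if_neg hcc]
    have hdconj : ∀ c c' : Cs, IsConj (y c) (y c') → d c' = d c := fun c c' hcc => by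
      obtain ⟨g, hg⟩ := isConj_iff.1 hcc
      obtain ⟨h, hh, -⟩ := hkey c c' g hg
      have e : δ c' = δ c := by rw [← hh]; exact pComb_class hp.out.ne_zero hδP c h
      exact congrArg φ (Subtype.ext e)
    have hnum : ∀ c : Cs, (Finset.univ.filter fun c' : Cs => IsConj (y c) (y c')).card *
        Nat.card (Subgroup.centralizer ({y c} : Set X)) ≤
          Nat.card {w : V // (c : X) * w = w * c} * Nat.card Cs := by
      intro c
      have h1 : (Finset.univ.filter fun c' : Cs => IsConj (y c) (y c')).card ≤ Nat.card {c' : Cs // IsConj c c'} := by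
        rw [← Fintype.card_subtype, ← Nat.card_eq_fintype_card]
        refine Nat.card_le_card_of_injective
          (fun c' : {c' : Cs // IsConj (y c) (y c')} => (⟨c'.1, ?_⟩ : {c' : Cs // IsConj c c'}))
          fun a b hab => Subtype.ext (Subtype.ext_iff.1 hab : _)
        obtain ⟨g, hg⟩ := isConj_iff.1 c'.2
        obtain ⟨h, hh, -⟩ := hkey c c'.1 g hg
        exact isConj_iff.2 ⟨h, hh⟩
      have h2 : Nat.card (Subgroup.centralizer ({y c} : Set X)) ≤
          Nat.card {w : V // (c : X) * w = w * c} * Nat.card (Subgroup.centralizer ({c} : Set Cs)) := by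
        have hg : ∀ g : Subgroup.centralizer ({y c} : Set X), (g : X) * y c * (g : X)⁻¹ = y c := fun g => by
          rw [Subgroup.mem_centralizer_singleton_iff.1 g.2, mul_inv_cancel_right]
        choose h hh hw' using fun g : Subgroup.centralizer ({y c} : Set X) => hkey c c (g : X) (hg g)
        choose w hw hf using fun g => hw' g rfl
        rw [← Nat.card_prod]
        refine Nat.card_le_card_of_injective (fun g => ((⟨w g, hf g⟩ : {w : V // (c : X) * w = w * c}),
          (⟨h g, Subgroup.mem_centralizer_singleton_iff.2 (mul_inv_eq_iff_eq_mul.1 (hh g))⟩ :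
            Subgroup.centralizer ({c} : Set Cs)))) fun a b hab' => Subtype.ext ?_
        rw [hw a, hw b, show w a = w b from congrArg (fun z => (z.1.1 : V)) hab',
          show h a = h b from congrArg (fun z => (z.2.1 : Cs)) hab']
      calc _ ≤ Nat.card {c' : Cs // IsConj c c'} *
            (Nat.card {w : V // (c : X) * w = w * c} * Nat.card (Subgroup.centralizer ({c} : Set Cs))) :=
            Nat.mul_le_mul h1 h2
        _ = _ := by rw [mul_left_comm, card_conjClass_mul_centralizer]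
    have hsum : ((∑ χ, ‖φ ⟨α χ, hαm χ⟩‖ ^ 2 : ℝ) : ℂ) = (((Fintype.card Cs : ℝ)⁻¹) ^ 2 *
        ∑ c : Cs, ‖d c‖ ^ 2 * (((Finset.univ.filter fun c' : Cs => IsConj (y c) (y c')).card *
          Nat.card (Subgroup.centralizer ({y c} : Set X)) : ℕ) : ℝ) : ℝ) := by
      push_cast
      simp only [hval, ← Complex.mul_conj', map_mul, map_inv₀, map_natCast, map_sum]
      calc ∑ χ : IrrCharacter X, (Fintype.card Cs : ℂ)⁻¹ * (∑ c, (χ : X → ℂ) (y c) * d c) *
            ((Fintype.card Cs : ℂ)⁻¹ * ∑ c', conj ((χ : X → ℂ) (y c')) * conj (d c'))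
          = ((Fintype.card Cs : ℂ)⁻¹) ^ 2 * ∑ c, ∑ c', d c * conj (d c') *
              ∑ χ : IrrCharacter X, (χ : X → ℂ) (y c) * conj ((χ : X → ℂ) (y c')) := by
            simp only [Finset.mul_sum, Finset.sum_mul]
            conv_rhs => rw [Finset.sum_comm]
            rw [Finset.sum_comm]
            refine Finset.sum_congr rfl fun c _ => ?_
            rw [Finset.sum_comm]
            exact Finset.sum_congr rfl fun χ _ => Finset.sum_congr rfl fun c' _ => by ring
        _ = _ := by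
            congr 1
            refine Finset.sum_congr rfl fun c _ => ?_
            simp only [hcol, mul_ite, mul_zero, ← Finset.sum_filter]
            rw [Finset.sum_congr rfl fun c' hc' => by rw [hdconj c c' (Finset.mem_filter.1 hc').2],
              Finset.sum_const, nsmul_eq_mul, Complex.mul_conj']
            ring
    have hsum' := Complex.ofReal_injective hsum
    rw [hsum']
    have hterm : ∀ c : Cs, ‖d c‖ ^ 2 * (((Finset.univ.filter fun c' : Cs => IsConj (y c) (y c')).card *
          Nat.card (Subgroup.centralizer ({y c} : Set X)) : ℕ) : ℝ) ≤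
        (Nat.card V : ℝ) * Fintype.card Cs := fun c => by
      calc _ ≤ ‖d c‖ ^ 2 * ((Nat.card {w : V // (c : X) * w = w * c} : ℝ) * Nat.card Cs) := by
            refine mul_le_mul_of_nonneg_left ?_ (by positivity)
            exact_mod_cast hnum c
        _ ≤ _ := by
            rw [← mul_assoc, Nat.card_eq_fintype_card (α := Cs)]
            exact mul_le_mul_of_nonneg_right (hδn c φ) (Nat.cast_nonneg _)
    refine (mul_le_mul_of_nonneg_left (Finset.sum_le_sum fun c _ => hterm c) (by positivity)).trans ?_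
    rw [Finset.sum_const, nsmul_eq_mul, Finset.card_univ]
    have : (Fintype.card Cs : ℝ) ≠ 0 := Nat.cast_ne_zero.2 Fintype.card_ne_zero
    field_simp
    exact le_refl _
  have h := card_le_of_galois_bound (Nat.card_pos (α := X)).ne' α hαm hαI hα0 _ hB
  rw [← card_irr, Nat.card_eq_fintype_card]
  exact_mod_cast h

end Cfsg.Agent.Char.KGV
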