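import Cfsg.Agent.Lib.Char.KGVDelta

/-!
# Gauss sums on an orthogonal module of a coprime group
-/

set_option autoImplicit false
set_option linter.unusedSectionVars false
set_option linter.style.haveILetI false

namespace Cfsg.Agent.Char.KGV

open Cfsg
open scoped ComplexConjugate

universe u

theorem norm_sq_phase {K : Type*} [AddCommGroup K] [Fintype K] (f : K → ℂ) (b : K → K → ℂ)
    (hadd : ∀ u w, f (u + w) = f u * f w * b u w) (hnorm : ∀ u, ‖f u‖ = 1) (h0 : f 0 = 1)
    (hb : ∀ t w w', b t (w + w') = b t w * b t w') (hnd : ∀ t, t ≠ 0 → ∃ w, b t w ≠ 1) :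
    ‖∑ u, f u‖ ^ 2 = Nat.card K := by
  classical
  have hff : ∀ w, f w * conj (f w) = 1 := fun w => by rw [Complex.mul_conj', hnorm]; simp
  have hb0 : ∀ w, b 0 w = 1 := fun w => by
    have h := hadd 0 w
    rw [zero_add, h0, one_mul] at h
    refine mul_left_cancel₀ (a := f w) (fun e => ?_) (by rw [← h, mul_one])
    have := hnorm w
    rw [e, norm_zero] at this
    exact zero_ne_one this
  have hsum : ∀ t, ∑ w, b t w = if t = 0 then (Nat.card K : ℂ) else 0 := fun t => by
    split_ifs with ht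
    · subst ht
      simp [hb0, Nat.card_eq_fintype_card]
    · obtain ⟨w₀, hw₀⟩ := hnd t ht
      have h := Fintype.sum_equiv (Equiv.addRight w₀) (fun w => b t (w + w₀)) (fun w => b t w) fun w => rfl
      simp only [hb, ← Finset.sum_mul] at h
      by_contra hne
      exact hw₀ (mul_left_cancel₀ hne (by rw [h, mul_one]))
  have key : (∑ u, f u) * conj (∑ u, f u) = (Nat.card K : ℂ) := by
    rw [map_sum, Finset.sum_mul_sum]
    calc ∑ u, ∑ w, f u * conj (f w) = ∑ w, ∑ u, f u * conj (f w) := Finset.sum_comm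
      _ = ∑ w, ∑ t, f (t + w) * conj (f w) :=
          Finset.sum_congr rfl fun w _ => (Fintype.sum_equiv (Equiv.addRight w) _ _ fun t => rfl).symm
      _ = ∑ t, f t * ∑ w, b t w := by
          rw [Finset.sum_comm]
          refine Finset.sum_congr rfl fun t _ => ?_
          rw [Finset.mul_sum]
          refine Finset.sum_congr rfl fun w _ => ?_
          rw [hadd]
          linear_combination (f t * b t w) * hff w
      _ = _ := by simp [hsum, h0]
  rw [Complex.mul_conj'] at key
  exact_mod_cast key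

section Fix

variable {C : Type u} [Group C] [Fintype C] {p : ℕ} [hp : Fact p.Prime] {W : Type u} [AddCommGroup W]
  [Module (ZMod p) W] [Finite W] (ρ : Representation (ZMod p) C W)

/-- The displacement of `c`. -/
noncomputable def disp (c : C) : W →ₗ[ZMod p] W := ρ c - 1

theorem disp_apply (c : C) (x : W) : disp ρ c x = ρ c x - x := rfl

theorem mem_ker_disp (c : C) (x : W) : x ∈ LinearMap.ker (disp ρ c) ↔ ρ c x = x := by
  rw [LinearMap.mem_ker, disp_apply, sub_eq_zero]

theorem nsmul_exp (x : W) : p • x = 0 := by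
  rw [← Nat.cast_smul_eq_nsmul (ZMod p), ZMod.natCast_self, zero_smul]

theorem ker_inf_range (hC : ¬ p ∣ Nat.card C) (c : C) :
    LinearMap.ker (disp ρ c) ⊓ LinearMap.range (disp ρ c) = ⊥ := by
  refine (Submodule.eq_bot_iff _).2 ?_
  rintro _ ⟨hfix, x, rfl⟩
  have hfix' := (mem_ker_disp ρ c _).1 hfix
  set d := disp ρ c x with hd
  have hpow : ∀ m : ℕ, ρ (c ^ m) x = x + m • d := fun m => by
    induction m with
    | zero => simp
    | succ m ih =>
      rw [pow_succ', map_mul]
      show ρ c (ρ (c ^ m) x) = _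
      rw [ih, map_add, map_nsmul, hfix', succ_nsmul', ← add_assoc, hd, disp_apply, add_sub_cancel]
  have h1 : Nat.card C • d = 0 := by
    have := hpow (Nat.card C)
    rw [pow_card_eq_one', map_one] at this
    exact left_eq_add.1 this
  have h2 : addOrderOf d ∣ 1 := by
    rw [← (hp.out.coprime_iff_not_dvd.2 hC : Nat.Coprime p (Nat.card C))]
    exact Nat.dvd_gcd (addOrderOf_dvd_iff_nsmul_eq_zero.2 (nsmul_exp d)) (addOrderOf_dvd_iff_nsmul_eq_zero.2 h1)
  exact AddMonoid.addOrderOf_eq_one_iff.1 (Nat.dvd_one.1 h2)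

theorem card_ker_mul_range (c : C) :
    Nat.card W = Nat.card (LinearMap.range (disp ρ c)) * Nat.card (LinearMap.ker (disp ρ c)) := by
  rw [Submodule.card_eq_card_quotient_mul_card (LinearMap.ker (disp ρ c)),
    Nat.card_congr (LinearMap.quotKerEquivRange (disp ρ c)).toEquiv, mul_comm]

theorem split_bijective (hC : ¬ p ∣ Nat.card C) (c : C) :
    Function.Bijective fun x : LinearMap.range (disp ρ c) × LinearMap.ker (disp ρ c) => (x.1 : W) + x.2 := by
  haveI := Fintype.ofFinite W
  rw [Nat.bijective_iff_injective_and_card]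
  refine ⟨fun a b h => ?_, by rw [Nat.card_prod, card_ker_mul_range ρ c]⟩
  have h1 : (a.1 : W) - b.1 = (b.2 : W) - a.2 := by
    have h' : (a.1 : W) + a.2 = (b.1 : W) + b.2 := h
    rw [sub_eq_sub_iff_add_eq_add, h', add_comm]
  have h2 : (a.1 : W) - b.1 ∈ LinearMap.ker (disp ρ c) ⊓ LinearMap.range (disp ρ c) :=
    ⟨h1 ▸ Submodule.sub_mem _ b.2.2 a.2.2, Submodule.sub_mem _ a.1.2 b.1.2⟩
  rw [ker_inf_range ρ hC c, Submodule.mem_bot] at h2
  exact Prod.ext (Subtype.ext (sub_eq_zero.1 h2)) (Subtype.ext (sub_eq_zero.1 (h1.symm.trans h2)).symm)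

variable (B : LinearMap.BilinForm (ZMod p) W) (hinv : ∀ c x y, B (ρ c x) (ρ c y) = B x y)

include hinv in
theorem range_perp_ker (c : C) (i f : W) (hi : i ∈ LinearMap.range (disp ρ c))
    (hf : f ∈ LinearMap.ker (disp ρ c)) : B i f = 0 ∧ B f i = 0 := by
  obtain ⟨x, rfl⟩ := hi
  have hf' := (mem_ker_disp ρ c f).1 hf
  constructor
  · have := hinv c x f
    rw [hf'] at this
    rw [disp_apply, map_sub, LinearMap.sub_apply, this, sub_self]
  · have := hinv c f x
    rw [hf'] at this
    rw [disp_apply, map_sub, this, sub_self]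

include hinv in
theorem nondeg_restrict (hC : ¬ p ∣ Nat.card C) (c : C) (hnd : ∀ x, (∀ y, B x y = 0) → x = 0) :
    (∀ i ∈ LinearMap.range (disp ρ c), (∀ j ∈ LinearMap.range (disp ρ c), B i j = 0) → i = 0) ∧
      (∀ f ∈ LinearMap.ker (disp ρ c), (∀ g ∈ LinearMap.ker (disp ρ c), B f g = 0) → f = 0) := by
  constructor
  · intro i hi h
    refine hnd i fun y => ?_
    obtain ⟨⟨a, b⟩, rfl⟩ := (split_bijective ρ hC c).2 y
    rw [map_add, h a a.2, (range_perp_ker ρ B hinv c i b hi b.2).1, add_zero]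
  · intro f hf h
    refine hnd f fun y => ?_
    obtain ⟨⟨a, b⟩, rfl⟩ := (split_bijective ρ hC c).2 y
    rw [map_add, h b b.2, (range_perp_ker ρ B hinv c a f a.2 hf).2, add_zero]

end Fix

section Piece

variable {C : Type u} [Group C] [Fintype C] {p N : ℕ} [hp : Fact p.Prime] {W : Type u} [AddCommGroup W]
  [Module (ZMod p) W] [Finite W] (ρ : Representation (ZMod p) C W)

theorem hasClassDelta_trivial {M : Ideal AlgInt} (hM : IsPModular p M) (h : ∀ c w, ρ c w = w) :
    HasClassDelta (C := C) p N M fun c => (ρ c : W → W) := by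
  refine ⟨fun _ => 1, fun _ => isIntegral_one, ⟨0, by simpa using gComb_const (C := C) isIntegral_one⟩,
    memLI_one_iff (pmod_prime hM), fun c ⟨w, hw⟩ => absurd (h c w) hw, fun c => ⟨one_mem _, fun φ => ?_⟩⟩
  rw [show (⟨(1 : ℂ), one_mem _⟩ : cyc N) = 1 from rfl, map_one, norm_one, one_pow, one_mul]
  exact_mod_cast Finite.card_subtype_le _

theorem hasClassDelta_orth {M : Ideal AlgInt} (hM : IsPModular p M) (hN : N ≠ 0) (hpN : p ∣ N)
    (hC : ¬ p ∣ Nat.card C) (hp2 : p ≠ 2) (S : LinearMap.BilinForm (ZMod p) W)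
    (hsym : ∀ x y, S x y = S y x) (hinv : ∀ c x y, S (ρ c x) (ρ c y) = S x y)
    (hnd : ∀ x, (∀ y, S x y = 0) → x = 0) :
    HasClassDelta (C := C) p N M fun c => (ρ c : W → W) := by
  classical
  haveI := Fintype.ofFinite W
  have hP := pmod_prime hM
  obtain ⟨ψ, hψ⟩ := AddChar.exists_apply_ne_zero.2 (one_ne_zero (α := ZMod p))
  have hψp : ∀ a : ZMod p, ψ a ^ p = 1 := fun a => by
    rw [← AddChar.map_nsmul_eq_pow, show p • a = 0 by rw [nsmul_eq_mul, ZMod.natCast_self, zero_mul],
      AddChar.map_zero_eq_one]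
  set f : W → ℂ := fun w => ψ (S w w) with hf
  have hfp : ∀ w, f w ^ p = 1 := fun w => hψp _
  have hfN : ∀ w, f w ^ N = 1 := fun w => by
    obtain ⟨t, rfl⟩ := hpN
    rw [pow_mul, hfp, one_pow]
  have hfI : ∀ w, IsIntegral ℤ (f w) := fun w => root_of_unity_isIntegral hp.out.ne_zero (hfp w)
  have hadd : ∀ u w, f (u + w) = f u * f w * ψ (2 * S u w) := fun u w => by
    simp only [hf, ← AddChar.map_add_eq_mul]
    congr 1
    rw [map_add, map_add, LinearMap.add_apply, LinearMap.add_apply, hsym w u]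
    ring
  have h2 : (2 : ZMod p) ≠ 0 := fun h => by
    have : ((2 : ℕ) : ZMod p) = 0 := by exact_mod_cast h
    rw [ZMod.natCast_eq_zero_iff] at this
    exact hp2 ((Nat.prime_dvd_prime_iff_eq hp.out Nat.prime_two).1 this)
  -- Galois twists of sums over nondegenerate subspaces
  have hnormT : ∀ (T : Submodule (ZMod p) W), (∀ i ∈ T, (∀ j ∈ T, S i j = 0) → i = 0) →
      ∀ k : ℕ, k.Coprime p → ‖∑ t : T, f t ^ k‖ ^ 2 = Nat.card T := by
    intro T hT k hk
    refine norm_sq_phase (fun t : T => f t ^ k) (fun t w => ψ (2 * S (t : W) (w : W)) ^ k) ?_ ?_ ?_ ?_ ?_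
    · intro u w
      rw [Submodule.coe_add, hadd, mul_pow, mul_pow]
    · intro t
      rw [norm_pow, Complex.norm_eq_one_of_pow_eq_one (hfp t) hp.out.ne_zero, one_pow]
    · simp [hf]
    · intro t w w'
      rw [Submodule.coe_add, map_add, mul_add, AddChar.map_add_eq_mul, mul_pow]
    · intro t ht
      obtain ⟨w, hw, hSw⟩ : ∃ w ∈ T, S (t : W) w ≠ 0 := by
        by_contra hh
        push Not at hh
        exact ht (Subtype.ext (hT t t.2 hh))
      refine ⟨(2 * S (t : W) w)⁻¹ • ⟨w, hw⟩, fun h => hψ ?_⟩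
      rw [Submodule.coe_smul, map_smul, smul_eq_mul, mul_left_comm, inv_mul_cancel₀ (mul_ne_zero h2 hSw)] at h
      exact (pow_eq_one_iff_of_coprime hk.symm).1 ⟨hψp 1, h⟩
  let GI : C → ℂ := fun c => ∑ i : LinearMap.range (disp ρ c), f i
  let GF : C → ℂ := fun c => ∑ i : LinearMap.ker (disp ρ c), f i
  have hsplit : ∀ c, ∑ w, f w = GI c * GF c := fun c => by
    rw [← (split_bijective ρ hC c).sum_comp f, Finset.sum_mul_sum, Fintype.sum_prod_type]
    refine Finset.sum_congr rfl fun i _ => Finset.sum_congr rfl fun j _ => ?_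
    rw [hadd, (range_perp_ker ρ S hinv c i j i.2 j.2).1, mul_zero, AddChar.map_zero_eq_one, mul_one]
  have hnF : ∀ c, GF c * conj (GF c) = (Nat.card (LinearMap.ker (disp ρ c)) : ℂ) := fun c => by
    have h := hnormT _ (nondeg_restrict ρ S hinv hC c hnd).2 1 (Nat.coprime_one_left p)
    simp only [pow_one] at h
    rw [Complex.mul_conj']
    exact_mod_cast h
  refine ⟨GI, fun c => IsIntegral.sum _ fun i _ => hfI i, ?_, ?_, ?_, ?_⟩
  · -- the fixed points
    let π : C →* Equiv.Perm W :=
      { toFun := fun c =>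
          { toFun := ρ c
            invFun := ρ c⁻¹
            left_inv := fun x => by rw [← Module.End.mul_apply, ← map_mul, inv_mul_cancel, map_one]; rfl
            right_inv := fun x => by rw [← Module.End.mul_apply, ← map_mul, mul_inv_cancel, map_one]; rfl }
        map_one' := Equiv.ext fun x => show ρ 1 x = x by rw [map_one]; rfl
        map_mul' := fun a b => Equiv.ext fun x => show ρ (a * b) x = ρ a (ρ b x) by rw [map_mul]; rfl }
    have hfix : ∀ (F : W → ℂ) (c : C),
        ∑ x ∈ Finset.univ.filter (fun x => π c x = x), F x = ∑ i : LinearMap.ker (disp ρ c), F i :=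
      fun F c => Finset.sum_subtype _ (fun x => by
        rw [Finset.mem_filter, mem_ker_disp]; simp [π]) F
    have hinvf : ∀ c x, f (π c x) = f x := fun c x => congrArg ψ (hinv c x x)
    have hcard : GComb fun c => (Nat.card (LinearMap.ker (disp ρ c)) : ℂ) := by
      have h := gComb_fixedSum π (fun _ => (1 : ℂ)) (fun _ => isIntegral_one) fun _ _ => rfl
      convert h using 1
      funext c
      rw [hfix, Finset.sum_const, Finset.card_univ, nsmul_one, Nat.card_eq_fintype_card]
    have hGF : GComb fun c => conj (GF c) := by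
      have h := gComb_fixedSum π (fun x => conj (f x))
        (fun x => root_of_unity_isIntegral hp.out.ne_zero (by rw [← map_pow, hfp, map_one]))
        fun c x => by rw [hinvf]
      convert h using 1
      funext c
      rw [hfix, map_sum]
    obtain ⟨R, k, hR, hk⟩ := gComb_inverse (p := p) hcard fun c => by
      have hpg : IsPGroup p (Multiplicative (LinearMap.ker (disp ρ c))) := fun x => ⟨1, by
        rw [pow_one]
        exact Multiplicative.toAdd.injective (Subtype.ext (nsmul_exp (x.toAdd : W)))⟩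
      obtain ⟨j, hj⟩ := IsPGroup.iff_card.1 hpg
      exact ⟨j, by rw [← Nat.cast_pow, ← hj]; rfl⟩
    refine ⟨k, ?_⟩
    convert gComb_mul (gComb_smul hGF (IsIntegral.sum (s := (Finset.univ : Finset W)) f fun w _ => hfI w)) hR using 1
    funext c
    rw [hsplit c]
    linear_combination -GI c * R c * hnF c - GI c * hk c
  · have h1 : GI 1 = 1 := by
      have hbot : LinearMap.range (disp ρ (1 : C)) = ⊥ := by
        rw [LinearMap.range_eq_bot]
        ext x
        rw [disp_apply, map_one]
        simp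
      show ∑ i : LinearMap.range (disp ρ (1 : C)), f i = 1
      haveI : Subsingleton (LinearMap.range (disp ρ (1 : C))) := by rw [hbot]; infer_instance
      rw [Fintype.sum_subsingleton _ ⟨0, Submodule.zero_mem _⟩]
      simp [hf]
    rw [h1]
    exact memLI_one_iff hP
  · rintro c ⟨w, hw⟩
    show MemLocalIdeal M (∑ i : LinearMap.range (disp ρ c), f i)
    rw [show ∑ i : LinearMap.range (disp ρ c), f i =
      ∑ i : LinearMap.range (disp ρ c), (f i - 1) + (Nat.card (LinearMap.range (disp ρ c)) : ℂ) by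
        simp [Finset.sum_sub_distrib, Nat.card_eq_fintype_card]]
    refine memLI_add hP (memLI_sum hP _ _ fun i _ => ?_) ?_
    · let A : AlgInt := ⟨f i, hfI i⟩
      have h : A - 1 ∈ M := algInt_eq_mod hM (n := 1) (Subtype.ext (by simpa [A] using hfp i))
      have h' := (memLI_coe_iff hP _).2 h
      simpa [A] using h'
    · rw [memLI_natCast_iff hM]
      have hne : (⟨disp ρ c w, ⟨w, rfl⟩⟩ : LinearMap.range (disp ρ c)) ≠ 0 := fun h => hw (by
        have h' := congrArg Subtype.val h
        exact sub_eq_zero.1 h')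
      have hord : addOrderOf (⟨disp ρ c w, ⟨w, rfl⟩⟩ : LinearMap.range (disp ρ c)) = p :=
        addOrderOf_eq_prime (Subtype.ext (nsmul_exp _)) hne
      exact (dvd_of_eq hord.symm).trans (addOrderOf_dvd_natCard _)
  · intro c
    refine ⟨sum_mem fun i _ => mem_cyc (hfN i), fun φ => ?_⟩
    obtain ⟨k, hk, hφ⟩ := exists_power_of_embedding hN φ
    have hval : φ ⟨GI c, sum_mem fun i _ => mem_cyc (hfN i)⟩ = ∑ i : LinearMap.range (disp ρ c), f i ^ k := by
      rw [show (⟨GI c, sum_mem fun i _ => mem_cyc (hfN i)⟩ : cyc N) =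
        ∑ i : LinearMap.range (disp ρ c), (⟨f i, mem_cyc (hfN i)⟩ : cyc N) by ext; simp [GI], map_sum]
      exact Finset.sum_congr rfl fun i _ => hφ _ (hfN i)
    have hn := hnormT _ (nondeg_restrict ρ S hinv hC c hnd).1 k (hk.coprime_dvd_right hpN)
    rw [hval, show ‖∑ i : LinearMap.range (disp ρ c), f i ^ k‖ ^ 2 = (Nat.card (LinearMap.range (disp ρ c)) : ℝ) by
      convert hn using 4; ext; simp,
      show Nat.card {w : W // ρ c w = w} = Nat.card (LinearMap.ker (disp ρ c)) from
        Nat.card_congr (Equiv.subtypeEquivRight fun w => (mem_ker_disp ρ c w).symm),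
      ← Nat.cast_mul, ← card_ker_mul_range ρ c]

end Piece

end Cfsg.Agent.Char.KGV
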