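import Cfsg.Agent.Lib.Char.KGVGauss
import Cfsg.Agent.Lib.Char.Coprime
import Cfsg.Agent.Lib.Char.Gallagher
import Cfsg.Agent.Lib.Char.Convolution
import Cfsg.Agent.Lib.Char.FrobRamified

/-!
# The extension of the Heisenberg character to a coprime group
-/

set_option autoImplicit false
set_option linter.unusedSectionVars false
set_option linter.style.haveILetI false

namespace Cfsg.Agent.Char.KGV

open Cfsg
open scoped ComplexConjugate

universe u

theorem char_galois_dvd {G : Type u} [Group G] [Finite G] {N : ℕ} (hN : Nat.card G ∣ N) {χ : G → ℂ}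
    (h : IsCharacter G χ) (g : G) :
    ∃ hm : χ g ∈ cyc N, ∀ (φ : cyc N →ₐ[ℚ] ℂ) (k : ℕ),
      (∀ (μ : ℂ) (hμ : μ ^ N = 1), φ ⟨μ, mem_cyc hμ⟩ = μ ^ k) → φ ⟨χ g, hm⟩ = χ (g ^ k) := by
  obtain ⟨n, ρ, rfl⟩ := h
  obtain ⟨μ, hμ, htr, -⟩ := exists_eigenvalues ρ g
  have hμn : ∀ i, μ i ^ N = 1 := fun i => by
    obtain ⟨c, hc⟩ := (orderOf_dvd_natCard g).trans hN
    rw [hc, pow_mul, hμ i, one_pow]
  have h1 := htr 1
  simp only [pow_one] at h1
  refine ⟨h1 ▸ sum_mem fun i _ => mem_cyc (hμn i), fun φ k hk => ?_⟩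
  have e : (⟨ρ.character g, h1 ▸ sum_mem fun i _ => mem_cyc (hμn i)⟩ : cyc N) =
      ∑ i, (⟨μ i, mem_cyc (hμn i)⟩ : cyc N) := by
    ext
    simp [h1]
  rw [e, map_sum, htr k]
  exact Finset.sum_congr rfl fun i _ => hk _ (hμn i)

/-- The mean square of an extension on a coset is one. -/
theorem sum_norm_sq_coset {G : Type u} [Group G] [Fintype G] (N : Subgroup G) [N.Normal] [Fintype N]
    {θ : N → ℂ} (hθ : IsIrrCharacter N θ) (hinv : ∀ (g : G) (n : N), θ (MulAut.conjNormal g n) = θ n)
    {χ : G → ℂ} (hχ : IsIrrCharacter G χ) (hext : ∀ n : N, χ n = θ n) (g : G) :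
    ∑ n : N, ‖χ ((n : G) * g)‖ ^ 2 = (Nat.card N : ℝ) := by
  have h1 : IsIrrCharacter N (fun _ => (1 : ℂ)) := isIrrCharacter_one
  have hbij := gallagher N (fun _ => (1 : ℂ)) θ h1 (fun _ _ => rfl) hinv
    (by
      have e : ((fun _ => (1 : ℂ)) * θ) = θ := funext fun n => one_mul _
      rwa [e])
    (irr_isCharacter hχ) hext
  set a : G → ℂ := fun x => χ x * conj (χ x) with ha
  have hac : IsClassFunction G a := fun x k => by
    simp only [ha, isClassFunction_character (irr_isCharacter hχ) x k]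
  have key : cosetAvg N a = fun _ => (1 : ℂ) := by
    refine coset_ext N (cosetAvg_class N hac) (fun _ _ => rfl) (cosetAvg_mul N a) (fun _ _ => rfl) fun β hβ hβN => ?_
    rw [classInner_cosetAvg N a β fun n x => trivial_mul N hβ hβN n x]
    have hβs := (constituent_indFun_one_iff N hβ).2 hβN
    have e1 : classInner a β = classInner χ (β * χ) := by
      simp only [classInner, ha, Pi.mul_apply, map_mul]
      exact congrArg _ (Finset.sum_congr rfl fun x _ => by ring)
    rw [e1]
    have hirr : IsIrrCharacter G (β * χ) := (hbij.mapsTo (⟨hβ, hβs⟩ : β ∈ {β : G → ℂ | _ ∧ _})).1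
    have h1G : IsIrrCharacter G (fun _ => (1 : ℂ)) := isIrrCharacter_one
    have o1 := irrC_orth ⟨χ, hχ⟩ ⟨β * χ, hirr⟩
    have o2 := irrC_orth (⟨fun _ => 1, h1G⟩ : IrrCharacter G) ⟨β, hβ⟩
    rw [o1, o2]
    by_cases hb : β = fun _ => (1 : ℂ)
    · have e2 : β * χ = χ := by rw [hb]; exact funext fun x => one_mul _
      rw [if_pos (Subtype.ext e2.symm), if_pos (Subtype.ext hb.symm)]
    · rw [if_neg (fun e => hb ?_), if_neg fun e => hb (Subtype.ext_iff.1 e).symm]
      have e2 : (fun _ => (1 : ℂ)) * χ = β * χ :=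
        (funext fun x => one_mul _ : (fun _ => (1 : ℂ)) * χ = χ).trans (Subtype.ext_iff.1 e)
      have m1 : (fun _ => (1 : ℂ)) ∈ {β : G → ℂ | IsIrrCharacter G β ∧ classInner (indFun N (fun _ => 1)) β ≠ 0} :=
        ⟨h1G, (constituent_indFun_one_iff N h1G).2 fun n => rfl⟩
      exact (hbij.injOn m1 ⟨hβ, hβs⟩ e2).symm
  have h2 := congrFun key g
  simp only [cosetAvg, ha, Complex.mul_conj'] at h2
  rw [inv_mul_eq_one₀ (Nat.cast_ne_zero.2 Nat.card_pos.ne')] at h2
  exact_mod_cast h2.symm

/-- The Heisenberg group of a bilinear form. -/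
@[ext]
structure Heis {p : ℕ} {W : Type u} [AddCommGroup W] [Module (ZMod p) W]
    (B : LinearMap.BilinForm (ZMod p) W) where
  vec : W
  scl : ZMod p

namespace Heis

variable {p : ℕ} [hp : Fact p.Prime] {W : Type u} [AddCommGroup W] [Module (ZMod p) W]
  {B : LinearMap.BilinForm (ZMod p) W}

instance : Group (Heis B) where
  one := ⟨0, 0⟩
  mul x y := ⟨x.vec + y.vec, x.scl + y.scl + B x.vec y.vec⟩
  inv x := ⟨-x.vec, -x.scl + B x.vec x.vec⟩
  mul_assoc x y z := by
    refine Heis.ext (add_assoc _ _ _) ?_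
    show x.scl + y.scl + B x.vec y.vec + z.scl + B (x.vec + y.vec) z.vec =
      x.scl + (y.scl + z.scl + B y.vec z.vec) + B x.vec (y.vec + z.vec)
    rw [map_add, LinearMap.add_apply, map_add]; ring
  one_mul x := by
    refine Heis.ext (zero_add _) ?_
    show 0 + x.scl + B 0 x.vec = x.scl
    rw [map_zero, LinearMap.zero_apply, zero_add, add_zero]
  mul_one x := by
    refine Heis.ext (add_zero _) ?_
    show x.scl + 0 + B x.vec 0 = x.scl
    rw [map_zero, add_zero, add_zero]
  inv_mul_cancel x := by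
    refine Heis.ext (neg_add_cancel _) ?_
    show -x.scl + B x.vec x.vec + x.scl + B (-x.vec) x.vec = 0
    rw [map_neg, LinearMap.neg_apply]; ring

theorem mul_def (x y : Heis B) : x * y = ⟨x.vec + y.vec, x.scl + y.scl + B x.vec y.vec⟩ := rfl

theorem one_def : (1 : Heis B) = ⟨0, 0⟩ := rfl

/-- The underlying set. -/
def equivProd : Heis B ≃ W × ZMod p where
  toFun x := (x.vec, x.scl)
  invFun x := ⟨x.1, x.2⟩
  left_inv _ := rfl
  right_inv _ := rfl

instance [Finite W] : Finite (Heis B) := Finite.of_equiv _ equivProd.symm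

theorem card_eq [Finite W] : Nat.card (Heis B) = Nat.card W * p := by
  rw [Nat.card_congr equivProd, Nat.card_prod, Nat.card_zmod]

theorem conj_eq (w u : W) (a : ZMod p) :
    (⟨w, 0⟩ : Heis B) * ⟨u, a⟩ * (⟨w, 0⟩ : Heis B)⁻¹ = ⟨u, a + (B w u - B u w)⟩ := by
  rw [mul_inv_eq_iff_eq_mul, mul_def, mul_def]
  refine Heis.ext (add_comm _ _) ?_
  dsimp only
  ring

theorem zed_pow (m : ℕ) : (⟨0, 1⟩ : Heis B) ^ m = ⟨0, (m : ZMod p)⟩ := by
  induction m with
  | zero => simp [one_def]
  | succ m ih => rw [pow_succ, ih, mul_def]; simp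

theorem split (u : W) (a : ZMod p) : (⟨u, a⟩ : Heis B) = ⟨u, 0⟩ * (⟨0, 1⟩ : Heis B) ^ a.val := by
  rw [zed_pow, mul_def]
  simp

theorem zed_mem_center : (⟨0, 1⟩ : Heis B) ∈ Subgroup.center (Heis B) := by
  rw [Subgroup.mem_center_iff]
  intro g
  refine Heis.ext (by simp [mul_def]) ?_
  simp [mul_def, add_comm]

end Heis

section Piece

variable {C : Type u} [Group C] [Fintype C] {p N : ℕ} [hp : Fact p.Prime] {W : Type u} [AddCommGroup W]
  [Module (ZMod p) W] [Finite W] (ρ : Representation (ZMod p) C W)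

/-- A function moved by a nontrivial root of unity vanishes. -/
theorem eq_zero_of_twist {ω z : ℂ} (hω : ω ≠ 1) (hωp : ω ^ p = 1) {a : ZMod p} (ha : a ≠ 0)
    (h : z = ω ^ a.val * z) : z = 0 := by
  by_contra hz
  refine hω ?_
  have h1 : ω ^ a.val = 1 := mul_right_cancel₀ hz (by rw [← h, one_mul])
  refine (pow_eq_one_iff_of_coprime (m := p) (n := a.val) ?_).1 ⟨hωp, h1⟩
  exact hp.out.coprime_iff_not_dvd.2 fun hd => ha ((ZMod.val_eq_zero a).1
    (Nat.eq_zero_of_dvd_of_lt hd (ZMod.val_lt a)))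

theorem hasClassDelta_symp {M : Ideal AlgInt} (hM : IsPModular p M) (hN : N ≠ 0) (hCN : Nat.card C ∣ N)
    (hC : ¬ p ∣ Nat.card C) (B : LinearMap.BilinForm (ZMod p) W)
    (hinv : ∀ c x y, B (ρ c x) (ρ c y) = B x y) (hnd : ∀ x, (∀ y, B x y = B y x) → x = 0) :
    HasClassDelta (C := C) p N M fun c => (ρ c : W → W) := by
  classical
  haveI := Fintype.ofFinite W
  have hP := pmod_prime hM
  set A : LinearMap.BilinForm (ZMod p) W := B - B.flip with hA
  have hAapp : ∀ x y, A x y = B x y - B y x := fun x y => rfl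
  have hAinv : ∀ c x y, A (ρ c x) (ρ c y) = A x y := fun c x y => by rw [hAapp, hAapp, hinv, hinv]
  have hAnd : ∀ x, (∀ y, A x y = 0) → x = 0 := fun x h => hnd x fun y => sub_eq_zero.1 ((hAapp x y).symm.trans (h y))
  -- the character of the Heisenberg group
  haveI : Fintype (Heis B) := Fintype.ofFinite _
  obtain ⟨θ, hθz⟩ : ∃ θ : IrrCharacter (Heis B), (θ : Heis B → ℂ) ⟨0, 1⟩ ≠ (θ : Heis B → ℂ) 1 := by
    by_contra hh
    push Not at hh
    have h1 := isConj_one_left.1 (isConj_of_forall_irr_eq fun χ => hh χ)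
    have h2 := congrArg Heis.scl h1
    exact one_ne_zero (α := ZMod p) h2
  obtain ⟨ω, -, hω⟩ := char_mul_central θ.2 (Heis.zed_mem_center (B := B))
  have hωpow : ∀ (m : ℕ) (x : Heis B), (θ : Heis B → ℂ) (x * (⟨0, 1⟩ : Heis B) ^ m) = ω ^ m * (θ : Heis B → ℂ) x := by
    intro m
    induction m with
    | zero => intro x; simp
    | succ m ih => intro x; rw [pow_succ, ← mul_assoc, hω, ih, pow_succ]; ring
  have hω1 : ω ≠ 1 := fun e => hθz (by
    have := hω 1
    rwa [one_mul, e, one_mul] at this)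
  have hωp : ω ^ p = 1 := by
    refine mul_right_cancel₀ (irr_one_ne_zero θ.2) ?_
    rw [← hωpow, one_mul, one_mul, Heis.zed_pow, ZMod.natCast_self, ← Heis.one_def]
  have hωn : ‖ω‖ = 1 := Complex.norm_eq_one_of_pow_eq_one hωp hp.out.ne_zero
  have hθval : ∀ u a, (θ : Heis B → ℂ) ⟨u, a⟩ = ω ^ a.val * (θ : Heis B → ℂ) ⟨u, 0⟩ := fun u a => by
    rw [Heis.split u a, hωpow]
  have hθ0 : ∀ u, u ≠ 0 → (θ : Heis B → ℂ) ⟨u, 0⟩ = 0 := fun u hu => by
    obtain ⟨w, hw⟩ : ∃ w, A w u ≠ 0 := by
      by_contra hh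
      push Not at hh
      refine hu (hAnd u fun y => ?_)
      have := hh y
      rw [hAapp] at this ⊢
      linear_combination -this
    refine eq_zero_of_twist hω1 hωp hw ?_
    have h := isClassFunction_character (irr_isCharacter θ.2) (⟨u, 0⟩ : Heis B) ⟨w, 0⟩
    rw [Heis.conj_eq, zero_add, ← hAapp, hθval] at h
    exact h.symm
  obtain ⟨D, hD⟩ := charOne_eq_natCast (irr_isCharacter θ.2)
  have hθ1 : ∀ u a, (θ : Heis B → ℂ) ⟨u, a⟩ = if u = 0 then ω ^ a.val * D else 0 := fun u a => by
    rw [hθval]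
    split_ifs with h
    · rw [h, ← Heis.one_def, hD]
    · rw [hθ0 u h, mul_zero]
  have hD2 : D * D = Nat.card W := by
    have h1 := FrobRam.sum_norm_sq_irr θ.2
    rw [← Heis.equivProd.symm.sum_comp, Fintype.sum_prod_type, Heis.card_eq] at h1
    have h2 : ∀ (u : W) (a : ZMod p), ‖(θ : Heis B → ℂ) (Heis.equivProd.symm (u, a))‖ ^ 2 =
        if u = 0 then (D : ℝ) ^ 2 else 0 := fun u a => by
      show ‖(θ : Heis B → ℂ) ⟨u, a⟩‖ ^ 2 = _
      rw [hθ1]
      split_ifs <;> simp [hωn]
    simp only [h2, Finset.sum_const, Finset.card_univ, nsmul_eq_mul, mul_ite, mul_zero, Finset.sum_ite_eq',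
      Finset.mem_univ, if_true, ZMod.card, Nat.cast_mul] at h1
    have h3 : ((D * D : ℕ) : ℝ) = Nat.card W := by
      refine mul_left_cancel₀ (a := (p : ℝ)) (Nat.cast_ne_zero.2 hp.out.ne_zero) ?_
      push_cast
      linarith
    exact_mod_cast h3
  have hD0 : D ≠ 0 := fun h => Nat.card_pos.ne' (hD2.symm.trans (by rw [h, mul_zero]))
  have hWpow : ∃ j, Nat.card W = p ^ j := by
    have hpg : IsPGroup p (Multiplicative W) := fun x => ⟨1, by
      rw [pow_one]
      exact Multiplicative.toAdd.injective (nsmul_exp x.toAdd)⟩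
    obtain ⟨n, hn⟩ := IsPGroup.iff_card.1 hpg
    exact ⟨n, hn⟩
  obtain ⟨j, hj⟩ := hWpow
  have hDp : D ∣ p ^ j := hj ▸ hD2 ▸ dvd_mul_right D D
  -- the semidirect product
  let aut : C →* MulAut (Heis B) :=
    { toFun := fun c =>
        { toFun := fun x => ⟨ρ c x.vec, x.scl⟩
          invFun := fun x => ⟨ρ c⁻¹ x.vec, x.scl⟩
          left_inv := fun x => Heis.ext (show ρ c⁻¹ (ρ c x.vec) = x.vec by
            rw [← Module.End.mul_apply, ← map_mul, inv_mul_cancel, map_one]; rfl) rfl
          right_inv := fun x => Heis.ext (show ρ c (ρ c⁻¹ x.vec) = x.vec by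
            rw [← Module.End.mul_apply, ← map_mul, mul_inv_cancel, map_one]; rfl) rfl
          map_mul' := fun x y => Heis.ext (map_add _ _ _) (by
            show x.scl + y.scl + B x.vec y.vec = x.scl + y.scl + B (ρ c x.vec) (ρ c y.vec)
            rw [hinv]) }
      map_one' := MulEquiv.ext fun x => Heis.ext (show ρ 1 x.vec = x.vec by rw [map_one]; rfl) rfl
      map_mul' := fun a b => MulEquiv.ext fun x =>
        Heis.ext (show ρ (a * b) x.vec = ρ a (ρ b x.vec) by rw [map_mul]; rfl) rfl }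
  have hθinv : ∀ (c : C) (x : Heis B), (θ : Heis B → ℂ) (aut c x) = (θ : Heis B → ℂ) x := fun c x => by
    obtain ⟨u, a⟩ := x
    show (θ : Heis B → ℂ) ⟨ρ c u, a⟩ = _
    rw [hθ1, hθ1]
    refine if_congr ⟨fun h => ?_, fun h => by rw [h, map_zero]⟩ rfl rfl
    have h2 : u = ρ c⁻¹ (ρ c u) := by rw [← Module.End.mul_apply, ← map_mul, inv_mul_cancel, map_one]; rfl
    rw [h2, h, map_zero]
  haveI : Finite (Heis B ⋊[aut] C) := Finite.of_equiv _ SemidirectProduct.equivProd.symm
  haveI : Fintype (Heis B ⋊[aut] C) := Fintype.ofFinite _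
  set Nn : Subgroup (Heis B ⋊[aut] C) := (SemidirectProduct.inl : Heis B →* Heis B ⋊[aut] C).range with hNn
  haveI : Nn.Normal := by rw [hNn, SemidirectProduct.range_inl_eq_ker_rightHom]; infer_instance
  haveI : Fintype Nn := Fintype.ofFinite _
  let eN : Heis B ≃* Nn := MonoidHom.ofInjective SemidirectProduct.inl_injective
  set θN : Nn → ℂ := fun n => (θ : Heis B → ℂ) (eN.symm n) with hθN
  have hθNirr : IsIrrCharacter Nn θN := isIrrCharacter_comp_equiv eN.symm θ.2
  have hidx : Nn.index = Nat.card C := by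
    rw [hNn, SemidirectProduct.range_inl_eq_ker_rightHom, Subgroup.index_ker,
      MonoidHom.range_eq_top.2 SemidirectProduct.rightHom_surjective, Subgroup.card_top]
  have hcop : Nn.index.Coprime D := by
    rw [hidx]
    exact ((hp.out.coprime_iff_not_dvd.2 hC).symm.pow_right j).coprime_dvd_right hDp
  have hθNinv : ∀ (g : Heis B ⋊[aut] C) (n : Nn), θN (MulAut.conjNormal g n) = θN n := by
    intro g n
    obtain ⟨h, rfl⟩ := eN.surjective n
    have e : MulAut.conjNormal g (eN h) = eN (g.left * aut g.right h * g.left⁻¹) := Subtype.ext (by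
      show g * SemidirectProduct.inl h * g⁻¹ = SemidirectProduct.inl (g.left * aut g.right h * g.left⁻¹)
      conv_lhs => rw [← SemidirectProduct.inl_left_mul_inr_right g]
      rw [map_mul, map_mul, SemidirectProduct.inl_aut, map_inv, map_inv]
      group)
    rw [e]
    simp only [hθN, MulEquiv.symm_apply_apply]
    rw [isClassFunction_character (irr_isCharacter θ.2), hθinv]
  obtain ⟨d', σ, hσ⟩ := irr_isCharacter θ.2
  have hdinv : ∀ c, (detHom σ).comp (aut c).toMonoidHom = detHom σ := fun c => by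
    let σ' : Representation ℂ (Heis B) (Fin d' → ℂ) := σ.comp (aut c).toMonoidHom
    have h' : σ'.character = σ.character := funext fun x => by
      have := hθinv c x
      rw [← hσ] at this
      exact this
    ext x
    have h2 := congrFun ((detChar_eq σ' h').symm.trans (detChar_eq σ rfl)) x
    simpa [σ', detHom_apply] using h2
  let μ : Heis B ⋊[aut] C →* ℂˣ := SemidirectProduct.lift (detHom σ) 1 fun c => by
    rw [MonoidHom.one_apply, map_one]
    exact (hdinv c).trans (by ext; rfl)
  obtain ⟨χ, hχ, hχres⟩ := exists_extension_of_det_extension Nn hθNirr hθNinv D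
    (by simp [hθN, hD]) hcop μ fun n => by
      obtain ⟨h, rfl⟩ := eN.surjective n
      show (μ (SemidirectProduct.inl h) : ℂ) = _
      rw [SemidirectProduct.lift_inl]
      let σN : Representation ℂ Nn (Fin d' → ℂ) := σ.comp eN.symm.toMonoidHom
      rw [detChar_eq σN (χ := θN) (funext fun n => by
        show σ.character (eN.symm n) = _
        rw [hθN, hσ])]
      simp [σN, detHom_apply]
  have hχc := irr_isCharacter hχ
  have hres : ∀ h : Heis B, χ (SemidirectProduct.inl h) = (θ : Heis B → ℂ) h := fun h => by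
    rw [show (SemidirectProduct.inl h : Heis B ⋊[aut] C) = (eN h : Heis B ⋊[aut] C) from rfl, hχres]
    simp [hθN]
  set Z : Heis B ⋊[aut] C := SemidirectProduct.inl (⟨0, 1⟩ : Heis B) with hZ
  have hZc : Z ∈ Subgroup.center (Heis B ⋊[aut] C) := by
    rw [Subgroup.mem_center_iff]
    intro g
    refine SemidirectProduct.ext ?_ (by simp [hZ])
    simp only [hZ, SemidirectProduct.mul_left, SemidirectProduct.left_inl, SemidirectProduct.right_inl,
      map_one, MulAut.one_apply]
    rw [show aut g.right (⟨0, 1⟩ : Heis B) = ⟨0, 1⟩ from Heis.ext (map_zero _) rfl]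
    exact Subgroup.mem_center_iff.1 Heis.zed_mem_center g.left
  obtain ⟨ω', -, hω'⟩ := char_mul_central hχ hZc
  have hωω : ω' = ω := by
    refine mul_right_cancel₀ (irr_one_ne_zero hχ) ?_
    rw [← hω', one_mul, hZ, hres, ← one_mul (⟨0, 1⟩ : Heis B), hω, ← hres, map_one]
  subst hωω
  have hZpow : ∀ (m : ℕ) (x : Heis B ⋊[aut] C), χ (x * Z ^ m) = ω' ^ m * χ x := by
    intro m
    induction m with
    | zero => intro x; simp
    | succ m ih => intro x; rw [pow_succ, ← mul_assoc, hω', ih, pow_succ]; ring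
  let Wf : C → ℂ := fun c => χ (SemidirectProduct.inr c)
  have hWf : IsCharacter C Wf := isCharacter_comp SemidirectProduct.inr hχc
  have hval : ∀ (u : W) (a : ZMod p) (c : C),
      χ (SemidirectProduct.inl ⟨u, a⟩ * SemidirectProduct.inr c) =
        ω' ^ a.val * χ (SemidirectProduct.inl ⟨u, 0⟩ * SemidirectProduct.inr c) := fun u a c => by
    rw [← hZpow]
    congr 1
    have hcomm := Subgroup.mem_center_iff.1 (pow_mem hZc a.val) (SemidirectProduct.inr c)
    rw [mul_assoc, hcomm, ← mul_assoc, hZ, ← map_pow, ← map_mul, ← Heis.split]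
  -- values on the coset of `c`
  have hIabs : ∀ (c : C) (i : W), i ∈ LinearMap.range (disp ρ c) →
      ‖χ (SemidirectProduct.inl ⟨i, 0⟩ * SemidirectProduct.inr c)‖ = ‖Wf c‖ := by
    rintro c _ ⟨x, rfl⟩
    set X : Heis B := ⟨-x, 0⟩
    have h := isClassFunction_character hχc (SemidirectProduct.inr c) (SemidirectProduct.inl X)
    have e : (SemidirectProduct.inl X * SemidirectProduct.inr c * (SemidirectProduct.inl X)⁻¹ :
        Heis B ⋊[aut] C) = SemidirectProduct.inl (X * aut c X⁻¹) * SemidirectProduct.inr c := by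
      rw [map_mul, SemidirectProduct.inl_aut, map_inv, map_inv]
      group
    have hX : ∃ a, X * aut c X⁻¹ = ⟨disp ρ c x, a⟩ := ⟨_, Heis.ext (by
      show -x + ρ c (-(-x)) = disp ρ c x
      rw [neg_neg, disp_apply]; abel) rfl⟩
    obtain ⟨a, ha⟩ := hX
    rw [e, ha, hval] at h
    have h' := congrArg norm h
    rw [norm_mul, norm_pow, hωn, one_pow, one_mul] at h'
    exact h'
  have hFzero : ∀ (c : C) (i f : W), i ∈ LinearMap.range (disp ρ c) → f ∈ LinearMap.ker (disp ρ c) → f ≠ 0 →
      χ (SemidirectProduct.inl ⟨i + f, 0⟩ * SemidirectProduct.inr c) = 0 := by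
    intro c i f hi hf hf0
    obtain ⟨g, hg, hgf⟩ : ∃ g ∈ LinearMap.ker (disp ρ c), A g f ≠ 0 := by
      by_contra hh
      push Not at hh
      refine hf0 ((nondeg_restrict ρ A hAinv hC c hAnd).2 f hf fun g hg => ?_)
      have := hh g hg
      rw [hAapp] at this ⊢
      linear_combination -this
    refine eq_zero_of_twist hω1 hωp hgf ?_
    set G : Heis B := ⟨g, 0⟩
    have hcg : aut c G⁻¹ = G⁻¹ := Heis.ext (by
      show ρ c (-g) = -g
      rw [map_neg, (mem_ker_disp ρ c g).1 hg]) rfl
    have h := isClassFunction_character hχc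
      (SemidirectProduct.inl (⟨i + f, 0⟩ : Heis B) * SemidirectProduct.inr c) (SemidirectProduct.inl G)
    have e : (SemidirectProduct.inl G * (SemidirectProduct.inl (⟨i + f, 0⟩ : Heis B) * SemidirectProduct.inr c) *
        (SemidirectProduct.inl G)⁻¹ : Heis B ⋊[aut] C) =
        SemidirectProduct.inl (G * ⟨i + f, 0⟩ * aut c G⁻¹) * SemidirectProduct.inr c := by
      simp only [map_mul, SemidirectProduct.inl_aut, map_inv]
      group
    rw [e, hcg, Heis.conj_eq, zero_add, ← hAapp, map_add,
      (range_perp_ker ρ A hAinv c i g hi hg).2, zero_add, hval] at h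
    exact h.symm
  have hWnorm : ∀ c, ‖Wf c‖ ^ 2 = (Nat.card (LinearMap.ker (disp ρ c)) : ℝ) := by
    intro c
    have h1 := sum_norm_sq_coset Nn hθNirr hθNinv hχ hχres (SemidirectProduct.inr c)
    rw [← eN.toEquiv.sum_comp, Nat.card_congr eN.toEquiv.symm, Heis.card_eq, ← Heis.equivProd.symm.sum_comp,
      Fintype.sum_prod_type, ← (split_bijective ρ hC c).sum_comp, Fintype.sum_prod_type] at h1
    have h2 : ∀ (i : LinearMap.range (disp ρ c)) (f : LinearMap.ker (disp ρ c)) (a : ZMod p),
        ‖χ (((eN.toEquiv (Heis.equivProd.symm ((i : W) + f, a)) : Nn) : Heis B ⋊[aut] C) *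
          SemidirectProduct.inr c)‖ ^ 2 = if f = 0 then ‖Wf c‖ ^ 2 else 0 := by
      intro i f a
      show ‖χ (SemidirectProduct.inl ⟨(i : W) + f, a⟩ * SemidirectProduct.inr c)‖ ^ 2 = _
      rw [hval, norm_mul, norm_pow, hωn, one_pow, one_mul]
      split_ifs with hf
      · subst hf
        rw [Submodule.coe_zero, add_zero, hIabs c i i.2]
      · rw [hFzero c i f i.2 f.2 fun h => hf (Subtype.ext h)]
        simp
    simp only [h2, Finset.sum_const, Finset.card_univ, nsmul_eq_mul, mul_ite, mul_zero, Finset.sum_ite_eq',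
      Finset.mem_univ, if_true, ZMod.card, card_ker_mul_range ρ c, Nat.cast_mul,
      ← Nat.card_eq_fintype_card (α := LinearMap.range (disp ρ c))] at h1
    have hI : (Nat.card (LinearMap.range (disp ρ c)) : ℝ) * p ≠ 0 :=
      mul_ne_zero (Nat.cast_ne_zero.2 Nat.card_pos.ne') (Nat.cast_ne_zero.2 hp.out.ne_zero)
    refine mul_left_cancel₀ hI ?_
    linarith
  -- a square root of the fixed points divides the values
  have hdiv : ∀ c, ∃ d : ℕ, d * d = Nat.card (LinearMap.ker (disp ρ c)) ∧ IsIntegral ℤ (Wf c / d) := by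
    intro c
    let F := LinearMap.ker (disp ρ c)
    let BF : LinearMap.BilinForm (ZMod p) F := B.compl₁₂ F.subtype F.subtype
    let incl : Heis BF →* Heis B :=
      MonoidHom.mk' (fun x => ⟨(x.vec : W), x.scl⟩) fun x y => Heis.ext rfl rfl
    let Q : Subgroup C := Subgroup.zpowers c
    have hQfix : ∀ (q : Q) (w : F), ρ (q : C) (w : W) = w := by
      intro q w
      have hw := (mem_ker_disp ρ c w).1 w.2
      obtain ⟨m, hm⟩ := (mem_powers_iff_mem_zpowers.mpr q.2)
      rw [← hm]
      clear hm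
      show ρ (c ^ m) (w : W) = w
      induction m with
      | zero => simp
      | succ m ih => rw [pow_succ, map_mul, Module.End.mul_apply, hw, ih]
    let jj : Heis BF × Q →* Heis B ⋊[aut] C :=
      ((SemidirectProduct.inl).comp incl).noncommCoprod ((SemidirectProduct.inr).comp Q.subtype) fun x q => by
        refine SemidirectProduct.ext ?_ (by simp)
        simp only [SemidirectProduct.mul_left, MonoidHom.comp_apply, SemidirectProduct.left_inl,
          SemidirectProduct.left_inr, SemidirectProduct.right_inl, SemidirectProduct.right_inr, map_one,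
          mul_one, one_mul]
        exact (Heis.ext (hQfix q x.vec) rfl : aut (q : C) (incl x) = incl x).symm
    haveI : Fintype (Heis BF) := Fintype.ofFinite _
    haveI : Fintype Q := Fintype.ofFinite _
    set η : Heis BF × Q → ℂ := fun x => χ (jj x) with hη
    have hηc : IsCharacter (Heis BF × Q) η := isCharacter_comp jj hχc
    set zF : Heis BF × Q := ((⟨0, 1⟩ : Heis BF), 1) with hzF
    have hzFc : zF ∈ Subgroup.center (Heis BF × Q) := by
      rw [Subgroup.mem_center_iff]
      intro g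
      exact Prod.ext (Subgroup.mem_center_iff.1 Heis.zed_mem_center g.1) (by simp [hzF])
    set cF : Heis BF × Q := (1, ⟨c, Subgroup.mem_zpowers c⟩) with hcF
    have hcFc : cF ∈ Subgroup.center (Heis BF × Q) := by
      rw [Subgroup.mem_center_iff]
      intro g
      exact Prod.ext (by simp [hcF]) ((IsCyclic.commGroup (α := Q)).mul_comm _ _)
    have hjz : jj zF = Z := by
      show SemidirectProduct.inl (incl (⟨0, 1⟩ : Heis BF)) * SemidirectProduct.inr (((1 : Q) : C)) = _
      simp [hZ, incl]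
    have hηz : ∀ x, η (x * zF) = ω' * η x := fun x => by
      show χ (jj (x * zF)) = _
      rw [map_mul, hjz, hω']
    -- every constituent
    have hcon : ∀ μ : IrrCharacter (Heis BF × Q), classInner η (μ : Heis BF × Q → ℂ) ≠ 0 →
        ∃ (d : ℕ) (r : ℂ), d * d = Nat.card F ∧ IsIntegral ℤ r ∧ (μ : Heis BF × Q → ℂ) cF = d * r := by
      intro μ hμ
      obtain ⟨o, ho, ho'⟩ := char_mul_central μ.2 hzFc
      have hoω : o = ω' := by
        by_contra hne
        refine hμ ?_
        have h1 : classInner η (μ : Heis BF × Q → ℂ) = ω' * conj o * classInner η (μ : Heis BF × Q → ℂ) := by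
          conv_lhs => rw [classInner, ← Fintype.sum_equiv (Equiv.mulRight zF)
            (fun x => η (x * zF) * conj ((μ : Heis BF × Q → ℂ) (x * zF)))
            (fun x => η x * conj ((μ : Heis BF × Q → ℂ) x)) fun x => rfl]
          simp only [hηz, ho', map_mul, classInner, Finset.mul_sum]
          exact Finset.sum_congr rfl fun x _ => by ring
        by_contra hne0
        apply hne
        have h2 : ω' * conj o = 1 := mul_right_cancel₀ hne0 (h1.symm.trans (one_mul _).symm)
        have h3 : o * conj o = 1 := by rw [Complex.mul_conj', ho]; simp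
        exact mul_right_cancel₀ (right_ne_zero_of_mul_eq_one h3) (h3.trans h2.symm)
      subst hoω
      have hpow : ∀ (m : ℕ) (x : Heis BF × Q),
          (μ : Heis BF × Q → ℂ) (x * zF ^ m) = o ^ m * (μ : Heis BF × Q → ℂ) x := by
        intro m
        induction m with
        | zero => intro x; simp
        | succ m ih => intro x; rw [pow_succ, ← mul_assoc, ho', ih, pow_succ]; ring
      have hμval : ∀ (u : F) (a : ZMod p) (q : Q), (μ : Heis BF × Q → ℂ) (⟨u, a⟩, q) =
          o ^ a.val * (μ : Heis BF × Q → ℂ) (⟨u, 0⟩, q) := fun u a q => by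
        rw [← hpow]
        congr 1
        simp [hzF, ← Heis.split]
      obtain ⟨r', hr', hr⟩ := char_mul_central μ.2 hcFc
      obtain ⟨d, hd⟩ := charOne_eq_natCast (irr_isCharacter μ.2)
      have hrpow : ∀ (m : ℕ) (x : Heis BF × Q),
          (μ : Heis BF × Q → ℂ) (x * cF ^ m) = r' ^ m * (μ : Heis BF × Q → ℂ) x := by
        intro m
        induction m with
        | zero => intro x; simp
        | succ m ih => intro x; rw [pow_succ, ← mul_assoc, hr, ih, pow_succ]; ring
      refine ⟨d, r', ?_, ?_, ?_⟩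
      · have hμ0 : ∀ (u : F) (q : Q), u ≠ 0 → (μ : Heis BF × Q → ℂ) (⟨u, 0⟩, q) = 0 := fun u q hu => by
          obtain ⟨g, hg, hgu⟩ : ∃ g ∈ F, A g (u : W) ≠ 0 := by
            by_contra hh
            push Not at hh
            refine hu (Subtype.ext ((nondeg_restrict ρ A hAinv hC c hAnd).2 u u.2 fun g hg => ?_))
            have := hh g hg
            rw [hAapp] at this ⊢
            linear_combination -this
          refine eq_zero_of_twist hω1 hωp hgu ?_
          have h := isClassFunction_character (irr_isCharacter μ.2) ((⟨u, 0⟩ : Heis BF), q)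
            ((⟨⟨g, hg⟩, 0⟩ : Heis BF), 1)
          rw [Prod.mk_mul_mk, Prod.inv_mk, Prod.mk_mul_mk, Heis.conj_eq, inv_one, one_mul, mul_one, zero_add,
            hμval] at h
          exact h.symm
        have h1 := FrobRam.sum_norm_sq_irr μ.2
        rw [Fintype.sum_prod_type, Nat.card_prod, Heis.card_eq, ← Heis.equivProd.symm.sum_comp,
          Fintype.sum_prod_type] at h1
        have h2 : ∀ (u : F) (a : ZMod p) (q : Q),
            ‖(μ : Heis BF × Q → ℂ) (Heis.equivProd.symm (u, a), q)‖ ^ 2 = if u = 0 then (d : ℝ) ^ 2 else 0 := by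
          intro u a q
          show ‖(μ : Heis BF × Q → ℂ) (⟨u, a⟩, q)‖ ^ 2 = _
          rw [hμval]
          split_ifs with hu
          · obtain ⟨m, hm⟩ := mem_powers_iff_mem_zpowers.mpr q.2
            have hq : ((⟨u, 0⟩ : Heis BF), q) = (1 : Heis BF × Q) * cF ^ m := by
              rw [one_mul, hu, hcF]
              refine Prod.ext ?_ (Subtype.ext ?_)
              · rw [show (⟨0, 0⟩ : Heis BF) = 1 from rfl]; simp
              · simp [hm.symm]
            rw [hq, hrpow, hd]
            simp [hωn, hr']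
          · rw [hμ0 u q hu]
            simp
        simp only [h2, Finset.sum_const, Finset.card_univ, nsmul_eq_mul, mul_ite, mul_zero, Finset.sum_ite_eq',
          Finset.mem_univ, if_true, ZMod.card, Nat.cast_mul, ← Nat.card_eq_fintype_card (α := Q)] at h1
        have hQ0 : (p : ℝ) * Nat.card Q ≠ 0 :=
          mul_ne_zero (Nat.cast_ne_zero.2 hp.out.ne_zero) (Nat.cast_ne_zero.2 Nat.card_pos.ne')
        have h3 : ((d * d : ℕ) : ℝ) = Nat.card F := by
          refine mul_left_cancel₀ hQ0 ?_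
          push_cast
          linarith
        exact_mod_cast h3
      · refine root_of_unity_isIntegral (Nat.card_pos (α := Heis BF × Q)).ne' ?_
        refine mul_right_cancel₀ (irr_one_ne_zero μ.2) ?_
        rw [← hrpow, one_mul, one_mul, pow_card_eq_one']
      · rw [← one_mul cF, hr, hd, mul_comm]
    obtain ⟨μ₀, hμ₀⟩ : ∃ μ : IrrCharacter (Heis BF × Q), classInner η (μ : Heis BF × Q → ℂ) ≠ 0 := by
      by_contra hh
      push Not at hh
      have h1 := congrFun (char_expansion hηc) 1
      simp only [hh, zero_smul, Finset.sum_const_zero, Pi.zero_apply] at h1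
      rw [hη] at h1
      simp only [map_one] at h1
      exact irr_one_ne_zero hχ h1
    obtain ⟨d, -, hd, -, -⟩ := hcon μ₀ hμ₀
    have hd0 : (d : ℂ) ≠ 0 := Nat.cast_ne_zero.2 fun h => Nat.card_pos.ne' (hd.symm.trans (by rw [h, mul_zero]))
    refine ⟨d, hd, ?_⟩
    have hηcF : η cF = Wf c := by
      show χ (SemidirectProduct.inl (incl (1 : Heis BF)) * SemidirectProduct.inr c) = _
      simp [Wf]
    rw [← hηcF, char_expansion hηc, Finset.sum_apply, Finset.sum_div]
    refine IsIntegral.sum _ fun μ _ => ?_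
    obtain ⟨n, hn⟩ := classInner_natCast hηc (irr_isCharacter μ.2)
    by_cases hz : classInner η (μ : Heis BF × Q → ℂ) = 0
    · simp [hz, isIntegral_zero]
    obtain ⟨d', r, hd', hr, hval'⟩ := hcon μ hz
    obtain rfl : d' = d := Nat.mul_self_inj.1 (hd'.trans hd.symm)
    simp only [Pi.smul_apply, smul_eq_mul, hn, hval']
    rw [show (n : ℂ) * ((d' : ℂ) * r) / d' = n * r by field_simp]
    exact (isIntegral_natCast' n).mul hr
  choose d hd hdI using hdiv
  have hdD : ∀ c, d c ∣ D := fun c => by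
    refine (Nat.pow_dvd_pow_iff two_ne_zero).1 ?_
    rw [sq, sq, hd, hD2, card_ker_mul_range ρ c]
    exact dvd_mul_left _ _
  have hFinv : ∀ c : C, LinearMap.ker (disp ρ c⁻¹) = LinearMap.ker (disp ρ c) := fun c => by
    ext x
    rw [mem_ker_disp, mem_ker_disp]
    constructor <;> intro h <;> conv_lhs => rw [← h]
    all_goals rw [← Module.End.mul_apply, ← map_mul]
    · rw [mul_inv_cancel, map_one]; rfl
    · rw [inv_mul_cancel, map_one]; rfl
  have hd0 : ∀ c, (d c : ℂ) ≠ 0 := fun c => Nat.cast_ne_zero.2 fun h =>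
    Nat.card_pos.ne' ((hd c).symm.trans (by rw [h, mul_zero]))
  have hdinv : ∀ c, d c⁻¹ = d c := fun c => Nat.mul_self_inj.1 (by rw [hd, hd, hFinv])
  have hcastF : ∀ c, (Nat.card (LinearMap.ker (disp ρ c)) : ℂ) = (d c : ℂ) * d c := fun c => by
    rw [← hd, Nat.cast_mul]
  refine ⟨fun c => ((D / d c : ℕ) : ℂ) * (Wf c⁻¹ / d c), fun c => ?_, ?_, ?_, ?_, ?_⟩
  · refine (isIntegral_natCast' _).mul ?_
    rw [← hdinv]
    exact hdI c⁻¹
  · let π : C →* Equiv.Perm W :=
      { toFun := fun c =>
          { toFun := ρ c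
            invFun := ρ c⁻¹
            left_inv := fun x => by rw [← Module.End.mul_apply, ← map_mul, inv_mul_cancel, map_one]; rfl
            right_inv := fun x => by rw [← Module.End.mul_apply, ← map_mul, mul_inv_cancel, map_one]; rfl }
        map_one' := Equiv.ext fun x => show ρ 1 x = x by rw [map_one]; rfl
        map_mul' := fun a b => Equiv.ext fun x => show ρ (a * b) x = ρ a (ρ b x) by rw [map_mul]; rfl }
    have hcard : GComb fun c => (Nat.card (LinearMap.ker (disp ρ c)) : ℂ) := by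
      have h := gComb_fixedSum π (fun _ => (1 : ℂ)) (fun _ => isIntegral_one) fun _ _ => rfl
      convert h using 1
      funext c
      rw [Finset.sum_const, nsmul_one, ← Fintype.card_subtype, ← Nat.card_eq_fintype_card]
      exact congrArg _ (Nat.card_congr (Equiv.subtypeEquivRight fun x => mem_ker_disp ρ c x))
    obtain ⟨R, k, hR, hk⟩ := gComb_inverse (p := p) hcard fun c => by
      obtain ⟨i, -, hi⟩ := (Nat.dvd_prime_pow hp.out).1
        (hj ▸ card_ker_mul_range ρ c ▸ dvd_mul_left _ _ : Nat.card (LinearMap.ker (disp ρ c)) ∣ p ^ j)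
      exact ⟨i, by rw [hi, Nat.cast_pow]⟩
    refine ⟨k, ?_⟩
    have hWinv : GComb fun c => Wf c⁻¹ := by
      have h := gComb_char (C := C) (isCharacter_conj hWf) isIntegral_one
      convert h using 1
      funext c
      rw [one_mul, char_inv hWf]
    convert gComb_mul (gComb_smul hWinv (isIntegral_natCast' D)) hR using 1
    funext c
    dsimp only
    rw [← hk c, hcastF, Nat.cast_div (hdD c) (hd0 c)]
    field_simp
    rw [mul_assoc, mul_div_cancel_left₀ _ (hd0 c)]
  · have hW1 : Wf 1⁻¹ = D := by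
      show χ (SemidirectProduct.inr (1 : C)⁻¹) = _
      rw [inv_one, map_one, ← hD, ← hres, map_one]
    have h1 : d 1 = D := Nat.mul_self_inj.1 (by
      rw [hd, hD2, show LinearMap.ker (disp ρ (1 : C)) = ⊤ from Submodule.eq_top_iff'.2 fun x => by
        rw [mem_ker_disp, map_one]; rfl]
      exact Nat.card_congr (Equiv.subtypeUnivEquiv fun x => Submodule.mem_top))
    show ¬ MemLocalIdeal M (((D / d 1 : ℕ) : ℂ) * (Wf 1⁻¹ / d 1))
    rw [hW1, h1, Nat.div_self (Nat.pos_of_ne_zero hD0), div_self (Nat.cast_ne_zero.2 hD0), Nat.cast_one, mul_one]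
    exact memLI_one_iff hP
  · rintro c ⟨w, hw⟩
    refine memLI_mul_right hP ?_ (memLocalRing_of_isIntegral hP.ne_top (by rw [← hdinv]; exact hdI c⁻¹))
    rw [memLI_natCast_iff hM]
    have hne : D / d c ≠ 1 := fun h => by
      have hDd : D = d c := by
        have := Nat.div_mul_cancel (hdD c)
        rw [h, one_mul] at this
        exact this.symm
      have hI : Nat.card (LinearMap.range (disp ρ c)) = 1 := by
        have h2 := card_ker_mul_range ρ c
        rw [← hD2, hDd, hd] at h2
        exact (Nat.mul_eq_right Nat.card_pos.ne').1 h2.symm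
      refine hw ((mem_ker_disp ρ c w).1 ?_)
      haveI := (Nat.card_eq_one_iff_unique.1 hI).1
      rw [LinearMap.mem_ker]
      exact congrArg Subtype.val (Subsingleton.elim (⟨disp ρ c w, ⟨w, rfl⟩⟩ : LinearMap.range (disp ρ c)) 0)
    obtain ⟨i, -, hi⟩ := (Nat.dvd_prime_pow hp.out).1 ((Nat.div_dvd_of_dvd (hdD c)).trans hDp)
    rw [hi] at hne ⊢
    exact dvd_pow_self p fun h0 => hne (by rw [h0, pow_zero])
  · intro c
    obtain ⟨hm, hφ⟩ := char_galois_dvd hCN hWf c⁻¹
    refine ⟨mul_mem (natCast_mem _ _) (div_mem hm (natCast_mem _ _)), fun φ => ?_⟩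
    obtain ⟨k, hk, hμ⟩ := exists_power_of_embedding hN φ
    rw [show (⟨((D / d c : ℕ) : ℂ) * (Wf c⁻¹ / d c), mul_mem (natCast_mem _ _) (div_mem hm (natCast_mem _ _))⟩ : cyc N) =
      (((D / d c : ℕ) : cyc N)) * ((⟨Wf c⁻¹, hm⟩ : cyc N) / (d c : cyc N)) by ext; simp,
      map_mul, map_div₀, map_natCast, map_natCast, hφ φ k hμ]
    have hkF : LinearMap.ker (disp ρ (c⁻¹ ^ k)) = LinearMap.ker (disp ρ c) := by
      rw [← hFinv c]
      ext x
      rw [mem_ker_disp, mem_ker_disp]
      have hfix : ∀ (y : C) (m : ℕ), ρ y x = x → ρ (y ^ m) x = x := fun y m h => by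
        induction m with
        | zero => simp
        | succ m ih => rw [pow_succ, map_mul, Module.End.mul_apply, h, ih]
      refine ⟨fun h => ?_, hfix _ k⟩
      obtain ⟨m, hm'⟩ := exists_pow_eq_self_of_coprime (x := c⁻¹)
        (hk.coprime_dvd_right ((orderOf_dvd_natCard _).trans hCN))
      rw [← hm']
      exact hfix _ m h
    rw [norm_mul, norm_div, Complex.norm_natCast, Complex.norm_natCast, mul_pow, div_pow, hWnorm, hkF,
      show Nat.card {w : W // ρ c w = w} = Nat.card (LinearMap.ker (disp ρ c)) from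
        Nat.card_congr (Equiv.subtypeEquivRight fun w => (mem_ker_disp ρ c w).symm)]
    have hc0 : (d c : ℝ) ≠ 0 := by exact_mod_cast hd0 c
    rw [← hd c, Nat.cast_mul, ← hD2, Nat.cast_mul, Nat.cast_div (hdD c) hc0]
    refine le_of_eq ?_
    field_simp

end Piece

end Cfsg.Agent.Char.KGV
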