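import Mathlib

/-!
# Self-dual coprime modules: symplectic plus orthogonal
-/

set_option autoImplicit false
set_option linter.unusedSectionVars false

namespace Cfsg.Agent.Char.SelfDual

variable {F : Type*} [Field F] {G : Type*} [Group G] {V : Type*} [AddCommGroup V] [Module F V]
  [FiniteDimensional F V] (ρ : Representation F G V)

/-- An invariant subspace. -/
def Inv (T : Submodule F V) : Prop := ∀ g : G, ∀ v ∈ T, ρ g v ∈ T

/-- An invariant form on a subspace. -/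
def IOn (B : LinearMap.BilinForm F V) (T : Submodule F V) : Prop :=
  ∀ g : G, ∀ x ∈ T, ∀ y ∈ T, B (ρ g x) (ρ g y) = B x y

/-- A form without radical on a subspace. -/
def NonSing (B : LinearMap.BilinForm F V) (T : Submodule F V) : Prop :=
  ∀ x ∈ T, (∀ y ∈ T, B x y = 0) → x = 0

theorem exists_inv_compl [Finite G] [NeZero (Nat.card G : F)] {T : Submodule F V} (hT : Inv ρ T) :
    ∃ C : Submodule F V, Inv ρ C ∧ IsCompl T C := by
  let T' : Subrepresentation ρ := ⟨T, fun g v hv => hT g v hv⟩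
  obtain ⟨C', hC'⟩ := exists_isCompl T'
  refine ⟨C'.toSubmodule, fun g v hv => C'.apply_mem_toSubmodule g hv, ?_, ?_⟩
  · rw [disjoint_iff]
    exact congrArg Subrepresentation.toSubmodule hC'.inf_eq_bot
  · rw [codisjoint_iff]
    exact congrArg Subrepresentation.toSubmodule hC'.sup_eq_top

theorem inv_inf {T T' : Submodule F V} (h : Inv ρ T) (h' : Inv ρ T') : Inv ρ (T ⊓ T') :=
  fun g v hv => ⟨h g v hv.1, h' g v hv.2⟩

theorem inv_sup {T T' : Submodule F V} (h : Inv ρ T) (h' : Inv ρ T') : Inv ρ (T ⊔ T') := by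
  intro g v hv
  obtain ⟨a, ha, b, hb, rfl⟩ := Submodule.mem_sup.1 hv
  rw [map_add]
  exact Submodule.add_mem_sup (h g a ha) (h' g b hb)

theorem gInv_apply (g : G) (x : V) : ρ g (ρ g⁻¹ x) = x := by
  rw [← Module.End.mul_apply, ← map_mul, mul_inv_cancel, map_one]
  rfl

/-- Right orthogonal inside `T`. -/
def rperp (B : LinearMap.BilinForm F V) (T X : Submodule F V) : Submodule F V where
  carrier := {y | y ∈ T ∧ ∀ x ∈ X, B x y = 0}
  zero_mem' := ⟨T.zero_mem, fun x _ => map_zero _⟩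
  add_mem' := fun ha hb => ⟨T.add_mem ha.1 hb.1, fun x hx => by rw [map_add, ha.2 x hx, hb.2 x hx, add_zero]⟩
  smul_mem' := fun c y hy => ⟨T.smul_mem c hy.1, fun x hx => by rw [map_smul, hy.2 x hx, smul_zero]⟩

/-- Left orthogonal inside `T`. -/
def lperp (B : LinearMap.BilinForm F V) (T X : Submodule F V) : Submodule F V := rperp B.flip T X

theorem inv_rperp {B : LinearMap.BilinForm F V} {T X : Submodule F V} (hT : Inv ρ T) (hX : Inv ρ X)
    (hXT : X ≤ T) (hB : IOn ρ B T) : Inv ρ (rperp B T X) := by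
  rintro g y ⟨hy, hy'⟩
  refine ⟨hT g y hy, fun x hx => ?_⟩
  rw [← gInv_apply ρ g x, hB g _ (hT _ x (hXT hx)) y hy]
  exact hy' _ (hX _ x hx)

theorem iOn_flip {B : LinearMap.BilinForm F V} {T : Submodule F V} (hB : IOn ρ B T) : IOn ρ B.flip T :=
  fun g x hx y hy => hB g y hy x hx

/-- The pairing map. -/
def pairing (B : LinearMap.BilinForm F V) (X Y : Submodule F V) : X →ₗ[F] Module.Dual F Y :=
  (B.domRestrict X).compl₂ Y.subtype

theorem pairing_apply (B : LinearMap.BilinForm F V) (X Y : Submodule F V) (x : X) (y : Y) :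
    pairing B X Y x y = B (x : V) (y : V) := rfl

theorem finrank_le_of_pair {B : LinearMap.BilinForm F V} {X Y : Submodule F V}
    (h : ∀ x ∈ X, (∀ y ∈ Y, B x y = 0) → x = 0) : Module.finrank F X ≤ Module.finrank F Y := by
  rw [← Subspace.dual_finrank_eq (K := F) (V := Y)]
  refine LinearMap.finrank_le_finrank_of_injective (f := pairing B X Y) ?_
  rw [← LinearMap.ker_eq_bot, LinearMap.ker_eq_bot']
  exact fun x hx => Subtype.ext (h x x.2 fun y hy => LinearMap.congr_fun hx (⟨y, hy⟩ : Y))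

theorem pairing_surjective {B : LinearMap.BilinForm F V} {X Y : Submodule F V}
    (h : ∀ x ∈ X, (∀ y ∈ Y, B x y = 0) → x = 0) (hd : Module.finrank F X = Module.finrank F Y) :
    Function.Surjective (pairing B X Y) := by
  refine (LinearMap.injective_iff_surjective_of_finrank_eq_finrank ?_).1 ?_
  · rw [Subspace.dual_finrank_eq, hd]
  · rw [← LinearMap.ker_eq_bot, LinearMap.ker_eq_bot']
    exact fun x hx => Subtype.ext (h x x.2 fun y hy => LinearMap.congr_fun hx (⟨y, hy⟩ : Y))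

theorem nonSing_flip {B : LinearMap.BilinForm F V} {T : Submodule F V} (h : NonSing B T) :
    NonSing B.flip T := by
  intro x hx hxy
  have hs := pairing_surjective (B := B) (X := T) (Y := T) h rfl
  have h0 : (⟨x, hx⟩ : T) = 0 := by
    rw [← Module.forall_dual_apply_eq_zero_iff (R := F)]
    intro f
    obtain ⟨z, rfl⟩ := hs f
    exact hxy z z.2
  exact congrArg Subtype.val h0

/-- Splitting off a non-singular part. -/
theorem split_nonSing {B : LinearMap.BilinForm F V} {T X : Submodule F V} (hXT : X ≤ T)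
    (hX : NonSing B X) (hT : NonSing B T) :
    X ⊓ rperp B T X = ⊥ ∧ X ⊔ rperp B T X = T ∧ NonSing B (rperp B T X) := by
  have hs : X ⊔ rperp B T X = T := by
    refine le_antisymm (sup_le hXT fun y hy => hy.1) fun t ht => ?_
    obtain ⟨z, hz⟩ := pairing_surjective (B := B.flip) (X := X) (Y := X) (nonSing_flip hX) rfl
      ((B.flip t).comp X.subtype)
    refine Submodule.mem_sup.2 ⟨z, z.2, t - z, ⟨T.sub_mem ht (hXT z.2), fun x hx => ?_⟩, add_sub_cancel _ _⟩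
    have h1 : B x (z : V) = B x t := LinearMap.congr_fun hz (⟨x, hx⟩ : X)
    rw [map_sub, h1, sub_self]
  refine ⟨(Submodule.eq_bot_iff _).2 fun x hx => ?_, hs, fun x hx hxy => ?_⟩
  · exact nonSing_flip hX x hx.1 fun y hy => hx.2.2 y hy
  · have h : NonSing B.flip (rperp B T X) := fun z hz hzy => by
      refine nonSing_flip hT z hz.1 fun y hy => ?_
      rw [← hs] at hy
      obtain ⟨a, ha, b, hb, rfl⟩ := Submodule.mem_sup.1 hy
      show B (a + b) z = 0
      rw [map_add, LinearMap.add_apply, hz.2 a ha, zero_add]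
      exact hzy b hb
    exact nonSing_flip (B := B.flip) h x hx hxy

/-- Gluing two forms. -/
theorem exists_glue {X U : Submodule F V} (hXU : Disjoint X U) (A₁ A₂ : LinearMap.BilinForm F V) :
    ∃ A : LinearMap.BilinForm F V, ∀ x ∈ X, ∀ u ∈ U, ∀ x' ∈ X, ∀ u' ∈ U,
      A (x + u) (x' + u') = A₁ x x' + A₂ u u' := by
  obtain ⟨Z, hZ⟩ := Submodule.exists_isCompl (X ⊔ U)
  have h1 : IsCompl X (U ⊔ Z) :=
    ⟨hXU.disjoint_sup_right_of_disjoint_sup_left hZ.disjoint, by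
      rw [codisjoint_iff, ← sup_assoc]; exact hZ.sup_eq_top⟩
  have h2 : IsCompl U (X ⊔ Z) :=
    ⟨hXU.symm.disjoint_sup_right_of_disjoint_sup_left (by rw [sup_comm]; exact hZ.disjoint), by
      rw [codisjoint_iff, ← sup_assoc, sup_comm U X]; exact hZ.sup_eq_top⟩
  let π := X.subtype.comp (Submodule.linearProjOfIsCompl X _ h1)
  let π' := U.subtype.comp (Submodule.linearProjOfIsCompl U _ h2)
  have e1 : ∀ x ∈ X, π x = x := fun x hx => congrArg Subtype.val (Submodule.linearProjOfIsCompl_apply_left h1 (⟨x, hx⟩ : X))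
  have e2 : ∀ u ∈ U, π u = 0 := fun u hu => by
    show X.subtype (Submodule.linearProjOfIsCompl X _ h1 u) = 0
    rw [show Submodule.linearProjOfIsCompl X _ h1 u = 0 from (Submodule.linearProjOfIsCompl_apply_eq_zero_iff h1).2 (Submodule.mem_sup_left hu), map_zero]
  have e3 : ∀ u ∈ U, π' u = u := fun u hu => congrArg Subtype.val (Submodule.linearProjOfIsCompl_apply_left h2 (⟨u, hu⟩ : U))
  have e4 : ∀ x ∈ X, π' x = 0 := fun x hx => by
    show U.subtype (Submodule.linearProjOfIsCompl U _ h2 x) = 0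
    rw [show Submodule.linearProjOfIsCompl U _ h2 x = 0 from (Submodule.linearProjOfIsCompl_apply_eq_zero_iff h2).2 (Submodule.mem_sup_left hx), map_zero]
  refine ⟨A₁.compl₁₂ π π + A₂.compl₁₂ π' π', fun x hx u hu x' hx' u' hu' => ?_⟩
  simp only [LinearMap.add_apply, LinearMap.compl₁₂_apply, map_add π, map_add π', e1 x hx, e1 x' hx',
    e2 u hu, e2 u' hu', e3 u hu, e3 u' hu', e4 x hx, e4 x' hx', add_zero, zero_add]

/-- A symplectic piece. -/
def UPiece (U : Submodule F V) : Prop := Inv ρ U ∧ ∃ A : LinearMap.BilinForm F V,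
  (∀ x ∈ U, A x x = 0) ∧ IOn ρ A U ∧ NonSing A U

/-- An orthogonal piece. -/
def WPiece (p : ℕ) (W : Submodule F V) : Prop := Inv ρ W ∧ (∃ A : LinearMap.BilinForm F V,
  (∀ x ∈ W, ∀ y ∈ W, A x y = A y x) ∧ IOn ρ A W ∧ NonSing A W) ∧ (p = 2 → ∀ g : G, ∀ w ∈ W, ρ g w = w)

theorem uPiece_bot : UPiece ρ (⊥ : Submodule F V) :=
  ⟨fun g v hv => by rw [(Submodule.mem_bot F).1 hv, map_zero]; exact Submodule.zero_mem _, 0,
    fun _ _ => rfl, fun _ _ _ _ _ => rfl, fun _ hx _ => (Submodule.mem_bot F).1 hx⟩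

theorem wPiece_bot (p : ℕ) : WPiece ρ p (⊥ : Submodule F V) :=
  ⟨fun g v hv => by rw [(Submodule.mem_bot F).1 hv, map_zero]; exact Submodule.zero_mem _,
    ⟨0, fun _ _ _ _ => rfl, fun _ _ _ _ _ => rfl, fun _ hx _ => (Submodule.mem_bot F).1 hx⟩,
    fun _ g w hw => by rw [(Submodule.mem_bot F).1 hw, map_zero]⟩

theorem glue_nonSing {X U : Submodule F V} {A A₁ A₂ : LinearMap.BilinForm F V} (h₁ : NonSing A₁ X)
    (h₂ : NonSing A₂ U)
    (hA : ∀ x ∈ X, ∀ u ∈ U, ∀ x' ∈ X, ∀ u' ∈ U, A (x + u) (x' + u') = A₁ x x' + A₂ u u') :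
    NonSing A (X ⊔ U) := by
  intro v hv h
  obtain ⟨x, hx, u, hu, rfl⟩ := Submodule.mem_sup.1 hv
  have hx0 : x = 0 := h₁ x hx fun y hy => by
    have := h (y + 0) (Submodule.add_mem_sup hy U.zero_mem)
    rwa [hA x hx u hu y hy 0 U.zero_mem, map_zero, add_zero] at this
  have hu0 : u = 0 := h₂ u hu fun y hy => by
    have := h (0 + y) (Submodule.add_mem_sup X.zero_mem hy)
    rwa [hA x hx u hu 0 X.zero_mem y hy, map_zero, zero_add] at this
  rw [hx0, hu0, add_zero]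

theorem uPiece_sup {X U : Submodule F V} (hXU : Disjoint X U) (hX : UPiece ρ X) (hU : UPiece ρ U) :
    UPiece ρ (X ⊔ U) := by
  obtain ⟨iX, A₁, a1, b1, c1⟩ := hX
  obtain ⟨iU, A₂, a2, b2, c2⟩ := hU
  obtain ⟨A, hA⟩ := exists_glue hXU A₁ A₂
  refine ⟨inv_sup ρ iX iU, A, fun v hv => ?_, fun g v hv v' hv' => ?_, glue_nonSing c1 c2 hA⟩
  · obtain ⟨x, hx, u, hu, rfl⟩ := Submodule.mem_sup.1 hv
    rw [hA x hx u hu x hx u hu, a1 x hx, a2 u hu, add_zero]
  · obtain ⟨x, hx, u, hu, rfl⟩ := Submodule.mem_sup.1 hv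
    obtain ⟨x', hx', u', hu', rfl⟩ := Submodule.mem_sup.1 hv'
    rw [map_add (ρ g), map_add (ρ g), hA _ (iX g x hx) _ (iU g u hu) _ (iX g x' hx') _ (iU g u' hu'),
      hA x hx u hu x' hx' u' hu', b1 g x hx x' hx', b2 g u hu u' hu']

theorem wPiece_sup {p : ℕ} {X U : Submodule F V} (hXU : Disjoint X U) (hX : WPiece ρ p X)
    (hU : WPiece ρ p U) : WPiece ρ p (X ⊔ U) := by
  obtain ⟨iX, ⟨A₁, a1, b1, c1⟩, t1⟩ := hX
  obtain ⟨iU, ⟨A₂, a2, b2, c2⟩, t2⟩ := hU
  obtain ⟨A, hA⟩ := exists_glue hXU A₁ A₂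
  refine ⟨inv_sup ρ iX iU, ⟨A, fun v hv v' hv' => ?_, fun g v hv v' hv' => ?_, glue_nonSing c1 c2 hA⟩,
    fun hp g v hv => ?_⟩
  · obtain ⟨x, hx, u, hu, rfl⟩ := Submodule.mem_sup.1 hv
    obtain ⟨x', hx', u', hu', rfl⟩ := Submodule.mem_sup.1 hv'
    rw [hA x hx u hu x' hx' u' hu', hA x' hx' u' hu' x hx u hu, a1 x hx x' hx', a2 u hu u' hu']
  · obtain ⟨x, hx, u, hu, rfl⟩ := Submodule.mem_sup.1 hv
    obtain ⟨x', hx', u', hu', rfl⟩ := Submodule.mem_sup.1 hv'
    rw [map_add (ρ g), map_add (ρ g), hA _ (iX g x hx) _ (iU g u hu) _ (iX g x' hx') _ (iU g u' hu'),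
      hA x hx u hu x' hx' u' hu', b1 g x hx x' hx', b2 g u hu u' hu']
  · obtain ⟨x, hx, u, hu, rfl⟩ := Submodule.mem_sup.1 hv
    rw [map_add, t1 hp g x hx, t2 hp g u hu]

/-- An irreducible non-singular part is symplectic or orthogonal. -/
theorem piece_of_irreducible (p : ℕ) [CharP F p] {B : LinearMap.BilinForm F V} {X : Submodule F V}
    (hXi : Inv ρ X) (hirr : ∀ Y ≤ X, Inv ρ Y → Y = ⊥ ∨ Y = X) (hB : IOn ρ B X) (hN : NonSing B X) :
    UPiece ρ X ∨ WPiece ρ p X := by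
  set A := B - B.flip with hA
  have hAa : ∀ x y, A x y = B x y - B y x := fun x y => rfl
  have hAi : IOn ρ A X := fun g x hx y hy => by rw [hAa, hAa, hB g x hx y hy, hB g y hy x hx]
  rcases hirr (rperp A X X) (fun y hy => hy.1) (inv_rperp ρ hXi hXi le_rfl hAi) with h | h
  · refine Or.inl ⟨hXi, A, fun x _ => by rw [hAa, sub_self], hAi, fun x hx hxy => ?_⟩
    have h1 : x ∈ rperp A X X := ⟨hx, fun y hy => by
      have := hxy y hy
      rw [hAa] at this ⊢
      linear_combination -this⟩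
    rwa [h, Submodule.mem_bot] at h1
  have hsym : ∀ x ∈ X, ∀ y ∈ X, B x y = B y x := fun x hx y hy => by
    have h1 : y ∈ rperp A X X := h.symm ▸ hy
    exact sub_eq_zero.1 (h1.2 x hx)
  by_cases hp : p = 2
  · subst hp
    have h2 : (2 : F) = 0 := by exact_mod_cast CharP.cast_eq_zero F 2
    let N : Submodule F V :=
      { carrier := {x | x ∈ X ∧ B x x = 0}
        zero_mem' := ⟨X.zero_mem, map_zero _⟩
        add_mem' := fun {a b} ha hb => ⟨X.add_mem ha.1 hb.1, by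
          simp only [map_add, LinearMap.add_apply, ha.2, hb.2, hsym b hb.1 a ha.1]
          linear_combination (B a b) * h2⟩
        smul_mem' := fun c a ha => ⟨X.smul_mem c ha.1, by simp [ha.2]⟩ }
    rcases hirr N (fun x hx => hx.1) (fun g x hx => ⟨hXi g x hx.1, (hB g x hx.1 x hx.1).trans hx.2⟩) with hb | ht
    · refine Or.inr ⟨hXi, ⟨B, hsym, hB, hN⟩, fun _ g x hx => ?_⟩
      have h1 : ρ g x - x ∈ N := ⟨X.sub_mem (hXi g x hx) hx, by
        simp only [map_sub, LinearMap.sub_apply, hB g x hx x hx, hsym x hx _ (hXi g x hx)]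
        linear_combination (B x x - B (ρ g x) x) * h2⟩
      rw [hb, Submodule.mem_bot, sub_eq_zero] at h1
      exact h1
    · exact Or.inl ⟨hXi, B, fun x hx => (ht.symm ▸ hx : x ∈ N).2, hB, hN⟩
  · exact Or.inr ⟨hXi, ⟨B, hsym, hB, hN⟩, fun h => absurd h hp⟩

/-- An irreducible totally isotropic part extends to a hyperbolic part. -/
theorem exists_hyperbolic [Finite G] [NeZero (Nat.card G : F)] {B : LinearMap.BilinForm F V}
    {T X : Submodule F V} (hTi : Inv ρ T) (hXT : X ≤ T) (hXi : Inv ρ X) (hX0 : X ≠ ⊥)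
    (hirr : ∀ Y ≤ X, Inv ρ Y → Y = ⊥ ∨ Y = X) (hB : IOn ρ B T) (hN : NonSing B T)
    (hiso : ∀ x ∈ X, ∀ y ∈ X, B x y = 0) :
    ∃ P : Submodule F V, P ≤ T ∧ P ≠ ⊥ ∧ UPiece ρ P ∧ NonSing B P := by
  have hRi := inv_rperp ρ hTi hXi hXT hB
  have hLi := inv_rperp ρ hTi hXi hXT (iOn_flip ρ hB)
  -- a complement of one orthogonal inside `T`
  have comp : ∀ (B' : LinearMap.BilinForm F V), IOn ρ B' T → NonSing B' T →
      ∃ D : Submodule F V, D ≤ T ∧ Inv ρ D ∧ D ⊓ rperp B' T X = ⊥ ∧ D ≠ ⊥ := by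
    intro B' hB' hN'
    obtain ⟨Q, hQi, hQ⟩ := exists_inv_compl ρ (inv_rperp ρ hTi hXi hXT hB')
    refine ⟨Q ⊓ T, inf_le_right, inv_inf ρ hQi hTi, (Submodule.eq_bot_iff _).2 fun x hx => ?_, fun hb => ?_⟩
    · exact (Submodule.mem_bot F).1 (hQ.inf_eq_bot ▸ ⟨hx.2, hx.1.1⟩)
    · obtain ⟨x, hx, hx0⟩ := Submodule.exists_mem_ne_zero_of_ne_bot hX0
      refine hx0 (hN' x (hXT hx) fun y hy => ?_)
      have hy' : y ∈ rperp B' T X ⊔ Q := by rw [hQ.sup_eq_top]; trivial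
      obtain ⟨a, ha, b, hb', rfl⟩ := Submodule.mem_sup.1 hy'
      have hbT : b ∈ T := by
        have := T.sub_mem hy ha.1
        rwa [add_sub_cancel_left] at this
      have : b = 0 := (Submodule.mem_bot F).1 (hb ▸ ⟨hb', hbT⟩)
      rw [this, add_zero]
      exact ha.2 x hx
  -- such a complement pairs with `X`
  have pair : ∀ (B' : LinearMap.BilinForm F V), IOn ρ B' T → ∀ D : Submodule F V, D ≤ T → Inv ρ D →
      D ⊓ rperp B' T X = ⊥ → D ≠ ⊥ →
      (∀ d ∈ D, (∀ x ∈ X, B' x d = 0) → d = 0) ∧ (∀ x ∈ X, (∀ d ∈ D, B' x d = 0) → x = 0) ∧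
        Module.finrank F D = Module.finrank F X := by
    intro B' hB' D hDT hDi hD hD0
    have h1 : ∀ d ∈ D, (∀ x ∈ X, B' x d = 0) → d = 0 := fun d hd h =>
      (Submodule.mem_bot F).1 (hD ▸ ⟨hd, hDT hd, h⟩)
    have h2 : ∀ x ∈ X, (∀ d ∈ D, B' x d = 0) → x = 0 := by
      intro x hx hxd
      rcases hirr (X ⊓ lperp B' T D) inf_le_left
        (inv_inf ρ hXi (inv_rperp ρ hTi hDi hDT (iOn_flip ρ hB'))) with h | h
      · exact (Submodule.mem_bot F).1 (h ▸ ⟨hx, hXT hx, hxd⟩)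
      · exfalso
        refine hD0 ((Submodule.eq_bot_iff _).2 fun d hd => h1 d hd fun x' hx' => ?_)
        exact (h.symm ▸ hx' : x' ∈ X ⊓ lperp B' T D).2.2 d hd
    exact ⟨h1, h2, le_antisymm (finrank_le_of_pair (B := B'.flip) h1) (finrank_le_of_pair h2)⟩
  have irrD : ∀ (B' : LinearMap.BilinForm F V), IOn ρ B' T → ∀ D : Submodule F V, D ≤ T → Inv ρ D →
      D ⊓ rperp B' T X = ⊥ → D ≠ ⊥ → ∀ Y ≤ D, Inv ρ Y → Y = ⊥ ∨ Y = D := by
    intro B' hB' D hDT hDi hD hD0 Y hY hYi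
    by_cases hY0 : Y = ⊥
    · exact Or.inl hY0
    · refine Or.inr (Submodule.eq_of_le_of_finrank_eq hY ?_)
      rw [(pair B' hB' D hDT hDi hD hD0).2.2,
        (pair B' hB' Y (hY.trans hDT) hYi (eq_bot_iff.2 fun y hy => hD ▸ ⟨hY hy.1, hy.2⟩) hY0).2.2]
  obtain ⟨C, hCT, hCi, hCR, hCL, hC0⟩ : ∃ C : Submodule F V, C ≤ T ∧ Inv ρ C ∧
      C ⊓ rperp B T X = ⊥ ∧ C ⊓ lperp B T X = ⊥ ∧ C ≠ ⊥ := by
    obtain ⟨D, hDT, hDi, hDR, hD0⟩ := comp B hB hN
    rcases irrD B hB D hDT hDi hDR hD0 (D ⊓ lperp B T X) inf_le_left (inv_inf ρ hDi hLi) with h | hDL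
    · exact ⟨D, hDT, hDi, hDR, h, hD0⟩
    obtain ⟨E, hET, hEi, hEL, hE0⟩ := comp B.flip (iOn_flip ρ hB) (nonSing_flip hN)
    rcases irrD B.flip (iOn_flip ρ hB) E hET hEi hEL hE0 (E ⊓ rperp B T X) inf_le_left (inv_inf ρ hEi hRi) with h | hER
    · exact ⟨E, hET, hEi, h, hEL, hE0⟩
    -- a diagonal
    obtain ⟨d1, -, dd⟩ := pair B hB D hDT hDi hDR hD0
    obtain ⟨e1, -, de⟩ := pair B.flip (iOn_flip ρ hB) E hET hEi hEL hE0
    have hθ : ∀ d : D, ∃ e : E, ∀ x ∈ X, B (e : V) x = B x (d : V) := fun d => by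
      obtain ⟨e, he⟩ := pairing_surjective (B := B) (X := E) (Y := X) e1 de ((B.flip d).comp X.subtype)
      exact ⟨e, fun x hx => LinearMap.congr_fun he (⟨x, hx⟩ : X)⟩
    let C : Submodule F V :=
      { carrier := {v | ∃ d ∈ D, ∃ e ∈ E, (∀ x ∈ X, B e x = B x d) ∧ v = d + e}
        zero_mem' := ⟨0, D.zero_mem, 0, E.zero_mem, fun x _ => by simp, (add_zero 0).symm⟩
        add_mem' := by
          rintro _ _ ⟨d, hd, e, he, h, rfl⟩ ⟨d', hd', e', he', h', rfl⟩
          exact ⟨d + d', D.add_mem hd hd', e + e', E.add_mem he he', fun x hx => by simp [h x hx, h' x hx],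
            add_add_add_comm _ _ _ _⟩
        smul_mem' := by
          rintro c _ ⟨d, hd, e, he, h, rfl⟩
          exact ⟨c • d, D.smul_mem c hd, c • e, E.smul_mem c he, fun x hx => by simp [h x hx], smul_add _ _ _⟩ }
    have hDLm : ∀ d ∈ D, ∀ x ∈ X, B d x = 0 := fun d hd x hx => (hDL.symm ▸ hd : d ∈ D ⊓ lperp B T X).2.2 x hx
    have hERm : ∀ e ∈ E, ∀ x ∈ X, B x e = 0 := fun e he x hx => (hER.symm ▸ he : e ∈ E ⊓ rperp B T X).2.2 x hx
    refine ⟨C, ?_, ?_, (Submodule.eq_bot_iff _).2 ?_, (Submodule.eq_bot_iff _).2 ?_, fun hb => ?_⟩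
    · rintro _ ⟨d, hd, e, he, -, rfl⟩
      exact T.add_mem (hDT hd) (hET he)
    · rintro g _ ⟨d, hd, e, he, h, rfl⟩
      refine ⟨ρ g d, hDi g d hd, ρ g e, hEi g e he, fun x hx => ?_, map_add _ _ _⟩
      rw [← gInv_apply ρ g x, hB g e (hET he) _ (hXT (hXi _ x hx)), hB g _ (hXT (hXi _ x hx)) d (hDT hd)]
      exact h _ (hXi _ x hx)
    · rintro _ ⟨⟨d, hd, e, he, h, rfl⟩, -, hm⟩
      have hd0 : d = 0 := d1 d hd fun x hx => by
        have := hm x hx
        rwa [map_add, hERm e he x hx, add_zero] at this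
      have he0 : e = 0 := e1 e he fun x hx => by
        show B e x = 0
        rw [h x hx, hd0, map_zero]
      rw [hd0, he0, add_zero]
    · rintro _ ⟨⟨d, hd, e, he, h, rfl⟩, -, hm⟩
      have he0 : e = 0 := e1 e he fun x hx => by
        have := hm x hx
        change B (d + e) x = 0 at this
        rw [map_add, LinearMap.add_apply, hDLm d hd x hx, zero_add] at this
        exact this
      have hd0 : d = 0 := d1 d hd fun x hx => by rw [← h x hx, he0, map_zero, LinearMap.zero_apply]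
      rw [hd0, he0, add_zero]
    · obtain ⟨d, hd, hd0⟩ := Submodule.exists_mem_ne_zero_of_ne_bot hD0
      obtain ⟨e, he⟩ := hθ ⟨d, hd⟩
      have h1 : d + (e : V) = 0 := (Submodule.mem_bot F).1 (hb ▸ (⟨d, hd, e, e.2, he, rfl⟩ : d + (e : V) ∈ C))
      refine hd0 (d1 d hd fun x hx => ?_)
      have := congrArg (fun v => B x v) h1
      simpa [hERm e e.2 x hx] using this
  obtain ⟨c1, c2, -⟩ := pair B hB C hCT hCi hCR hC0
  have hdisj : Disjoint X C := by
    rw [Submodule.disjoint_def]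
    exact fun x hx hxC => c1 x hxC fun y hy => hiso y hy x hx
  obtain ⟨π, hπ⟩ : ∃ π : V →ₗ[F] V, ∀ x ∈ X, ∀ c ∈ C, π (x + c) = x := by
    obtain ⟨Z, hZ⟩ := Submodule.exists_isCompl (X ⊔ C)
    have h1 : IsCompl X (C ⊔ Z) :=
      ⟨hdisj.disjoint_sup_right_of_disjoint_sup_left hZ.disjoint, by
        rw [codisjoint_iff, ← sup_assoc]; exact hZ.sup_eq_top⟩
    refine ⟨X.subtype.comp (Submodule.linearProjOfIsCompl X _ h1), fun x hx c hc => ?_⟩
    rw [map_add]
    have e1 := Submodule.linearProjOfIsCompl_apply_left h1 (⟨x, hx⟩ : X)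
    rw [LinearMap.comp_apply, LinearMap.comp_apply, show Submodule.linearProjOfIsCompl X _ h1 c = 0 from
      (Submodule.linearProjOfIsCompl_apply_eq_zero_iff h1).2 (Submodule.mem_sup_left hc), map_zero, add_zero]
    exact congrArg Subtype.val e1
  let π' : V →ₗ[F] V := LinearMap.id - π
  have hπ' : ∀ x ∈ X, ∀ c ∈ C, π' (x + c) = c := fun x hx c hc => by
    simp [π', hπ x hx c hc]
  let A : LinearMap.BilinForm F V := B.compl₁₂ π π' - (B.compl₁₂ π π').flip
  have hA : ∀ x ∈ X, ∀ c ∈ C, ∀ x' ∈ X, ∀ c' ∈ C, A (x + c) (x' + c') = B x c' - B x' c :=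
    fun x hx c hc x' hx' c' hc' => by
      simp only [A, LinearMap.sub_apply, LinearMap.flip_apply, LinearMap.compl₁₂_apply, hπ x hx c hc,
        hπ x' hx' c' hc', hπ' x hx c hc, hπ' x' hx' c' hc']
  refine ⟨X ⊔ C, sup_le hXT hCT, fun h => hX0 (eq_bot_iff.2 (h ▸ le_sup_left)),
    ⟨inv_sup ρ hXi hCi, A, fun v _ => by simp [A], fun g v hv v' hv' => ?_, fun v hv h => ?_⟩, fun v hv h => ?_⟩
  · obtain ⟨x, hx, c, hc, rfl⟩ := Submodule.mem_sup.1 hv
    obtain ⟨x', hx', c', hc', rfl⟩ := Submodule.mem_sup.1 hv'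
    rw [map_add (ρ g), map_add (ρ g), hA _ (hXi g x hx) _ (hCi g c hc) _ (hXi g x' hx') _ (hCi g c' hc'),
      hA x hx c hc x' hx' c' hc', hB g x (hXT hx) c' (hCT hc'), hB g x' (hXT hx') c (hCT hc)]
  · obtain ⟨x, hx, c, hc, rfl⟩ := Submodule.mem_sup.1 hv
    have hx0 : x = 0 := c2 x hx fun c' hc' => by
      have := h (0 + c') (Submodule.add_mem_sup X.zero_mem hc')
      rw [hA x hx c hc 0 X.zero_mem c' hc'] at this
      simpa using this
    have hc0 : c = 0 := c1 c hc fun x' hx' => by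
      have := h (x' + 0) (Submodule.add_mem_sup hx' C.zero_mem)
      rw [hA x hx c hc x' hx' 0 C.zero_mem] at this
      simpa using this
    rw [hx0, hc0, add_zero]
  · obtain ⟨x, hx, c, hc, rfl⟩ := Submodule.mem_sup.1 hv
    have hc0 : c = 0 := (Submodule.mem_bot F).1 (hCL ▸ (⟨hc, hCT hc, fun x' hx' => by
      have := h x' (Submodule.mem_sup_left hx')
      rw [map_add, LinearMap.add_apply, hiso x hx x' hx', zero_add] at this
      exact this⟩ : c ∈ C ⊓ lperp B T X))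
    have hx0 : x = 0 := c2 x hx fun c' hc' => by
      have := h c' (Submodule.mem_sup_right hc')
      rwa [hc0, add_zero] at this
    rw [hx0, hc0, add_zero]

theorem exists_decomp [Finite G] [NeZero (Nat.card G : F)] (p : ℕ) [CharP F p] (B : LinearMap.BilinForm F V) :
    ∀ (n : ℕ) (T : Submodule F V), Module.finrank F T = n → Inv ρ T → IOn ρ B T → NonSing B T →
      ∃ U W : Submodule F V, U ⊓ W = ⊥ ∧ U ⊔ W = T ∧ UPiece ρ U ∧ WPiece ρ p W := by
  intro n
  induction n using Nat.strong_induction_on with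
  | _ n ih =>
    intro T hn hTi hB hN
    by_cases hT0 : T = ⊥
    · exact ⟨⊥, ⊥, bot_inf_eq _, by rw [hT0, bot_sup_eq], uPiece_bot ρ, wPiece_bot ρ p⟩
    obtain ⟨X, ⟨hX0, hXT, hXi⟩, hmin⟩ := wellFounded_lt.has_min
      {X : Submodule F V | X ≠ ⊥ ∧ X ≤ T ∧ Inv ρ X} ⟨T, hT0, le_rfl, hTi⟩
    have hirr : ∀ Y ≤ X, Inv ρ Y → Y = ⊥ ∨ Y = X := fun Y hY hYi => by
      by_cases h : Y = ⊥
      · exact Or.inl h
      · exact Or.inr ((lt_or_eq_of_le hY).resolve_left (hmin Y ⟨h, hY.trans hXT, hYi⟩))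
    have hBX : IOn ρ B X := fun g x hx y hy => hB g x (hXT hx) y (hXT hy)
    have hP : ∃ P : Submodule F V, P ≤ T ∧ P ≠ ⊥ ∧ (UPiece ρ P ∨ WPiece ρ p P) ∧ NonSing B P := by
      rcases hirr (rperp B X X) (fun y hy => hy.1) (inv_rperp ρ hXi hXi le_rfl hBX) with h | h
      · have hNX : NonSing B X := nonSing_flip (B := B.flip) fun x hx hxy =>
          (Submodule.mem_bot F).1 (h ▸ (⟨hx, hxy⟩ : x ∈ rperp B X X))
        exact ⟨X, hXT, hX0, piece_of_irreducible ρ p hXi hirr hBX hNX, hNX⟩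
      · obtain ⟨P, h1, h2, h3, h4⟩ := exists_hyperbolic ρ hTi hXT hXi hX0 hirr hB hN
          (fun x hx y hy => (h.symm ▸ hy : y ∈ rperp B X X).2 x hx)
        exact ⟨P, h1, h2, Or.inl h3, h4⟩
    obtain ⟨P, hPT, hP0, hpiece, hPN⟩ := hP
    have hPi : Inv ρ P := hpiece.elim (fun h => h.1) (fun h => h.1)
    obtain ⟨hi, hs, hNR⟩ := split_nonSing hPT hPN hN
    have hRT : rperp B T P ≤ T := fun y hy => hy.1
    have hlt : rperp B T P < T := lt_of_le_of_ne hRT fun e => hP0 (by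
      rw [e] at hi
      rwa [inf_eq_left.2 hPT] at hi)
    obtain ⟨U, W, hUW, hsup, hU, hW⟩ := ih _ (hn ▸ Submodule.finrank_lt_finrank_of_lt hlt) _ rfl
      (inv_rperp ρ hTi hPi hPT hB) (fun g x hx y hy => hB g x (hRT hx) y (hRT hy)) hNR
    have hd : Disjoint P (U ⊔ W) := disjoint_iff.2 (hsup ▸ hi)
    rcases hpiece with hp' | hp'
    · refine ⟨P ⊔ U, W, ?_, by rw [sup_assoc, hsup, hs], uPiece_sup ρ (hd.mono_right le_sup_left) hp' hU, hW⟩
      rw [← disjoint_iff]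
      exact (disjoint_iff.2 hUW).disjoint_sup_left_of_disjoint_sup_right hd
    · refine ⟨U, P ⊔ W, ?_, by rw [← sup_assoc, sup_comm U P, sup_assoc, hsup, hs], hU,
        wPiece_sup ρ (hd.mono_right le_sup_right) hp' hW⟩
      rw [← disjoint_iff]
      rw [sup_comm P W]
      exact (disjoint_iff.2 hUW).disjoint_sup_right_of_disjoint_sup_left hd.symm

end Cfsg.Agent.Char.SelfDual
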