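import Cfsg.Agent.Lib.Char.KGVHeisenberg
import Cfsg.Agent.Lib.Char.SelfDualModule

/-!
# The real vector criterion for `k(GV)`
-/

set_option autoImplicit false
set_option linter.unusedSectionVars false
set_option linter.style.haveILetI false

namespace Cfsg.Agent.Char.KGV

open Cfsg
open scoped ComplexConjugate

universe u

section SelfDual

variable {C : Type u} [Group C] [Fintype C] {p N : ℕ} [hp : Fact p.Prime] {W : Type u} [AddCommGroup W]
  [Module (ZMod p) W] [Finite W] (ρ : Representation (ZMod p) C W)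

/-- An alternating form is the antisymmetrization of an invariant form. -/
theorem exists_invariant_split (hC : ¬ p ∣ Nat.card C) (A : LinearMap.BilinForm (ZMod p) W)
    (halt : ∀ x, A x x = 0) (hAinv : ∀ c x y, A (ρ c x) (ρ c y) = A x y) :
    ∃ B : LinearMap.BilinForm (ZMod p) W, (∀ c x y, B (ρ c x) (ρ c y) = B x y) ∧
      ∀ x y, B x y - B y x = A x y := by
  classical
  let b := Module.finBasis (ZMod p) W
  let B0 : LinearMap.BilinForm (ZMod p) W :=
    ∑ i, ∑ j ∈ Finset.univ.filter (fun j => i < j), (b.coord i).smulRight (A (b i) (b j) • b.coord j)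
  have hB0 : ∀ x y, B0 x y =
      ∑ i, ∑ j, if i < j then b.repr x i * A (b i) (b j) * b.repr y j else 0 := fun x y => by
    simp only [B0, LinearMap.coe_sum, Finset.sum_apply, LinearMap.smulRight_apply, LinearMap.smul_apply,
      Module.Basis.coord_apply, smul_eq_mul, Finset.sum_filter]
    refine Finset.sum_congr rfl fun i _ => Finset.sum_congr rfl fun j _ => ?_
    split_ifs <;> simp [mul_assoc]
  have hanti : ∀ x y, A x y + A y x = 0 := fun x y => by
    have h := halt (x + y)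
    rw [map_add, map_add, LinearMap.add_apply, LinearMap.add_apply, halt, halt, zero_add, add_zero] at h
    linear_combination h
  have hdiff : ∀ x y, B0 x y - B0 y x = A x y := fun x y => by
    conv_rhs => rw [← b.sum_repr x, ← b.sum_repr y]
    simp only [map_sum, LinearMap.coe_sum, Finset.sum_apply, map_smul, LinearMap.smul_apply, smul_eq_mul]
    rw [hB0, hB0, Finset.sum_comm (f := fun i j => if i < j then b.repr y i * A (b i) (b j) * b.repr x j else 0),
      ← Finset.sum_sub_distrib]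
    simp only [← Finset.sum_sub_distrib]
    simp only [Finset.mul_sum]
    conv_rhs => rw [Finset.sum_comm]
    refine Finset.sum_congr rfl fun i _ => Finset.sum_congr rfl fun j _ => ?_
    rcases lt_trichotomy i j with h | h | h
    · rw [if_pos h, if_neg (not_lt.2 h.le)]; ring
    · subst h; simp [halt]
    · rw [if_neg (not_lt.2 h.le), if_pos h]
      linear_combination (-(b.repr x i * b.repr y j)) * hanti (b i) (b j)
  have hne : (Fintype.card C : ZMod p) ≠ 0 := by
    rw [← Nat.card_eq_fintype_card, Ne, ZMod.natCast_eq_zero_iff]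
    exact hC
  refine ⟨(Fintype.card C : ZMod p)⁻¹ • ∑ g, B0.compl₁₂ (ρ g) (ρ g), fun c x y => ?_, fun x y => ?_⟩
  · simp only [LinearMap.smul_apply, LinearMap.coe_sum, Finset.sum_apply, LinearMap.compl₁₂_apply]
    congr 1
    refine Fintype.sum_equiv (Equiv.mulRight c) _ _ fun g => ?_
    rw [Equiv.coe_mulRight, map_mul, Module.End.mul_apply, Module.End.mul_apply]
  · simp only [LinearMap.smul_apply, LinearMap.coe_sum, Finset.sum_apply, LinearMap.compl₁₂_apply, smul_eq_mul]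
    rw [← mul_sub, ← Finset.sum_sub_distrib, Finset.sum_congr rfl fun g _ => (hdiff _ _).trans (hAinv g x y),
      Finset.sum_const, Finset.card_univ, nsmul_eq_mul, ← mul_assoc, inv_mul_cancel₀ hne, one_mul]

theorem hasClassDelta_selfDual {M : Ideal AlgInt} (hM : IsPModular p M) (hN : N ≠ 0) (hCN : Nat.card C ∣ N)
    (hpN : p ∣ N) (hC : ¬ p ∣ Nat.card C) (B : LinearMap.BilinForm (ZMod p) W)
    (hinv : ∀ c x y, B (ρ c x) (ρ c y) = B x y) (hnd : ∀ x, (∀ y, B x y = 0) → x = 0) :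
    HasClassDelta (C := C) p N M fun c => (ρ c : W → W) := by
  classical
  have hP := pmod_prime hM
  haveI : NeZero (Nat.card C : ZMod p) := ⟨by rwa [Ne, ZMod.natCast_eq_zero_iff]⟩
  obtain ⟨U, X, hUX, hsup, ⟨iU, A, a1, a2, a3⟩, ⟨iX, ⟨S, s1, s2, s3⟩, t⟩⟩ :=
    SelfDual.exists_decomp ρ p B _ ⊤ rfl (fun _ _ _ => Submodule.mem_top)
      (fun g x _ y _ => hinv g x y) (fun x _ h => hnd x fun y => h y Submodule.mem_top)
  have hc : IsCompl U X := IsCompl.of_eq hUX hsup
  let ρU : Representation (ZMod p) C U :=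
    { toFun := fun g => (ρ g).restrict (fun u hu => iU g u hu)
      map_one' := LinearMap.ext fun u => Subtype.ext (show ρ 1 (u : W) = u by rw [map_one]; rfl)
      map_mul' := fun g h => LinearMap.ext fun u =>
        Subtype.ext (show ρ (g * h) (u : W) = ρ g (ρ h (u : W)) by rw [map_mul]; rfl) }
  let ρX : Representation (ZMod p) C X :=
    { toFun := fun g => (ρ g).restrict (fun u hu => iX g u hu)
      map_one' := LinearMap.ext fun u => Subtype.ext (show ρ 1 (u : W) = u by rw [map_one]; rfl)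
      map_mul' := fun g h => LinearMap.ext fun u =>
        Subtype.ext (show ρ (g * h) (u : W) = ρ g (ρ h (u : W)) by rw [map_mul]; rfl) }
  obtain ⟨δ₁, i₁, P₁, o₁, l₁, b₁⟩ : HasClassDelta (C := C) p N M fun c => (ρU c : U → U) := by
    obtain ⟨B1, hB1, hB1A⟩ := exists_invariant_split ρU hC (A.compl₁₂ U.subtype U.subtype)
      (fun x => a1 _ x.2) (fun c x y => a2 c _ x.2 _ y.2)
    refine hasClassDelta_symp ρU hM hN hCN hC B1 hB1 fun x h => Subtype.ext (a3 _ x.2 fun y hy => ?_)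
    exact (hB1A x ⟨y, hy⟩).symm.trans (sub_eq_zero.2 (h ⟨y, hy⟩))
  obtain ⟨δ₂, i₂, P₂, o₂, l₂, b₂⟩ : HasClassDelta (C := C) p N M fun c => (ρX c : X → X) := by
    by_cases hp2 : p = 2
    · exact hasClassDelta_trivial ρX hM fun c w => Subtype.ext (t hp2 c w w.2)
    · exact hasClassDelta_orth ρX hM hN hpN hC hp2 (S.compl₁₂ X.subtype X.subtype)
        (fun x y => s1 _ x.2 _ y.2) (fun c x y => s2 c _ x.2 _ y.2)
        fun x h => Subtype.ext (s3 _ x.2 fun y hy => h ⟨y, hy⟩)
  have hLR : ∀ {z : ℂ}, IsIntegral ℤ z → MemLocalRing M z := fun h => memLocalRing_of_isIntegral hP.ne_top h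
  refine ⟨fun c => δ₁ c * δ₂ c, fun c => (i₁ c).mul (i₂ c), pComb_mul P₁ P₂,
    fun h => (memLI_mul_mem hP (hLR (i₁ 1)) (hLR (i₂ 1)) h).elim o₁ o₂, ?_, ?_⟩
  · rintro c ⟨w, hw⟩
    by_cases h₁ : ∃ u, ρU c u ≠ u
    · exact memLI_mul_right hP (l₁ c h₁) (hLR (i₂ c))
    refine memLI_mul_left hP (hLR (i₁ c)) (l₂ c ?_)
    by_contra h₂
    push Not at h₁ h₂
    refine hw ?_
    obtain ⟨u, hu, x, hx, rfl⟩ := Submodule.mem_sup.1 (hsup ▸ Submodule.mem_top (x := w) : w ∈ U ⊔ X)
    show ρ c (u + x) = u + x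
    rw [map_add, show ρ c u = u from congrArg Subtype.val (h₁ ⟨u, hu⟩),
      show ρ c x = x from congrArg Subtype.val (h₂ ⟨x, hx⟩)]
  · intro c
    obtain ⟨m₁, e₁⟩ := b₁ c
    obtain ⟨m₂, e₂⟩ := b₂ c
    refine ⟨mul_mem m₁ m₂, fun φ => ?_⟩
    have hle : Nat.card {w : W // ρ c w = w} ≤
        Nat.card {u : U // ρU c u = u} * Nat.card {x : X // ρX c x = x} := by
      rw [← Nat.card_prod]
      refine Nat.card_le_card_of_surjective (fun z : {u : U // ρU c u = u} × {x : X // ρX c x = x} =>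
        (⟨(z.1.1 : W) + z.2.1, by
          rw [map_add, show ρ c (z.1.1 : W) = z.1.1 from congrArg Subtype.val z.1.2,
            show ρ c (z.2.1 : W) = z.2.1 from congrArg Subtype.val z.2.2]⟩ : {w : W // ρ c w = w})) fun w => ?_
      obtain ⟨u, hu, x, hx, hw⟩ := Submodule.mem_sup.1 (hsup ▸ Submodule.mem_top (x := (w : W)) : (w : W) ∈ U ⊔ X)
      have h1 : ρ c u - u = x - ρ c x := by
        have h := w.2
        rw [← hw, map_add] at h
        rw [sub_eq_sub_iff_add_eq_add, h, add_comm]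
      have h2 : ρ c u - u ∈ U ⊓ X :=
        ⟨U.sub_mem (iU c u hu) hu, h1 ▸ X.sub_mem hx (iX c x hx)⟩
      rw [hUX, Submodule.mem_bot] at h2
      exact ⟨(⟨⟨u, hu⟩, Subtype.ext (sub_eq_zero.1 h2)⟩,
        ⟨⟨x, hx⟩, Subtype.ext (sub_eq_zero.1 (h1.symm.trans h2)).symm⟩), Subtype.ext hw⟩
    have hmul : Nat.card W = Nat.card U * Nat.card X := by
      rw [← Nat.card_prod]
      exact Nat.card_congr (Submodule.prodEquivOfIsCompl U X hc).toEquiv.symm
    rw [show (⟨δ₁ c * δ₂ c, mul_mem m₁ m₂⟩ : cyc N) = ⟨δ₁ c, m₁⟩ * ⟨δ₂ c, m₂⟩ from rfl, map_mul,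
      norm_mul, mul_pow, hmul, Nat.cast_mul]
    calc ‖φ ⟨δ₁ c, m₁⟩‖ ^ 2 * ‖φ ⟨δ₂ c, m₂⟩‖ ^ 2 * (Nat.card {w : W // ρ c w = w} : ℝ)
        ≤ ‖φ ⟨δ₁ c, m₁⟩‖ ^ 2 * ‖φ ⟨δ₂ c, m₂⟩‖ ^ 2 *
            ((Nat.card {u : U // ρU c u = u} : ℝ) * Nat.card {x : X // ρX c x = x}) := by
          refine mul_le_mul_of_nonneg_left ?_ (by positivity)
          exact_mod_cast hle
      _ = (‖φ ⟨δ₁ c, m₁⟩‖ ^ 2 * Nat.card {u : U // ρU c u = u}) *
            (‖φ ⟨δ₂ c, m₂⟩‖ ^ 2 * Nat.card {x : X // ρX c x = x}) := by ring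
      _ ≤ _ := mul_le_mul (e₁ φ) (e₂ φ) (by positivity) (by positivity)

end SelfDual

theorem class_number_le_real {X : Type u} [Group X] [Finite X] (p : ℕ) [hp : Fact p.Prime] (V : Subgroup X)
    [hVn : V.Normal] (hVexp : ∀ v ∈ V, v ^ p = 1) (hidx : ¬ p ∣ V.index)
    (hself : Subgroup.centralizer (V : Set X) = V) (G : Subgroup X) (hGV : Subgroup.IsComplement' V G)
    (v : X) (hv : v ∈ V) (U : Subgroup X) (hUV : U ≤ V)
    (hUinv : ∀ h ∈ G, h * v * h⁻¹ = v → ∀ u ∈ U, h * u * h⁻¹ ∈ U)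
    (hUfaith : ∀ h ∈ G, h * v * h⁻¹ = v → (∀ u ∈ U, h * u * h⁻¹ = u) → h = 1) (β : X → X → ZMod p)
    (hβl : ∀ u ∈ U, ∀ u' ∈ U, ∀ w ∈ U, β (u * u') w = β u w + β u' w)
    (hβr : ∀ u ∈ U, ∀ w ∈ U, ∀ w' ∈ U, β u (w * w') = β u w + β u w')
    (hβinv : ∀ h ∈ G, h * v * h⁻¹ = v → ∀ u ∈ U, ∀ w ∈ U, β (h * u * h⁻¹) (h * w * h⁻¹) = β u w)
    (hβnd : ∀ u ∈ U, (∀ w ∈ U, β u w = 0) → u = 1) :
    Nat.card (ConjClasses X) ≤ Nat.card V := by
  classical
  have hVab : ∀ a ∈ V, ∀ b ∈ V, a * b = b * a := fun a ha b hb =>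
    (Subgroup.mem_centralizer_iff.1 (hself.symm ▸ hb : b ∈ Subgroup.centralizer (V : Set X)) a ha)
  obtain ⟨M, hM⟩ := exists_pModular (p := p) hp.out
  have hP := pmod_prime hM
  let Cs : Subgroup X := G ⊓ Subgroup.centralizer ({v} : Set X)
  haveI : Fintype Cs := Fintype.ofFinite _
  have hfix : ∀ c : Cs, (c : X) * v * (c : X)⁻¹ = v := fun c => by
    rw [Subgroup.mem_centralizer_singleton_iff.1 c.2.2, mul_inv_cancel_right]
  have hGidx : Nat.card G = V.index := hGV.symm.index_eq_card.symm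
  have hpC : ¬ p ∣ Nat.card Cs := fun h => hidx (hGidx ▸ h.trans (Subgroup.card_dvd_of_le inf_le_left))
  by_cases hV1 : V = ⊥
  · refine class_number_le p V hVexp hidx hself G hGV v hv fun a ha b hb => ?_
    have htriv : ∀ x : X, x = 1 := fun x => by
      have hx : x ∈ Subgroup.centralizer (V : Set X) := by
        rw [Subgroup.mem_centralizer_iff]
        intro w hw
        rw [hV1] at hw
        rw [Subgroup.mem_bot.1 hw, one_mul, mul_one]
      rw [hself, hV1] at hx
      exact Subgroup.mem_bot.1 hx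
    rw [htriv a, htriv b]
  have hpX : p ∣ Nat.card X := by
    obtain ⟨x, hx, hx1⟩ := (Subgroup.ne_bot_iff_exists_ne_one).1 hV1 |>.elim fun a ha =>
      (⟨(a : X), a.2, fun h => ha (Subtype.ext h)⟩ : ∃ x, x ∈ V ∧ x ≠ 1)
    rw [← orderOf_eq_prime (hVexp x hx) hx1]
    exact orderOf_dvd_natCard x
  letI : CommGroup U :=
    { (inferInstance : Group U) with mul_comm := fun a b => Subtype.ext (hVab a (hUV a.2) b (hUV b.2)) }
  have hexp : ∀ u : Additive U, p • u = 0 := fun u => Additive.toMul.injective (Subtype.ext (by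
    show ((u.toMul ^ p : U) : X) = 1
    rw [Subgroup.coe_pow]
    exact hVexp _ (hUV u.toMul.2)))
  have : Module (ZMod p) (Additive U) := AddCommGroup.zmodModule hexp
  let act : Cs → Additive U → Additive U := fun c u =>
    Additive.ofMul (⟨(c : X) * (u.toMul : X) * (c : X)⁻¹, hUinv c c.2.1 (hfix c) _ u.toMul.2⟩ : U)
  let ρ : Representation (ZMod p) Cs (Additive U) :=
    { toFun := fun c => (AddMonoidHom.toZModLinearMap p (AddMonoidHom.mk' (act c) fun a b =>
        Additive.toMul.injective (Subtype.ext (conj_mul.symm))) : Additive U →ₗ[ZMod p] Additive U)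
      map_one' := LinearMap.ext fun u => Additive.toMul.injective (Subtype.ext (by
        show ((1 : Cs) : X) * (u.toMul : X) * ((1 : Cs) : X)⁻¹ = u.toMul
        simp))
      map_mul' := fun c d => LinearMap.ext fun u => Additive.toMul.injective (Subtype.ext (by
        show ((c * d : Cs) : X) * (u.toMul : X) * ((c * d : Cs) : X)⁻¹ =
          (c : X) * ((d : X) * (u.toMul : X) * (d : X)⁻¹) * (c : X)⁻¹
        rw [Subgroup.coe_mul]; group)) }
  let B : LinearMap.BilinForm (ZMod p) (Additive U) :=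
    AddMonoidHom.toZModLinearMap p (AddMonoidHom.mk' (fun a =>
      AddMonoidHom.toZModLinearMap p (AddMonoidHom.mk' (fun b => β (a.toMul : X) (b.toMul : X))
        fun b b' => hβr _ a.toMul.2 _ b.toMul.2 _ b'.toMul.2))
      fun a a' => LinearMap.ext fun b => hβl _ a.toMul.2 _ a'.toMul.2 _ b.toMul.2)
  obtain ⟨δ, hδI, hδP, hδ1, hδM, hδb⟩ := hasClassDelta_selfDual (N := Nat.card X) ρ hM Nat.card_pos.ne'
    (Subgroup.card_subgroup_dvd_card Cs) hpX hpC B
    (fun c x y => hβinv c c.2.1 (hfix c) _ x.toMul.2 _ y.toMul.2)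
    (fun x h => Additive.toMul.injective (Subtype.ext (hβnd _ x.toMul.2 fun w hw =>
      h (Additive.ofMul ⟨w, hw⟩))))
  refine class_number_le_of_delta p V hVexp hidx hVab G hGV v hv M hM Cs rfl δ hδI hδP hδ1
    (fun c hc => hδM c ?_) fun c => ?_
  · by_contra hh
    push Not at hh
    refine hc (Subtype.ext (hUfaith c c.2.1 (hfix c) fun u hu => ?_))
    exact congrArg (fun z : Additive U => ((z.toMul : U) : X)) (hh (Additive.ofMul ⟨u, hu⟩))
  · obtain ⟨hm, hn⟩ := hδb c
    refine ⟨hm, fun φ => ?_⟩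
    set KV : Subgroup X := V ⊓ Subgroup.centralizer ({(c : X)} : Set X) with hKV
    have hV' : Nat.card {w : V // (c : X) * w = w * c} = Nat.card KV :=
      Nat.card_congr
        { toFun := fun w => ⟨(w.1 : X), w.1.2, Subgroup.mem_centralizer_singleton_iff.2 w.2.symm⟩
          invFun := fun w => ⟨⟨w, w.2.1⟩, (Subgroup.mem_centralizer_singleton_iff.1 w.2.2).symm⟩
          left_inv := fun _ => rfl
          right_inv := fun _ => rfl }
    have hU' : Nat.card {w : Additive U // act c w = w} = Nat.card (KV ⊓ U : Subgroup X) :=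
      Nat.card_congr
        { toFun := fun w => ⟨((w.1.toMul : U) : X), ⟨hUV w.1.toMul.2, Subgroup.mem_centralizer_singleton_iff.2
            (mul_inv_eq_iff_eq_mul.1 (congrArg (fun z : Additive U => ((z.toMul : U) : X)) w.2)).symm⟩, w.1.toMul.2⟩
          invFun := fun w => ⟨Additive.ofMul ⟨w, w.2.2⟩, Additive.toMul.injective (Subtype.ext (by
            show (c : X) * (w : X) * (c : X)⁻¹ = w
            rw [← Subgroup.mem_centralizer_singleton_iff.1 w.2.1.2, mul_inv_cancel_right]))⟩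
          left_inv := fun _ => rfl
          right_inv := fun _ => rfl }
    have hkey : Nat.card KV * Nat.card U ≤ Nat.card V * Nat.card (KV ⊓ U : Subgroup X) := by
      have h1 : Nat.card (KV ⊓ U : Subgroup X) * U.relIndex KV = Nat.card KV := by
        rw [← Subgroup.inf_relIndex_left, ← Subgroup.relIndex_bot_left, ← Subgroup.relIndex_bot_left,
          Subgroup.relIndex_mul_relIndex _ _ _ bot_le inf_le_left]
      have h2 : Nat.card U * U.relIndex V = Nat.card V := by
        rw [← Subgroup.relIndex_bot_left, ← Subgroup.relIndex_bot_left,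
          Subgroup.relIndex_mul_relIndex _ _ _ bot_le hUV]
      have h3 : U.relIndex KV ≤ U.relIndex V :=
        Subgroup.relIndex_le_of_le_right inf_le_left (Subgroup.index_ne_zero_of_finite)
      calc Nat.card KV * Nat.card U = Nat.card (KV ⊓ U : Subgroup X) * U.relIndex KV * Nat.card U := by rw [h1]
        _ ≤ Nat.card (KV ⊓ U : Subgroup X) * U.relIndex V * Nat.card U := by gcongr
        _ = _ := by rw [← h2]; ring
    have hn' : ‖φ ⟨δ c, hm⟩‖ ^ 2 * (Nat.card (KV ⊓ U : Subgroup X) : ℝ) ≤ Nat.card U := by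
      rw [← hU']
      exact hn φ
    rw [hV']
    have hpos : (0 : ℝ) < Nat.card U := by exact_mod_cast Nat.card_pos
    refine le_of_mul_le_mul_right ?_ hpos
    calc ‖φ ⟨δ c, hm⟩‖ ^ 2 * (Nat.card KV : ℝ) * Nat.card U
        = ‖φ ⟨δ c, hm⟩‖ ^ 2 * ((Nat.card KV * Nat.card U : ℕ) : ℝ) := by push_cast; ring
      _ ≤ ‖φ ⟨δ c, hm⟩‖ ^ 2 * ((Nat.card V * Nat.card (KV ⊓ U : Subgroup X) : ℕ) : ℝ) :=
          mul_le_mul_of_nonneg_left (by exact_mod_cast hkey) (by positivity)
      _ = (Nat.card V : ℝ) * (‖φ ⟨δ c, hm⟩‖ ^ 2 * (Nat.card (KV ⊓ U : Subgroup X) : ℝ)) := by push_cast; ring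
      _ ≤ _ := mul_le_mul_of_nonneg_left hn' (Nat.cast_nonneg _)

end Cfsg.Agent.Char.KGV
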