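import Cfsg.Agent.Lib.Char.SmallTISetup

/-!
# Characters of `P × T` and the single orbit lemma
-/

set_option autoImplicit false
set_option linter.unusedSectionVars false
set_option linter.style.haveILetI false

namespace Cfsg.Agent.Char

open Cfsg Module
open scoped ComplexConjugate

universe u

/-- An irreducible character is linear on a central element. -/
theorem exists_central_value {K : Type u} [Group K] [Fintype K] (ν : IrrCharacter K) (x : K)
    (hx : ∀ c, x * c = c * x) :
    ∃ a : ℂ, ∀ c, (ν : K → ℂ) (x * c) = a * (ν : K → ℂ) c := by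
  obtain ⟨d, ρ, hρ, e⟩ := id ν.2
  haveI := hρ
  obtain ⟨a, ha⟩ := schur_scalar ρ (ρ x) fun k => by
    show ρ x * ρ k = ρ k * ρ x
    rw [← map_mul, ← map_mul, hx k]
  refine ⟨a, fun c => ?_⟩
  rw [← e]
  show LinearMap.trace ℂ _ (ρ (x * c)) = a * LinearMap.trace ℂ _ (ρ c)
  rw [map_mul, ha, ← Module.End.one_eq_id, smul_mul_assoc, one_mul, map_smul, smul_eq_mul]

variable {G : Type u} [Group G] [Fintype G] {P C N : Subgroup G} [Fintype P] [Fintype C]
  [Fintype N] {T : Subgroup C} [Fintype T] {prP : C →* P} {prT : C →* T}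

/-- The linear character of `P` under an irreducible character of `C`. -/
noncomputable def UCtx.lam (h : UCtx P C N T prP prT) (ν : IrrCharacter C) (x : P) : ℂ :=
  (ν : C → ℂ) (Subgroup.inclusion h.le_C x) / (ν : C → ℂ) 1

theorem UCtx.apply_mul (h : UCtx P C N T prP prT) (ν : IrrCharacter C) (x : P) (c : C) :
    (ν : C → ℂ) (Subgroup.inclusion h.le_C x * c) = h.lam ν x * (ν : C → ℂ) c := by
  obtain ⟨a, ha⟩ := exists_central_value ν (Subgroup.inclusion h.le_C x) fun k =>
    Subtype.ext (h.comm x x.2 k k.2)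
  have h1 := ha 1
  rw [mul_one] at h1
  rw [ha, lam, h1, mul_div_assoc, div_self (irr_one_ne_zero ν.2), mul_one]

theorem UCtx.lam_one (h : UCtx P C N T prP prT) (ν : IrrCharacter C) : h.lam ν 1 = 1 := by
  rw [lam, map_one, div_self (irr_one_ne_zero ν.2)]

theorem UCtx.lam_mul (h : UCtx P C N T prP prT) (ν : IrrCharacter C) (x y : P) :
    h.lam ν (x * y) = h.lam ν x * h.lam ν y := by
  rw [lam, map_mul, h.apply_mul, mul_div_assoc, ← lam]

/-- The same as a homomorphism. -/
noncomputable def UCtx.lamHom (h : UCtx P C N T prP prT) (ν : IrrCharacter C) : P →* ℂˣ :=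
  MonoidHom.toHomUnits { toFun := h.lam ν, map_one' := h.lam_one ν, map_mul' := h.lam_mul ν }

theorem UCtx.lamHom_val (h : UCtx P C N T prP prT) (ν : IrrCharacter C) (x : P) :
    (h.lamHom ν x : ℂ) = h.lam ν x := rfl

theorem UCtx.apply_eq (h : UCtx P C N T prP prT) (ν : IrrCharacter C) (c : C) :
    (ν : C → ℂ) c = (h.lamHom ν (prP c) : ℂ) * (ν : C → ℂ) (prT c : C) := by
  rw [h.lamHom_val, ← h.apply_mul, h.recon]

/-- The decomposition of `C`. -/
noncomputable def UCtx.prodEquiv (h : UCtx P C N T prP prT) : C ≃ P × T where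
  toFun c := (prP c, prT c)
  invFun q := Subgroup.inclusion h.le_C q.1 * (q.2 : C)
  left_inv := h.recon
  right_inv q := by
    refine Prod.ext ?_ ?_
    · show prP _ = q.1
      rw [map_mul, h.prP_left, h.prP_right, mul_one]
    · show prT _ = q.2
      rw [map_mul, h.prT_left, h.prT_right, one_mul]

theorem UCtx.card_C (h : UCtx P C N T prP prT) : Nat.card C = Nat.card P * Nat.card T := by
  rw [Nat.card_congr h.prodEquiv, Nat.card_prod]

theorem UCtx.res_irr (h : UCtx P C N T prP prT) (ν : IrrCharacter C) :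
    IsIrrCharacter T (fun t => (ν : C → ℂ) (t : C)) := by
  refine isIrr_of_norm_one (isCharacter_comp T.subtype (irr_isCharacter ν.2)) ?_
  have h1 := irr_self ν.2
  have hn : ∀ x : P, (h.lamHom ν x : ℂ) * conj (h.lamHom ν x : ℂ) = 1 := fun x => by
    have hfin : IsOfFinOrder (h.lamHom ν x) := (h.lamHom ν).isOfFinOrder (isOfFinOrder_of_finite x)
    obtain ⟨m, hm, hm1⟩ := isOfFinOrder_iff_pow_eq_one.1 hfin
    have hnorm : ‖(h.lamHom ν x : ℂ)‖ = 1 := by
      refine (pow_eq_one_iff_of_nonneg (norm_nonneg _) hm.ne').1 ?_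
      rw [← norm_pow, ← Units.val_pow_eq_pow_val, hm1, Units.val_one, norm_one]
    rw [Complex.mul_conj, Complex.normSq_eq_norm_sq, hnorm]
    simp
  have key : ∑ c : C, (ν : C → ℂ) c * conj ((ν : C → ℂ) c) =
      (Nat.card P : ℂ) * ∑ t : T, (ν : C → ℂ) (t : C) * conj ((ν : C → ℂ) (t : C)) := by
    rw [Fintype.sum_equiv h.prodEquiv _
      (fun q : P × T => (ν : C → ℂ) (q.2 : C) * conj ((ν : C → ℂ) (q.2 : C))) (fun c => by
        conv_lhs => rw [h.apply_eq ν c, map_mul]
        show _ = (ν : C → ℂ) (prT c : C) * conj ((ν : C → ℂ) (prT c : C))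
        linear_combination ((ν : C → ℂ) (prT c : C) * conj ((ν : C → ℂ) (prT c : C))) * hn (prP c)),
      Fintype.sum_prod_type]
    simp only []
    rw [Finset.sum_const, Finset.card_univ, nsmul_eq_mul,
      Nat.card_eq_fintype_card]
  simp only [classInner] at h1
  rw [key, h.card_C, Nat.cast_mul] at h1
  show classInner (fun t : T => (ν : C → ℂ) (t : C)) _ = 1
  simp only [classInner]
  have hP : (Nat.card P : ℂ) ≠ 0 := Nat.cast_ne_zero.2 Nat.card_pos.ne'
  rw [← h1]
  field_simp

/-- The restriction to `T`. -/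
noncomputable def UCtx.res (h : UCtx P C N T prP prT) (ν : IrrCharacter C) : IrrCharacter T :=
  ⟨fun t => (ν : C → ℂ) (t : C), h.res_irr ν⟩

/-- The character of `C` with given components. -/
noncomputable def UCtx.pair (h : UCtx P C N T prP prT) (l : P →* ℂˣ) (η : IrrCharacter T) :
    IrrCharacter C :=
  ⟨fun c => ((l.comp prP) c : ℂ) * (η : T → ℂ) (prT c),
    isIrr_linear_mul (isIrr_comp_surjective prT (fun t => ⟨t, h.prT_right t⟩) η.2) _⟩

theorem UCtx.ext_irr (h : UCtx P C N T prP prT) {ν ν' : IrrCharacter C}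
    (h1 : h.lamHom ν = h.lamHom ν') (h2 : h.res ν = h.res ν') : ν = ν' :=
  Subtype.ext (funext fun c => by
    rw [h.apply_eq ν c, h.apply_eq ν' c, h1]
    exact congrArg _ (congrFun (congrArg Subtype.val h2) (prT c)))

theorem UCtx.res_pair (h : UCtx P C N T prP prT) (l : P →* ℂˣ) (η : IrrCharacter T) :
    h.res (h.pair l η) = η :=
  Subtype.ext (funext fun t => by
    show ((l (prP (t : C)) : ℂˣ) : ℂ) * (η : T → ℂ) (prT (t : C)) = _
    rw [h.prP_right, h.prT_right, map_one, Units.val_one, one_mul])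

theorem UCtx.lamHom_pair (h : UCtx P C N T prP prT) (l : P →* ℂˣ) (η : IrrCharacter T) :
    h.lamHom (h.pair l η) = l :=
  MonoidHom.ext fun x => Units.ext (by
    show ((l (prP _) : ℂˣ) : ℂ) * (η : T → ℂ) (prT _) / (((l (prP 1) : ℂˣ) : ℂ) * (η : T → ℂ) (prT 1)) = _
    rw [h.prP_left, h.prT_left, map_one, map_one, map_one, Units.val_one, one_mul, mul_div_assoc,
      div_self (irr_one_ne_zero η.2), mul_one])

/-- The action of `N` on the characters of `C`. -/
noncomputable def UCtx.tw (h : UCtx P C N T prP prT) (n : N) (ν : IrrCharacter C) :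
    IrrCharacter C :=
  ⟨fun c => (ν : C → ℂ) (h.conjC n c), isIrr_comp_surjective _ (h.conjC_bijective n).2 ν.2⟩

theorem UCtx.tw_mul (h : UCtx P C N T prP prT) (m n : N) (ν : IrrCharacter C) :
    h.tw n (h.tw m ν) = h.tw (m * n) ν :=
  Subtype.ext (funext fun c => congrArg _ (h.conjC_mul m n c).symm)

theorem UCtx.tw_mem (h : UCtx P C N T prP prT) {n : N} (hn : (n : G) ∈ C) (ν : IrrCharacter C) :
    h.tw n ν = ν :=
  Subtype.ext (funext fun c => by
    show (ν : C → ℂ) (h.conjC n c) = (ν : C → ℂ) c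
    rw [show h.conjC n c = ⟨n, hn⟩ * c * (⟨n, hn⟩ : C)⁻¹ from Subtype.ext (by simp [UCtx.conjC]),
      isClassFunction_character (irr_isCharacter ν.2)])

theorem UCtx.mem_of_tw_fix (h : UCtx P C N T prP prT) {n : N} {ν : IrrCharacter C}
    (hν : h.lamHom ν ≠ 1) (e : h.tw n ν = ν) : (n : G) ∈ C := by
  by_contra hn
  let f : P →* P :=
    { toFun := fun x => ⟨(n : G) * x * (n : G)⁻¹, h.normP _ n.2 _ x.2⟩ * x⁻¹
      map_one' := by ext; simp
      map_mul' := fun a b => by
        apply Subtype.ext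
        simp only [Subgroup.coe_mul, Subgroup.coe_inv]
        have e1 := h.comm (a : G)⁻¹ (inv_mem a.2) ((n : G) * b * (n : G)⁻¹ * (b : G)⁻¹)
          (h.le_C (mul_mem (h.normP _ n.2 _ b.2) (inv_mem b.2)))
        calc (n : G) * ((a : G) * b) * (n : G)⁻¹ * ((a : G) * b)⁻¹
            = (n : G) * a * (n : G)⁻¹ * ((n : G) * b * (n : G)⁻¹ * (b : G)⁻¹ * (a : G)⁻¹) := by group
          _ = _ := by rw [← e1]; group }
  have hf : Function.Bijective f := by
    refine Finite.injective_iff_bijective.1 ((injective_iff_map_eq_one f).2 fun x hx => ?_)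
    by_contra hx1
    refine hn (h.free _ n.2 _ x.2 (fun e => hx1 (Subtype.ext e)) ?_)
    exact mul_inv_eq_one.1 (congrArg Subtype.val hx)
  refine hν (MonoidHom.ext fun y => ?_)
  obtain ⟨x, rfl⟩ := hf.2 y
  have h1 : h.lamHom ν ⟨(n : G) * x * (n : G)⁻¹, h.normP _ n.2 _ x.2⟩ = h.lamHom ν x := by
    apply Units.ext
    rw [h.lamHom_val, h.lamHom_val, lam, lam]
    have := congrFun (congrArg Subtype.val e) (Subgroup.inclusion h.le_C x)
    rw [← this]
    rfl
  show h.lamHom ν (_ * x⁻¹) = 1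
  rw [map_mul, h1, map_inv, mul_inv_cancel]

theorem UCtx.lamHom_tw_eq_one (h : UCtx P C N T prP prT) (n : N) (ν : IrrCharacter C) :
    h.lamHom (h.tw n ν) = 1 ↔ h.lamHom ν = 1 := by
  have key : ∀ (m : N) (μ : IrrCharacter C), h.lamHom μ = 1 → h.lamHom (h.tw m μ) = 1 := by
    intro m μ hμ
    refine MonoidHom.ext fun x => Units.ext ?_
    rw [h.lamHom_val, lam]
    show (μ : C → ℂ) (h.conjC m _) / (μ : C → ℂ) (h.conjC m 1) = _
    rw [map_one]
    have := DFunLike.congr_fun hμ ⟨(m : G) * x * (m : G)⁻¹, h.normP _ m.2 _ x.2⟩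
    have := congrArg Units.val this
    rw [h.lamHom_val, lam] at this
    exact this
  refine ⟨fun e => ?_, key n ν⟩
  have := key n⁻¹ _ e
  rwa [h.tw_mul, mul_inv_cancel, h.tw_mem (show ((1 : N) : G) ∈ C from one_mem C)] at this

/-- The multiplicity on `C`. -/
noncomputable def mult (C : Subgroup G) [Fintype C] (φ : G → ℂ) (ν : IrrCharacter C) : ℂ :=
  classInner (fun c : C => φ c) (ν : C → ℂ)

theorem UCtx.mult_tw (h : UCtx P C N T prP prT) {φ : G → ℂ} (hφ : IsClassFunction G φ) (n : N)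
    (ν : IrrCharacter C) : mult C φ (h.tw n ν) = mult C φ ν := by
  simp only [mult, classInner]
  congr 1
  refine Fintype.sum_bijective _ (h.conjC_bijective n) _ _ fun c => ?_
  show _ = φ ((n : G) * c * (n : G)⁻¹) * _
  rw [hφ]
  rfl

/-- The orbit of a character of `C`. -/
noncomputable def UCtx.orb (h : UCtx P C N T prP prT) (ν : IrrCharacter C) :
    Finset (IrrCharacter C) := by
  classical exact Finset.univ.image fun n : N => h.tw n ν

theorem UCtx.mem_orb (h : UCtx P C N T prP prT) {ν μ : IrrCharacter C} :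
    μ ∈ h.orb ν ↔ ∃ n : N, h.tw n ν = μ := by
  classical simp [orb]

theorem UCtx.card_orb (h : UCtx P C N T prP prT) {ν : IrrCharacter C} (hν : h.lamHom ν ≠ 1) :
    (h.orb ν).card * Nat.card C = Nat.card N := by
  classical
  rw [Nat.card_eq_fintype_card (α := N), ← Finset.card_univ,
    Finset.card_eq_sum_card_image (fun n : N => h.tw n ν) Finset.univ]
  rw [Finset.sum_const_nat (m := Nat.card C) fun μ hμ => ?_]
  · rfl
  obtain ⟨m, -, rfl⟩ := Finset.mem_image.1 hμ
  rw [Nat.card_eq_fintype_card, ← Finset.card_univ]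
  refine (Finset.card_bij (s := (Finset.univ : Finset C)) (fun c _ => (⟨(c : G), h.le_N c.2⟩ : N) * m) (fun c _ => ?_)
    (fun a _ b _ e => Subtype.ext (congrArg (fun z : N => (z : G)) (mul_right_cancel e))) fun n hn => ?_).symm
  · refine Finset.mem_filter.2 ⟨Finset.mem_univ _, ?_⟩
    rw [← h.tw_mul, h.tw_mem (show ((⟨(c : G), h.le_N c.2⟩ : N) : G) ∈ C from c.2)]
  · have e := (Finset.mem_filter.1 hn).2
    have e1 : h.tw (n * m⁻¹) ν = ν := by
      rw [← h.tw_mul, e, h.tw_mul, mul_inv_cancel,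
        h.tw_mem (show ((1 : N) : G) ∈ C from one_mem C)]
    exact ⟨⟨_, h.mem_of_tw_fix hν e1⟩, Finset.mem_univ _, Subtype.ext (by simp)⟩

end Cfsg.Agent.Char
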