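import Cfsg.Agent.Lib.Char.ModAlg
import Cfsg.Agent.Lib.Char.GradedNil
import Cfsg.Agent.Lib.Char.Osima
import Cfsg.Agent.Lib.Char.ResField
import Mathlib

/-!
# Reduction of ranks: the dimension of a block of the group algebra in characteristic `p`
-/

set_option autoImplicit false
set_option linter.unusedSectionVars false

namespace Cfsg.Agent.Char

open Cfsg Module
open scoped ComplexConjugate

universe u

variable {G : Type u} [Group G] [Fintype G] {M : Ideal AlgInt} {p : ℕ}

/-- Vectors with independent reductions are independent. -/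
theorem linearIndependent_of_red (hP : M.IsPrime) {α : Type*} [Fintype α] {c : ℕ}
    (W : Fin c → α → ℂ) (hR : ∀ i a, MemLocalRing M (W i a))
    (hind : LinearIndependent (Res hP) fun i a => red hP (W i a)) : LinearIndependent ℂ W := by
  classical
  let lift : Res hP → ℂ := fun z =>
    ((Ideal.Quotient.mk_surjective (I := resIdeal hP) z).choose : ℂ)
  have hlift : ∀ z, MemLocalRing M (lift z) ∧ red hP (lift z) = z := fun z => by
    refine ⟨(Ideal.Quotient.mk_surjective (I := resIdeal hP) z).choose.2, ?_⟩
    rw [← redHom_apply]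
    exact (Ideal.Quotient.mk_surjective (I := resIdeal hP) z).choose_spec
  obtain ⟨g, hg⟩ := (Fintype.linearCombination (Res hP) fun i a => red hP (W i a))
    |>.exists_leftInverse_of_injective
      (LinearMap.ker_eq_bot'.mpr fun v hv => funext fun i =>
        Fintype.linearIndependent_iff.mp hind v (by rwa [Fintype.linearCombination_apply] at hv) i)
  let D : Matrix (Fin c) (Fin c) (locRing hP) := Matrix.of fun i j =>
    ∑ a, ⟨W i a, hR i a⟩ * ⟨lift (g (Pi.single a 1) j), (hlift _).1⟩
  have hD : D.map (redHom hP) = 1 := by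
    ext i j
    simp only [D, Matrix.map_apply, Matrix.of_apply, map_sum, map_mul, redHom_apply, (hlift _).2]
    have h1 := LinearMap.congr_fun hg (Pi.single i 1)
    rw [LinearMap.comp_apply, Fintype.linearCombination_apply_single, one_smul, LinearMap.id_apply,
      pi_eq_sum_univ' (fun a => red hP (W i a)), map_sum] at h1
    have h2 := congrFun h1 j
    simp only [Finset.sum_apply, map_smul, Pi.smul_apply, smul_eq_mul] at h2
    rw [h2, Matrix.one_apply, Pi.single_apply]
    simp [eq_comm]
  have hdet : (D.map ((locRing hP).subtype)).det ≠ 0 := by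
    intro h0
    rw [← RingHom.mapMatrix_apply, ← RingHom.map_det] at h0
    have h1 : D.det = 0 := Subtype.ext h0
    have h2 := RingHom.map_det (redHom hP) D
    rw [RingHom.mapMatrix_apply, hD, h1, map_zero, Matrix.det_one] at h2
    exact zero_ne_one h2
  rw [Fintype.linearIndependent_iff]
  intro a ha j
  have h1 : Matrix.vecMul a (D.map ((locRing hP).subtype)) = 0 := by
    funext i
    simp only [Matrix.vecMul, dotProduct, D, Matrix.map_apply, Matrix.of_apply, map_sum, map_mul,
      Subring.coe_subtype, AddSubmonoidClass.coe_finset_sum, Subring.coe_mul, Finset.mul_sum,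
      Pi.zero_apply]
    rw [Finset.sum_comm]
    refine Finset.sum_eq_zero fun x _ => ?_
    have h3 := congrFun ha x
    simp only [Finset.sum_apply, Pi.smul_apply, smul_eq_mul, Pi.zero_apply] at h3
    simp only [← mul_assoc, ← Finset.sum_mul, h3, zero_mul]
  exact congrFun (Matrix.eq_zero_of_vecMul_eq_zero hdet h1) j

/-- The rank of a reduced family is at most the rank of the family. -/
theorem finrank_span_red_le (hP : M.IsPrime) {α ι : Type*} [Fintype α] (W : ι → α → ℂ)
    (hR : ∀ i a, MemLocalRing M (W i a)) :
    finrank (Res hP) (Submodule.span (Res hP) (Set.range fun i a => red hP (W i a))) ≤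
      finrank ℂ (Submodule.span ℂ (Set.range W)) := by
  classical
  obtain ⟨b, hb, hspan, hbi⟩ :=
    exists_linearIndependent (Res hP) (Set.range fun i a => red hP (W i a))
  rw [← hspan]
  haveI : Fintype b := hbi.setFinite.fintype
  rw [finrank_span_set_eq_card hbi]
  have hpre : ∀ v : b, ∃ i, (fun a => red hP (W i a)) = v := fun v => hb v.2
  choose idx hidx using hpre
  let e := (Fintype.equivFin b).symm
  have h1 := linearIndependent_of_red hP (fun j => W (idx (e j))) (fun j a => hR _ a) (by
    have : (fun j => fun a => red hP (W (idx (e j)) a)) = fun j => ((e j : b) : α → Res hP) :=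
      funext fun j => hidx (e j)
    rw [this]
    exact hbi.comp _ e.injective)
  rw [Set.toFinset_card]
  refine le_of_le_of_eq ?_ rfl
  calc Fintype.card b = Fintype.card (Fin (Fintype.card b)) := (Fintype.card_fin _).symm
    _ = finrank ℂ (Submodule.span ℂ (Set.range fun j => W (idx (e j)))) :=
        (finrank_span_eq_card h1).symm
    _ ≤ _ := Submodule.finrank_mono (Submodule.span_mono (by rintro _ ⟨j, rfl⟩; exact ⟨_, rfl⟩))

variable (hP : M.IsPrime)

/-- Coefficients of an element of the reduced group algebra. -/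
noncomputable def coeL : MonoidAlgebra (Res hP) G →ₗ[Res hP] (G → Res hP) where
  toFun r := fun x => r.coeff x
  map_add' a b := by funext x; simp
  map_smul' c a := by funext x; simp

theorem coeL_injective : Function.Injective (coeL (G := G) hP) := fun a b h =>
  MonoidAlgebra.coeff_injective (Finsupp.ext fun x => congrFun h x)

theorem coeff_rdAlg (f : G → ℂ) (z : G) : (rdAlg hP f).coeff z = red hP (f z) := by
  classical
  rw [rdAlg, MonoidAlgebra.coeff_sum, Finsupp.finset_sum_apply]
  simp [Finsupp.single_apply]

theorem rdAlg_mul_single (f : G → ℂ) (y : G) :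
    rdAlg hP f * MonoidAlgebra.single y 1 = rdAlg hP fun x => f (x * y⁻¹) := by
  rw [rdAlg, rdAlg, Finset.sum_mul]
  refine Fintype.sum_equiv (Equiv.mulRight y) _ _ fun x => ?_
  simp [MonoidAlgebra.single_mul_single]

theorem span_single_one : Submodule.span (Res hP)
    (Set.range fun y : G => (MonoidAlgebra.single y (1 : Res hP))) = ⊤ := by
  refine eq_top_iff.mpr fun r _ => ?_
  induction r using MonoidAlgebra.induction_linear with
  | zero => exact zero_mem _
  | add a b ha hb => exact add_mem (ha trivial) (hb trivial)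
  | single y c =>
    rw [show MonoidAlgebra.single y c = c • MonoidAlgebra.single y (1 : Res hP) by simp]
    exact Submodule.smul_mem _ _ (Submodule.subset_span ⟨y, rfl⟩)

theorem finrank_mulLeft_le {f : G → ℂ} (hf : ∀ x, MemLocalRing M (f x)) :
    finrank (Res hP) (LinearMap.range (LinearMap.mulLeft (Res hP) (rdAlg hP f))) ≤
      finrank ℂ (Submodule.span ℂ (Set.range fun y x : G => f (x * y⁻¹))) := by
  refine le_trans (le_of_eq ?_) (finrank_span_red_le hP (fun y x : G => f (x * y⁻¹)) fun y x => hf _)
  rw [((LinearMap.range (LinearMap.mulLeft (Res hP) (rdAlg hP f))).equivMapOfInjective _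
    (coeL_injective hP)).finrank_eq]
  rw [LinearMap.range_eq_map, ← span_single_one hP, Submodule.map_span, Submodule.map_span,
    ← Set.range_comp, ← Set.range_comp]
  refine congrArg (fun S : G → G → Res hP => finrank (Res hP) (Submodule.span (Res hP) (Set.range S))) ?_
  funext y x
  show ((rdAlg hP f * MonoidAlgebra.single y 1).coeff x) = _
  rw [rdAlg_mul_single, coeff_rdAlg]

open scoped Classical in
/-- The dimension of a block of the reduced group algebra. -/
theorem finrank_block_algebra (hM : IsPModular p M) {B : Set (IrrCharacter G)} (hB : IsPBlock M B) :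
    (finrank (Res hP) (LinearMap.range (LinearMap.mulLeft (Res hP) (rdAlg hP (blockCoeff B)))) : ℂ) =
      ∑ χ : IrrCharacter G with χ ∈ B, (χ : G → ℂ) 1 * (χ : G → ℂ) 1 := by
  set e := blockCoeff B with he
  have heR : ∀ x, MemLocalRing M (e x) := fun x => memLR_blockCoeff hM hB x
  let E : Matrix G G ℂ := Matrix.of fun x y => e (x * y⁻¹)
  have hEE : E * E = E := by
    ext x y
    rw [Matrix.mul_apply]
    show ∑ z, e (x * z⁻¹) * e (z * y⁻¹) = e (x * y⁻¹)
    conv_rhs => rw [he, ← conv_blockCoeff B]
    refine Fintype.sum_equiv ((Equiv.inv G).trans (Equiv.mulLeft x)) _ _ fun z => ?_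
    simp only [Equiv.trans_apply, Equiv.inv_apply, Equiv.coe_mulLeft, ← he]
    congr 2
    group
  set L := Matrix.toLin' E with hL
  have hLL : ∀ v, L (L v) = L v := fun v => by
    rw [hL, ← LinearMap.comp_apply, ← Matrix.toLin'_mul, hEE]
  have hr : Submodule.span ℂ (Set.range fun y x : G => e (x * y⁻¹)) = LinearMap.range L := by
    rw [hL, Matrix.toLin'_apply', Matrix.range_mulVecLin]
    rfl
  have hr' : Submodule.span ℂ (Set.range fun y x : G => ((delta : G → ℂ) - e) (x * y⁻¹)) =
      LinearMap.range (LinearMap.id - L) := by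
    have : LinearMap.id - L = Matrix.toLin' (1 - E) := by rw [map_sub, Matrix.toLin'_one]
    rw [this, Matrix.toLin'_apply', Matrix.range_mulVecLin]
    congr 2
    funext y x
    simp [Matrix.col, E, delta_apply, Matrix.one_apply, mul_inv_eq_one]
  have hker : LinearMap.range (LinearMap.id - L) = LinearMap.ker L := by
    ext v
    refine ⟨?_, fun h => ⟨v, by simp [LinearMap.mem_ker.mp h]⟩⟩
    rintro ⟨w, rfl⟩
    simp [hLL]
  have hle1 := finrank_mulLeft_le hP heR
  have hle2 := finrank_mulLeft_le hP (f := (delta : G → ℂ) - e) fun x =>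
    memLR_sub hP ((intClassFun_delta hP).2 x) (heR x)
  rw [hr] at hle1
  rw [hr', hker] at hle2
  have hsplit : rdAlg hP ((delta : G → ℂ) - e) = 1 - rdAlg hP e := by
    apply coeL_injective hP
    funext x
    rw [map_sub]
    show (rdAlg hP ((delta : G → ℂ) - e)).coeff x = (1 : MonoidAlgebra (Res hP) G).coeff x - (rdAlg hP e).coeff x
    rw [← rdAlg_delta hP, coeff_rdAlg, coeff_rdAlg, coeff_rdAlg, Pi.sub_apply, eq_sub_iff_add_eq,
      ← red_add hP (memLR_sub hP ((intClassFun_delta hP).2 x) (heR x)) (heR x), sub_add_cancel]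
  rw [hsplit] at hle2
  have htop : LinearMap.range (LinearMap.mulLeft (Res hP) (rdAlg hP e)) ⊔
      LinearMap.range (LinearMap.mulLeft (Res hP) (1 - rdAlg hP e)) = ⊤ := by
    refine eq_top_iff.mpr fun r _ => Submodule.mem_sup.mpr
      ⟨_, ⟨r, rfl⟩, _, ⟨r, rfl⟩, ?_⟩
    simp [sub_mul]
  have hsum := Submodule.finrank_sup_add_finrank_inf_eq
    (LinearMap.range (LinearMap.mulLeft (Res hP) (rdAlg hP e)))
    (LinearMap.range (LinearMap.mulLeft (Res hP) (1 - rdAlg hP e)))
  rw [htop, finrank_top] at hsum
  have hN : finrank (Res hP) (MonoidAlgebra (Res hP) G) = Fintype.card G := by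
    refine le_antisymm ?_ ?_
    · have := finrank_range_le_card (R := Res hP) (fun y : G => MonoidAlgebra.single y (1 : Res hP))
      rwa [Set.finrank, span_single_one hP, finrank_top] at this
    · rw [← Module.finrank_fintype_fun_eq_card (Res hP) (η := G)]
      have hs : Function.Surjective (coeL (G := G) hP) := fun v => by
        exact ⟨∑ x, MonoidAlgebra.single x (v x), funext fun z => by
        show (∑ x, MonoidAlgebra.single x (v x)).coeff z = v z
        simp [Finsupp.single_apply]⟩
      exact LinearMap.finrank_le_finrank_of_surjective hs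
  have hrn := LinearMap.finrank_range_add_finrank_ker L
  rw [Module.finrank_fintype_fun_eq_card] at hrn
  have heq : finrank (Res hP) (LinearMap.range (LinearMap.mulLeft (Res hP) (rdAlg hP e))) =
      finrank ℂ (LinearMap.range L) := by omega
  rw [heq]
  have hproj : LinearMap.IsProj (LinearMap.range L) L :=
    ⟨fun v => ⟨v, rfl⟩, fun v hv => by obtain ⟨w, rfl⟩ := hv; exact hLL w⟩
  rw [← hproj.trace, hL, Matrix.trace_toLin'_eq, Matrix.trace]
  simp only [Matrix.diag, E, Matrix.of_apply, mul_inv_cancel, Finset.sum_const, Finset.card_univ,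
    nsmul_eq_mul]
  rw [he, blockCoeff, finsum_mem_irr, ← Nat.card_eq_fintype_card, ← mul_assoc,
    mul_inv_cancel₀ (Nat.cast_ne_zero.mpr Nat.card_pos.ne'), one_mul]
  exact Finset.sum_congr rfl fun χ _ => by simp [char_one_eq_deg (irr_isCharacter χ.2)]

end Cfsg.Agent.Char
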