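import Cfsg.Agent.Lib.Char.BlockMatrix
import Cfsg.Agent.Lib.Char.ResClosed
import Cfsg.Agent.Lib.Char.ResRank
import Cfsg.Agent.Lib.Char.PrimeSylowBlockRank
import Cfsg.Agent.Lib.Char.RankOneCartan
import Cfsg.Agent.Lib.Char.CentralRank
import Cfsg.Agent.Lib.Char.FirstMainInduced
import Cfsg.Agent.Lib.Char.BlockRankCard

/-!
# Blocks with two irreducible characters
-/

set_option autoImplicit false
set_option linter.unusedSectionVars false

namespace Cfsg.Agent.Char

open Cfsg Module
open scoped ComplexConjugate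

universe u

variable {G : Type u} [Group G] [Fintype G] {M : Ideal AlgInt} {p : ℕ} {B : Set (IrrCharacter G)}

theorem card_bset (B : Set (IrrCharacter G)) : (bset B).card = Nat.card B := by
  classical
  rw [Nat.card_eq_fintype_card, ← Set.toFinset_card]
  congr 1
  ext θ
  simp [mem_bset]

section Forms

variable {hP : M.IsPrime}

/-- A trace form supported on the block, as a function on the group. -/
theorem form_data (hM : IsPModular p M) (L : MonoidAlgebra (Res hP) G →ₗ[Res hP] Res hP)
    (hL : ∀ a b, L (a * b) = L (b * a))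
    (hLe : ∀ a, L (rdAlg hP (blockCoeff B) * a) = L a) :
    (∀ g x, L (MonoidAlgebra.single (x * g * x⁻¹) 1) = L (MonoidAlgebra.single g 1)) ∧
      ∀ y, ∑ g, red hP (blockCoeff B g) * L (MonoidAlgebra.single (g * y) 1) =
        L (MonoidAlgebra.single y 1) := by
  refine ⟨fun g x => ?_, fun y => ?_⟩
  · rw [show MonoidAlgebra.single (x * g * x⁻¹) (1 : Res hP) =
      MonoidAlgebra.single (x * g) 1 * MonoidAlgebra.single x⁻¹ 1 by
        simp [MonoidAlgebra.single_mul_single], hL]
    simp [MonoidAlgebra.single_mul_single]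
  · rw [← hLe (MonoidAlgebra.single y 1), rdAlg, Finset.sum_mul, map_sum]
    refine Finset.sum_congr rfl fun g _ => ?_
    rw [← smul_eq_mul, ← map_smul]
    simp [MonoidAlgebra.single_mul_single]

theorem form_ext {L : MonoidAlgebra (Res hP) G →ₗ[Res hP] Res hP}
    (h : ∀ y, L (MonoidAlgebra.single y 1) = 0) : L = 0 := by
  refine LinearMap.ext_on_range (span_single_one hP) fun y => ?_
  simpa using h y

theorem two_forms (hM : IsPModular p M) (hB : IsPBlock M B) (hk : Nat.card B ≤ 2)
    (L : Fin 3 → (MonoidAlgebra (Res hP) G →ₗ[Res hP] Res hP))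
    (hL : ∀ i a b, L i (a * b) = L i (b * a))
    (hLe : ∀ i a, L i (rdAlg hP (blockCoeff B) * a) = L i a) :
    ¬ LinearIndependent (Res hP) L := by
  classical
  intro hind
  let lift : Res hP → ℂ := fun z =>
    ((Ideal.Quotient.mk_surjective (I := resIdeal hP) z).choose : ℂ)
  have hlift : ∀ z, MemLocalRing M (lift z) ∧ red hP (lift z) = z := fun z => by
    refine ⟨(Ideal.Quotient.mk_surjective (I := resIdeal hP) z).choose.2, ?_⟩
    rw [← redHom_apply]
    exact (Ideal.Quotient.mk_surjective (I := resIdeal hP) z).choose_spec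
  let F : Fin 3 → G → ℂ := fun i g => lift (L i (MonoidAlgebra.single g 1))
  have hF : ∀ i, IsClassFunction G (F i) := fun i g x => by
    show lift _ = lift _
    rw [(form_data hM (L i) (hL i) (hLe i)).1]
  have heR : ∀ g, MemLocalRing M (blockCoeff B g) := fun g => memLR_blockCoeff hM hB g
  have hW : ∀ i y, MemLocalRing M (blockPart B (F i) y) ∧
      red hP (blockPart B (F i) y) = L i (MonoidAlgebra.single y 1) := fun i y => by
    rw [← sum_blockCoeff_shift B (hF i) y]
    have hR : ∀ g, MemLocalRing M (blockCoeff B g * F i (g * y)) := fun g =>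
      memLR_mul hP (heR g) (hlift _).1
    refine ⟨memLR_sum hP _ _ fun g _ => hR g, ?_⟩
    rw [red_sum hP _ _ fun g _ => hR g, ← (form_data hM (L i) (hL i) (hLe i)).2 y]
    exact Finset.sum_congr rfl fun g _ => by rw [red_mul hP (heR g) (hlift _).1, (hlift _).2]
  have h1 := linearIndependent_of_red hP (fun i => blockPart B (F i)) (fun i y => (hW i y).1) (by
    simp only [fun i y => (hW i y).2]
    rw [Fintype.linearIndependent_iff] at hind ⊢
    intro a ha
    refine hind a (form_ext fun y => ?_)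
    have := congrFun ha y
    simpa using this)
  have h2 := (LinearIndependent.of_comp (v := fun i =>
    (⟨blockPart B (F i), blockPart_mem_charSpan B (F i)⟩ : charSpan B))
    (charSpan B).subtype h1).fintype_card_le_finrank
  rw [finrank_charSpan, Fintype.card_fin] at h2
  omega

/-- The trace character of a matrix representation of the group algebra. -/
theorem trace_form_preg (hM : IsPModular p M) {n : ℕ}
    (π : MonoidAlgebra (Res hP) G →ₐ[Res hP] Matrix (Fin n) (Fin n) (Res hP)) (g : G) :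
    (π (MonoidAlgebra.single g 1)).trace = (π (MonoidAlgebra.single (preg p g) 1)).trace := by
  haveI := charP_res hP hM
  let ρ : G →* Module.End (Res hP) (Fin n → Res hP) :=
    { toFun := fun g => Matrix.toLin' (π (MonoidAlgebra.single g 1))
      map_one' := by
        rw [show MonoidAlgebra.single (1 : G) (1 : Res hP) = 1 from rfl, map_one, Matrix.toLin'_one]
        rfl
      map_mul' := fun a b => by
        rw [Module.End.mul_eq_comp, ← Matrix.toLin'_mul, ← map_mul,
          MonoidAlgebra.single_mul_single, one_mul] }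
  have h := trace_eq_preg (p := p) hM.1 ρ g
  simpa [ρ, Matrix.trace_toLin'_eq] using h

theorem one_simple (hM : IsPModular p M) (hB : IsPBlock M B) (hl : blockRank p B = 1)
    (n₁ n₂ : ℕ) (π₁ : MonoidAlgebra (Res hP) G →ₐ[Res hP] Matrix (Fin n₁) (Fin n₁) (Res hP))
    (π₂ : MonoidAlgebra (Res hP) G →ₐ[Res hP] Matrix (Fin n₂) (Fin n₂) (Res hP))
    (hn₁ : 0 < n₁) (hn₂ : 0 < n₂) (h₁ : π₁ (rdAlg hP (blockCoeff B)) = 1)
    (h₂ : π₂ (rdAlg hP (blockCoeff B)) = 1) (hs : ∀ A C, ∃ r, π₁ r = A ∧ π₂ r = C) : False := by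
  classical
  let L₁ := (Matrix.traceLinearMap (Fin n₁) (Res hP) (Res hP)).comp π₁.toLinearMap
  let L₂ := (Matrix.traceLinearMap (Fin n₂) (Res hP) (Res hP)).comp π₂.toLinearMap
  have hL₁ : ∀ a b, L₁ (a * b) = L₁ (b * a) := fun a b => by
    show (π₁ (a * b)).trace = (π₁ (b * a)).trace
    rw [map_mul, map_mul, Matrix.trace_mul_comm]
  have hL₂ : ∀ a b, L₂ (a * b) = L₂ (b * a) := fun a b => by
    show (π₂ (a * b)).trace = (π₂ (b * a)).trace
    rw [map_mul, map_mul, Matrix.trace_mul_comm]
  have hd₁ := form_data (B := B) hM L₁ hL₁ (fun a => by simp [L₁, h₁])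
  have hd₂ := form_data (B := B) hM L₂ hL₂ (fun a => by simp [L₂, h₂])
  let T : Fin 2 → G → Res hP :=
    ![fun g => L₁ (MonoidAlgebra.single g 1), fun g => L₂ (MonoidAlgebra.single g 1)]
  have := le_blockRank_of_traces hM hP B hB T
    (fun j g x => by fin_cases j <;> [exact hd₁.1 g x; exact hd₂.1 g x])
    (fun j g => by fin_cases j <;> [exact trace_form_preg hM π₁ g; exact trace_form_preg hM π₂ g])
    (fun j y => by fin_cases j <;> [exact hd₁.2 y; exact hd₂.2 y])
    (fun a ha => by
      have hz : a 0 • L₁ + a 1 • L₂ = 0 := form_ext fun y => by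
        simpa [T, Fin.sum_univ_two] using ha y
      obtain ⟨r, hr₁, hr₂⟩ := hs (Matrix.single ⟨0, hn₁⟩ ⟨0, hn₁⟩ 1) 0
      obtain ⟨r', hr₁', hr₂'⟩ := hs 0 (Matrix.single ⟨0, hn₂⟩ ⟨0, hn₂⟩ 1)
      have e1 := LinearMap.congr_fun hz r
      have e2 := LinearMap.congr_fun hz r'
      simp [L₁, L₂, hr₁, hr₂] at e1
      simp [L₁, L₂, hr₁', hr₂'] at e2
      intro j
      fin_cases j
      · exact e1
      · exact e2)
  omega

end Forms

theorem rdAlg_central (hP : M.IsPrime) {f : G → ℂ} (hf : IsClassFunction G f)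
    (r : MonoidAlgebra (Res hP) G) : rdAlg hP f * r = r * rdAlg hP f := by
  induction r using MonoidAlgebra.induction_linear with
  | zero => simp
  | add a b ha hb => rw [mul_add, add_mul, ha, hb]
  | single y c =>
    rw [rdAlg, Finset.sum_mul, Finset.mul_sum]
    refine Fintype.sum_equiv (MulAut.conj y⁻¹).toEquiv _ _ fun x => ?_
    have e : f ((MulAut.conj y⁻¹).toEquiv x) = f x := hf x y⁻¹
    simp only [MonoidAlgebra.single_mul_single, e, mul_comm c]
    congr 1
    simp [mul_assoc]

/-- The dimension of the algebra of a block with two characters. -/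
theorem sum_sq_two (hM : IsPModular p M) (hB : IsPBlock M B) (hk : Nat.card B = 2)
    (hl : blockRank p B = 1) (hd : blockDefect p B ≠ 0) :
    ∃ n : ℕ, ∑ χ ∈ bset B, (χ : G → ℂ) 1 * (χ : G → ℂ) 1 = ((2 * n ^ 2 : ℕ) : ℂ) := by
  classical
  have hPr := pmod_prime hM
  have hp := hM.1
  haveI := Fact.mk hp
  set e := rdAlg hPr (blockCoeff B) with he
  have heR : ∀ g, MemLocalRing M (blockCoeff B g) := fun g => memLR_blockCoeff hM hB g
  have hee : IsIdempotentElem e := by
    show e * e = e
    rw [he, ← rdAlg_conv hPr heR heR, conv_blockCoeff]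
  have hne : e ≠ 0 := fun h => by
    obtain ⟨g, hg⟩ := exists_defectClass hM hB
    exact hg.2.1 ((rdAlg_eq_zero_iff hPr heR).mp h g)
  haveI : Module.Finite (Res hPr) (MonoidAlgebra (Res hPr) G) :=
    Module.Finite.of_injective (coeL hPr) (coeL_injective hPr)
  obtain ⟨n, π, hn, hπe, hcase⟩ := exists_component_shape hee
    (rdAlg_central hPr (isClassFunction_blockCoeff B)) hne
    (fun n₁ n₂ π₁ π₂ h1 h2 e1 e2 hs => one_simple hM hB hl n₁ n₂ π₁ π₂ h1 h2 e1 e2 hs)
    (two_forms hM hB hk.le)
  rcases hcase with hdim | hforms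
  · refine ⟨n, ?_⟩
    rw [← hdim, finrank_block_algebra hPr hM hB, bset]
  -- otherwise the component is a full matrix algebra: defect zero
  exfalso
  let τ : MonoidAlgebra (Res hPr) G →ₗ[Res hPr] Res hPr :=
    ((LinearMap.proj (1 : G)).comp (coeL hPr)).comp (LinearMap.mulLeft (Res hPr) e)
  have hsym : ∀ a b : MonoidAlgebra (Res hPr) G, (a * b).coeff 1 = (b * a).coeff 1 := by
    intro a b
    induction a using MonoidAlgebra.induction_linear with
    | zero => simp
    | add x y hx hy => simp [add_mul, mul_add, hx, hy]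
    | single x c =>
      induction b using MonoidAlgebra.induction_linear with
      | zero => simp
      | add x' y hx hy => simp [add_mul, mul_add, hx, hy]
      | single y d =>
        simp [MonoidAlgebra.single_mul_single, Finsupp.single_apply, mul_comm c d,
          mul_eq_one_comm (a := x) (b := y)]
  obtain ⟨c, hc⟩ := hforms τ (fun a b => by
      show (e * (a * b)).coeff 1 = (e * (b * a)).coeff 1
      rw [← mul_assoc, hsym, ← mul_assoc, ← rdAlg_central hPr (isClassFunction_blockCoeff B) b,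
        mul_assoc])
    (fun a => by
      show (e * (e * a)).coeff 1 = (e * a).coeff 1
      rw [← mul_assoc, hee.eq])
  have hval : ∀ g, red hPr (blockCoeff B g) = c * (π (MonoidAlgebra.single g⁻¹ 1)).trace := fun g => by
    rw [← hc]
    show _ = (e * MonoidAlgebra.single g⁻¹ 1).coeff 1
    rw [he, rdAlg_mul_single, coeff_rdAlg]
    simp
  obtain ⟨g, hg⟩ := exists_defectClass hM hB
  refine hd ?_
  rw [← factorization_centralizer_defectClass hM hB hg]
  refine Nat.factorization_eq_zero_of_not_dvd fun hdiv => ?_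
  obtain ⟨⟨v, hv⟩, hvo⟩ := exists_prime_orderOf_dvd_card' p hdiv
  rw [Subgroup.orderOf_mk] at hvo
  have hcm : Commute v g := Subgroup.mem_centralizer_singleton_iff.mp hv
  have hreg := defectClass_regular hM hB hg
  have hsing : p ∣ orderOf (v * g) := by
    rw [hcm.orderOf_mul_eq_mul_orderOf_of_coprime (by
      rw [hvo]; exact (Nat.Prime.coprime_iff_not_dvd hp).mpr hreg), hvo]
    exact Dvd.intro _ rfl
  have h0 : red hPr (blockCoeff B (v * g)) = 0 := by
    rw [blockCoeff, weak_orthogonality hM hB (by simp [hp.ne_one]) hsing, mul_zero, red_zero]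
  have e1 : preg p (v * g)⁻¹ = g⁻¹ := by
    rw [hcm.eq, mul_inv_rev]
    exact preg_of_mul hp hcm.inv_inv ⟨1, by rw [orderOf_inv, hvo, pow_one]⟩ (by rwa [orderOf_inv])
  rw [hval, trace_form_preg (p := p) hM, e1, ← hval, red_eq_zero_iff hPr (heR g)] at h0
  exact hg.2.1 h0

/-- `k(B) = 2` forces defect one at the prime two. -/
theorem defect_of_two (hM : IsPModular p M) (hB : IsPBlock M B) (hk : Nat.card B = 2) :
    p = 2 ∧ blockDefect p B = 1 := by
  classical
  have hp := hM.1
  obtain ⟨h0, h0'⟩ := defect_zero_iff_rank hM hB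
  have hd : blockDefect p B ≠ 0 := fun h => by
    have := (h0.mp h).1
    omega
  have hl : blockRank p B = 1 := by
    have h1 := blockRank_le_card (p := p) (B := B)
    have h2 : Nat.card B ≠ blockRank p B := fun h => hd (h0'.mpr h)
    have h3 := pow_mul_blockRank hM hB
    by_contra hl
    rw [show blockRank p B = 0 by omega, Nat.cast_zero, mul_zero] at h3
    have h4 : 0 < ∑ χ ∈ bset B, wI p B χ χ := Finset.sum_pos
      (fun χ hχ => wI_self_pos hM hB (mem_bset.mp hχ))
      (Finset.card_pos.mp (by rw [card_bset, hk]; norm_num))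
    omega
  obtain ⟨φ, d, ⟨nψ, hφ⟩, hval, hC⟩ := exists_cartan_rank_one hM hB hl
  obtain ⟨n, hn⟩ := sum_sq_two hM hB hk hl hd
  have h1reg : ¬ p ∣ orderOf (1 : G) := by simp [hp.ne_one]
  obtain ⟨z, hz⟩ : ∃ z : ℤ, φ 1 = z := ⟨∑ ψ ∈ bset B, nψ ψ * (deg (ψ : G → ℂ) : ℤ), by
    rw [hφ]; push_cast
    exact Finset.sum_congr rfl fun ψ _ => by rw [char_one_eq_deg (irr_isCharacter ψ.2)]⟩
  obtain ⟨χ0, hχ0⟩ := block_nonempty (pmod_prime hM) hB
  have hz0 : z ≠ 0 := fun e => irr_one_ne_zero χ0.2 (by rw [hval χ0 hχ0 1 h1reg, hz, e]; simp)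
  have heq : p ^ blockDefect p B * z.natAbs ^ 2 = 2 * n ^ 2 := by
    have h1 : (((p : ℤ) ^ blockDefect p B * z ^ 2 : ℤ) : ℂ) = (((2 * n ^ 2 : ℕ) : ℤ) : ℂ) := by
      rw [Int.cast_natCast, ← hn, ← (by exact_mod_cast hC :
        ∑ χ ∈ bset B, (d χ : ℤ) ^ 2 = (p : ℤ) ^ blockDefect p B), Finset.sum_mul, Int.cast_sum]
      refine Finset.sum_congr rfl fun χ hχ => ?_
      rw [hval χ (mem_bset.mp hχ) 1 h1reg, hz]
      push_cast
      ring
    have h2 : (p : ℤ) ^ blockDefect p B * z ^ 2 = ((2 * n ^ 2 : ℕ) : ℤ) := by exact_mod_cast h1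
    have h3 := congrArg Int.natAbs h2
    simpa [Int.natAbs_mul, Int.natAbs_pow] using h3
  have hz1 : z.natAbs ≠ 0 := Int.natAbs_ne_zero.mpr hz0
  have hn0 : n ≠ 0 := by
    rintro rfl
    simp [hp.ne_zero, hz1] at heq
  have hv := congrArg (fun m => Nat.factorization m 2) heq
  simp only [Nat.factorization_mul (pow_ne_zero _ hp.ne_zero) (pow_ne_zero _ hz1),
    Nat.factorization_mul (two_ne_zero) (pow_ne_zero _ hn0), Nat.factorization_pow,
    Finsupp.add_apply, Finsupp.smul_apply, smul_eq_mul, Nat.prime_two.factorization_self] at hv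
  obtain rfl : p = 2 := by
    by_contra hp2
    rw [hp.factorization, Finsupp.single_eq_of_ne (Ne.symm hp2)] at hv
    omega
  refine ⟨rfl, ?_⟩
  by_contra hd1
  have hsum : ∑ ψ ∈ bset B, nψ ψ * (d ψ : ℤ) = 1 := by
    refine mul_right_cancel₀ hz0 ?_
    have h1 : ((z : ℤ) : ℂ) = (((∑ ψ ∈ bset B, nψ ψ * (d ψ : ℤ)) * z : ℤ) : ℂ) := by
      push_cast
      rw [← hz, Finset.sum_mul]
      conv_lhs => rw [hφ]
      refine Finset.sum_congr rfl fun ψ hψ => ?_
      rw [hval ψ (mem_bset.mp hψ) 1 h1reg]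
      ring
    rw [one_mul]
    exact (by exact_mod_cast h1 : z = _).symm
  obtain ⟨a, b, hab, hab'⟩ := Finset.card_eq_two.mp ((card_bset B).trans hk)
  rw [hab', Finset.sum_pair hab] at hC hsum
  have h4 : (4 : ℕ) ∣ d a ^ 2 + d b ^ 2 := by
    rw [hC, show (4 : ℕ) = 2 ^ 2 by norm_num]
    exact pow_dvd_pow 2 (by omega)
  have hev : 2 ∣ d a ∧ 2 ∣ d b := by
    rcases Nat.even_or_odd (d a) with ⟨i, hi⟩ | ⟨i, hi⟩ <;>
      rcases Nat.even_or_odd (d b) with ⟨j, hj⟩ | ⟨j, hj⟩ <;> rw [hi, hj] at h4 ⊢ <;> ring_nf at h4 <;>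
      first
      | (exact ⟨by omega, by omega⟩)
      | omega
  obtain ⟨⟨i, hi⟩, ⟨j, hj⟩⟩ := hev
  rw [hi, hj] at hsum
  push_cast at hsum
  have : (2 : ℤ) ∣ 1 := ⟨nψ a * i + nψ b * j, by linear_combination -hsum⟩
  omega

/-- A block with defect group of order two has two characters. -/
theorem card_of_defect_two (hM : IsPModular p M) (hB : IsPBlock M B) {D : Subgroup G}
    (hD : IsDefectGroup p M B D) (hD2 : Nat.card D = 2) : Nat.card B = 2 := by
  classical
  have hPr := pmod_prime hM
  have hp := hM.1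
  have hcard := card_defectGroup hM hB hD
  rw [hD2] at hcard
  obtain ⟨rfl, hd1⟩ : p = 2 ∧ blockDefect p B = 1 := by
    have hd : blockDefect p B ≠ 0 := fun h => by rw [h, pow_zero] at hcard; omega
    have h2 : p ∣ 2 := hcard ▸ dvd_pow_self p hd
    have hp2 := (Nat.prime_dvd_prime_iff_eq hp Nat.prime_two).mp h2
    subst hp2
    exact ⟨rfl, (Nat.pow_right_injective le_rfl (hcard.symm.trans (pow_one 2).symm))⟩
  obtain ⟨h0, h0'⟩ := defect_zero_iff_rank hM hB
  have hne : Nat.card B ≠ blockRank 2 B := fun h => by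
    rw [h0'.mpr h] at hd1; exact zero_ne_one hd1
  -- every character has contribution one
  have hsum := pow_mul_blockRank hM hB
  have h2l : Nat.card B = 2 * blockRank 2 B := by
    have hall : ∀ χ ∈ bset B, wI 2 B χ χ = 1 := by
      intro χ hχ
      have hχB := mem_bset.mp hχ
      have h1 := wI_self_le hM hB hχB
      have h2 := wI_self_pos hM hB hχB
      rw [hd1] at h1
      by_contra h3
      have hw : wI 2 B χ χ = (2 : ℤ) ^ blockDefect 2 B := by rw [hd1]; push_cast at h1; omega
      have hs : bset B = {χ} := by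
        ext θ
        rw [mem_bset, Finset.mem_singleton]
        exact ⟨fun hθ => eq_of_wI_self_eq hM hB hχB hθ (by exact_mod_cast hw), fun e => e ▸ hχB⟩
      rw [hs, Finset.sum_singleton, hw, hd1] at hsum
      have hc := card_bset B
      rw [hs, Finset.card_singleton] at hc
      push_cast at hsum
      omega
    rw [Finset.sum_congr rfl hall, Finset.sum_const, nsmul_one, card_bset, hd1] at hsum
    push_cast at hsum
    omega
  -- the involution of the defect group
  haveI : Nontrivial D := (Finite.one_lt_card_iff_nontrivial).mp (by rw [hD2]; norm_num)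
  obtain ⟨zd, hzd, hz1⟩ : ∃ z ∈ D, z ≠ (1 : G) := by
    obtain ⟨z, hz⟩ := exists_ne (1 : D)
    exact ⟨z, z.2, fun e => hz (Subtype.ext e)⟩
  have hDz : D = Subgroup.zpowers zd := by
    refine (Subgroup.eq_of_le_of_card_ge (Subgroup.zpowers_le.mpr hzd) ?_).symm
    rw [hD2, Nat.card_zpowers]
    have := orderOf_eq_one_iff.not.mpr hz1
    have := orderOf_pos zd
    omega
  have hzo : orderOf zd = 2 := by rw [← Nat.card_zpowers, ← hDz, hD2]
  have hzp : ∃ k, orderOf zd = 2 ^ k := ⟨1, by rw [hzo, pow_one]⟩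
  set C := Subgroup.centralizer ({zd} : Set G) with hC
  have hzC : zd ∈ C := Subgroup.mem_centralizer_singleton_iff.mpr rfl
  have hDC : D ≤ C := hDz ▸ Subgroup.zpowers_le.mpr hzC
  set P0 := D.subgroupOf C with hP0
  have hP0D : P0.map C.subtype = D := Subgroup.map_subgroupOf_eq_of_le hDC
  have hnorm : C = Subgroup.normalizer ((P0.map C.subtype : Subgroup G) : Set G) := by
    rw [hP0D]
    refine le_antisymm ?_ fun n hn => ?_
    · rw [hC, ← centralizer_zpowers_eq, ← hDz]
      exact Subgroup.centralizer_le_normalizer _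
    · have h1 := (Subgroup.mem_normalizer_iff.mp hn zd).mp hzd
      rw [hDz, Subgroup.mem_zpowers_iff] at h1
      obtain ⟨k, hk⟩ := h1
      rw [← zpow_mod_orderOf, hzo] at hk
      rcases Int.emod_two_eq_zero_or_one k with e | e
      · rw [show ((2 : ℕ) : ℤ) = 2 from rfl, e, zpow_zero] at hk
        exact absurd (conj_eq_one_iff.mp hk.symm) hz1
      · rw [show ((2 : ℕ) : ℤ) = 2 from rfl, e, zpow_one] at hk
        rw [hC, Subgroup.mem_centralizer_singleton_iff]
        conv_rhs => rw [hk]
        group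
  have hP0c : P0 ≤ Subgroup.center C := fun y hy => Subgroup.mem_center_iff.mpr fun g => by
    have h1 : (y : G) ∈ Subgroup.zpowers zd := hDz ▸ hy
    obtain ⟨k, hk⟩ := Subgroup.mem_zpowers_iff.mp h1
    refine Subtype.ext ?_
    show (g : G) * y = y * g
    rw [← hk]
    exact ((show Commute (g : G) zd from (cent_mul_comm g).symm).zpow_right k).eq
  haveI : P0.Normal := ⟨fun z hz g => by
    rw [Subgroup.mem_center_iff.mp (hP0c hz) g]; simpa using hz⟩
  have hP0card : Nat.card P0 = 2 :=
    (Nat.card_congr (Subgroup.subgroupOfEquivOfLe hDC).toEquiv).trans hD2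
  -- the local blocks
  have hloc : ∀ b, IsInducedBlock M C b B → IsDefectGroup 2 M b P0 := by
    intro b hb
    obtain ⟨Db, hDb⟩ := exists_isDefectGroup hM hb.1
    have hle := pCore_le_defectGroup hM hb.1 hDb P0 (IsPGroup.of_card (n := 1) (by rw [hP0card, pow_one]))
    obtain ⟨E, hE, hEle⟩ := induced_defect_le hM hb hDb
    have : Nat.card Db ≤ 2 := by
      rw [Nat.card_congr (Subgroup.equivMapOfInjective Db C.subtype C.subtype_injective).toEquiv]
      refine (Subgroup.card_le_of_le hEle).trans_eq ?_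
      rw [card_defectGroup hM hB hE, hd1, pow_one]
    rwa [← Subgroup.eq_of_le_of_card_ge hle (by omega)] at hDb
  obtain ⟨S, hS1, hSw⟩ : ∃ S : Submodule ℂ (↥C → ℂ), finrank ℂ S ≤ 1 ∧
      ∀ w ∈ charSpan B, regPartL 2 (secFunL zd w) ∈ S := by
    obtain ⟨b, -, huniq⟩ := (first_main hM P0 hnorm).2 B hB (hP0D.symm ▸ hD)
    have huniq' : ∀ b', IsInducedBlock M C b' B → b' = b := fun b' hb' =>
      huniq b' ⟨hb'.1, hloc b' hb', hb'⟩
    by_cases hex : ∃ b', IsInducedBlock M C b' B
    · obtain ⟨b', hb'⟩ := hex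
      obtain rfl := huniq' b' hb'
      refine ⟨blockSpan 2 b', ?_, fun w hw => ?_⟩
      · have := blockRank_eq_one_of_central hM hb'.1 (hloc b' hb') hP0c
        exact le_of_eq this
      have e : regPartL 2 (secFunL zd w) = regPartL 2 (blockPartL b' (secFunL zd w)) := by
        funext y
        by_cases hy : 2 ∣ orderOf y
        · rw [regPartL_of_sing hy, regPartL_of_sing hy]
        rw [regPartL_of_reg hy, regPartL_of_reg hy, secFunL_apply, blockPartL_apply,
          eq_sum_blockPart hPr (isClassFunction_secFun (isClassFunction_of_charSpan hw))]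
        refine Finset.sum_eq_single b' (fun c hc hcb => ?_) (fun h => ?_)
        · obtain ⟨ξ, -, rfl⟩ := Finset.mem_image.mp hc
          exact blockPart_secFun_charSpan hM hzp hB (isPBlock_blockOf M ξ)
            (fun h => hcb (huniq' _ h)) hw y hy
        · obtain ⟨ξ, hξ⟩ := block_nonempty hPr hb'.1
          exact absurd (Finset.mem_image.mpr ⟨ξ, Finset.mem_univ _,
            (block_eq_blockOf hPr hb'.1 hξ).symm⟩) h
      rw [e]
      exact regPart_blockPart_mem b' _
    · refine ⟨⊥, by simp, fun w hw => (Submodule.mem_bot ℂ).mpr (funext fun y => ?_)⟩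
      by_cases hy : 2 ∣ orderOf y
      · exact regPartL_of_sing hy _
      rw [regPartL_of_reg hy, secFunL_apply,
        eq_sum_blockPart hPr (isClassFunction_secFun (isClassFunction_of_charSpan hw))]
      refine Finset.sum_eq_zero fun c hc => ?_
      obtain ⟨ξ, -, rfl⟩ := Finset.mem_image.mp hc
      exact blockPart_secFun_charSpan hM hzp hB (isPBlock_blockOf M ξ)
        (fun h => hex ⟨_, h⟩) hw y hy
  -- the regular values and the values on the section of the involution determine everything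
  let f : charSpan B →ₗ[ℂ] (↥(blockSpan 2 B) × ↥S) :=
    (LinearMap.codRestrict (blockSpan 2 B) ((regPartL 2).comp (charSpan B).subtype) fun w => by
      exact (Submodule.map_span_le (regPartL 2) _ _).mpr
        (by rintro _ ⟨χ, hχ, rfl⟩; exact Submodule.subset_span ⟨χ, hχ, rfl⟩) ⟨_, w.2, rfl⟩).prod
    (LinearMap.codRestrict S (((regPartL 2).comp (secFunL zd)).comp (charSpan B).subtype)
      fun w => hSw w w.2)
  have hinj : Function.Injective f := by
    rw [injective_iff_map_eq_zero]
    intro w hw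
    refine Subtype.ext (funext fun g => ?_)
    have hw1 : regPartL 2 (w : G → ℂ) = 0 := congrArg Subtype.val (congrArg Prod.fst hw)
    have hw2 : regPartL 2 (secFunL zd (w : G → ℂ)) = 0 :=
      congrArg Subtype.val (congrArg Prod.snd hw)
    obtain ⟨x, hx⟩ := exists_isPPart hp g
    by_cases hx1 : x = 1
    · obtain ⟨y, rfl, -, -, hy⟩ := hx
      rw [hx1, one_mul]
      simpa [regPartL_of_reg hy] using congrFun hw1 y
    by_cases hconj : IsConj zd x
    · obtain ⟨c, rfl⟩ := isConj_iff.mp hconj
      obtain ⟨y, rfl, hcm, -, hy⟩ := hx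
      have hy' : c⁻¹ * y * c ∈ C := by
        rw [hC, Subgroup.mem_centralizer_singleton_iff]
        have := congrArg (fun v => c⁻¹ * v * c) hcm.eq
        simpa [mul_assoc] using this.symm
      have hyr : ¬ 2 ∣ orderOf (⟨_, hy'⟩ : C) := by
        rw [Subgroup.orderOf_mk, show c⁻¹ * y * c = MulAut.conj c⁻¹ y by simp, MulEquiv.orderOf_eq]
        exact hy
      have h1 := congrFun hw2 ⟨_, hy'⟩
      rw [regPartL_of_reg hyr] at h1
      show (w : G → ℂ) _ = 0
      rw [← isClassFunction_of_charSpan w.2 _ c⁻¹,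
        show c⁻¹ * (c * zd * c⁻¹ * y) * c⁻¹⁻¹ = zd * (c⁻¹ * y * c) by group]
      exact h1
    · show (w : G → ℂ) g = 0
      suffices ∀ v ∈ charSpan B, v g = 0 from this _ w.2
      intro v hv
      induction hv using Submodule.span_induction with
      | mem v hv =>
        obtain ⟨χ, hχ, rfl⟩ := hv
        by_contra hne'
        obtain ⟨E, hE, hxE⟩ := mem_defect_of_ne_zero hM hB hχ hx hne'
        obtain ⟨t, ht⟩ := defect_groups_conj hM hB hD hE
        rw [ht] at hxE
        obtain ⟨v, hv, rfl⟩ := hxE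
        rw [hDz] at hv
        obtain ⟨k, rfl⟩ := Subgroup.mem_zpowers_iff.mp hv
        rw [← zpow_mod_orderOf, hzo] at hx1 hconj
        rcases Int.emod_two_eq_zero_or_one k with e | e
        · rw [show ((2 : ℕ) : ℤ) = 2 from rfl, e] at hx1
          exact hx1 (by simp)
        · rw [show ((2 : ℕ) : ℤ) = 2 from rfl, e] at hconj
          exact hconj (isConj_iff.mpr ⟨t, by simp⟩)
      | zero => rfl
      | add a b _ _ ha hb => simp [ha, hb]
      | smul r a _ ha => simp [ha]
  have hle := LinearMap.finrank_le_finrank_of_injective hinj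
  rw [finrank_charSpan, Module.finrank_prod] at hle
  have : finrank ℂ (blockSpan 2 B) = blockRank 2 B := rfl
  omega

theorem card_two_iff (hM : IsPModular p M) (hB : IsPBlock M B) {D : Subgroup G}
    (hD : IsDefectGroup p M B D) : Nat.card B = 2 ↔ Nat.card D = 2 := by
  refine ⟨fun h => ?_, card_of_defect_two hM hB hD⟩
  obtain ⟨rfl, h1⟩ := defect_of_two hM hB h
  rw [card_defectGroup hM hB hD, h1, pow_one]

end Cfsg.Agent.Char
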