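import Cfsg.Agent.Lib.Char.CyclicCorrespondent
import Cfsg.Agent.S4637

/-!
# Perfect isometries between blocks with Klein four defect groups
-/

set_option autoImplicit false
set_option linter.unusedSectionVars false
set_option linter.style.haveILetI false

namespace Cfsg.Agent.Char.KleinIsometry

open Cfsg CyclicSides

universe u v

section Aut

variable {A : Type u} [Group A] [Finite A] [IsKleinFour A]

/-- The group of automorphisms has at most one subgroup of order three. -/
theorem aut_unique {E E' : Subgroup (MulAut A)} (hE : Nat.card E = 1 ∨ Nat.card E = 3)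
    (h : Nat.card E' = Nat.card E) : E' = E := by
  classical
  rcases hE with h1 | h3
  · rw [Subgroup.card_eq_one.mp h1, Subgroup.card_eq_one.mp (h.trans h1)]
  haveI := Fintype.ofFinite A
  let S := {x : A // x ≠ 1}
  have hS : Fintype.card S = 3 := by
    rw [Fintype.card_subtype_compl, Fintype.card_subtype_eq, ← Nat.card_eq_fintype_card, IsKleinFour.card_four]
  let f : MulAut A →* Equiv.Perm S :=
    { toFun := fun σ => σ.toEquiv.subtypeEquiv fun x => by simp
      map_one' := Equiv.ext fun x => Subtype.ext rfl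
      map_mul' := fun σ τ => Equiv.ext fun x => Subtype.ext rfl }
  have hf : Function.Injective f := by
    intro σ τ hστ
    refine MulEquiv.ext fun x => ?_
    by_cases hx : x = 1
    · simp [hx]
    · exact congrArg Subtype.val (Equiv.congr_fun hστ ⟨x, hx⟩)
  have key : ∀ F : Subgroup (MulAut A), Nat.card F = 3 → F.map f = alternatingGroup S := by
    intro F hF
    refine Equiv.Perm.eq_alternatingGroup_of_index_eq_two ?_
    have h1 := Subgroup.card_mul_index (F.map f)
    rw [Subgroup.card_map_of_injective hf, hF, Nat.card_perm, Nat.card_eq_fintype_card (α := S), hS,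
      show Nat.factorial 3 = 6 from rfl] at h1
    omega
  exact Subgroup.map_injective hf ((key E' (h.trans h3)).trans (key E h3).symm)

end Aut

variable {G : Type u} [Group G] [Fintype G] {M : Ideal AlgInt} {B : Set (IrrCharacter G)} {D : Subgroup G}
  {c : Set (IrrCharacter (Subgroup.centralizer (D : Set G)))}

theorem comm_of_klein [IsKleinFour D] : ∀ x ∈ D, ∀ y ∈ D, x * y = y * x := fun x hx y hy =>
  congrArg Subtype.val ((IsKleinFour.isMulCommutative (G := D)).is_comm.comm ⟨x, hx⟩ ⟨y, hy⟩)

/-- The inertial quotient acts freely. -/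
theorem free_action (hM : IsPModular 2 M) (hmax : IsMaximalBrauerPair 2 M B D c) [IsKleinFour D] {e : ℕ}
    (he : (Subgroup.centralizer (D : Set G)).relIndex (pairStab (pmod_prime hM) hmax.1.1.2) = e)
    (he13 : e = 1 ∨ e = 3) :
    ∀ t ∈ pairStab (pmod_prime hM) hmax.1.1.2, ∀ x ∈ D, x ≠ 1 → t * x * t⁻¹ = x →
      t ∈ Subgroup.centralizer (D : Set G) := by
  classical
  intro t ht x hx hx1 hfix
  set T := pairStab (pmod_prime hM) hmax.1.1.2 with hT
  set C := Subgroup.centralizer (D : Set G) with hC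
  have hTN : T ≤ Subgroup.normalizer (D : Set G) := fun s hs => ((mem_pairStab _ _).mp hs).1
  haveI : (C.subgroupOf T).Normal := by
    constructor
    intro a ha b
    rw [Subgroup.mem_subgroupOf] at ha ⊢
    rw [Subgroup.coe_mul, Subgroup.coe_mul, Subgroup.coe_inv]
    exact conj_mem_centralizer (hTN b.2) ha
  have h3 : t ^ 3 ∈ C := by
    have h := Subgroup.pow_index_mem (C.subgroupOf T) ⟨t, ht⟩
    rw [show (C.subgroupOf T).index = e from he, Subgroup.mem_subgroupOf, SubgroupClass.coe_pow] at h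
    rcases he13 with rfl | rfl
    · rw [pow_one] at h
      exact pow_mem h 3
    · exact h
  let cj : D → D := fun w => ⟨t * (w : G) * t⁻¹, (Subgroup.mem_normalizer_iff.mp (hTN ht) _).mp w.2⟩
  have hinj : Function.Injective cj := fun a b hab =>
    Subtype.ext (mul_left_cancel (mul_right_cancel (congrArg Subtype.val hab)))
  refine Subgroup.mem_centralizer_iff.mpr fun w hw => ?_
  suffices hw' : t * w * t⁻¹ = w from (mul_inv_eq_iff_eq_mul.mp hw').symm
  by_cases hw1 : w = 1
  · simp [hw1]
  by_cases hwx : w = x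
  · rw [hwx, hfix]
  by_contra hne
  have hneD : cj ⟨w, hw⟩ ≠ ⟨w, hw⟩ := fun h => hne (congrArg Subtype.val h)
  have hcx : cj ⟨x, hx⟩ = ⟨x, hx⟩ := Subtype.ext hfix
  have hmul : cj ⟨w, hw⟩ = ⟨x, hx⟩ * ⟨w, hw⟩ := by
    refine IsKleinFour.eq_mul_of_ne_all (fun h => hx1 (congrArg Subtype.val h))
      (fun h => hw1 (congrArg Subtype.val h)) (fun h => hwx (congrArg Subtype.val h).symm)
      (fun h => hw1 (conj_eq_one_iff.mp (congrArg Subtype.val h))) (fun h => hwx ?_) hneD
    exact congrArg Subtype.val (hinj (h.trans hcx.symm))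
  have hcm : ∀ a b : D, cj (a * b) = cj a * cj b := fun a b => Subtype.ext (by simp [cj])
  have h2 : cj (cj ⟨w, hw⟩) = ⟨w, hw⟩ := by
    rw [hmul, hcm, hcx, hmul, ← mul_assoc, IsKleinFour.mul_self, one_mul]
  have h4 : cj (cj (cj ⟨w, hw⟩)) = cj ⟨w, hw⟩ := congrArg cj h2
  have h5 : cj (cj (cj ⟨w, hw⟩)) = ⟨w, hw⟩ := by
    refine Subtype.ext ?_
    have h6 := (Subgroup.mem_centralizer_iff.mp h3 w hw).symm
    show t * (t * (t * w * t⁻¹) * t⁻¹) * t⁻¹ = w
    calc t * (t * (t * w * t⁻¹) * t⁻¹) * t⁻¹ = t ^ 3 * w * (t ^ 3)⁻¹ := by simp [pow_succ, mul_assoc, mul_inv_rev]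
      _ = w := mul_inv_eq_iff_eq_mul.mpr h6
  exact hneD (h4.symm.trans h5)

open scoped Classical in
/-- Blocks with Klein four defect groups and one inertial index are perfectly isometric. -/
theorem between {K : Type v} [Group K] [Fintype K] (hM : IsPModular 2 M)
    (hmax : IsMaximalBrauerPair 2 M B D c) [IsKleinFour D] {e : ℕ} (he13 : e = 1 ∨ e = 3)
    (he : (Subgroup.centralizer (D : Set G)).relIndex (pairStab (pmod_prime hM) hmax.1.1.2) = e)
    (hk : Nat.card B = 4) {B' : Set (IrrCharacter K)} {D' : Subgroup K}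
    {c' : Set (IrrCharacter (Subgroup.centralizer (D' : Set K)))} (hmax' : IsMaximalBrauerPair 2 M B' D' c')
    [IsKleinFour D'] (he' : (Subgroup.centralizer (D' : Set K)).relIndex (pairStab (pmod_prime hM) hmax'.1.1.2) = e)
    (hk' : Nat.card B' = 4) :
    ∃ (I : IrrCharacter K → IrrCharacter G) (ε : IrrCharacter K → ℤ), IsPerfectIsometry 2 M B' B I ε := by
  obtain ⟨φ⟩ : Nonempty (D' ≃* D) := IsKleinFour.nonempty_mulEquiv
  have hcard : Nat.card D = 4 := IsKleinFour.card_four
  have hcard' : Nat.card D' = 4 := IsKleinFour.card_four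
  have hD : D ≠ ⊥ := fun h => by rw [h, Subgroup.card_bot] at hcard; omega
  have hD' : D' ≠ ⊥ := fun h => by rw [h, Subgroup.card_bot] at hcard'; omega
  have hkB : Nat.card B = e + (Nat.card D - 1) / e := by rcases he13 with rfl | rfl <;> rw [hk, hcard]
  have hkB' : Nat.card B' = e + (Nat.card D' - 1) / e := by rcases he13 with rfl | rfl <;> rw [hk', hcard']
  have hfree := free_action hM hmax he he13
  have hfree' := free_action hM hmax' he' he13
  obtain ⟨E, -, -, hE, hEfree, -⟩ := StarFamily.exists_family hM hmax (comm_of_klein (D := D)) hfree hD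
  rw [he] at hE
  haveI := Fintype.ofFinite E
  haveI := Fintype.ofFinite (pullAut φ E)
  have hcomm : ∀ y z : D, y * z = z * y := fun y z => Subtype.ext (comm_of_klein (D := D) y y.2 z z.2)
  have hD1 : ∃ z : D, z ≠ 1 := by
    obtain ⟨z, hz⟩ := D.ne_bot_iff_exists_ne_one.mp hD
    exact ⟨z, hz⟩
  obtain ⟨m, R, hR⟩ : ∃ m R, StarVectors.IsReps E m R := StarVectors.exists_reps E hcomm hD1 hEfree
  have h13 : Nat.card E = 1 ∨ Nat.card E = 3 := by rwa [hE]
  have h13' : Nat.card (pullAut φ E) = 1 ∨ Nat.card (pullAut φ E) = 3 := by rwa [card_pullAut, hE]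
  obtain ⟨y, δ, ε, S⟩ := exists_side_of_card hM hmax (comm_of_klein (D := D)) hfree hD he hkB E hE
    (fun F hF => aut_unique h13 hF) hR
  obtain ⟨y', δ', ε', S'⟩ := exists_side_of_card hM hmax' (comm_of_klein (D := D')) hfree' hD' he' hkB' (pullAut φ E)
    ((card_pullAut φ E).trans hE) (fun F hF => aut_unique h13' hF) (isReps_pull φ E hR)
  have hψ : psi (pullAut φ E) (fun i => (R i).comp φ.toMonoidHom) = fun (i : Fin m) z => psi E R i (φ z) :=
    funext fun i => funext fun z => psi_pull E φ R i z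
  rw [hψ] at S'
  obtain ⟨I, s, hI, -, -⟩ := CyclicIsometry.of_sides hM φ (fun z hz => psi_sum E hcomm hR hz) hR.1 S S'
  exact ⟨I, s, hI⟩

end Cfsg.Agent.Char.KleinIsometry
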