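import Cfsg.Agent.Lib.Char.SecondMain
import Cfsg.Agent.Lib.Char.ProjRep
import Cfsg.Agent.Lib.Char.Degree
import Cfsg.Agent.Lib.Char.BlockBasic
import Mathlib

/-!
# Knörr's theorem on characters vanishing on the elements of order `p`
-/

set_option autoImplicit false
set_option linter.unusedSectionVars false
set_option linter.style.haveILetI false

namespace Cfsg.Agent.Char

open Cfsg Module

universe u

theorem not_isUnit_nat_of_dvd {V : ValuationSubring ℂ} {p k : ℕ} (hpV : ¬ IsUnit (p : V))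
    (h : p ∣ k) : ¬ IsUnit (k : V) := fun hu =>
  hpV (isUnit_of_dvd_unit (Nat.cast_dvd_cast h) hu)

theorem isUnit_nat_of_not_dvd {V : ValuationSubring ℂ} {p k : ℕ} (hp : p.Prime)
    (hpV : ¬ IsUnit (p : V)) (h : ¬ p ∣ k) : IsUnit (k : V) := by
  obtain ⟨a, b, hab⟩ : IsCoprime (p : ℤ) (k : ℤ) :=
    Int.isCoprime_iff_gcd_eq_one.mpr (by simpa using (hp.coprime_iff_not_dvd.mpr h))
  have e : (a : V) * (p : V) + (b : V) * (k : V) = 1 := by exact_mod_cast congrArg (Int.cast : ℤ → V) hab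
  rcases IsLocalRing.isUnit_or_isUnit_of_add_one e with h1 | h1
  · exact absurd (isUnit_of_mul_isUnit_right h1) hpV
  · exact isUnit_of_mul_isUnit_right h1

/-- A representation has a form over any valuation ring. -/
theorem exists_matrix_form {G : Type u} [Group G] [Finite G] (V : ValuationSubring ℂ) {n : ℕ}
    (ρ : Representation ℂ G (Fin n → ℂ)) :
    ∃ (s : ℕ) (R : G →* Matrix (Fin s) (Fin s) V),
      (∀ g, LinearMap.trace ℂ _ (ρ g) = ((R g).trace : ℂ)) ∧
      (ρ.IsIrreducible → ∀ X : Matrix (Fin s) (Fin s) V, (∀ g, X * R g = R g * X) →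
        ∃ c : V, X = c • (1 : Matrix (Fin s) (Fin s) V)) := by
  classical
  haveI := Fintype.ofFinite G
  let gen : G × Fin n → (Fin n → ℂ) := fun x => ρ x.1 (Pi.single x.2 1)
  let Λ : Submodule V (Fin n → ℂ) := Submodule.span V (Set.range gen)
  have hfg : Λ.FG := Submodule.fg_span (Set.finite_range gen)
  have hspan : Submodule.span ℂ (Λ : Set (Fin n → ℂ)) = ⊤ := by
    rw [eq_top_iff, ← (Pi.basisFun ℂ (Fin n)).span_eq, Submodule.span_le]
    rintro _ ⟨i, rfl⟩
    exact Submodule.subset_span (Submodule.subset_span ⟨(1, i), by simp [gen]⟩)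
  have hst : ∀ g : G, ∀ x ∈ Λ, ρ g x ∈ Λ := by
    intro g x hx
    induction hx using Submodule.span_induction with
    | mem x hx =>
      obtain ⟨⟨g', i⟩, rfl⟩ := hx
      exact Submodule.subset_span ⟨(g * g', i), by simp [gen]⟩
    | zero => simp
    | add x y _ _ hx hy => rw [map_add]; exact Submodule.add_mem _ hx hy
    | smul a x _ hx =>
      rw [show (a • x : Fin n → ℂ) = (a : ℂ) • x from rfl, map_smul]
      exact Λ.smul_mem a hx
  haveI : Module.Finite V Λ := Module.Finite.iff_fg.mpr hfg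
  haveI : Module.Flat V Λ := by
    rw [Module.Flat.flat_iff_torsion_eq_bot_of_isBezout, ← Submodule.isTorsionFree_iff_torsion_eq_bot]
    infer_instance
  haveI : Module.Free V Λ := Module.free_of_flat_of_isLocalRing
  let b : Basis (Fin (Module.finrank V Λ)) V Λ := Module.finBasis V Λ
  have hliV : LinearIndependent V fun i => ((b i : Λ) : Fin n → ℂ) :=
    b.linearIndependent.map' Λ.subtype Λ.ker_subtype
  have hli := (LinearIndependent.iff_fractionRing V ℂ).mp hliV
  have htop : ⊤ ≤ Submodule.span ℂ (Set.range fun i => ((b i : Λ) : Fin n → ℂ)) := by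
    rw [← hspan, Submodule.span_le]
    intro x hx
    have := congrArg (fun y : Λ => (y : Fin n → ℂ)) (b.sum_repr ⟨x, hx⟩)
    simp only [AddSubmonoidClass.coe_finsetSum, Submodule.coe_smul] at this
    rw [← this]
    exact Submodule.sum_mem _ fun i _ =>
      Submodule.smul_mem _ ((b.repr ⟨x, hx⟩ i : V) : ℂ) (Submodule.subset_span ⟨i, rfl⟩)
  let bC : Basis (Fin (Module.finrank V Λ)) ℂ (Fin n → ℂ) := Basis.mk hli htop
  let r : G →* Module.End V Λ :=
    { toFun := fun g =>
        { toFun := fun x => ⟨ρ g x, hst g x x.2⟩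
          map_add' := fun x y => Subtype.ext (by simp)
          map_smul' := fun a x => Subtype.ext (by
            show ρ g ((a : ℂ) • (x : Fin n → ℂ)) = (a : ℂ) • ρ g (x : Fin n → ℂ)
            rw [map_smul]) }
      map_one' := LinearMap.ext fun x => Subtype.ext (by simp)
      map_mul' := fun g h => LinearMap.ext fun x => Subtype.ext (by simp) }
  let R : G →* Matrix _ _ V := (LinearMap.toMatrixAlgEquiv b).toMonoidHom.comp r
  have hR : ∀ g, LinearMap.toMatrix bC bC (ρ g) = (R g).map ((↑) : V → ℂ) := by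
    intro g
    ext i j
    rw [Matrix.map_apply, LinearMap.toMatrix_apply, Basis.mk_apply]
    show _ = (((LinearMap.toMatrixAlgEquiv b) (r g) i j : V) : ℂ)
    rw [LinearMap.toMatrixAlgEquiv_apply]
    have e : ρ g ((b j : Λ) : Fin n → ℂ) =
        ∑ k, ((b.repr (r g (b j)) k : V) : ℂ) • bC k := by
      have := congrArg (fun y : Λ => (y : Fin n → ℂ)) (b.sum_repr (r g (b j)))
      simp only [AddSubmonoidClass.coe_finsetSum, Submodule.coe_smul] at this
      refine this.symm.trans (Finset.sum_congr rfl fun k _ => ?_)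
      rw [Basis.mk_apply]
      rfl
    rw [e, Basis.repr_sum_self]
  refine ⟨_, R, fun g => ?_, fun hirr X hX => ?_⟩
  · rw [LinearMap.trace_eq_matrix_trace ℂ bC, hR g]
    exact (AddMonoidHom.map_trace V.subtype.toAddMonoidHom (R g)).symm
  · haveI := hirr
    obtain ⟨c, hc⟩ := schur_scalar ρ (Matrix.toLin bC bC (X.map ((↑) : V → ℂ))) fun g => by
      have e1 : ρ g = Matrix.toLin bC bC ((R g).map ((↑) : V → ℂ)) := by
        rw [← hR g, Matrix.toLin_toMatrix]
      rw [e1, ← Matrix.toLin_mul, ← Matrix.toLin_mul]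
      exact congrArg _ (((map_mul (V.subtype.mapMatrix) X (R g)).symm.trans
        ((congrArg _ (hX g)).trans (map_mul (V.subtype.mapMatrix) (R g) X))))
    have hXc : X.map ((↑) : V → ℂ) = c • (1 : Matrix _ _ ℂ) := by
      have := congrArg (LinearMap.toMatrix bC bC) hc
      rwa [LinearMap.toMatrix_toLin, map_smul, LinearMap.toMatrix_id] at this
    rcases isEmpty_or_nonempty (Fin (Module.finrank V Λ)) with hne | ⟨⟨i⟩⟩
    · exact ⟨0, Subsingleton.elim _ _⟩
    refine ⟨X i i, ?_⟩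
    have hci : c = ((X i i : V) : ℂ) := by
      have := congrFun (congrFun hXc i) i
      simpa using this.symm
    ext a b
    have := congrFun (congrFun hXc a) b
    rcases eq_or_ne a b with rfl | hab
    · simpa [hci] using this
    · simpa [hab] using this

section Knorr

variable {V : ValuationSubring ℂ} {G : Type u} [Group G] [Fintype G] {s : ℕ}

/-- An invariant function sums to a nonunit when its non-trivial orbits do. -/
theorem sum_nonfixed_mem {Q X : Type*} [Group Q] [MulAction Q X] [Fintype X] (f : X → V)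
    (hf : ∀ (q : Q) x, f (q • x) = f x) (κ : ℂ) (I : Ideal V)
    (h : ∀ x : X, x ∉ MulAction.fixedPoints Q X →
      ∃ v ∈ I, (v : ℂ) = κ * ((MulAction.orbit Q x).ncard : ℂ) * (f x : ℂ))
    [DecidablePred (· ∈ MulAction.fixedPoints Q X)] :
    ∃ v ∈ I, (v : ℂ) = κ * ∑ x ∈ Finset.univ.filter (· ∉ MulAction.fixedPoints Q X), (f x : ℂ) := by
  classical
  set S := Finset.univ.filter (· ∉ MulAction.fixedPoints Q X) with hS
  have hmem : ∀ a : Set X, a ∈ S.image (fun x => MulAction.orbit Q x) →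
      ∃ v ∈ I, (v : ℂ) =
        κ * ∑ x ∈ S.filter (fun x => MulAction.orbit Q x = a), (f x : ℂ) := by
    intro a ha
    obtain ⟨x, hx, rfl⟩ := Finset.mem_image.1 ha
    obtain ⟨v, hv, e⟩ := h x (Finset.mem_filter.1 hx).2
    refine ⟨v, hv, e.trans ?_⟩
    have hset : S.filter (fun y => MulAction.orbit Q y = MulAction.orbit Q x) =
        (MulAction.orbit Q x).toFinset := by
      ext y
      rw [Finset.mem_filter, Set.mem_toFinset, MulAction.orbit_eq_iff]
      refine ⟨fun h' => h'.2, fun h' => ⟨Finset.mem_filter.2 ⟨Finset.mem_univ _, fun hy => ?_⟩, h'⟩⟩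
      obtain ⟨q, rfl⟩ := h'
      refine (Finset.mem_filter.1 hx).2 fun r => ?_
      calc r • x = q⁻¹ • ((q * r * q⁻¹) • (q • x)) := by simp [smul_smul, mul_assoc]
        _ = x := by rw [hy (q * r * q⁻¹), inv_smul_smul]
    rw [hset, Finset.sum_congr rfl (g := fun _ => (f x : ℂ)) (fun y hy => by
      obtain ⟨q, rfl⟩ := Set.mem_toFinset.1 hy
      exact congrArg Subtype.val (hf q x)), Finset.sum_const, nsmul_eq_mul, ← Set.ncard_eq_toFinset_card', mul_assoc]
  choose! v hv hve using hmem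
  refine ⟨∑ a ∈ S.image (fun x => MulAction.orbit Q x), v a, I.sum_mem hv, ?_⟩
  rw [AddSubmonoidClass.coe_finsetSum, Finset.sum_congr rfl hve, ← Finset.mul_sum,
    Finset.sum_fiberwise_of_maps_to fun x hx => Finset.mem_image_of_mem _ hx]

variable (R : G →* Matrix (Fin s) (Fin s) V)

/-- The normalised trace on the fixed endomorphisms of a subgroup. -/
noncomputable def relTrace (H : Subgroup G) (X : Matrix (Fin s) (Fin s) V) : ℂ :=
  (H.index : ℂ) * (X.trace : ℂ) / (s : ℂ)

/-- The conjugate of a matrix. -/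
noncomputable def cnjMat (g : G) (X : Matrix (Fin s) (Fin s) V) : Matrix (Fin s) (Fin s) V := R g * X * R g⁻¹

theorem cnjMat_mul (g h : G) (X : Matrix (Fin s) (Fin s) V) :
    cnjMat R (g * h) X = cnjMat R g (cnjMat R h X) := by
  simp only [cnjMat, mul_inv_rev, map_mul, mul_assoc]

theorem cnjMat_apply_mul (g : G) (X Y : Matrix (Fin s) (Fin s) V) :
    cnjMat R g (X * Y) = cnjMat R g X * cnjMat R g Y := by
  simp only [cnjMat, mul_assoc, ← mul_assoc (R g⁻¹) (R g), ← map_mul, inv_mul_cancel, map_one,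
    one_mul]

theorem trace_cnjMat (g : G) (X : Matrix (Fin s) (Fin s) V) : (cnjMat R g X).trace = X.trace := by
  rw [cnjMat, Matrix.trace_mul_comm, ← mul_assoc, ← map_mul, inv_mul_cancel, map_one, one_mul]

theorem cnjMat_eq_self {g : G} {X : Matrix (Fin s) (Fin s) V} (h : X * R g = R g * X) :
    cnjMat R g X = X := by
  rw [cnjMat, ← h, mul_assoc, ← map_mul, mul_inv_cancel, map_one, mul_one]

theorem comm_of_cnjMat {g : G} {X : Matrix (Fin s) (Fin s) V} (h : cnjMat R g X = X) :
    X * R g = R g * X := by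
  conv_lhs => rw [← h, cnjMat, mul_assoc, ← map_mul, inv_mul_cancel, map_one, mul_one]

variable (hs : s ≠ 0)
  (hschur : ∀ X : Matrix (Fin s) (Fin s) V, (∀ g, X * R g = R g * X) →
    ∃ c : V, X = c • (1 : Matrix (Fin s) (Fin s) V))
include hs hschur

/-- The relative trace is scalar. -/
theorem exists_relTrace_scalar (H : Subgroup G) [Fintype (G ⧸ H)] (X : Matrix (Fin s) (Fin s) V)
    (hX : ∀ h ∈ H, X * R h = R h * X) :
    ∃ c : V, (c : ℂ) = relTrace H X ∧
      ∑ q : G ⧸ H, cnjMat R q.out X = c • (1 : Matrix (Fin s) (Fin s) V) := by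
  classical
  have hwd : ∀ g : G, cnjMat R (g : G ⧸ H).out X = cnjMat R g X := fun g => by
    obtain ⟨h, hh⟩ := QuotientGroup.mk_out_eq_mul H g
    rw [hh, cnjMat_mul, cnjMat_eq_self R (hX h h.2)]
  obtain ⟨c, hc⟩ := hschur (∑ q : G ⧸ H, cnjMat R q.out X) fun g => by
    refine comm_of_cnjMat R ?_
    simp only [cnjMat, Finset.mul_sum, Finset.sum_mul]
    refine Fintype.sum_equiv (MulAction.toPerm g) _ _ fun q => ?_
    obtain ⟨x, rfl⟩ := QuotientGroup.mk_surjective q
    show cnjMat R g (cnjMat R (x : G ⧸ H).out X) = cnjMat R ((g * x : G) : G ⧸ H).out X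
    rw [hwd, hwd, cnjMat_mul]
  refine ⟨c, ?_, hc⟩
  have h1 := congrArg Matrix.trace hc
  rw [Matrix.trace_sum, Finset.sum_congr rfl (fun q _ => trace_cnjMat R q.out X), Finset.sum_const,
    Finset.card_univ, Matrix.trace_smul, Matrix.trace_one, Fintype.card_fin, nsmul_eq_mul,
    smul_eq_mul, ← Nat.card_eq_fintype_card] at h1
  rw [relTrace, eq_div_iff (Nat.cast_ne_zero.mpr hs)]
  have h2 := congrArg (fun v : V => (v : ℂ)) h1
  push_cast at h2
  exact h2.symm

theorem relTrace_mem (H : Subgroup G) (X : Matrix (Fin s) (Fin s) V)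
    (hX : ∀ h ∈ H, X * R h = R h * X) : relTrace H X ∈ V := by
  haveI := Fintype.ofFinite (G ⧸ H)
  obtain ⟨c, hc, -⟩ := exists_relTrace_scalar R hs hschur H X hX
  exact hc ▸ c.2

/-- The relative trace of a fixed endomorphism is a nonunit. -/
def RelSmall (H : Subgroup G) : Prop :=
  ∀ X : Matrix (Fin s) (Fin s) V, (∀ h ∈ H, X * R h = R h * X) →
    ∀ v : V, (v : ℂ) = relTrace H X → ¬ IsUnit v

variable {p : ℕ}

/-- The filtration by powers of the augmentation of the central elements of order `p`. -/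
theorem exists_aug_filtration (hp : p.Prime) (Q : Subgroup G) :
    ∃ (J : ℕ) (T : ℕ → Set (Matrix (Fin s) (Fin s) V)),
      (∀ z ∈ Q, (∀ h ∈ Q, z * h = h * z) → z ^ p = 1 → R z - 1 ∈ T 1 ∧
        ∀ j, ∀ y ∈ T j, y * (R z - 1) ∈ T (j + 1)) ∧
      (∀ j, ∀ y ∈ T j, (∀ h ∈ Q, y * R h = R h * y) ∧
        ∀ X : Matrix (Fin s) (Fin s) V, (∀ h ∈ Q, X * R h = R h * X) → X * y = y * X) ∧
      ∀ j, J ≤ j → ∀ y ∈ T j, ∃ y' : Matrix (Fin s) (Fin s) V,
        (∀ h ∈ Q, y' * R h = R h * y') ∧ y = p • y' := by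
  classical
  let Z : Set G := {w | w ∈ Q ∧ (∀ h ∈ Q, w * h = h * w) ∧ w ^ p = 1}
  let S := Subring.closure (R '' Z)
  letI : CommRing S := Subring.closureCommRingOfComm (s := R '' Z) (by
    rintro _ ⟨a, ha, rfl⟩ _ ⟨b, hb, rfl⟩
    rw [← map_mul, ← map_mul, ha.2.1 b hb.1])
  let ι : S →+* Matrix (Fin s) (Fin s) V := S.subtype
  have hS : ∀ y : S, ∀ X : Matrix (Fin s) (Fin s) V, (∀ h ∈ Q, X * R h = R h * X) →
      X * ι y = ι y * X := by
    intro y X hX
    have : ι y ∈ Subring.centralizer {X} := by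
      refine (Subring.closure_le.2 ?_) y.2
      rintro _ ⟨a, ha, rfl⟩
      exact Subring.mem_centralizer_iff.2 fun g hg => by
        rw [Set.mem_singleton_iff.1 hg, hX a ha.1]
    exact Subring.mem_centralizer_iff.1 this X rfl
  have hSQ : ∀ y : S, ∀ h ∈ Q, ι y * R h = R h * ι y := by
    intro y h hh
    have : ι y ∈ Subring.centralizer {R h} := by
      refine (Subring.closure_le.2 ?_) y.2
      rintro _ ⟨a, ha, rfl⟩
      exact Subring.mem_centralizer_iff.2 fun g hg => by
        rw [Set.mem_singleton_iff.1 hg, ← map_mul, ← map_mul, ha.2.1 h hh]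
    exact (Subring.mem_centralizer_iff.1 this (R h) rfl).symm
  let x : Z → S := fun w => ⟨R w, Subring.subset_closure ⟨w, w.2, rfl⟩⟩ - 1
  have hx : ∀ w : Z, ι (x w) = R (w : G) - 1 := fun w => rfl
  let I : Ideal S := Ideal.span (Set.range x)
  obtain ⟨J, hJ⟩ : ∃ J, I ^ J ≤ Ideal.span {(p : S)} := by
    let q := Ideal.Quotient.mk (Ideal.span {(p : S)})
    have hnil : ∀ w : Z, IsNilpotent (Ideal.span {q (x w)}) := by
      intro w
      refine ⟨p, ?_⟩
      rw [Ideal.span_singleton_pow, Ideal.zero_eq_bot, Ideal.span_singleton_eq_bot, ← map_pow,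
        Ideal.Quotient.eq_zero_iff_mem, Ideal.mem_span_singleton]
      let e : S := ⟨R w, Subring.subset_closure ⟨w, w.2, rfl⟩⟩
      obtain ⟨r, hr⟩ := exists_add_pow_prime_eq hp e (-1 : S)
      have he : e ^ p = 1 := Subtype.ext (by
        show R (w : G) ^ p = 1
        rw [← map_pow, w.2.2.2, map_one])
      rw [he] at hr
      show (p : S) ∣ (e - 1) ^ p
      rw [sub_eq_add_neg, hr, mul_assoc, mul_assoc]
      refine dvd_add ?_ (dvd_mul_right _ _)
      rcases hp.eq_two_or_odd' with h2 | hodd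
      · rw [h2, neg_one_sq, one_add_one_eq_two, Nat.cast_two]
      · rw [hodd.neg_one_pow, add_neg_cancel]
        exact dvd_zero _
    have hle : Ideal.map q I ≤ ∑ w : Z, Ideal.span {q (x w)} := by
      rw [Ideal.map_span, Ideal.span_le]
      rintro _ ⟨_, ⟨w, rfl⟩, rfl⟩
      refine (show Ideal.span {q (x w)} ≤ ∑ w : Z, Ideal.span {q (x w)} from
        Finset.single_le_sum (f := fun w : Z => Ideal.span {q (x w)}) (fun _ _ => bot_le)
          (Finset.mem_univ w)) (Ideal.mem_span_singleton_self _)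
    obtain ⟨J, hJ⟩ := Commute.isNilpotent_sum (s := (Finset.univ : Finset Z))
      (f := fun w => Ideal.span {q (x w)}) (fun w _ => hnil w) fun _ _ _ _ => Commute.all _ _
    refine ⟨J, fun y hy => ?_⟩
    rw [← Ideal.Quotient.eq_zero_iff_mem]
    have h1 : q y ∈ Ideal.map q I ^ J := Ideal.map_pow q I J ▸ Ideal.mem_map_of_mem q hy
    have h2 := Ideal.pow_right_mono hle J h1
    rw [hJ, Ideal.zero_eq_bot, Ideal.mem_bot] at h2
    exact h2
  refine ⟨J, fun j => ι '' (I ^ j : Ideal S), fun z h1 h2 h3 => ⟨⟨x ⟨z, h1, h2, h3⟩, ?_, hx _⟩, ?_⟩,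
    ?_, ?_⟩
  · rw [pow_one]
    exact Ideal.subset_span ⟨_, rfl⟩
  · rintro j _ ⟨y, hy, rfl⟩
    refine ⟨y * x ⟨z, h1, h2, h3⟩, ?_, by rw [map_mul, hx]⟩
    rw [pow_succ]
    exact Ideal.mul_mem_mul hy (Ideal.subset_span ⟨_, rfl⟩)
  · rintro j _ ⟨y, -, rfl⟩
    exact ⟨hSQ y, hS y⟩
  · rintro j hj _ ⟨y, hy, rfl⟩
    obtain ⟨y', rfl⟩ := Ideal.mem_span_singleton.1 (hJ (Ideal.pow_le_pow_right hj hy))
    exact ⟨ι y', hSQ y', by rw [map_mul, map_natCast, nsmul_eq_mul]⟩

theorem relTrace_nsmul (H : Subgroup G) (k : ℕ) (X : Matrix (Fin s) (Fin s) V) :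
    relTrace H (k • X) = (k : ℂ) * relTrace H X := by
  simp only [relTrace]
  rw [Matrix.trace_smul, nsmul_eq_mul]
  push_cast
  ring

theorem relTrace_orbit {Q H : Subgroup G} {k : ℕ} (hidx : H.index = Q.index * k)
    (X : Matrix (Fin s) (Fin s) V) :
    relTrace H X = (Q.index : ℂ) / s * (k : ℂ) * (X.trace : ℂ) := by
  rw [relTrace, hidx]
  push_cast
  ring

/-- The stabiliser of a moved point is a proper subgroup. -/
theorem stab_lt_and_index {X : Type*} {Q : Subgroup G} [MulAction Q X] {t : X}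
    (ht : t ∉ MulAction.fixedPoints Q X) :
    (MulAction.stabilizer Q t).map Q.subtype < Q ∧
      ((MulAction.stabilizer Q t).map Q.subtype).index = Q.index * (MulAction.orbit Q t).ncard := by
  refine ⟨lt_of_le_of_ne (Subgroup.map_subtype_le _) fun e => ht fun q => ?_, ?_⟩
  · have h : (q : G) ∈ (MulAction.stabilizer Q t).map Q.subtype := by rw [e]; exact q.2
    obtain ⟨q', hq', hqq⟩ := h
    rwa [← Subtype.ext (show ((q' : Q) : G) = q from hqq)]
  · rw [Subgroup.index_map_subtype, MulAction.index_stabilizer, mul_comm]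

/-- The product with a fixed relative trace, summed over the fixed cosets. -/
theorem relTrace_mul_relTrace (Q : Subgroup G) [Fintype (G ⧸ Q)]
    [DecidablePred (· ∈ MulAction.fixedPoints Q (G ⧸ Q))]
    (hmin : ∀ H : Subgroup G, H < Q → RelSmall R H)
    (A b : Matrix (Fin s) (Fin s) V) (hA : ∀ h ∈ Q, A * R h = R h * A)
    (hb : ∀ h ∈ Q, b * R h = R h * b) :
    ∃ v₁ : V, ¬ IsUnit v₁ ∧ relTrace Q A * relTrace Q b = (v₁ : ℂ) +
      ∑ t ∈ Finset.univ.filter (· ∈ MulAction.fixedPoints Q (G ⧸ Q)),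
        relTrace Q (A * cnjMat R t.out b) := by
  obtain ⟨c, hc, hcs⟩ := exists_relTrace_scalar R hs hschur Q b hb
  let f : G ⧸ Q → V := fun t => (A * cnjMat R t.out b).trace
  have hwd : ∀ g : G, cnjMat R (g : G ⧸ Q).out b = cnjMat R g b := fun g => by
    obtain ⟨h, hh⟩ := QuotientGroup.mk_out_eq_mul Q g
    rw [hh, cnjMat_mul, cnjMat_eq_self R (hb h h.2)]
  have hf : ∀ (q : Q) (t : G ⧸ Q), f (q • t) = f t := by
    intro q t
    obtain ⟨g, rfl⟩ := QuotientGroup.mk_surjective t
    show (A * cnjMat R (((q : G) * g : G) : G ⧸ Q).out b).trace =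
      (A * cnjMat R (g : G ⧸ Q).out b).trace
    rw [hwd, hwd, cnjMat_mul]
    conv_lhs => rw [← cnjMat_eq_self R (hA q q.2)]
    rw [← cnjMat_apply_mul, trace_cnjMat]
  obtain ⟨v₁, hv₁, hv₁e⟩ := sum_nonfixed_mem f hf ((Q.index : ℂ) / s)
    (IsLocalRing.maximalIdeal V) (by
      intro t ht
      obtain ⟨hlt, hidx⟩ := stab_lt_and_index R hs hschur ht
      obtain ⟨g, rfl⟩ := QuotientGroup.mk_surjective t
      have hX : ∀ h ∈ (MulAction.stabilizer Q (g : G ⧸ Q)).map Q.subtype,
          A * cnjMat R g b * R h = R h * (A * cnjMat R g b) := by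
        rintro _ ⟨q, hq, rfl⟩
        refine comm_of_cnjMat R ?_
        show cnjMat R (q : G) (A * cnjMat R g b) = A * cnjMat R g b
        rw [cnjMat_apply_mul, cnjMat_eq_self R (hA q q.2), ← cnjMat_mul]
        have e : (((q : G) * g : G) : G ⧸ Q) = (g : G ⧸ Q) := hq
        rw [← hwd ((q : G) * g), e, hwd]
      have hm := relTrace_mem R hs hschur _ _ hX
      refine ⟨⟨_, hm⟩, (IsLocalRing.mem_maximalIdeal _).2 (hmin _ hlt _ hX ⟨_, hm⟩ rfl), ?_⟩
      show relTrace _ _ = _
      rw [relTrace_orbit R hs hschur hidx]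
      simp only [f, hwd])
  refine ⟨v₁, (IsLocalRing.mem_maximalIdeal _).1 hv₁, ?_⟩
  have hfix : ∑ t ∈ Finset.univ.filter (· ∈ MulAction.fixedPoints Q (G ⧸ Q)),
      relTrace Q (A * cnjMat R t.out b) = (Q.index : ℂ) / s *
        ∑ t ∈ Finset.univ.filter (· ∈ MulAction.fixedPoints Q (G ⧸ Q)), (f t : ℂ) := by
    rw [Finset.mul_sum]
    exact Finset.sum_congr rfl fun t _ => by simp only [relTrace, f]; ring
  rw [hfix, hv₁e, ← mul_add, add_comm, Finset.sum_filter_add_sum_filter_not]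
  have h1 := congrArg (fun X => ((A * X).trace : V)) hcs
  simp only [Finset.mul_sum, Matrix.trace_sum, mul_smul_comm, mul_one, Matrix.trace_smul,
    smul_eq_mul] at h1
  rw [← AddSubmonoidClass.coe_finsetSum, show ∑ t, f t = c * A.trace from h1]
  rw [← hc]
  simp only [relTrace]
  push_cast
  ring

/-- Multiplication of a fixed endomorphism by an augmentation element of the centre. -/
theorem relTrace_aug_not_unit (hp : p.Prime) (hpV : ¬ IsUnit (p : V)) (Q : Subgroup G)
    (hmin : ∀ H : Subgroup G, H < Q → RelSmall R H)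
    (γ : Matrix (Fin s) (Fin s) V) (hγ : ∀ h ∈ Q, γ * R h = R h * γ) (z : G) (hz : z ∈ Q)
    (hzc : ∀ h ∈ Q, z * h = h * z) (hzp : z ^ p = 1)
    (v : V) (hv : (v : ℂ) = relTrace Q (γ * (R z - 1))) : ¬ IsUnit v := by
  classical
  haveI := Fintype.ofFinite (G ⧸ Q)
  obtain ⟨J, T, hT1, hTc, hTJ⟩ := exists_aug_filtration R hs hschur hp Q
  obtain ⟨hzT, -⟩ := hT1 z hz hzc hzp
  have hprod : ∀ {a y : Matrix (Fin s) (Fin s) V}, (∀ h ∈ Q, a * R h = R h * a) →
      (∀ h ∈ Q, y * R h = R h * y) → ∀ h ∈ Q, a * y * R h = R h * (a * y) := fun ha hy h hh => by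
    rw [mul_assoc, hy h hh, ← mul_assoc, ha h hh, mul_assoc]
  intro hu
  set b := γ * (R z - 1) with hb
  have hbQ : ∀ h ∈ Q, b * R h = R h * b := hprod hγ (hTc 1 _ hzT).1
  have key : ∀ (i j : ℕ), J ≤ i + j → ∀ a : Matrix (Fin s) (Fin s) V,
      (∀ h ∈ Q, a * R h = R h * a) → ∀ y ∈ T j,
      ∀ w : V, (w : ℂ) = relTrace Q (a * y) * (v : ℂ) ^ i → ¬ IsUnit w := by
    intro i
    induction i with
    | zero =>
      intro j hj a ha y hy w hw hwu
      obtain ⟨y', hy', rfl⟩ := hTJ j (by omega) y hy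
      rw [pow_zero, mul_one, mul_smul_comm, relTrace_nsmul R hs hschur] at hw
      have hm := relTrace_mem R hs hschur Q _ (hprod ha hy')
      rw [show w = (p : V) * ⟨_, hm⟩ from Subtype.ext (by push_cast; exact hw)] at hwu
      exact hpV (isUnit_of_mul_isUnit_left hwu)
    | succ i ih =>
      intro j hj a ha y hy w hw hwu
      have hay := hprod ha (hTc j y hy).1
      obtain ⟨v₁, hv₁, he⟩ := relTrace_mul_relTrace R hs hschur Q hmin (a * y) b hay hbQ
      have hterm : ∀ t ∈ Finset.univ.filter (· ∈ MulAction.fixedPoints Q (G ⧸ Q)),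
          ∃ u ∈ IsLocalRing.maximalIdeal V,
            (u : ℂ) = relTrace Q (a * y * cnjMat R t.out b) * (v : ℂ) ^ i := by
        intro t ht
        set g := t.out with hg
        have hfix : ∀ q ∈ Q, g⁻¹ * q * g ∈ Q := fun q hq => by
          have e : (((q : G) * g : G) : G ⧸ Q) = (g : G ⧸ Q) := by
            have := (Finset.mem_filter.1 ht).2 ⟨q, hq⟩
            rw [← QuotientGroup.out_eq' t] at this
            exact this
          have e2 := Q.inv_mem (QuotientGroup.eq.1 e)
          simpa [mul_assoc] using e2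
        have hgγ : ∀ h ∈ Q, cnjMat R g γ * R h = R h * cnjMat R g γ := fun h hh => by
          refine comm_of_cnjMat R ?_
          rw [← cnjMat_mul, show h * g = g * (g⁻¹ * h * g) by group, cnjMat_mul,
            cnjMat_eq_self R (hγ _ (hfix h hh))]
        have hmap : Q.map (MulAut.conj g⁻¹).toMonoidHom ≤ Q := by
          rintro _ ⟨q, hq, rfl⟩
          simpa using hfix q hq
        have heq : Q.map (MulAut.conj g⁻¹).toMonoidHom = Q :=
          Subgroup.eq_of_le_of_card_ge hmap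
            (Subgroup.card_map_of_injective (MulAut.conj g⁻¹).injective).ge
        obtain ⟨z', hz', hzz⟩ : ∃ q' ∈ Q, g⁻¹ * q' * g = z := by
          have : z ∈ Q.map (MulAut.conj g⁻¹).toMonoidHom := by rw [heq]; exact hz
          obtain ⟨q', hq', e⟩ := this
          exact ⟨q', hq', by simpa [mul_assoc] using e⟩
        have hgQ : g * z * g⁻¹ = z' := by rw [← hzz]; group
        obtain ⟨hg1, hg2⟩ := hT1 (g * z * g⁻¹) (hgQ ▸ hz') (fun h hh => by
          have := hzc _ (hfix h hh)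
          calc g * z * g⁻¹ * h = g * (z * (g⁻¹ * h * g)) * g⁻¹ := by group
            _ = _ := by rw [this]; group) (by rw [conj_pow, hzp, mul_one, mul_inv_cancel])
        have hcb : cnjMat R g b = cnjMat R g γ * (R (g * z * g⁻¹) - 1) := by
          rw [hb, cnjMat_apply_mul]
          congr 1
          rw [cnjMat, mul_sub, sub_mul, mul_one, ← map_mul, ← map_mul, ← map_mul, mul_inv_cancel,
            map_one]
        have e : a * y * cnjMat R g b = a * cnjMat R g γ * (y * (R (g * z * g⁻¹) - 1)) := by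
          rw [hcb, mul_assoc a, mul_assoc a, ← mul_assoc y, ← (hTc j y hy).2 _ hgγ, mul_assoc]
        have hy' := hg2 j y hy
        have hq' := hprod (hprod ha hgγ) (hTc _ _ hy').1
        have hw' : relTrace Q (a * cnjMat R g γ * (y * (R (g * z * g⁻¹) - 1))) * (v : ℂ) ^ i ∈ V :=
          V.mul_mem _ _ (relTrace_mem R hs hschur Q _ hq') (pow_mem v.2 _)
        refine ⟨⟨_, hw'⟩, (IsLocalRing.mem_maximalIdeal _).2
          (ih (j + 1) (by omega) _ (hprod ha hgγ) _ hy' _ rfl), ?_⟩
        rw [e]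
      choose! u hu' hue using hterm
      refine (IsLocalRing.mem_maximalIdeal _).1 ?_ hwu
      have hwe : w = v₁ * v ^ i +
          ∑ t ∈ Finset.univ.filter (· ∈ MulAction.fixedPoints Q (G ⧸ Q)), u t := Subtype.ext (by
        push_cast
        rw [hw, Finset.sum_congr rfl hue, ← Finset.sum_mul, pow_succ']
        rw [show relTrace Q (a * y) * ((v : ℂ) * (v : ℂ) ^ i) =
          relTrace Q (a * y) * relTrace Q b * (v : ℂ) ^ i by rw [hb, ← hv, mul_assoc], he, add_mul])
      rw [hwe]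
      exact Ideal.add_mem _ (Ideal.mul_mem_right _ _ ((IsLocalRing.mem_maximalIdeal _).2 hv₁))
        (Ideal.sum_mem _ hu')
  refine key J 1 (by omega) γ hγ _ hzT (v ^ (J + 1)) ?_ (hu.pow _)
  rw [← hb, ← hv]
  push_cast
  ring

/-- Knörr: a character vanishing on the elements of order `p` has `p`-defect zero. -/
theorem exists_relTrace_bot_unit (hp : p.Prime) (hpV : ¬ IsUnit (p : V))
    (hvan : ∀ g : G, orderOf g = p → (R g).trace = 0) :
    ¬ RelSmall R (⊥ : Subgroup G) := by
  classical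
  haveI := Fact.mk hp
  intro hbot
  obtain ⟨Q, ⟨hQp, hQs⟩, hmin⟩ : ∃ Q : Subgroup G, (IsPGroup p Q ∧ ¬ RelSmall R Q) ∧
      ∀ H : Subgroup G, H < Q → RelSmall R H := by
    let S : Sylow p G := default
    have hS : ¬ RelSmall R (S : Subgroup G) := fun h => by
      refine h 1 (fun g _ => by rw [one_mul, mul_one]) ((S : Subgroup G).index : V) ?_
        (isUnit_nat_of_not_dvd hp hpV S.not_dvd_index)
      rw [relTrace, Matrix.trace_one, Fintype.card_fin]
      push_cast
      rw [mul_div_assoc, div_self (Nat.cast_ne_zero.mpr hs), mul_one]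
    obtain ⟨Q, hQ, hm⟩ := (Set.toFinite {H : Subgroup G | IsPGroup p H ∧ ¬ RelSmall R H}).exists_minimal
      ⟨_, S.isPGroup', hS⟩
    refine ⟨Q, hQ, fun H hH => ?_⟩
    by_contra hc
    exact hH.not_ge (hm ⟨hQ.1.to_le hH.le, hc⟩ hH.le)
  rw [RelSmall] at hQs
  push Not at hQs
  obtain ⟨β, hβ, vβ, hvβ, hu⟩ := hQs
  -- the sum of the elements of order `p` acts as zero
  have hzero : ∑ g ∈ Finset.univ.filter (fun g : G => orderOf g = p), R g = 0 := by
    obtain ⟨c, hc⟩ := hschur (∑ g ∈ Finset.univ.filter (fun g : G => orderOf g = p), R g) fun x => by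
      rw [Finset.sum_mul, Finset.mul_sum]
      refine Finset.sum_equiv (MulAut.conj x⁻¹).toEquiv (fun g => ?_) fun g _ => ?_
      · simp only [Finset.mem_filter, Finset.mem_univ, true_and, MulEquiv.toEquiv_eq_coe,
          EquivLike.coe_coe, MulEquiv.orderOf_eq]
      · rw [← map_mul, ← map_mul]
        simp [mul_assoc]
    have h1 := congrArg Matrix.trace hc
    rw [Matrix.trace_sum, Finset.sum_eq_zero fun g hg => hvan g (Finset.mem_filter.1 hg).2,
      Matrix.trace_smul, Matrix.trace_one, Fintype.card_fin, smul_eq_mul, eq_comm] at h1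
    have hc0 : (c : ℂ) = 0 := by
      have := congrArg (fun v : V => (v : ℂ)) h1
      push_cast at this
      exact (mul_eq_zero.1 this).resolve_right (Nat.cast_ne_zero.mpr hs)
    rw [hc, show c = 0 from Subtype.ext hc0, zero_smul]
  -- split the sum
  letI : MulAction Q G := MulAction.compHom G ((MulAut.conj : G →* MulAut G).comp Q.subtype)
  have hsmul : ∀ (q : Q) (g : G), q • g = (q : G) * g * (q : G)⁻¹ := fun q g => rfl
  let f : G → V := fun g => if orderOf g = p then (β * R g).trace else 0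
  have hf : ∀ (q : Q) g, f (q • g) = f g := by
    intro q g
    simp only [f, hsmul, show (q : G) * g * (q : G)⁻¹ = MulAut.conj (q : G) g from rfl,
      MulEquiv.orderOf_eq]
    refine if_congr Iff.rfl ?_ rfl
    conv_rhs => rw [← trace_cnjMat R (q : G), cnjMat_apply_mul, cnjMat_eq_self R (hβ q q.2)]
    rw [MulAut.conj_apply, map_mul, map_mul, cnjMat]
  let mI : Ideal V := IsLocalRing.maximalIdeal V
  obtain ⟨v₁, hv₁, hv₁e⟩ := sum_nonfixed_mem f hf ((Q.index : ℂ) / s) mI (by
    intro g hg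
    by_cases hgp : orderOf g = p
    · obtain ⟨hlt, hidx⟩ := stab_lt_and_index R hs hschur hg
      have hX : ∀ h ∈ (MulAction.stabilizer Q g).map Q.subtype,
          β * R g * R h = R h * (β * R g) := by
        rintro _ ⟨q, hq, rfl⟩
        have e : (q : G) * g = g * q := mul_inv_eq_iff_eq_mul.1 hq
        rw [Subgroup.coe_subtype, mul_assoc, ← map_mul, ← e, map_mul, ← mul_assoc, hβ q q.2, mul_assoc]
      have hm := relTrace_mem R hs hschur _ _ hX
      refine ⟨⟨_, hm⟩, (IsLocalRing.mem_maximalIdeal _).2 (hmin _ hlt _ hX ⟨_, hm⟩ rfl), ?_⟩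
      show relTrace _ (β * R g) = _
      rw [relTrace_orbit R hs hschur hidx]
      simp only [f, hgp, if_true]
    · exact ⟨0, mI.zero_mem, by simp [f, hgp]⟩)
  -- the central elements of order `p` of `Q`
  have hQne : Q ≠ ⊥ := fun e => hbot β (fun h hh => hβ h (e ▸ hh)) vβ (e ▸ hvβ) hu
  let Z1 : Subgroup G :=
    { carrier := {w | w ∈ Q ∧ (∀ h ∈ Q, w * h = h * w) ∧ w ^ p = 1}
      one_mem' := ⟨Q.one_mem, fun h _ => by rw [one_mul, mul_one], one_pow p⟩
      mul_mem' := fun {a b} ha hb => ⟨Q.mul_mem ha.1 hb.1, fun h hh => by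
        rw [mul_assoc, hb.2.1 h hh, ← mul_assoc, ha.2.1 h hh, mul_assoc], by
        rw [(show Commute a b from ha.2.1 b hb.1).mul_pow, ha.2.2, hb.2.2, one_mul]⟩
      inv_mem' := fun {a} ha => ⟨Q.inv_mem ha.1, fun h hh =>
        ((show Commute a h from ha.2.1 h hh).inv_left).eq, by rw [inv_pow, ha.2.2, inv_one]⟩ }
  have hZ1p : p ∣ Nat.card Z1 := by
    haveI : Nontrivial Q := (Subgroup.nontrivial_iff_ne_bot Q).2 hQne
    haveI := hQp.center_nontrivial
    obtain ⟨k, hk, e⟩ := (hQp.to_subgroup (Subgroup.center Q)).nontrivial_iff_card.mp inferInstance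
    obtain ⟨w, hw⟩ := exists_prime_orderOf_dvd_card' (G := Subgroup.center Q) p
      (e ▸ dvd_pow_self p hk.ne')
    have hwZ : ((w : Q) : G) ∈ Z1 := ⟨(w : Q).2, fun h hh =>
      (congrArg Subtype.val (Subgroup.mem_center_iff.1 w.2 ⟨h, hh⟩)).symm, by
      have := pow_orderOf_eq_one w
      rw [hw] at this
      exact congrArg (fun x : Subgroup.center Q => ((x : Q) : G)) this⟩
    have ho : orderOf (⟨_, hwZ⟩ : Z1) = p := by
      rw [Subgroup.orderOf_mk, Subgroup.orderOf_coe, Subgroup.orderOf_coe, hw]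
    exact ho ▸ orderOf_dvd_natCard _
  -- sum over the solutions of `g ^ p = 1` in the centraliser
  let W := Finset.univ.filter (fun g : G => g ^ p = 1 ∧ ∀ h ∈ Q, g * h = h * g)
  have hWc : ∀ g ∈ W, ∀ h ∈ Q, β * R g * R h = R h * (β * R g) := fun g hg h hh => by
    rw [mul_assoc, ← map_mul, (Finset.mem_filter.1 hg).2.2 h hh, map_mul, ← mul_assoc, hβ h hh,
      mul_assoc]
  obtain ⟨v₂, hv₂, hv₂e⟩ : ∃ v₂ ∈ mI, (v₂ : ℂ) = ∑ g ∈ W, relTrace Q (β * R g) := by
    have hstab : ∀ g ∈ W, ∀ z ∈ Z1, g * z ∈ W := fun g hg z hz => by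
      obtain ⟨hg1, hg2⟩ := (Finset.mem_filter.1 hg).2
      refine Finset.mem_filter.2 ⟨Finset.mem_univ _, ?_, fun h hh => ?_⟩
      · rw [(show Commute g z from hg2 z hz.1).mul_pow, hg1, hz.2.2, one_mul]
      · rw [mul_assoc, hz.2.1 h hh, ← mul_assoc, hg2 h hh, mul_assoc]
    have hcos : ∀ a : G ⧸ Z1, a ∈ W.image (QuotientGroup.mk : G → G ⧸ Z1) → ∃ u ∈ mI,
        (u : ℂ) = ∑ g ∈ W.filter (fun g : G => (g : G ⧸ Z1) = a), relTrace Q (β * R g) := by
      intro a ha
      obtain ⟨g₀, hg₀, rfl⟩ := Finset.mem_image.1 ha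
      have hterm : ∀ g ∈ W.filter (fun g : G => (g : G ⧸ Z1) = g₀), ∃ u ∈ mI,
          (u : ℂ) = relTrace Q (β * R g) - relTrace Q (β * R g₀) := by
        intro g hg
        obtain ⟨hgW, hge⟩ := Finset.mem_filter.1 hg
        have hz : g₀⁻¹ * g ∈ Z1 := QuotientGroup.eq.1 hge.symm
        have e : β * R g - β * R g₀ = β * R g₀ * (R (g₀⁻¹ * g) - 1) := by
          rw [mul_sub, mul_one, mul_assoc, ← map_mul, mul_inv_cancel_left]
        have hm1 := relTrace_mem R hs hschur Q _ (hWc g hgW)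
        have hm2 := relTrace_mem R hs hschur Q _ (hWc g₀ hg₀)
        refine ⟨⟨_, hm1⟩ - ⟨_, hm2⟩, (IsLocalRing.mem_maximalIdeal _).2
          (relTrace_aug_not_unit R hs hschur hp hpV Q hmin _ (hWc g₀ hg₀) _ hz.1 hz.2.1 hz.2.2 _ ?_),
          rfl⟩
        rw [← e]
        show relTrace Q _ - relTrace Q _ = _
        simp only [relTrace, Matrix.trace_sub]
        push_cast
        ring
      choose! u hu' hue using hterm
      have hm2 := relTrace_mem R hs hschur Q _ (hWc g₀ hg₀)
      have hcard : (W.filter (fun g : G => (g : G ⧸ Z1) = g₀)).card = Nat.card Z1 := by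
        rw [Nat.card_eq_fintype_card, ← Finset.card_univ]
        refine (Finset.card_nbij (fun z : Z1 => g₀ * z) (fun z _ => ?_)
          (fun z _ z' _ h => Subtype.ext (mul_left_cancel h)) fun g hg => ?_).symm
        · simp only [Finset.coe_filter, Set.mem_setOf_eq]
          exact ⟨hstab g₀ hg₀ z z.2, QuotientGroup.eq.2 (by simp [mul_assoc])⟩
        · obtain ⟨-, hge⟩ := Finset.mem_filter.1 hg
          exact ⟨⟨g₀⁻¹ * g, QuotientGroup.eq.1 hge.symm⟩, Finset.mem_coe.2 (Finset.mem_univ _),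
            by simp⟩
      refine ⟨∑ g ∈ W.filter (fun g : G => (g : G ⧸ Z1) = g₀), u g + (Nat.card Z1 : V) * ⟨_, hm2⟩,
        mI.add_mem (mI.sum_mem hu') (mI.mul_mem_right _ ((IsLocalRing.mem_maximalIdeal _).2
          (not_isUnit_nat_of_dvd hpV hZ1p))), ?_⟩
      push_cast
      rw [Finset.sum_congr rfl hue, Finset.sum_sub_distrib, Finset.sum_const, hcard, nsmul_eq_mul]
      ring
    choose! u hu' hue using hcos
    refine ⟨∑ a ∈ W.image (QuotientGroup.mk : G → G ⧸ Z1), u a, mI.sum_mem hu', ?_⟩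
    rw [AddSubmonoidClass.coe_finsetSum, Finset.sum_congr rfl hue,
      Finset.sum_fiberwise_of_maps_to fun x hx => Finset.mem_image_of_mem _ hx]
  -- the fixed points
  have hfix : (Q.index : ℂ) / s *
      ∑ g ∈ Finset.univ.filter (· ∈ MulAction.fixedPoints Q G), (f g : ℂ) =
      (v₂ : ℂ) - (vβ : ℂ) := by
    have h1 : (1 : G) ∈ W := Finset.mem_filter.2 ⟨Finset.mem_univ _, one_pow p,
      fun h _ => by rw [one_mul, mul_one]⟩
    rw [hv₂e, ← Finset.add_sum_erase W _ h1, map_one, mul_one, ← hvβ, add_sub_cancel_left,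
      Finset.mul_sum]
    have hset : W.erase 1 = (Finset.univ.filter (· ∈ MulAction.fixedPoints Q G)).filter
        (fun g => orderOf g = p) := by
      ext g
      simp only [W, Finset.mem_erase, Finset.mem_filter, Finset.mem_univ, true_and]
      constructor
      · rintro ⟨hne, hgp, hgc⟩
        exact ⟨fun q => by rw [hsmul, ← hgc q q.2, mul_inv_cancel_right],
          orderOf_eq_prime hgp hne⟩
      · rintro ⟨hfx, hgp⟩
        refine ⟨fun e => hp.ne_one (by rw [← hgp, e, orderOf_one]), hgp ▸ pow_orderOf_eq_one g,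
          fun h hh => ?_⟩
        exact (mul_inv_eq_iff_eq_mul.1 (hfx ⟨h, hh⟩)).symm
    rw [hset, Finset.sum_filter (fun g : G => orderOf g = p)]
    refine Finset.sum_congr rfl fun g _ => ?_
    simp only [f, relTrace]
    split_ifs
    · ring
    · simp
  have htot : ∑ g : G, (f g : ℂ) = 0 := by
    have h1 := congrArg (fun X => (β * X).trace) hzero
    simp only [Finset.mul_sum, Matrix.trace_sum, mul_zero, Matrix.trace_zero] at h1
    rw [← AddSubmonoidClass.coe_finsetSum, show ∑ g, f g = 0 by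
      rw [← h1, Finset.sum_filter]]
    rfl
  have hfin : (v₂ : ℂ) - (vβ : ℂ) + (v₁ : ℂ) = 0 := by
    rw [← hfix, hv₁e, ← mul_add, Finset.sum_filter_add_sum_filter_not, htot, mul_zero]
  have he : vβ = v₂ + v₁ := Subtype.ext (by push_cast; linear_combination -hfin)
  exact (IsLocalRing.mem_maximalIdeal _).1 (he ▸ mI.add_mem hv₂ hv₁) hu

end Knorr

theorem knorr_defect_zero {G : Type u} [Group G] [Finite G] {p : ℕ} (hp : p.Prime) (χ : IrrCharacter G)
    (hvan : ∀ g : G, orderOf g = p → (χ : G → ℂ) g = 0) :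
    (charDegree (χ : G → ℂ)).factorization p = (Nat.card G).factorization p := by
  classical
  haveI := Fintype.ofFinite G
  obtain ⟨M, hM⟩ := exists_pModular hp
  obtain ⟨V, -, hpV⟩ := exists_valuation hM
  obtain ⟨n, ρ, hρ, hχ⟩ := χ.2
  obtain ⟨s, R, hR, hsch⟩ := exists_matrix_form V ρ
  have hχR : ∀ g, (χ : G → ℂ) g = ((R g).trace : ℂ) := fun g => by
    rw [← hR, ← hχ]
    rfl
  have hds : deg (χ : G → ℂ) = s := by
    have h := hχR 1
    rw [map_one, Matrix.trace_one, Fintype.card_fin, char_one_eq_deg (irr_isCharacter χ.2)] at h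
    push_cast at h
    exact_mod_cast h
  have hs : s ≠ 0 := hds ▸ (deg_pos χ.2).ne'
  have hbot := exists_relTrace_bot_unit R hs (hsch hρ) hp hpV fun g hg =>
    Subtype.ext (by rw [← hχR, hvan g hg]; rfl)
  rw [RelSmall] at hbot
  push Not at hbot
  obtain ⟨X, -, v, hv, hu⟩ := hbot
  rw [relTrace, Subgroup.index_bot, eq_div_iff (Nat.cast_ne_zero.mpr hs)] at hv
  have hdvd : s ∣ Nat.card G := hds ▸ deg_dvd_card χ.2
  obtain ⟨k, hk⟩ := hdvd
  rw [charDegree_eq_deg, hds]
  have hk0 : k ≠ 0 := fun h => Nat.card_pos.ne' (by rw [hk, h, mul_zero])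
  have hv' : v = (k : V) * X.trace := by
    refine Subtype.ext ?_
    push_cast
    rw [hk] at hv
    push_cast at hv
    exact mul_left_cancel₀ (Nat.cast_ne_zero.mpr hs : (s : ℂ) ≠ 0) (by linear_combination hv)
  have hpk : ¬ p ∣ k := fun h => not_isUnit_nat_of_dvd hpV h (isUnit_of_mul_isUnit_left (hv' ▸ hu))
  rw [hk, Nat.factorization_mul hs hk0, Finsupp.add_apply,
    Nat.factorization_eq_zero_of_not_dvd hpk, add_zero]

end Cfsg.Agent.Char
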