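import Cfsg.Agent.Lib.Char.Height

namespace Cfsg.Agent.Char
open Cfsg

/-- Egyptian fractions with boundedly many terms have bounded denominators. -/
theorem exists_unit_fraction_bound : ∀ (k : ℕ) (q : ℚ), ∃ N : ℕ, ∀ l : Multiset ℕ, l.card ≤ k →
    (∀ n ∈ l, 0 < n) → (l.map fun n : ℕ => 1 / (n : ℚ)).sum = q → ∀ n ∈ l, n ≤ N := by
  intro k
  induction k with
  | zero =>
    intro q
    refine ⟨0, fun l hl _ _ n hn => ?_⟩
    simp [Multiset.card_eq_zero.mp (Nat.le_zero.mp hl)] at hn
  | succ k ih =>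
    intro q
    choose N hN using fun m : ℕ => ih (q - 1 / (m : ℚ))
    let L := ⌈((k + 1 : ℕ) : ℚ) / q⌉₊
    refine ⟨max L ((Finset.range (L + 1)).sup N), fun l hl hpos hsum n hn => ?_⟩
    obtain ⟨m, hm, hmin⟩ := Finset.exists_min_image l.toFinset id ⟨n, Multiset.mem_toFinset.mpr hn⟩
    rw [Multiset.mem_toFinset] at hm
    have hm0 : (0:ℚ) < m := Nat.cast_pos.mpr (hpos m hm)
    have hle : q ≤ (l.card : ℚ) * (1 / m) := by
      rw [← hsum, ← nsmul_eq_mul, ← Multiset.card_map (fun n : ℕ => 1 / (n : ℚ)) l]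
      refine Multiset.sum_le_card_nsmul _ _ fun x hx => ?_
      obtain ⟨j, hj, rfl⟩ := Multiset.mem_map.mp hx
      exact one_div_le_one_div_of_le hm0 (Nat.cast_le.mpr (hmin j (Multiset.mem_toFinset.mpr hj)))
    rw [← Multiset.cons_erase hm, Multiset.map_cons, Multiset.sum_cons] at hsum
    have hqpos : 0 < q := by
      rw [← hsum]
      refine add_pos_of_pos_of_nonneg (by positivity) (Multiset.sum_nonneg fun x hx => ?_)
      obtain ⟨j, -, rfl⟩ := Multiset.mem_map.mp hx
      positivity
    have hmL : m ≤ L := by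
      have h1 : (l.card : ℚ) ≤ ((k + 1 : ℕ) : ℚ) := Nat.cast_le.mpr hl
      rw [mul_one_div, le_div_iff₀ hm0] at hle
      have : (m : ℚ) ≤ ((k + 1 : ℕ) : ℚ) / q := by
        rw [le_div_iff₀ hqpos]; nlinarith
      exact_mod_cast this.trans (Nat.le_ceil _)
    rcases eq_or_ne n m with rfl | hne
    · exact le_max_of_le_left hmL
    · refine le_max_of_le_right (le_trans ?_ (Finset.le_sup (f := N) (Finset.mem_range.mpr (Nat.lt_succ_of_le hmL))))
      have hcard := Multiset.card_erase_of_mem hm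
      exact hN m (l.erase m) (by rw [hcard, Nat.pred_eq_sub_one]; omega) (fun j hj => hpos j (Multiset.mem_of_mem_erase hj))
        (eq_sub_of_add_eq' hsum) n ((Multiset.mem_erase_of_ne hne).mpr hn)

/-- Landau's theorem: the number of classes bounds the order. -/
theorem exists_card_bound_of_classes (k : ℕ) : ∃ N : ℕ, ∀ (G : Type*) [Group G] [Finite G],
    Nat.card (ConjClasses G) ≤ k → Nat.card G ≤ N := by
  obtain ⟨N, hN⟩ := exists_unit_fraction_bound k 1
  refine ⟨N, fun G _ _ hk => ?_⟩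
  classical
  have : Fintype G := Fintype.ofFinite G
  have : Fintype (ConjClasses G) := Fintype.ofFinite _
  let c : ConjClasses G → ℕ := fun K => Fintype.card G / K.carrier.toFinset.card
  have hdvd : ∀ K : ConjClasses G, K.carrier.toFinset.card ∣ Fintype.card G := fun K => by
    obtain ⟨g, rfl⟩ := ConjClasses.exists_rep K
    rw [Set.toFinset_card, ← Nat.card_eq_fintype_card, ← Nat.card_eq_fintype_card]
    have h : (ConjClasses.mk g).carrier = {x | IsConj g x} := by
      ext x; rw [ConjClasses.mem_carrier_iff_mk_eq, ConjClasses.mk_eq_mk_iff_isConj]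
      exact ⟨IsConj.symm, IsConj.symm⟩
    rw [h]
    show Nat.card {x : G // IsConj g x} ∣ _
    rw [card_conjClass_eq_index]
    exact Subgroup.index_dvd_card _
  have hpos : ∀ K : ConjClasses G, 0 < c K := fun K => Nat.div_pos
    (Nat.le_of_dvd Fintype.card_pos (hdvd K)) (Nat.pos_of_dvd_of_pos (hdvd K) Fintype.card_pos)
  have hval : ∀ K : ConjClasses G, 1 / (c K : ℚ) = (K.carrier.toFinset.card : ℚ) / (Fintype.card G : ℚ) := fun K => by
    rw [Nat.cast_div_charZero (hdvd K), one_div_div]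
  have := hN ((Finset.univ : Finset (ConjClasses G)).val.map c)
    (by rw [Multiset.card_map]; rw [Nat.card_eq_fintype_card] at hk; exact hk)
    (fun n hn => by obtain ⟨K, -, rfl⟩ := Multiset.mem_map.mp hn; exact hpos K)
    (by
      rw [Multiset.map_map]
      show ∑ K : ConjClasses G, 1 / (c K : ℚ) = 1
      rw [Finset.sum_congr rfl fun K _ => hval K, ← Finset.sum_div, ← Nat.cast_sum,
        sum_conjClasses_card_eq_card, div_self (Nat.cast_ne_zero.mpr Fintype.card_ne_zero)])
    (c (ConjClasses.mk 1)) (Multiset.mem_map.mpr ⟨_, Finset.mem_univ _, rfl⟩)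
  have e1 : (ConjClasses.mk (1 : G)).carrier.toFinset = {1} := by
    ext x; simp [ConjClasses.mem_carrier_iff_mk_eq, ConjClasses.mk_eq_mk_iff_isConj]
  rw [Nat.card_eq_fintype_card]
  refine le_trans (le_of_eq ?_) this
  show _ = _ / _
  rw [e1, Finset.card_singleton, Nat.div_one]

end Cfsg.Agent.Char
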