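import Cfsg.Agent.Lib.Char.Central
import Cfsg.Agent.Lib.Char.Ortho
import Cfsg.Agent.Lib.Char.BlockBasic
import Mathlib

/-!
# Odd centralizers of `p`-elements: defect zero or even degree

If a non-trivial `p`-element with odd centralizer is conjugate to its inverse, squaring the
orthogonality relations modulo two gives a character of even degree. Otherwise the pairs of
conjugates of an involution with product in a Sylow `p`-subgroup give one of defect zero.
-/

set_option autoImplicit false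
set_option linter.unusedSectionVars false

namespace Cfsg.Agent.Char.OddCent

open Cfsg Cfsg.Agent.Char
open scoped ComplexConjugate

universe u

theorem dvd_of_eq_mul {n m : ℕ} {w : ℂ} (hm : m ≠ 0) (hw : IsIntegral ℤ w)
    (h : (n : ℂ) = (m : ℂ) * w) : m ∣ n := by
  have e : w = (((n : ℚ) / m : ℚ) : ℂ) := by
    push_cast
    rw [h, mul_div_cancel_left₀ _ (Nat.cast_ne_zero.mpr hm)]
  obtain ⟨z, hz⟩ := isIntegral_rat_cast_imp (e ▸ hw)
  have h' : (z : ℚ) * m = n := by rw [hz, div_mul_cancel₀ _ (by exact_mod_cast hm)]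
  exact Int.natCast_dvd_natCast.mp ⟨z, by exact_mod_cast (by rw [mul_comm]; exact h'.symm :
    (n : ℚ) = (m : ℚ) * z)⟩

theorem isIntegral_natCast_aux (n : ℕ) : IsIntegral ℤ (n : ℂ) := by
  exact_mod_cast (isIntegral_algebraMap (R := ℤ) (A := ℂ) (x := (n : ℤ)))

theorem sq_sum {ι : Type*} (s : Finset ι) (f : ι → ℂ) (hf : ∀ i ∈ s, IsIntegral ℤ (f i)) :
    ∃ w : ℂ, IsIntegral ℤ w ∧ (∑ i ∈ s, f i) ^ 2 = ∑ i ∈ s, f i ^ 2 + 2 * w := by
  classical
  induction s using Finset.induction_on with
  | empty => exact ⟨0, isIntegral_zero, by simp⟩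
  | insert a s ha ih =>
    obtain ⟨w, hw, e⟩ := ih fun i hi => hf i (Finset.mem_insert_of_mem hi)
    refine ⟨f a * (∑ i ∈ s, f i) + w, ((hf a (Finset.mem_insert_self a s)).mul
      (IsIntegral.sum _ fun i hi => hf i (Finset.mem_insert_of_mem hi))).add hw, ?_⟩
    rw [Finset.sum_insert ha, Finset.sum_insert ha, add_sq, e]
    ring

variable {G : Type u} [Group G] [Finite G]

/-- A non-trivial real element with odd centralizer forces a character of even degree. -/
theorem exists_even_degree_of_real {x : G} (hx : x ≠ 1) (hreal : IsConj x x⁻¹)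
    (hodd : Odd (Nat.card (Subgroup.centralizer ({x} : Set G)))) :
    ∃ χ : IrrCharacter G, Even (charDegree (χ : G → ℂ)) := by
  classical
  haveI := Fintype.ofFinite G
  by_contra hcon
  push Not at hcon
  have h0 := second_orth x (1 : G)
  rw [if_neg (fun e => hx (isConj_one_left.mp e))] at h0
  have h1 := second_orth x x
  rw [if_pos (IsConj.refl x)] at h1
  have hc : (Nat.card G : ℂ) / Nat.card {y : G // IsConj x y} =
      Nat.card (Subgroup.centralizer ({x} : Set G)) := by
    rw [← card_conjClass_mul_centralizer x, Nat.cast_mul,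
      mul_div_cancel_left₀ _ (Nat.cast_ne_zero.mpr (card_conjClass_ne_zero x))]
  rw [hc] at h1
  set f : IrrCharacter G → ℂ := fun χ => (χ : G → ℂ) x with hf
  have hint : ∀ χ, IsIntegral ℤ (f χ) := fun χ => char_isIntegral (irr_isCharacter χ.2) x
  have hsq : ∑ χ, f χ ^ 2 = (Nat.card (Subgroup.centralizer ({x} : Set G)) : ℂ) := by
    rw [← h1]
    refine Finset.sum_congr rfl fun χ _ => ?_
    obtain ⟨k, hk⟩ := isConj_iff.mp hreal
    rw [← char_inv (irr_isCharacter χ.2), ← hk,
      isClassFunction_character (irr_isCharacter χ.2), sq]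
  choose j hj using fun χ : IrrCharacter G =>
    (Nat.not_even_iff_odd.mp (hcon χ) : Odd (deg (χ : G → ℂ)))
  have hv : ∑ χ, f χ = 2 * (-∑ χ : IrrCharacter G, f χ * (j χ : ℂ)) := by
    have e : ∑ χ : IrrCharacter G, (f χ + 2 * (f χ * (j χ : ℂ))) = 0 := by
      rw [← h0]
      refine Finset.sum_congr rfl fun χ _ => ?_
      rw [conj_char_one (irr_isCharacter χ.2), char_one_eq_deg (irr_isCharacter χ.2), hj χ, hf]
      push_cast
      ring
    rw [Finset.sum_add_distrib, ← Finset.mul_sum] at e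
    linear_combination e
  set v := -∑ χ : IrrCharacter G, f χ * (j χ : ℂ) with hvdef
  have hvint : IsIntegral ℤ v := (IsIntegral.sum _ fun χ _ => (hint χ).mul ((isIntegral_natCast_aux _))).neg
  obtain ⟨w, hw, e⟩ := sq_sum Finset.univ f fun χ _ => hint χ
  rw [hv, hsq] at e
  have h2 : 2 ∣ Nat.card (Subgroup.centralizer ({x} : Set G)) :=
    dvd_of_eq_mul (w := 2 * v ^ 2 - w) two_ne_zero
      (((isIntegral_natCast_aux 2).mul (hvint.pow 2)).sub hw) (by push_cast; linear_combination -e)
  exact Nat.not_even_iff_odd.mpr hodd (even_iff_two_dvd.mpr h2)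

/-- An involution with `p'`-centralizer whose conjugates invert no non-trivial `p`-element gives
a character of defect zero. -/
theorem exists_defect_zero_of_no_inverted [Fintype G] {p : ℕ} [Fact p.Prime] {t : G} (ht : t * t = 1)
    (hC : ¬ p ∣ Nat.card (Subgroup.centralizer ({t} : Set G)))
    (hinv : ∀ a : G, IsConj t a → ∀ u : G, u ≠ 1 → (∃ k : ℕ, orderOf u = p ^ k) →
      a * u * a⁻¹ ≠ u⁻¹) :
    ∃ χ : IrrCharacter G, (charDegree (χ : G → ℂ)).factorization p =
      (Nat.card G).factorization p := by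
  classical
  obtain ⟨P⟩ : Nonempty (Sylow p G) := inferInstance
  haveI := Fintype.ofFinite (P : Subgroup G)
  by_contra hcon
  push Not at hcon
  have hp := (Fact.out : p.Prime)
  have hq : ∀ χ : IrrCharacter G, ∃ q : ℕ, Nat.card G = deg (χ : G → ℂ) * (p * q) := by
    intro χ
    obtain ⟨r, hr⟩ := deg_dvd_card χ.2
    have hr0 : r ≠ 0 := fun e => Nat.card_pos.ne' (by rw [hr, e, mul_zero] : Nat.card G = 0)
    obtain ⟨q, rfl⟩ : p ∣ r := by
      by_contra hn
      refine hcon χ ?_
      rw [hr, Nat.factorization_mul (deg_pos χ.2).ne' hr0, Finsupp.add_apply,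
        Nat.factorization_eq_zero_of_not_dvd hn, add_zero, charDegree_eq_deg]
    exact ⟨q, hr⟩
  choose q hq using hq
  set C : Finset G := Finset.univ.filter (fun a => IsConj t a) with hCdef
  have hCinv : ∀ a ∈ C, a⁻¹ = a := by
    intro a ha
    obtain ⟨k, rfl⟩ := isConj_iff.mp (Finset.mem_filter.mp ha).2
    rw [mul_inv_rev, mul_inv_rev, inv_inv, inv_eq_of_mul_eq_one_right ht, mul_assoc]
  have hcount : ∀ a ∈ C, ∀ b ∈ C, ∀ u : (P : Subgroup G),
      IsConj (a * b) (u : G) → (u : G) = 1 := by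
    intro a ha b hb u hab
    by_contra hu
    obtain ⟨k, hk⟩ := isConj_iff.mp hab
    obtain ⟨n, hn⟩ := IsPGroup.iff_orderOf.mp P.isPGroup' u
    refine hinv (k * a * k⁻¹) ((Finset.mem_filter.mp ha).2.trans (isConj_iff.mpr ⟨k, rfl⟩)) u hu
      ⟨n, by rw [Subgroup.orderOf_coe, hn]⟩ ?_
    have haa : a * a = 1 := by
      nth_rewrite 1 [← hCinv a ha]
      exact inv_mul_cancel a
    calc k * a * k⁻¹ * (u : G) * (k * a * k⁻¹)⁻¹
        = k * (a * a * b * a⁻¹) * k⁻¹ := by rw [← hk]; group
      _ = k * (b * a) * k⁻¹ := by rw [haa, one_mul, hCinv a ha]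
      _ = ((u : G))⁻¹ := by
        rw [← hk, conj_inv, mul_inv_rev, hCinv a ha, hCinv b hb]
  have hQ1 : ∑ u : (P : Subgroup G), ∑ a ∈ C, ∑ b ∈ C,
      ∑ χ : IrrCharacter G, (χ : G → ℂ) (a * b) * conj ((χ : G → ℂ) u) =
      (C.card : ℂ) * Nat.card G := by
    rw [Fintype.sum_eq_single (1 : (P : Subgroup G))]
    · have hcl : (Nat.card {x : G // IsConj 1 x} : ℂ) = 1 := by
        rw [Nat.cast_eq_one, Nat.card_eq_one_iff_unique]
        exact ⟨⟨fun x y => Subtype.ext
          ((isConj_one_right.mp x.2).trans (isConj_one_right.mp y.2).symm)⟩, ⟨⟨1, IsConj.refl 1⟩⟩⟩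
      rw [Finset.sum_congr rfl (g := fun _ => (Nat.card G : ℂ)), Finset.sum_const, nsmul_eq_mul]
      intro a ha
      rw [Finset.sum_eq_single a]
      · rw [second_orth, OneMemClass.coe_one, hcl, if_pos, div_one]
        nth_rewrite 1 [← hCinv a ha]
        rw [inv_mul_cancel]
      · intro b hb hba
        rw [second_orth, if_neg]
        intro e
        rw [OneMemClass.coe_one, isConj_one_left] at e
        refine hba ?_
        rw [← hCinv a ha]
        exact (inv_eq_of_mul_eq_one_right e).symm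
      · exact fun h => absurd ha h
    · intro u hu
      refine Finset.sum_eq_zero fun a ha => Finset.sum_eq_zero fun b hb => ?_
      rw [second_orth, if_neg]
      exact fun e => hu (Subtype.ext (hcount a ha b hb u e))
  have hχ : ∀ χ : IrrCharacter G, ∑ a ∈ C, ∑ b ∈ C, (χ : G → ℂ) (a * b) =
      omega (χ : G → ℂ) t ^ 2 * (χ : G → ℂ) 1 := by
    intro χ
    obtain ⟨n, ρ, hirr, hρ⟩ := χ.2
    haveI := hirr
    rw [← hρ]
    have h2 := congrArg (LinearMap.trace ℂ _)
      (congrArg₂ (· * ·) (classSum_eq_omega ρ t) (classSum_eq_omega ρ t))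
    simp only [Finset.sum_mul, Finset.mul_sum, ← map_mul, map_sum] at h2
    rw [show (omega ρ.character t • LinearMap.id : Module.End ℂ (Fin n → ℂ)) *
        (omega ρ.character t • LinearMap.id) = (omega ρ.character t ^ 2) • LinearMap.id by
      rw [smul_mul_smul_comm, ← sq]; rfl, map_smul, LinearMap.trace_id, smul_eq_mul] at h2
    rw [Representation.char_one, Finset.sum_comm]
    exact h2
  have hm : ∀ χ : IrrCharacter G, ∃ m : ℕ, ∑ u : (P : Subgroup G), conj ((χ : G → ℂ) u) =
      (Nat.card (P : Subgroup G) : ℂ) * m := by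
    intro χ
    obtain ⟨m, hm⟩ := classInner_natCast (isCharacter_one (G := (P : Subgroup G)))
      (isCharacter_comp (P : Subgroup G).subtype (irr_isCharacter χ.2))
    refine ⟨m, ?_⟩
    rw [← hm, classInner, ← mul_assoc,
      mul_inv_cancel₀ (Nat.cast_ne_zero.mpr Nat.card_pos.ne'), one_mul]
    simp
  choose m hm using hm
  have hCcard : C.card = Nat.card {x : G // IsConj t x} := by
    rw [Nat.card_eq_fintype_card, Fintype.card_subtype, hCdef]
  have hQ2 : (C.card : ℂ) * Nat.card G = ∑ χ : IrrCharacter G,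
      omega (χ : G → ℂ) t ^ 2 * (χ : G → ℂ) 1 * ((Nat.card (P : Subgroup G) : ℂ) * m χ) := by
    simp only [← hQ1, ← hχ, ← hm, Finset.sum_mul, Finset.mul_sum]
    rw [Finset.sum_comm (γ := IrrCharacter G)]
    refine Finset.sum_congr rfl fun u _ => ?_
    rw [Finset.sum_comm (γ := IrrCharacter G)]
    refine Finset.sum_congr rfl fun a _ => ?_
    rw [Finset.sum_comm]
  set c := Nat.card (Subgroup.centralizer ({t} : Set G)) with hc
  have hCc : (C.card : ℂ) * c = Nat.card G := by
    rw [hCcard, ← Nat.cast_mul, card_conjClass_mul_centralizer]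
  have hPi : (Nat.card (P : Subgroup G) : ℂ) * (P : Subgroup G).index = Nat.card G := by
    rw [← Nat.cast_mul, Subgroup.card_mul_index]
  have hkey : (((c * (P : Subgroup G).index : ℕ)) : ℂ) = (p : ℂ) *
      ∑ χ : IrrCharacter G, ((χ : G → ℂ) t) ^ 2 * (q χ : ℂ) * m χ := by
    have hP0 : (Nat.card (P : Subgroup G) : ℂ) ≠ 0 := Nat.cast_ne_zero.mpr Nat.card_pos.ne'
    have hC0 : (C.card : ℂ) ≠ 0 := by
      rw [hCcard]; exact Nat.cast_ne_zero.mpr (card_conjClass_ne_zero t)
    have hG0 : (Nat.card G : ℂ) ≠ 0 := Nat.cast_ne_zero.mpr Nat.card_pos.ne'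
    have e1 : ∀ χ : IrrCharacter G, (Nat.card G : ℂ) *
        (omega (χ : G → ℂ) t ^ 2 * (χ : G → ℂ) 1 * ((Nat.card (P : Subgroup G) : ℂ) * m χ)) =
        ((C.card : ℂ) ^ 2 * Nat.card (P : Subgroup G) * p) *
          (((χ : G → ℂ) t) ^ 2 * (q χ : ℂ) * m χ) := by
      intro χ
      rw [omega, ← hCcard, char_one_eq_deg (irr_isCharacter χ.2), hq χ]
      have hd : (deg (χ : G → ℂ) : ℂ) ≠ 0 := Nat.cast_ne_zero.mpr (deg_pos χ.2).ne'
      push_cast
      field_simp
    have e2 := congrArg ((Nat.card G : ℂ) * ·) hQ2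
    simp only [Finset.mul_sum (a := (Nat.card G : ℂ)), e1, ← Finset.mul_sum] at e2
    refine mul_left_cancel₀ (mul_ne_zero (pow_ne_zero 2 hC0) hP0) ?_
    push_cast
    linear_combination e2 + ((C.card : ℂ) * (Nat.card (P : Subgroup G)) * (P : Subgroup G).index) * hCc
      + ((C.card : ℂ) * Nat.card G) * hPi
  have hdvd := dvd_of_eq_mul hp.ne_zero (IsIntegral.sum _ fun χ _ =>
    (((char_isIntegral (irr_isCharacter χ.2) t).pow 2).mul ((isIntegral_natCast_aux _))).mul
      ((isIntegral_natCast_aux _))) hkey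
  exact (hp.dvd_mul.mp hdvd).elim hC P.not_dvd_index

/-- An involution with `p'`-centralizer in a group without non-trivial real `p`-elements gives
a character of defect zero. -/
theorem exists_defect_zero_of_no_real [Fintype G] {p : ℕ} [Fact p.Prime] {t : G} (ht : t * t = 1)
    (hC : ¬ p ∣ Nat.card (Subgroup.centralizer ({t} : Set G)))
    (hreal : ∀ u : G, u ≠ 1 → (∃ k : ℕ, orderOf u = p ^ k) → ¬ IsConj u u⁻¹) :
    ∃ χ : IrrCharacter G, (charDegree (χ : G → ℂ)).factorization p =
      (Nat.card G).factorization p :=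
  exists_defect_zero_of_no_inverted ht hC fun a _ u hu hk e =>
    hreal u hu hk (isConj_iff.mpr ⟨a, e⟩)

/-- **Odd centralizers of `p`-elements: defect zero or an even degree.** -/
theorem defect_zero_or_even (p : ℕ) [Fact p.Prime] (h2G : 2 ∣ Nat.card G)
    (hC : ∀ g : G, g ≠ 1 → (∃ k : ℕ, orderOf g = p ^ k) →
      Odd (Nat.card ↥(Subgroup.centralizer ({g} : Set G)))) :
    (∃ χ : IrrCharacter G, (charDegree (χ : G → ℂ)).factorization p =
      (Nat.card G).factorization p) ∨ ∃ χ : IrrCharacter G, Even (charDegree (χ : G → ℂ)) := by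
  classical
  haveI := Fintype.ofFinite G
  by_cases h : ∃ u : G, u ≠ 1 ∧ (∃ k : ℕ, orderOf u = p ^ k) ∧ IsConj u u⁻¹
  · obtain ⟨u, hu, hk, hr⟩ := h
    exact Or.inr (exists_even_degree_of_real hu hr (hC u hu hk))
  · push Not at h
    obtain ⟨t, ht⟩ := exists_prime_orderOf_dvd_card' 2 h2G
    have htt : t * t = 1 := by rw [← sq, ← ht, pow_orderOf_eq_one]
    refine Or.inl (exists_defect_zero_of_no_real htt (fun hd => ?_) h)
    obtain ⟨y, hy⟩ := exists_prime_orderOf_dvd_card' p hd
    rw [← Subgroup.orderOf_coe] at hy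
    have hy1 : (y : G) ≠ 1 := fun e => (Fact.out : p.Prime).one_lt.ne' (by
      rw [← hy, e, orderOf_one])
    have hodd := hC y hy1 ⟨1, by rw [hy, pow_one]⟩
    have htmem : t ∈ Subgroup.centralizer ({(y : G)} : Set G) :=
      Subgroup.mem_centralizer_singleton_iff.mpr
        (Subgroup.mem_centralizer_singleton_iff.mp y.2).symm
    have := Subgroup.orderOf_dvd_natCard _ htmem
    rw [ht] at this
    exact Nat.not_even_iff_odd.mpr hodd (even_iff_two_dvd.mpr this)

end Cfsg.Agent.Char.OddCent
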