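import Cfsg.Agent.Lib.Char.Indicator
import Cfsg.Agent.Lib.Char.SquareRoots
import Cfsg.Agent.Lib.Char.CliffordGen
import Cfsg.Agent.Lib.Char.CliffordCorr
import Cfsg.Agent.Lib.Char.CoverBlocks
import Cfsg.Agent.Lib.Char.FongReynolds
import Cfsg.Agent.Lib.Char.BrauerChar
import Cfsg.Agent.Lib.Char.Coprime

/-!
# Linear twists of a character induced from an inertia group
-/

set_option autoImplicit false
set_option linter.unusedSectionVars false
set_option linter.style.haveILetI false

namespace Cfsg.Agent.Char

open Cfsg Module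
open scoped ComplexConjugate Matrix

universe u

section TwoForm

variable {N : Type*} [Group N] [Fintype N] {n : ℕ} (A B : N →* Matrix (Fin n) (Fin n) ℂ)

/-- The action on bilinear forms between two representations. -/
noncomputable def twoFormRep : Representation ℂ N (Matrix (Fin n) (Fin n) ℂ) where
  toFun g :=
    { toFun := fun M => A g * M * (B g)ᵀ
      map_add' := fun M M' => by rw [mul_add, add_mul]
      map_smul' := fun c M => by simp }
  map_one' := by ext M : 1; simp
  map_mul' a b := by
    ext M : 1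
    show A (a * b) * M * (B (a * b))ᵀ = A a * (A b * M * (B b)ᵀ) * (B a)ᵀ
    simp [map_mul, Matrix.mul_assoc]

theorem twoFormRep_entry (g : N) (k l i j : Fin n) :
    (twoFormRep A B g (Matrix.single k l 1)) i j = A g i k * B g j l := by
  simp [twoFormRep, Matrix.mul_apply, Matrix.single_apply, ite_and]

theorem trace_twoFormRep (g : N) :
    LinearMap.trace ℂ _ (twoFormRep A B g) = (A g).trace * (B g).trace := by
  rw [trace_matrix_end, Matrix.trace, Matrix.trace, Finset.sum_mul_sum]
  simp [twoFormRep_entry]

/-- Orthogonality of matrix entries. -/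
theorem sum_entries_eq_zero (h : ∑ g : N, (A g).trace * (B g).trace = 0) (i k j l : Fin n) :
    ∑ g : N, A g i k * B g j l = 0 := by
  classical
  haveI : Invertible (Fintype.card N : ℂ) :=
    invertibleOfNonzero (Nat.cast_ne_zero.mpr Fintype.card_ne_zero)
  haveI : Invertible (Nat.card N : ℂ) :=
    invertibleOfNonzero (Nat.cast_ne_zero.mpr Nat.card_pos.ne')
  set ρ := twoFormRep A B with hρ
  have hproj := Representation.isProj_averageMap ρ
  have havg : ρ.averageMap = (Nat.card N : ℂ)⁻¹ • ∑ g : N, ρ g := by
    simp [Representation.averageMap, GroupAlgebra.average, map_sum, Representation.asAlgebraHom_single,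
      Nat.card_eq_fintype_card]
  have htr : LinearMap.trace ℂ _ ρ.averageMap = 0 := by
    rw [havg, map_smul, map_sum, Finset.sum_congr rfl fun g _ => trace_twoFormRep A B g, h, smul_zero]
  rw [hproj.trace, Nat.cast_eq_zero, Submodule.finrank_eq_zero] at htr
  have hzero : ρ.averageMap = 0 := LinearMap.ext fun v => by
    have := hproj.map_mem v
    rw [htr, Submodule.mem_bot] at this
    exact this
  have h2 := congrArg (fun f : Matrix (Fin n) (Fin n) ℂ →ₗ[ℂ] Matrix (Fin n) (Fin n) ℂ =>
    f (Matrix.single k l 1) i j) (havg.symm.trans hzero)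
  simp only [LinearMap.smul_apply, LinearMap.sum_apply, Matrix.smul_apply, Matrix.sum_apply,
    LinearMap.zero_apply, Matrix.zero_apply, smul_eq_mul, hρ, twoFormRep_entry] at h2
  exact (mul_eq_zero.mp h2).resolve_left (inv_ne_zero (Nat.cast_ne_zero.mpr Nat.card_pos.ne'))

theorem sum_trace_mul_eq_zero (h : ∑ g : N, (A g).trace * (B g).trace = 0)
    (T : Matrix (Fin n) (Fin n) ℂ) : ∑ g : N, (A g * B g * T).trace = 0 := by
  simp only [Matrix.trace, Matrix.diag_apply, Matrix.mul_apply, Finset.sum_mul]
  rw [Finset.sum_comm]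
  refine Finset.sum_eq_zero fun i _ => ?_
  rw [Finset.sum_comm]
  refine Finset.sum_eq_zero fun k _ => ?_
  rw [Finset.sum_comm]
  refine Finset.sum_eq_zero fun j _ => ?_
  rw [← Finset.sum_mul, sum_entries_eq_zero A B h, zero_mul]

end TwoForm

variable {G : Type u} [Group G] [Fintype G] (N : Subgroup G) [N.Normal] [Fintype N]

/-- The trivial on `N` linear characters fixed a given character are at most its norm on `N`. -/
theorem card_linear_fix_le {χ : G → ℂ} (hχ : IsIrrCharacter G χ) (S : Finset (G →* ℂˣ))
    (hS : ∀ ν ∈ S, (∀ n : N, ν n = 1) ∧ ∀ g, (ν g : ℂ) * χ g = χ g) :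
    (S.card : ℝ) ≤ (classInner (fun n : N => χ n) (fun n : N => χ n)).re := by
  classical
  have hχc := irr_isCharacter hχ
  set F : G → ℂ := fun g => χ g * χ g⁻¹ with hF
  have hFc : IsCharacter G F :=
    isCharacter_mul hχc (by
      rw [show (fun g => χ g⁻¹) = fun g => conj (χ g) from funext fun g => char_inv hχc g]
      exact isCharacter_conj hχc)
  obtain ⟨m, hm⟩ := exists_decomposition hFc
  have hcoef := decomposition_coeff m hm
  have hN : classInner (fun n : N => χ n) (fun n : N => χ n) =
      ∑ β : IrrCharacter G, (m β : ℂ) * classInner (fun n : N => (β : G → ℂ) n) (fun _ => 1) := by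
    have h1 : classInner (fun n : N => χ n) (fun n : N => χ n) =
        classInner (fun n : N => F n) (fun _ => 1) := by
      simp only [classInner, hF, char_inv hχc, map_one, mul_one]
    rw [h1, show (fun n : N => F n) = ∑ β : IrrCharacter G, (m β : ℂ) • fun n : N => (β : G → ℂ) n from
      funext fun n => by
        have := congrFun hm (n : G)
        simp only [Finset.sum_apply, Pi.smul_apply, nsmul_eq_mul, smul_eq_mul] at this ⊢
        exact this, classInner_sum_left]
    simp only [classInner_smul_left]
  choose c hc using fun β : IrrCharacter G => classInner_natCast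
    (isCharacter_comp N.subtype (irr_isCharacter β.2)) (irr_isCharacter (isIrrCharacter_one (G := N)))
  have hN' : (classInner (fun n : N => χ n) (fun n : N => χ n)).re =
      ((∑ β : IrrCharacter G, m β * c β : ℕ) : ℝ) := by
    rw [hN, Finset.sum_congr rfl fun β _ => by
      rw [show classInner (fun n : N => (β : G → ℂ) n) (fun _ => 1) = (c β : ℂ) from hc β],
      ← Complex.natCast_re]
    push_cast; rfl
  rw [hN', Nat.cast_le]
  set e : (G →* ℂˣ) → IrrCharacter G := fun ν => ⟨fun g => (ν g : ℂ), isIrrCharacter_linear ν⟩ with he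
  have hinj : Set.InjOn e (S : Set (G →* ℂˣ)) := fun a _ b _ h => MonoidHom.ext fun g =>
    Units.ext (congrFun (congrArg Subtype.val h) g)
  refine le_trans (le_of_eq ?_) (Finset.sum_le_sum_of_subset (Finset.subset_univ (S.image e)))
  rw [Finset.sum_image hinj, Finset.card_eq_sum_ones]
  refine Finset.sum_congr rfl fun ν hν => ?_
  have h1 : classInner F (fun g => (ν g : ℂ)) = 1 := by
    rw [← irr_self hχ, classInner, classInner]
    congr 1
    refine Finset.sum_congr rfl fun g _ => ?_
    rw [hF]
    dsimp only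
    rw [mul_assoc, ← char_inv hχc]
    have h := (hS ν hν).2 g⁻¹
    have hu : (ν g⁻¹ : ℂ) = conj (ν g : ℂ) := char_inv (isCharacter_linear ν) g
    rw [hu] at h
    rw [mul_comm (χ g⁻¹), h]
  have hm1 : m (e ν) = 1 := by
    have := hcoef (e ν)
    rw [show ((e ν : IrrCharacter G) : G → ℂ) = fun g => (ν g : ℂ) from rfl, h1] at this
    exact_mod_cast this.symm
  have hc1 : c (e ν) = 1 := by
    have := hc (e ν)
    rw [show ((e ν : IrrCharacter G) : G → ℂ) ∘ N.subtype = fun _ => (1 : ℂ) from
      funext fun n => by simp [he, (hS ν hν).1 n]] at this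
    have h2 : classInner (fun _ : N => (1 : ℂ)) (fun _ => 1) = (c (e ν) : ℂ) := this
    rw [irr_self (isIrrCharacter_one (G := N))] at h2
    exact_mod_cast h2.symm
  rw [hm1, hc1]

variable {φ : IrrCharacter N} {I : Subgroup G} [Fintype I] (hNI : N ≤ I)
  (hI : ∀ g : G, g ∈ I ↔ irrComp (MulAut.conjNormal g) φ = φ)
  {ψ : I → ℂ} (hψ : IsIrrCharacter I ψ) (hext : ∀ n : N, ψ (Subgroup.inclusion hNI n) = (φ : N → ℂ) n)

include hI hψ hext

/-- The facts about the character induced from an extension to the inertia group. -/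
theorem indFun_ext_facts :
    IsIrrCharacter G (indFun I ψ) ∧ deg (indFun I ψ) = deg (φ : N → ℂ) * I.index ∧
      classInner (fun n : N => indFun I ψ n) (fun n : N => indFun I ψ n) = (I.index : ℂ) ∧
      ∀ χ : IrrCharacter G, classInner (fun t : I => (χ : G → ℂ) t) ψ ≠ 0 →
        (χ : G → ℂ) = indFun I ψ := by
  classical
  have hF := isCharacter_indFun I (irr_isCharacter hψ)
  obtain ⟨χ, hχ⟩ : ∃ χ : IrrCharacter G, classInner (fun t : I => (χ : G → ℂ) t) ψ ≠ 0 :=
    exists_constituent_over I ⟨ψ, hψ⟩
  have key : ∀ χ : IrrCharacter G, classInner (fun t : I => (χ : G → ℂ) t) ψ ≠ 0 →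
      (χ : G → ℂ) = indFun I ψ ∧ classInner (fun n : N => (χ : G → ℂ) n) (φ : N → ℂ) = 1 := by
    intro χ hχ
    have hover : classInner (fun n : N => (χ : G → ℂ) n) (φ : N → ℂ) ≠ 0 := by
      obtain ⟨m, hm⟩ := exists_decomposition (isCharacter_comp I.subtype (irr_isCharacter χ.2))
      choose c hc using fun η : IrrCharacter I => classInner_natCast
        (isCharacter_comp (Subgroup.inclusion hNI) (irr_isCharacter η.2)) (irr_isCharacter φ.2)
      have e : classInner (fun n : N => (χ : G → ℂ) n) (φ : N → ℂ) =
          ((∑ η : IrrCharacter I, m η * c η : ℕ) : ℂ) := by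
        rw [show (fun n : N => (χ : G → ℂ) n) =
            ∑ η : IrrCharacter I, (m η : ℂ) • ((η : I → ℂ) ∘ Subgroup.inclusion hNI) from
          funext fun n => by
            have := congrFun hm (Subgroup.inclusion hNI n)
            simp only [Finset.sum_apply, Pi.smul_apply, nsmul_eq_mul, smul_eq_mul] at this ⊢
            exact this, classInner_sum_left]
        push_cast
        refine Finset.sum_congr rfl fun η _ => ?_
        rw [classInner_smul_left, hc]
      rw [e, Nat.cast_ne_zero]
      intro h0
      have h1 := (Finset.sum_eq_zero_iff.mp h0) ⟨ψ, hψ⟩ (Finset.mem_univ _)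
      rcases Nat.mul_eq_zero.mp h1 with h2 | h2
      · apply hχ
        have := decomposition_coeff m hm ⟨ψ, hψ⟩
        rw [h2, Nat.cast_zero] at this
        exact this
      · have := hc ⟨ψ, hψ⟩
        rw [show (ψ ∘ Subgroup.inclusion hNI) = (φ : N → ℂ) from funext hext, irr_self φ.2, h2,
          Nat.cast_zero] at this
        exact one_ne_zero this
    obtain ⟨T, ψ', e, hNT, hψ', hχe, he0, hT, hres, hce⟩ :=
      exists_correspondent χ.2 N φ hover
    obtain rfl : T = I := Subgroup.ext fun g => (hT g).trans (hI g).symm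
    have h1 := congrFun hχe 1
    rw [indFun_one] at h1
    have hψ'1 : ψ' 1 = (e : ℂ) * (φ : N → ℂ) 1 := by
      have := hres 1
      rwa [map_one] at this
    have hψ1 : ψ 1 = (φ : N → ℂ) 1 := by
      have := hext 1
      rwa [map_one] at this
    have hne : classInner (indFun T ψ) (χ : G → ℂ) ≠ 0 := by
      rw [frobenius T _ (isClassFunction_character (irr_isCharacter χ.2)), ← classInner_symm]
      exact (map_ne_zero _).mpr hχ
    have hle := degree_le_of_classInner_ne_zero hF χ hne
    rw [h1, indFun_one, hψ'1, hψ1, char_one_eq_deg (irr_isCharacter φ.2)] at hle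
    simp only [← Nat.cast_mul, Complex.natCast_re, Nat.cast_le] at hle
    have hi : 0 < T.index := Nat.pos_of_ne_zero Subgroup.index_ne_zero_of_finite
    have he1 : e = 1 := by
      have h2 := Nat.le_of_mul_le_mul_left hle hi
      have := deg_pos φ.2
      have : e ≤ 1 := Nat.le_of_mul_le_mul_right (by rw [one_mul]; exact h2) this
      omega
    refine ⟨(eq_of_inner_ne_zero_of_deg hF χ hne ?_).symm, by rw [hce, he1, Nat.cast_one]⟩
    rw [h1, indFun_one, hψ'1, hψ1, he1, Nat.cast_one, one_mul]
  obtain ⟨hχF, hce⟩ := key χ hχ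
  refine ⟨hχF ▸ χ.2, ?_, ?_, fun χ h => (key χ h).1⟩
  · refine Nat.cast_injective (R := ℂ) ?_
    rw [← char_one_eq_deg hF, indFun_one, show ψ 1 = (φ : N → ℂ) 1 by
      have := hext 1; rwa [map_one] at this, Nat.cast_mul, char_one_eq_deg (irr_isCharacter φ.2)]
    ring
  · rw [← hχF, clifford_restrict χ φ (by rw [hce]; exact one_ne_zero), hce, one_smul,
      classInner_sum_left, Finset.sum_congr rfl (g := fun _ => (1 : ℂ)) fun η hη => ?_,
      Finset.sum_const, nsmul_one]
    · congr 1
      have h := card_cliffOrbit_mul (N := N) φ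
      rw [Nat.card_congr (Equiv.subtypeEquivRight fun g => (hI g).symm), ← I.index_mul_card] at h
      exact Nat.eq_of_mul_eq_mul_right Nat.card_pos h
    · rw [classInner_sum_right, Finset.sum_congr rfl fun ζ _ => irrC_orth η ζ, Finset.sum_ite_eq,
        if_pos hη]

/-- The counting inequality for linear twists. -/
theorem card_linear_le {Λ : Type*} [Fintype Λ] (lam : Λ → (G →* ℂˣ)) (hlam : Function.Injective lam)
    (htriv : ∀ (l : Λ) (n : N), lam l n = 1) (T : Set (IrrCharacter G))
    (hT : ∀ (l : Λ) (χ : IrrCharacter G),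
      (χ : G → ℂ) = (fun g => (lam l g : ℂ) * indFun I ψ g) → χ ∈ T) :
    Fintype.card Λ ≤ I.index * Nat.card T := by
  classical
  obtain ⟨hirr, -, hnorm, -⟩ := indFun_ext_facts N hNI hI hψ hext
  haveI := Fintype.ofFinite T
  set F : Λ → T := fun l => ⟨⟨_, isIrr_linear_mul hirr (lam l)⟩, hT l _ rfl⟩ with hFdef
  rw [Nat.card_eq_fintype_card]
  refine Finset.card_le_mul_card_image_of_maps_to (f := F) (t := Finset.univ)
    (fun _ _ => Finset.mem_univ _) I.index (fun y _ => ?_) |>.trans ?_
  · rcases Finset.eq_empty_or_nonempty (Finset.univ.filter fun l => F l = y) with h | ⟨l₀, hl₀⟩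
    · simp [h]
    have h := card_linear_fix_le N hirr ((Finset.univ.filter fun l => F l = y).image
      fun l => lam l * (lam l₀)⁻¹) fun ν hν => by
        obtain ⟨l, hl, rfl⟩ := Finset.mem_image.mp hν
        refine ⟨fun n => by simp [htriv], fun g => ?_⟩
        have e := congrArg Subtype.val (congrArg Subtype.val
          ((Finset.mem_filter.mp hl).2.trans (Finset.mem_filter.mp hl₀).2.symm))
        have e' := congrFun e g
        simp only [hFdef] at e'
        rw [MonoidHom.mul_apply, MonoidHom.inv_apply, Units.val_mul, Units.val_inv_eq_inv_val,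
          mul_right_comm, e', mul_right_comm, mul_inv_cancel₀ (Units.ne_zero _), one_mul]
    rw [hnorm, Complex.natCast_re, Nat.cast_le, Finset.card_image_of_injective _
      (fun a b hab => hlam (mul_right_cancel hab))] at h
    exact h
  · simp

/-- A strongly real extension induces a strongly real character. -/
theorem indicator_indFun (hone : indicator2 ψ = 1) : indicator2 (indFun I ψ) = 1 := by
  classical
  obtain ⟨hirr, -, -, huniq⟩ := indFun_ext_facts N hNI hI hψ hext
  set χ₀ : IrrCharacter G := ⟨_, hirr⟩ with hχ₀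
  have hψreal : ∀ t : I, (ψ t).im = 0 := indicator_real hψ (by rw [hone]; exact one_ne_zero)
  have hψconj : ∀ t : I, conj (ψ t) = ψ t := fun t => Complex.conj_eq_iff_im.mpr (hψreal t)
  have hsum : ∑ χ : IrrCharacter G, indicator2 (χ : G → ℂ) *
      classInner (fun t : I => (χ : G → ℂ) t) ψ = indicator2 (indFun I ψ) := by
    rw [Finset.sum_eq_single χ₀]
    · have h1 : classInner (fun t : I => indFun I ψ t) ψ = 1 := by
        rw [← classInner_symm, ← frobenius I ψ (isClassFunction_character (irr_isCharacter hirr)),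
          irr_self hirr, map_one]
      rw [show classInner (fun t : I => (χ₀ : G → ℂ) t) ψ = 1 from h1, mul_one]
    · intro χ _ hne
      by_cases h0 : classInner (fun t : I => (χ : G → ℂ) t) ψ = 0
      · rw [h0, mul_zero]
      · exact absurd (Subtype.ext (huniq χ h0)) hne
    · simp
  have hsplit : ∑ χ : IrrCharacter G, indicator2 (χ : G → ℂ) *
      classInner (fun t : I => (χ : G → ℂ) t) ψ =
      (Nat.card I : ℂ)⁻¹ * ∑ g : G, if h : g * g ∈ I then ψ ⟨g * g, h⟩ else 0 := by
    simp only [classInner, Finset.mul_sum, ← mul_assoc]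
    rw [Finset.sum_comm]
    simp only [mul_comm (indicator2 _) (Nat.card I : ℂ)⁻¹, mul_assoc, ← Finset.mul_sum]
    congr 1
    rw [← Finset.sum_fiberwise Finset.univ (fun g : G => g * g)
      (fun g : G => if h : g * g ∈ I then ψ ⟨g * g, h⟩ else 0)]
    rw [← Finset.sum_subset (Finset.subset_univ (Finset.univ.filter (· ∈ I))) fun a _ ha =>
      Finset.sum_eq_zero fun g hg => by
        rw [dif_neg]
        rw [(Finset.mem_filter.mp hg).2]
        simpa using ha, Finset.sum_subtype (p := (· ∈ I)) _ (fun g => by simp)]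
    refine Finset.sum_congr rfl fun t _ => Eq.symm ?_
    rw [Finset.sum_congr rfl (g := fun _ => ψ t) fun g hg => by
        have e := (Finset.mem_filter.mp hg).2
        rw [dif_pos (by rw [e]; exact t.2)]
        exact congrArg ψ (Subtype.ext e),
      Finset.sum_const, nsmul_eq_mul, ← sum_indicator_mul (t : G), hψconj, Finset.sum_mul]
    exact Finset.sum_congr rfl fun χ _ => by ring
  -- the elements outside the inertia group contribute nothing
  obtain ⟨d, ρ, hρirr, hρ⟩ := id hψ
  have hzero : ∀ g : G, g ∉ I → (hg2 : g * g ∈ I) →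
      ∑ n : N, ψ (Subgroup.inclusion hNI n * Subgroup.inclusion hNI (MulAut.conjNormal g n) *
        ⟨g * g, hg2⟩) = 0 := by
    intro g hgI hg2
    set A : N →* Matrix (Fin d) (Fin d) ℂ := (repMat ρ).comp (Subgroup.inclusion hNI) with hA
    set B : N →* Matrix (Fin d) (Fin d) ℂ :=
      A.comp (MulAut.conjNormal g : MulAut N).toMonoidHom with hB
    have hAtr : ∀ n : N, (repMat ρ (Subgroup.inclusion hNI n)).trace = (φ : N → ℂ) n := fun n => by
      rw [repMat_trace, hρ]; exact hext n
    have horth : ∑ n : N, (A n).trace * (B n).trace = 0 := by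
      have h1 := irrC_orth (irrComp (MulAut.conjNormal g) φ) φ
      rw [if_neg (fun h => hgI ((hI g).mpr h)), classInner, mul_eq_zero] at h1
      have h2 := h1.resolve_left (inv_ne_zero (Nat.cast_ne_zero.mpr Nat.card_pos.ne'))
      rw [← h2]
      refine Finset.sum_congr rfl fun n _ => ?_
      rw [hB, hA, MonoidHom.comp_apply, MonoidHom.comp_apply, MonoidHom.comp_apply, hAtr, hAtr,
        irrComp_apply, mul_comm,
        show conj ((φ : N → ℂ) n) = (φ : N → ℂ) n by rw [← hext, hψconj]]
      rfl
    rw [← sum_trace_mul_eq_zero A B horth (repMat ρ ⟨g * g, hg2⟩)]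
    refine Finset.sum_congr rfl fun n _ => ?_
    rw [hB, MonoidHom.comp_apply, hA, MonoidHom.comp_apply, MonoidHom.comp_apply]
    simp only [← map_mul]
    rw [repMat_trace, hρ, map_mul, map_mul]
    rfl
  set f : G → ℂ := fun g => if h : g * g ∈ I then ψ ⟨g * g, h⟩ else 0 with hf
  have hout : ∑ g ∈ Finset.univ.filter (· ∉ I), f g = 0 := by
    have hN0 : (Nat.card N : ℂ) ≠ 0 := Nat.cast_ne_zero.mpr Nat.card_pos.ne'
    refine (mul_eq_zero.mp ?_).resolve_left hN0
    have hshift : ∀ n : N, ∑ g ∈ Finset.univ.filter (· ∉ I), f g =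
        ∑ g ∈ Finset.univ.filter (· ∉ I), f ((n : G) * g) := fun n => by
      refine (Finset.sum_equiv (Equiv.mulLeft (n : G)) (fun g => ?_) fun g _ => rfl).symm
      simp only [Finset.mem_filter, Finset.mem_univ, true_and, Equiv.coe_mulLeft,
        Subgroup.mul_mem_cancel_left I (hNI n.2)]
    rw [Nat.card_eq_fintype_card, ← nsmul_eq_mul, ← Finset.card_univ, ← Finset.sum_const,
      Finset.sum_congr rfl fun n _ => hshift n, Finset.sum_comm]
    refine Finset.sum_eq_zero fun g hg => ?_
    have hgI := (Finset.mem_filter.mp hg).2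
    have e : ∀ n : N, (n : G) * g * ((n : G) * g) =
        (n : G) * ((MulAut.conjNormal g n : N) : G) * (g * g) := fun n => by
      rw [MulAut.conjNormal_apply]; group
    by_cases hg2 : g * g ∈ I
    · rw [← hzero g hgI hg2]
      refine Finset.sum_congr rfl fun n _ => ?_
      have hm : (n : G) * g * ((n : G) * g) ∈ I := by
        rw [e]; exact mul_mem (mul_mem (hNI n.2) (hNI (MulAut.conjNormal g n).2)) hg2
      simp only [hf]
      rw [dif_pos hm]
      exact congrArg ψ (Subtype.ext (e n))
    · refine Finset.sum_eq_zero fun n _ => ?_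
      simp only [hf]
      rw [dif_neg]
      rw [e, Subgroup.mul_mem_cancel_left I (mul_mem (hNI n.2) (hNI (MulAut.conjNormal g n).2))]
      exact hg2
  rw [← hsum, hsplit, ← Finset.sum_filter_add_sum_filter_not Finset.univ (· ∈ I), hout, add_zero,
    Finset.sum_subtype (p := (· ∈ I)) _ (fun g => by simp), ← hone]
  refine congrArg ((Nat.card I : ℂ)⁻¹ * ·) (Finset.sum_congr rfl fun t _ => ?_)
  show (if h : (t : G) * t ∈ I then ψ ⟨(t : G) * t, h⟩ else 0) = _
  rw [dif_pos (mul_mem t.2 t.2)]
  rfl

end Cfsg.Agent.Char
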