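import Cfsg.Agent.Lib.Char.IndValue
import Cfsg.Agent.Lib.Char.Inflate
import Cfsg.Agent.Lib.Char.IndSpan
import Cfsg.Agent.Lib.Char.Contrib
import Cfsg.Agent.S0870

/-!
# Solomon and Brauer induction at one prime
-/

set_option autoImplicit false
set_option linter.unusedSectionVars false
set_option linter.style.haveILetI false

namespace Cfsg.Agent.Char

open Cfsg
open scoped ComplexConjugate

universe u

variable {G : Type u} [Group G] [Fintype G]

/-- Quasi-elementary subgroups at a prime. -/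
def IsPQuasi (p : ℕ) (H : Subgroup G) : Prop :=
  ∃ C : Subgroup G, C ≤ H ∧ H ≤ Subgroup.normalizer (C : Set G) ∧ IsCyclic C ∧
    Nat.Coprime (Nat.card C) p ∧ ∃ k : ℕ, C.relIndex H = p ^ k

theorem IsPQuasi.of_le {p : ℕ} (hp : p.Prime) {H U : Subgroup G} (h : IsPQuasi p H) (hU : U ≤ H) :
    IsPQuasi p U := by
  obtain ⟨C, hCH, hHN, hcyc, hcop, k, hk⟩ := h
  refine ⟨C ⊓ U, inf_le_right, fun u hu => ?_, ?_, hcop.coprime_dvd_left
    (Subgroup.card_dvd_of_le inf_le_left), ?_⟩
  · rw [Subgroup.mem_normalizer_iff]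
    intro c
    simp only [Subgroup.mem_inf]
    exact and_congr (Subgroup.mem_normalizer_iff.mp (hHN (hU hu)) c)
      ⟨fun h => U.mul_mem (U.mul_mem hu h) (U.inv_mem hu), fun h => by
        have := U.mul_mem (U.mul_mem (U.inv_mem hu) h) hu
        simpa [mul_assoc] using this⟩
  · haveI := hcyc
    exact isCyclic_of_injective (f := Subgroup.inclusion (inf_le_left : C ⊓ U ≤ C))
      (Subgroup.inclusion_injective _)
  · haveI : (C.subgroupOf H).Normal := Subgroup.normal_subgroupOf_of_le_normalizer hHN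
    have hd : (C.subgroupOf H).relIndex (U.subgroupOf H) ∣ (C.subgroupOf H).index :=
      Subgroup.relIndex_dvd_index_of_normal _ _
    rw [Subgroup.relIndex_subgroupOf hU, show (C.subgroupOf H).index = p ^ k from hk] at hd
    obtain ⟨j, -, hj⟩ := (Nat.dvd_prime_pow hp).mp hd
    exact ⟨j, by rw [Subgroup.inf_relIndex_right, hj]⟩

/-- A quasi-elementary subgroup whose permutation character is prime to `p` at a given element. -/
theorem exists_pquasi_unit (x : G) {p : ℕ} (hp : p.Prime) :
    ∃ H : Subgroup G, IsPQuasi p H ∧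
      ∃ n : ℕ, indFun H (fun _ => 1) x = (n : ℂ) ∧ ¬ p ∣ n := by
  classical
  haveI := Fact.mk hp
  obtain ⟨⟨y, hxy, hcy, ⟨a, ha⟩, hy⟩, hreg, hcomm⟩ := preg_spec hp x
  set s := preg p x with hs
  set C := Subgroup.zpowers s with hC
  set N := Subgroup.normalizer (C : Set G) with hN
  have hxN : x ∈ N := by
    rw [hN, Subgroup.mem_normalizer_iff]
    intro c
    have hxc : ∀ c ∈ C, x * c * x⁻¹ = c := fun c hc => by
      obtain ⟨i, rfl⟩ := Subgroup.mem_zpowers_iff.mp hc
      rw [(hcomm.symm.zpow_right i).eq, mul_inv_cancel_right]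
    refine ⟨fun hc => (hxc c hc).symm ▸ hc, fun hc => ?_⟩
    have h1 := hxc _ hc
    have h2 : x * c * x⁻¹ = c := (MulAut.conj x).injective h1
    exact h2 ▸ hc
  haveI : (C.subgroupOf N).Normal := Subgroup.normal_in_normalizer
  set C' := C.subgroupOf N with hC'
  haveI : Fintype (N ⧸ C') := Fintype.ofFinite _
  have hxq : ∃ j : ℕ, orderOf (QuotientGroup.mk ⟨x, hxN⟩ : N ⧸ C') = p ^ j := by
    have hd : orderOf (QuotientGroup.mk ⟨x, hxN⟩ : N ⧸ C') ∣ p ^ a := by
      rw [orderOf_dvd_iff_pow_eq_one, ← QuotientGroup.mk_pow, QuotientGroup.eq_one_iff,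
        Subgroup.mem_subgroupOf, Subgroup.coe_pow]
      have h1 : (x * s⁻¹) ^ p ^ a = 1 := ha ▸ pow_orderOf_eq_one _
      have h2 : Commute (x * s⁻¹) s := hcomm.symm.mul_left (Commute.refl s).inv_left
      show x ^ p ^ a ∈ C
      rw [show x = x * s⁻¹ * s by rw [inv_mul_cancel_right], h2.mul_pow, h1, one_mul]
      exact Subgroup.pow_mem _ (Subgroup.mem_zpowers s) _
    obtain ⟨j, -, hj⟩ := (Nat.dvd_prime_pow hp).mp hd
    exact ⟨j, hj⟩
  set xq : N ⧸ C' := QuotientGroup.mk ⟨x, hxN⟩ with hxq'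
  have hZ : IsPGroup p (Subgroup.zpowers xq) := by
    obtain ⟨j, hj⟩ := hxq
    exact IsPGroup.of_card (n := j) (by rw [Nat.card_zpowers, hj])
  obtain ⟨S, hS⟩ := hZ.exists_le_sylow
  set H' := (S : Subgroup (N ⧸ C')).comap (QuotientGroup.mk' C') with hH'
  set H := H'.map N.subtype with hH
  have hCH : C ≤ H := fun c hc => ⟨⟨c, Subgroup.le_normalizer hc⟩, by
    show QuotientGroup.mk' C' _ ∈ (S : Subgroup (N ⧸ C'))
    rw [QuotientGroup.mk'_apply,
      (QuotientGroup.eq_one_iff _).mpr (Subgroup.mem_subgroupOf.mpr hc)]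
    exact one_mem _, rfl⟩
  have hrel : C.relIndex H = Nat.card (S : Subgroup (N ⧸ C')) := by
    rw [show C = C'.map N.subtype from
      (Subgroup.map_subgroupOf_eq_of_le Subgroup.le_normalizer).symm, hH,
      Subgroup.relIndex_map_map_of_injective _ _ N.subtype_injective]
    have h := Subgroup.relIndex_ker (f := QuotientGroup.mk' C') (K := H')
    rw [QuotientGroup.ker_mk', hH',
      Subgroup.map_comap_eq_self_of_surjective (QuotientGroup.mk'_surjective _)] at h
    exact h
  have hcardC : Nat.card C = orderOf s := Nat.card_zpowers s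
  obtain ⟨k, hk⟩ := IsPGroup.iff_card.mp S.isPGroup'
  have hcopC : (Nat.card C).Coprime p := by
    rw [hcardC]; exact (hp.coprime_iff_not_dvd.mpr hreg).symm
  refine ⟨H, ⟨C, hCH, Subgroup.map_subtype_le _, Subgroup.isCyclic_zpowers s, hcopC, k,
    hrel.trans hk⟩, ?_⟩
  -- elements conjugating `x` into `H` normalize `C`
  have hnorm : ∀ g : G, g⁻¹ * x * g ∈ H → g ∈ N := by
    intro g hg
    have hsH : g⁻¹ * s * g ∈ H := by
      have := preg_mem_zpowers hp x (K := H.comap (MulAut.conj g⁻¹).toMonoidHom)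
        (by simpa using hg)
      simpa [hs] using this
    have hsC : g⁻¹ * s * g ∈ C := by
      obtain ⟨h, hh, hhe⟩ := hsH
      have ho : orderOf h = orderOf s := by
        rw [← Subgroup.orderOf_coe, show (h : G) = _ from hhe,
          show g⁻¹ * s * g = MulAut.conj g⁻¹ s by simp, MulEquiv.orderOf_eq]
      obtain ⟨j, hj⟩ := (IsPGroup.iff_orderOf.mp S.isPGroup')
        ⟨QuotientGroup.mk' C' h, hh⟩
      replace hj : orderOf (QuotientGroup.mk' C' h) = p ^ j := (Subgroup.orderOf_coe _).trans hj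
      have h1 : QuotientGroup.mk' C' h = 1 := by
        rw [← orderOf_eq_one_iff]
        refine Nat.eq_one_of_dvd_coprimes (Nat.Coprime.pow_left j (hp.coprime_iff_not_dvd.mpr hreg))
          (dvd_of_eq hj) ?_
        rw [← ho]
        exact orderOf_map_dvd _ h
      rw [QuotientGroup.mk'_apply, QuotientGroup.eq_one_iff, Subgroup.mem_subgroupOf] at h1
      rw [← hhe]; exact h1
    have hmap : C.map (MulAut.conj g⁻¹).toMonoidHom = C := by
      refine Subgroup.eq_of_le_of_card_ge ?_ ?_
      · rw [hC, MonoidHom.map_zpowers, Subgroup.zpowers_le]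
        simpa using hsC
      · rw [Subgroup.card_map_of_injective (MulEquiv.injective _)]
    rw [hN, ← inv_mem_iff, Subgroup.mem_normalizer_iff]
    intro c
    conv_rhs => rw [← hmap]
    constructor
    · intro hc
      exact ⟨c, hc, rfl⟩
    · rintro ⟨c', hc', he⟩
      simp only [MulEquiv.coe_toMonoidHom, MulAut.conj_apply] at he
      obtain rfl : c' = c := by
        have := mul_left_cancel (mul_right_cancel he)
        exact this
      exact hc'
  haveI : Fintype N := Fintype.ofFinite _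
  have hmemH : ∀ (g : G), g⁻¹ * x * g ∈ H ↔
      ∃ hg : g ∈ N, (QuotientGroup.mk ⟨g, hg⟩ : N ⧸ C')⁻¹ * xq * QuotientGroup.mk ⟨g, hg⟩ ∈
        (S : Subgroup (N ⧸ C')) := by
    intro g
    constructor
    · intro h
      refine ⟨hnorm g h, ?_⟩
      obtain ⟨h', hh', hhe⟩ := h
      have e : (⟨g, hnorm g ⟨h', hh', hhe⟩⟩ : N)⁻¹ * ⟨x, hxN⟩ * ⟨g, hnorm g ⟨h', hh', hhe⟩⟩ = h' :=
        Subtype.ext hhe.symm
      rw [hxq', ← QuotientGroup.mk_inv, ← QuotientGroup.mk_mul, ← QuotientGroup.mk_mul, e]
      exact hh'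
    · rintro ⟨hg, h⟩
      rw [hxq', ← QuotientGroup.mk_inv, ← QuotientGroup.mk_mul, ← QuotientGroup.mk_mul] at h
      exact ⟨_, h, rfl⟩
  have hcardH : Nat.card H = Nat.card C * Nat.card (S : Subgroup (N ⧸ C')) := by
    rw [← hrel, ← Subgroup.relIndex_bot_left C, Subgroup.relIndex_mul_relIndex _ _ _ bot_le hCH,
      Subgroup.relIndex_bot_left]
  have hval : indFun H (fun _ => (1 : ℂ)) x =
      indFun (S : Subgroup (N ⧸ C')) (fun _ => (1 : ℂ)) xq := by
    simp only [indFun]
    have e1 : ∀ (g : G) (hg : g ∈ N), extendByZero H (fun _ => (1 : ℂ)) (g⁻¹ * x * g) =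
        extendByZero (S : Subgroup (N ⧸ C')) (fun _ => (1 : ℂ))
          ((QuotientGroup.mk ⟨g, hg⟩ : N ⧸ C')⁻¹ * xq * QuotientGroup.mk ⟨g, hg⟩) := by
      intro g hg
      by_cases h : g⁻¹ * x * g ∈ H
      · rw [extendByZero_mem H _ h, extendByZero_mem _ _ ((hmemH g).mp h).2]
      · rw [extendByZero_not_mem H _ h, extendByZero_not_mem _ _ fun h' => h ((hmemH g).mpr ⟨hg, h'⟩)]
    rw [← Finset.sum_subset (Finset.subset_univ (Finset.univ.filter fun g : G => g ∈ N))
      fun g _ hg => extendByZero_not_mem H _ fun h => hg (by simpa using hnorm g h),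
      Finset.sum_subtype (p := (· ∈ N)) _ (fun g => by simp),
      Finset.sum_congr rfl (fun g _ => e1 g.1 g.2),
      sum_comp_mk C' fun q => extendByZero (S : Subgroup (N ⧸ C')) (fun _ => (1 : ℂ)) (q⁻¹ * xq * q),
      hcardH, Nat.card_congr (Subgroup.subgroupOfEquivOfLe (Subgroup.le_normalizer : C ≤ N)).toEquiv]
    have h0 : (Nat.card C : ℂ) ≠ 0 := Nat.cast_ne_zero.mpr Nat.card_pos.ne'
    push_cast
    field_simp
  refine ⟨Nat.card (MulAction.fixedBy ((N ⧸ C') ⧸ (S : Subgroup (N ⧸ C'))) xq), ?_, ?_⟩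
  · rw [hval, card_fixedBy_eq_indFun (QuotientGroup.mk (1 : N ⧸ C')) xq,
      MulAction.stabilizer_quotient]
  · intro hd
    have h1 := hZ.card_modEq_card_fixedPoints ((N ⧸ C') ⧸ (S : Subgroup (N ⧸ C')))
    have h2 : MulAction.fixedPoints (Subgroup.zpowers xq) ((N ⧸ C') ⧸ (S : Subgroup (N ⧸ C'))) =
        MulAction.fixedBy ((N ⧸ C') ⧸ (S : Subgroup (N ⧸ C'))) xq := by
      ext q
      refine ⟨fun h => h ⟨xq, Subgroup.mem_zpowers xq⟩, fun h g => ?_⟩
      obtain ⟨i, hi⟩ := Subgroup.mem_zpowers_iff.mp g.2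
      show (g : N ⧸ C') • q = q
      rw [← hi]
      exact MulAction.mem_fixedBy.mp (MulAction.fixedBy_subset_fixedBy_zpow _ xq i h)
    rw [h2] at h1
    refine S.not_dvd_index ?_
    rw [Subgroup.index_eq_card]
    exact (Nat.ModEq.dvd_iff h1 (dvd_refl p)).mpr hd

open scoped Classical in
/-- Solomon's induction theorem at one prime. -/
theorem solomon_local {p : ℕ} (hp : p.Prime) :
    ∃ (m : ℤ) (a : Subgroup G → ℤ), ¬ (p : ℤ) ∣ m ∧ (∀ H, a H ≠ 0 → IsPQuasi p H) ∧
      (fun _ : G => (m : ℂ)) = ∑ H : Subgroup G, (a H : ℂ) • indFun H (fun _ => 1) := by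
  let I : AddSubgroup (G → ℂ) := AddSubgroup.closure
    {f | ∃ H : Subgroup G, IsPQuasi p H ∧ f = indFun H (fun _ => 1)}
  have hmul : ∀ f ∈ I, ∀ g ∈ I, f * g ∈ I := by
    intro f hf g hg
    induction hf using AddSubgroup.closure_induction with
    | mem f hf =>
      obtain ⟨H, hH, rfl⟩ := hf
      induction hg using AddSubgroup.closure_induction with
      | mem g hg =>
        obtain ⟨K, hK, rfl⟩ := hg
        obtain ⟨a, haU, ha⟩ := Cfsg.Agent.S0870.result H K
        rw [ha]
        refine AddSubgroup.sum_mem _ fun U _ => ?_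
        by_cases hU : a U = 0
        · simp [hU]
        · rw [Nat.cast_smul_eq_nsmul]
          refine AddSubgroup.nsmul_mem _ (AddSubgroup.subset_closure ?_) _
          exact ⟨U, hH.of_le hp (haU U hU), rfl⟩
      | zero => simp
      | add a b _ _ iha ihb => rw [mul_add]; exact I.add_mem iha ihb
      | neg a _ iha => rw [mul_neg]; exact I.neg_mem iha
    | zero => simp
    | add a b _ _ iha ihb => rw [add_mul]; exact I.add_mem iha ihb
    | neg a _ iha => rw [neg_mul]; exact I.neg_mem iha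
  choose K hK n hn hnp using fun x : G => exists_pquasi_unit x hp
  have key : ∀ s : Finset G, ∃ i ∈ I, ∏ x ∈ s, (indFun (K x) (fun _ => (1 : ℂ)) - fun _ : G => (n x : ℂ)) =
      i + fun _ : G => (((∏ x ∈ s, -(n x : ℤ)) : ℤ) : ℂ) := by
    intro s
    induction s using Finset.induction_on with
    | empty => exact ⟨0, I.zero_mem, by ext; simp⟩
    | @insert x s hx ih =>
      obtain ⟨i, hi, he⟩ := ih
      refine ⟨indFun (K x) (fun _ => (1 : ℂ)) * i +
        (∏ x ∈ s, -(n x : ℤ)) • indFun (K x) (fun _ => (1 : ℂ)) - n x • i, ?_, ?_⟩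
      · exact I.sub_mem (I.add_mem (hmul _ (AddSubgroup.subset_closure ⟨_, hK x, rfl⟩) _ hi)
          (I.zsmul_mem (AddSubgroup.subset_closure ⟨_, hK x, rfl⟩) _)) (I.nsmul_mem hi _)
      · rw [Finset.prod_insert hx, Finset.prod_insert hx, he]
        funext g
        simp only [Pi.mul_apply, Pi.sub_apply, Pi.add_apply, Pi.smul_apply, zsmul_eq_mul,
          nsmul_eq_mul, Pi.intCast_apply, Pi.natCast_apply]
        push_cast
        ring
  obtain ⟨i, hi, he⟩ := key Finset.univ
  have hzero : ∏ x : G, (indFun (K x) (fun _ => (1 : ℂ)) - fun _ : G => (n x : ℂ)) = 0 := by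
    funext g
    rw [Finset.prod_apply]
    exact Finset.prod_eq_zero (Finset.mem_univ g) (by simp [hn g])
  rw [hzero] at he
  have hrep : ∀ f ∈ I, ∃ a : Subgroup G → ℤ, (∀ H, a H ≠ 0 → IsPQuasi p H) ∧
      f = ∑ H : Subgroup G, (a H : ℂ) • indFun H (fun _ => 1) := by
    intro f hf
    induction hf using AddSubgroup.closure_induction with
    | mem f hf =>
      obtain ⟨H, hH, rfl⟩ := hf
      refine ⟨fun U => if U = H then 1 else 0, fun U hU => ?_, ?_⟩
      · by_cases h : U = H
        · rw [h]; exact hH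
        · exact absurd (if_neg h) hU
      · simp
    | zero => exact ⟨0, fun H h => absurd rfl h, by simp⟩
    | add a b _ _ iha ihb =>
      obtain ⟨a', ha', rfl⟩ := iha
      obtain ⟨b', hb', rfl⟩ := ihb
      refine ⟨a' + b', fun H h => ?_, ?_⟩
      · by_cases h0 : a' H = 0
        · exact hb' H (fun h1 => h (by simp [h0, h1]))
        · exact ha' H h0
      · simp [add_smul, Finset.sum_add_distrib]
    | neg a _ iha =>
      obtain ⟨a', ha', rfl⟩ := iha
      exact ⟨-a', fun H h => ha' H (by simpa using h), by simp⟩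
  obtain ⟨a, ha, hrep'⟩ := hrep i hi
  refine ⟨∏ x : G, -(n x : ℤ), fun H => -a H, ?_, fun H h => ha H (by simpa using h), ?_⟩
  · intro h
    obtain ⟨x, -, hx⟩ := (Nat.prime_iff_prime_int.mp hp).exists_mem_finset_dvd h
    rw [dvd_neg] at hx
    exact hnp x (Int.natCast_dvd_natCast.mp hx)
  · simp only [Int.cast_neg, neg_smul, Finset.sum_neg_distrib]
    rw [← hrep']
    exact eq_neg_of_add_eq_zero_right he.symm

/-- Restrictions to `p`-elementary subgroups decide local integrality at `p`. -/
theorem intComb_of_pElementary {p : ℕ} {M : Ideal AlgInt} (hM : IsPModular p M) {θ : G → ℂ}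
    (hθ : IsClassFunction G θ)
    (hE : ∀ E : Subgroup G, IsElementary p E → IsGeneralizedCharacter E (fun e : E => θ e)) :
    IntComb M θ := by
  classical
  have hP := pmod_prime hM
  have hint : ∀ x : G, IsIntegral ℤ (θ x) := fun x => by
    obtain ⟨a, b, ha, hb, he⟩ := hE (Subgroup.zpowers x) (isElementary_zpowers hM.1 x)
    have h := congrFun he (⟨x, Subgroup.mem_zpowers x⟩ : Subgroup.zpowers x)
    simp only [Pi.sub_apply] at h
    rw [h]
    exact (char_isIntegral ha _).sub (char_isIntegral hb _)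
  have hval : ∀ x, MemLocalRing M (θ x) := fun x =>
    memLocalRing_of_isIntegral hP.ne_top (hint x)
  have hsec : ∀ s : G, ¬ p ∣ orderOf s → IntComb M (θ * secInd p s) := by
    intro s hs
    obtain ⟨P, N, hPC, hPl, happ⟩ := secInd_approx hM hs
    have := Fintype.ofFinite (elemSub s P)
    set φ := cosetFun s P (elemSub s P)
    have hφ : IntComb M φ := intComb_cosetFun hM hs hPC hPl
    set f := indFun (elemSub s P) φ with hf
    have hθf : IntComb M (θ * f) := by
      rw [hf, indFun_mul_restrict _ _ hθ]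
      exact intComb_ind hP _ (intComb_mul hP
        (intComb_gen hP (hE _ (isElementary_elemSub hM.1 hs hPC hPl))) hφ)
    have hpow : IntComb M (θ * f ^ (N + 1)) := by
      rw [pow_succ', ← mul_assoc]
      exact intComb_mul hP hθf (intComb_pow hP (intComb_ind hP _ hφ) N)
    have herr : IntComb M (θ * f ^ (N + 1) - θ * secInd p s) := by
      refine intComb_of_dvd hM (fun a k => ?_) fun x => ?_
      · simp only [Pi.sub_apply, Pi.mul_apply, hθ a k, isClassFunction_secInd hM.1 s a k]
        have := hpow.1 a k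
        simp only [Pi.mul_apply, hθ a k] at this
        rw [this]
      · obtain ⟨y, hy, e⟩ := happ x
        refine ⟨θ x * y, memLR_mul hP (hval x) hy, ?_⟩
        simp only [Pi.sub_apply, Pi.mul_apply, Pi.pow_apply]
        rw [← mul_sub, e]; ring
    have := intComb_sub hP hpow herr
    rwa [sub_sub_cancel] at this
  have := Fintype.ofFinite (ConjClasses G)
  obtain ⟨rep, hrep⟩ := exists_preg_expansion (G := G) hM.1
  have h1 := hrep (fun _ => 1) (fun _ _ => rfl)
  have e : θ = ∑ c : ConjClasses G,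
      if ¬ p ∣ orderOf (rep c) then θ * secInd p (rep c) else 0 := by
    funext x
    have := congrFun h1 x
    rw [Finset.sum_apply] at this ⊢
    calc θ x = θ x * 1 := (mul_one _).symm
      _ = _ := by
        rw [this, Finset.mul_sum]
        refine Finset.sum_congr rfl fun c _ => ?_
        split_ifs <;> simp
  rw [e]
  refine intComb_sum hP _ _ fun c _ => ?_
  split_ifs with h
  · exact intComb_zero hP
  · exact hsec _ h

/-- Brauer's induction theorem at one prime. -/
theorem brauer_local {p : ℕ} (hp : p.Prime) :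
    ∃ (m : ℤ) (l : List ((E : Subgroup G) × ((E → ℂ) × ℤ))), ¬ (p : ℤ) ∣ m ∧
      (∀ t ∈ l, IsElementary p t.1 ∧ IsCharacter t.1 t.2.1) ∧
      (fun _ : G => (m : ℂ)) = (l.map fun t => (t.2.2 : ℂ) • indFun t.1 t.2.1).sum := by
  classical
  set a := (Nat.card G).factorization p with ha
  set m := Nat.card G / p ^ a with hm
  have hmp : ¬ p ∣ m := Nat.not_dvd_ordCompl hp Nat.card_pos.ne'
  have hcard : Nat.card G = p ^ a * m := (Nat.ordProj_mul_ordCompl_eq_self _ p).symm
  set e1 : IrrCharacter G := ⟨fun _ => 1, isIrrCharacter_one⟩ with he1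
  have hmem : (m : ℂ) • (e1 : G → ℂ) ∈
      AddSubgroup.closure (indLinSet fun E : Subgroup G => IsElementary p E) := by
    refine smul_mem_of_dual _ e1 m fun θ hθ hV hQ => ?_
    have hE : ∀ E : Subgroup G, IsElementary p E → IsGeneralizedCharacter E (fun e : E => θ e) := by
      intro E hE
      haveI := Fintype.ofFinite E
      haveI := isNilpotent_of_isElementary hp hE
      have hz : ∀ μ : IrrCharacter E, ∃ z : ℤ, classInner (fun e : E => θ e) (μ : E → ℂ) = z := by
        intro μ
        obtain ⟨H, lam, hl⟩ := monomial_of_nilpotent (Nat.card E) E rfl (μ : E → ℂ) μ.2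
        have hmem : indFun E (μ : E → ℂ) ∈
            AddSubgroup.closure (indLinSet fun E : Subgroup G => IsElementary p E) := by
          apply AddSubgroup.subset_closure
          refine ⟨H.map E.subtype,
            lam.comp (Subgroup.equivMapOfInjective H E.subtype E.subtype_injective).symm.toMonoidHom,
            isElementary_of_equiv (Subgroup.equivMapOfInjective H E.subtype E.subtype_injective)
              (isElementary_subgroup hp hE H), ?_⟩
          rw [hl]
          exact indFun_map_subtype H lam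
        obtain ⟨z, hz⟩ := hV (indFun E (μ : E → ℂ)) hmem (isCharacter_indFun E (irr_isCharacter μ.2))
        exact ⟨z, by rw [← frobenius_right E _ hθ]; exact hz⟩
      choose z hz using hz
      have e : (fun e : E => θ e) = ∑ μ : IrrCharacter E, (z μ : ℂ) • (μ : E → ℂ) := by
        refine (classFun_expansion (f := fun e : E => θ e) fun a k => hθ a k).trans
          (Finset.sum_congr rfl fun μ _ => by rw [hz])
      rw [e]
      exact isGeneralizedCharacter_of_int z
    obtain ⟨M, hM⟩ := exists_pModular hp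
    have hP := pmod_prime hM
    have hq := (intComb_of_pElementary hM hθ hE).2 e1
    obtain ⟨q, hq'⟩ := hQ e1
    have hint : ∀ x : G, IsIntegral ℤ (θ x) := fun x => by
      obtain ⟨a, b, ha, hb, he⟩ := hE (Subgroup.zpowers x) (isElementary_zpowers hp x)
      have h := congrFun he (⟨x, Subgroup.mem_zpowers x⟩ : Subgroup.zpowers x)
      simp only [Pi.sub_apply] at h
      rw [h]
      exact (char_isIntegral ha _).sub (char_isIntegral hb _)
    have hI : IsIntegral ℤ (((Nat.card G * q : ℚ)) : ℂ) := by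
      push_cast
      rw [← hq', classInner, ← mul_assoc, mul_inv_cancel₀ (Nat.cast_ne_zero.2 Nat.card_pos.ne'),
        one_mul]
      exact IsIntegral.sum _ fun x _ => (hint x).mul
        ((char_isIntegral (irr_isCharacter e1.2) x).map (starRingEnd ℂ).toIntAlgHom)
    obtain ⟨z, hz⟩ := isIntegral_rat_cast_imp hI
    have heq : ((m : ℂ) * classInner θ (e1 : G → ℂ)) * (p : ℂ) ^ a = (z : ℂ) := by
      have hz' : ((Nat.card G : ℂ)) * (q : ℂ) = (z : ℂ) := by
        rw [← Complex.ofReal_natCast]; exact_mod_cast hz.symm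
      rw [← hz', hq', hcard]
      push_cast
      ring
    obtain ⟨w, rfl⟩ := int_dvd_of_local hM (memLR_mul hP (memLR_natCast hP m) hq) heq
    refine ⟨w, ?_⟩
    have hp0 : (p : ℂ) ^ a ≠ 0 := pow_ne_zero _ (Nat.cast_ne_zero.mpr hp.ne_zero)
    refine mul_right_cancel₀ hp0 ?_
    rw [heq]
    push_cast
    ring
  obtain ⟨l, hl, he⟩ := exists_list_of_mem_closure hmem
  refine ⟨(m : ℤ), l.map fun t => ⟨t.1, (fun k => (t.2.1 k : ℂ)), t.2.2⟩,
    fun h => hmp (Int.natCast_dvd_natCast.mp h), ?_, ?_⟩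
  · intro t ht
    obtain ⟨t', ht', rfl⟩ := List.mem_map.mp ht
    exact ⟨hl t' ht', isCharacter_hom t'.1 t'.2.1⟩
  · rw [List.map_map, Int.cast_natCast]
    refine Eq.trans ?_ he
    funext g
    simp [e1]

end Cfsg.Agent.Char
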