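import Cfsg.Agent.Lib.Char.StarNilpotent
import Cfsg.Agent.Lib.Char.SectionPart
import Cfsg.Agent.Lib.Char.Induction
import Cfsg.Agent.Lib.Char.FongReynolds

/-!
# A nilpotent local block and induction from it

The class functions of an abstract copy `A` of the defect group are carried isometrically to the span of a nilpotent
block of a subgroup `H`. A predicate on the elements of prime power order which is fused only inside `H` makes
induction of the functions supported there an isometry into the induced block.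
-/

set_option autoImplicit false
set_option linter.unusedSectionVars false
set_option linter.style.haveILetI false

namespace Cfsg.Agent.Char

open Cfsg Relation
open scoped ComplexConjugate

universe u v

variable {G : Type u} [Group G] [Fintype G] {A : Type v} [Group A] [Fintype A]

/-- A nilpotent block of a subgroup inducing `B`, with a copy of its defect group. -/
structure LocalNil (p : ℕ) (M : Ideal AlgInt) (B : Set (IrrCharacter G)) (H : Subgroup G) [Fintype H]
    (A : Type v) [Group A] where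
  hM : IsPModular p M
  hB : IsPBlock M B
  f : Set (IrrCharacter H)
  hind : IsInducedBlock M H f B
  P : Subgroup H
  hP : IsDefectGroup p M f P
  e : Set (IrrCharacter (Subgroup.centralizer (P : Set H)))
  hmax : IsMaximalBrauerPair p M f P e
  hnil : IsNilpotentBlock p M f
  ψ : IrrCharacter H
  hψ : ψ ∈ f
  hψ0 : blockHeight p f (ψ : H → ℂ) = 0
  ι : A ≃* P

namespace LocalNil

variable {p : ℕ} {M : Ideal AlgInt} {B : Set (IrrCharacter G)} {H : Subgroup G} [Fintype H]
  (S : LocalNil p M B H A)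

theorem hf : IsPBlock M S.f := S.hind.1

/-- The defect group inside `H`. -/
def d (y : A) : H := ((S.ι y : S.P) : H)

theorem exists_d {w : H} (hw : w ∈ S.P) : ∃ y, S.d y = w := ⟨S.ι.symm ⟨w, hw⟩, by simp [d]⟩

theorem d_mem (y : A) : S.d y ∈ S.P := (S.ι y).2

theorem d_one : S.d 1 = 1 := by simp [d]

theorem d_mul (x y : A) : S.d (x * y) = S.d x * S.d y := by simp [d]

theorem d_injective : Function.Injective S.d := fun _ _ h => S.ι.injective (Subtype.ext h)

theorem d_ppower (y : A) : ∃ k : ℕ, orderOf (S.d y) = p ^ k := by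
  haveI := Fact.mk S.hM.1
  obtain ⟨k, hk⟩ := IsPGroup.iff_orderOf.mp S.hmax.1.1.1 (S.ι y)
  exact ⟨k, by rw [d, Subgroup.orderOf_coe, hk]⟩

theorem orderOf_d (y : A) : orderOf (S.d y) = orderOf y := by
  rw [d, Subgroup.orderOf_coe, MulEquiv.orderOf_eq]

theorem pow_defect : p ^ blockDefect p S.f = Nat.card A := by
  rw [← card_defectGroup S.hM S.hf S.hP, Nat.card_congr S.ι.toEquiv]

/-- A class function of `A` on the defect group. -/
def cls (μ : A → ℂ) : S.P → ℂ := fun x => μ (S.ι.symm x)

theorem cls_d (μ : A → ℂ) (y : A) : Star.clsFun (S.cls μ) (S.d y) = μ y := by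
  rw [d, Star.clsFun_mem, cls, MulEquiv.symm_apply_apply]

theorem cls_isClass {μ : A → ℂ} (hμ : IsClassFunction A μ) : IsClassFunction S.P (S.cls μ) :=
  fun x y => by simp only [cls, map_mul, map_inv]; exact hμ _ _

/-- The carried function. -/
noncomputable def th (μ : A → ℂ) : H → ℂ :=
  Star.theta p M S.f S.P S.e (Star.clsFun (S.cls μ)) (S.ψ : H → ℂ)

theorem th_add (μ ν : A → ℂ) : S.th (μ + ν) = S.th μ + S.th ν := by
  funext g
  simp only [th, Star.theta, Pi.add_apply, ← Finset.sum_add_distrib, ← add_mul]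
  refine Finset.sum_congr rfl fun a _ => ?_
  congr 1
  simp only [Star.wt, Star.clsFun, cls, Pi.add_apply]
  split_ifs <;> simp

theorem th_smul (c : ℂ) (μ : A → ℂ) : S.th (c • μ) = c • S.th μ := by
  funext g
  simp only [th, Star.theta, Pi.smul_apply, smul_eq_mul, Finset.mul_sum, ← mul_assoc]
  refine Finset.sum_congr rfl fun a _ => ?_
  congr 1
  simp only [Star.wt, Star.clsFun, cls, Pi.smul_apply, smul_eq_mul]
  split_ifs <;> simp

/-- The carrying as a linear map. -/
noncomputable def thL : (A → ℂ) →ₗ[ℂ] (H → ℂ) where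
  toFun := S.th
  map_add' := S.th_add
  map_smul' := S.th_smul

theorem thL_apply (μ : A → ℂ) : S.thL μ = S.th μ := rfl

theorem stable {μ : A → ℂ} (hμ : IsClassFunction A μ) : Star.Stable p M S.P S.e (Star.clsFun (S.cls μ)) :=
  Star.stable_clsFun S.hM S.hmax S.hnil (S.cls_isClass hμ)

theorem th_isClass {μ : A → ℂ} (hμ : IsClassFunction A μ) : IsClassFunction H (S.th μ) :=
  Star.isClassFunction_theta S.hM (S.stable hμ) (isClassFunction_character (irr_isCharacter S.ψ.2))

open scoped Classical in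
theorem th_inner {μ ν : A → ℂ} (hμ : IsClassFunction A μ) (hν : IsClassFunction A ν) :
    classInner (S.th μ) (S.th ν) = classInner μ ν := by
  haveI := Fintype.ofFinite S.P
  rw [th, th, Star.inner_cls S.hM S.hmax S.hnil S.hψ S.hψ0 (S.cls_isClass hμ) (S.cls_isClass hν),
    classInner, classInner, Nat.card_congr S.ι.toEquiv]
  congr 1
  exact (Fintype.sum_equiv S.ι.toEquiv _ _ fun y => by simp [cls]).symm

/-- The values where the weight is constant. -/
theorem th_const {μ : A → ℂ} (hμ : IsClassFunction A μ) {g : H} {c : ℂ}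
    (hc : ∀ w y, w * ppt p g * w⁻¹ = S.d y → μ y = c) : S.th μ g = c * (S.ψ : H → ℂ) g := by
  conv_rhs => rw [← Star.theta_one S.hM S.hmax S.hψ]
  rw [th, Star.theta, Star.theta, Finset.mul_sum]
  refine Finset.sum_congr rfl fun a ha => ?_
  obtain ⟨w, hw⟩ := pairs_conj_into_maximal S.hM S.hmax (Star.mem_prs.mp ha).2
  rw [Star.wt_eq S.hM (S.stable hμ) (Star.mem_prs.mp ha).1 (Star.mem_prs.mp ha).2.1.2 (g := w) hw,
    Star.wt_one S.hM S.hmax ha, one_mul]
  congr 1
  have hmem : w * ppt p g * w⁻¹ ∈ S.P := subpair_rel_le hw (by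
    show _ ∈ a.1.map _
    exact ⟨ppt p g, by rw [(Star.mem_prs.mp ha).1]; exact Subgroup.mem_zpowers _, rfl⟩)
  obtain ⟨y, hy⟩ := S.exists_d hmem
  rw [← hy, S.cls_d]
  exact hc w y hy.symm

theorem th_eq_zero {μ : A → ℂ} (hμ : IsClassFunction A μ) {g : H}
    (hc : ∀ w y, w * ppt p g * w⁻¹ = S.d y → μ y = 0) : S.th μ g = 0 := by
  rw [S.th_const hμ hc, zero_mul]

theorem th_regular {μ : A → ℂ} (hμ : IsClassFunction A μ) {g : H} (hg : ¬ p ∣ orderOf g) :
    S.th μ g = μ 1 * (S.ψ : H → ℂ) g := by
  rw [th, Star.theta_regular S.hM S.hmax (S.stable hμ) S.hψ hg, ← S.d_one, S.cls_d]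

theorem th_one {μ : A → ℂ} (hμ : IsClassFunction A μ) : S.th μ 1 = μ 1 * (S.ψ : H → ℂ) 1 :=
  S.th_regular hμ (by rw [orderOf_one]; exact S.hM.1.not_dvd_one)

/-- A function of the defect group on `A`. -/
def back (ν : S.P → ℂ) : A → ℂ := fun y => ν (S.ι y)

theorem cls_back (ν : S.P → ℂ) : S.cls (S.back ν) = ν := funext fun x => by simp [cls, back]

theorem back_cls (μ : A → ℂ) : S.back (S.cls μ) = μ := funext fun x => by simp [cls, back]

theorem back_isClass {ν : S.P → ℂ} (hν : IsClassFunction S.P ν) : IsClassFunction A (S.back ν) :=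
  fun x y => by simp only [back, map_mul, map_inv]; exact hν _ _

open scoped Classical in
/-- The irreducible characters of the defect group go to those of the block. -/
theorem th_image (χ : IrrCharacter S.P) :
    ∃ η : IrrCharacter H, η ∈ S.f ∧ S.th (S.back χ) = (η : H → ℂ) ∧
      (η : H → ℂ) 1 = (χ : S.P → ℂ) 1 * (S.ψ : H → ℂ) 1 := by
  haveI := Fintype.ofFinite S.P
  obtain ⟨η, hη, h1, -⟩ := Star.exists_image S.hM S.hmax S.hnil S.hψ S.hψ0 χ
  have h2 : S.th (S.back χ) = (η : H → ℂ) := by rw [← h1, th, S.cls_back]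
  refine ⟨η, hη, h2, ?_⟩
  rw [← h2, S.th_one (S.back_isClass (isClassFunction_character (irr_isCharacter χ.2))), back, map_one]

open scoped Classical in
theorem th_expand [Fintype S.P] {μ : A → ℂ} (hμ : IsClassFunction A μ) :
    S.th μ = ∑ χ : IrrCharacter S.P, classInner (S.cls μ) (χ : S.P → ℂ) • S.th (S.back χ) := by
  have h : μ = ∑ χ : IrrCharacter S.P, classInner (S.cls μ) (χ : S.P → ℂ) • S.back χ := by
    conv_lhs => rw [← S.back_cls μ, classFun_expansion (S.cls_isClass hμ)]
    funext y
    simp [back]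
  conv_lhs => rw [h, ← S.thL_apply, map_sum]
  simp only [map_smul, thL_apply]

/-- The carried functions see only the block. -/
theorem th_inner_other {μ : A → ℂ} (hμ : IsClassFunction A μ) {η : IrrCharacter H} (hη : η ∉ S.f) :
    classInner (S.th μ) (η : H → ℂ) = 0 := by
  classical
  haveI := Fintype.ofFinite S.P
  rw [S.th_expand hμ, classInner_sum_left]
  refine Finset.sum_eq_zero fun χ _ => ?_
  obtain ⟨η', hη', h, -⟩ := S.th_image χ
  rw [classInner_smul_left, h, irr_orth η'.2 η.2,
    if_neg fun (e : (η' : H → ℂ) = η) => hη (Subtype.ext e ▸ hη'), mul_zero]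

open scoped Classical in
theorem inner_blockPart {μ : A → ℂ} (hμ : IsClassFunction A μ) (F : H → ℂ) :
    classInner (blockPart S.f F) (S.th μ) = classInner F (S.th μ) := by
  rw [classFun_expansion (S.th_isClass hμ), classInner_sum_right, classInner_sum_right]
  refine Finset.sum_congr rfl fun η _ => ?_
  rw [classInner_smul_right, classInner_smul_right]
  by_cases hη : η ∈ S.f
  · congr 1
    rw [show blockPart S.f F = ∑ θ : IrrCharacter H with θ ∈ S.f, classInner F (θ : H → ℂ) • (θ : H → ℂ) from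
      funext fun g => by rw [blockPart_eq, Finset.sum_apply]; rfl]
    rw [classInner_sum_left, Finset.sum_eq_single η]
    · rw [classInner_smul_left, irr_orth η.2 η.2, if_pos rfl, mul_one]
    · intro θ _ hne
      rw [classInner_smul_left, irr_orth θ.2 η.2, if_neg fun e => hne (Subtype.ext e), mul_zero]
    · exact fun h => absurd (Finset.mem_filter.mpr ⟨Finset.mem_univ _, hη⟩) h
  · rw [S.th_inner_other hμ hη, map_zero, zero_mul, zero_mul]

/-- The carried characters are characters. -/
theorem th_character {μ : A → ℂ} (hμ : IsCharacter A μ) : IsCharacter H (S.th μ) := by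
  classical
  haveI := Fintype.ofFinite S.P
  obtain ⟨m, hm⟩ := exists_decomposition (isCharacter_comp S.ι.symm.toMonoidHom hμ)
  have h : μ = ∑ χ : IrrCharacter S.P, m χ • S.back χ := by
    conv_lhs => rw [← S.back_cls μ, show S.cls μ = μ ∘ S.ι.symm.toMonoidHom from rfl, hm]
    funext y
    simp [back]
  rw [h, ← S.thL_apply, map_sum]
  refine isCharacter_sum _ _ fun χ _ => ?_
  rw [map_nsmul, thL_apply]
  obtain ⟨η, -, h, -⟩ := S.th_image χ
  rw [h]
  exact isCharacter_nsmul (irr_isCharacter η.2) _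

open scoped Classical in
/-- The function `|A|` at the identity goes to the degree function of the block. -/
theorem th_delta [DecidableEq A] :
    S.th (fun y => if y = 1 then (Nat.card A : ℂ) else 0) =
      ((S.ψ : H → ℂ) 1)⁻¹ • ∑ η : IrrCharacter H with η ∈ S.f, (η : H → ℂ) 1 • (η : H → ℂ) := by
  haveI := Fintype.ofFinite S.P
  set δ : A → ℂ := fun y => if y = 1 then (Nat.card A : ℂ) else 0 with hδd
  have hδ : IsClassFunction A δ := fun g k => by simp only [hδd, conj_eq_one_iff]
  have hψ1 : (S.ψ : H → ℂ) 1 ≠ 0 := irr_one_ne_zero S.ψ.2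
  have hcoef : ∀ η : IrrCharacter H, classInner (S.th δ) (η : H → ℂ) =
      if η ∈ S.f then ((S.ψ : H → ℂ) 1)⁻¹ * (η : H → ℂ) 1 else 0 := by
    intro η
    split_ifs with hη
    · obtain ⟨lam, hlam⟩ := Star.exists_preimage S.hM S.hmax S.hnil S.hψ S.hψ0 hη
      have e : S.th (S.back lam) = (η : H → ℂ) := by rw [th, S.cls_back]; exact hlam
      have hl := S.back_isClass (isClassFunction_character (irr_isCharacter lam.2))
      rw [← e, S.th_inner hδ hl, S.th_one hl, classInner,
        Finset.sum_eq_single (1 : A) (fun y _ hy => by simp [hδd, hy]) (fun h => absurd (Finset.mem_univ _) h)]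
      simp only [hδd, if_true, back, map_one]
      rw [conj_char_one (irr_isCharacter lam.2), ← mul_assoc,
        inv_mul_cancel₀ (Nat.cast_ne_zero.mpr Nat.card_pos.ne'), one_mul, mul_comm ((lam : S.P → ℂ) 1),
        inv_mul_cancel_left₀ hψ1]
    · exact S.th_inner_other hδ hη
  rw [classFun_expansion (S.th_isClass hδ)]
  funext g
  simp only [Finset.sum_apply, Pi.smul_apply, smul_eq_mul, hcoef, ite_mul, zero_mul, Finset.mul_sum]
  rw [Finset.sum_filter]
  exact Finset.sum_congr rfl fun η _ => by split_ifs <;> ring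

/-- The coefficient at a character. -/
noncomputable def v (μ : A → ℂ) (χ : IrrCharacter G) : ℂ :=
  classInner (S.th μ) fun c => (χ : G → ℂ) (c : G)

theorem v_sum {ι : Type*} (s : Finset ι) (c : ι → ℂ) (μ : ι → A → ℂ) (χ : IrrCharacter G) :
    S.v (∑ i ∈ s, c i • μ i) χ = ∑ i ∈ s, c i * S.v (μ i) χ := by
  rw [v, ← S.thL_apply, map_sum, classInner_sum_left]
  simp only [map_smul, thL_apply, classInner_smul_left, v]

theorem v_sub (μ ν : A → ℂ) (χ : IrrCharacter G) : S.v (μ - ν) χ = S.v μ χ - S.v ν χ := by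
  rw [v, ← S.thL_apply, map_sub, classInner_sub_left, thL_apply, thL_apply, v, v]

theorem v_nat {μ : A → ℂ} (hμ : IsCharacter A μ) (χ : IrrCharacter G) : ∃ n : ℕ, S.v μ χ = n :=
  classInner_natCast (S.th_character hμ) (isCharacter_comp H.subtype (irr_isCharacter χ.2))

open scoped Classical in
/-- The degree of the local part, against the induced idempotent. -/
theorem v_delta [DecidableEq A] (χ : IrrCharacter G) :
    (S.ψ : H → ℂ) 1 * S.v (fun y => if y = 1 then (Nat.card A : ℂ) else 0) χ * (H.index : ℂ) =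
      lam (χ : G → ℂ) (indFun H (blockCoeff S.f)) * (χ : G → ℂ) 1 := by
  have hψ1 : (S.ψ : H → ℂ) 1 ≠ 0 := irr_one_ne_zero S.ψ.2
  rw [lam_indFun_blockCoeff, div_mul_cancel₀ _ (irr_one_ne_zero χ.2), mul_comm _ (H.index : ℂ)]
  congr 1
  rw [v, S.th_delta, classInner_smul_left, ← mul_assoc, mul_inv_cancel₀ hψ1, one_mul, classInner_sum_left,
    Finset.sum_filter]
  refine Finset.sum_congr rfl fun η _ => ?_
  split_ifs
  · rw [classInner_smul_left, mul_comm]
    congr 1
    obtain ⟨k, hk⟩ := classInner_natCast (irr_isCharacter η.2) (isCharacter_comp H.subtype (irr_isCharacter χ.2))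
    rw [show classInner (η : H → ℂ) (fun c : H => (χ : G → ℂ) (c : G)) = (k : ℂ) from hk, ← classInner_symm,
      show classInner (η : H → ℂ) (fun c : H => (χ : G → ℂ) (c : G)) = (k : ℂ) from hk, map_natCast]
  · rfl

/-! ### Induction -/

variable {Gd : G → Prop}

/-- Functions whose carried functions live on the sections of the elements in `Gd`. -/
def Supp (Gd : G → Prop) (μ : A → ℂ) : Prop :=
  ∀ (c w : H) (y : A), w * ppt p c * w⁻¹ = S.d y → μ y ≠ 0 → Gd (ppt p (c : G))

theorem good_of_ne {μ : A → ℂ} (hμ : IsClassFunction A μ) (ho : S.Supp Gd μ) {c : H} (hne : S.th μ c ≠ 0) :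
    Gd (ppt p (c : G)) := by
  by_contra hg
  exact hne (S.th_eq_zero hμ fun w y hy => by_contra fun hy0 => hg (ho c w y hy hy0))

/-- The induced function. -/
noncomputable def L (μ : A → ℂ) : G → ℂ := indFun H (S.th μ)

theorem v_eq (μ : A → ℂ) (χ : IrrCharacter G) : classInner (S.L μ) (χ : G → ℂ) = S.v μ χ :=
  frobenius _ _ (isClassFunction_character (irr_isCharacter χ.2))

theorem L_eq_zero {μ : A → ℂ} (hμ : IsClassFunction A μ) (ho : S.Supp Gd μ) {g : G}
    (hg : ∀ t : G, ¬ Gd (ppt p (t⁻¹ * g * t))) : S.L μ g = 0 := by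
  rw [L, indFun, Finset.sum_eq_zero fun x _ => ?_, mul_zero]
  by_contra hne
  have hm : x⁻¹ * g * x ∈ H := by
    by_contra h'
    exact hne (extendByZero_not_mem _ _ h')
  rw [extendByZero_mem _ _ hm] at hne
  exact hg x (S.good_of_ne hμ ho hne)

section Fused

variable (hG : ∀ x t : G, Gd x → Gd (t * x * t⁻¹) → t ∈ H)
include hG

theorem L_eq {μ : A → ℂ} (hμ : IsClassFunction A μ) (ho : S.Supp Gd μ) {c : H} (hc : Gd (ppt p (c : G))) :
    S.L μ (c : G) = S.th μ c := by
  classical
  have h : ∀ x : G, extendByZero H (S.th μ) (x⁻¹ * (c : G) * x) = if x ∈ H then S.th μ c else 0 := by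
    intro x
    split_ifs with hx
    · have hm : x⁻¹ * (c : G) * x ∈ H := mul_mem (mul_mem (inv_mem hx) c.2) hx
      rw [extendByZero_mem _ _ hm, ← S.th_isClass hμ c ⟨x⁻¹, inv_mem hx⟩]
      congr 1
      exact Subtype.ext (by simp)
    · by_contra hne
      have hm : x⁻¹ * (c : G) * x ∈ H := by
        by_contra h'
        exact hne (extendByZero_not_mem _ _ h')
      rw [extendByZero_mem _ _ hm] at hne
      have hg := S.good_of_ne hμ ho hne
      have e : ppt p (x⁻¹ * (c : G) * x) = x⁻¹ * ppt p (c : G) * x⁻¹⁻¹ := by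
        rw [← ppt_conj S.hM.1, inv_inv]
      exact hx (inv_mem_iff.mp (hG _ x⁻¹ hc (e ▸ hg)))
  rw [L, indFun]
  simp only [h]
  rw [← Finset.sum_filter, Finset.sum_const, nsmul_eq_mul, ← mul_assoc,
    show (Finset.univ.filter fun x : G => x ∈ H).card = Nat.card H by
      rw [Nat.card_eq_fintype_card, Fintype.card_subtype],
    inv_mul_cancel₀ (Nat.cast_ne_zero.mpr Nat.card_pos.ne'), one_mul]

theorem L_inner {μ ν : A → ℂ} (hμ : IsClassFunction A μ) (hμo : S.Supp Gd μ) (hν : IsClassFunction A ν)
    (hνo : S.Supp Gd ν) : classInner (S.L μ) (S.L ν) = classInner μ ν := by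
  rw [L, L, frobenius _ _ (isClassFunction_indFun _ _), ← S.th_inner hμ hν, classInner, classInner]
  congr 1
  refine Finset.sum_congr rfl fun c _ => ?_
  by_cases h0 : S.th μ c = 0
  · rw [h0, zero_mul, zero_mul]
  · have e : indFun H (S.th ν) (c : G) = S.th ν c := S.L_eq hG hν hνo (S.good_of_ne hμ hμo h0)
    rw [e]

theorem v_other {μ : A → ℂ} (hμ : IsClassFunction A μ) (ho : S.Supp Gd μ) {χ : IrrCharacter G}
    (hχ : χ ∉ B) : S.v μ χ = 0 := by
  classical
  have hres : IsClassFunction H fun c : H => (χ : G → ℂ) (c : G) :=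
    isClassFunction_restrict (isClassFunction_character (irr_isCharacter χ.2))
  rw [v, ← classInner_symm, ← S.inner_blockPart hμ, classInner_symm, classInner, Finset.sum_eq_zero fun c _ => ?_,
    mul_zero]
  by_cases h0 : S.th μ c = 0
  · rw [h0, zero_mul]
  have hgd := S.good_of_ne hμ ho h0
  refine mul_eq_zero_of_right _ ?_
  rw [← sum_blockCoeff_shift S.f hres c, map_eq_zero]
  refine second_main_induced S.hM S.hind c (isPPart_ppt S.hM.1 (c : G)) ?_ χ hχ
  intro t ht
  rw [Subgroup.mem_centralizer_singleton_iff] at ht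
  refine hG _ t hgd ?_
  rwa [ht, mul_inv_cancel_right]

open scoped Classical in
theorem parseval {μ ν : A → ℂ} (hμ : IsClassFunction A μ) (hμo : S.Supp Gd μ) (hν : IsClassFunction A ν)
    (hνo : S.Supp Gd ν) : ∑ χ ∈ bset B, S.v μ χ * conj (S.v ν χ) = classInner μ ν := by
  rw [← S.L_inner hG hμ hμo hν hνo]
  conv_rhs => rw [classFun_expansion (show IsClassFunction G (S.L μ) from isClassFunction_indFun _ _),
    classInner_sum_left]
  rw [Finset.sum_subset (Finset.subset_univ (bset B))]
  · refine Finset.sum_congr rfl fun χ _ => ?_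
    rw [classInner_smul_left, ← classInner_symm (S.L ν), S.v_eq, S.v_eq]
  · intro χ _ hχ
    rw [S.v_other hG hμ hμo fun h => hχ (mem_bset.mpr h), zero_mul]

theorem sum_v_value {μ : A → ℂ} (hμ : IsClassFunction A μ) (ho : S.Supp Gd μ) (g : G) :
    ∑ χ ∈ bset B, S.v μ χ * (χ : G → ℂ) g = S.L μ g := by
  classical
  conv_rhs => rw [classFun_expansion (show IsClassFunction G (S.L μ) from isClassFunction_indFun _ _),
    Finset.sum_apply]
  simp only [Pi.smul_apply, smul_eq_mul, S.v_eq]
  refine Finset.sum_subset (Finset.subset_univ _) fun χ _ hχ => ?_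
  rw [S.v_other hG hμ ho fun h => hχ (mem_bset.mpr h), zero_mul]

end Fused

end LocalNil

end Cfsg.Agent.Char
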