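import Cfsg.Agent.Lib.Char.SubsectionOrbits
import Cfsg.Agent.Lib.Char.FongReynolds
import Cfsg.Agent.Lib.Char.HarrisKnorr

/-!
# Characters minus rank of a union of blocks as a sum of local ranks over the elements of prime power order
-/

set_option autoImplicit false
set_option linter.style.haveILetI false
set_option linter.unusedSectionVars false

open Cfsg Module
open scoped Classical

namespace Cfsg.Agent.Char.LocalRank

universe u

variable {G : Type u} [Group G] [Fintype G] {M : Ideal AlgInt} {p : ℕ}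

/-- The union of a family of blocks. -/
def unionBlocks (S : Finset (Set (IrrCharacter G))) : Set (IrrCharacter G) := {ψ | ∃ β ∈ S, ψ ∈ β}

theorem card_unionBlocks (hM : IsPModular p M) (S : Finset (Set (IrrCharacter G)))
    (hS : ∀ β ∈ S, IsPBlock M β) : Nat.card (unionBlocks S) = ∑ β ∈ S, Nat.card β := by
  have hP := pmod_prime hM
  have e : (Finset.univ.filter fun ψ => ψ ∈ unionBlocks S) =
      S.biUnion fun β => Finset.univ.filter fun ψ => ψ ∈ β := by
    ext ψ
    simp only [Finset.mem_filter, Finset.mem_univ, true_and, Finset.mem_biUnion]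
    exact Iff.rfl
  simp only [Nat.card_eq_fintype_card, Fintype.card_subtype]
  rw [e, Finset.card_biUnion]
  intro β hβ β' hβ' hne
  rw [Function.onFun, Finset.disjoint_left]
  intro ψ h1 h2
  exact hne (block_disjoint hP (hS β hβ) (hS β' hβ') (Finset.mem_filter.1 h1).2 (Finset.mem_filter.1 h2).2)

theorem rank_unionBlocks (hM : IsPModular p M) (S : Finset (Set (IrrCharacter G)))
    (hS : ∀ β ∈ S, IsPBlock M β) : blockRank p (unionBlocks S) = ∑ β ∈ S, blockRank p β := by
  let Φ : (∀ β : S, ↥(blockSpan p (β : Set (IrrCharacter G)))) →ₗ[ℂ] (G → ℂ) :=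
    ∑ β : S, (blockSpan p (β : Set (IrrCharacter G))).subtype.comp (LinearMap.proj β)
  have hΦ : ∀ v, Φ v = ∑ β : S, (v β : G → ℂ) := fun v => by
    simp [Φ, LinearMap.sum_apply]
  have hinj : Function.Injective Φ := by
    rw [injective_iff_map_eq_zero]
    intro v hv
    funext β'
    apply Subtype.ext
    have h0 := congrArg (blockPartL (β' : Set (IrrCharacter G))) hv
    rw [hΦ, map_sum, map_zero, Finset.sum_eq_single β', blockPartL_apply,
      blockPart_blockSpan hM (hS β' β'.2) (hS β' β'.2) (v β').2, if_pos rfl] at h0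
    · exact h0
    · intro β _ hne
      rw [blockPartL_apply, blockPart_blockSpan hM (hS β β.2) (hS β' β'.2) (v β).2,
        if_neg fun h => hne (Subtype.ext h).symm]
    · exact fun h => absurd (Finset.mem_univ _) h
  have hrange : LinearMap.range Φ = blockSpan p (unionBlocks S) := by
    refine le_antisymm ?_ (Submodule.span_le.2 ?_)
    · rintro _ ⟨v, rfl⟩
      rw [hΦ]
      refine sum_mem fun β _ => ?_
      exact Submodule.span_mono (Set.image_mono (show (β : Set (IrrCharacter G)) ⊆ unionBlocks S from fun ψ hψ => ⟨β, β.2, hψ⟩)) (v β).2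
    · rintro _ ⟨ψ, ⟨β, hβ, hψ⟩, rfl⟩
      refine ⟨Pi.single (⟨β, hβ⟩ : S)
        (⟨pRegularPart p (ψ : G → ℂ), Submodule.subset_span (Set.mem_image_of_mem (fun χ : IrrCharacter G => pRegularPart p (χ : G → ℂ)) hψ)⟩ : blockSpan p β), ?_⟩
      rw [hΦ, Finset.sum_eq_single (⟨β, hβ⟩ : S)]
      · rw [Pi.single_eq_same]
      · intro b _ hb
        rw [Pi.single_eq_of_ne hb]
        rfl
      · exact fun h => absurd (Finset.mem_univ _) h
  have h1 : finrank ℂ (LinearMap.range Φ) = ∑ β : S, finrank ℂ (blockSpan p (β : Set (IrrCharacter G))) := by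
    rw [LinearMap.finrank_range_of_inj hinj, finrank_pi_fintype]
  rw [hrange] at h1
  rw [← Finset.sum_coe_sort S]
  exact h1

/-- The rank, weighted by the order, of the blocks of a subgroup inducing into a set of blocks. -/
noncomputable def weight (M : Ideal AlgInt) (p : ℕ) (S : Finset (Set (IrrCharacter G))) (K : Subgroup G) : ℕ :=
  Nat.card K * ∑ γ : Set (IrrCharacter K) with ∃ β ∈ S, IsInducedBlock M K γ β, blockRank p γ

theorem lam_transport_classInd {K L : Subgroup G} [Fintype K] [Fintype L] (e : L ≃* K) (a : G)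
    (he : ∀ x : L, (e x : G) = a * (x : G) * a⁻¹) (ξ : IrrCharacter K) (g : G) :
    inducedCentralChar L (irrTransport e ξ : L → ℂ) g = inducedCentralChar K (ξ : K → ℂ) g := by
  rw [inducedCentralChar_eq, inducedCentralChar_eq,
    show (irrTransport e ξ : L → ℂ) = (ξ : K → ℂ) ∘ e from rfl, ← lam_transport_equiv e]
  congr 1
  funext x
  rw [Function.comp_apply, he]
  simp only [classInd]
  congr 1
  exact propext ⟨fun h => h.trans (isConj_iff.2 ⟨a, rfl⟩), fun h => h.trans (isConj_iff.2 ⟨a, rfl⟩).symm⟩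

theorem induced_of_conj {K L : Subgroup G} [Fintype K] [Fintype L] (e : L ≃* K) (a : G)
    (he : ∀ x : L, (e x : G) = a * (x : G) * a⁻¹) {γ : Set (IrrCharacter K)} {β : Set (IrrCharacter G)}
    (h : IsInducedBlock M K γ β) : IsInducedBlock M L (irrTransport e '' γ) β := by
  refine ⟨isPBlock_transport _ h.1, h.2.1, ?_⟩
  rintro _ ⟨ξ, hξ, rfl⟩ χ hχ g
  rw [lam_transport_classInd e a he]
  exact h.2.2 ξ hξ χ hχ g

theorem weight_conj (S : Finset (Set (IrrCharacter G))) {K L : Subgroup G} (a : G)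
    (h : ∀ x, x ∈ L ↔ a * x * a⁻¹ ∈ K) : weight M p S L = weight M p S K := by
  haveI := Fintype.ofFinite K
  haveI := Fintype.ofFinite L
  let e : L ≃* K :=
    { toFun := fun x => ⟨a * x * a⁻¹, (h x).1 x.2⟩
      invFun := fun y => ⟨a⁻¹ * y * a, (h _).2 (by simp [mul_assoc])⟩
      left_inv := fun x => Subtype.ext (by simp [mul_assoc])
      right_inv := fun y => Subtype.ext (by simp [mul_assoc])
      map_mul' := fun x y => Subtype.ext (by simp [mul_assoc]) }
  have hes : ∀ y : K, (e.symm y : G) = a⁻¹ * (y : G) * a⁻¹⁻¹ := fun y => by rw [inv_inv]; rfl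
  have hinv : ∀ γ : Set (IrrCharacter L), irrTransport e '' (irrTransport e.symm '' γ) = γ := fun γ => by
    rw [Set.image_image]
    conv_rhs => rw [← Set.image_id' γ]
    refine Set.image_congr fun χ _ => Subtype.ext (funext fun g => ?_)
    rw [irrTransport_apply, irrTransport_apply, MulEquiv.symm_apply_apply]
  have hinv' : ∀ γ : Set (IrrCharacter K), irrTransport e.symm '' (irrTransport e '' γ) = γ := fun γ => by
    rw [Set.image_image]
    conv_rhs => rw [← Set.image_id' γ]
    refine Set.image_congr fun χ _ => Subtype.ext (funext fun g => ?_)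
    rw [irrTransport_apply, irrTransport_apply, MulEquiv.apply_symm_apply]
  unfold weight
  rw [Nat.card_congr e.toEquiv]
  congr 1
  refine Finset.sum_nbij' (fun γ => irrTransport e.symm '' γ) (fun γ => irrTransport e '' γ)
    (fun γ hγ => ?_) (fun γ hγ => ?_) (fun γ _ => hinv γ) (fun γ _ => hinv' γ)
    (fun γ _ => (SubsectionOrbits.blockRank_transport e.symm γ).symm)
  · rw [Finset.mem_filter] at hγ ⊢
    obtain ⟨β, hβ, hi⟩ := hγ.2
    exact ⟨Finset.mem_univ _, β, hβ, induced_of_conj e.symm a⁻¹ hes hi⟩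
  · rw [Finset.mem_filter] at hγ ⊢
    obtain ⟨β, hβ, hi⟩ := hγ.2
    exact ⟨Finset.mem_univ _, β, hβ, induced_of_conj e a (fun _ => rfl) hi⟩

/-- Transitivity of block induction, in both directions. -/
theorem induced_trans_iff (hM : IsPModular p M) {H : Subgroup G} [Fintype H] {C : Subgroup H} [Fintype C]
    {K : Subgroup G} [Fintype K] (e : K ≃* C) (he : ∀ x : K, ((e x : H) : G) = (x : G))
    {γ : Set (IrrCharacter C)} {β : Set (IrrCharacter H)} (hγ : IsInducedBlock M C γ β)
    (b : Set (IrrCharacter G)) :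
    IsInducedBlock M K (irrTransport e '' γ) b ↔ IsInducedBlock M H β b := by
  have hP := pmod_prime hM
  obtain ⟨ξ, hξ⟩ := block_nonempty hP hγ.1
  obtain ⟨ψ, hψ⟩ := block_nonempty hP hγ.2.1
  have key : ∀ ζ ∈ γ, ∀ φ ∈ β, ∀ g : G, MemLocalIdeal M
      (inducedCentralChar K (irrTransport e ζ : K → ℂ) g - inducedCentralChar H (φ : H → ℂ) g) := by
    intro ζ hζ φ hφ g
    rw [inducedCentralChar_eq, inducedCentralChar_eq,
      show (irrTransport e ζ : K → ℂ) = (ζ : C → ℂ) ∘ e from rfl,
      show (fun x : K => classInd g (x : G)) = (fun c : C => classInd g ((c : H) : G)) ∘ e from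
        funext fun x => by rw [Function.comp_apply, he],
      lam_transport_equiv]
    exact induced_congr_fun hP (hγ.2.2 ζ hζ φ hφ) (f := fun h : H => classInd g (h : G))
      ⟨isClassFunction_restrict (intClassFun_classInd hP g).1, fun x => (intClassFun_classInd hP g).2 _⟩
  constructor
  · rintro ⟨-, hb, hc⟩
    refine ⟨hγ.2.1, hb, fun φ hφ χ hχ g => ?_⟩
    exact memLI_trans hP (memLI_symm hP (key ξ hξ φ hφ g)) (hc _ ⟨ξ, hξ, rfl⟩ χ hχ g)
  · rintro ⟨-, hb, hc⟩
    refine ⟨isPBlock_transport _ hγ.1, hb, ?_⟩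
    rintro _ ⟨ζ, hζ, rfl⟩ χ hχ g
    exact memLI_trans hP (key ζ hζ ψ hψ g) (hc ψ hψ χ hχ g)

/-- The weights of a subgroup seen in the group and in the ambient group. -/
theorem weight_trans (hM : IsPModular p M) (H : Subgroup G) [Fintype H] {u : H}
    (hu : ∃ k : ℕ, orderOf u = p ^ k) (b : Set (IrrCharacter G)) :
    weight M p (Finset.univ.filter fun β : Set (IrrCharacter H) => IsInducedBlock M H β b)
        (Subgroup.centralizer ({u} : Set H)) =
      weight M p {b} (H ⊓ Subgroup.centralizer ({(u : G)} : Set G)) := by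
  haveI := Fintype.ofFinite (Subgroup.centralizer ({u} : Set H))
  haveI := Fintype.ofFinite (H ⊓ Subgroup.centralizer ({(u : G)} : Set G) : Subgroup G)
  let e : (H ⊓ Subgroup.centralizer ({(u : G)} : Set G) : Subgroup G) ≃* Subgroup.centralizer ({u} : Set H) :=
    { toFun := fun x => ⟨⟨(x : G), x.2.1⟩, Subgroup.mem_centralizer_singleton_iff.2
        (Subtype.ext (Subgroup.mem_centralizer_singleton_iff.1 x.2.2))⟩
      invFun := fun c => ⟨((c : H) : G), (c : H).2, Subgroup.mem_centralizer_singleton_iff.2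
        (congrArg Subtype.val (Subgroup.mem_centralizer_singleton_iff.1 c.2))⟩
      left_inv := fun _ => rfl
      right_inv := fun _ => rfl
      map_mul' := fun _ _ => rfl }
  unfold weight
  rw [Nat.card_congr e.toEquiv]
  congr 1
  have hinv : ∀ γ, irrTransport e '' (irrTransport e.symm '' γ) = γ := fun γ => by
    rw [Set.image_image]
    conv_rhs => rw [← Set.image_id' γ]
    refine Set.image_congr fun χ _ => Subtype.ext (funext fun g => ?_)
    rw [irrTransport_apply, irrTransport_apply, MulEquiv.symm_apply_apply]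
  have hinv' : ∀ γ, irrTransport e.symm '' (irrTransport e '' γ) = γ := fun γ => by
    rw [Set.image_image]
    conv_rhs => rw [← Set.image_id' γ]
    refine Set.image_congr fun χ _ => Subtype.ext (funext fun g => ?_)
    rw [irrTransport_apply, irrTransport_apply, MulEquiv.apply_symm_apply]
  refine Finset.sum_nbij' (fun γ => irrTransport e '' γ) (fun γ => irrTransport e.symm '' γ)
    (fun γ hγ => ?_) (fun γ hγ => ?_) (fun γ _ => hinv' γ) (fun γ _ => hinv γ)
    (fun γ _ => (SubsectionOrbits.blockRank_transport e γ).symm)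
  · rw [Finset.mem_filter] at hγ ⊢
    obtain ⟨β, hβ, hi⟩ := hγ.2
    exact ⟨Finset.mem_univ _, b, Finset.mem_singleton_self b,
      (induced_trans_iff hM e (fun _ => rfl) hi b).2 (Finset.mem_filter.1 hβ).2⟩
  · rw [Finset.mem_filter] at hγ ⊢
    obtain ⟨b', hb', hi⟩ := hγ.2
    rw [Finset.mem_singleton] at hb'
    subst hb'
    obtain ⟨β, hβ⟩ := exists_induced_centralizer hM hu (isPBlock_transport e.symm hi.1)
    refine ⟨Finset.mem_univ _, β, Finset.mem_filter.2 ⟨Finset.mem_univ _, ?_⟩, hβ⟩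
    exact (induced_trans_iff hM e (fun _ => rfl) hβ _).1 (by rw [hinv]; exact hi)

theorem pLocal_rep (p : ℕ) : ∀ g : G, (∃ k : ℕ, orderOf g = p ^ k) →
    ∃! x, x ∈ (Finset.univ.filter fun g : G => ∃ k : ℕ, orderOf g = p ^ k).image
      (fun g => (ConjClasses.mk g).out) ∧ IsConj g x := by
  intro g hg
  have hout : ∀ g : G, IsConj g (ConjClasses.mk g).out := fun g =>
    (ConjClasses.mk_eq_mk_iff_isConj.1 (Quotient.out_eq (ConjClasses.mk g))).symm
  refine ⟨(ConjClasses.mk g).out, ⟨Finset.mem_image.2 ⟨g, by simpa using hg, rfl⟩, hout g⟩, ?_⟩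
  rintro x ⟨hx, hgx⟩
  obtain ⟨a, -, rfl⟩ := Finset.mem_image.1 hx
  rw [ConjClasses.mk_eq_mk_iff_isConj.2 (hgx.trans (hout a).symm)]

/-- `k - l` of a union of blocks through the elements of prime power order. -/
theorem card_sub_rank (hM : IsPModular p M) (S : Finset (Set (IrrCharacter G)))
    (hS : ∀ β ∈ S, IsPBlock M β) :
    (Nat.card G : ℤ) * ((Nat.card (unionBlocks S) : ℤ) - (blockRank p (unionBlocks S) : ℤ)) =
      ∑ u : G with u ≠ 1 ∧ ∃ k : ℕ, orderOf u = p ^ k,
        (weight M p S (Subgroup.centralizer ({u} : Set G)) : ℤ) := by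
  have hP := pmod_prime hM
  set T := Finset.univ.filter fun g : G => ∃ k : ℕ, orderOf g = p ^ k with hT
  set r : G → G := fun g => (ConjClasses.mk g).out with hr
  have hout : ∀ g : G, IsConj g (r g) := fun g =>
    (ConjClasses.mk_eq_mk_iff_isConj.1 (Quotient.out_eq (ConjClasses.mk g))).symm
  set X := T.image r with hX
  have hXp : ∀ x ∈ X, ∃ k : ℕ, orderOf x = p ^ k := fun x hx => by
    obtain ⟨a, ha, rfl⟩ := Finset.mem_image.1 hx
    obtain ⟨k, hk⟩ := (Finset.mem_filter.1 ha).2
    obtain ⟨c, hc⟩ := isConj_iff.1 (hout a)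
    exact ⟨k, by rw [← hc, ← MulAut.conj_apply, MulEquiv.orderOf_eq, hk]⟩
  have hr1 : r 1 = 1 := isConj_one_right.1 (hout 1)
  have h1X : (1 : G) ∈ X :=
    Finset.mem_image.2 ⟨1, Finset.mem_filter.2 ⟨Finset.mem_univ _, 0, by simp⟩, hr1⟩
  -- the local sum at a representative
  let R : G → ℕ := fun x => ∑ β ∈ S,
    ∑ᶠ γ ∈ {γ : Set (IrrCharacter ↥(Subgroup.centralizer ({x} : Set G))) |
      IsInducedBlock M (Subgroup.centralizer ({x} : Set G)) γ β}, blockRank p γ
  have hk : Nat.card (unionBlocks S) = ∑ x ∈ X, R x := by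
    rw [card_unionBlocks hM S hS, Finset.sum_comm]
    exact Finset.sum_congr rfl fun β hβ => card_eq_sum_blockRank hM (hS β hβ) X hXp (pLocal_rep p)
  have hl : R 1 = blockRank p (unionBlocks S) := by
    rw [rank_unionBlocks hM S hS]
    exact Finset.sum_congr rfl fun β hβ => SubsectionOrbits.rank_at_one hM (hS β hβ)
  have hw : ∀ x ∈ X, weight M p S (Subgroup.centralizer ({x} : Set G)) =
      Nat.card (Subgroup.centralizer ({x} : Set G)) * R x := by
    intro x hx
    haveI := Fintype.ofFinite (Subgroup.centralizer ({x} : Set G))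
    have e : ∀ β : Set (IrrCharacter G),
        ∑ᶠ γ ∈ {γ : Set (IrrCharacter ↥(Subgroup.centralizer ({x} : Set G))) |
          IsInducedBlock M (Subgroup.centralizer ({x} : Set G)) γ β}, blockRank p γ =
        ∑ γ : Set (IrrCharacter ↥(Subgroup.centralizer ({x} : Set G))),
          if IsInducedBlock M (Subgroup.centralizer ({x} : Set G)) γ β then blockRank p γ else 0 := fun β => by
      rw [← Finset.sum_filter]
      exact finsum_mem_eq_sum_of_inter_support_eq _ (by ext; simp)
    unfold weight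
    congr 1
    show _ = ∑ β ∈ S, _
    simp only [e]
    rw [Finset.sum_comm, Finset.sum_filter]
    refine Finset.sum_congr rfl fun γ _ => ?_
    by_cases h : ∃ β ∈ S, IsInducedBlock M (Subgroup.centralizer ({x} : Set G)) γ β
    · obtain ⟨β, hβ, hi⟩ := h
      rw [if_pos ⟨β, hβ, hi⟩, Finset.sum_eq_single β (fun β' _ hne => if_neg fun h' =>
        hne (induced_unique hP h' hi)) (fun h' => absurd hβ h'), if_pos hi]
    · rw [if_neg h, Finset.sum_eq_zero fun β hβ => if_neg fun h' => h ⟨β, hβ, h'⟩]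
  rw [hk, ← hl, ← Finset.add_sum_erase _ _ h1X]
  push_cast
  rw [add_sub_cancel_left, Finset.mul_sum]
  have hset : (Finset.univ.filter fun u : G => u ≠ 1 ∧ ∃ k : ℕ, orderOf u = p ^ k) = T.filter fun u => u ≠ 1 := by
    ext u
    simp [hT, and_comm]
  rw [hset, ← Finset.sum_fiberwise_of_maps_to (s := T.filter fun u => u ≠ 1) (t := X.erase 1) (g := r) (fun u hu => by
    obtain ⟨h1, h2⟩ := Finset.mem_filter.1 hu
    refine Finset.mem_erase.2 ⟨fun h => h2 ?_, Finset.mem_image_of_mem r h1⟩
    exact isConj_one_left.1 (h ▸ hout u))]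
  refine Finset.sum_congr rfl fun x hx => ?_
  obtain ⟨hx1, hxX⟩ := Finset.mem_erase.1 hx
  have hfib : (T.filter fun u => u ≠ 1).filter (fun u => r u = x) = Finset.univ.filter fun u => IsConj x u := by
    obtain ⟨a, ha, rfl⟩ := Finset.mem_image.1 hxX
    ext u
    simp only [hT, Finset.mem_filter, Finset.mem_univ, true_and]
    constructor
    · rintro ⟨-, h⟩
      exact h ▸ (hout u).symm
    · intro h
      obtain ⟨c, hc⟩ := isConj_iff.1 h
      obtain ⟨k, hk⟩ := hXp _ hxX
      refine ⟨⟨⟨k, by rw [← hc, ← MulAut.conj_apply, MulEquiv.orderOf_eq, hk]⟩, fun hu => hx1 ?_⟩, ?_⟩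
      · exact isConj_one_left.1 (hu ▸ h)
      · show (ConjClasses.mk u).out = (ConjClasses.mk a).out
        rw [ConjClasses.mk_eq_mk_iff_isConj.2 (h.symm.trans (hout a).symm)]
  rw [hfib, Finset.sum_congr rfl (g := fun _ => (weight M p S (Subgroup.centralizer ({x} : Set G)) : ℤ))
    fun u hu => ?_, Finset.sum_const, nsmul_eq_mul, hw x hxX, ← Fintype.card_subtype, ← Nat.card_eq_fintype_card]
  · rw [← card_conjClass_mul_centralizer x]
    push_cast
    ring
  obtain ⟨c, hc⟩ := isConj_iff.1 (Finset.mem_filter.1 hu).2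
  rw [Nat.cast_inj]
  refine weight_conj S c⁻¹ fun z => ?_
  rw [Subgroup.mem_centralizer_singleton_iff, Subgroup.mem_centralizer_singleton_iff, ← hc]
  constructor <;> intro h
  · calc c⁻¹ * z * c⁻¹⁻¹ * x = c⁻¹ * (z * (c * x * c⁻¹)) * c := by group
      _ = c⁻¹ * ((c * x * c⁻¹) * z) * c := by rw [h]
      _ = _ := by group
  · calc z * (c * x * c⁻¹) = c * (c⁻¹ * z * c⁻¹⁻¹ * x) * c⁻¹ := by group
      _ = c * (x * (c⁻¹ * z * c⁻¹⁻¹)) * c⁻¹ := by rw [h]
      _ = _ := by group

end Cfsg.Agent.Char.LocalRank
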