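import Cfsg.Agent.Lib.Char.CentralAverage

/-!
# All characters against a major subsection

If `(x, e)` is a major subsection and every nonzero image vector on the trivial class has squares at least
`q * L`, where `q = p ^ d / o(x)`, then `k(B) * L ≤ p ^ d * l(e)`.
-/

set_option autoImplicit false
set_option linter.unusedSectionVars false

open Cfsg Polynomial
open scoped ComplexConjugate

namespace Cfsg.Agent.Char.CentralClass

universe u

variable {G : Type u} [Group G] [Fintype G] {M : Ideal AlgInt} {p a r L : ℕ} {x : G}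
  [Fintype (Subgroup.centralizer ({x} : Set G))]
  {B : Set (IrrCharacter G)} {e : Set (IrrCharacter (Subgroup.centralizer ({x} : Set G)))}

open scoped Classical in
/-- A major subsection bounds the number of characters through the least square of an image vector. -/
theorem card_mul_le (hM : IsPModular p M) (hk : orderOf x = p ^ a) (ha : 1 ≤ a)
    (hind : IsInducedBlock M (Subgroup.centralizer ({x} : Set G)) e B) (hd : blockDefect p e = a + r)
    (hmaj : blockDefect p e = blockDefect p B) {ω : ℂ} (hω : IsPrimitiveRoot ω (p ^ a))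
    {j : IrrCharacter (Subgroup.centralizer ({x} : Set G)) → ℕ} (hj : ∀ η, j η < p ^ a)
    (hz : ∀ (η : IrrCharacter (Subgroup.centralizer ({x} : Set G))) (c : Subgroup.centralizer ({x} : Set G)),
      (η : Subgroup.centralizer ({x} : Set G) → ℂ)
          ((⟨x, Subgroup.mem_centralizer_singleton_iff.mpr rfl⟩ : Subgroup.centralizer ({x} : Set G)) * c) =
        ω ^ j η * (η : Subgroup.centralizer ({x} : Set G) → ℂ) c)
    (hQ : ∀ y m : IrrCharacter (Subgroup.centralizer ({x} : Set G)) → ℤ,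
      (∀ θ ∈ cls e j 0, y θ = ∑ η ∈ bset e, wI p e θ η * m η) → (∃ θ ∈ cls e j 0, y θ ≠ 0) →
        (p : ℤ) ^ r * (L : ℤ) ≤ ∑ θ ∈ cls e j 0, y θ ^ 2) :
    (Finset.univ.filter fun χ : IrrCharacter G => χ ∈ B).card * L ≤
      p ^ (a + r) * blockRank p e := by
  have hP := pmod_prime hM
  have hp := hM.1
  set N := p ^ a with hN
  have hN0 : 0 < N := pow_pos hp.pos a
  set Mc := p ^ (a - 1) with hMc
  have hMc0 : 0 < Mc := pow_pos hp.pos _
  have hNM : N = p * Mc := by rw [hN, hMc, ← pow_succ']; congr 1; omega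
  have hqp : (0 : ℝ) < (p : ℝ) ^ r := pow_pos (by exact_mod_cast hp.pos) r
  set xc : Subgroup.centralizer ({x} : Set G) := ⟨x, Subgroup.mem_centralizer_singleton_iff.mpr rfl⟩ with hxc
  have hxo : orderOf xc = p ^ a := by rw [hxc, Subgroup.orderOf_mk, hk]
  have hcent : ∀ c : Subgroup.centralizer ({x} : Set G), xc * c = c * xc := fun c =>
    Subtype.ext (Subgroup.mem_centralizer_singleton_iff.mp c.2).symm
  have he := hind.1
  set S := cls e j 0 with hS
  set y := fun (χ : IrrCharacter G) (θ : IrrCharacter (Subgroup.centralizer ({x} : Set G))) (s : ℕ) =>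
    ∑ η ∈ cls e j s, wI p e θ η * (mRes x χ η : ℤ) with hy
  set f := fun (χ : IrrCharacter G) (θ : IrrCharacter (Subgroup.centralizer ({x} : Set G))) (μ : ℂ) =>
    ∑ η ∈ bset e, ((wI p e θ η * (mRes x χ η : ℤ) : ℤ) : ℂ) * μ ^ j η with hf
  have hI2 : ∀ (χ ψ : IrrCharacter G) (μ : ℂ), μ ^ N = 1 → (p : ℂ) ^ r * ctr p e (fun η => μ ^ j η) χ ψ =
      ∑ θ ∈ S, f χ θ μ * conj (f ψ θ μ) := by
    intro χ ψ μ hμ
    have hcj : conj μ = μ⁻¹ :=
      (Complex.inv_eq_conj (Complex.norm_eq_one_of_pow_eq_one hμ hN0.ne')).symm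
    simp only [hf, map_sum, map_mul, Int.cast_mul, map_intCast, map_pow, hcj,
      inv_pow, Int.cast_natCast, map_natCast, Finset.sum_mul_sum]
    rw [Finset.sum_comm, ctr, Finset.mul_sum, bset]
    refine Finset.sum_congr rfl fun η hη => ?_
    rw [Finset.sum_comm, Finset.mul_sum]
    refine Finset.sum_congr rfl fun θ hθ => ?_
    have h1 : ∑ φ ∈ cls e j 0, wI p e η φ * wI p e φ θ = (p : ℤ) ^ r * wI p e η θ := by
      have h := mul_sum_cls hM he hcent hxo hω hj hz (Finset.mem_filter.mp hη).2 (Finset.mem_filter.mp hθ).2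
        (s := 0) hN0
      rw [hd, Nat.cast_pow, pow_add, mul_assoc] at h
      exact mul_left_cancel₀ (pow_ne_zero a (Int.natCast_ne_zero.mpr hp.ne_zero)) h
    have h2 := congrArg (fun t : ℤ => (t : ℂ) * ((mRes x χ η : ℂ) * (mRes x ψ θ : ℂ) *
      (μ ^ j η * (μ ^ j θ)⁻¹))) h1
    simp only [Int.cast_sum, Int.cast_mul, Int.cast_natCast, Int.cast_pow, Finset.sum_mul] at h2
    refine Eq.trans ?_ (h2.symm.trans (Finset.sum_congr rfl fun φ _ => ?_))
    · ring
    · rw [wI_symm hM η φ]; ring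
  -- the contribution as a sum of squares
  have hI : ∀ (χ : IrrCharacter G) (μ : ℂ), μ ^ N = 1 → (p : ℂ) ^ r * ctr p e (fun η => μ ^ j η) χ χ =
      ((∑ θ ∈ S, Complex.normSq (f χ θ μ) : ℝ) : ℂ) := by
    intro χ μ hμ
    rw [hI2 χ χ μ hμ, Complex.ofReal_sum]
    exact Finset.sum_congr rfl fun θ _ => Complex.mul_conj _
  have hfy : ∀ χ θ (μ : ℂ), f χ θ μ =
      ∑ q : Fin p × Fin Mc, (y χ θ (q.2 + Mc * q.1) : ℂ) * μ ^ ((q.2 : ℕ) + Mc * q.1) := by
    intro χ θ μ
    have hlt : ∀ q : Fin p × Fin Mc, (q.2 : ℕ) + Mc * q.1 < N := fun q => by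
      rw [hNM]; have := q.2.2; have := q.1.2; nlinarith
    set g : IrrCharacter (Subgroup.centralizer ({x} : Set G)) → Fin p × Fin Mc := fun η =>
      (⟨j η / Mc, Nat.div_lt_of_lt_mul (by rw [mul_comm, ← hNM]; exact hj η)⟩,
        ⟨j η % Mc, Nat.mod_lt _ hMc0⟩) with hg
    simp only [hf]
    rw [← Finset.sum_fiberwise_of_maps_to (t := Finset.univ) (g := g) fun _ _ => Finset.mem_univ _]
    refine Finset.sum_congr rfl fun q _ => ?_
    have hset : (bset e).filter (fun η => g η = q) = cls e j (q.2 + Mc * q.1) := by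
      ext η
      simp only [Finset.mem_filter, mem_bset, mem_cls, hg, Prod.ext_iff, Fin.ext_iff]
      refine and_congr_right fun _ => ⟨fun h => ?_, fun h => ?_⟩
      · rw [← h.1, ← h.2, Nat.mod_add_div]
      · rw [h]
        exact ⟨by rw [Nat.add_mul_div_left _ _ hMc0, Nat.div_eq_of_lt q.2.2, zero_add],
          by rw [Nat.add_mul_mod_self_left, Nat.mod_eq_of_lt q.2.2]⟩
    rw [hset, hy, Int.cast_sum, Finset.sum_mul]
    exact Finset.sum_congr rfl fun η hη => by rw [(mem_cls.mp hη).2]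
  set U := (Finset.range N).filter (fun u => ¬ p ∣ u) with hU
  have hsplitU : ∀ g : ℕ → ℝ, ∑ u ∈ U, g u =
      ∑ u ∈ Finset.range N, g u - ∑ u ∈ Finset.range Mc, g (p * u) := by
    intro g
    have h1 : (Finset.range N).filter (fun u => p ∣ u) = (Finset.range Mc).image (p * ·) := by
      ext u
      simp only [Finset.mem_filter, Finset.mem_range, Finset.mem_image]
      constructor
      · rintro ⟨hu, t, rfl⟩
        exact ⟨t, Nat.lt_of_mul_lt_mul_left (hNM ▸ hu), rfl⟩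
      · rintro ⟨t, ht, rfl⟩
        exact ⟨hNM ▸ Nat.mul_lt_mul_of_pos_left ht hp.pos, dvd_mul_right p t⟩
    rw [eq_sub_iff_add_eq, hU, ← Finset.sum_filter_not_add_sum_filter (Finset.range N) (fun u => p ∣ u) g, h1,
      Finset.sum_image fun u _ v _ h => Nat.eq_of_mul_eq_mul_left hp.pos h]
  have hcardU : (U.card : ℝ) = (Mc : ℝ) * ((p : ℝ) - 1) := by
    have := hsplitU fun _ => 1
    simp only [Finset.sum_const, Finset.card_range, nsmul_eq_mul, mul_one] at this
    rw [this, hNM]; push_cast; ring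
  have hρ : IsPrimitiveRoot (ω ^ p) Mc := hω.pow hN0 hNM
  -- the average over the conjugates
  have havg : ∀ χ, ∑ u ∈ U, ∑ θ ∈ S, Complex.normSq (f χ θ (ω ^ u)) =
      (Mc : ℝ) / 2 * ∑ σ : Fin Mc, ∑ i : Fin p, ∑ i' : Fin p,
        ∑ θ ∈ S, ((y χ θ (σ + Mc * i) : ℝ) - (y χ θ (σ + Mc * i') : ℝ)) ^ 2 := by
    intro χ
    have hθ : ∀ θ ∈ S, ∑ u ∈ U, Complex.normSq (f χ θ (ω ^ u)) =
        (Mc : ℝ) / 2 * ∑ σ : Fin Mc, ∑ i : Fin p, ∑ i' : Fin p,
          ((y χ θ (σ + Mc * i) : ℝ) - (y χ θ (σ + Mc * i') : ℝ)) ^ 2 := by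
      intro θ _
      have hinj : Function.Injective fun q : Fin p × Fin Mc => (q.2 : ℕ) + Mc * q.1 := by
        intro q q' h
        have h1 := congrArg (· % Mc) h
        have h2 := congrArg (· / Mc) h
        simp only [Nat.add_mul_mod_self_left, Nat.mod_eq_of_lt q.2.2, Nat.mod_eq_of_lt q'.2.2] at h1
        simp only [Nat.add_mul_div_left _ _ hMc0, Nat.div_eq_of_lt q.2.2, Nat.div_eq_of_lt q'.2.2, zero_add] at h2
        exact Prod.ext (Fin.ext h2) (Fin.ext h1)
      have hA := sum_range_normSq hN0 hω (fun q : Fin p × Fin Mc => (q.2 : ℕ) + Mc * q.1)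
        (fun q => by rw [hNM]; have := q.2.2; have := q.1.2; nlinarith) hinj
        (fun q => y χ θ (q.2 + Mc * q.1))
      have hB := sum_range_normSq hMc0 hρ (fun σ : Fin Mc => (σ : ℕ)) (fun σ => σ.2) Fin.val_injective
        (fun σ => ∑ i : Fin p, y χ θ (σ + Mc * i))
      have e1 : ∀ u : ℕ, f χ θ (ω ^ (p * u)) =
          ∑ σ : Fin Mc, ((∑ i : Fin p, y χ θ (σ + Mc * i) : ℤ) : ℂ) * ((ω ^ p) ^ u) ^ (σ : ℕ) := by
        intro u
        rw [hfy, Fintype.sum_prod_type, Finset.sum_comm]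
        refine Finset.sum_congr rfl fun σ _ => ?_
        rw [Int.cast_sum, Finset.sum_mul]
        refine Finset.sum_congr rfl fun i _ => ?_
        congr 1
        rw [pow_add, ← pow_mul ω p u, pow_mul (ω ^ (p * u)) Mc, ← pow_mul ω (p * u) Mc,
          show p * u * Mc = p * Mc * u by ring, pow_mul ω (p * Mc) u, ← hNM, hω.pow_eq_one, one_pow, one_pow,
          mul_one]
      rw [hsplitU]
      simp only [e1]
      rw [Finset.sum_congr rfl fun u _ => by rw [hfy], hA, hB, Fintype.sum_prod_type, Finset.sum_comm, hNM,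
        Finset.mul_sum, Finset.mul_sum, Finset.mul_sum, ← Finset.sum_sub_distrib]
      refine Finset.sum_congr rfl fun σ _ => ?_
      push_cast
      simp only [sub_sq, Finset.sum_add_distrib, Finset.sum_sub_distrib, Finset.sum_const, Finset.card_univ,
        Fintype.card_fin, nsmul_eq_mul, mul_assoc, ← Finset.mul_sum, ← Finset.sum_mul]
      ring
    rw [Finset.sum_comm, Finset.sum_congr rfl hθ, ← Finset.mul_sum, Finset.sum_comm]
    congr 1
    refine Finset.sum_congr rfl fun σ _ => ?_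
    rw [Finset.sum_comm]
    exact Finset.sum_congr rfl fun i _ => Finset.sum_comm
  obtain ⟨χ0, hχ0, h00⟩ := exists_height_zero (p := p) (block_nonempty hP hind.2.1)
  have hlow : ∀ χ ∈ B,
      (Mc : ℝ) * ((p : ℝ) - 1) * ((p : ℝ) ^ r * (L : ℝ)) ≤
        ∑ u ∈ U, ∑ θ ∈ S, Complex.normSq (f χ θ (ω ^ u)) := by
    intro χ hχ
    set F := fun (σ : Fin Mc) (i i' : Fin p) =>
      ∑ θ ∈ S, ((y χ θ (σ + Mc * i) : ℝ) - (y χ θ (σ + Mc * i') : ℝ)) ^ 2 with hF
    have hFnn : ∀ σ i i', 0 ≤ F σ i i' := fun σ i i' => Finset.sum_nonneg fun _ _ => sq_nonneg _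
    have hFsymm : ∀ σ i i', F σ i i' = F σ i' i := fun σ i i' =>
      Finset.sum_congr rfl fun _ _ => by ring
    have hFlow : ∀ σ i i', (∃ θ ∈ S, y χ θ ((σ : Fin Mc) + Mc * (i : Fin p)) ≠ y χ θ (σ + Mc * (i' : Fin p))) →
        (p : ℝ) ^ r * (L : ℝ) ≤ F σ i i' := by
      intro σ i i' hex
      set m := fun η => (if j η = (σ : ℕ) + Mc * i then (mRes x χ η : ℤ) else 0) -
        (if j η = (σ : ℕ) + Mc * i' then (mRes x χ η : ℤ) else 0) with hm
      have hyd : ∀ θ ∈ S, y χ θ (σ + Mc * i) - y χ θ (σ + Mc * i') =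
          ∑ η ∈ bset e, wI p e θ η * m η := by
        intro θ _
        simp only [hy, hm, mul_sub, Finset.sum_sub_distrib, mul_ite, mul_zero, ← Finset.sum_filter]
        congr 1 <;> refine Finset.sum_congr (Finset.ext fun η => ?_) fun _ _ => rfl <;>
          simp [mem_cls, mem_bset]
      have h := hQ (fun θ => y χ θ (σ + Mc * i) - y χ θ (σ + Mc * i')) m hyd
        (by obtain ⟨θ, hθ, hne⟩ := hex; exact ⟨θ, hθ, sub_ne_zero.mpr hne⟩)
      have h' : ((((p : ℤ) ^ r * (L : ℤ) : ℤ)) : ℝ) ≤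
          ((∑ θ ∈ S, (y χ θ (σ + Mc * i) - y χ θ (σ + Mc * i')) ^ 2 : ℤ) : ℝ) := Int.cast_le.mpr h
      push_cast at h'
      exact h'
    obtain ⟨σ, i₀, i₁, hex⟩ : ∃ σ : Fin Mc, ∃ i₀ i₁ : Fin p, ∃ θ ∈ S,
        y χ θ (σ + Mc * i₀) ≠ y χ θ (σ + Mc * i₁) := by
      by_contra hno
      push Not at hno
      obtain ⟨w, -, hw, hiff⟩ := MajorSub.major_unit (z := fun η => ω ^ j η) hz (fun η => by
        rw [← hN, ← pow_mul, mul_comm, pow_mul, hω.pow_eq_one, one_pow]) hM hk hind hmaj hχ hχ0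
      refine (hiff.mp ?_) h00
      have hzero : (p : ℂ) ^ r * ctr p e (fun η => ω ^ j η) χ χ0 = 0 := by
        rw [hI2 χ χ0 ω hω.pow_eq_one]
        refine Finset.sum_eq_zero fun θ hθ => ?_
        rw [hfy, Fintype.sum_prod_type, Finset.sum_comm]
        refine mul_eq_zero_of_left (Finset.sum_eq_zero fun σ _ => ?_) _
        rw [Finset.sum_congr rfl fun i _ => by rw [hno σ i ⟨0, hp.pos⟩ θ hθ, pow_add, ← mul_assoc, pow_mul]]
        dsimp only
        rw [← Finset.mul_sum, Fin.sum_univ_eq_sum_range (fun i => (ω ^ Mc) ^ i),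
          (hω.pow hN0 (by rw [hNM]; ring : N = Mc * p)).geom_sum_eq_zero hp.one_lt, mul_zero]
      have h1 := (mul_eq_zero.mp hzero).resolve_left (pow_ne_zero _ (Nat.cast_ne_zero.mpr hp.ne_zero))
      rw [h1, zero_eq_mul] at hw
      rw [hw.resolve_left (pow_ne_zero _ (Nat.cast_ne_zero.mpr hp.ne_zero))]
      exact memLI_zero hP
    have h01 : i₀ ≠ i₁ := fun h => by obtain ⟨θ, -, hne⟩ := hex; exact hne (by rw [h])
    have hor : ∀ i, (∃ θ ∈ S, y χ θ (σ + Mc * i) ≠ y χ θ (σ + Mc * i₀)) ∨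
        ∃ θ ∈ S, y χ θ (σ + Mc * i) ≠ y χ θ (σ + Mc * i₁) := by
      intro i
      obtain ⟨θ, hθ, hne⟩ := hex
      by_cases h : y χ θ (σ + Mc * i) = y χ θ (σ + Mc * i₀)
      · exact Or.inr ⟨θ, hθ, fun h' => hne (h ▸ h')⟩
      · exact Or.inl ⟨θ, hθ, h⟩
    have hb := hFlow σ i₀ i₁ hex
    have hpc := pair_count (F σ) (hFnn σ) h01 hb (hFsymm σ i₀ i₁ ▸ hb) (fun i _ _ => by
      rw [hFsymm σ i₀ i, hFsymm σ i₁ i]
      have := hFnn σ i i₀
      have := hFnn σ i i₁
      rcases hor i with h | h <;> have := hFlow _ _ _ h <;> constructor <;> linarith)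
    rw [havg]
    have hle : ∑ i, ∑ i', F σ i i' ≤ ∑ σ : Fin Mc, ∑ i, ∑ i', F σ i i' :=
      Finset.single_le_sum (f := fun σ => ∑ i, ∑ i', F σ i i')
        (fun σ _ => Finset.sum_nonneg fun i _ => Finset.sum_nonneg fun i' _ => hFnn σ i i') (Finset.mem_univ σ)
    have hM' : (0 : ℝ) ≤ (Mc : ℝ) / 2 := by positivity
    calc (Mc : ℝ) * ((p : ℝ) - 1) * ((p : ℝ) ^ r * (L : ℝ))
        = (Mc : ℝ) / 2 * (2 * ((p : ℝ) - 1) * ((p : ℝ) ^ r * (L : ℝ))) := by ring
      _ ≤ _ := mul_le_mul_of_nonneg_left (hpc.trans hle) hM'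
  -- the trace on each conjugate
  set P := fun χ : IrrCharacter G => MajorSub.pol p N e j χ χ with hPdef
  have htr : ∀ u ∈ U, ∑ χ : IrrCharacter G with χ ∈ B, ∑ θ ∈ S, Complex.normSq (f χ θ (ω ^ u)) =
      (p : ℝ) ^ r * ((p : ℝ) ^ (a + r) * (blockRank p e : ℝ)) := by
    intro u hu
    have hμ : (ω ^ u) ^ N = 1 := by rw [← pow_mul, mul_comm, pow_mul, hω.pow_eq_one, one_pow]
    have hzc : ∀ η, conj (ω ^ j η) = (ω ^ j η)⁻¹ := fun η =>
      (Complex.inv_eq_conj (Complex.norm_eq_one_of_pow_eq_one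
        (show (ω ^ j η) ^ N = 1 by rw [← pow_mul, mul_comm, pow_mul, hω.pow_eq_one, one_pow]) hN0.ne')).symm
    have h0 : aeval ω (∑ χ : IrrCharacter G with χ ∈ B, P χ -
        C ((p : ℤ) ^ blockDefect p e * (blockRank p e : ℤ))) = 0 := by
      simp only [map_sub, map_sum, aeval_C, hPdef, MajorSub.aeval_pol (N := N) hj hω.pow_eq_one]
      rw [MajorSub.sum_ctr_self hz hM ⟨a, hk⟩ hind hzc, sub_eq_zero]
      simp
    have h1 := CycInt.root_pow hω hp h0 (u := u)
      (Nat.Coprime.pow_right a ((hp.coprime_iff_not_dvd).mpr (Finset.mem_filter.mp hu).2).symm)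
    simp only [map_sub, map_sum, aeval_C, hPdef, MajorSub.aeval_pol (N := N) hj hμ, sub_eq_zero] at h1
    apply Complex.ofReal_injective
    rw [Complex.ofReal_sum, Finset.sum_congr rfl fun χ _ => (hI χ (ω ^ u) hμ).symm, ← Finset.mul_sum, h1, hd]
    simp
  set T := Finset.univ.filter fun χ : IrrCharacter G => χ ∈ B with hT
  have hmain : (T.card : ℝ) * ((Mc : ℝ) * ((p : ℝ) - 1) * ((p : ℝ) ^ r * (L : ℝ))) ≤
      (U.card : ℝ) * ((p : ℝ) ^ r * ((p : ℝ) ^ (a + r) * (blockRank p e : ℝ))) := by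
    calc (T.card : ℝ) * ((Mc : ℝ) * ((p : ℝ) - 1) * ((p : ℝ) ^ r * (L : ℝ)))
        = ∑ _χ ∈ T, (Mc : ℝ) * ((p : ℝ) - 1) * ((p : ℝ) ^ r * (L : ℝ)) := by
          rw [Finset.sum_const, nsmul_eq_mul]
      _ ≤ ∑ χ ∈ T, ∑ u ∈ U, ∑ θ ∈ S, Complex.normSq (f χ θ (ω ^ u)) :=
          Finset.sum_le_sum fun χ hχ => hlow χ (Finset.mem_filter.mp hχ).2
      _ = _ := by rw [Finset.sum_comm, Finset.sum_congr rfl htr, Finset.sum_const, nsmul_eq_mul]
  rw [hcardU] at hmain
  have hpos : (0 : ℝ) < (Mc : ℝ) * ((p : ℝ) - 1) * (p : ℝ) ^ r := by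
    have : (1 : ℝ) < p := by exact_mod_cast hp.one_lt
    have : (0 : ℝ) < Mc := by exact_mod_cast hMc0
    have : (0 : ℝ) < (p : ℝ) - 1 := by linarith
    positivity
  have h2 : (T.card : ℝ) * (L : ℝ) ≤ (p : ℝ) ^ (a + r) * (blockRank p e : ℝ) :=
    le_of_mul_le_mul_right (le_trans (le_of_eq (by ring)) (hmain.trans_eq (by ring))) hpos
  exact_mod_cast h2

end Cfsg.Agent.Char.CentralClass
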