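import Cfsg.Agent.Lib.Char.TwoDegreesPrime
import Cfsg.Agent.Lib.Char.Degree

/-!
Simple groups with many classes have abelian Sylow subgroups.
-/

open scoped ComplexConjugate
open Cfsg

namespace Cfsg.Agent.Char

universe u

variable {G : Type u} [Group G] [Fintype G]

theorem eq_one_char_of_kerC_top (χ : IrrCharacter G) (h : TwoDeg.kerC χ = ⊤) :
    (χ : G → ℂ) = fun _ => 1 := by
  have hc : ∀ x, (χ : G → ℂ) x = (χ : G → ℂ) 1 := fun x => by
    have := (h.symm ▸ Subgroup.mem_top x : x ∈ TwoDeg.kerC χ) 1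
    rwa [mul_one] at this
  have h1 := irr_self χ.2
  simp only [classInner, hc, conj_char_one (irr_isCharacter χ.2), Finset.sum_const, Finset.card_univ,
    nsmul_eq_mul, ← Nat.card_eq_fintype_card, inv_mul_cancel_left₀
      (Nat.cast_ne_zero.2 (Nat.card_pos (α := G)).ne' : (Nat.card G : ℂ) ≠ 0)] at h1
  rw [char_one_eq_deg (irr_isCharacter χ.2)] at h1
  have h2 : deg (χ : G → ℂ) = 1 := by
    have : ((deg (χ : G → ℂ) * deg (χ : G → ℂ) : ℕ) : ℂ) = ((1 : ℕ) : ℂ) := by push_cast; exact h1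
    exact (mul_eq_one.1 (Nat.cast_injective this)).1
  funext x
  rw [hc, char_one_eq_deg (irr_isCharacter χ.2), h2, Nat.cast_one]

/-- If all nontrivial degrees exceed `p`, the group is large. -/
theorem exists_small_degree (p : ℕ) (hk : p < Nat.card (ConjClasses G))
    (hlt : Nat.card G < p ^ 2 * Nat.card (ConjClasses G)) :
    ∃ χ : IrrCharacter G, (χ : G → ℂ) ≠ (fun _ => 1) ∧ deg (χ : G → ℂ) ≤ p := by
  classical
  by_contra hcon
  push Not at hcon
  set e : IrrCharacter G := ⟨fun _ => 1, isIrrCharacter_one⟩ with he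
  have hsum : ∑ χ : IrrCharacter G, deg (χ : G → ℂ) ^ 2 = Nat.card G := by
    have h := sum_sq_deg (G := G)
    rw [Finset.sum_congr rfl fun χ _ => by rw [char_one_eq_deg (irr_isCharacter χ.2)]] at h
    exact_mod_cast h
  rw [← Finset.add_sum_erase _ _ (Finset.mem_univ e)] at hsum
  have hle : ∀ χ ∈ (Finset.univ : Finset (IrrCharacter G)).erase e,
      (p + 1) ^ 2 ≤ deg (χ : G → ℂ) ^ 2 := fun χ hχ =>
    Nat.pow_le_pow_left (hcon χ fun h => (Finset.ne_of_mem_erase hχ) (Subtype.ext h)) 2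
  have h2 := Finset.card_nsmul_le_sum _ _ _ hle
  rw [Finset.card_erase_of_mem (Finset.mem_univ e), Finset.card_univ, ← Nat.card_eq_fintype_card,
    card_irr, smul_eq_mul] at h2
  have h1 : 1 ≤ deg (e : G → ℂ) ^ 2 := Nat.one_le_pow _ _ (deg_pos e.2)
  obtain ⟨j, hj⟩ : ∃ j, Nat.card (ConjClasses G) = p + 1 + j := ⟨_, (Nat.add_sub_cancel' hk).symm⟩
  rw [hj, show p + 1 + j - 1 = p + j by omega] at h2
  rw [hj] at hlt
  nlinarith

theorem linear_or_irred_restrict (p : ℕ) [Fact p.Prime] (P : Sylow p G) (χ : IrrCharacter G)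
    (hd : deg (χ : G → ℂ) ≤ p) :
    haveI := Fintype.ofFinite ↥(P : Subgroup G)
    (∃ θ : IrrCharacter ↥(P : Subgroup G), ∀ x : ↥(P : Subgroup G), (χ : G → ℂ) x = (θ : ↥(P : Subgroup G) → ℂ) x) ∨
      ∀ x y : ↥(P : Subgroup G), ((x * y * x⁻¹ * y⁻¹ : ↥(P : Subgroup G)) : G) ∈ TwoDeg.kerC χ := by
  classical
  haveI := Fintype.ofFinite ↥(P : Subgroup G)
  obtain ⟨m, hm⟩ := exists_decomposition
    (isCharacter_comp (P : Subgroup G).subtype (irr_isCharacter χ.2))
  have hdeg : deg (χ : G → ℂ) = ∑ θ : IrrCharacter ↥(P : Subgroup G), m θ * deg (θ : ↥(P : Subgroup G) → ℂ) := by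
    have h := congrFun hm 1
    simp only [Function.comp, map_one, Finset.sum_apply, Pi.mul_apply, Pi.natCast_apply, Pi.smul_apply, nsmul_eq_mul,
      char_one_eq_deg (irr_isCharacter χ.2)] at h
    rw [Finset.sum_congr rfl fun θ _ => by rw [char_one_eq_deg (irr_isCharacter θ.2)]] at h
    exact_mod_cast h
  have happ : ∀ x : ↥(P : Subgroup G), (χ : G → ℂ) x =
      ∑ θ : IrrCharacter ↥(P : Subgroup G), (m θ : ℂ) * (θ : ↥(P : Subgroup G) → ℂ) x := fun x => by
    have h := congrFun hm x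
    simpa [Function.comp, Finset.sum_apply] using h
  have hpow : ∀ θ : IrrCharacter ↥(P : Subgroup G), deg (θ : ↥(P : Subgroup G) → ℂ) = 1 ∨ p ≤ deg (θ : ↥(P : Subgroup G) → ℂ) := by
    intro θ
    obtain ⟨n, hn⟩ := P.2.exists_card_eq
    obtain ⟨i, -, hi⟩ := (Nat.dvd_prime_pow Fact.out).1 (hn ▸ deg_dvd_card θ.2)
    rcases Nat.eq_zero_or_pos i with h | h
    · exact Or.inl (by rw [hi, h, pow_zero])
    · exact Or.inr (hi ▸ Nat.le_self_pow h.ne' p)
  by_cases hbig : ∃ θ : IrrCharacter ↥(P : Subgroup G), m θ ≠ 0 ∧ deg (θ : ↥(P : Subgroup G) → ℂ) ≠ 1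
  · obtain ⟨θ, hθ, hθ1⟩ := hbig
    refine Or.inl ⟨θ, fun x => ?_⟩
    have hge := (hpow θ).resolve_left hθ1
    rw [← Finset.add_sum_erase _ _ (Finset.mem_univ θ)] at hdeg
    have hp := (Fact.out : p.Prime).pos
    have hm1 : m θ = 1 := by
      by_contra hne
      have h2 : 2 ≤ m θ := by omega
      have := Nat.mul_le_mul h2 hge
      omega
    rw [hm1, one_mul] at hdeg
    have hrest : ∑ θ' ∈ Finset.univ.erase θ, m θ' * deg (θ' : ↥(P : Subgroup G) → ℂ) = 0 := by omega
    rw [happ, Finset.sum_eq_single θ (fun θ' _ hne => ?_) (fun h => absurd (Finset.mem_univ θ) h),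
      hm1, Nat.cast_one, one_mul]
    have h := Finset.sum_eq_zero_iff.1 hrest θ' (Finset.mem_erase.2 ⟨hne, Finset.mem_univ _⟩)
    rw [(mul_eq_zero.1 h).resolve_right (deg_pos θ'.2).ne', Nat.cast_zero, zero_mul]
  · push Not at hbig
    refine Or.inr fun x y => TwoDeg.mem_kerC_of_eq χ ?_
    rw [happ, show (1 : G) = ((1 : ↥(P : Subgroup G)) : G) from rfl, happ]
    refine Finset.sum_congr rfl fun θ _ => ?_
    rcases eq_or_ne (m θ) 0 with h | h
    · simp [h]
    · have h1 := TwoDeg.kerC_top_of_linear θ (hbig θ h) x y 1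
      rw [mul_one] at h1
      rw [h1]

theorem sylow_comm_of_many_classes [IsSimpleGroup G] (p : ℕ) [Fact p.Prime]
    (hmany : Nat.card G < p ^ 2 * Nat.card (ConjClasses G)) (P : Sylow p G) (a b : G)
    (ha : a ∈ P) (hb : b ∈ P) : a * b = b * a := by
  classical
  haveI := Fintype.ofFinite ↥(P : Subgroup G)
  by_contra hab
  have hp := (Fact.out : p.Prime).pos
  obtain ⟨n, hn⟩ := P.2.exists_card_eq
  have hn3 : 3 ≤ n := by
    by_contra hlt
    have hcomm : ∀ x y : ↥(P : Subgroup G), x * y = y * x := by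
      rcases (show n = 0 ∨ n = 1 ∨ n = 2 by omega) with rfl | rfl | rfl
      · intro x y
        haveI : Subsingleton ↥(P : Subgroup G) :=
          (Nat.card_eq_one_iff_unique.1 (by simpa using hn)).1
        exact Subsingleton.elim _ _
      · haveI : IsCyclic ↥(P : Subgroup G) := isCyclic_of_prime_card (p := p) (by simpa using hn)
        exact fun x y => (IsCyclic.commGroup).mul_comm x y
      · exact IsPGroup.commutative_of_card_eq_prime_sq hn
    exact hab (congrArg Subtype.val (hcomm ⟨a, ha⟩ ⟨b, hb⟩))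
  have hk : p < Nat.card (ConjClasses G) := by
    have h1 : p ^ 3 ∣ Nat.card G :=
      (pow_dvd_pow p hn3).trans (hn ▸ (P : Subgroup G).card_subgroup_dvd_card)
    have h2 := Nat.le_of_dvd Nat.card_pos h1
    have h3 : p ^ 2 * p < p ^ 2 * Nat.card (ConjClasses G) := by
      calc p ^ 2 * p = p ^ 3 := by ring
        _ ≤ Nat.card G := h2
        _ < _ := hmany
    exact Nat.lt_of_mul_lt_mul_left h3
  obtain ⟨χ, hne, hd⟩ := exists_small_degree p hk hmany
  have hker : TwoDeg.kerC χ = ⊥ :=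
    (TwoDeg.kerC_normal χ).eq_bot_or_eq_top.resolve_right fun h => hne (eq_one_char_of_kerC_top χ h)
  rcases linear_or_irred_restrict p P χ hd with ⟨θ, hθ⟩ | hlin
  · haveI : Nontrivial ↥(P : Subgroup G) := ⟨⟨⟨a, ha⟩, ⟨b, hb⟩, fun h => hab (by
      rw [show a = b from congrArg Subtype.val h])⟩⟩
    haveI := P.2.center_nontrivial
    obtain ⟨z, hz⟩ := exists_ne (1 : Subgroup.center ↥(P : Subgroup G))
    have h1 : (z : ↥(P : Subgroup G)) ∈ TwoDeg.cz θ := (TwoDeg.mem_cz_iff_comm θ _).2 fun x => by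
      rw [← Subgroup.mem_center_iff.1 z.2 x, mul_inv_cancel_right, mul_inv_cancel]
      exact one_mem _
    have hdθ : deg (θ : ↥(P : Subgroup G) → ℂ) = deg (χ : G → ℂ) := by
      have h := hθ 1
      rw [char_one_eq_deg (irr_isCharacter θ.2), OneMemClass.coe_one,
        char_one_eq_deg (irr_isCharacter χ.2)] at h
      exact_mod_cast h.symm
    have h2 : ((z : ↥(P : Subgroup G)) : G) ∈ TwoDeg.cz χ := by
      rw [TwoDeg.mem_cz_iff, hθ, (TwoDeg.mem_cz_iff θ _).1 h1, hdθ]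
    rcases (TwoDeg.cz_normal χ).eq_bot_or_eq_top with h | h
    · rw [h, Subgroup.mem_bot] at h2
      exact hz (Subtype.ext (Subtype.ext h2))
    · have := (TwoDeg.mem_cz_iff_comm χ a).1 (h ▸ Subgroup.mem_top a) b
      rw [hker, Subgroup.mem_bot, mul_inv_eq_one, mul_inv_eq_iff_eq_mul] at this
      exact hab this
  · have := hlin ⟨a, ha⟩ ⟨b, hb⟩
    rw [hker, Subgroup.mem_bot] at this
    push_cast at this
    rw [mul_inv_eq_one, mul_inv_eq_iff_eq_mul] at this
    exact hab this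

end Cfsg.Agent.Char
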