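import Cfsg.Agent.Lib.Char.MathieuTwentyTwoBlock
import Cfsg.Agent.Lib.Char.DivisibleValue
import Cfsg.Agent.Lib.Spor.MathieuTwentyFourInvol
import Cfsg.Agent.Lib.Spor.MathieuTwentyFourCounts

/-!
# The principal 2-block of M24 is the only one
-/

set_option autoImplicit false
set_option linter.style.haveILetI false
set_option maxHeartbeats 1000000

namespace Cfsg.Agent.Char

open Cfsg
open scoped ComplexConjugate

theorem vanish_on_two_part {G : Type*} [Group G] [Finite G] {χ : G → ℂ}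
    (hvan : ∀ g, 2 ∣ orderOf g → χ g = 0) {T : Subgroup G} {a : ℕ} (hT : Nat.card T = 2 ^ a) {g : G}
    (hodd : ¬ 2 ∣ orderOf g) (hc : ∀ t ∈ T, t * g = g * t) :
    ∀ t ∈ T, t ≠ 1 → χ t = 0 ∧ χ (g * t) = 0 := by
  intro t ht ht1
  obtain ⟨b, -, hb⟩ := (Nat.dvd_prime_pow Nat.prime_two).1 (hT ▸ Subgroup.orderOf_dvd_natCard T ht)
  have hb0 : b ≠ 0 := fun h => ht1 (orderOf_eq_one_iff.1 (by rw [hb, h, pow_zero]))
  have h2 : 2 ∣ orderOf t := hb ▸ dvd_pow_self 2 hb0
  refine ⟨hvan t h2, hvan _ ?_⟩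
  have hco : (orderOf g).Coprime (orderOf t) := by
    rw [hb]; exact (((Nat.prime_two.coprime_iff_not_dvd).2 hodd).symm).pow_right b
  rw [(show Commute g t from (hc t ht).symm).orderOf_mul_eq_mul_orderOf_of_coprime hco]
  exact h2.mul_left _

/-- M24 has no character of 2-defect zero. -/
theorem no_defect_zero_m24 [Fintype M24] (χ : IrrCharacter M24) : ¬ 2 ^ 10 ∣ deg (χ : M24 → ℂ) := by
  classical
  intro h1024
  have hchar := irr_isCharacter χ.2
  set d := deg (χ : M24 → ℂ) with hd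
  set f : M24 → ℂ := (χ : M24 → ℂ) with hf
  have hcard : Nat.card M24 = 244823040 := Spor.card_M24
  have hvan : ∀ g, 2 ∣ orderOf g → f g = 0 := by
    intro g hg
    obtain ⟨n, ρ, hρ, e⟩ := χ.2
    haveI := hρ
    rw [hf, ← e]
    refine S0165.result ρ 2 10 Nat.prime_two (by rw [hcard]; norm_num) (by rw [hcard]; norm_num) ?_ g hg
    have h' := h1024
    rw [hd, hf, ← e, deg_character ρ] at h'
    exact h'
  have hnorm : ∑ g, ‖f g‖ ^ 2 = 244823040 := by
    have h := irr_self χ.2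
    rw [classInner, inv_mul_eq_iff_eq_mul₀ (Nat.cast_ne_zero.2 Nat.card_pos.ne'), mul_one, hcard] at h
    apply Complex.ofReal_injective
    push_cast
    rw [show (244823040 : ℂ) = ((244823040 : ℕ) : ℂ) by norm_num, ← h]
    exact Finset.sum_congr rfl fun g _ => by rw [Complex.mul_conj']
  set S : ℕ → Finset M24 := fun p => Finset.univ.filter (fun g => orderOf g = p) with hS
  have hsplit : (d : ℝ) ^ 2 + (∑ g ∈ S 5, ‖f g‖ ^ 2) + (∑ g ∈ S 7, ‖f g‖ ^ 2) + (∑ g ∈ S 11, ‖f g‖ ^ 2) +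
      (∑ g ∈ S 23, ‖f g‖ ^ 2) ≤ 244823040 := by
    rw [← hnorm]
    have h1 : (d : ℝ) ^ 2 = ∑ g ∈ S 1, ‖f g‖ ^ 2 := by
      rw [show S 1 = {1} from Finset.ext fun g => by simp [hS, orderOf_eq_one_iff], Finset.sum_singleton,
        char_one_eq_deg hchar, Complex.norm_natCast]
    rw [h1, ← Finset.sum_union, ← Finset.sum_union, ← Finset.sum_union, ← Finset.sum_union]
    · exact Finset.sum_le_sum_of_subset_of_nonneg (Finset.subset_univ _) fun g _ _ => sq_nonneg _
    all_goals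
      simp only [hS, Finset.disjoint_union_left]
      repeat' constructor
      all_goals exact Finset.disjoint_filter.2 fun g _ a => by omega
  have hq0 : ∀ p, 0 ≤ ∑ g ∈ S p, ‖f g‖ ^ 2 := fun p => Finset.sum_nonneg fun g _ => sq_nonneg _
  have hbound : ∀ (p a c r : ℕ), p.Prime → p ≠ 2 → c ≤ Nat.card {g : M24 // orderOf g = p} →
      (∀ g : M24, orderOf g = p →
        (∀ k : ℕ, ¬ p ∣ k → IsConj g (g ^ k) ∨ IsConj g⁻¹ (g ^ k)) ∧
          ∃ T : Subgroup M24, Nat.card T = 2 ^ a ∧ ∀ t ∈ T, t * g = g * t) →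
      (∀ N < r, ((2 ^ a) ^ 2 * N) % p ≠ d ^ 2 % p) →
      ((c * ((2 ^ a) ^ 2 * r) : ℕ) : ℝ) ≤ ∑ g ∈ S p, ‖f g‖ ^ 2 := by
    intro p a c r hp hp2 hc hfacts hr
    have hcS : c ≤ (S p).card := by
      refine hc.trans (le_of_eq ?_)
      rw [Nat.card_eq_fintype_card, Fintype.card_subtype]
    calc ((c * ((2 ^ a) ^ 2 * r) : ℕ) : ℝ) ≤ ((S p).card : ℝ) * (((2 ^ a) ^ 2 * r : ℕ) : ℝ) := by
          rw [Nat.cast_mul c]
          exact mul_le_mul_of_nonneg_right (by exact_mod_cast hcS) (Nat.cast_nonneg _)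
      _ ≤ ∑ g ∈ S p, ‖f g‖ ^ 2 := by
          rw [← nsmul_eq_mul, ← Finset.sum_const]
          refine Finset.sum_le_sum fun g hg => ?_
          have hgo : orderOf g = p := (Finset.mem_filter.1 hg).2
          obtain ⟨hgal, T, hT, hTc⟩ := hfacts g hgo
          have hodd : ¬ 2 ∣ orderOf g := by
            rw [hgo]; exact fun h => hp2 (((Nat.prime_dvd_prime_iff_eq Nat.prime_two hp).1 h).symm)
          obtain ⟨N, hN, hmod⟩ := normSq_value hchar hp hgo hgal T hTc
            (vanish_on_two_part hvan hT hodd hTc)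
          rw [hT] at hN hmod
          have hrN : r ≤ N := by
            by_contra hlt
            exact hr N (not_le.1 hlt) hmod.symm
          rw [hN]
          push_cast
          have : (r : ℝ) ≤ (N : ℝ) := by exact_mod_cast hrN
          gcongr
  have h5 : ∀ r, (∀ N < r, ((2 ^ 2) ^ 2 * N) % 5 ≠ d ^ 2 % 5) →
      ((4080384 * ((2 ^ 2) ^ 2 * r) : ℕ) : ℝ) ≤ ∑ g ∈ S 5, ‖f g‖ ^ 2 := fun r hr =>
    hbound 5 2 _ r (by norm_num) (by norm_num) Spor.M24Block.five_count (fun g hg => by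
      obtain ⟨hsq, T, hT, hTc⟩ := Spor.M24Block.five_facts hg
      exact ⟨Spor.M24Block.conj_powers (by simp) hg hsq, T, hT, hTc⟩) hr
  have h7 : ∀ r, (∀ N < r, ((2 ^ 1) ^ 2 * N) % 7 ≠ d ^ 2 % 7) →
      ((11658240 * ((2 ^ 1) ^ 2 * r) : ℕ) : ℝ) ≤ ∑ g ∈ S 7, ‖f g‖ ^ 2 := fun r hr =>
    hbound 7 1 _ r (by norm_num) (by norm_num) Spor.M24Block.seven_count (fun g hg => by
      obtain ⟨hsq, T, hT, hTc⟩ := Spor.M24Block.seven_facts' hg
      exact ⟨Spor.M24Block.conj_powers (by simp) hg hsq, T, hT, hTc⟩) hr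
  have h23 : ∀ r, (∀ N < r, ((2 ^ 0) ^ 2 * N) % 23 ≠ d ^ 2 % 23) →
      ((967680 * (23 - 1) * ((2 ^ 0) ^ 2 * r) : ℕ) : ℝ) ≤ ∑ g ∈ S 23, ‖f g‖ ^ 2 := fun r hr =>
    hbound 23 0 _ r (by norm_num) (by norm_num) (Spor.M24Block.big_count (Or.inr ⟨rfl, rfl⟩))
      (fun g hg => ⟨Spor.M24Block.conj_powers (by simp) hg (Spor.M24Block.twentythree_square hg), ⊥,
        by rw [Subgroup.card_bot, pow_zero], fun t ht => by rw [Subgroup.mem_bot.1 ht]; simp⟩) hr
  have h11 : ¬ 11 ∣ d → ((22256640 : ℕ) : ℝ) ≤ ∑ g ∈ S 11, ‖f g‖ ^ 2 := fun hpd => by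
    refine le_trans ?_ (count_le_normSq hchar (p := 11) (by norm_num) hpd)
    have h := Spor.M24Block.big_count (p := 11) (N := 2225664) (Or.inl ⟨rfl, rfl⟩)
    rw [Nat.card_eq_fintype_card, Fintype.card_subtype] at h
    exact_mod_cast h
  have hdG : d ∣ 244823040 := hcard ▸ deg_dvd_card χ.2
  have hd2 : d ^ 2 ≤ 244823040 := by
    have : (d : ℝ) ^ 2 ≤ 244823040 := by linarith [hq0 5, hq0 7, hq0 11, hq0 23]
    exact_mod_cast this
  obtain ⟨m, hm⟩ := h1024
  have hm15 : m ≤ 15 := by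
    rw [hm] at hd2
    nlinarith
  have e5 := hq0 5
  have e7 := hq0 7
  have e11 := hq0 11
  have e23 := hq0 23
  have hcases : m = 1 ∨ m = 3 ∨ m = 5 ∨ m = 7 ∨ m = 9 ∨ m = 11 ∨ m = 15 := by
    rw [hm] at hdG
    interval_cases m <;> revert hdG <;> norm_num
  rcases hcases with rfl | rfl | rfl | rfl | rfl | rfl | rfl <;> norm_num at hm <;> rw [hm] at hsplit
  · have a := h5 1 (by rw [hm]; decide)
    have b := h7 1 (by rw [hm]; decide)
    have c := h23 6 (by rw [hm]; decide)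
    have e := h11 (by rw [hm]; decide)
    norm_num at a b c e hsplit
    linarith
  · have b := h7 2 (by rw [hm]; decide)
    have c := h23 8 (by rw [hm]; decide)
    norm_num at b c hsplit
    linarith
  · have c := h23 12 (by rw [hm]; decide)
    norm_num at c hsplit
    linarith
  · have c := h23 18 (by rw [hm]; decide)
    norm_num at c hsplit
    linarith
  · have b := h7 4 (by rw [hm]; decide)
    have c := h23 3 (by rw [hm]; decide)
    norm_num at b c hsplit
    linarith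
  · have c := h23 13 (by rw [hm]; decide)
    norm_num at c hsplit
    linarith
  · have c := h23 16 (by rw [hm]; decide)
    norm_num at c hsplit
    linarith

/-- every 2-block of M24 is the principal one -/
theorem m24_block_principal [Fintype M24] {M : Ideal AlgInt} (hM : IsPModular 2 M)
    {B : Set (IrrCharacter M24)} (hB : IsPBlock M B) : B = principalBlock M M24 := by
  classical
  obtain ⟨D, hD⟩ := exists_isDefectGroup hM hB
  by_cases hne : D = ⊥
  · exfalso
    obtain ⟨χ, hχ⟩ := block_nonempty (pmod_prime hM) hB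
    have h0 : blockDefect 2 B = 0 := by
      have h := card_defectGroup hM hB hD
      rw [hne, Subgroup.card_bot] at h
      rcases Nat.eq_zero_or_pos (blockDefect 2 B) with h' | h'
      · exact h'
      · exact absurd h.symm (Nat.one_lt_two_pow h'.ne').ne'
    have hfac : (Nat.card M24).factorization 2 = 10 := by
      haveI : Fact (Nat.Prime 2) := ⟨Nat.prime_two⟩
      rw [Spor.card_M24, Nat.factorization_def _ Nat.prime_two,
        show (244823040 : ℕ) = 2 ^ 10 * 239085 by norm_num, padicValNat.mul (by norm_num) (by norm_num),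
        padicValNat.prime_pow, padicValNat.eq_zero_of_not_dvd (by norm_num)]
    refine no_defect_zero_m24 χ ((Nat.prime_two.pow_dvd_iff_le_factorization (deg_pos χ.2).ne').2 ?_)
    have hle : sInf ((fun ψ : IrrCharacter M24 => (charDegree (ψ : M24 → ℂ)).factorization 2) '' B) ≤
        (charDegree (χ : M24 → ℂ)).factorization 2 := Nat.sInf_le ⟨χ, hχ, rfl⟩
    rw [blockDefect, hfac] at h0
    show 10 ≤ (charDegree (χ : M24 → ℂ)).factorization 2
    omega
  · exact eq_principal_of_one_block hM hB hD hne fun z hz ξ ψ =>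
      sameBlock_of_constrained hM (Spor.M24Block.constrained hz) ξ ψ

end Cfsg.Agent.Char
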