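import Cfsg.Agent.Lib.Char.Rational
import Mathlib

/-!
Mean square bound for nonzero values on Galois stable sets.
-/

open scoped ComplexConjugate
open Cfsg

set_option autoImplicit false
set_option linter.style.haveILetI false
set_option linter.unusedSectionVars false

namespace Cfsg.Agent.Char

variable {G : Type*} [Group G] [Finite G]

/-- On a set stable under coprime powers, positive equivariant integral values have mean at least one. -/
theorem card_le_sum_of_galEquiv {T : G → ℂ} {r : G → ℝ} (hTF : GalEquiv T) (hI : ∀ x, IsIntegral ℤ (T x))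
    (hTv : ∀ x, T x = (r x : ℂ)) (S : Finset G)
    (hS : ∀ k : ℕ, k.Coprime (Nat.card G) → ∀ x ∈ S, x ^ k ∈ S) (hpos : ∀ x ∈ S, 0 < r x) :
    (S.card : ℝ) ≤ ∑ x ∈ S, r x := by
  classical
  choose hm hφ using hTF
  have hn : Nat.card G ≠ 0 := Nat.card_pos.ne'
  obtain ⟨q, hq⟩ := exists_rat_of_fixed hn (prod_mem (B := IntermediateField ℚ ℂ) (S := cyc (Nat.card G)) (t := S) (f := T) fun x _ => hm x) fun φ => by
    obtain ⟨k, hk, hμ⟩ := exists_power_of_embedding hn φ
    have e : (⟨∏ x ∈ S, T x, prod_mem fun x _ => hm x⟩ : cyc (Nat.card G)) =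
        ∏ x ∈ S, (⟨T x, hm x⟩ : cyc (Nat.card G)) := by
      ext; simp
    rw [e, map_prod, Finset.prod_congr rfl fun x _ => hφ x φ k hk hμ]
    exact Finset.prod_nbij' (fun x => x ^ k) (fun y => (powCoprime (Nat.Coprime.symm hk)).symm y)
      (hS k hk) (fun y hy => by
        obtain ⟨x, hx, hxy⟩ := Finset.surj_on_of_inj_on_of_card_le (fun x _ => x ^ k) (hS k hk)
          (fun a b _ _ hab => (powCoprime_bijective hk).injective hab) le_rfl y hy
        rw [hxy]
        convert hx using 1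
        exact (powCoprime (Nat.Coprime.symm hk)).symm_apply_apply x)
      (fun x _ => (powCoprime (Nat.Coprime.symm hk)).symm_apply_apply x)
      (fun y _ => (powCoprime (Nat.Coprime.symm hk)).apply_symm_apply y) (fun x _ => rfl)
  have hqI : IsIntegral ℤ (q : ℂ) := by
    rw [← hq]
    exact IsIntegral.prod _ fun x _ => hI x
  obtain ⟨z, rfl⟩ := isIntegral_rat_cast_imp hqI
  have hprod : ∏ x ∈ S, r x = (z : ℝ) := by
    apply Complex.ofReal_injective
    rw [Complex.ofReal_prod, ← Finset.prod_congr rfl fun x _ => hTv x, hq]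
    simp
  have h1 : (1 : ℝ) ≤ ∏ x ∈ S, r x := by
    have h0 : (0 : ℝ) < (z : ℝ) := hprod ▸ Finset.prod_pos hpos
    rw [hprod]
    exact_mod_cast (show (1 : ℤ) ≤ z by exact_mod_cast h0)
  have h2 : (0 : ℝ) ≤ ∑ x ∈ S, Real.log (r x) := by
    rw [← Real.log_prod (fun x hx => (hpos x hx).ne')]
    exact Real.log_nonneg h1
  have h3 : ∑ x ∈ S, Real.log (r x) ≤ ∑ x ∈ S, (r x - 1) :=
    Finset.sum_le_sum fun x hx => Real.log_le_sub_one_of_pos (hpos x hx)
  rw [Finset.sum_sub_distrib, Finset.sum_const, nsmul_one] at h3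
  linarith

theorem card_le_sum_norm_sq {F : G → ℂ} (hF : GalEquiv F) (hI : ∀ x, IsIntegral ℤ (F x))
    (hc : ∀ x, F x⁻¹ = conj (F x)) (S : Finset G)
    (hS : ∀ k : ℕ, k.Coprime (Nat.card G) → ∀ x ∈ S, x ^ k ∈ S) (hne : ∀ x ∈ S, F x ≠ 0) :
    (S.card : ℝ) ≤ ∑ x ∈ S, ‖F x‖ ^ 2 :=
  card_le_sum_of_galEquiv (galEquiv_mul hF (galEquiv_inv hF)) (fun x => (hI x).mul (hI x⁻¹))
    (fun x => by
      rw [Pi.mul_apply, hc, Complex.mul_conj']
      push_cast
      rfl) S hS fun x hx => pow_pos (norm_pos_iff.2 (hne x hx)) 2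

theorem pow_coprime_mem_iff (H : Subgroup G) {k : ℕ} (hk : k.Coprime (Nat.card G)) (x : G) :
    x ^ k ∈ H ↔ x ∈ H := by
  refine ⟨fun h => ?_, fun h => H.pow_mem h k⟩
  obtain ⟨m, hm⟩ := exists_pow_eq_self_of_coprime (x := x) (n := k) (hk.coprime_dvd_right (orderOf_dvd_natCard x))
  rw [← hm]
  exact H.pow_mem h m

/-- Zeros of a character are stable under coprime powers. -/
theorem ne_zero_pow_of_galEquiv {F : G → ℂ} (hF : GalEquiv F) {k : ℕ} (hk : k.Coprime (Nat.card G))
    {x : G} (hx : F x ≠ 0) : F (x ^ k) ≠ 0 := by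
  obtain ⟨hm, hφ⟩ := hF x
  obtain ⟨φ, hφk⟩ := exists_embedding_of_power (Nat.card_pos (α := G)).ne' hk
  rw [← hφ φ k hk hφk]
  intro h0
  exact hx (congrArg Subtype.val (show (⟨F x, hm⟩ : cyc (Nat.card G)) = 0 from
    φ.toRingHom.injective (h0.trans (map_zero φ.toRingHom).symm)))

end Cfsg.Agent.Char
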