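import Cfsg.Agent.Lib.Spor.MathieuTwentyTwoCounts
import Cfsg.Agent.Lib.Char.OneBlock
import Cfsg.Agent.Lib.Char.ThirdMain
import Cfsg.Agent.Lib.Char.FirstMain
import Cfsg.Agent.Lib.Char.Defect
import Cfsg.Agent.Lib.Char.Zeros
import Cfsg.Agent.S0165

/-!
# The principal 2-block of M22 is the only one
-/

set_option autoImplicit false
set_option linter.style.haveILetI false
set_option maxHeartbeats 1000000

namespace Cfsg.Agent.Char

open Cfsg
open scoped ComplexConjugate

universe u

section General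

variable {G : Type u} [Group G] [Fintype G] {M : Ideal AlgInt} {p : ℕ}

/-- A block of positive defect is principal when every centralizer of an element of order `p`
has only one block. -/
theorem eq_principal_of_one_block (hM : IsPModular p M) {B : Set (IrrCharacter G)}
    (hB : IsPBlock M B) {D : Subgroup G} (hD : IsDefectGroup p M B D) (hne : D ≠ ⊥)
    (h : ∀ z : G, orderOf z = p → ∀ ξ ψ : IrrCharacter (Subgroup.centralizer ({z} : Set G)),
      SameBlock M (ξ : Subgroup.centralizer ({z} : Set G) → ℂ) (ψ : Subgroup.centralizer ({z} : Set G) → ℂ)) :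
    B = principalBlock M G := by
  classical
  haveI := Fact.mk hM.1
  have hMp := pmod_prime hM
  haveI : Nontrivial D := D.nontrivial_iff_ne_bot.2 hne
  obtain ⟨n, hn⟩ := (isDefectGroup_iff B D).mp hD |>.choose_spec.2.isPGroup.exists_card_eq
  have hn0 : n ≠ 0 := fun h0 => hne (Subgroup.card_eq_one.1 (by rw [hn, h0, pow_zero]))
  obtain ⟨z, hz⟩ := exists_prime_orderOf_dvd_card' (G := D) p (hn ▸ dvd_pow_self p hn0)
  set P := Subgroup.zpowers (z : G) with hP
  have hPD : P ≤ D := Subgroup.zpowers_le.2 z.2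
  have hPp : IsPGroup p P := IsPGroup.of_card (n := 1) (by
    rw [hP, Nat.card_zpowers, Subgroup.orderOf_coe, hz, pow_one])
  obtain ⟨e, he⟩ := exists_pair_of_le_defect hM hB hD hPD
  have hcent : Subgroup.centralizer (P : Set G) = Subgroup.centralizer ({(z : G)} : Set G) := by
    ext c
    rw [Subgroup.mem_centralizer_singleton_iff, Subgroup.mem_centralizer_iff]
    constructor
    · exact fun hc => (hc _ (Subgroup.mem_zpowers _)).symm
    · intro hc x hx
      obtain ⟨i, rfl⟩ := Subgroup.mem_zpowers_iff.1 hx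
      exact ((show Commute c (z : G) from hc).zpow_right i).symm.eq
  have hone : ∀ H : Subgroup G, H = Subgroup.centralizer ({(z : G)} : Set G) →
      ∀ ξ ψ : IrrCharacter H, SameBlock M (ξ : H → ℂ) (ψ : H → ℂ) := by
    rintro _ rfl
    exact h _ (by rw [Subgroup.orderOf_coe]; exact hz)
  haveI := Fintype.ofFinite (Subgroup.centralizer (P : Set G))
  have heq : e = principalBlock M (Subgroup.centralizer (P : Set G)) := by
    obtain ⟨ξ, hξ⟩ := block_nonempty hMp he.1.2
    exact (eq_principal_iff hM he.1.2 hξ).2 (hone _ hcent ⟨fun _ => 1, isIrrCharacter_one⟩ ξ)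
  have hpr : IsBrauerPairOf p M (principalBlock M G) P
      (principalBlock M (Subgroup.centralizer (P : Set G))) := by
    refine ⟨⟨hPp, isPBlock_principalBlock M⟩, isPBlock_principalBlock M, fun ξ hξ => ?_⟩
    have key : brauerOmega P (blockCoeff (principalBlock M G)) (ξ : _ → ℂ) =
        brLam P (Subgroup.centralizer (P : Set G)) (ξ : _ → ℂ) (blockCoeff (principalBlock M G)) := by
      rw [brauerOmega, finsum_eq_sum_of_fintype, brLam, lam, Finset.sum_div]
      exact Finset.sum_congr rfl fun x _ => by rw [brRes, if_pos x.2]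
    rw [key]
    exact (third_main_brauer hM hPp ξ).mpr hξ
  exact pairOf_unique hM (heq ▸ he) hpr

/-- the sum of a character over a subgroup -/
theorem exists_sum_subgroup {χ : G → ℂ} (hχ : IsCharacter G χ) (H : Subgroup G) [Fintype H] :
    ∃ m : ℕ, ∑ x : H, χ x = (Nat.card H : ℂ) * m := by
  obtain ⟨m, hm⟩ := classInner_natCast (isCharacter_comp H.subtype hχ) (isCharacter_one (G := H))
  refine ⟨m, ?_⟩
  simp only [classInner, map_one, mul_one, Function.comp_apply, Subgroup.coe_subtype] at hm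
  rw [← hm, mul_inv_cancel_left₀ (Nat.cast_ne_zero.mpr Nat.card_pos.ne')]

/-- elements of one prime order dividing the group order only once -/
theorem sum_prime_order {χ : G → ℂ} (hχ : IsCharacter G χ) (hcls : IsClassFunction G χ)
    (hp : p.Prime) (hfac : (Nat.card G).factorization p = 1) :
    ∃ s : ℤ, (p : ℤ) ∣ s + deg χ ∧
      ((p - 1 : ℕ) : ℂ) * ∑ g ∈ Finset.univ.filter (fun g : G => orderOf g = p), χ g =
        ((Finset.univ.filter (fun g : G => orderOf g = p)).card : ℂ) * s := by
  classical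
  haveI := Fact.mk hp
  set S := Finset.univ.filter (fun g : G => orderOf g = p) with hS
  obtain ⟨P⟩ : Nonempty (Sylow p G) := inferInstance
  obtain ⟨m, hm⟩ := exists_sum_subgroup hχ (P : Subgroup G)
  have hPcard : Nat.card (P : Subgroup G) = p := by rw [P.card_eq_multiplicity, hfac, pow_one]
  refine ⟨(p : ℤ) * m - deg χ, ⟨m, by ring⟩, ?_⟩
  have hrange : ∀ g ∈ S, ∑ i ∈ Finset.range p, χ (g ^ i) = (p : ℂ) * m := by
    intro g hg
    have hgo : orderOf g = p := (Finset.mem_filter.1 hg).2
    let Q : Sylow p G := Sylow.ofCard (Subgroup.zpowers g)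
      ((Nat.card_zpowers g).trans (by rw [hgo, hfac, pow_one]))
    obtain ⟨c, hc⟩ := MulAction.exists_smul_eq G P Q
    have hQ : (Q : Subgroup G) = Subgroup.zpowers g := rfl
    have hmem : ∀ x : G, x ∈ Subgroup.zpowers g ↔ c⁻¹ * x * c ∈ (P : Subgroup G) := by
      intro x
      rw [← hQ, ← hc, Sylow.coe_subgroup_smul, Subgroup.mem_pointwise_smul_iff_inv_smul_mem]
      simp [MulAut.smul_def, MulAut.conj_inv_apply]
    have h1 : ∑ x : Subgroup.zpowers g, χ x = ∑ x : (P : Subgroup G), χ x := by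
      refine Fintype.sum_equiv
        { toFun := fun x : Subgroup.zpowers g => (⟨c⁻¹ * x * c, (hmem _).1 x.2⟩ : (P : Subgroup G))
          invFun := fun y => ⟨c * y * c⁻¹, (hmem _).2 (by simpa [mul_assoc] using y.2)⟩
          left_inv := fun x => Subtype.ext (by group)
          right_inv := fun y => Subtype.ext (by group) } _ _ fun x => ?_
      have h := hcls (x : G) c⁻¹
      rw [inv_inv] at h
      exact h.symm
    rw [← hPcard, ← hm, ← h1, hPcard, ← hgo, Finset.sum_range]
    exact Fintype.sum_equiv (finEquivZPowers (isOfFinOrder_of_finite g)) _ _ fun i => rfl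
  have hstep : ∀ g ∈ S, ∑ i ∈ Finset.Ico 1 p, χ (g ^ i) = ((((p : ℤ) * m - deg χ : ℤ)) : ℂ) := by
    intro g hg
    have h := hrange g hg
    rw [Finset.range_eq_Ico, Finset.sum_eq_sum_Ico_succ_bot hp.pos, pow_zero,
      char_one_eq_deg hχ] at h
    push_cast
    linear_combination h
  calc ((p - 1 : ℕ) : ℂ) * ∑ g ∈ S, χ g = ∑ i ∈ Finset.Ico 1 p, ∑ g ∈ S, χ (g ^ i) := by
        symm
        rw [Finset.sum_congr rfl (g := fun _ => ∑ g ∈ S, χ g), Finset.sum_const, Nat.card_Ico, nsmul_eq_mul]
        intro i hi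
        obtain ⟨hi1, hi2⟩ := Finset.mem_Ico.1 hi
        have hco : i.Coprime p := ((hp.coprime_iff_not_dvd).2 fun hd =>
          absurd (Nat.le_of_dvd (by omega) hd) (by omega)).symm
        have hmap : ∀ g ∈ S, g ^ i ∈ S := fun g hg => by
          refine Finset.mem_filter.2 ⟨Finset.mem_univ _, ?_⟩
          rw [orderOf_pow' g (by omega), (Finset.mem_filter.1 hg).2, hco.symm.gcd_eq_one, Nat.div_one]
        refine Finset.sum_bij (fun g _ => g ^ i) hmap (fun a ha b hb e => ?_) (fun b hb => ?_)
          fun _ _ => rfl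
        · obtain ⟨j, hj⟩ := exists_pow_eq_self_of_coprime (x := a) (n := i)
            (by rw [(Finset.mem_filter.1 ha).2]; exact hco)
          obtain ⟨j', hj'⟩ := Nat.exists_mul_mod_eq_one_of_coprime hco hp.one_lt
          have key : ∀ x ∈ S, (x ^ i) ^ j' = x := fun x hx => by
            rw [← pow_mul, ← pow_mod_orderOf, (Finset.mem_filter.1 hx).2, hj'.2, pow_one]
          rw [← key a ha, ← key b hb, e]
        · obtain ⟨j', hj'⟩ := Nat.exists_mul_mod_eq_one_of_coprime hco hp.one_lt
          refine ⟨b ^ j', ?_, ?_⟩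
          · refine Finset.mem_filter.2 ⟨Finset.mem_univ _, orderOf_eq_prime ?_ fun h1 => ?_⟩
            · rw [← pow_mul, mul_comm, pow_mul, orderOf_dvd_iff_pow_eq_one.1
                (dvd_of_eq (Finset.mem_filter.1 hb).2), one_pow]
            · have h2 : b = 1 := by
                have h3 : (b ^ i) ^ j' = b := by
                  rw [← pow_mul, ← pow_mod_orderOf, (Finset.mem_filter.1 hb).2, hj'.2, pow_one]
                rw [← h3, ← pow_mul, mul_comm, pow_mul, h1, one_pow]
              have := (Finset.mem_filter.1 hb).2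
              rw [h2, orderOf_one] at this
              exact hp.one_lt.ne this
          · rw [← pow_mul, mul_comm, ← pow_mod_orderOf, (Finset.mem_filter.1 hb).2, hj'.2, pow_one]
    _ = ∑ g ∈ S, ∑ i ∈ Finset.Ico 1 p, χ (g ^ i) := Finset.sum_comm
    _ = _ := by rw [Finset.sum_congr rfl hstep, Finset.sum_const, nsmul_eq_mul]

/-- a character is nonzero on elements of prime order not dividing its degree -/
theorem ne_zero_of_prime_order {χ : G → ℂ} (hχ : IsCharacter G χ) (hp : p.Prime)
    (hpd : ¬ p ∣ deg χ) {g : G} (hg : orderOf g = p) : χ g ≠ 0 := by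
  classical
  intro h0
  apply hpd
  have hpow : ∀ i, 1 ≤ i → i < p → χ (g ^ i) = 0 := by
    intro i h1 h2
    obtain ⟨a, m, hpm, hG⟩ : ∃ a m, ¬ p ∣ m ∧ Nat.card G = p ^ a * m :=
      ⟨(Nat.card G).factorization p, Nat.card G / p ^ (Nat.card G).factorization p,
        Nat.not_dvd_ordCompl hp Nat.card_pos.ne', (Nat.ordProj_mul_ordCompl_eq_self _ _).symm⟩
    obtain ⟨k, hk1, hk2⟩ := Nat.chineseRemainder ((hp.coprime_iff_not_dvd).2 hpm) i 1
    have hkp : ¬ p ∣ k := fun hd => by
      have := hk1.symm.trans (Nat.modEq_zero_iff_dvd.2 hd)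
      exact absurd (Nat.le_of_dvd (by omega) (Nat.modEq_zero_iff_dvd.1 this)) (by omega)
    have hco : k.Coprime (Nat.card G) := by
      rw [hG]
      refine Nat.Coprime.mul_right (((hp.coprime_iff_not_dvd).2 hkp).symm.pow_right a) ?_
      rw [Nat.coprime_iff_gcd_eq_one, Nat.ModEq.gcd_eq hk2, Nat.gcd_one_left]
    have hki : g ^ k = g ^ i := by
      rw [← pow_mod_orderOf, hg, hk1, ← hg, pow_mod_orderOf]
    by_contra hne
    rw [← hki] at hne
    have hback := hne
    obtain ⟨hm, hφ⟩ := galEquiv_char hχ g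
    obtain ⟨φ, hφk⟩ := exists_embedding_of_power (Nat.card_pos (α := G)).ne' hco
    rw [← hφ φ k hco hφk] at hne
    exact hne (by
      rw [show (⟨χ g, hm⟩ : cyc (Nat.card G)) = 0 from Subtype.ext h0, map_zero])
  obtain ⟨m, hm⟩ := exists_sum_subgroup hχ (Subgroup.zpowers g)
  have h1 : ∑ x : Subgroup.zpowers g, χ x = ∑ i ∈ Finset.range p, χ (g ^ i) := by
    rw [← hg, Finset.sum_range]
    exact (Fintype.sum_equiv (finEquivZPowers (isOfFinOrder_of_finite g)) _ _ fun i => rfl).symm
  rw [h1, Finset.sum_eq_single 0 (fun i hi h => hpow i (Nat.pos_of_ne_zero h) (Finset.mem_range.1 hi))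
    (fun h => absurd (Finset.mem_range.2 hp.pos) h), pow_zero, char_one_eq_deg hχ,
    Nat.card_zpowers, hg] at hm
  exact ⟨m, by exact_mod_cast hm⟩

/-- the squared values on elements of one prime order -/
theorem count_le_normSq {χ : G → ℂ} (hχ : IsCharacter G χ) (hp : p.Prime) (hpd : ¬ p ∣ deg χ) :
    ((Finset.univ.filter (fun g : G => orderOf g = p)).card : ℝ) ≤
      ∑ g ∈ Finset.univ.filter (fun g : G => orderOf g = p), ‖χ g‖ ^ 2 := by
  classical
  refine card_le_sum_norm_sq (galEquiv_char hχ) (char_isIntegral hχ) (char_inv hχ) _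
    (fun k hk g hg => ?_) fun g hg => ne_zero_of_prime_order hχ hp hpd (Finset.mem_filter.1 hg).2
  refine Finset.mem_filter.2 ⟨Finset.mem_univ _, ?_⟩
  rw [Nat.Coprime.orderOf_pow ((hk.coprime_dvd_right (orderOf_dvd_natCard g)).symm)]
  exact (Finset.mem_filter.1 hg).2

end General

section M22

open Spor.M22Cent

local notation "G22" => Subtype (fun x => x ∈ Cfsg.Spor.M22)

theorem four_dvd_value {χ : G22 → ℂ} (hχ : IsCharacter G22 χ)
    (hvan : ∀ g, 2 ∣ orderOf g → χ g = 0) (hd : 4 ∣ deg χ) {y : G22} (hy : orderOf y = 3)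
    {V : Subgroup G22} (hV : Nat.card V = 4) (hc : ∀ v ∈ V, v * y = y * v) (hinv : IsConj y y⁻¹) :
    ∃ v : ℤ, χ y = v ∧ (4 : ℤ) ∣ v := by
  classical
  obtain ⟨c, hc'⟩ := isConj_iff.1 hinv
  have hcls := isClassFunction_character hχ
  have hy2 : y⁻¹ = y ^ 2 := by
    refine inv_eq_of_mul_eq_one_right ?_
    rw [← pow_succ']
    have h3 := pow_orderOf_eq_one y
    rw [hy] at h3
    exact h3
  have hval : χ (y ^ 2) = χ y := by
    rw [← hy2, ← hc', hcls]
  -- the product homomorphism
  haveI := Fintype.ofFinite V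
  haveI := Fintype.ofFinite (Subgroup.zpowers y)
  let φ : Subgroup.zpowers y × V →* G22 :=
    MonoidHom.noncommCoprod (Subgroup.zpowers y).subtype V.subtype fun a v => by
      obtain ⟨i, hi⟩ := Subgroup.mem_zpowers_iff.1 a.2
      show Commute (a : G22) (v : G22)
      rw [← hi]
      exact (show Commute y (v : G22) from (hc v v.2).symm).zpow_left i
  -- a nontrivial linear character of the cyclic factor
  have hgen : ∀ a : Subgroup.zpowers y, a ∈ Subgroup.zpowers (⟨y, Subgroup.mem_zpowers y⟩ : Subgroup.zpowers y) := by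
    rintro ⟨a, ha⟩
    obtain ⟨i, rfl⟩ := Subgroup.mem_zpowers_iff.1 ha
    exact Subgroup.mem_zpowers_iff.2 ⟨i, Subtype.ext (by simp)⟩
  obtain ⟨ω, hω⟩ : ∃ ω : ℂ, IsPrimitiveRoot ω 3 := ⟨_, Complex.isPrimitiveRoot_exp 3 (by norm_num)⟩
  have hω3 : orderOf (hω.isUnit (by norm_num)).unit ∣ orderOf (⟨y, Subgroup.mem_zpowers y⟩ : Subgroup.zpowers y) := by
    rw [Subgroup.orderOf_mk, hy]
    refine orderOf_dvd_of_pow_eq_one (Units.ext ?_)
    rw [Units.val_pow_eq_pow_val, IsUnit.unit_spec, hω.pow_eq_one, Units.val_one]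
  let l : Subgroup.zpowers y →* ℂˣ := monoidHomOfForallMemZpowers hgen hω3
  obtain ⟨n, hn⟩ := classInner_natCast (isCharacter_comp φ hχ)
    (isCharacter_linear (l.comp (MonoidHom.fst (Subgroup.zpowers y) V)))
  -- evaluate the inner product
  have hodd : ∀ (a : Subgroup.zpowers y) (v : V), v ≠ 1 → χ (φ (a, v)) = 0 := by
    intro a v hv
    refine hvan _ ?_
    by_contra hd2
    have hφ : φ (a, v) = (a : G22) * (v : G22) := rfl
    obtain ⟨i, hi⟩ := Subgroup.mem_zpowers_iff.1 a.2
    have hav : Commute (a : G22) (v : G22) := by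
      rw [← hi]; exact (show Commute y (v : G22) from (hc v v.2).symm).zpow_left i
    have ha3 : (a : G22) ^ 3 = 1 := by
      rw [← hi, ← zpow_natCast, zpow_comm, zpow_natCast,
        ← hy, pow_orderOf_eq_one, one_zpow]
    have hv4 : orderOf (v : G22) ∣ 4 := hV ▸ Subgroup.orderOf_dvd_natCard V v.2
    have h1 : (v : G22) ^ (orderOf (φ (a, v)) * 3) = 1 := by
      have h2 : ((a : G22) * v) ^ (orderOf (φ (a, v)) * 3) = 1 := by
        rw [pow_mul, ← hφ, pow_orderOf_eq_one, one_pow]
      rw [hav.mul_pow, mul_comm _ 3, pow_mul (a : G22), ha3, one_pow, one_mul, mul_comm 3] at h2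
      exact h2
    have h3 : orderOf (v : G22) = 1 := by
      refine Nat.eq_one_of_dvd_coprimes ?_ hv4 (orderOf_dvd_of_pow_eq_one h1)
      refine Nat.Coprime.mul_right ?_ (by norm_num)
      rw [show (4 : ℕ) = 2 ^ 2 by norm_num]
      exact ((Nat.prime_two.coprime_iff_not_dvd).2 hd2).pow_left 2
    exact hv (Subtype.ext (orderOf_eq_one_iff.1 h3))
  have hy0 : y ≠ 1 := fun h => by rw [h, orderOf_one] at hy; norm_num at hy
  have hsum : ∑ a : Subgroup.zpowers y, χ a * conj (l a : ℂ) = (deg χ : ℂ) - χ y := by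
    rw [← Fintype.sum_equiv (finEquivZPowers (isOfFinOrder_of_finite y))
      (fun i : Fin (orderOf y) => χ (y ^ (i : ℕ)) * conj (ω ^ (i : ℕ))) _ fun i => ?_]
    · rw [← Finset.sum_range (fun i => χ (y ^ i) * conj (ω ^ i)), hy, Finset.sum_range_succ,
        Finset.sum_range_succ, Finset.sum_range_one, pow_zero, pow_zero, map_one, mul_one,
        char_one_eq_deg hχ, pow_one, pow_one, hval, add_assoc, ← mul_add, ← map_add]
      have h3 : ω + ω ^ 2 = -1 := by
        have := hω.geom_sum_eq_zero (by norm_num)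
        rw [Finset.sum_range_succ, Finset.sum_range_succ, Finset.sum_range_one, pow_zero, pow_one] at this
        linear_combination this
      rw [h3, map_neg, map_one]; ring
    · have e : finEquivZPowers (isOfFinOrder_of_finite y) i =
          (⟨y, Subgroup.mem_zpowers y⟩ : Subgroup.zpowers y) ^ (i : ℕ) := Subtype.ext rfl
      have hl : l ⟨y, Subgroup.mem_zpowers y⟩ = (hω.isUnit (by norm_num)).unit :=
        monoidHomOfForallMemZpowers_apply_gen hgen hω3
      rw [e, map_pow l, hl, Units.val_pow_eq_pow_val, IsUnit.unit_spec, map_pow]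
      rfl
  have hval' : χ y = (deg χ : ℂ) - 12 * n := by
    have h : classInner (χ ∘ φ) (fun x : Subgroup.zpowers y × V => ((l.comp (MonoidHom.fst _ V)) x : ℂ)) =
        (12 : ℂ)⁻¹ * ((deg χ : ℂ) - χ y) := by
      rw [classInner, Nat.card_prod, Nat.card_zpowers, hy, hV, Fintype.sum_prod_type, ← hsum]
      norm_num
      refine Finset.sum_congr rfl fun a _ => ?_
      rw [Finset.sum_eq_single (1 : V) (fun v _ hv => by rw [hodd a v hv, zero_mul]) (by simp)]
      simp [φ]
    have h' := hn.symm.trans h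
    field_simp at h'
    linear_combination h'
  refine ⟨(deg χ : ℤ) - 12 * n, by rw [hval']; push_cast; ring, ?_⟩
  exact Int.dvd_sub (by exact_mod_cast hd) ⟨3 * n, by ring⟩

/-- M22 has no character of 2-defect zero. -/
theorem no_defect_zero_m22 (χ : IrrCharacter G22) : ¬ 2 ^ 7 ∣ deg (χ : G22 → ℂ) := by
  classical
  intro h128
  haveI : Fintype G22 := Fintype.ofFinite _
  have hchar := irr_isCharacter χ.2
  set d := deg (χ : G22 → ℂ) with hd
  set f : G22 → ℂ := (χ : G22 → ℂ) with hf
  have hcard : Nat.card G22 = 443520 := Local.FS.Mathieu.card_m22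
  have hvan : ∀ g, 2 ∣ orderOf g → f g = 0 := by
    intro g hg
    obtain ⟨n, ρ, hρ, e⟩ := χ.2
    haveI := hρ
    rw [hf, ← e]
    refine S0165.result ρ 2 7 Nat.prime_two (by rw [hcard]; norm_num) (by rw [hcard]; norm_num) ?_ g hg
    have h' := h128
    rw [hd, hf, ← e, deg_character ρ] at h'
    exact h'
  have hf1 : f 1 = (d : ℂ) := char_one_eq_deg hchar
  set S : ℕ → Finset G22 := fun p => Finset.univ.filter (fun g => orderOf g = p) with hS
  set q : ℕ → ℝ := fun p => ∑ g ∈ S p, ‖f g‖ ^ 2 with hq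
  set U : Finset G22 := Finset.univ.filter (fun g => ¬ (orderOf g = 1 ∨ orderOf g = 3 ∨ orderOf g = 5 ∨
    orderOf g = 7 ∨ orderOf g = 11)) with hU
  have hsplit : ∀ {α : Type} [AddCommMonoid α] (F : G22 → α),
      ∑ g, F g = F 1 + (∑ g ∈ S 3, F g) + (∑ g ∈ S 5, F g) + (∑ g ∈ S 7, F g) + (∑ g ∈ S 11, F g) +
        ∑ g ∈ U, F g := by
    intro α _ F
    have h1 : F 1 = ∑ g ∈ S 1, F g := by
      rw [show S 1 = {1} from Finset.ext fun g => by simp [hS, orderOf_eq_one_iff], Finset.sum_singleton]
    rw [h1, ← Finset.sum_union (by simp only [hS]; exact Finset.disjoint_filter.2 fun g _ a => by omega),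
      ← Finset.sum_union, ← Finset.sum_union, ← Finset.sum_union, ← Finset.sum_union]
    · refine Finset.sum_congr (Finset.ext fun g => ?_) fun _ _ => rfl
      simp only [hS, hU, Finset.mem_union, Finset.mem_filter, Finset.mem_univ, true_and, true_iff]
      tauto
    all_goals
      simp only [hS, hU, Finset.disjoint_union_left]
      repeat' constructor
      all_goals exact Finset.disjoint_filter.2 fun g _ a => by omega
  have hnorm : ∑ g, ‖f g‖ ^ 2 = 443520 := by
    have h := irr_self χ.2
    rw [classInner, inv_mul_eq_iff_eq_mul₀ (Nat.cast_ne_zero.2 Nat.card_pos.ne'), mul_one, hcard] at h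
    apply Complex.ofReal_injective
    push_cast
    rw [show (443520 : ℂ) = ((443520 : ℕ) : ℂ) by norm_num, ← h]
    exact Finset.sum_congr rfl fun g _ => by rw [Complex.mul_conj']
  rw [hsplit, hf1, Complex.norm_natCast] at hnorm
  have hq0 : ∀ p, 0 ≤ q p := fun p => Finset.sum_nonneg fun g _ => sq_nonneg _
  have hU0 : 0 ≤ ∑ g ∈ U, ‖f g‖ ^ 2 := Finset.sum_nonneg fun g _ => sq_nonneg _
  -- counts
  have hcount : ∀ {p N : ℕ}, ((p = 5 ∧ N = 22176) ∨ (p = 7 ∧ N = 21120) ∨ (p = 11 ∧ N = 8064)) →
      (N * (p - 1) : ℝ) ≤ ((S p).card : ℝ) := by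
    intro p N h
    have h1 := count_prime h
    rw [Nat.card_eq_fintype_card, Fintype.card_subtype] at h1
    have h2 : ((N * (p - 1) : ℕ) : ℝ) ≤ ((S p).card : ℝ) := by exact_mod_cast h1
    rcases h with ⟨rfl, rfl⟩ | ⟨rfl, rfl⟩ | ⟨rfl, rfl⟩ <;> norm_num at h2 ⊢ <;> linarith
  have hc5 := hcount (Or.inl ⟨rfl, rfl⟩)
  have hc7 := hcount (Or.inr (Or.inl ⟨rfl, rfl⟩))
  have hc11 := hcount (Or.inr (Or.inr ⟨rfl, rfl⟩))
  norm_num at hc5 hc7 hc11
  have hlow : ∀ (p m : ℕ), p.Prime → m ≤ (S p).card → ¬ p ∣ d → (m : ℝ) ≤ ∑ g ∈ S p, ‖f g‖ ^ 2 := by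
    intro p m hp hm hpd
    exact le_trans (by exact_mod_cast hm) (count_le_normSq hchar hp hpd)
  -- the degree
  have hdG : d ∣ 443520 := hcard ▸ deg_dvd_card χ.2
  have hd2 : (d : ℝ) ^ 2 ≤ 443520 := by
    nlinarith [hq0 3, hq0 5, hq0 7, hq0 11]
  have hd2' : d ^ 2 ≤ 443520 := by exact_mod_cast hd2
  have hcases : d = 128 ∨ d = 384 ∨ d = 640 := by
    obtain ⟨j, hj⟩ := h128
    rw [hj] at hdG hd2' ⊢
    have hj1 : j ≤ 5 := by nlinarith
    interval_cases j <;> revert hdG <;> norm_num
  rcases hcases with h | h | h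
  · -- degree 128: the elements of order three contribute too much
    obtain ⟨y, -, hy, -, ⟨V, hV, hVc⟩, hinv⟩ := exists_three
    obtain ⟨v, hv, hv4⟩ := four_dvd_value hchar hvan (by rw [← hd, h]; norm_num) hy hV hVc hinv
    have hvne : v ≠ 0 := fun h0 => ne_zero_of_prime_order hchar Nat.prime_three
      (by rw [← hd, h]; norm_num) hy (by rw [hv, h0, Int.cast_zero])
    have hv16 : (16 : ℝ) ≤ ‖f y‖ ^ 2 := by
      obtain ⟨w, rfl⟩ := hv4
      have hw : 1 ≤ w ^ 2 := by
        have : w ≠ 0 := fun h0 => hvne (by rw [h0, mul_zero])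
        exact Int.add_one_le_iff.2 (lt_of_le_of_ne (sq_nonneg w) (pow_ne_zero 2 this).symm)
      rw [hv, Complex.norm_intCast, sq_abs]
      have : (1 : ℝ) ≤ (w : ℝ) ^ 2 := by exact_mod_cast hw
      push_cast
      nlinarith
    have hclass : 12320 * 16 ≤ q 3 := by
      set T := Finset.univ.filter (fun g : G22 => IsConj y g) with hT
      have hTcard : 12320 ≤ T.card := by
        have horb : Nat.card (MulAction.orbit (ConjAct G22) y) *
            Nat.card (MulAction.stabilizer (ConjAct G22) y) = Nat.card G22 := by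
          rw [← Nat.card_prod]
          exact Nat.card_congr (MulAction.orbitProdStabilizerEquivGroup (ConjAct G22) y)
        have e1 : Nat.card (MulAction.orbit (ConjAct G22) y) = T.card := by
          rw [← Nat.card_eq_finsetCard]
          exact Nat.card_congr (Equiv.subtypeEquivRight fun g => by
            rw [ConjAct.mem_orbit_conjAct, hT, Finset.mem_filter]; exact ⟨fun e => ⟨Finset.mem_univ _, isConj_comm.1 e⟩, fun e => isConj_comm.1 e.2⟩)
        have e2 : Nat.card (MulAction.stabilizer (ConjAct G22) y) =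
            Nat.card (Subgroup.centralizer ({y} : Set G22)) := by
          rw [ConjAct.stabilizer_eq_centralizer]
          exact Nat.card_congr (Equiv.refl _)
        rw [e1, e2, hcard] at horb
        nlinarith [card_centralizer_three hy]
      have hsub : T ⊆ S 3 := fun g hg => by
        obtain ⟨c, rfl⟩ := isConj_iff.1 (Finset.mem_filter.1 hg).2
        refine Finset.mem_filter.2 ⟨Finset.mem_univ _, ?_⟩
        rw [← MulAut.conj_apply, ← hy]
        exact orderOf_injective (MulAut.conj c).toMonoidHom (MulEquiv.injective _) y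
      calc (12320 * 16 : ℝ) ≤ (T.card : ℝ) * 16 := by
            have : (12320 : ℝ) ≤ (T.card : ℝ) := by exact_mod_cast hTcard
            linarith
        _ ≤ ∑ g ∈ T, ‖f g‖ ^ 2 := by
            rw [← nsmul_eq_mul, ← Finset.sum_const]
            refine Finset.sum_le_sum fun g hg => ?_
            obtain ⟨c, rfl⟩ := isConj_iff.1 (Finset.mem_filter.1 hg).2
            rw [isClassFunction_character hchar y c]
            exact hv16
        _ ≤ q 3 := Finset.sum_le_sum_of_subset_of_nonneg hsub fun g _ _ => sq_nonneg _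
    have h5 := hlow 5 _ (by norm_num) hc5 (by rw [h]; norm_num)
    have h7 := hlow 7 _ (by norm_num) hc7 (by rw [h]; norm_num)
    have h11 := hlow 11 _ (by norm_num) hc11 (by rw [h]; norm_num)
    rw [h] at hnorm
    norm_num at hnorm h5 h7 h11
    simp only [hq] at hclass
    linarith
  · -- degree 384: equality everywhere
    have h5 := hlow 5 _ (by norm_num) hc5 (by rw [h]; norm_num)
    have h7 := hlow 7 _ (by norm_num) hc7 (by rw [h]; norm_num)
    have h11 := hlow 11 _ (by norm_num) hc11 (by rw [h]; norm_num)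
    rw [h] at hnorm
    norm_num at hnorm h5 h7 h11
    have h30 := hq0 3
    simp only [hq] at h30
    have hUz : ∀ g ∈ U, f g = 0 := fun g hg => by
      have := (Finset.sum_eq_zero_iff_of_nonneg fun g _ => sq_nonneg ‖f g‖).1
        (show ∑ g ∈ U, ‖f g‖ ^ 2 = 0 by linarith) g hg
      simpa using this
    have h3z : ∀ g ∈ S 3, f g = 0 := fun g hg => by
      have := (Finset.sum_eq_zero_iff_of_nonneg fun g _ => sq_nonneg ‖f g‖).1
        (show ∑ g ∈ S 3, ‖f g‖ ^ 2 = 0 by linarith) g hg
      simpa using this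
    have key : ∀ {p : ℕ} (N : ℕ), p.Prime → (Nat.card G22).factorization p = 1 →
        ((S p).card : ℝ) = ((N * (p - 1) : ℕ) : ℝ) → q p = ((N * (p - 1) : ℕ) : ℝ) → 0 < N →
        ∃ s : ℤ, (p : ℤ) ∣ s + 384 ∧ |s| ≤ ((p - 1 : ℕ) : ℤ) ∧ ∑ g ∈ S p, f g = (N : ℂ) * s := by
      intro p N hp hfac hcp hqp hN
      obtain ⟨s, hs, hsum⟩ := sum_prime_order hchar (isClassFunction_character hchar) hp hfac
      have hp1 : ((p - 1 : ℕ) : ℂ) ≠ 0 := Nat.cast_ne_zero.2 (by have := hp.two_le; omega)
      have hcpN : (S p).card = N * (p - 1) := by exact_mod_cast hcp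
      have heq : ∑ g ∈ S p, f g = (N : ℂ) * s := by
        rw [show Finset.univ.filter (fun g : G22 => orderOf g = p) = S p from rfl, hcpN] at hsum
        push_cast at hsum
        refine mul_left_cancel₀ hp1 (hsum.trans ?_)
        ring
      refine ⟨s, ?_, ?_, heq⟩
      · rw [← hd, h] at hs; exact hs
      · have h1 : ‖∑ g ∈ S p, f g‖ ≤ ((N * (p - 1) : ℕ) : ℝ) := by
          refine le_trans (norm_sum_le _ _) ?_
          calc ∑ g ∈ S p, ‖f g‖ ≤ ∑ g ∈ S p, (‖f g‖ ^ 2 + 1) / 2 :=
                Finset.sum_le_sum fun g _ => by nlinarith [sq_nonneg (‖f g‖ - 1)]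
            _ = (q p + (S p).card) / 2 := by
                rw [← Finset.sum_div, Finset.sum_add_distrib, Finset.sum_const, nsmul_eq_mul, mul_one]
            _ = _ := by rw [hqp, hcp]; ring
        rw [heq, norm_mul, Complex.norm_natCast, Complex.norm_intCast] at h1
        push_cast at h1
        have hN' : (0 : ℝ) < (N : ℝ) := by exact_mod_cast hN
        have h2 : |(s : ℝ)| ≤ ((p - 1 : ℕ) : ℝ) := le_of_mul_le_mul_left h1 hN'
        exact_mod_cast h2
    have e5 := hlow 5 _ (by norm_num) (le_refl (S 5).card) (by rw [h]; norm_num)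
    have e7 := hlow 7 _ (by norm_num) (le_refl (S 7).card) (by rw [h]; norm_num)
    have e11 := hlow 11 _ (by norm_num) (le_refl (S 11).card) (by rw [h]; norm_num)
    have c5 : (88704 : ℝ) ≤ ((S 5).card : ℝ) := by exact_mod_cast hc5
    have c7 : (126720 : ℝ) ≤ ((S 7).card : ℝ) := by exact_mod_cast hc7
    have c11 : (80640 : ℝ) ≤ ((S 11).card : ℝ) := by exact_mod_cast hc11
    haveI : Fact (Nat.Prime 5) := ⟨by norm_num⟩
    haveI : Fact (Nat.Prime 7) := ⟨by norm_num⟩
    haveI : Fact (Nat.Prime 11) := ⟨by norm_num⟩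
    have hfac : ∀ p, p = 5 ∨ p = 7 ∨ p = 11 → (Nat.card G22).factorization p = 1 := by
      intro p hp
      rw [hcard]
      rcases hp with rfl | rfl | rfl <;>
        rw [Nat.factorization_def _ (by norm_num)]
      · rw [show (443520 : ℕ) = 5 ^ 1 * 88704 by norm_num, padicValNat.mul (by norm_num) (by norm_num),
          padicValNat.prime_pow, padicValNat.eq_zero_of_not_dvd (by norm_num)]
      · rw [show (443520 : ℕ) = 7 ^ 1 * 63360 by norm_num, padicValNat.mul (by norm_num) (by norm_num),
          padicValNat.prime_pow, padicValNat.eq_zero_of_not_dvd (by norm_num)]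
      · rw [show (443520 : ℕ) = 11 ^ 1 * 40320 by norm_num, padicValNat.mul (by norm_num) (by norm_num),
          padicValNat.prime_pow, padicValNat.eq_zero_of_not_dvd (by norm_num)]
    have k5 : ((S 5).card : ℝ) = 88704 := by linarith
    have l5 : ∑ g ∈ S 5, ‖f g‖ ^ 2 = 88704 := by linarith
    have k7 : ((S 7).card : ℝ) = 126720 := by linarith
    have l7 : ∑ g ∈ S 7, ‖f g‖ ^ 2 = 126720 := by linarith
    have k11 : ((S 11).card : ℝ) = 80640 := by linarith
    have l11 : ∑ g ∈ S 11, ‖f g‖ ^ 2 = 80640 := by linarith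
    obtain ⟨a, ha, ha', ea⟩ := key (p := 5) 22176 (by norm_num) (hfac 5 (by simp))
      (by rw [k5]; norm_num) (by simp only [hq]; rw [l5]; norm_num) (by norm_num)
    obtain ⟨b, hb, hb', eb⟩ := key (p := 7) 21120 (by norm_num) (hfac 7 (by simp))
      (by rw [k7]; norm_num) (by simp only [hq]; rw [l7]; norm_num) (by norm_num)
    obtain ⟨c, hcc, hcc', ec⟩ := key (p := 11) 8064 (by norm_num) (hfac 11 (by simp))
      (by rw [k11]; norm_num) (by simp only [hq]; rw [l11]; norm_num) (by norm_num)
    have hzero : ∑ g, f g = 0 := by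
      have hne : f ≠ fun _ => 1 := fun e => by
        have := congrFun e 1
        rw [hf1, h] at this; norm_num at this
      have h0 := irr_orth χ.2 (isIrrCharacter_one (G := G22))
      rw [if_neg hne, classInner, mul_eq_zero, inv_eq_zero] at h0
      refine (Finset.sum_congr rfl fun g _ => ?_).trans (h0.resolve_left (Nat.cast_ne_zero.2 Nat.card_pos.ne'))
      rw [map_one, mul_one]
    rw [hsplit, hf1, h, ea, eb, ec, Finset.sum_eq_zero hUz, Finset.sum_eq_zero h3z] at hzero
    have hz : (384 : ℤ) + 22176 * a + 21120 * b + 8064 * c = 0 := by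
      have : ((384 + 22176 * a + 21120 * b + 8064 * c : ℤ) : ℂ) = 0 := by
        push_cast at hzero ⊢
        linear_combination hzero
      exact_mod_cast this
    rw [abs_le] at ha' hb' hcc'
    norm_num at ha' hb' hcc'
    omega
  · -- degree 640
    have h7 := hlow 7 _ (by norm_num) hc7 (by rw [h]; norm_num)
    have h50 := hq0 5
    have h30 := hq0 3
    have h110 := hq0 11
    simp only [hq] at h50 h30 h110
    rw [h] at hnorm
    norm_num at hnorm h7
    linarith

end M22

end Cfsg.Agent.Char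

namespace Cfsg.Agent.Char

open Cfsg

section MainTwentyTwo

local notation "G22" => Subtype (fun x => x ∈ Cfsg.Spor.M22)

/-- every 2-block of M22 is the principal one -/
theorem m22_block_principal [Fintype G22] {M : Ideal AlgInt} (hM : IsPModular 2 M)
    {B : Set (IrrCharacter G22)} (hB : IsPBlock M B) : B = principalBlock M G22 := by
  classical
  obtain ⟨D, hD⟩ := exists_isDefectGroup hM hB
  by_cases hne : D = ⊥
  · exfalso
    obtain ⟨χ, hχ⟩ := block_nonempty (pmod_prime hM) hB
    have h0 : blockDefect 2 B = 0 := by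
      have h := card_defectGroup hM hB hD
      rw [hne, Subgroup.card_bot] at h
      rcases Nat.eq_zero_or_pos (blockDefect 2 B) with h' | h'
      · exact h'
      · exact absurd h.symm (Nat.one_lt_two_pow h'.ne').ne'
    have hfac : (Nat.card G22).factorization 2 = 7 := by
      haveI : Fact (Nat.Prime 2) := ⟨Nat.prime_two⟩
      rw [Local.FS.Mathieu.card_m22, Nat.factorization_def _ Nat.prime_two,
        show (443520 : ℕ) = 2 ^ 7 * 3465 by norm_num, padicValNat.mul (by norm_num) (by norm_num),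
        padicValNat.prime_pow, padicValNat.eq_zero_of_not_dvd (by norm_num)]
    refine no_defect_zero_m22 χ ((Nat.prime_two.pow_dvd_iff_le_factorization (deg_pos χ.2).ne').2 ?_)
    have hle : sInf ((fun ψ : IrrCharacter G22 => (charDegree (ψ : G22 → ℂ)).factorization 2) '' B) ≤
        (charDegree (χ : G22 → ℂ)).factorization 2 := Nat.sInf_le ⟨χ, hχ, rfl⟩
    rw [blockDefect, hfac] at h0
    show 7 ≤ (charDegree (χ : G22 → ℂ)).factorization 2
    omega
  · exact eq_principal_of_one_block hM hB hD hne fun z hz ξ ψ =>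
      sameBlock_of_constrained hM (Spor.M22Cent.constrained hz) ξ ψ

end MainTwentyTwo

end Cfsg.Agent.Char
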