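import Cfsg.Agent.Lib.Char.GaloisConj
import Cfsg.Agent.Lib.Char.Induction
import Cfsg.Agent.Lib.Char.IndValue
import Cfsg.Agent.Lib.Fusion.MaxClassTwo
import Cfsg.Agent.Lib.Fusion.SubgroupCountBad
import Cfsg.Agent.Lib.Solv.MaxClass
import Mathlib

/-!
# Fields of values at elements of a Sylow two-subgroup with abelianization of order four
-/

set_option autoImplicit false
set_option linter.unusedSectionVars false
set_option linter.style.haveILetI false

namespace Cfsg.Agent.Char.MaxClassField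

open Cfsg Cfsg.Agent Cfsg.Agent.Char
open scoped commutatorElement Pointwise

universe u

variable {G : Type u} [Group G] [Fintype G]

/-- The values of the irreducible characters at `g`. -/
def vals (g : G) : Set ℂ := {z : ℂ | ∃ χ : IrrCharacter G, (χ : G → ℂ) g = z}

theorem fix_adjoin {S : Set ℂ} (σ : ℂ ≃+* ℂ) (h : ∀ x ∈ S, σ x = x) {y : ℂ}
    (hy : y ∈ IntermediateField.adjoin ℚ S) : σ y = y := by
  induction hy using IntermediateField.adjoin_induction with
  | mem x hx => exact h x hx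
  | algebraMap x => simp
  | add x y _ _ hx hy => rw [map_add, hx, hy]
  | inv x _ hx => rw [map_inv₀, hx]
  | mul x y _ _ hx hy => rw [map_mul, hx, hy]

theorem value_pow {m : ℕ} (hm : m ≠ 0) {ζ : ℂ} (hζ : IsPrimitiveRoot ζ m) (χ : IrrCharacter G)
    {g : G} (hg : orderOf g ∣ m) :
    ∃ (d : ℕ) (e : Fin d → ℕ), ∀ j : ℕ, (χ : G → ℂ) (g ^ j) = ∑ i, (ζ ^ j) ^ e i := by
  haveI : NeZero m := ⟨hm⟩
  obtain ⟨n, ρ, hρ⟩ := irr_isCharacter χ.2
  obtain ⟨μ, hμ, htr, -⟩ := exists_eigenvalues ρ g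
  have he : ∀ i, ∃ e : ℕ, ζ ^ e = μ i := fun i => by
    obtain ⟨c, hc⟩ := hg
    obtain ⟨e, -, he⟩ := hζ.eq_pow_of_pow_eq_one (show μ i ^ m = 1 by
      rw [hc, pow_mul, hμ, one_pow])
    exact ⟨e, he⟩
  choose e he using he
  refine ⟨_, e, fun j => ?_⟩
  rw [← hρ, htr]
  exact Finset.sum_congr rfl fun i _ => by rw [← he, ← pow_mul, ← pow_mul, mul_comm]

/-- The power sums of two numbers lie in the field of their sum and product. -/
theorem powSum_mem {a b : ℂ} (K : IntermediateField ℚ ℂ) (hs : a + b ∈ K) (hp : a * b ∈ K) :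
    ∀ j : ℕ, a ^ j + b ^ j ∈ K := by
  intro j
  induction j using Nat.strong_induction_on with
  | _ j ih =>
    match j with
    | 0 => simpa using add_mem (one_mem K) (one_mem K)
    | 1 => simpa using hs
    | j + 2 =>
      rw [show a ^ (j + 2) + b ^ (j + 2) =
        (a + b) * (a ^ (j + 1) + b ^ (j + 1)) - a * b * (a ^ j + b ^ j) by ring]
      exact sub_mem (mul_mem hs (ih _ (by omega))) (mul_mem hp (ih _ (by omega)))

/-- `g` has order `m` and is conjugate exactly to itself and `g ^ β` among its powers. -/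
theorem vals_field {m β : ℕ} (hm : m ≠ 0) {ζ : ℂ} (hζ : IsPrimitiveRoot ζ m) {g : G}
    (hg : orderOf g = m) (hβ : g ^ β ≠ g) (hconj : IsConj g (g ^ β))
    (honly : ∀ k : ℕ, IsConj g (g ^ k) → g ^ k = g ∨ g ^ k = g ^ β)
    (hprod : ζ * ζ ^ β = 1 ∨ ζ * ζ ^ β = -1) :
    IntermediateField.adjoin ℚ (vals g) = IntermediateField.adjoin ℚ ({ζ + ζ ^ β} : Set ℂ) := by
  classical
  haveI : NeZero m := ⟨hm⟩
  refine le_antisymm (IntermediateField.adjoin_le_iff.mpr ?_) (IntermediateField.adjoin_le_iff.mpr ?_)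
  · rintro z ⟨χ, rfl⟩
    obtain ⟨d, e, he⟩ := value_pow hm hζ χ hg.dvd
    have h1 := he 1
    have h2 := he β
    rw [pow_one, pow_one] at h1
    obtain ⟨c, hc⟩ := isConj_iff.mp hconj
    rw [← hc, isClassFunction_character (irr_isCharacter χ.2)] at h2
    have h3 : (χ : G → ℂ) g = (2 : ℂ)⁻¹ * ∑ i, (ζ ^ e i + (ζ ^ β) ^ e i) := by
      rw [Finset.sum_add_distrib, ← h1, ← h2]; ring
    rw [SetLike.mem_coe, h3]
    set K := IntermediateField.adjoin ℚ ({ζ + ζ ^ β} : Set ℂ)
    refine mul_mem (inv_mem ?_) (sum_mem fun i _ => powSum_mem K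
      (IntermediateField.subset_adjoin ℚ _ rfl) ?_ _)
    · exact_mod_cast IntermediateField.natCast_mem K 2
    · rcases hprod with h | h <;> rw [h]
      · exact one_mem K
      · exact neg_mem (one_mem K)
  · rw [Set.singleton_subset_iff, SetLike.mem_coe]
    set A := Subgroup.zpowers g with hA
    haveI := Fintype.ofFinite A
    have hu : (Units.mk0 ζ (hζ.ne_zero hm)) ^ m = 1 := Units.ext (by simp [hζ.pow_eq_one])
    let gA : A := ⟨g, Subgroup.mem_zpowers g⟩
    have hgen : ∀ a : A, a ∈ Subgroup.zpowers gA := fun a => by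
      obtain ⟨i, hi⟩ := Subgroup.mem_zpowers_iff.mp a.2
      exact Subgroup.mem_zpowers_iff.mpr ⟨i, Subtype.ext (by simpa [gA] using hi)⟩
    have hdvd : orderOf (Units.mk0 ζ (hζ.ne_zero hm)) ∣ orderOf gA := by
      rw [Subgroup.orderOf_mk, hg]
      exact orderOf_dvd_of_pow_eq_one hu
    let l : A →* ℂˣ := monoidHomOfForallMemZpowers hgen hdvd
    have hl : ∀ (i : ℕ) (h : g ^ i ∈ A), ((l ⟨g ^ i, h⟩ : ℂˣ) : ℂ) = ζ ^ i := by
      intro i h
      rw [show (⟨g ^ i, h⟩ : A) = gA ^ i from Subtype.ext (by simp [gA]), map_pow,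
        monoidHomOfForallMemZpowers_apply_gen]
      simp
    set T := (Finset.univ.filter fun y : G => IsConj g y).filter (fun y => y ∈ A) with hT
    have hTeq : T = {g, g ^ β} := by
      ext y
      simp only [hT, Finset.mem_filter, Finset.mem_univ, true_and, Finset.mem_insert,
        Finset.mem_singleton]
      constructor
      · rintro ⟨h1, h2⟩
        obtain ⟨i, rfl⟩ := mem_powers_iff_mem_zpowers.mpr h2
        exact honly i h1
      · rintro (rfl | rfl)
        · exact ⟨IsConj.refl _, Subgroup.mem_zpowers _⟩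
        · exact ⟨hconj, pow_mem (Subgroup.mem_zpowers g) _⟩
    have hval : indFun A (fun a => (l a : ℂ)) g =
        (Nat.card A : ℂ)⁻¹ * (Nat.card (Subgroup.centralizer ({g} : Set G)) : ℂ) * (ζ + ζ ^ β) := by
      rw [indFun_eq_classSum]
      congr 1
      rw [← Finset.sum_subset (s₁ := T) (Finset.filter_subset _ _) fun y hy hyT =>
        extendByZero_not_mem A _ fun h => hyT (Finset.mem_filter.mpr ⟨hy, h⟩), hTeq,
        Finset.sum_pair (Ne.symm hβ), extendByZero_mem A _ (Subgroup.mem_zpowers g),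
        extendByZero_mem A _ (pow_mem (Subgroup.mem_zpowers g) β)]
      have h1 := hl 1 (pow_mem (Subgroup.mem_zpowers g) 1)
      simp only [pow_one] at h1
      rw [h1, hl]
    have hne : ((Nat.card A : ℂ)⁻¹ * (Nat.card (Subgroup.centralizer ({g} : Set G)) : ℂ)) ≠ 0 :=
      mul_ne_zero (inv_ne_zero (Nat.cast_ne_zero.mpr Nat.card_pos.ne'))
        (Nat.cast_ne_zero.mpr Nat.card_pos.ne')
    set K := IntermediateField.adjoin ℚ (vals g)
    have hin : indFun A (fun a => (l a : ℂ)) g ∈ K := by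
      obtain ⟨f, hf⟩ := exists_decomposition
        (isCharacter_indFun A (irr_isCharacter (isIrrCharacter_linear l)))
      rw [hf, Finset.sum_apply]
      refine sum_mem fun χ _ => ?_
      rw [Pi.smul_apply, nsmul_eq_mul]
      exact mul_mem (IntermediateField.natCast_mem K _)
        (IntermediateField.subset_adjoin ℚ _ ⟨χ, rfl⟩)
    rw [hval] at hin
    have := mul_mem (inv_mem (mul_mem (inv_mem (IntermediateField.natCast_mem K (Nat.card A)))
      (IntermediateField.natCast_mem K (Nat.card (Subgroup.centralizer ({g} : Set G)))))) hin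
    rwa [← mul_assoc, inv_mul_cancel₀ hne, one_mul] at this

theorem adjoin_zero : IntermediateField.adjoin ℚ ({(0 : ℂ)} : Set ℂ) = ⊥ :=
  IntermediateField.adjoin_simple_eq_bot_iff.mpr (zero_mem _)

variable [Fact (Nat.Prime 2)]

theorem forward (P : Sylow 2 G) (n : ℕ) (hn : 3 ≤ n) (hP : Nat.card P = 2 ^ n) (ζ : ℂ)
    (hζ : IsPrimitiveRoot ζ (2 ^ (n - 1))) (hi : (commutator ↥(P : Subgroup G)).index = 4) :
    ∃ g : G, g ∈ (P : Subgroup G) ∧ 2 ∣ (Subgroup.centralizer ({g} : Set G)).index ∧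
      (IntermediateField.adjoin ℚ (vals g) = IntermediateField.adjoin ℚ ({ζ + ζ⁻¹} : Set ℂ) ∨
        IntermediateField.adjoin ℚ (vals g) = IntermediateField.adjoin ℚ ({ζ - ζ⁻¹} : Set ℂ)) := by
  classical
  obtain ⟨k, rfl⟩ : ∃ k, n = k + 3 := ⟨n - 3, by omega⟩
  rw [show k + 3 - 1 = k + 2 by omega] at hζ
  set m := 2 ^ (k + 2) with hm
  obtain ⟨g, hg⟩ := Solv.exists_cyclic_index_two k hP
    (Fusion.lcs_ne_bot_of_commutator_index_four k hP hi)
  set A := Subgroup.zpowers g with hA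
  have hAi : A.index = 2 := by
    have h := A.card_mul_index
    rw [hA, Nat.card_zpowers, hg, show Nat.card ↥(P : Subgroup G) = 2 ^ (k + 3) from hP, pow_succ 2 (k + 2)] at h
    exact Nat.eq_of_mul_eq_mul_left (pow_pos two_pos _) h
  haveI hAn := Subgroup.normal_of_index_eq_two hAi
  obtain ⟨x, hx⟩ : ∃ x, x ∉ A := by
    by_contra h
    push Not at h
    rw [(Subgroup.eq_top_iff' A).mpr h, Subgroup.index_top] at hAi
    norm_num at hAi
  obtain ⟨β, hβ⟩ : ∃ β : ℕ, g ^ β = x * g * x⁻¹ :=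
    mem_powers_iff_mem_zpowers.mpr (hAn.conj_mem g (Subgroup.mem_zpowers g) x)
  -- the commutator subgroup forces `β` to be `3` modulo `4`
  have hnd : ¬ (2 : ℤ) ^ 2 ∣ (β : ℤ) - 1 := by
    intro h4
    set D := Subgroup.zpowers (g ^ 4) with hD
    haveI : D.Normal := by
      refine ⟨fun a ha y => ?_⟩
      obtain ⟨i, rfl⟩ := Subgroup.mem_zpowers_iff.mp ha
      obtain ⟨c, hc⟩ := Subgroup.mem_zpowers_iff.mp (hAn.conj_mem g (Subgroup.mem_zpowers g) y)
      refine Subgroup.mem_zpowers_iff.mpr ⟨c * i, ?_⟩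
      rw [← conj_zpow, ← conj_pow, ← hc, ← zpow_natCast g, ← zpow_natCast (g ^ c), ← zpow_mul,
        ← zpow_mul, ← zpow_mul]
      congr 1
      ring
    set π := QuotientGroup.mk' D with hπ
    have hgx : π g * π x = π x * π g := by
      have h1 : π (x * g * x⁻¹) = π g := by
        refine (QuotientGroup.eq.mpr ?_ : (QuotientGroup.mk (x * g * x⁻¹) : _ ⧸ D) = QuotientGroup.mk g)
        obtain ⟨c, hc⟩ := h4
        refine Subgroup.mem_zpowers_iff.mpr ⟨-c, ?_⟩
        rw [← hβ, ← zpow_natCast g 4, ← zpow_natCast g β, ← zpow_mul, ← zpow_neg, ← zpow_add_one]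
        congr 1
        push_cast
        linarith
      rw [map_mul, map_mul, map_inv] at h1
      exact (mul_inv_eq_iff_eq_mul.mp h1).symm
    have hgen : Subgroup.zpowers (π g) ⊔ Subgroup.zpowers (π x) = ⊤ := by
      have htop : A ⊔ Subgroup.zpowers x = ⊤ :=
        (CountSq.coatom_of_index hAi).2 _ (lt_of_le_of_ne le_sup_left fun e =>
          hx (e ▸ Subgroup.mem_sup_right (Subgroup.mem_zpowers x)))
      rw [← MonoidHom.map_zpowers, ← MonoidHom.map_zpowers, ← Subgroup.map_sup, htop,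
        Subgroup.map_top_of_surjective π (QuotientGroup.mk'_surjective D)]
    have hcomm : commutator ↥(P : Subgroup G) ≤ D := by
      rw [commutator_def, Subgroup.commutator_le]
      intro a _ b _
      rw [← QuotientGroup.eq_one_iff]
      show π ⁅a, b⁆ = 1
      rw [map_commutatorElement, commutatorElement_eq_one_iff_mul_comm]
      exact CountSq.comm_of_closed_mul ⊤ hgx hgen _ (Subgroup.mem_top _) _ (Subgroup.mem_top _)
    have h1 := Subgroup.index_dvd_of_le hcomm
    rw [hi] at h1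
    have h2 := D.card_mul_index
    rw [hD, Nat.card_zpowers, orderOf_pow_of_dvd (by norm_num) (show 4 ∣ orderOf g by rw [hg]; exact pow_dvd_pow 2 (show 2 ≤ k + 2 by omega)),
      hg, show Nat.card ↥(P : Subgroup G) = 2 ^ (k + 3) from hP,
      show (2 : ℕ) ^ (k + 2) / 4 = 2 ^ k by
        rw [pow_add]; norm_num] at h2
    have h3 : (Subgroup.zpowers (g ^ 4)).index = 8 :=
      Nat.eq_of_mul_eq_mul_left (pow_pos two_pos k) (by rw [h2, pow_add]; norm_num)
    rw [hD, h3] at h1
    norm_num at h1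
  have hβg : g ^ β ≠ g := by
    intro e
    refine hnd ?_
    have h1 : g ^ ((β : ℤ) - 1) = 1 := by rw [zpow_sub, zpow_natCast, e, zpow_one, mul_inv_cancel]
    have h2 := orderOf_dvd_iff_zpow_eq_one.mpr h1
    rw [hg] at h2
    refine dvd_trans ?_ h2
    exact_mod_cast (pow_dvd_pow 2 (show 2 ≤ k + 2 by omega) : 2 ^ 2 ∣ (2 : ℕ) ^ (k + 2))
  have hsq : (m : ℤ) ∣ ((β : ℤ) - 1) * (β + 1) := by
    have h1 : x * x ∈ A := Subgroup.mul_self_mem_of_index_two hAi x
    obtain ⟨i, hi'⟩ := Subgroup.mem_zpowers_iff.mp h1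
    have h2 : g ^ (β * β) = g := by
      rw [pow_mul, hβ, conj_pow, hβ,
        show x * (x * g * x⁻¹) * x⁻¹ = x * x * g * (x * x)⁻¹ by group, ← hi',
        ((Commute.refl g).zpow_left i).eq, mul_inv_cancel_right]
    have h3 : g ^ (((β : ℤ) - 1) * (β + 1)) = 1 := by
      rw [show ((β : ℤ) - 1) * (β + 1) = ((β * β : ℕ) : ℤ) - 1 by push_cast; ring, zpow_sub,
        zpow_natCast, h2, zpow_one, mul_inv_cancel]
    have h4 := orderOf_dvd_iff_zpow_eq_one.mpr h3
    rwa [hg] at h4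
  have hodd : Odd β := by
    rw [← Nat.not_even_iff_odd]
    rintro ⟨c, rfl⟩
    have h1 : (2 : ℤ) ∣ ((c + c : ℕ) : ℤ) * ((c + c : ℕ) : ℤ) - 1 := by
      refine dvd_trans ?_ ((by ring : (((c + c : ℕ) : ℤ) - 1) * (((c + c : ℕ) : ℤ) + 1) =
        ((c + c : ℕ) : ℤ) * ((c + c : ℕ) : ℤ) - 1) ▸ hsq)
      rw [hm]; push_cast
      exact dvd_pow_self 2 (by omega)
    obtain ⟨d, hd⟩ := h1
    have h2 : (((c + c : ℕ) : ℤ)) = 2 * c := by push_cast; ring
    rw [h2, mul_assoc] at hd
    omega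
  have hprod : ζ * ζ ^ β = 1 ∨ ζ * ζ ^ β = -1 := by
    obtain ⟨b, hb⟩ := hodd
    have h1 : ((2 : ℤ) ^ (k + 1)) ∣ (β : ℤ) + 1 := by
      have hb' : ((β : ℤ) - 1) = 2 * b := by rw [hb]; push_cast; ring
      have hbodd : ¬ (2 : ℤ) ∣ b := fun ⟨d, hd⟩ => hnd ⟨d, by rw [hb', hd]; ring⟩
      rw [hb', hm, mul_assoc] at hsq
      push_cast at hsq
      rw [show k + 2 = (k + 1) + 1 from rfl, pow_succ'] at hsq
      have h2 := (mul_dvd_mul_iff_left (by norm_num : (2 : ℤ) ≠ 0)).mp hsq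
      exact ((Int.prime_two.coprime_iff_not_dvd.mpr hbodd).pow_left).dvd_of_dvd_mul_left h2
    obtain ⟨c, hc⟩ : (2 : ℕ) ^ (k + 1) ∣ β + 1 := by exact_mod_cast h1
    rw [← pow_succ', hc, pow_mul]
    have hhalf : ζ ^ (2 ^ (k + 1)) = -1 := by
      refine IsPrimitiveRoot.eq_neg_one_of_two_right ?_
      exact hζ.pow (pow_pos two_pos _) (pow_succ 2 (k + 1))
    rw [hhalf]
    exact neg_one_pow_eq_or ℂ c
  have hgG : orderOf (g : G) = m := (Subgroup.orderOf_coe g).trans hg
  have hconj : IsConj (g : G) ((g : G) ^ β) :=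
    isConj_iff.mpr ⟨(x : G), by rw [← Subgroup.coe_pow, hβ]; simp⟩
  -- the normalizer of `⟨g⟩` induces a group of order two
  set A' := Subgroup.zpowers (g : G) with hA'
  set C := Subgroup.centralizer ({(g : G)} : Set G) with hC
  set N := Subgroup.normalizer (A' : Set G) with hN
  have hA'C : A' ≤ C := Subgroup.zpowers_le.mpr (Subgroup.mem_centralizer_singleton_iff.mpr rfl)
  have hCN : C ≤ N := by
    intro c hc
    rw [hN, Subgroup.mem_normalizer_iff]
    intro y
    have key : ∀ y ∈ A', c * y * c⁻¹ = y := fun y hy => by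
      obtain ⟨i, rfl⟩ := Subgroup.mem_zpowers_iff.mp hy
      have h1 : Commute c (g : G) := Subgroup.mem_centralizer_singleton_iff.mp hc
      rw [(h1.zpow_right i).eq, mul_inv_cancel_right]
    refine ⟨fun hy => by rwa [key y hy], fun hy => ?_⟩
    have h1 := key _ hy
    have h2 : c * y * c⁻¹ = y := mul_left_cancel (mul_right_cancel h1)
    rwa [h2] at hy
  let φ : N →* MulAut A' := A'.normalizerMonoidHom
  have hker : φ.ker = C.subgroupOf N := by
    ext ⟨y, hy⟩
    rw [MonoidHom.mem_ker, Subgroup.mem_subgroupOf]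
    constructor
    · intro h
      have h1 := congrArg Subtype.val (DFunLike.congr_fun h ⟨(g : G), Subgroup.mem_zpowers _⟩)
      exact Subgroup.mem_centralizer_singleton_iff.mpr (mul_inv_eq_iff_eq_mul.mp h1)
    · intro h
      ext ⟨a, ha⟩
      obtain ⟨i, rfl⟩ := Subgroup.mem_zpowers_iff.mp ha
      have h1 : Commute y (g : G) := Subgroup.mem_centralizer_singleton_iff.mp h
      show y * (g : G) ^ i * y⁻¹ = (g : G) ^ i
      rw [(h1.zpow_right i).eq, mul_inv_cancel_right]
  haveI : IsCyclic A' := inferInstance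
  have hAut : Nat.card (MulAut A') = 2 ^ (k + 1) := by
    rw [IsCyclic.card_mulAut, hA', Nat.card_zpowers, hgG, hm, Nat.totient_prime_pow Nat.prime_two (by omega)]
    simp
  obtain ⟨e, -, he⟩ : ∃ e ≤ k + 1, C.relIndex N = 2 ^ e := by
    refine (Nat.dvd_prime_pow Nat.prime_two).mp ?_
    rw [Subgroup.relIndex, ← hker, Subgroup.index_ker, ← hAut]
    exact Subgroup.card_subgroup_dvd_card _
  have hv : (Nat.card N).factorization 2 ≤ k + 3 := by
    have h1 := (Nat.factorization_le_iff_dvd Nat.card_pos.ne' Nat.card_pos.ne').mpr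
      (Subgroup.card_subgroup_dvd_card N) 2
    have h2 : (Nat.card G).factorization 2 = k + 3 :=
      Nat.pow_right_injective le_rfl (P.card_eq_multiplicity.symm.trans hP)
    omega
  have hcard : Nat.card N = Nat.card C * 2 ^ e := by
    rw [← he, Subgroup.relIndex, ← Nat.card_congr (Subgroup.subgroupOfEquivOfLe hCN).toEquiv,
      Subgroup.card_mul_index]
  rw [hcard, Nat.factorization_mul Nat.card_pos.ne' (pow_ne_zero _ two_ne_zero), Finsupp.add_apply,
    Nat.prime_two.factorization_pow, Finsupp.single_eq_same] at hv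
  have hxN : (x : G) ∈ N := by
    rw [hN, Subgroup.mem_normalizer_iff]
    intro y
    have hmap : A' = A.map (P : Subgroup G).subtype := by rw [hA, MonoidHom.map_zpowers]; rfl
    rw [hmap]
    constructor
    · rintro ⟨a, ha, rfl⟩
      exact ⟨x * a * x⁻¹, hAn.conj_mem a ha x, by simp⟩
    · rintro ⟨a, ha, e⟩
      refine ⟨x⁻¹ * a * x, by simpa using hAn.conj_mem a ha x⁻¹, ?_⟩
      have e' : (a : G) = x * y * (x : G)⁻¹ := e
      simp [e', mul_assoc]
  have hxC : (x : G) ∉ C := fun h => hβg (Subtype.ext (by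
    rw [Subgroup.coe_pow, ← Subgroup.coe_pow, hβ]
    push_cast
    rw [Subgroup.mem_centralizer_singleton_iff.mp h, mul_inv_cancel_right]))
  have he1 : 1 ≤ e := Nat.one_le_iff_ne_zero.mpr fun h0 => hxC
    (Subgroup.relIndex_eq_one.mp (he.trans (by rw [h0, pow_zero])) hxN)
  have hCv : k + 2 ≤ (Nat.card C).factorization 2 :=
    (Nat.prime_two.pow_dvd_iff_le_factorization Nat.card_pos.ne').mp
      (by have := Subgroup.card_dvd_of_le hA'C; rwa [hA', Nat.card_zpowers, hgG] at this)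
  have he2 : e = 1 := by omega
  have honly : ∀ j : ℕ, IsConj (g : G) ((g : G) ^ j) → (g : G) ^ j = g ∨ (g : G) ^ j = (g : G) ^ β := by
    intro j hj
    obtain ⟨c, hc⟩ := isConj_iff.mp hj
    have hcA : MulAut.conj c • A' = A' := by
      have hle : MulAut.conj c • A' ≤ A' := by
        rintro _ ⟨a, ha, rfl⟩
        obtain ⟨i, rfl⟩ := Subgroup.mem_zpowers_iff.mp ha
        show c * (g : G) ^ i * c⁻¹ ∈ A'
        rw [← conj_zpow, hc]
        exact zpow_mem (pow_mem (Subgroup.mem_zpowers _) _) _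
      exact Subgroup.eq_of_le_of_card_ge hle (Solv.card_conj_smul _ _).ge
    have hcN : c ∈ N := Solv.mem_normalizer_of_conj_smul hcA
    by_cases hcC : c ∈ C
    · left
      rw [← hc, Subgroup.mem_centralizer_singleton_iff.mp hcC, mul_inv_cancel_right]
    · right
      have h2 : (C.subgroupOf N).index = 2 := he.trans (by rw [he2]; rfl)
      have h3 : (⟨(x : G), hxN⟩ : N)⁻¹ * ⟨c, hcN⟩ ∈ C.subgroupOf N := by
        rw [Subgroup.mul_mem_iff_of_index_two h2, inv_mem_iff, Subgroup.mem_subgroupOf,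
          Subgroup.mem_subgroupOf]
        exact iff_of_false hxC hcC
      have h4 : Commute ((x : G)⁻¹ * c) (g : G) := Subgroup.mem_centralizer_singleton_iff.mp h3
      rw [← hc, ← Subgroup.coe_pow, hβ]
      push_cast
      calc c * g * c⁻¹ = x * (((x : G)⁻¹ * c) * g * ((x : G)⁻¹ * c)⁻¹) * (x : G)⁻¹ := by group
        _ = _ := by rw [h4.eq, mul_inv_cancel_right]
  refine ⟨g, g.2, ?_, ?_⟩
  · by_contra hodd'
    have h1 : (Nat.card C).factorization 2 = k + 3 := by
      have h2 : (Nat.card G).factorization 2 = k + 3 :=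
        Nat.pow_right_injective le_rfl (P.card_eq_multiplicity.symm.trans hP)
      rw [← Subgroup.card_mul_index C, Nat.factorization_mul Nat.card_pos.ne'
        Subgroup.index_ne_zero_of_finite, Finsupp.add_apply,
        Nat.factorization_eq_zero_of_not_dvd hodd', add_zero] at h2
      exact h2
    omega
  · have hf := vals_field (pow_ne_zero _ two_ne_zero) hζ hgG
      (fun e => hβg (Subtype.ext (by simpa using e))) hconj honly hprod
    have hζ0 : ζ ≠ 0 := hζ.ne_zero (pow_ne_zero _ two_ne_zero)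
    rcases hprod with h | h
    · exact Or.inl (hf.trans (by rw [eq_inv_of_mul_eq_one_right h]))
    · exact Or.inr (hf.trans (by
        rw [show ζ ^ β = -ζ⁻¹ by rw [← neg_inj, neg_neg]; exact eq_inv_of_mul_eq_one_right (by rw [mul_neg, h, neg_neg]),
          sub_eq_add_neg]))

theorem backward (P : Sylow 2 G) (n : ℕ) (hn : 3 ≤ n) (hP : Nat.card P = 2 ^ n) (ζ : ℂ)
    (hζ : IsPrimitiveRoot ζ (2 ^ (n - 1))) (g : G) (hgP : g ∈ (P : Subgroup G))
    (h2 : 2 ∣ (Subgroup.centralizer ({g} : Set G)).index)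
    (hF : IntermediateField.adjoin ℚ (vals g) = IntermediateField.adjoin ℚ ({ζ + ζ⁻¹} : Set ℂ) ∨
        IntermediateField.adjoin ℚ (vals g) = IntermediateField.adjoin ℚ ({ζ - ζ⁻¹} : Set ℂ)) :
    (commutator ↥(P : Subgroup G)).index = 4 := by
  classical
  set gP : ↥(P : Subgroup G) := ⟨g, hgP⟩ with hgPdef
  have hP' : Nat.card ↥(P : Subgroup G) = 2 ^ n := hP
  have hge : 2 ^ 2 ≤ (commutator ↥(P : Subgroup G)).index :=
    Solv.commutator_index_ge_sq P.isPGroup' hP' (by omega)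
  obtain ⟨y, hy⟩ : ∃ y : ↥(P : Subgroup G), y * gP ≠ gP * y := by
    by_contra hab
    push Not at hab
    refine (Nat.prime_two.coprime_iff_not_dvd.mp ?_) h2
    have hle : (P : Subgroup G) ≤ Subgroup.centralizer ({g} : Set G) := fun z hz =>
      Subgroup.mem_centralizer_singleton_iff.mpr (congrArg Subtype.val (hab ⟨z, hz⟩))
    exact Nat.Coprime.coprime_dvd_right (Subgroup.index_dvd_of_le hle)
      ((Nat.prime_two.coprime_iff_not_dvd).mpr P.not_dvd_index)
  obtain ⟨c, hc⟩ := P.isPGroup'.index (commutator ↥(P : Subgroup G))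
  have hcle : (commutator ↥(P : Subgroup G)).index ≤ 4 → (commutator ↥(P : Subgroup G)).index = 4 :=
    fun h => le_antisymm h hge
  apply hcle
  rcases eq_or_lt_of_le hn with rfl | hn4
  · -- order eight
    have hne : commutator ↥(P : Subgroup G) ≠ ⊥ := fun h => hy (by
      rw [← commutatorElement_eq_one_iff_mul_comm, ← Subgroup.mem_bot, ← h, commutator_def]
      exact Subgroup.commutator_mem_commutator (Subgroup.mem_top _) (Subgroup.mem_top _))
    have h1 := (commutator ↥(P : Subgroup G)).card_mul_index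
    rw [hP'] at h1
    have h3 := Nat.lt_of_le_of_ne Nat.card_pos fun e => hne (Subgroup.card_eq_one.mp e.symm)
    have h4 := Nat.mul_le_mul_right (commutator ↥(P : Subgroup G)).index h3
    rw [h1] at h4
    norm_num at h4
    omega
  obtain ⟨k, rfl⟩ : ∃ k, n = k + 4 := ⟨n - 4, by omega⟩
  rw [show k + 4 - 1 = k + 3 by omega] at hζ
  set m := 2 ^ (k + 3) with hm
  have hm0 : m ≠ 0 := pow_ne_zero _ two_ne_zero
  haveI : NeZero m := ⟨hm0⟩
  have hζ0 : ζ ≠ 0 := hζ.ne_zero hm0
  have hhalf : ζ ^ (2 ^ (k + 2)) = -1 :=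
    IsPrimitiveRoot.eq_neg_one_of_two_right (hζ.pow (pow_pos two_pos _) (pow_succ 2 (k + 2)))
  obtain ⟨ε, hε, hF'⟩ : ∃ ε : ℂ, (ε = 1 ∨ ε = -1) ∧
      IntermediateField.adjoin ℚ (vals g) = IntermediateField.adjoin ℚ ({ζ + ε * ζ⁻¹} : Set ℂ) := by
    rcases hF with h | h
    · exact ⟨1, Or.inl rfl, by rw [one_mul]; exact h⟩
    · exact ⟨-1, Or.inr rfl, by rw [neg_one_mul, ← sub_eq_add_neg]; exact h⟩
  have hεσ : ∀ σ : ℂ ≃+* ℂ, σ ε = ε := fun σ => by rcases hε with rfl | rfl <;> simp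
  have hsK : ζ + ε * ζ⁻¹ ∈ IntermediateField.adjoin ℚ (vals g) := by
    rw [hF']; exact IntermediateField.subset_adjoin ℚ _ rfl
  obtain ⟨a, ha, hga⟩ : ∃ a ≤ k + 4, orderOf gP = 2 ^ a :=
    (Nat.dvd_prime_pow Nat.prime_two).mp (hP' ▸ orderOf_dvd_natCard gP)
  have hgo : orderOf g = 2 ^ a := by rw [← hga, ← Subgroup.orderOf_coe]
  -- `g` has order `m`
  have ha1 : a ≤ k + 3 := by
    by_contra hlt
    refine hy ?_
    have htop : Subgroup.zpowers gP = ⊤ := Subgroup.eq_top_of_card_eq _ (by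
      rw [Nat.card_zpowers, hga, hP', show a = k + 4 by omega])
    obtain ⟨i, hi⟩ := Subgroup.mem_zpowers_iff.mp (htop.ge (Subgroup.mem_top y))
    rw [← hi]
    exact ((Commute.refl gP).zpow_left i).eq
  have ha2 : a = k + 3 := by
    by_contra hne'
    have hdvd : orderOf g ∣ 2 ^ (k + 2) := hgo ▸ pow_dvd_pow 2 (by omega)
    obtain ⟨σ, hσ⟩ := exists_ringEquiv_pow hm0 (k := 1 + 2 ^ (k + 2)) (by
      rw [hm]
      exact Nat.Coprime.pow_right _ (Nat.coprime_two_right.mpr (by
        rw [Nat.odd_add']; exact iff_of_false (Nat.not_odd_iff_even.mpr ((Nat.even_pow' (by omega)).mpr even_two)) (by decide))))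
    have hζσ : σ ζ = -ζ := by
      rw [hσ ζ hζ.pow_eq_one, pow_add, pow_one, hhalf, mul_neg_one]
    have hζ2 : IsPrimitiveRoot (ζ ^ 2) (2 ^ (k + 2)) := hζ.pow (pow_pos two_pos _)
      ((pow_succ 2 (k + 2)).trans (mul_comm _ _))
    have hfix : ∀ z ∈ vals g, σ z = z := by
      rintro z ⟨χ, rfl⟩
      obtain ⟨d, e, he⟩ := value_pow (pow_ne_zero _ two_ne_zero) hζ2 χ hdvd
      have h1 := he 1
      rw [pow_one, pow_one] at h1
      rw [h1, map_sum]
      exact Finset.sum_congr rfl fun i _ => by rw [map_pow, map_pow, hζσ, neg_sq]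
    have h1 := fix_adjoin σ hfix hsK
    rw [map_add, map_mul, map_inv₀, hζσ, hεσ, inv_neg, mul_neg, ← neg_add] at h1
    have h3 : ζ + ε * ζ⁻¹ = 0 := by linear_combination -(1 / 2 : ℂ) * h1
    have h4 : ζ ^ 4 = 1 := by
      have h5 : ζ ^ 2 = -ε := by
        have h6 := congrArg (fun z => z * ζ) h3
        simp only [add_mul, mul_assoc, inv_mul_cancel₀ hζ0, mul_one, zero_mul] at h6
        linear_combination h6
      rw [show ζ ^ 4 = (ζ ^ 2) ^ 2 by ring, h5]
      rcases hε with rfl | rfl <;> norm_num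
    have h7 := Nat.le_of_dvd (by norm_num) ((hζ.pow_eq_one_iff_dvd 4).mp h4)
    have h8 : 8 ≤ m := by rw [hm]; exact Nat.pow_le_pow_right two_pos (show 3 ≤ k + 3 by omega)
    omega
  subst ha2
  set A := Subgroup.zpowers gP with hA
  have hAi : A.index = 2 := by
    have h := A.card_mul_index
    rw [hA, Nat.card_zpowers, hga, hP', pow_succ 2 (k + 3)] at h
    exact Nat.eq_of_mul_eq_mul_left (pow_pos two_pos _) h
  haveI hAn := Subgroup.normal_of_index_eq_two hAi
  obtain ⟨β, hβ⟩ : ∃ β : ℕ, gP ^ β = y * gP * y⁻¹ :=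
    mem_powers_iff_mem_zpowers.mpr (hAn.conj_mem gP (Subgroup.mem_zpowers gP) y)
  have hβco : β.Coprime m := by
    rw [hm]
    refine Nat.Coprime.pow_right _ (Nat.coprime_two_right.mpr (Nat.not_even_iff_odd.mp ?_))
    rintro ⟨b, rfl⟩
    have h1 : orderOf (gP ^ (b + b)) = orderOf gP := by
      rw [hβ, ← MulAut.conj_apply, MulEquiv.orderOf_eq]
    rw [orderOf_pow, hga, Nat.div_eq_self] at h1
    rcases h1 with h1 | h1
    · exact absurd h1 (pow_ne_zero _ two_ne_zero)
    · have h6 : 2 ∣ Nat.gcd (2 ^ (k + 3)) (b + b) :=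
        Nat.dvd_gcd (dvd_pow_self 2 (by omega)) ⟨b, (two_mul b).symm⟩
      rw [h1] at h6
      norm_num at h6
  obtain ⟨σ, hσ⟩ := exists_ringEquiv_pow hm0 hβco
  have hfix : ∀ z ∈ vals g, σ z = z := by
    rintro z ⟨χ, rfl⟩
    obtain ⟨d, e, he⟩ := value_pow hm0 hζ χ hgo.dvd
    have h1 := he 1
    rw [pow_one, pow_one] at h1
    have h3 := he β
    rw [show g ^ β = (y : G) * g * (y : G)⁻¹ from congrArg Subtype.val hβ,
      isClassFunction_character (irr_isCharacter χ.2)] at h3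
    rw [h1, map_sum]
    simp only [map_pow, hσ ζ hζ.pow_eq_one]
    exact h3.symm.trans h1
  have hs := fix_adjoin σ hfix hsK
  rw [map_add, map_mul, map_inv₀, hεσ, hσ ζ hζ.pow_eq_one] at hs
  have hz0 : ζ ^ β ≠ 0 := pow_ne_zero _ hζ0
  have hfac : (ζ ^ β - ζ) * (ζ ^ β * ζ - ε) = 0 := by
    field_simp at hs
    linear_combination hs
  rcases mul_eq_zero.mp hfac with h | h
  · refine absurd ?_ hy
    have h1 : ζ ^ ((β : ℤ) - 1) = 1 := by
      rw [zpow_sub₀ hζ0, zpow_natCast, sub_eq_zero.mp h, zpow_one, div_self hζ0]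
    have h3 : gP ^ β = gP := by
      have h4 : gP ^ ((β : ℤ) - 1) = 1 := orderOf_dvd_iff_zpow_eq_one.mp (by
        rw [hga]; exact (hζ.zpow_eq_one_iff_dvd _).mp h1)
      rwa [zpow_sub, zpow_natCast, zpow_one, mul_inv_eq_one] at h4
    rw [hβ] at h3
    exact mul_inv_eq_iff_eq_mul.mp h3
  · have h1 : ζ ^ (β + 1) = ε := by rw [pow_succ]; exact sub_eq_zero.mp h
    have h3 : 2 ^ (k + 2) ∣ β + 1 := by
      have h4 : ζ ^ ((β + 1) * 2) = 1 := by
        rw [pow_mul, h1]; rcases hε with rfl | rfl <;> norm_num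
      have h5 := (hζ.pow_eq_one_iff_dvd _).mp h4
      rw [hm, pow_succ 2 (k + 2)] at h5
      exact Nat.dvd_of_mul_dvd_mul_right two_pos h5
    obtain ⟨c', hc'⟩ := h3
    -- the commutator contains an element of order `2 ^ (k + 2)`
    set w := ⁅y, gP⁆ with hw
    have hwc : w ∈ commutator ↥(P : Subgroup G) :=
      Subgroup.commutator_mem_commutator (Subgroup.mem_top _) (Subgroup.mem_top _)
    have hwg : w * gP = gP ^ β := by rw [hw, commutatorElement_def, hβ]; group
    have hwo : 2 ^ (k + 2) ∣ orderOf w := by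
      have hw1 : w = gP ^ ((β : ℤ) - 1) := by
        rw [zpow_sub, zpow_natCast, ← hwg, zpow_one, mul_inv_cancel_right]
      by_contra hnd
      obtain ⟨j, hj, hj'⟩ := (Nat.dvd_prime_pow Nat.prime_two).mp (hP' ▸ orderOf_dvd_natCard w)
      have hjk : j ≤ k + 1 := by
        by_contra hjj
        exact hnd (hj' ▸ pow_dvd_pow 2 (by omega))
      have h6 : w ^ (2 ^ (k + 1)) = 1 := orderOf_dvd_iff_pow_eq_one.mp (hj' ▸ pow_dvd_pow 2 hjk)
      rw [hw1, ← zpow_natCast, ← zpow_mul, ← orderOf_dvd_iff_zpow_eq_one, hga] at h6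
      push_cast at h6
      rw [show k + 3 = 2 + (k + 1) by omega, pow_add,
        mul_dvd_mul_iff_right (pow_ne_zero _ (by norm_num : (2 : ℤ) ≠ 0))] at h6
      have h8 : ((2 : ℤ) ^ 2) ∣ (β : ℤ) + 1 :=
        (pow_dvd_pow 2 (show 2 ≤ k + 2 by omega)).trans
          ⟨(c' : ℤ), by exact_mod_cast congrArg Nat.cast hc'⟩
      have h9 := dvd_sub h8 h6
      norm_num at h9
    have hle : orderOf w ≤ Nat.card (commutator ↥(P : Subgroup G)) := by
      rw [← Subgroup.orderOf_mk w hwc]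
      exact Nat.le_of_dvd Nat.card_pos (orderOf_dvd_natCard _)
    have h10 := (commutator ↥(P : Subgroup G)).card_mul_index
    rw [hP', pow_add 2 (k + 2) 2] at h10
    have h11 : 2 ^ (k + 2) ≤ Nat.card (commutator ↥(P : Subgroup G)) :=
      le_trans (Nat.le_of_dvd (orderOf_pos w) hwo) hle
    by_contra hgt
    have h12 := Nat.mul_lt_mul_of_le_of_lt h11 (Nat.lt_of_not_le hgt) Nat.card_pos
    rw [h10] at h12
    norm_num at h12

end Cfsg.Agent.Char.MaxClassField
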