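import Cfsg.Agent.Lib.Char.CliffordGen
import Cfsg.Agent.Lib.Char.Clifford
import Cfsg.Agent.Lib.Char.Linear
import Cfsg.Agent.Lib.Char.MonomialNilp
import Cfsg.Agent.Lib.Char.Degree
import Cfsg.Agent.Lib.Solv.MaxCentralizer

/-!
Monomiality of characters restricting irreducibly to a normal subgroup with abelian Sylow subgroups.
-/

set_option autoImplicit false
open scoped ComplexConjugate
open Cfsg

namespace Cfsg.Agent.Char

universe u

theorem monomial_of_irred_restrict_aGroup (n : ℕ) : ∀ (G : Type u) [Group G] [Fintype G]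
    [Group.IsSolvable G], Nat.card G = n → ∀ (N : Subgroup G) [N.Normal] [Fintype N],
    (∀ (p : ℕ) [Fact p.Prime] (P : Subgroup G), P ≤ N → IsPGroup p P → ∀ a ∈ P, ∀ b ∈ P, a * b = b * a) →
    ∀ χ : G → ℂ, IsIrrCharacter G χ → IsIrrCharacter N (fun x : N => χ x) →
    ∃ (H : Subgroup G) (lam : H →* ℂˣ), χ = indFun H (fun h => (lam h : ℂ)) := by
  induction n using Nat.strong_induction_on with
  | _ n IH =>
  intro G _ _ _ hn N _ _ hab χ hχ hres
  classical
  obtain ⟨d, ρ, hρ, rfl⟩ := id hχ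
  have hone : ρ.character 1 = (d : ℂ) := by rw [Representation.char_one]; simp
  let Z : Subgroup G :=
    { carrier := {g | ∃ ω : ℂ, ρ g = ω • (LinearMap.id : (Fin d → ℂ) →ₗ[ℂ] (Fin d → ℂ))}
      one_mem' := ⟨1, by rw [map_one, one_smul]; rfl⟩
      mul_mem' := fun {a b} ⟨x, hx⟩ ⟨y, hy⟩ => ⟨x * y, by
        refine LinearMap.ext fun v => ?_
        simp [map_mul, hx, hy, mul_smul, smul_comm x y]⟩
      inv_mem' := fun {a} ⟨x, hx⟩ => by
        by_cases hd : d = 0
        · subst hd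
          exact ⟨0, LinearMap.ext fun v => Subsingleton.elim _ _⟩
        · have hx0 : x ≠ 0 := by
            intro h0
            have h1 : ρ (a⁻¹ * a) = 0 := by rw [map_mul, hx, h0, zero_smul, mul_zero]
            rw [inv_mul_cancel, map_one] at h1
            have h2 := congrFun (LinearMap.congr_fun h1 (fun _ => (1 : ℂ))) ⟨0, Nat.pos_of_ne_zero hd⟩
            simp at h2
          refine ⟨x⁻¹, LinearMap.ext fun v => ?_⟩
          have h1 : ρ a⁻¹ (ρ a v) = v := by
            rw [← Module.End.mul_apply, ← map_mul, inv_mul_cancel, map_one]; rfl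
          rw [hx, LinearMap.smul_apply, LinearMap.id_apply, map_smul] at h1
          rw [LinearMap.smul_apply, LinearMap.id_apply]
          nth_rw 2 [← h1]
          rw [smul_smul, inv_mul_cancel₀ hx0, one_smul] }
  haveI hZn : Z.Normal := ⟨fun z ⟨x, hx⟩ g => ⟨x, LinearMap.ext fun v => by
    simp only [map_mul, Module.End.mul_apply, hx, LinearMap.smul_apply, LinearMap.id_apply, map_smul]
    rw [← Module.End.mul_apply (ρ g) (ρ g⁻¹), ← map_mul, mul_inv_cancel, map_one]
    rfl⟩⟩
  have hmemZ : ∀ g : G, g ∈ Z ↔ ‖ρ.character g‖ = (d : ℝ) := fun g => by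
    show (∃ ω : ℂ, _) ↔ _
    rw [← eq_scalar_iff ρ g]
    simp
  by_cases hNZ : N ≤ Z
  · refine monomial_of_linear hχ ?_
    have h1 := irr_self hres
    rw [classInner, Finset.sum_congr rfl (g := fun _ => ((d : ℂ) ^ 2)) (fun x _ => by
      rw [Complex.mul_conj', (hmemZ x).1 (hNZ x.2)]; push_cast; rfl),
      Finset.sum_const, Finset.card_univ, nsmul_eq_mul, ← mul_assoc, ← Nat.card_eq_fintype_card,
      inv_mul_cancel₀ (Nat.cast_ne_zero.2 Nat.card_pos.ne'), one_mul] at h1
    have h2 : d ^ 2 = 1 := by exact_mod_cast h1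
    rw [hone, (Nat.pow_eq_one.1 h2).resolve_right two_ne_zero, Nat.cast_one]
  set M := Z ⊓ N with hM
  obtain ⟨L, -, hLmin⟩ := Finite.exists_le_minimal
    (p := fun L : Subgroup G => L.Normal ∧ M < L ∧ L ≤ N) (a := N)
    ⟨inferInstance, lt_of_le_of_ne inf_le_right (fun h => hNZ (h ▸ inf_le_left)), le_rfl⟩
  obtain ⟨hLn, hML, hLN⟩ := hLmin.1
  haveI := hLn
  obtain ⟨hcomm, r, hr, hexp⟩ := Cfsg.Agent.Solv.MaxCentralizer.chief_exponent M L hML.le hML.ne'
    inferInstance (fun K hK h1 h2 => by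
      rcases h1.eq_or_lt with h | h
      · exact Or.inl h.symm
      · exact Or.inr (le_antisymm h2 (hLmin.2 ⟨hK, h, h2.trans hLN⟩ h2)))
  haveI := Fact.mk hr
  haveI := Fintype.ofFinite L
  obtain ⟨P⟩ : Nonempty (Sylow r L) := inferInstance
  -- `L` is the product of `M` and an abelian Sylow subgroup
  have hdec : ∀ a : L, ∃ x ∈ P, ((x : G))⁻¹ * (a : G) ∈ M := by
    intro a
    obtain ⟨k, m, hmr, hkm⟩ := Nat.exists_eq_pow_mul_and_not_dvd (orderOf_pos a).ne' r hr.ne_one
    have hcop : Nat.Coprime m (r ^ k) :=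
      Nat.Coprime.pow_right k ((hr.coprime_iff_not_dvd.2 hmr).symm)
    obtain ⟨u, v, huv⟩ := (Nat.Coprime.isCoprime hcop)
    have ha : a = (a ^ m) ^ u * (a ^ (r ^ k)) ^ v := by
      rw [← zpow_natCast a m, ← zpow_natCast a (r ^ k), ← zpow_mul, ← zpow_mul, ← zpow_add,
        show (m : ℤ) * u + ((r ^ k : ℕ) : ℤ) * v = 1 by rw [← huv]; ring, zpow_one]
    have hy : (((a ^ (r ^ k)) ^ v : L) : G) ∈ M := by
      rw [Subgroup.coe_zpow]
      refine zpow_mem ?_ v
      rcases Nat.eq_zero_or_pos k with hk | hk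
      · subst hk
        rw [pow_zero, pow_one]
        have hoa : orderOf (a : G) = m := by
          rw [Subgroup.orderOf_coe, hkm, pow_zero, one_mul]
        obtain ⟨t, ht⟩ := exists_pow_eq_self_of_coprime (x := (a : G)) (n := r)
          (by rw [hoa]; exact hr.coprime_iff_not_dvd.2 hmr)
        rw [← ht]
        exact pow_mem (hexp _ a.2) t
      · rw [Subgroup.coe_pow, show r ^ k = r * r ^ (k - 1) by rw [← pow_succ']; congr 1; omega, pow_mul]
        exact pow_mem (hexp _ a.2) _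
    have hxp : IsPGroup r (Subgroup.zpowers (a ^ m)) := by
      refine IsPGroup.of_card (n := k) ?_
      rw [Nat.card_zpowers, orderOf_pow, hkm,
        Nat.gcd_eq_right (Dvd.intro_left _ rfl), Nat.mul_div_cancel _ (Nat.pos_of_ne_zero fun h0 => hmr (by rw [h0]; exact dvd_zero r))]
    obtain ⟨Q, hQ⟩ := hxp.exists_le_sylow
    obtain ⟨l, hl⟩ := MulAction.exists_smul_eq L Q P
    have hxQ : (a ^ m) ^ u ∈ Q := zpow_mem (hQ (Subgroup.mem_zpowers _)) u
    set x := (a ^ m) ^ u with hx
    have hxP : l * x * l⁻¹ ∈ P := by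
      rw [← hl]
      exact ⟨x, hxQ, rfl⟩
    refine ⟨_, hxP, ?_⟩
    have h1 : ((l * x * l⁻¹ : L) : G)⁻¹ * (x : G) ∈ M := by
      have := hcomm _ l.2 _ (inv_mem x.2)
      simpa [mul_assoc] using this
    have h2 := mul_mem h1 hy
    rwa [mul_assoc, ← Subgroup.coe_mul, ← ha] at h2
  have hPab : ∀ a ∈ P, ∀ b ∈ P, (a : G) * b = b * a := fun a ha b hb =>
    hab r ((P : Subgroup L).map L.subtype) ((Subgroup.map_subtype_le _).trans hLN) (P.isPGroup'.map _)
      _ (Subgroup.mem_map_of_mem _ ha) _ (Subgroup.mem_map_of_mem _ hb)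
  have hρcomm : ∀ a b : L, ρ (a : G) * ρ (b : G) = ρ (b : G) * ρ (a : G) := by
    intro a b
    obtain ⟨x, hx, hxa⟩ := hdec a
    obtain ⟨y, hy, hyb⟩ := hdec b
    obtain ⟨w, hw⟩ : ((x : G))⁻¹ * (a : G) ∈ Z := inf_le_left (b := N) hxa
    obtain ⟨w', hw'⟩ : ((y : G))⁻¹ * (b : G) ∈ Z := inf_le_left (b := N) hyb
    have e1 : ρ (a : G) = w • ρ (x : G) := by
      rw [show (a : G) = (x : G) * ((x : G)⁻¹ * a) by group, map_mul, hw, mul_smul_comm]
      rfl
    have e2 : ρ (b : G) = w' • ρ (y : G) := by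
      rw [show (b : G) = (y : G) * ((y : G)⁻¹ * b) by group, map_mul, hw', mul_smul_comm]
      rfl
    rw [e1, e2, smul_mul_smul_comm, smul_mul_smul_comm, mul_comm w w', ← map_mul, ← map_mul,
      hPab x hx y hy]
  -- Clifford correspondent over `L`
  obtain ⟨m, hm⟩ := exists_decomposition (isCharacter_comp L.subtype (irr_isCharacter hχ))
  obtain ⟨θ, hθ⟩ : ∃ θ : IrrCharacter L, m θ ≠ 0 := by
    by_contra hcon
    push Not at hcon
    have h1 := congrFun hm 1
    simp [hcon] at h1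
    exact irr_one_ne_zero hχ (by rw [hone, h1, Nat.cast_zero])
  obtain ⟨T, ψ, e, hLT, hψ, hind, he, -, hψval, -⟩ := exists_correspondent hχ L θ (by
    rw [show (fun a : L => ρ.character a) = ρ.character ∘ L.subtype from rfl, decomposition_coeff m hm θ]
    exact_mod_cast hθ)
  haveI := Fintype.ofFinite T
  have hT : T ≠ ⊤ := by
    intro htop
    subst htop
    have hval : ∀ a : L, ρ.character (a : G) = (e : ℂ) * (θ : L → ℂ) a := by
      intro a
      rw [← hψval a, hind]
      show _ * ∑ x : G, extendByZero ⊤ ψ (x⁻¹ * (a : G) * x) = _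
      have hψc := isClassFunction_character (irr_isCharacter hψ)
      rw [Finset.sum_congr rfl (g := fun _ => ψ ⟨(a : G), Subgroup.mem_top _⟩) (fun x _ => by
        rw [extendByZero_mem ⊤ _ (Subgroup.mem_top _)]
        have h1 := hψc ⟨(a : G), Subgroup.mem_top _⟩ ⟨x⁻¹, Subgroup.mem_top _⟩
        refine Eq.trans (congrArg ψ (Subtype.ext ?_)) h1
        simp),
        Finset.sum_const, Finset.card_univ, nsmul_eq_mul, ← mul_assoc, Subgroup.card_top,
        ← Nat.card_eq_fintype_card, inv_mul_cancel₀ (Nat.cast_ne_zero.2 Nat.card_pos.ne'), one_mul]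
      rfl
    obtain ⟨t, σ, hσ, hσθ⟩ := θ.2
    have hθ1 : (θ : L → ℂ) 1 = (t : ℂ) := by rw [← hσθ, Representation.char_one]; simp
    have hd : (d : ℂ) = (e : ℂ) * t := by rw [← hθ1, ← hval 1, Subgroup.coe_one, hone]
    have he' : (e : ℂ) ≠ 0 := Nat.cast_ne_zero.2 he
    have hσcomm : ∀ a b : L, σ a * σ b = σ b * σ a := by
      intro a b
      have hc : σ (a * b * a⁻¹ * b⁻¹) = LinearMap.id := by
        rw [← eq_id_iff σ, congrFun hσθ]
        refine mul_left_cancel₀ he' ?_
        rw [← hval, show (Module.finrank ℂ (Fin t → ℂ) : ℂ) = t by simp, ← hd, ← hone]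
        have h1 : ρ (((a * b * a⁻¹ * b⁻¹ : L) : G)) = ρ 1 := by
          push_cast
          rw [map_mul, map_mul, map_mul, hρcomm a b, mul_assoc (ρ (b : G)), ← map_mul, mul_inv_cancel,
            map_one, mul_one, ← map_mul, mul_inv_cancel, map_one]
        show LinearMap.trace ℂ _ (ρ _) = LinearMap.trace ℂ _ (ρ 1)
        rw [h1]
      have h2 : σ (a * b) = σ (a * b * a⁻¹ * b⁻¹) * σ (b * a) := by rw [← map_mul]; congr 1; group
      rw [← map_mul, ← map_mul, h2, hc]
      rfl
    refine hML.not_ge (le_inf (fun a ha => ?_) hLN)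
    haveI := hσ
    let Ti : σ.IntertwiningMap σ := (σ ⟨a, ha⟩).intertwiningMap_of_isIntertwiningMap σ σ
      (fun k v => LinearMap.congr_fun (hσcomm ⟨a, ha⟩ k) v)
    obtain ⟨c, hc⟩ :=
      (Representation.IsIrreducible.algebraMap_intertwiningMap_bijective_of_isAlgClosed
        (ρ := σ) (k := ℂ)).2 Ti
    have hsc : σ ⟨a, ha⟩ = c • LinearMap.id := by
      refine LinearMap.ext fun v => ?_
      have := congrArg (fun F : σ.IntertwiningMap σ => F v) hc
      rw [show σ ⟨a, ha⟩ v = Ti v from rfl, ← this]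
      rfl
    have hn1 := (eq_scalar_iff σ ⟨a, ha⟩).2 ⟨c, hsc⟩
    rw [congrFun hσθ] at hn1
    rw [hmemZ, hval ⟨a, ha⟩, norm_mul, hn1, Complex.norm_natCast]
    simp only [Module.finrank_fin_fun]
    exact_mod_cast hd.symm
  -- the restriction of `ψ` to `T ⊓ N` is irreducible
  set D := N.subgroupOf T with hD
  haveI : Fintype D := Fintype.ofFinite D
  obtain ⟨mψ, hmψ⟩ := exists_decomposition (isCharacter_comp D.subtype (irr_isCharacter hψ))
  obtain ⟨φ, hφ⟩ : ∃ φ : IrrCharacter D, mψ φ ≠ 0 := by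
    by_contra hcon
    push Not at hcon
    have h1 := congrFun hmψ 1
    simp [hcon] at h1
    exact irr_one_ne_zero hψ h1
  have hχc : IsClassFunction G ρ.character := isClassFunction_character (irr_isCharacter hχ)
  have hψin : classInner ψ (fun t : T => ρ.character t) ≠ 0 := by
    rw [← frobenius T ψ hχc, ← hind, irr_self hχ]
    exact one_ne_zero
  obtain ⟨mT, hmT⟩ := exists_decomposition (isCharacter_comp T.subtype (irr_isCharacter hχ))
  have hmTψ : mT ⟨ψ, hψ⟩ ≠ 0 := fun h0 => hψin (by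
    rw [← classInner_symm, show (fun t : T => ρ.character t) = ρ.character ∘ T.subtype from rfl,
      show classInner (ρ.character ∘ T.subtype) ψ = _ from decomposition_coeff mT hmT ⟨ψ, hψ⟩, h0,
      Nat.cast_zero, map_zero])
  have hnat : ∀ ξ : IrrCharacter T, ∃ k : ℕ, classInner ((ξ : T → ℂ) ∘ D.subtype) (φ : D → ℂ) = k :=
    fun ξ => classInner_natCast (isCharacter_comp D.subtype (irr_isCharacter ξ.2)) (irr_isCharacter φ.2)
  choose kf hk using hnat
  have hin : classInner (fun x : D => ρ.character ((x : T) : G)) (φ : D → ℂ) ≠ 0 := by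
    have h1 : (fun x : D => ρ.character ((x : T) : G)) =
        ∑ ξ : IrrCharacter T, mT ξ • ((ξ : T → ℂ) ∘ D.subtype) := by
      funext x
      have := congrFun hmT (x : T)
      simp only [Finset.sum_apply, Pi.smul_apply] at this ⊢
      exact this
    rw [h1, classInner_sum_left]
    simp only [← Nat.cast_smul_eq_nsmul ℂ, classInner_smul_left, hk, ← Nat.cast_mul, ← Nat.cast_sum]
    rw [Nat.cast_ne_zero]
    refine (Nat.pos_iff_ne_zero.1 ?_)
    refine lt_of_lt_of_le ?_ (Finset.single_le_sum (f := fun ξ => mT ξ * kf ξ) (fun _ _ => Nat.zero_le _)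
      (Finset.mem_univ (⟨ψ, hψ⟩ : IrrCharacter T)))
    refine Nat.mul_pos (Nat.pos_of_ne_zero hmTψ) (Nat.pos_of_ne_zero fun h0 => hφ ?_)
    have h2 := hk ⟨ψ, hψ⟩
    rw [h0, Nat.cast_zero, show classInner (ψ ∘ D.subtype) (φ : D → ℂ) = _ from
      decomposition_coeff mψ hmψ φ] at h2
    exact_mod_cast h2
  set E := T.subgroupOf N with hE
  haveI : Fintype E := Fintype.ofFinite E
  let eDE : E ≃* D :=
    { toFun := fun x => ⟨⟨((x : N) : G), x.2⟩, (x : N).2⟩
      invFun := fun x => ⟨⟨((x : T) : G), x.2⟩, (x : T).2⟩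
      left_inv := fun x => rfl
      right_inv := fun x => rfl
      map_mul' := fun x y => rfl }
  have hφE := isIrrCharacter_comp_equiv eDE φ.2
  have hne : classInner (indFun E (fun x => (φ : D → ℂ) (eDE x))) (fun x : N => ρ.character x) ≠ 0 := by
    rw [frobenius E _ (isClassFunction_character (irr_isCharacter hres)), ← classInner_symm]
    refine (map_ne_zero (starRingEnd ℂ)).2 ?_
    convert hin using 1
    simp only [classInner, Nat.card_congr eDE.toEquiv]
    congr 1
    exact Fintype.sum_equiv eDE.toEquiv _ _ fun x => rfl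
  have hdeg := degree_le_of_classInner_ne_zero (isCharacter_indFun E (irr_isCharacter hφE))
    ⟨fun x : N => ρ.character x, hres⟩ hne
  simp only [indFun_one, map_one, Subgroup.coe_one, hone] at hdeg
  obtain ⟨dψ, hdψ⟩ := charOne_eq_natCast (irr_isCharacter hψ)
  obtain ⟨dφ, hdφ⟩ := charOne_eq_natCast (irr_isCharacter φ.2)
  rw [hdφ, ← Nat.cast_mul, Complex.natCast_re, Complex.natCast_re, Nat.cast_le] at hdeg
  have hd2 : d = T.index * dψ := by
    have h1 := congrFun hind 1
    rw [indFun_one, hdψ, hone] at h1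
    exact_mod_cast h1
  have hidx : E.index ≤ T.index := by
    show T.relIndex N ≤ _
    rw [← Subgroup.relIndex_top_right T]
    exact Subgroup.relIndex_le_of_le_right le_top (by simpa using Subgroup.index_ne_zero_of_finite)
  have hTpos : 0 < T.index := Nat.pos_of_ne_zero Subgroup.index_ne_zero_of_finite
  have hψle : dψ ≤ dφ := by
    rw [hd2] at hdeg
    exact Nat.le_of_mul_le_mul_left (hdeg.trans (Nat.mul_le_mul_right _ hidx)) hTpos
  have hφψ : (fun x : D => ψ (x : T)) = (φ : D → ℂ) := by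
    show ψ ∘ D.subtype = _
    refine eq_of_inner_ne_zero_of_deg (isCharacter_comp D.subtype (irr_isCharacter hψ)) φ
      (by rw [decomposition_coeff mψ hmψ φ]
          exact_mod_cast hφ) ?_
    have h1 : ψ 1 = ∑ ξ : IrrCharacter D, (mψ ξ : ℂ) * (ξ : D → ℂ) 1 := by
      have := congrFun hmψ 1
      simpa [Finset.sum_apply] using this
    have h2 : (mψ φ * dφ : ℕ) ≤ dψ := by
      have hall : ∀ ξ : IrrCharacter D, ∃ k : ℕ, (ξ : D → ℂ) 1 = k := fun ξ =>
        charOne_eq_natCast (irr_isCharacter ξ.2)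
      choose g hg using hall
      rw [hdψ] at h1
      simp only [hg, ← Nat.cast_mul, ← Nat.cast_sum, Nat.cast_inj] at h1
      have hgφ : g φ = dφ := by exact_mod_cast (hg φ).symm.trans hdφ
      rw [h1, ← hgφ]
      exact Finset.single_le_sum (f := fun ξ => mψ ξ * g ξ) (fun _ _ => Nat.zero_le _) (Finset.mem_univ φ)
    show ψ ((1 : D) : T) = (φ : D → ℂ) 1
    rw [hdφ, OneMemClass.coe_one, hdψ, le_antisymm hψle
      ((Nat.le_mul_of_pos_left dφ (Nat.pos_of_ne_zero hφ)).trans h2)]
  have hcard : Nat.card T < n := by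
    rw [← hn]
    exact lt_of_le_of_ne (Subgroup.card_le_card_group T) fun h => hT (Subgroup.eq_top_of_card_eq T h)
  haveI : D.Normal := (inferInstance : N.Normal).comap _
  obtain ⟨H, l, hl⟩ := IH _ hcard T rfl D (fun p _ Q hQ hQp a ha b hb => Subtype.ext
    (hab p (Q.map T.subtype) (by rintro _ ⟨w, hw, rfl⟩; exact hQ hw) (hQp.map _)
      _ (Subgroup.mem_map_of_mem _ ha) _ (Subgroup.mem_map_of_mem _ hb))) ψ hψ (hφψ ▸ φ.2)
  refine ⟨H.map T.subtype,
    l.comp (Subgroup.equivMapOfInjective H T.subtype T.subtype_injective).symm.toMonoidHom, ?_⟩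
  rw [hind, hl]
  exact indFun_map_subtype H l

end Cfsg.Agent.Char
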