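import Mathlib
import Cfsg.Agent.Lib.Char.Basic
import Cfsg.Agent.Lib.Char.Inflate

/-!
# Central type groups from bijective cocycles

A group `W` with a bijective cocycle into a `W`-module `A` killed by a squarefree `r` gives a monomial
group on the functions on `W`, of central type with centre of order `r` and central quotient containing `W`.
Every finite solvable group embeds into such a group `W`, by iterated wreath products.
-/

set_option autoImplicit false
set_option linter.unusedSectionVars false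
set_option linter.style.haveILetI false

namespace Cfsg.Agent.Char.CentralType

open Cfsg Module
open scoped ComplexConjugate

universe u

section Embed

/-- An embedding into a group with a bijective cocycle into a module killed by `r`. -/
def Emb (r : ℕ) (G : Type u) [Group G] : Prop :=
  ∃ (W : Type u) (_ : Group W) (_ : Finite W) (A : Type u) (_ : AddCommGroup A)
    (_ : DistribMulAction W A) (e : G →* W) (π : W → A),
    Function.Injective e ∧ Function.Bijective π ∧ (∀ x y : W, π (x * y) = π x + x • π y) ∧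
      (∀ a : A, r • a = 0) ∧ ∀ q : ℕ, q.Prime → q ∣ Nat.card W → q ∣ r

theorem emb_of_subsingleton (r : ℕ) (G : Type u) [Group G] [Subsingleton G] : Emb r G := by
  let W := ULift.{u} (Multiplicative (ZMod 1))
  let A := ULift.{u} (ZMod 1)
  letI : DistribMulAction W A :=
    { smul := fun _ a => a
      one_smul := fun _ => rfl
      mul_smul := fun _ _ _ => rfl
      smul_zero := fun _ => rfl
      smul_add := fun _ _ _ => rfl }
  refine ⟨W, inferInstance, inferInstance, A, inferInstance, inferInstance, 1, fun _ => 0,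
    fun a b _ => Subsingleton.elim a b, ⟨fun a b _ => Subsingleton.elim a b, fun a => ⟨1, Subsingleton.elim _ a⟩⟩,
    fun x y => Subsingleton.elim _ _, fun a => Subsingleton.elim _ _, fun q hq hd => ?_⟩
  rw [Nat.card_of_subsingleton (1 : W)] at hd
  exact absurd (Nat.dvd_one.1 hd) hq.ne_one

/-- The wreath product with a cyclic group of prime order. -/
theorem emb_step {r : ℕ} {G : Type u} [Group G] [Finite G] (M : Subgroup G) [M.Normal] {q : ℕ}
    (hq : M.index = q) (hqp : q.Prime) (hqr : q ∣ r) (h : Emb r M) : Emb r G := by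
  classical
  obtain ⟨W, _, _, A, _, _, e, π, he, hπ, hcoc, hr, hW⟩ := h
  let Q := G ⧸ M
  have hQ : Nat.card Q = q := by rw [← hq]; exact (Subgroup.index_eq_card M).symm
  haveI : Fact q.Prime := ⟨hqp⟩
  haveI : IsCyclic Q := isCyclic_of_prime_card hQ
  letI : CommGroup Q := IsCyclic.commGroup
  let W' := RegularWreathProduct W Q
  let A' := (Q → A) × Additive Q
  letI : DistribMulAction W' A' :=
    { smul := fun w a => (fun x => w.left x • a.1 (w.right⁻¹ * x), a.2)
      one_smul := fun a => Prod.ext (funext fun x => by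
        show (1 : W) • a.1 ((1 : Q)⁻¹ * x) = a.1 x
        rw [one_smul, inv_one, one_mul]) rfl
      mul_smul := fun v w a => Prod.ext (funext fun x => by
        show (v * w).left x • a.1 ((v * w).right⁻¹ * x) =
          v.left x • (w.left (v.right⁻¹ * x) • a.1 (w.right⁻¹ * (v.right⁻¹ * x)))
        rw [RegularWreathProduct.mul_left, RegularWreathProduct.mul_right, Pi.mul_apply, mul_smul,
          mul_inv_rev, mul_assoc]) rfl
      smul_zero := fun w => Prod.ext (funext fun x => smul_zero (w.left x)) rfl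
      smul_add := fun w a b => Prod.ext (funext fun x => smul_add (w.left x) _ _) rfl }
  haveI : Finite W' := Finite.of_equiv _ (RegularWreathProduct.equivProd W Q).symm
  let s : Q → G := Quotient.out
  have hs : ∀ x : Q, (QuotientGroup.mk (s x) : Q) = x := fun x => QuotientGroup.out_eq' x
  let m : G → Q → M := fun g x => ⟨(s x)⁻¹ * g * s ((g : Q)⁻¹ * x), by
    rw [← QuotientGroup.eq_one_iff, QuotientGroup.mk_mul, QuotientGroup.mk_mul, QuotientGroup.mk_inv,
      hs, hs]
    group⟩
  let E : G →* W' := MonoidHom.mk' (fun g => ⟨fun x => e (m g x), (g : Q)⟩) fun g h =>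
    RegularWreathProduct.ext (funext fun x => by
      show e (m (g * h) x) = e (m g x) * e (m h ((g : Q)⁻¹ * x))
      rw [← map_mul]
      refine congrArg e (Subtype.ext ?_)
      show (s x)⁻¹ * (g * h) * s ((↑(g * h) : Q)⁻¹ * x) =
        (s x)⁻¹ * g * s ((g : Q)⁻¹ * x) * ((s ((g : Q)⁻¹ * x))⁻¹ * h * s ((h : Q)⁻¹ * ((g : Q)⁻¹ * x)))
      rw [QuotientGroup.mk_mul, mul_inv_rev, mul_assoc (h : Q)⁻¹]
      group) rfl
  refine ⟨W', inferInstance, inferInstance, A', inferInstance, inferInstance, E,
    fun w => (fun x => π (w.left x), Additive.ofMul w.right), ?_, ⟨?_, ?_⟩, ?_, ?_, ?_⟩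
  · intro g h hgh
    have h2 : (g : Q) = (h : Q) := congrArg RegularWreathProduct.right hgh
    have h1 := congrArg Subtype.val (he (congrFun (congrArg RegularWreathProduct.left hgh) 1))
    change (s 1)⁻¹ * g * s ((g : Q)⁻¹ * 1) = (s 1)⁻¹ * h * s ((h : Q)⁻¹ * 1) at h1
    rw [h2] at h1
    exact mul_left_cancel (mul_right_cancel h1)
  · intro v w hvw
    exact RegularWreathProduct.ext (funext fun x => hπ.1 (congrFun (congrArg Prod.fst hvw) x))
      (Additive.ofMul.injective (congrArg Prod.snd hvw))
  · rintro ⟨a, b⟩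
    choose f hf using fun x : Q => hπ.2 (a x)
    exact ⟨⟨f, Additive.toMul b⟩, Prod.ext (funext hf) rfl⟩
  · intro v w
    exact Prod.ext (funext fun x => hcoc _ _) rfl
  · rintro ⟨a, b⟩
    refine Prod.ext (funext fun x => hr (a x)) ?_
    show r • b = 0
    obtain ⟨j, rfl⟩ := hqr
    apply Additive.toMul.injective
    rw [toMul_nsmul, toMul_zero, ← hQ, pow_mul, pow_card_eq_one', one_pow]
  · intro l hl hd
    rw [Nat.card_congr (RegularWreathProduct.equivProd W Q), Nat.card_prod, Nat.card_fun, hQ] at hd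
    rcases hl.dvd_mul.1 hd with h1 | h1
    · exact hW l hl (hl.dvd_of_dvd_pow h1)
    · exact h1.trans hqr

theorem emb_of_solvable {r : ℕ} : ∀ (n : ℕ) (G : Type u) [Group G] [Finite G], Nat.card G = n →
    Group.IsSolvable G → (∀ q : ℕ, q.Prime → q ∣ Nat.card G → q ∣ r) → Emb r G := by
  intro n
  induction n using Nat.strong_induction_on with
  | _ n ih =>
    intro G _ _ hn hsol hpr
    haveI := hsol
    rcases subsingleton_or_nontrivial G with hs | hnt
    · exact emb_of_subsingleton r G
    have hlt : commutator G < ⊤ := IsSolvable.commutator_lt_top_of_nontrivial G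
    obtain h | ⟨M, hM, hle⟩ := eq_top_or_exists_le_coatom (commutator G)
    · exact absurd h hlt.ne
    haveI : M.Normal := ⟨fun x hx g => by
      have h1 : g * x * g⁻¹ * x⁻¹ ∈ M := hle (Subgroup.commutator_mem_commutator (Subgroup.mem_top g) (Subgroup.mem_top x))
      simpa using M.mul_mem h1 hx⟩
    haveI : IsMulCommutative (G ⧸ M) := ⟨⟨fun a b => by
      induction a using QuotientGroup.induction_on with | _ a =>
      induction b using QuotientGroup.induction_on with | _ b =>
      rw [← QuotientGroup.mk_mul, ← QuotientGroup.mk_mul, QuotientGroup.eq]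
      refine hle ?_
      have h1 := Subgroup.commutator_mem_commutator (Subgroup.mem_top b⁻¹) (Subgroup.mem_top a⁻¹)
      rw [commutatorElement_def, inv_inv, inv_inv] at h1
      rw [mul_inv_rev, ← mul_assoc]
      exact h1⟩⟩
    haveI : Nontrivial (G ⧸ M) := by
      refine (Finite.one_lt_card_iff_nontrivial).1 ?_
      rw [← Subgroup.index_eq_card]
      exact Subgroup.one_lt_index_of_ne_top hM.1
    letI : CommGroup (G ⧸ M) := { (inferInstance : Group (G ⧸ M)) with mul_comm := mul_comm' }
    haveI : IsSimpleGroup (G ⧸ M) := ⟨fun H _ => by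
      have h1 : M ≤ H.comap (QuotientGroup.mk' M) := fun x hx => by
        rw [Subgroup.mem_comap, QuotientGroup.mk'_apply, (QuotientGroup.eq_one_iff x).2 hx]
        exact H.one_mem
      rcases eq_or_lt_of_le h1 with h2 | h2
      · left
        apply Subgroup.comap_injective (QuotientGroup.mk'_surjective M)
        rw [← h2, MonoidHom.comap_bot, QuotientGroup.ker_mk']
      · right
        apply Subgroup.comap_injective (QuotientGroup.mk'_surjective M)
        rw [hM.2 _ h2, Subgroup.comap_top]⟩
    have hp : (M.index).Prime := by rw [Subgroup.index_eq_card]; exact IsSimpleGroup.prime_card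
    refine emb_step M rfl hp (hpr _ hp M.index_dvd_card) (ih (Nat.card M) ?_ M rfl inferInstance
      fun q hq hd => hpr q hq (hd.trans M.card_subgroup_dvd_card))
    rw [← hn, ← M.card_mul_index]
    exact lt_mul_of_one_lt_right Nat.card_pos hp.one_lt

end Embed

section Monomial

variable {W A : Type u} [Group W] [Fintype W] [AddCommGroup A] [Fintype A] [DistribMulAction W A]
  (π : W → A) (r : ℕ)

/-- A monomial operator on the functions on `W`. -/
def opE (c : ℂ) (f : AddChar A ℂ) (x : W) : Module.End ℂ (W → ℂ) where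
  toFun v := fun w => c * f (π w) * v (x⁻¹ * w)
  map_add' u v := funext fun w => by simp [mul_add]
  map_smul' a v := funext fun w => by simp; ring

theorem opE_apply (c : ℂ) (f : AddChar A ℂ) (x : W) (v : W → ℂ) (w : W) :
    opE π c f x v w = c * f (π w) * v (x⁻¹ * w) := rfl

variable {π}

/-- The shifted character. -/
def shift (x : W) (g : AddChar A ℂ) : AddChar A ℂ :=
  g.compAddMonoidHom (DistribSMul.toAddMonoidHom A x⁻¹)

theorem opE_mul (hcoc : ∀ x y : W, π (x * y) = π x + x • π y) (c d : ℂ) (f g : AddChar A ℂ) (x y : W) :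
    opE π c f x * opE π d g y = opE π (c * d * g (π x⁻¹)) (f * shift x g) (x * y) := by
  refine LinearMap.ext fun v => funext fun w => ?_
  show c * f (π w) * (d * g (π (x⁻¹ * w)) * v (y⁻¹ * (x⁻¹ * w))) =
    c * d * g (π x⁻¹) * (f * shift x g) (π w) * v ((x * y)⁻¹ * w)
  rw [hcoc, AddChar.map_add_eq_mul, AddChar.mul_apply, mul_inv_rev, mul_assoc y⁻¹,
    show shift x g (π w) = g (x⁻¹ • π w) from rfl]
  ring

theorem cocycle_one (hcoc : ∀ x y : W, π (x * y) = π x + x • π y) : π 1 = 0 := by
  have h := hcoc 1 1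
  rw [one_mul, one_smul] at h
  exact left_eq_add.1 h

theorem opE_one : opE π 1 1 (1 : W) = 1 := by
  refine LinearMap.ext fun v => funext fun w => ?_
  simp [opE_apply]

theorem opE_injective (hcoc : ∀ x y : W, π (x * y) = π x + x • π y) (hπ : Function.Surjective π)
    {c d : ℂ} (hc : c ≠ 0) {f g : AddChar A ℂ} {x y : W} (h : opE π c f x = opE π d g y) :
    c = d ∧ f = g ∧ x = y := by
  classical
  have hxy : x = y := by
    by_contra hne
    have := congrFun (LinearMap.congr_fun h (Pi.single 1 1)) x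
    rw [opE_apply, opE_apply, inv_mul_cancel, Pi.single_eq_same,
      Pi.single_eq_of_ne (fun e => hne (inv_mul_eq_one.1 e).symm), mul_zero, mul_one] at this
    rcases mul_eq_zero.1 this with e | e
    · exact hc e
    · exact (f.val_isUnit (π x)).ne_zero e
  subst hxy
  have hfg : ∀ w, c * f (π w) = d * g (π w) := fun w => by
    have := congrFun (LinearMap.congr_fun h fun _ => 1) w
    simpa [opE_apply] using this
  have hcd : c = d := by simpa [cocycle_one hcoc] using hfg 1
  refine ⟨hcd, AddChar.ext _ _ fun a => ?_, rfl⟩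
  obtain ⟨w, rfl⟩ := hπ a
  have := hfg w
  rw [← hcd] at this
  exact mul_left_cancel₀ hc this

variable {r}

theorem char_pow_eq_one (hr : ∀ a : A, r • a = 0) (g : AddChar A ℂ) (a : A) : g a ^ r = 1 := by
  rw [← AddChar.map_nsmul_eq_pow, hr, AddChar.map_zero_eq_one]

theorem opE_isUnit (c : ℂ) (hc : c ≠ 0) (f : AddChar A ℂ) (x : W) : IsUnit (opE π c f x) := by
  rw [LinearMap.isUnit_iff_ker_eq_bot, LinearMap.ker_eq_bot']
  intro v hv
  funext w
  have := congrFun hv (x * w)
  rw [opE_apply, inv_mul_cancel_left, Pi.zero_apply] at this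
  rcases mul_eq_zero.1 this with h | h
  · rcases mul_eq_zero.1 h with h | h
    · exact absurd h hc
    · exact absurd h (f.val_isUnit _).ne_zero
  · exact h

theorem trace_opE (hπ : Function.Bijective π) (c : ℂ) (f : AddChar A ℂ) (x : W) :
    LinearMap.trace ℂ (W → ℂ) (opE π c f x) =
      (open scoped Classical in if x = 1 ∧ f = 1 then c * (Fintype.card W : ℂ) else 0) := by
  classical
  rw [LinearMap.trace_eq_matrix_trace ℂ (Pi.basisFun ℂ W), Matrix.trace]
  have hdiag : ∀ w, Matrix.diag (LinearMap.toMatrix (Pi.basisFun ℂ W) (Pi.basisFun ℂ W) (opE π c f x)) w =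
      if x = 1 then c * f (π w) else 0 := by
    intro w
    rw [Matrix.diag_apply, LinearMap.toMatrix_apply, Pi.basisFun_apply, Pi.basisFun_repr, opE_apply]
    by_cases hx : x = 1
    · subst hx; simp
    · rw [if_neg hx, Pi.single_eq_of_ne, mul_zero]
      intro e
      exact hx (inv_eq_one.1 (mul_eq_right.1 e))
  rw [Finset.sum_congr rfl fun w _ => hdiag w]
  by_cases hx : x = 1
  · simp only [hx, true_and, if_true]
    rw [← Finset.mul_sum, Fintype.sum_bijective π hπ (fun w => f (π w)) (fun a => f a) (fun _ => rfl), AddChar.sum_eq_ite]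
    have e : Fintype.card A = Fintype.card W := (Fintype.card_of_bijective hπ).symm
    by_cases hf : f = 1
    · rw [if_pos hf, if_pos (by rw [hf]; rfl), e]
    · rw [if_neg hf, if_neg (fun h0 => hf (by rw [h0]; rfl)), mul_zero]
  · simp [hx]

/-- The monomial group. -/
theorem exists_central_type (hπ : Function.Bijective π) (hcoc : ∀ x y : W, π (x * y) = π x + x • π y)
    (hr : ∀ a : A, r • a = 0) (hr0 : r ≠ 0) :
    ∃ (H : Type u) (_ : Group H) (_ : Finite H) (χ : IrrCharacter H),
      (∀ h : H, (χ : H → ℂ) h = (χ : H → ℂ) 1 → h = 1) ∧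
      charDegree (χ : H → ℂ) = Fintype.card W ∧
      (Subgroup.center H).index = Fintype.card W ^ 2 ∧ Nat.card (Subgroup.center H) = r ∧
      ∃ f : W →* H ⧸ Subgroup.center H, Function.Injective f := by
  classical
  let S : Set (Module.End ℂ (W → ℂ))ˣ :=
    {u | ∃ (c : ℂ) (f : AddChar A ℂ) (x : W), c ^ r = 1 ∧ (u : Module.End ℂ (W → ℂ)) = opE π c f x}
  let Sm : Submonoid (Module.End ℂ (W → ℂ))ˣ :=
    { carrier := S
      one_mem' := ⟨1, 1, 1, one_pow r, opE_one.symm⟩
      mul_mem' := by
        rintro u v ⟨c, f, x, hc, hu⟩ ⟨d, g, y, hd, hv⟩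
        refine ⟨c * d * g (π x⁻¹), f * shift x g, x * y, ?_, ?_⟩
        · rw [mul_pow, mul_pow, hc, hd, char_pow_eq_one hr, one_mul, one_mul]
        · rw [Units.val_mul, hu, hv, opE_mul hcoc] }
  have hc0 : ∀ c : ℂ, c ^ r = 1 → c ≠ 0 := fun c hc h0 => by
    rw [h0, zero_pow hr0] at hc; exact zero_ne_one hc
  haveI : NeZero r := ⟨hr0⟩
  let P := rootsOfUnity r ℂ × AddChar A ℂ × W
  let T : P → (Module.End ℂ (W → ℂ))ˣ := fun t =>
    (opE_isUnit (π := π) ((t.1 : ℂˣ) : ℂ) (Units.ne_zero _) t.2.1 t.2.2).unit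
  have hTmem : ∀ t : P, T t ∈ Sm := fun t => ⟨_, t.2.1, t.2.2, by
    rw [← Units.val_pow_eq_pow_val, (mem_rootsOfUnity r _).1 t.1.2, Units.val_one], IsUnit.unit_spec _⟩
  have hTval : ∀ t : P, (T t : Module.End ℂ (W → ℂ)) = opE π ((t.1 : ℂˣ) : ℂ) t.2.1 t.2.2 := fun t =>
    IsUnit.unit_spec _
  have hTsurj : ∀ u ∈ Sm, ∃ t : P, T t = u := by
    rintro u ⟨c, f, x, hc, hu⟩
    refine ⟨(⟨Units.mk0 c (hc0 c hc), (mem_rootsOfUnity r _).2 (Units.ext (by simp [hc]))⟩, f, x), ?_⟩
    exact Units.ext ((hTval _).trans hu.symm)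
  haveI : Finite Sm := Finite.of_surjective (fun t : P => (⟨T t, hTmem t⟩ : Sm)) fun u => by
    obtain ⟨t, ht⟩ := hTsurj u.1 u.2
    exact ⟨t, Subtype.ext ht⟩
  let H : Subgroup (Module.End ℂ (W → ℂ))ˣ :=
    { Sm with
      inv_mem' := fun {u} hu => by
        have h1 : IsOfFinOrder u := by
          by_contra h
          exact not_injective_infinite_finite (fun n : ℕ => (⟨u, hu⟩ : Sm) ^ n) fun a b e =>
            injective_pow_iff_not_isOfFinOrder.2 h (congrArg Subtype.val e)
        have hn := pow_orderOf_eq_one u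
        obtain ⟨k, hk⟩ := Nat.exists_eq_add_one.2 h1.orderOf_pos
        have h2 : u⁻¹ = ((⟨u, hu⟩ : Sm) ^ k : Sm).1 := by
          rw [hk, pow_succ] at hn
          exact inv_eq_of_mul_eq_one_left hn
        rw [h2]
        exact ((⟨u, hu⟩ : Sm) ^ k : Sm).2 }
  let T' : P → H := fun t => ⟨T t, hTmem t⟩
  have hT' : Function.Bijective T' := by
    refine ⟨fun s t hst => ?_, fun u => ?_⟩
    · have e : (T s : Module.End ℂ (W → ℂ)) = T t :=
        congrArg (fun u : H => ((u : (Module.End ℂ (W → ℂ))ˣ) : Module.End ℂ (W → ℂ))) hst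
      rw [hTval, hTval] at e
      obtain ⟨h1, h2, h3⟩ := opE_injective hcoc hπ.2 (Units.ne_zero _) e
      exact Prod.ext (Subtype.ext (Units.ext h1)) (Prod.ext h2 h3)
    · obtain ⟨t, ht⟩ := hTsurj u.1 u.2
      exact ⟨t, Subtype.ext ht⟩
  haveI : Finite H := Finite.of_surjective T' hT'.2
  haveI : Fintype H := Fintype.ofFinite H
  have hA : Fintype.card A = Fintype.card W := (Fintype.card_of_bijective hπ).symm
  haveI : Fintype (rootsOfUnity r ℂ) := Fintype.ofFinite _
  have hμ : Nat.card (rootsOfUnity r ℂ) = r := by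
    exact Complex.card_rootsOfUnity r
  have hcard : Nat.card H = r * Fintype.card W ^ 2 := by
    rw [← Nat.card_eq_of_bijective T' hT', Nat.card_prod, Nat.card_prod, hμ, Nat.card_eq_fintype_card,
      Nat.card_eq_fintype_card, AddChar.card_eq, hA, sq]
  -- the representation
  let ρ : Representation ℂ H (W → ℂ) := (Units.coeHom _).comp H.subtype
  have hρ : ∀ t, ρ (T' t) = opE π ((t.1 : ℂˣ) : ℂ) t.2.1 t.2.2 := hTval
  have hchar : ∀ t, ρ.character (T' t) =
      if t.2.2 = 1 ∧ t.2.1 = 1 then ((t.1 : ℂˣ) : ℂ) * (Fintype.card W : ℂ) else 0 := fun t => by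
    rw [Representation.character, hρ, trace_opE hπ]
  have h1mem : T' (1, 1, 1) = 1 := Subtype.ext (Units.ext ((hTval _).trans (by simp [opE_one])))
  have hone : ρ.character 1 = (Fintype.card W : ℂ) := by
    rw [← h1mem, hchar]; simp
  have hW0 : (Fintype.card W : ℂ) ≠ 0 := Nat.cast_ne_zero.2 Fintype.card_ne_zero
  have hnorm : classInner ρ.character ρ.character = 1 := by
    rw [classInner, ← Function.Bijective.sum_comp hT' fun u => ρ.character u * conj (ρ.character u), hcard]
    simp only [hchar]
    rw [Fintype.sum_prod_type, Finset.sum_congr rfl (g := fun _ => (Fintype.card W : ℂ) ^ 2) fun c _ => ?_,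
      Finset.sum_const, nsmul_eq_mul, Finset.card_univ, show Fintype.card (rootsOfUnity r ℂ) = r from Fintype.card_eq_nat_card.trans hμ]
    · push_cast
      have hrC : (r : ℂ) ≠ 0 := Nat.cast_ne_zero.2 hr0
      field_simp
    · rw [Fintype.sum_eq_single ((1, 1) : AddChar A ℂ × W) fun t ht => by
        rw [if_neg fun h => ht (Prod.ext h.2 h.1), zero_mul]]
      have hc : ((c : ℂˣ) : ℂ) ^ r = 1 := by
        rw [← Units.val_pow_eq_pow_val, (mem_rootsOfUnity r _).1 c.2, Units.val_one]
      rw [if_pos ⟨rfl, rfl⟩, map_mul, map_natCast, mul_mul_mul_comm, Complex.mul_conj',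
        Complex.norm_eq_one_of_pow_eq_one hc hr0]
      simp [sq]
  have hfaith : ∀ h : H, ρ.character h = ρ.character 1 → h = 1 := by
    intro h e
    obtain ⟨t, rfl⟩ := hT'.2 h
    rw [hone, hchar] at e
    split_ifs at e with hc
    · have hc1 : ((t.1 : ℂˣ) : ℂ) = 1 := mul_left_eq_self₀.1 e |>.resolve_right hW0
      rw [← h1mem]
      exact congrArg T' (Prod.ext (Subtype.ext (Units.ext hc1)) (Prod.ext hc.2 hc.1))
    · exact absurd e.symm hW0
  have hmem : ∀ t : P, T' t ∈ Subgroup.center H ↔ t.2 = (1, 1) := by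
    intro t
    constructor
    · intro hz
      have hcomm : ∀ s : P, opE π ((s.1 : ℂˣ) : ℂ) s.2.1 s.2.2 * opE π ((t.1 : ℂˣ) : ℂ) t.2.1 t.2.2 =
          opE π ((t.1 : ℂˣ) : ℂ) t.2.1 t.2.2 * opE π ((s.1 : ℂˣ) : ℂ) s.2.1 s.2.2 := fun s => by
        rw [← hρ, ← hρ, ← map_mul, ← map_mul, Subgroup.mem_center_iff.1 hz (T' s)]
      obtain ⟨c, f, x⟩ := t
      simp only [opE_mul hcoc] at hcomm
      have hx : x = 1 := by
        have h1 : π x⁻¹ = 0 := by
          rw [← AddChar.forall_apply_eq_zero]
          intro g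
          have h := hcomm (1, g, 1)
          simp only [OneMemClass.coe_one, Units.val_one, one_mul, mul_one] at h
          obtain ⟨h2, -, -⟩ := opE_injective hcoc hπ.2
            (mul_ne_zero (Units.ne_zero _) (f.val_isUnit _).ne_zero) h
          rw [inv_one, cocycle_one hcoc, AddChar.map_zero_eq_one, mul_one] at h2
          exact (mul_right_eq_self₀.1 h2.symm).resolve_right (Units.ne_zero _)
        have h2 : x⁻¹ = 1 := hπ.1 (by rw [h1, cocycle_one hcoc])
        exact inv_eq_one.1 h2
      subst hx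
      have hf : f = 1 := AddChar.ext _ _ fun a => by
        obtain ⟨y, rfl⟩ := hπ.2 a
        have h := hcomm (1, 1, y⁻¹)
        simp only [OneMemClass.coe_one, Units.val_one, one_mul, mul_one] at h
        obtain ⟨h2, -, -⟩ := opE_injective hcoc hπ.2
          (mul_ne_zero (Units.ne_zero _) (f.val_isUnit _).ne_zero) h
        simp only [inv_inv, AddChar.one_apply, mul_one] at h2 ⊢
        exact (mul_right_eq_self₀.1 h2).resolve_right (Units.ne_zero _)
      subst hf
      rfl
    · rintro ht
      obtain ⟨c, q⟩ := t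
      simp only at ht
      subst ht
      refine Subgroup.mem_center_iff.2 fun u => Subtype.ext (Units.ext ?_)
      have e : (T (c, 1, 1) : Module.End ℂ (W → ℂ)) = ((c : ℂˣ) : ℂ) • 1 := by
        rw [hTval]
        exact LinearMap.ext fun v => funext fun w => by simp [opE_apply]
      show (u.1 : Module.End ℂ (W → ℂ)) * (T (c, 1, 1) : Module.End ℂ (W → ℂ)) =
        (T (c, 1, 1) : Module.End ℂ (W → ℂ)) * u.1
      rw [e, mul_smul_comm, smul_mul_assoc, one_mul, mul_one]
  have hcenter : Nat.card (Subgroup.center H) = r := by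
    refine Eq.trans ?_ hμ
    refine (Nat.card_eq_of_bijective (fun c : rootsOfUnity r ℂ =>
      (⟨T' (c, 1, 1), (hmem _).2 rfl⟩ : Subgroup.center H)) ⟨fun c d e => ?_, fun z => ?_⟩).symm
    · exact congrArg Prod.fst (hT'.1 (congrArg Subtype.val e))
    · obtain ⟨t, ht⟩ := hT'.2 z.1
      have := (hmem t).1 (ht ▸ z.2)
      exact ⟨t.1, Subtype.ext (ht ▸ congrArg T' (Prod.ext rfl this.symm))⟩
  let L : W →* H := MonoidHom.mk' (fun x => T' (1, 1, x)) fun x y => Subtype.ext (Units.ext (by
    show (T (1, 1, x * y) : Module.End ℂ (W → ℂ)) = (T (1, 1, x) : Module.End ℂ (W → ℂ)) * T (1, 1, y)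
    rw [hTval, hTval, hTval, opE_mul hcoc]
    refine LinearMap.ext fun v => funext fun w => ?_
    simp [opE_apply, shift]))
  have hχ : IsIrrCharacter H ρ.character := isIrr_of_norm_one (isCharacter_character ρ) hnorm
  refine ⟨H, inferInstance, inferInstance, ⟨ρ.character, hχ⟩, hfaith, ?_, ?_, hcenter,
    (QuotientGroup.mk' (Subgroup.center H)).comp L, ?_⟩
  · show ⌊(ρ.character 1).re⌋₊ = _
    rw [hone, Complex.natCast_re, Nat.floor_natCast]
  · refine Nat.eq_of_mul_eq_mul_left (Nat.pos_of_ne_zero hr0) ?_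
    rw [← hcard, ← hcenter, Subgroup.card_mul_index]
  · rw [injective_iff_map_eq_one]
    intro x hx
    rw [MonoidHom.comp_apply, QuotientGroup.mk'_apply, QuotientGroup.eq_one_iff] at hx
    exact congrArg Prod.snd ((hmem (1, 1, x)).1 hx)

end Monomial

end Cfsg.Agent.Char.CentralType
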