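import Cfsg.Agent.Lib.Char.CliffordGen
import Cfsg.Agent.Lib.Char.CliffordInd
import Cfsg.Agent.Lib.Char.Gallagher
import Cfsg.Agent.Lib.Char.MonomialNilp
import Cfsg.Agent.Lib.Char.BrauerChar
import Cfsg.Agent.Lib.Char.RestrictIrred
import Cfsg.Agent.Lib.Char.FreeTrace
import Cfsg.Agent.Lib.Char.Coprime
import Mathlib.GroupTheory.RegularWreathProduct

/-!
Wreath products of M-groups with groups of prime order, and Dade's embedding theorem.
-/

set_option autoImplicit false
open scoped ComplexConjugate commutatorElement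
open Cfsg

namespace Cfsg.Agent.Char

universe u

/-- Every irreducible character is induced from a linear character of a subgroup. -/
def IsMonomialGroup (M : Type u) [Group M] [Fintype M] : Prop :=
  ∀ χ : M → ℂ, IsIrrCharacter M χ → ∃ (H : Subgroup M) (lam : H →* ℂˣ), χ = indFun H (fun h => (lam h : ℂ))

section pi

variable {Q M : Type u} [Fintype Q] [DecidableEq Q] [Group M] [Fintype M]

/-- The product of characters, one for each coordinate. -/
noncomputable def piChar (ψ : Q → IrrCharacter M) : (Q → M) → ℂ := fun f => ∏ q, (ψ q : M → ℂ) (f q)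

theorem classInner_piChar (ψ φ : Q → IrrCharacter M) :
    classInner (piChar ψ) (piChar φ) = ∏ q, classInner (ψ q : M → ℂ) (φ q : M → ℂ) := by
  classical
  simp only [classInner, piChar, map_prod, ← Finset.prod_mul_distrib]
  rw [← Fintype.prod_sum (fun q m => (ψ q : M → ℂ) m * conj ((φ q : M → ℂ) m)), Finset.prod_mul_distrib,
    Finset.prod_const, Finset.card_univ, Nat.card_fun, Nat.cast_pow, inv_pow, Nat.card_eq_fintype_card (α := Q)]

theorem isIrrCharacter_piChar (ψ : Q → IrrCharacter M) : IsIrrCharacter (Q → M) (piChar ψ) := by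
  classical
  refine isIrr_of_norm_one ?_ (by rw [classInner_piChar]; exact Finset.prod_eq_one fun q _ => irr_self (ψ q).2)
  have h : ∀ s : Finset Q, IsCharacter (Q → M) (fun f => ∏ q ∈ s, (ψ q : M → ℂ) (f q)) := by
    intro s
    induction s using Finset.induction with
    | empty => simpa using isCharacter_one (G := Q → M)
    | insert a t hat ih =>
      have h1 := isCharacter_mul (isCharacter_comp (Pi.evalMonoidHom (fun _ : Q => M) a) (irr_isCharacter (ψ a).2)) ih
      convert h1 using 1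
      funext f
      simp [Finset.prod_insert hat]
  exact h Finset.univ

theorem piChar_injective : Function.Injective (piChar (Q := Q) (M := M)) := by
  classical
  intro ψ φ h
  by_contra hne
  obtain ⟨q, hq⟩ := Function.ne_iff.1 hne
  have h1 := classInner_piChar ψ φ
  rw [h, irr_self (isIrrCharacter_piChar φ), Finset.prod_eq_zero (Finset.mem_univ q) (by
    rw [irrC_orth, if_neg hq])] at h1
  exact one_ne_zero h1

theorem exists_eq_piChar {χ : (Q → M) → ℂ} (hχ : IsIrrCharacter (Q → M) χ) :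
    ∃ ψ : Q → IrrCharacter M, χ = piChar ψ := by
  classical
  let F : (Q → IrrCharacter M) → IrrCharacter (Q → M) := fun ψ => ⟨piChar ψ, isIrrCharacter_piChar ψ⟩
  have hinj : Function.Injective F := fun a b e => piChar_injective (congrArg Subtype.val e)
  by_contra hcon
  push Not at hcon
  have hnot : (⟨χ, hχ⟩ : IrrCharacter (Q → M)) ∉ Finset.univ.image F := fun h => by
    obtain ⟨ψ, -, e⟩ := Finset.mem_image.1 h
    exact hcon ψ (congrArg Subtype.val e).symm
  choose d hd using fun θ : IrrCharacter (Q → M) => charOne_eq_natCast (irr_isCharacter θ.2)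
  choose e he using fun θ : IrrCharacter M => charOne_eq_natCast (irr_isCharacter θ.2)
  have h1 : ∑ θ : IrrCharacter (Q → M), d θ ^ 2 = Fintype.card (Q → M) := by
    have := sum_sq_deg (G := Q → M)
    simp only [hd, ← Nat.cast_pow, ← Nat.cast_sum, Nat.cast_inj] at this
    rw [this, Nat.card_eq_fintype_card]
  have h2 : ∑ θ ∈ Finset.univ.image F, d θ ^ 2 = Fintype.card (Q → M) := by
    rw [Finset.sum_image fun a _ b _ e => hinj e]
    have hM : ∑ θ : IrrCharacter M, e θ ^ 2 = Fintype.card M := by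
      have := sum_sq_deg (G := M)
      simp only [he, ← Nat.cast_pow, ← Nat.cast_sum, Nat.cast_inj] at this
      rw [this, Nat.card_eq_fintype_card]
    have hF : ∀ ψ, d (F ψ) = ∏ q, e (ψ q) := fun ψ => by
      have := hd (F ψ)
      simp only [F, piChar, Pi.one_apply, he, ← Nat.cast_prod, Nat.cast_inj] at this
      exact this.symm
    simp only [hF, ← Finset.prod_pow]
    rw [← Fintype.prod_sum (fun (_ : Q) θ => e θ ^ 2), Finset.prod_const, Finset.card_univ, hM, Fintype.card_fun]
  rw [← Finset.sum_sdiff (Finset.subset_univ (Finset.univ.image F)), h2] at h1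
  have h3 : ∑ θ ∈ Finset.univ \ Finset.univ.image F, d θ ^ 2 = 0 := by omega
  have h4 := (Finset.sum_eq_zero_iff.1 h3) ⟨χ, hχ⟩ (Finset.mem_sdiff.2 ⟨Finset.mem_univ _, hnot⟩)
  refine irr_one_ne_zero hχ ((hd ⟨χ, hχ⟩).trans ?_)
  rw [pow_eq_zero_iff two_ne_zero |>.1 h4, Nat.cast_zero]

theorem isMonomialGroup_pi (hM : IsMonomialGroup M) : IsMonomialGroup (Q → M) := by
  classical
  intro χ hχ
  obtain ⟨ψ, rfl⟩ := exists_eq_piChar hχ
  choose U l hl using fun q => hM (ψ q : M → ℂ) (ψ q).2
  haveI : ∀ q, Fintype (U q) := fun q => Fintype.ofFinite _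
  set V : Subgroup (Q → M) := Subgroup.pi Set.univ U with hV
  have hmemV : ∀ f : Q → M, f ∈ V ↔ ∀ q, f q ∈ U q := fun f => by simp [hV, Subgroup.mem_pi]
  let L : V →* ℂˣ := MonoidHom.mk' (fun v => ∏ q, l q ⟨(v : Q → M) q, (hmemV _).1 v.2 q⟩) fun v w => by
    rw [← Finset.prod_mul_distrib]
    exact Finset.prod_congr rfl fun q _ => by rw [← map_mul]; rfl
  refine ⟨V, L, funext fun f => ?_⟩
  have hcard : Nat.card V = ∏ q, Nat.card (U q) := by
    rw [← Nat.card_pi]
    exact Nat.card_congr
      { toFun := fun v q => ⟨(v : Q → M) q, (hmemV _).1 v.2 q⟩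
        invFun := fun w => ⟨fun q => (w q : M), (hmemV _).2 fun q => (w q).2⟩
        left_inv := fun v => rfl
        right_inv := fun w => rfl }
  show ∏ q, (ψ q : M → ℂ) (f q) = _
  simp only [hl, indFun]
  rw [Finset.prod_mul_distrib, Fintype.prod_sum, hcard, Nat.cast_prod, Finset.prod_inv_distrib]
  congr 1
  refine Finset.sum_congr rfl fun x _ => ?_
  by_cases hx : x⁻¹ * f * x ∈ V
  · rw [extendByZero_mem V _ hx]
    simp only [L, MonoidHom.mk'_apply, Units.coe_prod]
    refine Finset.prod_congr rfl fun q _ => ?_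
    rw [extendByZero_mem (U q) _ (show (x q)⁻¹ * f q * x q ∈ U q from (hmemV _).1 hx q)]
    rfl
  · rw [extendByZero_not_mem V _ hx]
    rw [hmemV, not_forall] at hx
    obtain ⟨q, hq⟩ := hx
    exact Finset.prod_eq_zero (Finset.mem_univ q) (extendByZero_not_mem (U q) _ hq)

end pi

theorem IsMonomialGroup.of_equiv {A B : Type u} [Group A] [Fintype A] [Group B] [Fintype B] (e : A ≃* B)
    (hA : IsMonomialGroup A) : IsMonomialGroup B := by
  classical
  intro χ hχ
  obtain ⟨H, l, hl⟩ := hA (fun a => χ (e a)) (isIrrCharacter_comp_equiv e hχ)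
  let eH := H.equivMapOfInjective e.toMonoidHom e.injective
  refine ⟨H.map e.toMonoidHom, l.comp eH.symm.toMonoidHom, funext fun b => ?_⟩
  have h1 := congrFun hl (e.symm b)
  simp only [MulEquiv.apply_symm_apply] at h1
  rw [h1, indFun, indFun, Nat.card_congr eH.toEquiv]
  congr 1
  refine Fintype.sum_equiv e.toEquiv _ _ fun a => ?_
  show _ = extendByZero _ _ ((e a)⁻¹ * b * e a)
  have hconj : (e a)⁻¹ * b * e a = e (a⁻¹ * e.symm b * a) := by simp
  by_cases ha : a⁻¹ * e.symm b * a ∈ H
  · rw [extendByZero_mem H _ ha, extendByZero_mem _ _ (show (e a)⁻¹ * b * e a ∈ H.map e.toMonoidHom by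
      rw [hconj]; exact Subgroup.mem_map_of_mem _ ha)]
    simp only [MonoidHom.coe_comp, Function.comp_apply, MulEquiv.coe_toMonoidHom]
    congr 2
    rw [MulEquiv.eq_symm_apply]
    exact Subtype.ext hconj.symm
  · rw [extendByZero_not_mem H _ ha, extendByZero_not_mem _ _ ?_]
    show ¬ (e a)⁻¹ * b * e a ∈ H.map e.toMonoidHom
    rw [hconj]
    rintro ⟨w, hw, hwe⟩
    exact ha (e.injective hwe ▸ hw)

open RegularWreathProduct in
theorem isMonomialGroup_wreath {M Q : Type u} [Group M] [Fintype M] [Group Q] [Fintype Q]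
    [Fintype (M ≀ᵣ Q)] (hp : (Nat.card Q).Prime) (hM : IsMonomialGroup M) : IsMonomialGroup (M ≀ᵣ Q) := by
  classical
  intro χ hχ
  haveI : IsCyclic Q := by haveI := Fact.mk hp; exact isCyclic_of_prime_card rfl
  letI hQc : CommGroup Q := IsCyclic.commGroup
  set B : Subgroup (M ≀ᵣ Q) := (rightHom : M ≀ᵣ Q →* Q).ker with hB
  haveI : Fintype B := Fintype.ofFinite B
  have hmemB : ∀ w : M ≀ᵣ Q, w ∈ B ↔ w.right = 1 := fun w => by simp [hB, MonoidHom.mem_ker]
  let emb : (Q → M) ≃* B :=
    { toFun := fun f => ⟨⟨f, 1⟩, (hmemB _).2 rfl⟩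
      invFun := fun b => (b : M ≀ᵣ Q).left
      left_inv := fun f => rfl
      right_inv := fun b => Subtype.ext (RegularWreathProduct.ext rfl ((hmemB _).1 b.2).symm)
      map_mul' := fun f g => Subtype.ext (RegularWreathProduct.ext (by funext x; simp) (by simp)) }
  have hembl : ∀ (f : Q → M) (q : Q), ((emb f : B) : M ≀ᵣ Q).left q = f q := fun _ _ => rfl
  have hBmon : IsMonomialGroup B := IsMonomialGroup.of_equiv emb (isMonomialGroup_pi hM)
  have hsurj : Function.Surjective (rightHom : M ≀ᵣ Q →* Q) := fun q => ⟨⟨1, q⟩, rfl⟩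
  have hidx : B.index = Nat.card Q := by
    rw [hB, Subgroup.index_ker, MonoidHom.range_eq_top.2 hsurj, Subgroup.card_top]
  -- a constituent of the restriction
  obtain ⟨m, hm⟩ := exists_decomposition (isCharacter_comp B.subtype (irr_isCharacter hχ))
  obtain ⟨θ, hθ⟩ : ∃ θ : IrrCharacter B, m θ ≠ 0 := by
    by_contra hcon
    push Not at hcon
    have h1 := congrFun hm 1
    simp [hcon] at h1
    exact irr_one_ne_zero hχ h1
  have hcons : classInner (fun b : B => χ b) (θ : B → ℂ) ≠ 0 := by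
    rw [show (fun b : B => χ b) = χ ∘ B.subtype from rfl, decomposition_coeff m hm θ]
    exact_mod_cast hθ
  obtain ⟨T, ξ, e, hBT, hξ, hind, -, hT, -, -⟩ := exists_correspondent hχ B θ hcons
  have hdvd : T.index ∣ Nat.card Q := hidx ▸ Subgroup.index_dvd_of_le hBT
  rcases hp.eq_one_or_self_of_dvd _ hdvd with h1 | h1
  swap
  · -- induced from the base group
    have hTB : B = T := by
      refine le_antisymm hBT ?_
      have h2 := Subgroup.relIndex_mul_index hBT
      rw [hidx, h1] at h2
      exact Subgroup.relIndex_eq_one.1 (Nat.eq_of_mul_eq_mul_right hp.pos (h2.trans (one_mul _).symm))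
    subst hTB
    obtain ⟨H, l, hl⟩ := hBmon ξ hξ
    refine ⟨H.map B.subtype, l.comp (Subgroup.equivMapOfInjective H B.subtype B.subtype_injective).symm.toMonoidHom, ?_⟩
    rw [hind, hl]
    exact indFun_map_subtype H l
  -- invariant constituent
  have hTtop : T = ⊤ := Subgroup.index_eq_one.1 h1
  have hinv : ∀ (w : M ≀ᵣ Q) (b : B), (θ : B → ℂ) (MulAut.conjNormal w b) = (θ : B → ℂ) b := fun w b => by
    have h2 := congrFun (congrArg Subtype.val ((hT w).1 (hTtop ▸ Subgroup.mem_top w))) b
    rw [irrComp_apply] at h2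
    exact h2
  obtain ⟨ψ, hψ⟩ := exists_eq_piChar (isIrrCharacter_comp_equiv emb θ.2)
  have hθψ : ∀ b : B, (θ : B → ℂ) b = ∏ q, (ψ q : M → ℂ) ((b : M ≀ᵣ Q).left q) := fun b => by
    obtain ⟨f, rfl⟩ := emb.surjective b
    exact congrFun hψ f
  have hconst : ∀ a : Q, ψ a = ψ 1 := by
    intro a
    have h2 : piChar (fun q => ψ (a * q)) = piChar ψ := by
      funext f
      have h3 := hinv ⟨1, a⟩ (emb f)
      rw [hθψ, hθψ] at h3
      rw [piChar, piChar]
      refine Eq.trans (Fintype.prod_equiv (Equiv.mulLeft a) _ _ fun q => ?_) h3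
      simp only [MulAut.conjNormal_apply, mul_left, inv_left, Equiv.coe_mulLeft, hembl, Pi.mul_apply, Pi.one_apply,
        Pi.inv_apply, mul_right, inv_right]
      simp [hembl]
    have h3 := congrFun (piChar_injective h2) 1
    simpa using h3
  obtain ⟨U, l, hl⟩ := hM (ψ 1 : M → ℂ) (ψ 1).2
  haveI : Fintype U := Fintype.ofFinite U
  let V : Subgroup (M ≀ᵣ Q) :=
    { carrier := {w | ∀ q, w.left q ∈ U}
      one_mem' := fun q => by simp [U.one_mem]
      mul_mem' := fun {a b} ha hb q => by
        simp only [mul_left, Pi.mul_apply]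
        exact U.mul_mem (ha q) (hb _)
      inv_mem' := fun {a} ha q => by
        simp only [inv_left, Pi.inv_apply]
        exact U.inv_mem (ha _) }
  haveI : Fintype V := Fintype.ofFinite V
  let L : V →* ℂˣ := MonoidHom.mk' (fun v => ∏ q, l ⟨(v : M ≀ᵣ Q).left q, v.2 q⟩) fun v w => by
    have h2 : ∏ q, l ⟨(w : M ≀ᵣ Q).left q, w.2 q⟩ =
        ∏ q, l ⟨(w : M ≀ᵣ Q).left ((v : M ≀ᵣ Q).right⁻¹ * q), w.2 _⟩ :=
      (Fintype.prod_equiv (Equiv.mulLeft (v : M ≀ᵣ Q).right⁻¹) _ _ fun q => rfl).symm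
    rw [h2, ← Finset.prod_mul_distrib]
    refine Finset.prod_congr rfl fun q _ => ?_
    rw [← map_mul]
    refine congrArg l (Subtype.ext ?_)
    simp
  set η : M ≀ᵣ Q → ℂ := indFun V (fun v => (L v : ℂ)) with hη
  have hcardV : Nat.card V = Nat.card U ^ Nat.card Q * Nat.card Q := by
    rw [← Nat.card_fun, ← Nat.card_prod]
    exact Nat.card_congr
      { toFun := fun v => (fun q => ⟨(v : M ≀ᵣ Q).left q, v.2 q⟩, (v : M ≀ᵣ Q).right)
        invFun := fun w => ⟨⟨fun q => (w.1 q : M), w.2⟩, fun q => (w.1 q).2⟩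
        left_inv := fun v => rfl
        right_inv := fun w => rfl }
  have hres : ∀ b : B, η b = (θ : B → ℂ) b := by
    intro b
    obtain ⟨f, rfl⟩ := emb.surjective b
    rw [hθψ, hη]
    simp only [hconst, hembl, hl, indFun]
    rw [Finset.prod_mul_distrib, Fintype.prod_sum, Finset.prod_const, Finset.card_univ, inv_pow, hcardV,
      ← Equiv.sum_comp (equivProd M Q).symm, Fintype.sum_prod_type, ← Nat.card_eq_fintype_card]
    push_cast
    rw [mul_inv, mul_assoc, Finset.mul_sum]
    congr 1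
    refine Finset.sum_congr rfl fun d _ => ?_
    have hval : ∀ a : Q, extendByZero V (fun v => (L v : ℂ))
        (((equivProd M Q).symm (d, a))⁻¹ * ((emb f : B) : M ≀ᵣ Q) * (equivProd M Q).symm (d, a)) =
        ∏ q, extendByZero U (fun h => (l h : ℂ)) ((d q)⁻¹ * f q * d q) := by
      intro a
      set w : M ≀ᵣ Q := ((equivProd M Q).symm (d, a))⁻¹ * ((emb f : B) : M ≀ᵣ Q) * (equivProd M Q).symm (d, a)
        with hw
      have hwq : ∀ q, w.left q = (d (a * q))⁻¹ * f (a * q) * d (a * q) := fun q => by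
        rw [hw]
        simp only [mul_left, Pi.mul_apply, inv_left, Pi.inv_apply, mul_right, inv_right]
        have e1 : ((emb f : B) : M ≀ᵣ Q).right = 1 := rfl
        have e2 : ((equivProd M Q).symm (d, a)).right = a := rfl
        have e3 : ((equivProd M Q).symm (d, a)).left = d := rfl
        simp [e1, e2, e3, hembl]
      by_cases hwV : w ∈ V
      · rw [extendByZero_mem V _ hwV]
        simp only [L, MonoidHom.mk'_apply, Units.coe_prod]
        refine Fintype.prod_equiv (Equiv.mulLeft a) _ _ fun q => ?_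
        rw [extendByZero_mem U _ (show (d (Equiv.mulLeft a q))⁻¹ * f (Equiv.mulLeft a q) * d (Equiv.mulLeft a q) ∈ U
          by rw [Equiv.coe_mulLeft, ← hwq]; exact hwV q)]
        refine congrArg (fun z => (l z : ℂ)) (Subtype.ext ?_)
        exact hwq q
      · rw [extendByZero_not_mem V _ hwV]
        obtain ⟨q, hq⟩ : ∃ q, w.left q ∉ U := not_forall.1 hwV
        refine (Finset.prod_eq_zero (Finset.mem_univ (a * q)) (extendByZero_not_mem U _ ?_)).symm
        rwa [← hwq]
    rw [Finset.sum_congr rfl fun a _ => hval a, Finset.sum_const, Finset.card_univ, nsmul_eq_mul,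
      ← Nat.card_eq_fintype_card, ← mul_assoc, inv_mul_cancel₀ (Nat.cast_ne_zero.2 hp.ne_zero), one_mul]
  have hηc : IsCharacter (M ≀ᵣ Q) η := isCharacter_indFun V (isCharacter_linear L)
  have hηirr : IsIrrCharacter (M ≀ᵣ Q) η := isIrr_of_comp_irr B.subtype hηc (by
    simp only [Subgroup.coe_subtype, hres]; exact θ.2)
  -- the twists of `η` exhaust the induced character
  haveI := finite_hom_units Q
  haveI := Fintype.ofFinite (Q →* ℂˣ)
  have hsum : indFun B (θ : B → ℂ) = ∑ β : Q →* ℂˣ, (fun w => (β (rightHom w) : ℂ) * η w) := by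
    funext w
    rw [Finset.sum_apply, ← Finset.sum_mul, sum_hom_apply (fun a b : Q => mul_comm a b)]
    by_cases hw : w ∈ B
    · rw [if_pos (MonoidHom.mem_ker.1 hw), ← hidx]
      have h2 := indFun_invariant B (θ : B → ℂ) hinv ⟨w, hw⟩
      rw [hres ⟨w, hw⟩]
      exact h2
    · rw [indFun_normal_not_mem B _ hw, if_neg (fun e' => hw (MonoidHom.mem_ker.2 e')), zero_mul]
  obtain ⟨β, hβ⟩ : ∃ β : Q →* ℂˣ, classInner (fun w => (β (rightHom w) : ℂ) * η w) χ ≠ 0 := by
    by_contra hc
    push Not at hc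
    have h2 : classInner (indFun B (θ : B → ℂ)) χ = 0 := by
      rw [hsum, classInner_sum_left]
      exact Finset.sum_eq_zero fun β _ => hc β
    rw [frobenius B _ (isClassFunction_character (irr_isCharacter hχ)), ← classInner_symm] at h2
    exact hcons ((map_eq_zero (starRingEnd ℂ)).1 h2)
  have hirrβ := isIrr_linear_mul hηirr (β.comp rightHom)
  have h2 := irrC_orth (⟨_, hirrβ⟩ : IrrCharacter (M ≀ᵣ Q)) ⟨χ, hχ⟩
  split_ifs at h2 with h3
  swap
  · exact absurd h2 hβ
  refine ⟨V, ((β.comp rightHom).comp V.subtype) * L, ?_⟩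
  have h4 := indFun_mul_restrict V (fun v => (L v : ℂ))
    (isClassFunction_character (isCharacter_linear (β.comp (rightHom : M ≀ᵣ Q →* Q))))
  refine (congrArg Subtype.val h3).symm.trans (Eq.trans ?_ (h4.trans ?_))
  · rfl
  · congr 1

/-- Dade's theorem: a finite solvable group embeds in an M-group. -/
theorem exists_monomial_overgroup (n : ℕ) : ∀ (G : Type u) [Group G] [Finite G] [Group.IsSolvable G],
    Nat.card G = n → ∃ (M : Type u) (_ : Group M) (_ : Fintype M), IsMonomialGroup M ∧
      ∃ f : G →* M, Function.Injective f := by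
  induction n using Nat.strong_induction_on with
  | _ n IH =>
  intro G _ _ _ hn
  classical
  rcases subsingleton_or_nontrivial G with hs | hnt
  · haveI : Fintype G := Fintype.ofFinite G
    refine ⟨G, inferInstance, inferInstance, fun χ hχ => monomial_of_linear hχ ?_, MonoidHom.id G,
      fun _ _ h => h⟩
    exact forall_linear_iff_comm.1 (fun a b => Subsingleton.elim _ _) ⟨χ, hχ⟩
  have hcomm : commutator G ≠ ⊤ := (Group.IsSolvable.commutator_lt_top_of_nontrivial G).ne
  obtain ⟨N, hle, hNmax⟩ := Finite.exists_le_maximal (p := fun N : Subgroup G => N ≠ ⊤)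
    (a := commutator G) hcomm
  haveI hNn : N.Normal := ⟨fun x hx g => by
    have h1 : ⁅g, x⁆ ∈ N := hle (by
      rw [commutator_def]; exact Subgroup.commutator_mem_commutator (Subgroup.mem_top _) (Subgroup.mem_top _))
    have h2 := N.mul_mem h1 hx
    rwa [commutatorElement_def, inv_mul_cancel_right] at h2⟩
  haveI : Nontrivial (G ⧸ N) := QuotientGroup.nontrivial_iff.2 hNmax.1
  obtain ⟨q, hq, hqd⟩ := Nat.exists_prime_and_dvd (show Nat.card (G ⧸ N) ≠ 1 from Finite.one_lt_card.ne')
  haveI := Fact.mk hq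
  obtain ⟨y, hy⟩ := exists_prime_orderOf_dvd_card' q hqd
  have hcardQ : Nat.card (G ⧸ N) = q := by
    have h2 : (Subgroup.zpowers y).comap (QuotientGroup.mk' N) = ⊤ := by
      by_contra h3
      have h4 : (Subgroup.zpowers y).comap (QuotientGroup.mk' N) ≤ N :=
        hNmax.2 h3 (fun x hx => by
          rw [Subgroup.mem_comap, QuotientGroup.mk'_apply, (QuotientGroup.eq_one_iff x).2 hx]
          exact one_mem _)
      obtain ⟨g, rfl⟩ := QuotientGroup.mk'_surjective N y
      have h5 : g ∈ N := h4 (Subgroup.mem_zpowers _)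
      rw [QuotientGroup.mk'_apply, (QuotientGroup.eq_one_iff g).2 h5, orderOf_one] at hy
      exact hq.ne_one hy.symm
    have h6 : Subgroup.zpowers y = ⊤ := by
      refine Subgroup.comap_injective (QuotientGroup.mk'_surjective N) (h2.trans ?_)
      rw [Subgroup.comap_top]
    rw [← Subgroup.card_top (G := G ⧸ N), ← h6, Nat.card_zpowers, hy]
  have hlt : Nat.card N < n := by
    rw [← hn]
    exact lt_of_le_of_ne (Subgroup.card_le_card_group N) fun h => hNmax.1 (Subgroup.eq_top_of_card_eq N h)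
  obtain ⟨M, _, _, hM, ι, hι⟩ := IH _ hlt N rfl
  haveI : Fintype (G ⧸ N) := Fintype.ofFinite _
  haveI : Fintype (M ≀ᵣ (G ⧸ N)) := Fintype.ofFinite _
  have hmem : ∀ (g : G) (x : G ⧸ N), (x.out)⁻¹ * g * ((QuotientGroup.mk g : G ⧸ N)⁻¹ * x).out ∈ N := by
    intro g x
    rw [← QuotientGroup.eq_one_iff, QuotientGroup.mk_mul, QuotientGroup.mk_mul, QuotientGroup.mk_inv,
      QuotientGroup.out_eq', QuotientGroup.out_eq']
    group
  let emb : G → M ≀ᵣ (G ⧸ N) := fun g => ⟨fun x => ι ⟨_, hmem g x⟩, QuotientGroup.mk g⟩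
  let f : G →* M ≀ᵣ (G ⧸ N) := MonoidHom.mk' emb fun a b => by
    refine RegularWreathProduct.ext (funext fun x => ?_) rfl
    simp only [emb, RegularWreathProduct.mul_left, Pi.mul_apply]
    rw [← map_mul]
    refine congrArg ι (Subtype.ext ?_)
    simp only [Subgroup.coe_mul, QuotientGroup.mk_mul, mul_inv_rev, mul_assoc]
    rw [← mul_assoc ((QuotientGroup.mk a : G ⧸ N)⁻¹ * x).out, mul_inv_cancel, one_mul]
  refine ⟨M ≀ᵣ (G ⧸ N), inferInstance, inferInstance, isMonomialGroup_wreath (hcardQ ▸ hq) hM, f, ?_⟩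
  rw [injective_iff_map_eq_one]
  intro g hg
  have h1 : (QuotientGroup.mk g : G ⧸ N) = 1 := congrArg RegularWreathProduct.right hg
  have h2 : ι ⟨_, hmem g 1⟩ = 1 := congrFun (congrArg RegularWreathProduct.left hg) 1
  have h3 : ((1 : G ⧸ N).out)⁻¹ * g * ((QuotientGroup.mk g : G ⧸ N)⁻¹ * 1).out = 1 :=
    congrArg Subtype.val ((injective_iff_map_eq_one ι).1 hι _ h2)
  rw [h1, inv_one, mul_one] at h3
  have h4 := congrArg (fun z => (1 : G ⧸ N).out * z * ((1 : G ⧸ N).out)⁻¹) h3
  simpa [mul_assoc] using h4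

end Cfsg.Agent.Char
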