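import Cfsg.Agent.Lib.Char.FongReynolds
import Cfsg.Agent.Lib.Char.GlaubermanOver
import Cfsg.Agent.Lib.Char.UniqueDivDegree
import Cfsg.Agent.Lib.Solv.Coprime

/-!
# A coprime abelian group acting on a solvable group moves some character

If an abelian `p`-subgroup `Q` acts faithfully and coprimely on a normal solvable subgroup `K`
with `G = K N(Q)`, then each nontrivial element of `Q` has no conjugate fixing some irreducible
character of `K`; hence some irreducible character of `G` vanishes at every element having a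
conjugate of it as a power.
-/

set_option autoImplicit false
set_option linter.style.haveILetI false
set_option linter.unusedSectionVars false

namespace Cfsg.Agent.Char.MovingCharacter

open Cfsg Cfsg.Agent.Char
open scoped Classical commutatorElement

universe u

/-- An abelian group acting coprimely on a finite abelian group has a point whose stabiliser acts
trivially. -/
theorem exists_regular {Λ A : Type*} [CommGroup Λ] [Finite Λ] [Group A] [Finite A]
    (hA : ∀ a b : A, a * b = b * a) (f : A →* MulAut Λ)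
    (hco : (Nat.card A).Coprime (Nat.card Λ)) :
    ∃ v : Λ, ∀ a : A, f a v = v → ∀ u, f a u = u := by
  obtain ⟨v, hv⟩ := Finite.exists_min (fun v : Λ => Nat.card {a : A // f a v = v})
  refine ⟨v, ?_⟩
  by_contra hno
  push Not at hno
  obtain ⟨b, hb, u, hu⟩ := hno
  haveI := Fintype.ofFinite A
  set B : Finset A := Finset.univ.filter fun a => f a v = v with hB
  have hmem : ∀ a, a ∈ B ↔ f a v = v := fun a => by simp [hB]
  set w : Λ := f b u / u with hw
  have hw1 : w ≠ 1 := by rwa [hw, Ne, div_eq_one]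
  have hmul : ∀ a c : A, ∀ x, f (a * c) x = f a (f c x) := fun a c x => by rw [map_mul]; rfl
  let t : Λ → Λ := fun x => ∏ c ∈ B, f c x
  have htf : ∀ a x, t (f a x) = f a (t x) := fun a x => by
    simp only [t, map_prod]
    refine Finset.prod_congr rfl fun c _ => ?_
    rw [← hmul, ← hmul, hA]
  have htm : ∀ x y, t (x * y) = t x * t y := fun x y => by
    simp only [t, map_mul, Finset.prod_mul_distrib]
  have htb : ∀ c ∈ B, ∀ x, t (f c x) = t x := fun c hc x => by
    simp only [t, ← hmul]
    refine Finset.prod_bij' (fun d _ => d * c) (fun d _ => d * c⁻¹) ?_ ?_ (by simp) (by simp)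
      (fun d _ => rfl)
    · intro d hd; rw [hmem] at hc hd ⊢; rw [hmul, hc, hd]
    · intro d hd
      rw [hmem] at hc hd ⊢
      rw [hmul]
      conv_lhs => rw [← hc, ← hmul c⁻¹ c, inv_mul_cancel, map_one]
      exact hd
  have htw : t w = 1 := by
    have h := htm w u
    rw [hw, div_mul_cancel, htb b ((hmem b).2 hb)] at h
    exact mul_right_cancel (b := t u) (by rw [one_mul]; exact h.symm)
  have htv : t v = v ^ B.card := by
    simp only [t]
    rw [Finset.prod_congr rfl fun c hc => (hmem c).1 hc, Finset.prod_const]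
  have hBdvd : B.card ∣ Nat.card A := by
    let H : Subgroup A :=
      { carrier := {a | f a v = v}
        one_mem' := by simp
        mul_mem' := fun {a c} ha hc => by
          show f (a * c) v = v
          rw [hmul, show f c v = v from hc]; exact ha
        inv_mem' := fun {a} ha => by
          show f a⁻¹ v = v
          conv_lhs => rw [← show f a v = v from ha, ← hmul, inv_mul_cancel, map_one]
          rfl }
    have h : Nat.card H = B.card := by
      rw [Nat.card_eq_fintype_card, hB]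
      exact Fintype.card_subtype _
    exact h ▸ Subgroup.card_subgroup_dvd_card H
  have hBco : (Nat.card Λ).Coprime B.card := (hco.coprime_dvd_left hBdvd).symm
  have hin : ∀ a, f a (v * w) = v * w → f a v = v ∧ f a w = w := fun a ha => by
    have h2 := congrArg t ha
    rw [htf, htm, htw, mul_one, htv, map_pow] at h2
    have h3 : f a v = v := (powCoprime hBco).injective h2
    rw [map_mul, h3] at ha
    exact ⟨h3, mul_left_cancel ha⟩
  obtain ⟨c, hc, hcw⟩ : ∃ c ∈ B, f c w ≠ w := by
    by_contra hall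
    push Not at hall
    have h : t w = w ^ B.card := by
      simp only [t]; rw [Finset.prod_congr rfl hall, Finset.prod_const]
    exact hw1 ((powCoprime hBco).injective (by
      show w ^ B.card = 1 ^ B.card
      rw [one_pow, ← h, htw]))
  refine absurd (hv (v * w)) (not_le.2 ?_)
  rw [Nat.card_eq_fintype_card, Nat.card_eq_fintype_card, Fintype.card_subtype,
    Fintype.card_subtype]
  refine Finset.card_lt_card ?_
  rw [Finset.ssubset_iff_of_subset fun a ha => ?_]
  · exact ⟨c, hc, fun h => hcw (hin c (Finset.mem_filter.1 h).2).2⟩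
  · simp only [Finset.mem_filter, Finset.mem_univ, true_and] at ha ⊢
    exact (hin a ha).1

variable {G : Type u} [Group G] [Finite G]

/-- The action on linear characters of a normal subgroup. -/
noncomputable def linAct (L : Subgroup G) [L.Normal] : G →* MulAut (L →* ℂˣ) where
  toFun g :=
    { toFun := fun l => l.comp (MulAut.conjNormal g⁻¹ : L ≃* L).toMonoidHom
      invFun := fun l => l.comp (MulAut.conjNormal g : L ≃* L).toMonoidHom
      left_inv := fun l => MonoidHom.ext fun n => by
        show l (MulAut.conjNormal g⁻¹ (MulAut.conjNormal g n)) = l n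
        rw [← MulAut.mul_apply, ← map_mul, inv_mul_cancel, map_one]; rfl
      right_inv := fun l => MonoidHom.ext fun n => by
        show l (MulAut.conjNormal g (MulAut.conjNormal g⁻¹ n)) = l n
        rw [← MulAut.mul_apply, ← map_mul, mul_inv_cancel, map_one]; rfl
      map_mul' := fun _ _ => rfl }
  map_one' := MulEquiv.ext fun l => MonoidHom.ext fun n => by
    show l (MulAut.conjNormal (1 : G)⁻¹ n) = l n
    rw [inv_one, map_one]; rfl
  map_mul' a b := MulEquiv.ext fun l => MonoidHom.ext fun n => by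
    show l (MulAut.conjNormal (a * b)⁻¹ n) = l (MulAut.conjNormal b⁻¹ (MulAut.conjNormal a⁻¹ n))
    rw [mul_inv_rev, map_mul]; rfl

theorem linAct_apply (L : Subgroup G) [L.Normal] (g : G) (l : L →* ℂˣ) (n : L) :
    linAct L g l n = l (MulAut.conjNormal g⁻¹ n) := rfl

theorem linAct_of_mem {L : Subgroup G} [L.Normal] {m : G} (hm : m ∈ L) : linAct L m = 1 := by
  refine MulEquiv.ext fun l => MonoidHom.ext fun n => ?_
  rw [linAct_apply, show MulAut.conjNormal m⁻¹ n = (⟨m, hm⟩ : L)⁻¹ * n * ⟨m, hm⟩ from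
    Subtype.ext (by simp [MulAut.conjNormal_apply]), map_mul, map_mul, mul_right_comm, ← map_mul,
    inv_mul_cancel, map_one, one_mul]
  rfl

/-- Some character of `K` is fixed by no conjugate of `x`. -/
theorem exists_moving {p : ℕ} [Fact p.Prime] [Fintype G] (hs : Group.IsSolvable G)
    (K : Subgroup G) [K.Normal] [Fintype K] (hK : (Nat.card K).Coprime p) :
    ∀ Q : Subgroup G, IsPGroup p Q → (∀ a ∈ Q, ∀ b ∈ Q, a * b = b * a) →
      (∀ q ∈ Q, (∀ k ∈ K, q * k = k * q) → q = 1) → K ⊔ Subgroup.normalizer (Q : Set G) = ⊤ →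
      ∀ x ∈ Q, x ≠ 1 → ∃ θ : IrrCharacter K, ∀ g : G,
        irrComp (MulAut.conjNormal (g * x * g⁻¹)) θ ≠ θ := by
  intro Q
  induction h : Nat.card Q using Nat.strong_induction_on generalizing Q with
  | _ n ih =>
  intro hQ hab hfa htop x hxQ hx1
  subst h
  haveI := hs
  have hQK : Q ≤ Subgroup.normalizer (K : Set G) := by simp [Subgroup.normalizer_eq_top]
  obtain ⟨j, hj⟩ := IsPGroup.iff_card.1 hQ
  have hco : (Nat.card Q).Coprime (Nat.card K) := hj ▸ (hK.symm.pow_left j)
  obtain ⟨L, hL⟩ : ∃ L, L = ⁅K, Q⁆ := ⟨_, rfl⟩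
  have hLK : L ≤ K := hL ▸ Subgroup.commutator_le_left K Q
  haveI hLn : L.Normal := by
    rw [← Subgroup.normalizer_eq_top_iff, eq_top_iff, ← htop, hL]
    refine sup_le (Solv.commutator_normal_in hQK).2.1 fun n hn => ?_
    refine Solv.mem_normalizer_of_conj_smul ?_
    rw [Solv.conj_smul_eq_map, Subgroup.map_commutator, ← Solv.conj_smul_eq_map,
      ← Solv.conj_smul_eq_map, Solv.conj_smul_of_mem_normalizer hn, Solv.conj_smul_of_mem_normalizer]
    simp [Subgroup.normalizer_eq_top]
  have hLQ : ⁅L, Q⁆ = L := hL ▸ Solv.commutator_commutator_eq hQK hco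
    (Or.inr (inferInstance : Group.IsSolvable K))
  have hL0 : L ≠ ⊥ := fun h0 => hx1 (hfa x hxQ fun k hk => by
    have h2 := Subgroup.commutator_mem_commutator hk hxQ
    rw [← hL, h0, Subgroup.mem_bot, commutatorElement_eq_one_iff_mul_comm] at h2
    exact h2.symm)
  obtain ⟨Q1, hQ1⟩ : ∃ Q1, Q1 = Q ⊓ (linAct L).ker := ⟨_, rfl⟩
  have hQ1le : Q1 ≤ Q := hQ1 ▸ inf_le_left
  have hQ1ne : Q1 ≠ Q := fun e => by
    refine (IsSolvable.commutator_lt_of_ne_bot hL0).not_ge ?_
    conv_lhs => rw [← hLQ]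
    rw [Subgroup.commutator_le]
    intro l hl q hq
    have hqk : linAct L q = 1 := by
      have h2 : q ∈ Q ⊓ (linAct L).ker := by rw [← hQ1, e]; exact hq
      exact h2.2
    have hm : ⁅l, q⁆ ∈ L := hLQ.le (Subgroup.commutator_mem_commutator hl hq)
    rw [← Subgroup.map_subtype_commutator]
    refine ⟨⟨_, hm⟩, ?_, rfl⟩
    by_contra hn
    obtain ⟨μ, hμ⟩ := exists_linear_ne_one hn
    refine hμ ?_
    have h3 := DFunLike.congr_fun (congrArg (fun φ : MulAut (L →* ℂˣ) => φ μ)
      (show linAct L q⁻¹ = 1 by rw [map_inv, hqk, inv_one])) (⟨l, hl⟩⁻¹ : L)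
    simp only [linAct_apply, inv_inv, MulAut.one_apply] at h3
    rw [show (⟨⁅l, q⁆, hm⟩ : L) = ⟨l, hl⟩ * MulAut.conjNormal q (⟨l, hl⟩⁻¹ : L) from
      Subtype.ext (by simp [MulAut.conjNormal_apply, commutatorElement_def, mul_assoc]),
      map_mul, h3, ← map_mul, mul_inv_cancel, map_one]
  by_cases hx : x ∈ Q1
  · refine ih _ ?_ Q1 rfl (hQ.to_le hQ1le) (fun a ha b hb => hab a (hQ1le ha) b (hQ1le hb))
      (fun q hq => hfa q (hQ1le hq)) ?_ x hx hx1
    · exact lt_of_le_of_ne (Subgroup.card_le_of_le hQ1le) fun e =>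
        hQ1ne (Subgroup.eq_of_le_of_card_ge hQ1le e.ge)
    · rw [eq_top_iff, ← htop, hQ1]
      refine sup_le_sup_left (fun n hn => ?_) K
      refine Solv.mem_normalizer_of_conj_smul ?_
      rw [Subgroup.smul_inf, Solv.conj_smul_of_mem_normalizer hn,
        Solv.conj_smul_of_mem_normalizer]
      simp [Subgroup.normalizer_eq_top]
  -- a linear character of `L` with stabiliser `Q1`
  haveI : Finite (L →* ℂˣ) := Nat.finite_of_card_ne_zero (by
    rw [card_hom_units]; exact Subgroup.index_ne_zero_of_finite)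
  have hΛ : (Nat.card Q).Coprime (Nat.card (L →* ℂˣ)) := by
    rw [card_hom_units]
    exact hco.coprime_dvd_right ((commutator L).index_dvd_card.trans (Subgroup.card_dvd_of_le hLK))
  obtain ⟨μ, hμ⟩ := exists_regular (fun a b : Q => Subtype.ext (hab a a.2 b b.2))
    ((linAct L).comp Q.subtype) hΛ
  have hstab : ∀ y ∈ Q, linAct L y μ = μ → y ∈ Q1 := fun y hy h2 => by
    rw [hQ1]
    exact ⟨hy, MonoidHom.mem_ker.2 (MulEquiv.ext fun u => hμ ⟨y, hy⟩ h2 u)⟩
  haveI := Fintype.ofFinite (L.subgroupOf K)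
  obtain ⟨e, he⟩ : ∃ e : L.subgroupOf K ≃* L, ∀ n, ((e n : L) : G) = ((n : K) : G) :=
    ⟨Subgroup.subgroupOfEquivOfLe hLK, fun n => rfl⟩
  obtain ⟨η, hη⟩ : ∃ η : IrrCharacter (L.subgroupOf K), ∀ n, (η : _ → ℂ) n = (μ (e n) : ℂ) :=
    ⟨⟨_, isIrrCharacter_linear (μ.comp e.toMonoidHom)⟩, fun n => rfl⟩
  obtain ⟨θ, hθ⟩ := exists_constituent_over (L.subgroupOf K) η
  refine ⟨θ, fun g hg => hx ?_⟩
  -- `y` fixes `θ`, so it lies in `Q1`
  have key : ∀ y ∈ Q, irrComp (MulAut.conjNormal y) θ = θ → y ∈ Q1 := by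
    intro y hy hfix
    refine hstab y hy ?_
    obtain ⟨η', hη'⟩ : ∃ η' : IrrCharacter (L.subgroupOf K), ∀ n, (η' : _ → ℂ) n =
        (μ (MulAut.conjNormal y (e n)) : ℂ) :=
      ⟨⟨_, isIrrCharacter_linear ((μ.comp (MulAut.conjNormal y : L ≃* L).toMonoidHom).comp
        e.toMonoidHom)⟩, fun n => rfl⟩
    have hθ' : classInner (fun n : L.subgroupOf K => (θ : K → ℂ) n) (η' : _ → ℂ) ≠ 0 := by
      refine Eq.trans_ne ?_ hθ
      simp only [classInner]
      congr 1
      refine Fintype.sum_equiv ((e.trans (MulAut.conjNormal y : L ≃* L)).trans e.symm).toEquiv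
        _ _ fun n => ?_
      have hn : ((((e.trans (MulAut.conjNormal y : L ≃* L)).trans e.symm).toEquiv n : K)) =
          MulAut.conjNormal y (n : K) := Subtype.ext (by
        show (((e.symm (MulAut.conjNormal y (e n))) : K) : G) = _
        rw [← he, e.apply_symm_apply, MulAut.conjNormal_apply, MulAut.conjNormal_apply, he])
      rw [hη', hη, hn]
      congr 2
      · conv_lhs => rw [← hfix, irrComp_apply]
      · congr 1
        exact congrArg μ (e.apply_symm_apply _).symm
    obtain ⟨k, hk⟩ := mem_cliffOrbit.1 (mem_cliffOrbit_of_constituent hθ hθ')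
    have hyk : linAct L y⁻¹ μ = linAct L (k : G)⁻¹ μ := MonoidHom.ext fun n => Units.ext (by
      have h2 := congrArg (fun φ : IrrCharacter (L.subgroupOf K) => (φ : _ → ℂ) (e.symm n)) hk
      simp only [irrComp_apply, hη', hη, MulEquiv.apply_symm_apply] at h2
      rw [linAct_apply, linAct_apply, inv_inv, inv_inv, ← h2]
      refine congrArg (fun m => ((μ m : ℂˣ) : ℂ)) (Subtype.ext ?_)
      rw [he, MulAut.conjNormal_apply]
      show (k : G) * ((e.symm n : K) : G) * (k : G)⁻¹ = _
      rw [← he, e.apply_symm_apply, MulAut.conjNormal_apply])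
    have hcomm : ∀ l ∈ K, linAct L y⁻¹ * linAct L l = linAct L l * linAct L y⁻¹ := fun l hl => by
      have h2 := linAct_of_mem (L := L) (hL ▸ Subgroup.commutator_mem_commutator hl (inv_mem hy))
      rw [map_commutatorElement, commutatorElement_eq_one_iff_mul_comm] at h2
      exact h2.symm
    have hpow : ∀ i : ℕ, linAct L (y⁻¹ ^ i) μ = linAct L ((k : G)⁻¹ ^ i) μ := by
      intro i
      induction i with
      | zero => rw [pow_zero, pow_zero]
      | succ i IH =>
        rw [pow_succ' y⁻¹, map_mul, MulAut.mul_apply, IH, ← MulAut.mul_apply,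
          hcomm _ (pow_mem (inv_mem k.2) i), MulAut.mul_apply, hyk, ← MulAut.mul_apply, ← map_mul,
          ← pow_succ]
    have h3 := hpow (orderOf (k : G)⁻¹)
    rw [pow_orderOf_eq_one ((k : G)⁻¹), map_one, MulAut.one_apply] at h3
    have hcop : (orderOf (k : G)⁻¹).Coprime (orderOf y⁻¹) := by
      refine (hco.symm.coprime_dvd_left ?_).coprime_dvd_right ?_
      · rw [orderOf_inv, Subgroup.orderOf_coe]; exact orderOf_dvd_natCard k
      · rw [orderOf_inv]; exact Subgroup.orderOf_dvd_natCard Q hy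
    obtain ⟨m, hm⟩ := exists_pow_eq_self_of_coprime hcop
    let S : Subgroup G :=
      { carrier := {a | linAct L a μ = μ}
        one_mem' := by simp
        mul_mem' := fun {a c} ha hc => by
          show linAct L (a * c) μ = μ
          rw [map_mul, MulAut.mul_apply, show linAct L c μ = μ from hc]; exact ha
        inv_mem' := fun {a} ha => by
          show linAct L a⁻¹ μ = μ
          conv_lhs => rw [← show linAct L a μ = μ from ha, ← MulAut.mul_apply, ← map_mul,
            inv_mul_cancel, map_one]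
          rfl }
    have hS : y⁻¹ ∈ S := hm ▸ pow_mem (show y⁻¹ ^ orderOf (k : G)⁻¹ ∈ S from h3) m
    exact inv_mem_iff.1 hS
  have hg2 : g ∈ K ⊔ Subgroup.normalizer (Q : Set G) := htop.symm ▸ Subgroup.mem_top g
  obtain ⟨k, hk, n, hn, rfl⟩ := Subgroup.mem_sup_of_normal_left.1 hg2
  have hKfix : ∀ m ∈ K, irrComp (MulAut.conjNormal m) θ = θ := fun m hm =>
    Subtype.ext (funext fun a => by
      rw [irrComp_apply, show MulAut.conjNormal m a = ⟨m, hm⟩ * a * (⟨m, hm⟩ : K)⁻¹ from
        Subtype.ext (by simp [MulAut.conjNormal_apply])]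
      exact isClassFunction_character (irr_isCharacter θ.2) a ⟨m, hm⟩)
  have hnQ : n * x * n⁻¹ ∈ Q := Solv.conj_mem_of_mem_normalizer hn hxQ
  have hfix : irrComp (MulAut.conjNormal (n * x * n⁻¹)) θ = θ := by
    rw [show n * x * n⁻¹ = k⁻¹ * (k * n * x * (k * n)⁻¹) * k by group, ← irrComp_conj_mul,
      ← irrComp_conj_mul, hKfix _ (inv_mem hk), hg, hKfix _ hk]
  have h4 := key _ hnQ hfix
  rw [hQ1] at h4 ⊢
  refine ⟨hxQ, ?_⟩
  have h5 := Subgroup.Normal.conj_mem (inferInstance : (linAct L).ker.Normal) _ h4.2 n⁻¹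
  rwa [show n⁻¹ * (n * x * n⁻¹) * n⁻¹⁻¹ = x by group] at h5

/-- An irreducible character of `G` vanishing at every root of every conjugate of `x`. -/
theorem exists_vanishing {p : ℕ} [Fact p.Prime] [Fintype G] (hs : Group.IsSolvable G)
    (K : Subgroup G) [K.Normal] (hK : (Nat.card K).Coprime p) (Q : Subgroup G) (hQ : IsPGroup p Q)
    (hab : ∀ a ∈ Q, ∀ b ∈ Q, a * b = b * a)
    (hfa : ∀ q ∈ Q, (∀ k ∈ K, q * k = k * q) → q = 1)
    (htop : K ⊔ Subgroup.normalizer (Q : Set G) = ⊤) {x : G} (hxQ : x ∈ Q) (hx1 : x ≠ 1) :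
    ∃ χ : IrrCharacter G, ∀ g : G, ∀ i : ℕ, IsConj x (g ^ i) → (χ : G → ℂ) g = 0 := by
  haveI := Fintype.ofFinite K
  obtain ⟨θ, hθ⟩ := exists_moving hs K hK Q hQ hab hfa htop x hxQ hx1
  let T : Subgroup G :=
    { carrier := {g | irrComp (MulAut.conjNormal g) θ = θ}
      one_mem' := irrComp_conj_one θ
      mul_mem' := fun {a b} ha hb => by
        show irrComp (MulAut.conjNormal (a * b)) θ = θ
        rw [← irrComp_conj_mul, show irrComp (MulAut.conjNormal a) θ = θ from ha]; exact hb
      inv_mem' := fun {a} ha => by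
        show irrComp (MulAut.conjNormal a⁻¹) θ = θ
        conv_lhs => rw [← show irrComp (MulAut.conjNormal a) θ = θ from ha, irrComp_conj_mul,
          mul_inv_cancel, irrComp_conj_one] }
  haveI := Fintype.ofFinite T
  have hKT : K ≤ T := fun m hm => Subtype.ext (funext fun a => by
    rw [irrComp_apply, show MulAut.conjNormal m a = ⟨m, hm⟩ * a * (⟨m, hm⟩ : K)⁻¹ from
      Subtype.ext (by simp [MulAut.conjNormal_apply])]
    exact isClassFunction_character (irr_isCharacter θ.2) a ⟨m, hm⟩)
  have hI : ∀ g : G, irrComp (MulAut.conjNormal g) θ = θ → g ∈ T := fun g h => h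
  obtain ⟨χ0, hχ0⟩ := exists_constituent_over K θ
  obtain ⟨ψ, hψ, hψθ⟩ := exists_correspondent_in (hNT := hKT) χ0 hχ0
  refine ⟨χ0, fun g i hgi => ?_⟩
  rw [(clifford_ind hI hψθ hψ).1, indFun, Finset.sum_eq_zero fun a _ => ?_, mul_zero]
  refine extendByZero_not_mem T _ fun hmem => ?_
  obtain ⟨c, hc⟩ := isConj_iff.1 hgi
  have h2 := pow_mem hmem i
  rw [show a⁻¹ * g * a = a⁻¹ * g * a⁻¹⁻¹ by group, conj_pow, ← hc] at h2
  refine hθ (a⁻¹ * c) ?_
  rw [show a⁻¹ * c * x * (a⁻¹ * c)⁻¹ = a⁻¹ * (c * x * c⁻¹) * a⁻¹⁻¹ by group]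
  exact h2

end Cfsg.Agent.Char.MovingCharacter
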