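import Cfsg.Agent.Lib.Char.PrincipalExtension
import Cfsg.Agent.Lib.Char.RelFixLayer
import Cfsg.Agent.Lib.Char.BlockInter
import Cfsg.Agent.Lib.Char.GaloisConj
import Cfsg.Agent.Lib.Char.GaloisPPart
import Cfsg.Agent.Lib.Char.Galois
import Cfsg.Agent.Lib.Char.QuotientBlocks
import Cfsg.Agent.Lib.Char.CoverBlocks
import Cfsg.Agent.S4551

/-!
# `p`-rational extensions inside the principal block
-/

set_option autoImplicit false
set_option linter.style.haveILetI false
set_option linter.unusedSectionVars false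

namespace Cfsg.Agent.Char.RatExt

open Cfsg Cfsg.Agent Cfsg.Agent.Char Module
open scoped ComplexConjugate

universe u

section Galois

variable {G : Type u} [Group G] [Finite G] {p : ℕ} [Fact p.Prime]

/-- Fixed by the Galois automorphisms fixing the roots of unity of order prime to `p`. -/
def PRat (p : ℕ) (χ : G → ℂ) : Prop :=
  ∀ k : ℕ, k.Coprime (Nat.card G) → k ≡ 1 [MOD Nat.card G / p ^ (Nat.card G).factorization p] →
    ∀ g : G, χ (g ^ k) = χ g

theorem card_eq : p ^ (Nat.card G).factorization p *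
    (Nat.card G / p ^ (Nat.card G).factorization p) = Nat.card G :=
  Nat.ordProj_mul_ordCompl_eq_self _ p

theorem cop_parts : (p ^ (Nat.card G).factorization p).Coprime
    (Nat.card G / p ^ (Nat.card G).factorization p) :=
  ((Nat.coprime_ordCompl (Fact.out : p.Prime) Nat.card_pos.ne').pow_left _)

/-- Values in a field of roots of unity of order prime to `p` give `p`-rationality. -/
theorem prat_of_adjoin {χ : G → ℂ} (hχ : IsCharacter G χ) {m : ℕ} (hm : ¬ p ∣ m)
    (h : ∀ g, χ g ∈ IntermediateField.adjoin ℚ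
      ({Complex.exp (2 * Real.pi * Complex.I / m)} : Set ℂ)) : PRat p χ := by
  classical
  intro k hk hk1 g
  have hp : p.Prime := Fact.out
  have hm0 : m ≠ 0 := fun e => hm (e ▸ dvd_zero p)
  set P := p ^ (Nat.card G).factorization p with hP
  set N' := Nat.card G / P with hN'
  have hcop : P.Coprime (N' * m) :=
    Nat.Coprime.mul_right cop_parts ((hp.coprime_iff_not_dvd.mpr hm).pow_left _)
  obtain ⟨k', hk'P, hk'N⟩ := Nat.chineseRemainder hcop k 1
  have hn : P * (N' * m) ≠ 0 := by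
    rw [← mul_assoc, card_eq]; exact mul_ne_zero Nat.card_pos.ne' hm0
  have hk' : k'.Coprime (P * (N' * m)) := by
    refine Nat.Coprime.mul_right ?_ ?_
    · have h0 : k.Coprime P := hk.coprime_dvd_right ⟨N', card_eq.symm⟩
      unfold Nat.Coprime at h0 ⊢
      rw [hk'P.gcd_eq]; exact h0
    · unfold Nat.Coprime
      rw [hk'N.gcd_eq]; exact Nat.gcd_one_left _
  have hkk : k' ≡ k [MOD Nat.card G] := by
    rw [← card_eq (p := p) (G := G), ← Nat.modEq_and_modEq_iff_modEq_mul cop_parts]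
    exact ⟨hk'P, (hk'N.of_dvd (dvd_mul_right _ _)).trans hk1.symm⟩
  obtain ⟨σ, hσ⟩ := exists_ringEquiv_pow hn hk'
  set ζ := Complex.exp (2 * Real.pi * Complex.I / m) with hζ
  have hζm : ζ ^ m = 1 := (Complex.isPrimitiveRoot_exp m hm0).pow_eq_one
  have hfix : σ (χ g) = χ g := by
    refine IntermediateField.adjoin_induction ℚ (p := fun x _ => σ x = x) ?_ ?_ ?_ ?_ ?_ (h g)
    · intro x hx
      rw [Set.mem_singleton_iff] at hx
      subst hx
      rw [hσ ζ (by rw [show P * (N' * m) = m * (P * N') by ring, pow_mul, hζm, one_pow])]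
      rw [pow_eq_pow_mod k' hζm, (hk'N.of_dvd (dvd_mul_left m N') : k' % m = 1 % m),
        ← pow_eq_pow_mod 1 hζm, pow_one]
    · intro x
      simp
    · intro x y _ _ hx hy
      rw [map_add, hx, hy]
    · intro x _ hx
      rw [map_inv₀, hx]
    · intro x y _ _ hx hy
      rw [map_mul, hx, hy]
  obtain ⟨d, ρ, rfl⟩ := hχ
  obtain ⟨μ, hμ, htr, -⟩ := exists_eigenvalues ρ g
  have hμn : ∀ i, μ i ^ Nat.card G = 1 := fun i => by
    obtain ⟨c, hc⟩ := orderOf_dvd_natCard g
    rw [hc, pow_mul, hμ, one_pow]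
  have h1 := htr 1
  rw [pow_one] at h1
  calc ρ.character (g ^ k) = ∑ i, μ i ^ k := htr k
    _ = ∑ i, μ i ^ k' := Finset.sum_congr rfl fun i _ => by
        rw [pow_eq_pow_mod k (hμn i), pow_eq_pow_mod k' (hμn i), hkk]
    _ = σ (ρ.character g) := by
        rw [h1, map_sum]
        refine Finset.sum_congr rfl fun i _ => ?_
        rw [pow_one, hσ _ ?_]
        rw [show P * (N' * m) = (P * N') * m by ring, card_eq, pow_mul, hμn, one_pow]
    _ = ρ.character g := hfix

/-- An average over the Galois group of the `p`-power roots lies in the `p'`-field. -/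
theorem avg_mem_adjoin {a N' : ℕ} (hcop : (p ^ a).Coprime N') (hN0 : N' ≠ 0) {ι : Type*}
    [Fintype ι] (μ : ι → ℂ) (hμn : ∀ i, μ i ^ (p ^ a * N') = 1) (z : ℂ)
    (hz : ∀ k : ℕ, k.Coprime (p ^ a * N') → k ≡ 1 [MOD N'] → ∑ i, μ i ^ k = z) :
    z ∈ IntermediateField.adjoin ℚ
      ({Complex.exp (2 * Real.pi * Complex.I / (N' : ℂ))} : Set ℂ) := by
  classical
  have hp : p.Prime := Fact.out
  set F := IntermediateField.adjoin ℚ ({Complex.exp (2 * Real.pi * Complex.I / (N' : ℂ))} : Set ℂ)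
    with hF
  haveI : NeZero N' := ⟨hN0⟩
  haveI : NeZero (p ^ a) := ⟨pow_ne_zero _ hp.ne_zero⟩
  have hroot : ∀ α : ℂ, α ^ N' = 1 → α ∈ F := fun α hα => by
    obtain ⟨i, -, hi⟩ := (Complex.isPrimitiveRoot_exp N' hN0).eq_pow_of_pow_eq_one hα
    rw [← hi]
    exact pow_mem (IntermediateField.mem_adjoin_simple_self ℚ _) i
  obtain ⟨A, hA1, hA2⟩ := Nat.chineseRemainder hcop 0 1
  obtain ⟨B, hB1, hB2⟩ := Nat.chineseRemainder hcop 1 0
  have hk : ∀ b : (ZMod (p ^ a))ˣ, ∑ i, μ i ^ (A + B * (b : ZMod (p ^ a)).val) = z := by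
    intro b
    have e1 : A + B * (b : ZMod (p ^ a)).val ≡ 1 [MOD N'] := by
      simpa using hA2.add (hB2.mul_right (b : ZMod (p ^ a)).val)
    have e2 : A + B * (b : ZMod (p ^ a)).val ≡ (b : ZMod (p ^ a)).val [MOD p ^ a] := by
      simpa using hA1.add (hB1.mul_right (b : ZMod (p ^ a)).val)
    refine hz _ ?_ e1
    refine Nat.Coprime.mul_right ?_ ?_
    · unfold Nat.Coprime
      rw [e2.gcd_eq]; exact ZMod.val_coe_unit_coprime b
    · unfold Nat.Coprime
      rw [e1.gcd_eq]; exact Nat.gcd_one_left _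
  have hsum : ∀ i, ∑ b : (ZMod (p ^ a))ˣ, μ i ^ (A + B * (b : ZMod (p ^ a)).val) ∈ F := by
    intro i
    simp only [pow_add, pow_mul]
    rw [← Finset.mul_sum]
    refine mul_mem (hroot _ ?_) ?_
    · obtain ⟨c, hc⟩ := Nat.modEq_zero_iff_dvd.1 hA1
      rw [← pow_mul, hc, show p ^ a * c * N' = p ^ a * N' * c by ring, pow_mul, hμn, one_pow]
    · have hβ : (μ i ^ B) ^ p ^ a = 1 := by
        obtain ⟨c, hc⟩ := Nat.modEq_zero_iff_dvd.1 hB2
        rw [← pow_mul, hc, show N' * c * p ^ a = p ^ a * N' * c by ring, pow_mul, hμn, one_pow]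
      rcases Nat.eq_zero_or_pos a with ha0 | hapos
      · have hβ1 : μ i ^ B = 1 := by simpa [ha0] using hβ
        refine sum_mem fun b _ => ?_
        rw [hβ1, one_pow]
        exact one_mem F
      · obtain ⟨w, hw⟩ := PConj.sum_units_pow hapos hβ
        rw [hw]
        exact mul_mem (IntermediateField.natCast_mem _ _) (IntermediateField.intCast_mem _ _)
  have key : (Fintype.card (ZMod (p ^ a))ˣ : ℂ) * z =
      ∑ i, ∑ b : (ZMod (p ^ a))ˣ, μ i ^ (A + B * (b : ZMod (p ^ a)).val) := by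
    rw [Finset.sum_comm, Finset.sum_congr rfl fun b _ => hk b, Finset.sum_const, Finset.card_univ,
      nsmul_eq_mul]
  rw [show z = (Fintype.card (ZMod (p ^ a))ˣ : ℂ)⁻¹ * ((Fintype.card (ZMod (p ^ a))ˣ : ℂ) * z) by
      rw [← mul_assoc, inv_mul_cancel₀ (Nat.cast_ne_zero.mpr Fintype.card_ne_zero), one_mul], key]
  exact mul_mem (inv_mem (IntermediateField.natCast_mem _ _)) (sum_mem fun i _ => hsum i)

/-- `p`-rational characters have values in a field of roots of unity of order prime to `p`. -/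
theorem adjoin_of_prat {χ : G → ℂ} (hχ : IsCharacter G χ) (h : PRat p χ) (g : G) :
    χ g ∈ IntermediateField.adjoin ℚ ({Complex.exp (2 * Real.pi * Complex.I /
      ((Nat.card G / p ^ (Nat.card G).factorization p : ℕ) : ℂ))} : Set ℂ) := by
  obtain ⟨d, ρ, rfl⟩ := hχ
  obtain ⟨μ, hμ, htr, -⟩ := exists_eigenvalues ρ g
  refine avg_mem_adjoin (a := (Nat.card G).factorization p) cop_parts ?_ μ (fun i => ?_) _
    (fun k hk hk1 => ?_)
  · intro e
    have := card_eq (p := p) (G := G)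
    rw [e, mul_zero] at this
    exact Nat.card_pos.ne' this.symm
  · rw [card_eq]
    obtain ⟨c, hc⟩ := orderOf_dvd_natCard g
    rw [hc, pow_mul, hμ, one_pow]
  · rw [card_eq] at hk
    rw [← htr k, h k hk hk1]

/-- The determinantal order of a `p`-rational character is prime to `p` for odd `p`. -/
theorem not_dvd_orderOf_det (hp2 : p ≠ 2) {χ : G → ℂ} {d : ℕ}
    (ρ : Representation ℂ G (Fin d → ℂ)) (hρ : ρ.character = χ) (h : PRat p χ) :
    ¬ p ∣ orderOf (detHom ρ) := by
  classical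
  have hp : p.Prime := Fact.out
  set o := orderOf (detHom ρ) with ho
  intro hpo
  have hoG : o ∣ Nat.card G := by
    refine orderOf_dvd_of_pow_eq_one (MonoidHom.ext fun x => ?_)
    rw [MonoidHom.pow_apply, ← map_pow, pow_card_eq_one', map_one, MonoidHom.one_apply]
  set a := (Nat.card G).factorization p with ha
  have ha1 : 1 ≤ a :=
    (hp.dvd_iff_one_le_factorization Nat.card_pos.ne').mp (hpo.trans hoG)
  obtain ⟨k, hk2, hk1⟩ := Nat.chineseRemainder (cop_parts (p := p) (G := G)) 2 1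
  have hkc : k.Coprime (Nat.card G) := by
    rw [← card_eq (p := p) (G := G)]
    refine Nat.Coprime.mul_right ?_ ?_
    · unfold Nat.Coprime
      rw [hk2.gcd_eq]
      exact ((Nat.coprime_primes Nat.prime_two hp).mpr (Ne.symm hp2)).pow_right a
    · unfold Nat.Coprime
      rw [hk1.gcd_eq]; exact Nat.gcd_one_left _
  have h1 : detHom ρ ^ k = detHom ρ ^ 1 := by
    refine MonoidHom.ext fun x => Units.ext ?_
    have h2 := congrFun (detChar_pow (χ := χ) ⟨d, ρ, hρ⟩ hkc) x
    rw [show (fun g => χ (g ^ k)) = χ from funext (h k hkc hk1), detChar_eq_hom ρ hρ] at h2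
    rw [MonoidHom.pow_apply, MonoidHom.pow_apply, pow_one, Units.val_pow_eq_pow_val]
    exact h2.symm
  have h3' : k ≡ 1 [MOD o] := (pow_eq_pow_iff_modEq (x := detHom ρ)).1 h1
  have h3 : k ≡ 1 [MOD p] := h3'.of_dvd hpo
  have h4 : (2 : ℕ) ≡ 1 [MOD p] := (hk2.of_dvd (dvd_pow_self p (by omega))).symm.trans h3
  exact hp.one_lt.ne' (Nat.eq_one_of_dvd_one ((Nat.modEq_iff_dvd' one_le_two).mp h4.symm))

end Galois

section Transport

variable {A B : Type u} [Group A] [Group B] [Finite A] [Finite B]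

theorem centralChar_comp_equiv (e : A ≃* B) (χ : B → ℂ) (a : A) :
    centralChar (fun x => χ (e x)) a = centralChar χ (e a) := by
  rw [← omega_eq_centralChar, ← omega_eq_centralChar, omega, omega, map_one,
    Nat.card_congr (Equiv.subtypeEquiv e.toEquiv (p := fun x => IsConj a x)
      (q := fun y => IsConj (e a) y) fun x => ?_)]
  constructor
  · intro h; exact e.toMonoidHom.map_isConj h
  · intro h
    have := e.symm.toMonoidHom.map_isConj h
    simpa using this

theorem principal_comp_equiv {M : Ideal AlgInt} [Fintype A] [Fintype B] (e : A ≃* B)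
    {χ : IrrCharacter B} (hχ : χ ∈ principalBlock M B) :
    (⟨fun a => (χ : B → ℂ) (e a), isIrrCharacter_comp_equiv e χ.2⟩ : IrrCharacter A) ∈
      principalBlock M A := by
  intro a
  have h := hχ (e a)
  rw [← centralChar_comp_equiv e (fun _ => (1 : ℂ)) a, ← centralChar_comp_equiv e (χ : B → ℂ) a] at h
  exact h

end Transport

variable {G : Type u} [Group G] [Fintype G] {M : Ideal AlgInt} {p : ℕ} [Fact p.Prime]
  (N : Subgroup G) [N.Normal] [Fintype N]

/-- Inside a subgroup with `p'`-index over `N` the principal extension is unique. -/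
theorem existsUnique_principal_sub (hM : IsPModular p M) (Q : Sylow p N) (θ : IrrCharacter N)
    (hθ : θ ∈ principalBlock M N) (R : Subgroup G) [Fintype R] (hNR : N ≤ R)
    (hidx : ¬ p ∣ N.relIndex R)
    (hcov : R ≤ N ⊔ Subgroup.centralizer (((Q : Subgroup N).map N.subtype : Subgroup G) : Set G)) :
    ∃! ξ : IrrCharacter R, ξ ∈ principalBlock M R ∧
      ∀ n : N, (ξ : R → ℂ) ⟨(n : G), hNR n.2⟩ = (θ : N → ℂ) n := by
  classical
  have hp : p.Prime := Fact.out
  set NR : Subgroup R := N.subgroupOf R with hNR'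
  haveI : Fintype NR := Fintype.ofFinite _
  let e : NR ≃* N := Subgroup.subgroupOfEquivOfLe hNR
  let θR : IrrCharacter NR := ⟨fun x => (θ : N → ℂ) (e x), isIrrCharacter_comp_equiv e θ.2⟩
  let S : Subgroup R := ((Q : Subgroup N).map e.symm.toMonoidHom).map NR.subtype
  have hScard : Nat.card S = p ^ (Nat.card R).factorization p := by
    rw [Subgroup.card_map_of_injective NR.subtype_injective,
      Subgroup.card_map_of_injective e.symm.injective, Sylow.card_eq_multiplicity,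
      ← Subgroup.card_mul_index NR, Nat.card_congr e.toEquiv, Nat.factorization_mul Nat.card_pos.ne'
        Subgroup.index_ne_zero_of_finite, Finsupp.add_apply,
      Nat.factorization_eq_zero_of_not_dvd (show ¬ p ∣ NR.index from hidx), add_zero]
  have hsup : NR ⊔ Subgroup.centralizer
      (((Sylow.ofCard S hScard : Sylow p R) : Subgroup R) : Set R) = ⊤ := by
    rw [Sylow.coe_ofCard, eq_top_iff]
    intro x _
    obtain ⟨n, hn, c, hc, hnc⟩ := Subgroup.mem_sup_of_normal_left.mp (hcov x.2)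
    have hcR : c ∈ R := by
      rw [show c = n⁻¹ * (x : G) by rw [← hnc]; group]
      exact R.mul_mem (R.inv_mem (hNR hn)) x.2
    rw [show x = (⟨n, hNR hn⟩ : R) * ⟨c, hcR⟩ from Subtype.ext hnc.symm]
    refine Subgroup.mul_mem_sup hn (fun y hy => ?_)
    obtain ⟨z, ⟨q, hq, rfl⟩, rfl⟩ := hy
    exact Subtype.ext (hc _ ⟨q, hq, rfl⟩)
  obtain ⟨-, h2⟩ := Cfsg.Agent.S4551.result p M hM NR hidx (Sylow.ofCard S hScard) hsup
  obtain ⟨ξ, ⟨hξB, hξ⟩, huniq⟩ := h2 θR (principal_comp_equiv e hθ)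
  refine ⟨ξ, ⟨hξB, fun n => ?_⟩, fun ξ' h => huniq ξ' ⟨h.1, fun x => ?_⟩⟩
  · exact (hξ (e.symm n)).trans (congrArg (θ : N → ℂ) (e.apply_symm_apply n))
  · exact h.2 (e x)

/-- Every intermediate group of `p'`-index over `N` sees a principal character. -/
def Good (M : Ideal AlgInt) (p : ℕ) (N : Subgroup G) (χ : G → ℂ) : Prop :=
  ∀ J : Subgroup G, N ≤ J → ¬ p ∣ N.relIndex J →
    ∃ ξ : IrrCharacter J, ξ ∈ principalBlock M J ∧ ∀ y : J, (ξ : J → ℂ) y = χ y

theorem exists_twist_det {χ : G → ℂ} {d : ℕ} (ρ : Representation ℂ G (Fin d → ℂ))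
    (hρ : ρ.character = χ) (μ : G →* ℂˣ) :
    ∃ ρ₁ : Representation ℂ G (Fin d → ℂ), ρ₁.character = (fun g => (μ g : ℂ) * χ g) ∧
      detHom ρ₁ = μ ^ d * detHom ρ := by
  let ρ₁ : Representation ℂ G (Fin d → ℂ) :=
    { toFun := fun g => (μ g : ℂ) • ρ g
      map_one' := by rw [map_one, Units.val_one, one_smul, map_one]
      map_mul' := fun x y => by rw [smul_mul_smul_comm, map_mul, map_mul, Units.val_mul] }
  refine ⟨ρ₁, funext fun g => ?_, MonoidHom.ext fun g => Units.ext ?_⟩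
  · show LinearMap.trace ℂ _ ((μ g : ℂ) • ρ g) = _
    rw [map_smul, smul_eq_mul, ← hρ]
    rfl
  · show LinearMap.det ((μ g : ℂ) • ρ g) = _
    rw [LinearMap.det_smul, Module.finrank_fin_fun, MonoidHom.mul_apply, MonoidHom.pow_apply,
      Units.val_mul, Units.val_pow_eq_pow_val, detHom_apply]

/-- The extension with determinantal order prime to `p` exists. -/
theorem exists_canonical (hp2 : p ≠ 2) (hM : IsPModular p M) (Q : Sylow p N)
    (hcov : N ⊔ Subgroup.centralizer (((Q : Subgroup N).map N.subtype : Subgroup G) : Set G) = ⊤)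
    (θ : IrrCharacter N) (hθ : θ ∈ principalBlock M N) (hdeg : ¬ p ∣ deg (θ : N → ℂ))
    (hrat : PRat p (θ : N → ℂ))
    (hinv : ∀ (g : G) (n : N), (θ : N → ℂ) (MulAut.conjNormal g n) = (θ : N → ℂ) n) :
    ∃ χ : IrrCharacter G, χ ∈ principalBlock M G ∧ (∀ n : N, (χ : G → ℂ) n = (θ : N → ℂ) n) ∧
      Good M p N (χ : G → ℂ) ∧ ∃ (d : ℕ) (ρ : Representation ℂ G (Fin d → ℂ)),
        ρ.character = (χ : G → ℂ) ∧ ¬ p ∣ orderOf (detHom ρ) := by
  classical
  have hp : p.Prime := Fact.out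
  obtain ⟨dθ, σ, hσ⟩ := irr_isCharacter θ.2
  have hσp := not_dvd_orderOf_det hp2 σ hσ hrat
  -- some extension exists
  obtain ⟨ψ, hψ, hψN⟩ : ∃ ψ : G → ℂ, IsIrrCharacter G ψ ∧ ∀ n : N, ψ n = (θ : N → ℂ) n := by
    refine exists_extension_of_sylow N θ.2 hinv fun r hr => ?_
    haveI := Fact.mk hr
    obtain ⟨S⟩ : Nonempty (Sylow r (G ⧸ N)) := inferInstance
    set R : Subgroup G := (S : Subgroup (G ⧸ N)).comap (QuotientGroup.mk' N) with hR
    haveI : Fintype R := Fintype.ofFinite _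
    have hNR : N ≤ R := fun n hn => by
      show (n : G ⧸ N) ∈ (S : Subgroup (G ⧸ N))
      rw [(QuotientGroup.eq_one_iff n).mpr hn]; exact one_mem _
    have hRidx : R.index.Coprime r := by
      rw [hR, Subgroup.index_comap_of_surjective _ (QuotientGroup.mk'_surjective N)]
      exact (hr.coprime_iff_not_dvd.mpr S.not_dvd_index).symm
    have hrel : ∃ j, N.relIndex R = r ^ j := by
      obtain ⟨j, hj⟩ := IsPGroup.iff_card.mp S.isPGroup'
      refine ⟨j, ?_⟩
      have h1 := Subgroup.relIndex_mul_index hNR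
      rw [hR, Subgroup.index_comap_of_surjective _ (QuotientGroup.mk'_surjective N),
        Subgroup.index_eq_card N, ← Subgroup.card_mul_index (S : Subgroup (G ⧸ N)), hj] at h1
      exact Nat.eq_of_mul_eq_mul_right (Nat.pos_of_ne_zero Subgroup.index_ne_zero_of_finite) h1
    obtain ⟨j, hj⟩ := hrel
    by_cases hrp : r = p
    · subst hrp
      set NR : Subgroup R := N.subgroupOf R with hNR'
      haveI : Fintype NR := Fintype.ofFinite _
      let e : NR ≃* N := Subgroup.subgroupOfEquivOfLe hNR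
      have hidx : NR.index = r ^ j := hj
      let σR : Representation ℂ NR (Fin dθ → ℂ) := σ.comp e.toMonoidHom
      have hσR : σR.character = fun x => (θ : N → ℂ) (e x) := funext fun x => congrFun hσ (e x)
      have hdR : ¬ r ∣ orderOf (detHom σR) := fun hd => hσp (hd.trans
        (orderOf_dvd_of_pow_eq_one (MonoidHom.ext fun x => by
          rw [MonoidHom.pow_apply, show detHom σR x = detHom σ (e x) from Units.ext rfl,
            ← MonoidHom.pow_apply, pow_orderOf_eq_one]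
          rfl)))
      have hinvR : ∀ (g : R) (x : NR),
          (θ : N → ℂ) (e (MulAut.conjNormal g x)) = (θ : N → ℂ) (e x) := fun g x => by
        rw [← hinv (g : G) (e x)]
        exact congrArg _ (Subtype.ext rfl)
      obtain ⟨μ, hμ, -⟩ := exists_linear_extension_coprime NR (detHom σR) (fun g x => Units.ext (by
        have h := detChar_conj_inv NR (θ := fun x => (θ : N → ℂ) (e x)) ⟨dθ, σR, hσR⟩ hinvR g x
        rwa [detChar_eq_hom σR hσR] at h))
        (hidx ▸ (hp.coprime_iff_not_dvd.mpr hdR).pow_left j)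
      obtain ⟨η, hη, hres⟩ := exists_extension_of_det_extension NR
        (isIrrCharacter_comp_equiv e θ.2) hinvR (deg (θ : N → ℂ))
        (by rw [map_one]; exact char_one_eq_deg (irr_isCharacter θ.2))
        (hidx ▸ (hp.coprime_iff_not_dvd.mpr hdeg).pow_left j) μ
        (fun x => by rw [hμ, detChar_eq_hom σR hσR])
      exact ⟨R, hNR, η, hRidx, hη, fun n =>
        (hres (e.symm n)).trans (congrArg (θ : N → ℂ) (e.apply_symm_apply n))⟩
    · have hidx : ¬ p ∣ N.relIndex R := fun hd => hrp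
        ((Nat.prime_dvd_prime_iff_eq hp hr).mp (hp.dvd_of_dvd_pow (hj ▸ hd))).symm
      obtain ⟨ξ, ⟨-, hξ⟩, -⟩ :=
        existsUnique_principal_sub N hM Q θ hθ R hNR hidx (hcov ▸ le_top)
      exact ⟨R, hNR, (ξ : R → ℂ), hRidx, ξ.2, hξ⟩
  obtain ⟨χ₀, hχ₀B, hχ₀N, hχ₀J⟩ :=
    PrincExt.exists_extension hM N Q hcov θ hθ ⟨ψ, hψ⟩ hψN
  obtain ⟨d, ρ, hρ⟩ := irr_isCharacter χ₀.2
  have hdθ : deg (θ : N → ℂ) = d := by
    have h1 := char_one_eq_dim ρ hρ
    rw [show (χ₀ : G → ℂ) 1 = (θ : N → ℂ) 1 from hχ₀N 1, char_one_eq_deg (irr_isCharacter θ.2)]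
      at h1
    exact_mod_cast h1
  set D := detHom ρ with hD
  set o := orderOf D with ho
  set P := p ^ o.factorization p with hP
  set o' := o / P with ho'
  have ho0 : o ≠ 0 := by
    haveI := finite_hom_units G
    exact (orderOf_pos D).ne'
  have hPo : P * o' = o := Nat.ordProj_mul_ordCompl_eq_self o p
  have hdo : (o' * d).Coprime P := by
    refine Nat.Coprime.pow_right _ (Nat.Coprime.symm ?_)
    exact Nat.Coprime.mul_right (Nat.coprime_ordCompl hp ho0)
      (hp.coprime_iff_not_dvd.mpr (hdθ ▸ hdeg))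
  obtain ⟨j₀, hj₀, -⟩ := Nat.chineseRemainder (hdo.symm) 0 0
  obtain ⟨j₁, hj₁⟩ : ∃ j₁, o' * d * j₁ + 1 ≡ 0 [MOD P] := by
    haveI : NeZero P := ⟨(pow_pos hp.pos _).ne'⟩
    obtain ⟨x, hx⟩ : ∃ x, o' * d * x ≡ 1 [MOD P] := by
      refine ⟨(((ZMod.unitOfCoprime _ hdo)⁻¹ : (ZMod P)ˣ) : ZMod P).val, ?_⟩
      rw [← ZMod.natCast_eq_natCast_iff, Nat.cast_mul _ (ZMod.val _), ZMod.natCast_zmod_val,
        ← ZMod.coe_unitOfCoprime (o' * d) hdo, Nat.cast_one, ← Units.val_mul, mul_inv_cancel,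
        Units.val_one]
    refine ⟨x * (P - 1), ?_⟩
    have hP0 : 0 < P := pow_pos hp.pos _
    have e : o' * d * (x * (P - 1)) + 1 ≡ 1 * (P - 1) + 1 [MOD P] := by
      rw [← mul_assoc]
      exact (hx.mul_right _).add_right _
    refine e.trans ?_
    rw [one_mul, Nat.sub_add_cancel hP0]
    exact Nat.modEq_zero_iff_dvd.mpr dvd_rfl
  set μ := D ^ (o' * j₁) with hμ
  have hDo : ∀ x : G, D x ^ o = 1 := fun x => by
    rw [← MonoidHom.pow_apply, ho, pow_orderOf_eq_one, MonoidHom.one_apply]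
  have hμP : μ ^ P = 1 := MonoidHom.ext fun x => by
    rw [MonoidHom.pow_apply, hμ, MonoidHom.pow_apply, MonoidHom.one_apply, ← pow_mul,
      show o' * j₁ * P = o * j₁ by rw [← hPo]; ring, pow_mul, hDo, one_pow]
  have hDN : ∀ n : N, D (n : G) = detHom σ n := fun n => Units.ext (by
    have h1 := detChar_restrict N (irr_isCharacter χ₀.2) hχ₀N n
    rw [detChar_eq_hom ρ hρ, detChar_eq_hom σ hσ] at h1
    exact h1)
  have hμN : ∀ n : N, μ (n : G) = 1 := fun n => by
    rw [hμ, MonoidHom.pow_apply, hDN, ← MonoidHom.pow_apply]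
    have h1 : orderOf (detHom σ) ∣ o' := by
      have h2 : orderOf (detHom σ) ∣ o := orderOf_dvd_of_pow_eq_one (MonoidHom.ext fun m => by
        rw [MonoidHom.pow_apply, ← hDN, ← MonoidHom.pow_apply, ho, pow_orderOf_eq_one]
        rfl)
      rw [← hPo] at h2
      exact ((Nat.Coprime.pow_left _ (hp.coprime_iff_not_dvd.mpr hσp)).symm).dvd_of_dvd_mul_left h2
    rw [orderOf_dvd_iff_pow_eq_one.1 (h1.trans (dvd_mul_right _ j₁)), MonoidHom.one_apply]
  have hcopJ : ∀ J : Subgroup G, ¬ p ∣ N.relIndex J → ∀ y : J, μ (y : G) = 1 := fun J hJ y => by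
    have h1 : μ (y : G) ^ N.relIndex J = 1 := by
      rw [← map_pow]
      exact hμN ⟨_, (N.subgroupOf J).pow_index_mem y⟩
    have h2 : μ (y : G) ^ P = 1 := by
      rw [← MonoidHom.pow_apply, hμP]; rfl
    exact orderOf_eq_one_iff.mp (Nat.eq_one_of_dvd_coprimes
      ((hp.coprime_iff_not_dvd.mpr hJ).pow_left _) (orderOf_dvd_of_pow_eq_one h2)
      (orderOf_dvd_of_pow_eq_one h1))
  obtain ⟨ρ₁, hρ₁, hdet₁⟩ := exists_twist_det ρ hρ μ
  let χ₁ : IrrCharacter G := ⟨fun g => (μ g : ℂ) * (χ₀ : G → ℂ) g, isIrr_linear_mul χ₀.2 μ⟩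
  refine ⟨χ₁, ?_, fun n => ?_, fun J hNJ hJ => ?_, d, ρ₁, hρ₁, ?_⟩
  · have hsame : SameBlock M (χ₀ : G → ℂ) (χ₁ : G → ℂ) := by
      refine sameBlock_of_regular_omega hM fun g hg => ?_
      have hg1 : μ g = 1 := by
        have h1 : μ g ^ orderOf g = 1 := by rw [← map_pow, pow_orderOf_eq_one, map_one]
        have h2 : μ g ^ P = 1 := by rw [← MonoidHom.pow_apply, hμP]; rfl
        exact orderOf_eq_one_iff.mp (Nat.eq_one_of_dvd_coprimes
          ((hp.coprime_iff_not_dvd.mpr hg).pow_left _) (orderOf_dvd_of_pow_eq_one h2)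
          (orderOf_dvd_of_pow_eq_one h1))
      have e : omega (χ₁ : G → ℂ) g = omega (χ₀ : G → ℂ) g := by
        simp only [omega, χ₁, hg1, map_one, Units.val_one, one_mul]
      rw [e, sub_self]
      exact memLI_zero (pmod_prime hM)
    exact sameBlock_trans (pmod_prime hM) hχ₀B hsame
  · show (μ (n : G) : ℂ) * (χ₀ : G → ℂ) n = _
    rw [hμN, Units.val_one, one_mul, hχ₀N]
  · obtain ⟨ξ, hξB, hξ⟩ := hχ₀J J hNJ
    refine ⟨ξ, hξB, fun y => ?_⟩
    show (ξ : J → ℂ) y = (μ (y : G) : ℂ) * _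
    rw [hcopJ J hJ y, Units.val_one, one_mul, hξ]
  · intro hd
    refine Nat.not_dvd_ordCompl hp ho0 (hd.trans (orderOf_dvd_of_pow_eq_one ?_))
    rw [← ho']
    obtain ⟨c, hc⟩ := Nat.modEq_zero_iff_dvd.1 hj₁
    refine MonoidHom.ext fun x => ?_
    rw [MonoidHom.pow_apply, hdet₁, MonoidHom.mul_apply, MonoidHom.pow_apply, hμ,
      MonoidHom.pow_apply, MonoidHom.one_apply, ← hD, mul_pow, ← pow_mul, ← pow_mul, ← pow_add,
      show o' * j₁ * (d * o') + o' = o' * (o' * d * j₁ + 1) by ring, hc, ← mul_assoc,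
      mul_comm o' P, hPo, pow_mul, hDo, one_pow]

/-- The extension with determinantal order prime to `p` is unique. -/
theorem canonical_unique (hM : IsPModular p M) (Q : Sylow p N)
    (hcov : N ⊔ Subgroup.centralizer (((Q : Subgroup N).map N.subtype : Subgroup G) : Set G) = ⊤)
    (θ : IrrCharacter N) (hθ : θ ∈ principalBlock M N) (hdeg : ¬ p ∣ deg (θ : N → ℂ))
    {χ χ' : IrrCharacter G} (h : ∀ n : N, (χ : G → ℂ) n = (θ : N → ℂ) n)
    (h' : ∀ n : N, (χ' : G → ℂ) n = (θ : N → ℂ) n)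
    (hg : Good M p N (χ : G → ℂ)) (hg' : Good M p N (χ' : G → ℂ))
    {d d' : ℕ} (ρ : Representation ℂ G (Fin d → ℂ)) (hρ : ρ.character = (χ : G → ℂ))
    (hd : ¬ p ∣ orderOf (detHom ρ)) (ρ' : Representation ℂ G (Fin d' → ℂ))
    (hρ' : ρ'.character = (χ' : G → ℂ)) (hd' : ¬ p ∣ orderOf (detHom ρ')) : χ' = χ := by
  classical
  have hp : p.Prime := Fact.out
  have hd1 : (θ : N → ℂ) 1 = deg (θ : N → ℂ) := char_one_eq_deg (irr_isCharacter θ.2)
  obtain ⟨β, hβN, hβ, hβdet⟩ :=
    exists_twist N (irr_isCharacter χ.2) (irr_isCharacter χ'.2) θ.2 _ hd1 h h'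
  -- the twist is trivial on elements of order prime to `p`
  have hreg : ∀ g : G, ¬ p ∣ orderOf g → β g = 1 := by
    intro g hgp
    set J : Subgroup G := N ⊔ Subgroup.zpowers g with hJ
    haveI : Fintype J := Fintype.ofFinite _
    have hNJ : N ≤ J := le_sup_left
    have hgJ : g ∈ J := Subgroup.mem_sup_right (Subgroup.mem_zpowers g)
    have hrel : ¬ p ∣ N.relIndex J := fun hd => hgp (by
      rw [hJ, sup_comm, Subgroup.relIndex_sup_right] at hd
      refine hd.trans ?_
      rw [← Nat.card_zpowers]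
      exact Subgroup.relIndex_dvd_card N (Subgroup.zpowers g))
    obtain ⟨ξ, hξB, hξ⟩ := hg J hNJ hrel
    obtain ⟨ξ', hξ'B, hξ'⟩ := hg' J hNJ hrel
    have heq : ξ' = ξ := (existsUnique_principal_sub N hM Q θ hθ J hNJ hrel (hcov ▸ le_top)).unique
      ⟨hξ'B, fun n => (hξ' _).trans (h' n)⟩ ⟨hξB, fun n => (hξ _).trans (h n)⟩
    set NJ : Subgroup J := N.subgroupOf J with hNJ'
    haveI : Fintype NJ := Fintype.ofFinite _
    let e : NJ ≃* N := Subgroup.subgroupOfEquivOfLe hNJ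
    let θJ : IrrCharacter NJ := ⟨fun x => (θ : N → ℂ) (e x), isIrrCharacter_comp_equiv e θ.2⟩
    have hb := gallagher_one NJ θJ (irr_isCharacter ξ.2) (fun x => (hξ _).trans (h (e x)))
    have hlin : IsIrrCharacter J (fun y : J => (β (y : G) : ℂ)) := by
      simpa using isIrr_linear_mul (isIrrCharacter_one (G := J)) (β.comp J.subtype)
    have h1 := hb.injOn (x₁ := fun y : J => (β (y : G) : ℂ)) (x₂ := fun _ : J => (1 : ℂ))
      ⟨hlin, fun x => by
        show (β ((x : J) : G) : ℂ) = (β ((1 : J) : G) : ℂ)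
        rw [OneMemClass.coe_one, map_one]
        exact congrArg Units.val (hβN (e x))⟩
      ⟨isIrrCharacter_one, fun _ => rfl⟩ (funext fun y => by
        show (β (y : G) : ℂ) * (ξ : J → ℂ) y = 1 * (ξ : J → ℂ) y
        rw [one_mul]
        conv_rhs => rw [← heq, hξ', hβ]
        rw [hξ])
    exact Units.ext (congrFun h1 ⟨g, hgJ⟩)
  have hβP : β ^ p ^ (Nat.card G).factorization p = 1 := MonoidHom.ext fun g => by
    rw [MonoidHom.pow_apply, MonoidHom.one_apply, ← map_pow]
    refine hreg _ fun hd => ?_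
    have h1 : orderOf (g ^ p ^ (Nat.card G).factorization p) ∣
        Nat.card G / p ^ (Nat.card G).factorization p :=
      orderOf_dvd_of_pow_eq_one (by rw [← pow_mul, card_eq, pow_card_eq_one'])
    exact Nat.not_dvd_ordCompl hp Nat.card_pos.ne' (hd.trans h1)
  have hβd : β ^ deg (θ : N → ℂ) = detHom ρ' * (detHom ρ)⁻¹ := MonoidHom.ext fun g => Units.ext (by
    have h1 := congrFun hβdet g
    rw [detChar_eq_hom ρ' hρ', detChar_eq_hom ρ hρ] at h1
    simp only at h1
    rw [MonoidHom.mul_apply, MonoidHom.inv_apply, MonoidHom.pow_apply, Units.val_mul, h1,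
      Units.val_pow_eq_pow_val, mul_assoc, ← Units.val_mul, mul_inv_cancel, Units.val_one, mul_one])
  set Q₀ := orderOf (detHom ρ') * orderOf (detHom ρ) with hQ₀
  have hQ : ¬ p ∣ deg (θ : N → ℂ) * Q₀ := fun h0 => (hp.dvd_mul.mp h0).elim hdeg
    fun h1 => (hp.dvd_mul.mp h1).elim hd' hd
  have hβ1 : β = 1 := MonoidHom.ext fun g => by
    have h0 : β g ^ p ^ (Nat.card G).factorization p = 1 := by
      rw [← MonoidHom.pow_apply, hβP]; rfl
    have hd0 : β g ^ deg (θ : N → ℂ) = detHom ρ' g * (detHom ρ g)⁻¹ := by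
      rw [← MonoidHom.pow_apply, hβd]; rfl
    have ho : ∀ {e : ℕ} (φ : G →* ℂˣ), φ ^ e = 1 → φ g ^ e = 1 := fun φ h => by
      rw [← MonoidHom.pow_apply, h]; rfl
    have h1 : β g ^ (deg (θ : N → ℂ) * Q₀) = 1 := by
      rw [pow_mul, hd0, mul_pow, hQ₀, pow_mul, ho _ (pow_orderOf_eq_one (detHom ρ')), one_pow,
        one_mul, inv_pow, mul_comm, pow_mul, ho _ (pow_orderOf_eq_one (detHom ρ)), one_pow, inv_one]
    exact orderOf_eq_one_iff.mp (Nat.eq_one_of_dvd_coprimes
      ((hp.coprime_iff_not_dvd.mpr hQ).pow_left _) (orderOf_dvd_of_pow_eq_one h0)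
      (orderOf_dvd_of_pow_eq_one h1))
  refine Subtype.ext ?_
  rw [hβ, hβ1]
  funext g
  simp

/-- **`p`-rational extensions in the principal block.** -/
theorem exists_prat_extension (hp2 : p ≠ 2) (hM : IsPModular p M) (Q : Sylow p N) {a : ℕ}
    (hidx : (N ⊔ Subgroup.centralizer
      (((Q : Subgroup N).map N.subtype : Subgroup G) : Set G)).index = p ^ a)
    (θ : IrrCharacter N) (hθ : θ ∈ principalBlock M N) (hdeg : ¬ p ∣ deg (θ : N → ℂ))
    (hrat : PRat p (θ : N → ℂ))
    (hinv : ∀ (g : G) (n : N), (θ : N → ℂ) (MulAut.conjNormal g n) = (θ : N → ℂ) n) :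
    ∃ χ : IrrCharacter G, χ ∈ principalBlock M G ∧ PRat p (χ : G → ℂ) ∧
      ∀ n : N, (χ : G → ℂ) n = (θ : N → ℂ) n := by
  classical
  have hp : p.Prime := Fact.out
  set Qm := (Q : Subgroup N).map N.subtype with hQm
  set L := N ⊔ Subgroup.centralizer (Qm : Set G) with hL
  haveI : Fintype L := Fintype.ofFinite _
  haveI hLn : L.Normal := by
    rw [← Subgroup.normalizer_eq_top_iff, eq_top_iff, ← Sylow.normalizer_sup_eq_top Q]
    refine sup_le (fun g hg => ?_) (le_sup_left.trans Subgroup.le_normalizer)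
    have hhalf : ∀ h ∈ Subgroup.normalizer (Qm : Set G), ∀ x ∈ L, h * x * h⁻¹ ∈ L := by
      intro h hh x hx
      obtain ⟨n, hn, c, hc, rfl⟩ := Subgroup.mem_sup_of_normal_left.mp hx
      rw [← conj_mul]
      refine Subgroup.mul_mem_sup ((inferInstance : N.Normal).conj_mem n hn h) fun y hy => ?_
      have hy' : h⁻¹ * y * h ∈ Qm := by
        have := (Subgroup.mem_normalizer_iff.mp hh (h⁻¹ * y * h)).mpr
          (by simpa [mul_assoc] using hy)
        exact this
      have := hc _ hy'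
      calc y * (h * c * h⁻¹) = h * (h⁻¹ * y * h * c) * h⁻¹ := by group
        _ = h * (c * (h⁻¹ * y * h)) * h⁻¹ := by rw [this]
        _ = h * c * h⁻¹ * y := by group
    refine Subgroup.mem_normalizer_iff.mpr fun x => ⟨hhalf g hg x, fun hx => ?_⟩
    have := hhalf g⁻¹ (inv_mem hg) _ hx
    simpa [mul_assoc] using this
  have hNL : N ≤ L := le_sup_left
  set NL : Subgroup L := N.subgroupOf L with hNL'
  haveI : Fintype NL := Fintype.ofFinite _
  let e : NL ≃* N := Subgroup.subgroupOfEquivOfLe hNL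
  let θL : IrrCharacter NL := ⟨fun x => (θ : N → ℂ) (e x), isIrrCharacter_comp_equiv e θ.2⟩
  have hQLcard : Nat.card ((Q : Subgroup N).map e.symm.toMonoidHom) =
      p ^ (Nat.card NL).factorization p := by
    rw [Subgroup.card_map_of_injective e.symm.injective, Sylow.card_eq_multiplicity,
      Nat.card_congr e.toEquiv]
  let QL : Sylow p NL := Sylow.ofCard _ hQLcard
  have hcovL : NL ⊔ Subgroup.centralizer
      (((QL : Subgroup NL).map NL.subtype : Subgroup L) : Set L) = ⊤ := by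
    rw [eq_top_iff]
    intro x _
    obtain ⟨n, hn, c, hc, hnc⟩ := Subgroup.mem_sup_of_normal_left.mp x.2
    rw [show x = (⟨n, hNL hn⟩ : L) * ⟨c, Subgroup.mem_sup_right hc⟩ from Subtype.ext hnc.symm]
    refine Subgroup.mul_mem_sup hn (fun y hy => ?_)
    obtain ⟨z, hz, rfl⟩ := hy
    obtain ⟨q, hq, rfl⟩ := (show z ∈ (Q : Subgroup N).map e.symm.toMonoidHom from hz)
    exact Subtype.ext (hc _ ⟨q, hq, rfl⟩)
  have hθLB : θL ∈ principalBlock M NL := principal_comp_equiv e hθ
  have hdegL : ¬ p ∣ deg (θL : NL → ℂ) := by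
    rw [show deg (θL : NL → ℂ) = deg (θ : N → ℂ) by simp [deg, θL]]
    exact hdeg
  have hratL : PRat p (θL : NL → ℂ) := fun k hk hk1 x => by
    show (θ : N → ℂ) (e (x ^ k)) = _
    rw [map_pow]
    rw [Nat.card_congr e.toEquiv] at hk hk1
    exact hrat k hk hk1 (e x)
  obtain ⟨χ₁, hχ₁B, hχ₁N, hχ₁g, d, ρ, hρ, hρd⟩ := exists_canonical NL hp2 hM QL hcovL θL hθLB
    hdegL hratL (fun l x => by
      show (θ : N → ℂ) (e _) = (θ : N → ℂ) (e x)
      rw [← hinv (l : G) (e x)]
      exact congrArg _ (Subtype.ext rfl))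
  have huniq : ∀ (χ' : IrrCharacter L), (∀ n : NL, (χ' : L → ℂ) n = (θL : NL → ℂ) n) →
      Good M p NL (χ' : L → ℂ) → ∀ (d' : ℕ) (ρ' : Representation ℂ L (Fin d' → ℂ)),
      ρ'.character = (χ' : L → ℂ) → ¬ p ∣ orderOf (detHom ρ') → χ' = χ₁ :=
    fun χ' h1 h2 d' ρ' h3 h4 => canonical_unique NL hM QL hcovL θL hθLB hdegL hχ₁N h1 hχ₁g h2
      ρ hρ hρd ρ' h3 h4
  -- invariance under `G`
  have hLinv : ∀ (g : G) (l : L), (χ₁ : L → ℂ) (MulAut.conjNormal g l) = (χ₁ : L → ℂ) l := by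
    intro g
    set α : MulAut L := MulAut.conjNormal g with hα
    have hNα : ∀ x : L, x ∈ NL → α x ∈ NL := fun x hx => by
      show ((α x : L) : G) ∈ N
      rw [hα, MulAut.conjNormal_apply]
      exact (inferInstance : N.Normal).conj_mem _ hx g
    have h1 := huniq (irrComp α χ₁) (fun x => ?_) (fun J hNJ hJ => ?_) d
      (ρ.comp α.toMonoidHom) (funext fun x => congrFun hρ (α x)) ?_
    · exact fun l => congrFun (congrArg Subtype.val h1) l
    · rw [irrComp_apply]
      have hx := hχ₁N ⟨α x, hNα x x.2⟩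
      rw [show (χ₁ : L → ℂ) (α (x : L)) = _ from hx]
      show (θ : N → ℂ) (e _) = (θ : N → ℂ) (e x)
      rw [← hinv g (e x)]
      exact congrArg _ (Subtype.ext rfl)
    · set J' : Subgroup L := J.map α.toMonoidHom with hJ'
      haveI : Fintype J' := Fintype.ofFinite _
      have hmap : NL.map α.toMonoidHom = NL := by
        refine Subgroup.eq_of_le_of_card_ge (by rintro _ ⟨x, hx, rfl⟩; exact hNα x hx) (le_of_eq ?_)
        exact (Subgroup.card_map_of_injective (K := NL) (f := α.toMonoidHom) α.injective).symm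
      have hNJ' : NL ≤ J' := hmap ▸ Subgroup.map_mono hNJ
      have hJ'' : ¬ p ∣ NL.relIndex J' := by
        rw [← hmap, hJ', Subgroup.relIndex_map_map_of_injective (f := α.toMonoidHom) NL J α.injective]
        exact hJ
      obtain ⟨ξ, hξB, hξ⟩ := hχ₁g J' hNJ' hJ''
      haveI : Fintype J := Fintype.ofFinite _
      refine ⟨_, principal_comp_equiv (J.equivMapOfInjective α.toMonoidHom α.injective) hξB,
        fun y => ?_⟩
      exact hξ _
    · intro hd
      refine hρd (hd.trans (orderOf_dvd_of_pow_eq_one (MonoidHom.ext fun x => ?_)))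
      rw [MonoidHom.pow_apply,
        show detHom (ρ.comp α.toMonoidHom) x = detHom ρ (α x) from Units.ext rfl,
        ← MonoidHom.pow_apply, pow_orderOf_eq_one]
      rfl
  -- invariance under Galois automorphisms
  have hLrat : ∀ k : ℕ, k.Coprime (Nat.card G) →
      k ≡ 1 [MOD Nat.card G / p ^ (Nat.card G).factorization p] →
      ∀ l : L, (χ₁ : L → ℂ) (l ^ k) = (χ₁ : L → ℂ) l := by
    intro k hk hk1
    have hkL : k.Coprime (Nat.card L) := hk.coprime_dvd_right L.card_subgroup_dvd_card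
    obtain ⟨ρ', hρ', hdet⟩ := exists_powRep ρ hkL
    let χ' : IrrCharacter L := ⟨fun l => (χ₁ : L → ℂ) (l ^ k), isIrrCharacter_pow χ₁.2 hkL⟩
    have h1 := huniq χ' (fun x => ?_) (fun J hNJ hJ => ?_) d ρ' (funext fun l => by
      rw [hρ', hρ]) ?_
    · exact fun l => congrFun (congrArg Subtype.val h1) l
    · show (χ₁ : L → ℂ) ((x : L) ^ k) = _
      rw [← Subgroup.coe_pow, hχ₁N]
      show (θ : N → ℂ) (e (x ^ k)) = _
      rw [map_pow]
      refine hrat k (hk.coprime_dvd_right N.card_subgroup_dvd_card) (hk1.of_dvd ?_) (e x)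
      exact Nat.ordCompl_dvd_ordCompl_of_dvd N.card_subgroup_dvd_card p
    · obtain ⟨ξ, hξB, hξ⟩ := hχ₁g J hNJ hJ
      haveI : Fintype J := Fintype.ofFinite _
      have hkJ : k.Coprime (Nat.card J) := hkL.coprime_dvd_right J.card_subgroup_dvd_card
      let ξ' : IrrCharacter J := ⟨fun y => (ξ : J → ℂ) (y ^ k), isIrrCharacter_pow ξ.2 hkJ⟩
      refine ⟨ξ', principalBlock_pow hM hkJ (fun y => rfl) hξB, fun y => ?_⟩
      show (ξ : J → ℂ) (y ^ k) = (χ₁ : L → ℂ) ((y : L) ^ k)
      rw [hξ, Subgroup.coe_pow]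
    · intro hd
      refine hρd (hd.trans (orderOf_dvd_of_pow_eq_one (MonoidHom.ext fun x => ?_)))
      rw [MonoidHom.pow_apply, show detHom ρ' x = detHom ρ x ^ k from Units.ext (by
        rw [detHom_apply, hdet, Units.val_pow_eq_pow_val, detHom_apply]), ← pow_mul, mul_comm,
        pow_mul, ← MonoidHom.pow_apply, pow_orderOf_eq_one]
      simp
  -- up to `G`
  set δ := deg (χ₁ : L → ℂ) with hδ
  have hδ1 : (χ₁ : L → ℂ) 1 = δ := char_one_eq_deg (irr_isCharacter χ₁.2)
  have hδp : ¬ p ∣ δ := by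
    have h1 : (χ₁ : L → ℂ) 1 = (θL : NL → ℂ) 1 := hχ₁N 1
    rw [hδ1, char_one_eq_deg (irr_isCharacter θL.2), Nat.cast_inj] at h1
    rw [h1]; exact hdegL
  have hidx' : L.index = p ^ a := hidx
  have hcopd : L.index.Coprime δ := hidx' ▸ (hp.coprime_iff_not_dvd.mpr hδp).pow_left a
  have hcopμ : L.index.Coprime (orderOf (detHom ρ)) :=
    hidx' ▸ (hp.coprime_iff_not_dvd.mpr hρd).pow_left a
  obtain ⟨μ, hμ, hμo⟩ := exists_linear_extension_coprime L (detHom ρ) (fun g l => Units.ext (by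
    have h := detChar_conj_inv L (irr_isCharacter χ₁.2) hLinv g l
    rwa [detChar_eq_hom ρ hρ] at h)) hcopμ
  have hμdet : ∀ l : L, (μ (l : G) : ℂ) = detChar (χ₁ : L → ℂ) l := fun l => by
    rw [hμ, detChar_eq_hom ρ hρ]
  obtain ⟨η, hη, hηL⟩ := exists_extension_of_det_extension L χ₁.2 hLinv δ hδ1 hcopd μ hμdet
  obtain ⟨χf, ⟨hχf, hχfL, hχfd⟩, hχu⟩ :=
    existsUnique_extension_det L χ₁.2 δ hδ1 hcopd hη hηL μ hμdet
  let χ : IrrCharacter G := ⟨χf, hχf⟩
  refine ⟨χ, ?_, fun k hk hk1 g => ?_, fun n => ?_⟩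
  · let one : IrrCharacter G := ⟨fun _ => 1, isIrrCharacter_one⟩
    let oneL : IrrCharacter L := ⟨fun _ => 1, isIrrCharacter_one⟩
    refine sameBlock_of_pIndex hM hidx' (χ := one) (χ' := χ) (θ := oneL) (θ' := χ₁) hχ₁B ?_ ?_
    · rw [show (fun l : L => (one : G → ℂ) l) = (oneL : L → ℂ) from rfl, irr_self oneL.2]
      exact one_ne_zero
    · rw [show (fun l : L => (χ : G → ℂ) l) = (χ₁ : L → ℂ) from funext hχfL, irr_self χ₁.2]
      exact one_ne_zero
  · have hμk : μ ^ k = μ := by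
      refine linear_extension_unique L (fun l => ?_) (hμo ▸ hcopμ) ?_
      · rw [MonoidHom.pow_apply]
        refine Units.ext ?_
        rw [Units.val_pow_eq_pow_val, hμdet]
        have h2 := congrFun (detChar_pow (irr_isCharacter χ₁.2)
          (hk.coprime_dvd_right L.card_subgroup_dvd_card)) l
        rw [show (fun l : L => (χ₁ : L → ℂ) (l ^ k)) = (χ₁ : L → ℂ) from
          funext (hLrat k hk hk1)] at h2
        exact h2.symm
      · exact hcopμ.coprime_dvd_right (hμo ▸ orderOf_dvd_of_pow_eq_one (MonoidHom.ext fun x => by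
          rw [MonoidHom.pow_apply, MonoidHom.pow_apply, MonoidHom.one_apply, ← pow_mul, mul_comm,
            pow_mul, ← MonoidHom.pow_apply μ, pow_orderOf_eq_one, MonoidHom.one_apply, one_pow]))
    have h2 := hχu (fun x => χf (x ^ k)) ⟨isIrrCharacter_pow hχf hk, fun l => by
      show χf ((l : G) ^ k) = _
      rw [← Subgroup.coe_pow, hχfL, hLrat k hk hk1], by
      rw [detChar_pow (irr_isCharacter hχf) hk, hχfd]
      funext x
      rw [← Units.val_pow_eq_pow_val, ← MonoidHom.pow_apply, hμk]⟩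
    exact congrFun h2 g
  · show χf ((⟨(n : G), hNL n.2⟩ : L) : G) = _
    rw [hχfL]
    exact hχ₁N ⟨⟨(n : G), hNL n.2⟩, n.2⟩

end Cfsg.Agent.Char.RatExt
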