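import Cfsg.Agent.Lib.Char.SectionSqrt
import Cfsg.Agent.Lib.Fusion.DihedralFours

/-!
# Principal blocks with three characters
-/

set_option autoImplicit false
set_option linter.unusedSectionVars false
set_option linter.style.haveILetI false

namespace Cfsg.Agent.Char

open Cfsg
open scoped ComplexConjugate

universe u

variable {G : Type u} [Group G] [Fintype G] {M : Ideal AlgInt} {p : ℕ} [hp : Fact p.Prime]

/-- A group of prime power order with three classes has order three. -/
theorem card_eq_three_of_classes {Q : Type*} [Group Q] [Finite Q] (hQ : IsPGroup p Q)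
    (h : Nat.card (ConjClasses Q) = 3) : Nat.card Q = 3 := by
  classical
  haveI := Fintype.ofFinite Q
  by_cases htop : Subgroup.center Q = ⊤
  · have hb : Function.Bijective (ConjClasses.mk : Q → ConjClasses Q) := by
      refine ⟨fun a b e => ?_, ConjClasses.mk_surjective⟩
      obtain ⟨c, hc⟩ := isConj_iff.mp (ConjClasses.mk_eq_mk_iff_isConj.mp e)
      have ha : a ∈ Subgroup.center Q := by rw [htop]; trivial
      rw [← hc, Subgroup.mem_center_iff.mp ha c, mul_inv_cancel_right]
    rw [← h]
    exact Nat.card_congr (Equiv.ofBijective _ hb)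
  exfalso
  haveI : Nontrivial Q := by
    by_contra hn
    rw [not_nontrivial_iff_subsingleton] at hn
    exact htop (Subsingleton.elim _ _)
  haveI := hQ.center_nontrivial
  have hz2 : 2 ≤ Nat.card (Subgroup.center Q) := Finite.one_lt_card
  set Z := Subgroup.center Q with hZ
  have hzq : 2 * Nat.card Z ≤ Nat.card Q := by
    rw [← Z.card_mul_index, mul_comm]
    exact Nat.mul_le_mul_left _ (Nat.succ_le_of_lt (Subgroup.one_lt_index_of_ne_top htop))
  have hcomm := card_comm_eq_card_conjClasses_mul_card Q
  rw [h] at hcomm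
  have hsum : Nat.card {a : Q × Q // Commute a.1 a.2} =
      ∑ g : Q, Nat.card (Subgroup.centralizer ({g} : Set Q)) := by
    rw [Nat.card_congr (Equiv.subtypeProdEquivSigmaSubtype fun a b : Q => Commute a b), Nat.card_sigma]
    exact Finset.sum_congr rfl fun g _ => Nat.card_congr (Equiv.subtypeEquivRight fun b =>
      ⟨fun e => Subgroup.mem_centralizer_singleton_iff.mpr e.symm.eq,
        fun e => (show Commute b g from Subgroup.mem_centralizer_singleton_iff.mp e).symm⟩)
  have hbound : ∀ g : Q, (if g ∈ Z then Nat.card Q else 2 * Nat.card Z) ≤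
      Nat.card (Subgroup.centralizer ({g} : Set Q)) := by
    intro g
    split_ifs with hg
    · rw [show Subgroup.centralizer ({g} : Set Q) = ⊤ from eq_top_iff.mpr fun c _ =>
        Subgroup.mem_centralizer_singleton_iff.mpr (Subgroup.mem_center_iff.mp hg c), Subgroup.card_top]
    · have hle : Z ≤ Subgroup.centralizer ({g} : Set Q) := fun c hc =>
        Subgroup.mem_centralizer_singleton_iff.mpr (Subgroup.mem_center_iff.mp hc g).symm
      rw [← (Z.subgroupOf (Subgroup.centralizer ({g} : Set Q))).card_mul_index,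
        Nat.card_congr (Subgroup.subgroupOfEquivOfLe hle).toEquiv,
        mul_comm (Nat.card Z)]
      refine Nat.mul_le_mul_right _ ?_
      show 2 ≤ Z.relIndex (Subgroup.centralizer ({g} : Set Q))
      have hne : Z.relIndex (Subgroup.centralizer ({g} : Set Q)) ≠ 1 := fun e =>
        hg (Subgroup.relIndex_eq_one.mp e (Subgroup.mem_centralizer_singleton_iff.mpr rfl))
      have h0 : Z.relIndex (Subgroup.centralizer ({g} : Set Q)) ≠ 0 :=
        Subgroup.index_ne_zero_of_finite
      omega
  have hle := Finset.sum_le_sum (s := Finset.univ) fun g _ => hbound g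
  rw [← hsum, hcomm, Finset.sum_ite, Finset.sum_const, Finset.sum_const, smul_eq_mul, smul_eq_mul]
    at hle
  have hc1 : (Finset.univ.filter fun g : Q => g ∈ Z).card = Nat.card Z := by
    rw [Nat.card_eq_fintype_card, ← Fintype.card_subtype]
  have hc2 := Finset.card_filter_add_card_filter_not (s := (Finset.univ : Finset Q)) fun g => g ∈ Z
  rw [hc1, Finset.card_univ, ← Nat.card_eq_fintype_card] at hc2
  rw [hc1] at hle
  nlinarith

open scoped Classical in
/-- A system of representatives of the classes of `p`-elements. -/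
theorem exists_pElement_reps :
    ∃ X : Finset G, (1 : G) ∈ X ∧ (∀ x ∈ X, ∃ k : ℕ, orderOf x = p ^ k) ∧
      ∀ g : G, (∃ k : ℕ, orderOf g = p ^ k) → ∃! x, x ∈ X ∧ IsConj g x := by
  let rep : G → G := fun g => Quotient.out (ConjClasses.mk g : ConjClasses G)
  have hrep : ∀ g, IsConj g (rep g) := fun g =>
    ConjClasses.mk_eq_mk_iff_isConj.mp (Quotient.out_eq (ConjClasses.mk g : ConjClasses G)).symm
  refine ⟨Finset.univ.filter fun g => (∃ k : ℕ, orderOf g = p ^ k) ∧ rep g = g,
    Finset.mem_filter.mpr ⟨Finset.mem_univ _, ⟨0, by simp⟩, isConj_one_right.mp (hrep 1)⟩,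
    fun x hx => (Finset.mem_filter.mp hx).2.1, fun g hg => ⟨rep g, ⟨?_, hrep g⟩, fun y hy => ?_⟩⟩
  · refine Finset.mem_filter.mpr ⟨Finset.mem_univ _, ?_, ?_⟩
    · obtain ⟨k, hk⟩ := hg
      obtain ⟨c, hc⟩ := isConj_iff.mp (hrep g)
      refine ⟨k, ?_⟩
      rw [← hc, ← MulAut.conj_apply, MulEquiv.orderOf_eq, hk]
    · exact congrArg Quotient.out (ConjClasses.mk_eq_mk_iff_isConj.mpr (hrep g).symm)
  · rw [← (Finset.mem_filter.mp hy.1).2.2]
    exact congrArg Quotient.out (ConjClasses.mk_eq_mk_iff_isConj.mpr hy.2.symm)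

/-- Trivial defect gives rank one. -/
theorem hnpc_of_sylow_trivial (D : Sylow p G) (hD : Nat.card (D : Subgroup G) = 1) :
    HasNormalPComplement p G := by
  refine hnpc_iff_regular.mpr ⟨⊤, inferInstance, ?_, fun g _ => trivial⟩
  rw [Subgroup.card_top]
  intro h
  rw [D.card_eq_multiplicity] at hD
  have := Nat.pow_right_injective hp.out.two_le (hD.trans (pow_zero p).symm)
  exact (hp.out.factorization_pos_of_dvd Nat.card_pos.ne' h).ne' this

/-- If all nontrivial `p`-elements are conjugate, characters are integers at them. -/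
theorem value_int_of_unique_class {x : G} (hx : ∃ k : ℕ, orderOf x = p ^ k) (hx1 : x ≠ 1)
    (huniq : ∀ g : G, (∃ k : ℕ, orderOf g = p ^ k) → g ≠ 1 → IsConj g x) {χ : G → ℂ}
    (hχ : IsCharacter G χ) : ∃ z : ℤ, χ x = z := by
  obtain ⟨hm, hgal⟩ := char_galois hχ x
  have hne : Nat.card G ≠ 0 := Nat.card_pos.ne'
  obtain ⟨q, hq⟩ := exists_rat_of_fixed hne hm fun φ => by
    obtain ⟨k, hk, hkφ⟩ := exists_power_of_embedding hne φ
    rw [hgal φ k hkφ]
    have ho : orderOf (x ^ k) = orderOf x :=
      Nat.Coprime.orderOf_pow ((hk.coprime_dvd_right (orderOf_dvd_natCard x)).symm)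
    obtain ⟨c, hc⟩ := isConj_iff.mp (huniq (x ^ k) (ho.symm ▸ hx) fun e => hx1 (by
      rw [e, orderOf_one] at ho
      exact orderOf_eq_one_iff.mp ho.symm))
    exact (isClassFunction_character hχ (x ^ k) c).symm.trans (congrArg χ hc)
  obtain ⟨z, hz⟩ := isIntegral_rat_cast_imp (q := q) (hq ▸ char_isIntegral hχ x)
  exact ⟨z, by rw [hq, ← hz]; simp⟩

/-- Conjugates of members of the principal block are members. -/
theorem irrConj_mem_principal (hM : IsPModular p M) {χ : IrrCharacter G}
    (hχ : χ ∈ principalBlock M G) : irrConj χ ∈ principalBlock M G := by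
  rw [← lam_regInd_unit_iff hM] at hχ ⊢
  have e : lam (irrConj χ : G → ℂ) (regInd p) = lam (χ : G → ℂ) (regInd p) := by
    obtain ⟨d, hd⟩ := charOne_eq_natCast (irr_isCharacter χ.2)
    simp only [lam, show ∀ g, (irrConj χ : G → ℂ) g = conj ((χ : G → ℂ) g) from fun g => rfl, hd,
      map_natCast]
    congr 1
    refine Fintype.sum_equiv (Equiv.inv G) _ _ fun g => ?_
    rw [Equiv.inv_apply, char_inv (irr_isCharacter χ.2)]
    congr 1
    simp [regInd]
  rwa [e]

open scoped Classical in
/-- The principal block as the trivial character and two others. -/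
theorem principal_eq_three (hM : IsPModular p M) (hk : Nat.card (principalBlock M G) = 3) :
    ∃ a b : IrrCharacter G, a ≠ ⟨fun _ => 1, isIrrCharacter_one⟩ ∧
      b ≠ ⟨fun _ => 1, isIrrCharacter_one⟩ ∧ a ≠ b ∧
      (Finset.univ.filter fun χ : IrrCharacter G => χ ∈ principalBlock M G) =
        {⟨fun _ => 1, isIrrCharacter_one⟩, a, b} := by
  set B := Finset.univ.filter fun χ : IrrCharacter G => χ ∈ principalBlock M G with hB
  have hc : B.card = 3 := by
    rw [← hk, Nat.card_eq_fintype_card, Fintype.card_subtype]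
  have h1 : (⟨fun _ => 1, isIrrCharacter_one⟩ : IrrCharacter G) ∈ B :=
    Finset.mem_filter.mpr ⟨Finset.mem_univ _, one_mem_principal hM⟩
  obtain ⟨a, b, hab, he⟩ := Finset.card_eq_two.mp
    (show (B.erase ⟨fun _ => 1, isIrrCharacter_one⟩).card = 2 by rw [Finset.card_erase_of_mem h1, hc])
  have ha : a ∈ B.erase ⟨fun _ => 1, isIrrCharacter_one⟩ := he ▸ Finset.mem_insert_self _ _
  have hb : b ∈ B.erase ⟨fun _ => 1, isIrrCharacter_one⟩ :=
    he ▸ Finset.mem_insert_of_mem (Finset.mem_singleton_self _)
  exact ⟨a, b, (Finset.mem_erase.mp ha).1, (Finset.mem_erase.mp hb).1, hab,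
    by rw [← Finset.insert_erase h1, he]⟩

/-- A principal block with three characters has a Sylow subgroup of order three. -/
theorem card_sylow_of_three (hM : IsPModular p M) (hk : Nat.card (principalBlock M G) = 3)
    (D : Sylow p G) : Nat.card (D : Subgroup G) = 3 := by
  classical
  by_cases hl : blockRank p (principalBlock M G) = 1
  · obtain ⟨K, hKn, hK, ⟨n, hn⟩, -⟩ := exists_complement_index
      ((blockRank_principal_eq_one_iff hM).mp hl)
    have hcard := card_sylow_eq_index K hK hn D
    rw [Subgroup.index_eq_card] at hcard hn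
    rw [hcard]
    refine card_eq_three_of_classes (p := p) (IsPGroup.of_card hn) ?_
    rw [← card_principal_of_complement hM K hK (by rw [Subgroup.index_eq_card, hn]), hk]
  have hl2 : 2 ≤ blockRank p (principalBlock M G) := by
    have := one_le_blockRank_principal (G := G) (p := p) hM
    omega
  -- a central element of the Sylow subgroup
  obtain ⟨n, hn⟩ := IsPGroup.iff_card.mp D.isPGroup'
  haveI : Nontrivial (D : Subgroup G) := by
    by_contra hnt
    rw [not_nontrivial_iff_subsingleton] at hnt
    exact hl ((blockRank_principal_eq_one_iff hM).mpr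
      (hnpc_of_sylow_trivial D (Nat.card_eq_one_iff_unique.mpr ⟨hnt, inferInstance⟩)))
  haveI := D.isPGroup'.center_nontrivial
  obtain ⟨xz, hxz⟩ := exists_ne (1 : Subgroup.center (D : Subgroup G))
  set x : G := ((xz : (D : Subgroup G)) : G) with hxdef
  have hx1 : x ≠ 1 := fun e => hxz (Subtype.ext (Subtype.ext e))
  have hx : ∃ k : ℕ, orderOf x = p ^ k := by
    obtain ⟨j, hj⟩ := IsPGroup.iff_orderOf.mp D.isPGroup' (xz : (D : Subgroup G))
    exact ⟨j, by rw [hxdef, Subgroup.orderOf_coe, hj]⟩
  -- one class of nontrivial `p`-elements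
  obtain ⟨X, h1X, hX, hXrep⟩ := exists_pElement_reps (G := G) (p := p)
  have hsum := card_principal_eq_sum hM X hX hXrep
  rw [hk, ← Finset.add_sum_erase _ _ h1X, blockRank_principal_centralizer_one hM] at hsum
  have hpos : ∀ y : G,
      1 ≤ blockRank p (principalBlock M (Subgroup.centralizer ({y} : Set G))) := fun y => by
    haveI : Fintype (Subgroup.centralizer ({y} : Set G)) := Fintype.ofFinite _
    exact one_le_blockRank_principal hM
  have hX1 : (X.erase 1).card ≤ 1 := by
    have := Finset.card_nsmul_le_sum (X.erase 1)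
      (fun y => blockRank p (principalBlock M (Subgroup.centralizer ({y} : Set G)))) 1
      fun y _ => hpos y
    rw [smul_eq_mul, mul_one] at this
    omega
  have huniq : ∀ g : G, (∃ k : ℕ, orderOf g = p ^ k) → g ≠ 1 → IsConj g x := by
    intro g hg hg1
    obtain ⟨r, ⟨hr, hgr⟩, -⟩ := hXrep g hg
    obtain ⟨r', ⟨hr', hxr⟩, -⟩ := hXrep x hx
    have hne : ∀ {a b : G}, IsConj a b → a ≠ 1 → b ≠ 1 := fun e ha hb =>
      ha (isConj_one_left.mp (hb ▸ e))
    have e := Finset.card_le_one.mp hX1 r (Finset.mem_erase.mpr ⟨hne hgr hg1, hr⟩) r'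
      (Finset.mem_erase.mpr ⟨hne hxr hx1, hr'⟩)
    exact hgr.trans (e ▸ hxr.symm)
  -- the local rank at the element
  haveI : Fintype (Subgroup.centralizer ({x} : Set G)) := Fintype.ofFinite _
  have hsum2 := card_principal_eq_sum hM ({1, x} : Finset G)
    (by
      intro y hy
      rcases Finset.mem_insert.mp hy with rfl | hy
      · exact ⟨0, by simp⟩
      · rw [Finset.mem_singleton.mp hy]; exact hx)
    (by
      intro g hg
      by_cases hg1 : g = 1
      · subst hg1
        exact ⟨1, ⟨Finset.mem_insert_self _ _, IsConj.refl 1⟩, fun y hy => isConj_one_right.mp hy.2⟩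
      · refine ⟨x, ⟨Finset.mem_insert_of_mem (Finset.mem_singleton_self _), huniq g hg hg1⟩,
          fun y hy => ?_⟩
        rcases Finset.mem_insert.mp hy.1 with rfl | h
        · exact absurd (isConj_one_left.mp hy.2) hg1
        · exact Finset.mem_singleton.mp h)
  rw [hk, Finset.sum_pair (fun e => hx1 e.symm), blockRank_principal_centralizer_one hM] at hsum2
  have hlx : blockRank p (principalBlock M (Subgroup.centralizer ({x} : Set G))) = 1 := by
    have := hpos x
    omega
  obtain ⟨K, hKn, hK, ⟨m, hm⟩, -⟩ := exists_complement_index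
    ((blockRank_principal_eq_one_iff hM).mp hlx)
  -- the index is the order of the Sylow subgroup
  have hDC : (D : Subgroup G) ≤ Subgroup.centralizer ({x} : Set G) := fun d hd =>
    Subgroup.mem_centralizer_singleton_iff.mpr
      (congrArg Subtype.val (Subgroup.mem_center_iff.mp xz.2 ⟨d, hd⟩))
  have hidx : K.index = Nat.card (D : Subgroup G) := by
    refine Eq.trans ?_ (Nat.card_congr (Subgroup.subgroupOfEquivOfLe hDC).toEquiv)
    have h := card_sylow_eq_index K hK hm (D.subtype hDC)
    rw [← h, D.coe_subtype hDC]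
  -- the column
  have hsq := sum_principal_sq_section hM hx K hK hm
  have hsing : p ∣ orderOf x := by
    obtain ⟨j, hj⟩ := hx
    rw [hj]
    refine dvd_pow_self p fun e => hx1 ?_
    rw [e, pow_zero] at hj
    exact orderOf_eq_one_iff.mp hj
  have horth := weak_orthogonality hM (isPBlock_principalBlock (G := G) M) (x := 1) (y := x)
    (by simp [hp.out.ne_one]) hsing
  rw [finsum_mem_irr] at horth
  set e1 : IrrCharacter G := ⟨fun _ => 1, isIrrCharacter_one⟩ with he1
  obtain ⟨u, v, hu1, hv1, huv, hBeq⟩ := principal_eq_three hM hk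
  obtain ⟨a, ha⟩ := value_int_of_unique_class hx hx1 huniq (irr_isCharacter u.2)
  obtain ⟨b, hb⟩ := value_int_of_unique_class hx hx1 huniq (irr_isCharacter v.2)
  obtain ⟨du, hdu⟩ := charOne_eq_natCast (irr_isCharacter u.2)
  obtain ⟨dv, hdv⟩ := charOne_eq_natCast (irr_isCharacter v.2)
  have h1v : ∀ g : G, (e1 : G → ℂ) g = 1 := fun g => rfl
  have hmem : e1 ∉ ({u, v} : Finset (IrrCharacter G)) := by
    rw [Finset.mem_insert, Finset.mem_singleton, not_or]
    exact ⟨Ne.symm hu1, Ne.symm hv1⟩
  rw [hBeq, ← he1, Finset.sum_insert hmem, Finset.sum_pair huv] at horth hsq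
  simp only [h1v, ha, hb, hdu, hdv] at horth hsq
  rw [hidx, hn] at hsq
  simp only [map_one, map_intCast, one_mul] at horth hsq
  have hA : 1 + a ^ 2 + b ^ 2 = ((p ^ n : ℕ) : ℤ) := by
    have h' : ((1 + a ^ 2 + b ^ 2 : ℤ) : ℂ) = (((p ^ n : ℕ) : ℤ) : ℂ) := by
      push_cast at hsq ⊢
      linear_combination hsq
    exact_mod_cast h'
  have hB : 1 + (du : ℤ) * a + dv * b = 0 := by
    have h' : ((1 + (du : ℤ) * a + dv * b : ℤ) : ℂ) = ((0 : ℤ) : ℂ) := by
      push_cast
      linear_combination horth
    exact_mod_cast h'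
  have hn0 : n ≠ 0 := by
    rintro rfl
    exact absurd hn (by simpa using (Finite.one_lt_card (α := (D : Subgroup G))).ne')
  by_cases hp2 : p = 2
  · subst hp2
    rcases Nat.lt_or_ge n 2 with hlt | hge
    · refine absurd ?_ hl
      rw [blockRank_principal_eq_one_iff hM]
      refine Fusion.DihedralFours.hnpc_two_cyclic D (isCyclic_of_prime_card (p := 2) ?_)
      rw [hn, show n = 1 by omega, pow_one]
    · exfalso
      obtain ⟨j, rfl⟩ := Nat.exists_eq_add_of_le hge
      have h4 := congrArg (Int.cast : ℤ → ZMod 4) hA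
      push_cast at h4
      rw [pow_add, show ((2 : ZMod 4) ^ 2) = 0 by decide, zero_mul] at h4
      have key : ∀ s t : ZMod 4, 1 + s ^ 2 + t ^ 2 ≠ 0 := by decide
      exact key _ _ h4
  ·
    -- both nontrivial values are nonzero
    have hodd : ¬ (2 : ℤ) ∣ ((p ^ n : ℕ) : ℤ) := by
      intro h
      have h2 : 2 ∣ p ^ n := by exact_mod_cast h
      exact hp2 ((Nat.prime_dvd_prime_iff_eq Nat.prime_two hp.out).mp
        (Nat.prime_two.dvd_of_dvd_pow h2)).symm
    have hunit : ∀ z d : ℤ, 1 + d * z = 0 → z ^ 2 = 1 := by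
      intro z d h
      have : IsUnit z := IsUnit.of_mul_eq_one (-d) (by linear_combination -h)
      rcases Int.isUnit_iff.mp this with rfl | rfl <;> norm_num
    have ha0 : a ≠ 0 := by
      rintro rfl
      have := hunit b dv (by linear_combination hB)
      exact hodd ⟨1, by rw [← hA, this]; norm_num⟩
    have hb0 : b ≠ 0 := by
      rintro rfl
      have := hunit a du (by linear_combination hB)
      exact hodd ⟨1, by rw [← hA, this]; norm_num⟩
    -- the indicators
    have hind := sum_indicator_section hM hp2 hx K hK hm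
    rw [hBeq, ← he1, Finset.sum_insert hmem, Finset.sum_pair huv, h1v, ha, hb,
      show indicator2 (e1 : G → ℂ) = 1 by simp [indicator2, h1v, ← Nat.card_eq_fintype_card]] at hind
    have hab : a ^ 2 = b ^ 2 := by
      rcases (indicator_trichotomy u.2).1 with hu | hu | hu <;>
        rcases (indicator_trichotomy v.2).1 with hv | hv | hv <;> rw [hu, hv] at hind
      case inl.inl =>
        have hnr := (indicator_trichotomy u.2).2.mp hu
        obtain ⟨g, hg⟩ := hnr
        have hmemc : irrConj u ∈ ({e1, u, v} : Finset (IrrCharacter G)) := by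
          rw [← hBeq]
          refine Finset.mem_filter.mpr ⟨Finset.mem_univ _, irrConj_mem_principal hM ?_⟩
          have : u ∈ ({e1, u, v} : Finset (IrrCharacter G)) := by simp
          rw [← hBeq] at this
          exact (Finset.mem_filter.mp this).2
        simp only [Finset.mem_insert, Finset.mem_singleton] at hmemc
        rcases hmemc with e | e | e
        · refine absurd ?_ hu1
          refine Subtype.ext (funext fun y => ?_)
          have := congrArg (fun c : IrrCharacter G => conj ((c : G → ℂ) y)) e
          simpa [irrConj, he1] using this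
        · refine absurd ?_ hg
          exact Complex.conj_eq_iff_im.mp (congrFun (congrArg Subtype.val e) g)
        · have h' : conj ((u : G → ℂ) x) = (v : G → ℂ) x := congrFun (congrArg Subtype.val e) x
          rw [ha, hb, map_intCast] at h'
          rw [Int.cast_inj.mp h']
      all_goals (
        have hz : (((a ^ 2 : ℤ)) : ℂ) = ((b ^ 2 : ℤ) : ℂ) := by
          push_cast
          first
          | linear_combination ((a : ℂ) - b) * hind
          | linear_combination ((a : ℂ) + b) * hind
          | linear_combination -((a : ℂ) - b) * hind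
          | linear_combination -((a : ℂ) + b) * hind
          | (exfalso
             first
             | exact ha0 (by exact_mod_cast (by linear_combination hind : (a : ℂ) = 0))
             | exact ha0 (by exact_mod_cast (by linear_combination -hind : (a : ℂ) = 0))
             | exact hb0 (by exact_mod_cast (by linear_combination hind : (b : ℂ) = 0))
             | exact hb0 (by exact_mod_cast (by linear_combination -hind : (b : ℂ) = 0)))
        exact_mod_cast hz)
    have hcase : b = a ∨ b = -a := sq_eq_sq_iff_eq_or_eq_neg.mp hab.symm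
    have ha1 : a ^ 2 = 1 := by
      rcases hcase with rfl | rfl
      · exact hunit _ (du + dv) (by linear_combination hB)
      · exact hunit a ((du : ℤ) - dv) (by linear_combination hB)
    have h3 : p ^ n = 3 := by
      rw [← hab, ha1] at hA
      exact_mod_cast hA.symm
    rw [hn, h3]

end Cfsg.Agent.Char
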