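import Cfsg.Agent.Lib.Char.PrincipalFixedExtension
import Cfsg.Agent.Lib.Char.BlockInter
import Cfsg.Agent.Lib.Char.RationalExtension
import Cfsg.Agent.Lib.Char.ThreeCharPrincipal
import Mathlib

/-!
# Galois-fixed principal characters of odd degree detect normal 2-complements
-/

set_option autoImplicit false
set_option linter.unusedSectionVars false
set_option linter.style.haveILetI false

namespace Cfsg.Agent.Char.NPCTwo

open Cfsg Cfsg.Agent Cfsg.Agent.Char
open scoped ComplexConjugate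

universe u

variable {G : Type u} [Group G] [Fintype G] {M : Ideal AlgInt}

theorem exists_three_pow (n : ℕ) : ∃ c : ℕ, 3 ^ 2 ^ n = 2 ^ n * c + 1 := by
  suffices ∀ n : ℕ, ∃ c : ℕ, 3 ^ 2 ^ n = 2 ^ (n + 1) * c + 1 by
    obtain ⟨c, hc⟩ := this n
    exact ⟨2 * c, by rw [hc, pow_succ]; ring⟩
  intro n
  induction n with
  | zero => exact ⟨1, by norm_num⟩
  | succ n ih =>
    obtain ⟨c, hc⟩ := ih
    exact ⟨2 ^ n * c ^ 2 + c, by
      rw [pow_succ 2 n, pow_mul, hc]
      ring⟩

/-- The Galois twist has order a power of two. -/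
theorem pow_pow_two_eq {k : ℕ} (hk₁ : ∀ g : G, (∃ j : ℕ, orderOf g = 2 ^ j) → g ^ k = g ^ 3)
    (hk₂ : ∀ g : G, Odd (orderOf g) → g ^ k = g) (g : G) : g ^ k ^ 2 ^ Nat.card G = g := by
  have h1 : ∀ (x : G), (∃ j : ℕ, orderOf x = 2 ^ j) → ∀ i : ℕ, x ^ k ^ i = x ^ 3 ^ i := by
    intro x hx i
    induction i with
    | zero => rw [pow_zero, pow_zero]
    | succ i ih =>
      rw [pow_succ, pow_mul, ih, ← pow_mul, mul_comm, pow_mul, hk₁ x hx, ← pow_mul, pow_succ']
  have h2 : ∀ (x : G), Odd (orderOf x) → ∀ i : ℕ, x ^ k ^ i = x := by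
    intro x hx i
    induction i with
    | zero => rw [pow_zero, pow_one]
    | succ i ih => rw [pow_succ, pow_mul, ih, hk₂ x hx]
  set N := k ^ 2 ^ Nat.card G with hN
  obtain ⟨e, m, hm, hem⟩ := Nat.exists_eq_pow_mul_and_not_dvd (orderOf_pos g).ne' 2 (by norm_num)
  have hx : (g ^ m) ^ N = g ^ m := by
    have hd : orderOf (g ^ m) ∣ 2 ^ e := orderOf_dvd_of_pow_eq_one (by
      rw [← pow_mul, mul_comm, ← hem, pow_orderOf_eq_one])
    obtain ⟨j, -, hj⟩ := (Nat.dvd_prime_pow Nat.prime_two).1 hd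
    rw [h1 _ ⟨j, hj⟩]
    obtain ⟨c, hc⟩ := exists_three_pow (Nat.card G)
    have hje : j ≤ Nat.card G :=
      le_of_lt (lt_of_lt_of_le j.lt_two_pow_self
        (hj ▸ Nat.le_of_dvd Nat.card_pos (orderOf_dvd_natCard _)))
    have hz : (g ^ m) ^ (2 ^ Nat.card G * c) = 1 := orderOf_dvd_iff_pow_eq_one.1
      (hj.symm ▸ Dvd.dvd.mul_right (pow_dvd_pow 2 hje) c)
    rw [hc, pow_succ, hz, one_mul]
  have hy : (g ^ 2 ^ e) ^ N = g ^ 2 ^ e := by
    refine h2 _ ?_ _
    refine Odd.of_dvd_nat (Nat.odd_iff.2 (Nat.two_dvd_ne_zero.1 hm)) ?_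
    exact orderOf_dvd_of_pow_eq_one (by rw [← pow_mul, ← hem, pow_orderOf_eq_one])
  set z := g ^ N * g⁻¹ with hz
  have hcomm : Commute (g ^ N) g⁻¹ := ((Commute.refl g).pow_left N).inv_right
  have hzp : ∀ a : ℕ, (g ^ a) ^ N = g ^ a → z ^ a = 1 := fun a ha => by
    rw [hz, hcomm.mul_pow, ← pow_mul, mul_comm, pow_mul, ha, inv_pow, mul_inv_cancel]
  have hcop : Nat.Coprime m (2 ^ e) :=
    ((Nat.prime_two.coprime_iff_not_dvd.2 hm).symm.pow_right e)
  have hz1 : orderOf z = 1 := Nat.eq_one_of_dvd_coprimes hcop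
    (orderOf_dvd_of_pow_eq_one (hzp m hx)) (orderOf_dvd_of_pow_eq_one (hzp _ hy))
  exact mul_inv_eq_one.1 (orderOf_eq_one_iff.1 hz1)

/-- Fixed points of an odd set under a permutation of two-power order. -/
theorem odd_card_fixed {X : Type*} [Fintype X] (hX : Odd (Nat.card X)) (A : Subgroup (Equiv.Perm X))
    (hA : IsPGroup 2 A) : Odd (Nat.card {x : X // ∀ a ∈ A, a x = x}) := by
  have h := hA.card_modEq_card_fixedPoints X
  have e : Nat.card (MulAction.fixedPoints A X) = Nat.card {x : X // ∀ a ∈ A, a x = x} :=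
    Nat.card_congr (Equiv.subtypeEquivRight fun x =>
      ⟨fun hx a ha => hx ⟨a, ha⟩, fun hx a => hx a a.2⟩)
  rw [e] at h
  unfold Nat.ModEq at h
  rw [Nat.odd_iff] at hX ⊢
  omega

/-- Linear characters of the 2-residual have odd order. -/
theorem eq_one_of_sq (l : pResidual 2 G →* ℂˣ) (h : ∀ x, l x * l x = 1) : l = 1 := by
  have key : ∀ (g : G) (hg : g ∈ pResidual 2 G), l ⟨g, hg⟩ = 1 := by
    intro g hg
    induction hg using Subgroup.closure_induction with
    | mem g hg' =>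
      have h1 : orderOf (l ⟨g, Subgroup.subset_closure hg'⟩) ∣ 2 :=
        orderOf_dvd_of_pow_eq_one (by rw [pow_two]; exact h _)
      have h2 : orderOf (l ⟨g, Subgroup.subset_closure hg'⟩) ∣ orderOf g :=
        (orderOf_map_dvd l _).trans (dvd_of_eq (Subgroup.orderOf_coe
          (⟨g, Subgroup.subset_closure hg'⟩ : pResidual 2 G)).symm)
      exact orderOf_eq_one_iff.1 (Nat.eq_one_of_dvd_coprimes
        (show Nat.Coprime (orderOf g) 2 from hg') h2 h1)
    | one => exact map_one l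
    | mul a b ha hb ha' hb' =>
      rw [show (⟨a * b, mul_mem ha hb⟩ : pResidual 2 G) = ⟨a, ha⟩ * ⟨b, hb⟩ from rfl, map_mul, ha', hb',
        one_mul]
    | inv a ha ha' =>
      rw [show (⟨a⁻¹, inv_mem ha⟩ : pResidual 2 G) = (⟨a, ha⟩ : pResidual 2 G)⁻¹ from rfl, map_inv, ha',
        inv_one]
  exact MonoidHom.ext fun x => key x x.2

theorem odd_detOrder [Fintype (pResidual 2 G)] (θ : IrrCharacter (pResidual 2 G))
    (hinv : ∀ (g : G) (n : pResidual 2 G),
      (θ : pResidual 2 G → ℂ) (MulAut.conjNormal g n) = (θ : pResidual 2 G → ℂ) n) :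
    ¬ 2 ∣ detOrder (θ : pResidual 2 G → ℂ) := by
  haveI : Fact (Nat.Prime 2) := ⟨Nat.prime_two⟩
  exact detOrder_not_dvd θ hinv

theorem deg_cast {H : Type u} [Group H] [Finite H] (χ : IrrCharacter H) :
    (χ : H → ℂ) 1 = (charDegree (χ : H → ℂ) : ℂ) := char_one_eq_deg (irr_isCharacter χ.2)

theorem charDegree_congr {H : Type u} [Group H] {χ ψ : H → ℂ} (h : χ 1 = ψ 1) :
    charDegree χ = charDegree ψ := by
  rw [charDegree, charDegree, h]

open scoped Classical in
/-- A non-linear odd degree principal character of the 2-residual fixed by `G` and by the twist. -/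
theorem exists_fixed_nonlinear [Fintype (pResidual 2 G)] (hM : IsPModular 2 M) {k : ℕ}
    (hk₁ : ∀ g : G, (∃ j : ℕ, orderOf g = 2 ^ j) → g ^ k = g ^ 3)
    (hk₂ : ∀ g : G, Odd (orderOf g) → g ^ k = g) (hk : k.Coprime (Nat.card G))
    (h2 : 2 ∣ Nat.card (pResidual 2 G)) :
    ∃ θ : IrrCharacter (pResidual 2 G), θ ∈ principalBlock M (pResidual 2 G) ∧
      Odd (charDegree (θ : pResidual 2 G → ℂ)) ∧ charDegree (θ : pResidual 2 G → ℂ) ≠ 1 ∧
      (∀ (g : G) (n : pResidual 2 G),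
        (θ : pResidual 2 G → ℂ) (MulAut.conjNormal g n) = (θ : pResidual 2 G → ℂ) n) ∧
      ∀ n : pResidual 2 G, (θ : pResidual 2 G → ℂ) (n ^ k) = (θ : pResidual 2 G → ℂ) n := by
  haveI : Fact (Nat.Prime 2) := ⟨Nat.prime_two⟩
  let K := pResidual 2 G
  have hkK : k.Coprime (Nat.card K) := hk.coprime_dvd_right (Subgroup.card_subgroup_dvd_card K)
  let T := (Finset.univ.filter fun θ : IrrCharacter K =>
    θ ∈ principalBlock M K ∧ Odd (charDegree (θ : K → ℂ)))
  have hT : Even T.card := by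
    have h := dvd_sum_sq_principal hM h2
    rw [← even_iff_two_dvd, Finset.even_sum_iff_even_card_odd] at h
    rw [Finset.filter_filter] at h
    convert h using 4 with θ
    rw [Nat.odd_pow_iff two_ne_zero]
  let L := T.filter fun θ : IrrCharacter K => charDegree (θ : K → ℂ) = 1
  set one : IrrCharacter K := ⟨fun _ => 1, isIrrCharacter_one⟩ with hone
  have h1L : one ∈ L := by
    have hd : charDegree (one : K → ℂ) = 1 := by
      rw [← Nat.cast_inj (R := ℂ), ← deg_cast, Nat.cast_one]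
    simp only [L, T, Finset.mem_filter, Finset.mem_univ, true_and, hd, odd_one, and_true]
    exact one_mem_principal hM
  have hfixL : ∀ θ ∈ L, irrConj θ = θ → θ = one := by
    intro θ hθ hc
    have hd : (θ : K → ℂ) 1 = 1 := by
      rw [deg_cast, (Finset.mem_filter.1 hθ).2, Nat.cast_one]
    obtain ⟨l, hl⟩ := exists_hom_of_degree_one (irr_isCharacter θ.2) hd
    have hll : ∀ x, l x * l x = 1 := fun x => Units.ext (by
      have h3 : conj ((θ : K → ℂ) x) = (θ : K → ℂ) x := congrFun (congrArg Subtype.val hc) x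
      rw [← char_inv (irr_isCharacter θ.2), hl] at h3
      simp only [map_inv, Units.val_inv_eq_inv_val] at h3
      rw [Units.val_mul, Units.val_one]
      nth_rewrite 1 [← h3]
      exact inv_mul_cancel₀ (Units.ne_zero _))
    have := eq_one_of_sq l hll
    refine Subtype.ext ?_
    rw [hl, this]
    rfl
  have hL : Odd L.card := by
    have h : (∑ _θ ∈ L.erase one, (1 : ZMod 2)) = 0 := by
      refine Finset.sum_involution (fun θ _ => irrConj θ) (fun θ _ => CharTwo.add_self_eq_zero 1)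
        (fun θ hθ _ hc => (Finset.mem_erase.1 hθ).1 (hfixL θ (Finset.mem_erase.1 hθ).2 hc))
        (fun θ hθ => ?_) (fun θ _ => irrConj_irrConj θ)
      obtain ⟨hne, hθ⟩ := Finset.mem_erase.1 hθ
      simp only [L, T, Finset.mem_filter, Finset.mem_univ, true_and] at hθ
      refine Finset.mem_erase.2 ⟨fun e => hne ?_, ?_⟩
      · rw [← irrConj_irrConj θ, e]
        exact Subtype.ext (funext fun x => map_one _)
      have hd : charDegree (irrConj θ : K → ℂ) = charDegree (θ : K → ℂ) :=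
        charDegree_congr (by rw [irrConj_apply, deg_cast, map_natCast])
      simp only [L, T, Finset.mem_filter, Finset.mem_univ, true_and, hd]
      exact ⟨⟨irrConj_mem_principal hM hθ.1.1, hθ.1.2⟩, hθ.2⟩
    rw [Finset.sum_const, nsmul_eq_mul, mul_one, ZMod.natCast_eq_zero_iff_even] at h
    have hc := Finset.card_erase_add_one h1L
    rw [← hc]
    exact h.add_one
  let X := {θ : IrrCharacter K // θ ∈ principalBlock M K ∧ Odd (charDegree (θ : K → ℂ)) ∧
    charDegree (θ : K → ℂ) ≠ 1}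
  have hX : Odd (Nat.card X) := by
    have hcard : Nat.card X =
        (T.filter fun θ : IrrCharacter K => ¬ charDegree (θ : K → ℂ) = 1).card := by
      rw [Nat.card_eq_fintype_card, Fintype.card_subtype, Finset.filter_filter]
      exact congrArg Finset.card (Finset.filter_congr fun θ _ => by tauto)
    have hs := Finset.card_filter_add_card_filter_not (s := T)
      (fun θ : IrrCharacter K => charDegree (θ : K → ℂ) = 1)
    rw [Nat.even_iff] at hT
    rw [Nat.odd_iff] at hL ⊢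
    simp only [L] at hL
    omega
  -- powers
  have hkN : ∀ g : G, g ^ k ^ 2 ^ Nat.card G = g := pow_pow_two_eq hk₁ hk₂
  let f : ℕ → X → X := fun i θ => ⟨⟨fun x => (θ.1 : K → ℂ) (x ^ k ^ i),
    isIrrCharacter_pow θ.1.2 (hkK.pow_left i)⟩, by
      have hd : charDegree (fun x : K => (θ.1 : K → ℂ) (x ^ k ^ i)) =
          charDegree (θ.1 : K → ℂ) := charDegree_congr (by rw [one_pow])
      refine ⟨principalBlock_pow hM (hkK.pow_left i) (fun _ => rfl) θ.2.1, ?_⟩
      show Odd (charDegree fun x : K => (θ.1 : K → ℂ) (x ^ k ^ i)) ∧ _ ≠ 1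
      rw [hd]
      exact θ.2.2⟩
  have hcomp : ∀ i j θ, f i (f j θ) = f (i + j) θ := fun i j θ => Subtype.ext (Subtype.ext
    (funext fun x => by
      show (θ.1 : K → ℂ) ((x ^ k ^ i) ^ k ^ j) = (θ.1 : K → ℂ) (x ^ k ^ (i + j))
      rw [← pow_mul, ← pow_add]))
  have hf0 : ∀ θ, f 0 θ = θ := fun θ => Subtype.ext (Subtype.ext (funext fun x => by
    show (θ.1 : K → ℂ) (x ^ k ^ 0) = _
    rw [pow_zero, pow_one]))
  have hfN : ∀ θ, f (2 ^ Nat.card G) θ = θ := fun θ => Subtype.ext (Subtype.ext (funext fun x =>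
    congrArg (θ.1 : K → ℂ) (Subtype.ext (by rw [Subgroup.coe_pow]; exact hkN x))))
  obtain ⟨N', hN'⟩ : ∃ N', 2 ^ Nat.card G = N' + 1 :=
    ⟨_, (Nat.succ_pred_eq_of_pos (pow_pos two_pos _)).symm⟩
  let σ : Equiv.Perm X :=
    { toFun := f 1
      invFun := f N'
      left_inv := fun θ => by rw [hcomp, ← hN', hfN]
      right_inv := fun θ => by rw [hcomp, Nat.add_comm, ← hN', hfN] }
  have hσi : ∀ (i : ℕ) θ, (σ ^ i) θ = f i θ := by
    intro i
    induction i with
    | zero => intro θ; rw [pow_zero, hf0]; rfl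
    | succ i ih => intro θ; rw [pow_succ', Equiv.Perm.mul_apply, ih]; exact (hcomp 1 i θ).trans (by rw [add_comm])
  have hσN : σ ^ 2 ^ Nat.card G = 1 := Equiv.ext fun θ => by rw [hσi, hfN]; rfl
  have hA : IsPGroup 2 (Subgroup.zpowers σ) := by
    obtain ⟨j, -, hj⟩ := (Nat.dvd_prime_pow Nat.prime_two).1 (orderOf_dvd_of_pow_eq_one hσN)
    exact IsPGroup.of_card (n := j) (by rw [Nat.card_zpowers, hj])
  have hY := odd_card_fixed hX _ hA
  let Y := {θ : X // ∀ a ∈ Subgroup.zpowers σ, a θ = θ}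
  have hYk : ∀ (θ : X), (∀ a ∈ Subgroup.zpowers σ, a θ = θ) ↔
      ∀ x : K, (θ.1 : K → ℂ) (x ^ k) = (θ.1 : K → ℂ) x := by
    intro θ
    constructor
    · intro h x
      have h' := congrFun (congrArg (fun t : X => (t.1 : K → ℂ)) (h σ (Subgroup.mem_zpowers σ))) x
      change (θ.1 : K → ℂ) (x ^ k ^ 1) = _ at h'
      rwa [pow_one] at h'
    · intro h a ha
      have hs : σ θ = θ := Subtype.ext (Subtype.ext (funext fun x => by
        show (θ.1 : K → ℂ) (x ^ k ^ 1) = _
        rw [pow_one, h]))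
      exact MulAction.mem_stabilizer_iff.1 ((Subgroup.zpowers_le (H := MulAction.stabilizer (Equiv.Perm X) θ)).2
        (MulAction.mem_stabilizer_iff.2 hs) ha)
  let c : G → Y → Y := fun g θ => ⟨⟨irrComp (MulAut.conjNormal g⁻¹) θ.1.1, by
      have hd : charDegree (irrComp (MulAut.conjNormal g⁻¹) θ.1.1 : K → ℂ) =
          charDegree (θ.1.1 : K → ℂ) := charDegree_congr (by rw [irrComp_apply, map_one])
      rw [hd]
      exact ⟨RatExt.principal_comp_equiv (MulAut.conjNormal g⁻¹) θ.1.2.1, θ.1.2.2⟩⟩, by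
    refine (hYk _).2 fun x => ?_
    show (θ.1.1 : K → ℂ) (MulAut.conjNormal g⁻¹ (x ^ k)) = (θ.1.1 : K → ℂ) (MulAut.conjNormal g⁻¹ x)
    rw [map_pow]
    exact (hYk _).1 θ.2 _⟩
  letI : MulAction G Y :=
    { smul := c
      one_smul := fun θ => Subtype.ext (Subtype.ext (Subtype.ext (funext fun x => by
        show (θ.1.1 : K → ℂ) (MulAut.conjNormal (1 : G)⁻¹ x) = _
        rw [inv_one, map_one, MulAut.one_apply])))
      mul_smul := fun a b θ => Subtype.ext (Subtype.ext (Subtype.ext (funext fun x => by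
        show (θ.1.1 : K → ℂ) (MulAut.conjNormal (a * b)⁻¹ x) =
          (θ.1.1 : K → ℂ) (MulAut.conjNormal b⁻¹ (MulAut.conjNormal a⁻¹ x))
        rw [mul_inv_rev, map_mul, MulAut.mul_apply]))) }
  let Φ := MulAction.toPermHom G Y
  have hKker : ∀ n ∈ K, Φ n = 1 := fun n hn => Equiv.ext fun θ => Subtype.ext (Subtype.ext
    (Subtype.ext (funext fun x => by
      show (θ.1.1 : K → ℂ) (MulAut.conjNormal n⁻¹ x) = (θ.1.1 : K → ℂ) x
      rw [show MulAut.conjNormal n⁻¹ x = (⟨n, hn⟩ : K)⁻¹ * x * ((⟨n, hn⟩ : K)⁻¹)⁻¹ from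
        Subtype.ext (by simp [MulAut.conjNormal_apply])]
      exact isClassFunction_character (irr_isCharacter θ.1.1.2) _ _)))
  have hR : IsPGroup 2 Φ.range := by
    rintro ⟨a, g, rfl⟩
    obtain ⟨j, hj⟩ := Fusion.isPGroup_quotient_pResidual (G := G) (p := 2) (QuotientGroup.mk g)
    rw [← QuotientGroup.mk_pow, QuotientGroup.eq_one_iff] at hj
    exact ⟨j, Subtype.ext (by rw [Subgroup.coe_pow]; exact (map_pow Φ g _).symm.trans (hKker _ hj))⟩
  have hZ := odd_card_fixed hY _ hR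
  obtain ⟨⟨θ, hθ⟩⟩ := (Nat.card_pos_iff.1 hZ.pos).1
  refine ⟨θ.1.1, θ.1.2.1, θ.1.2.2.1, θ.1.2.2.2, fun g n => ?_, (hYk _).1 θ.2⟩
  have h := congrFun (congrArg (fun t : Y => (t.1.1 : K → ℂ)) (hθ _ ⟨g⁻¹, rfl⟩)) n
  change (θ.1.1 : K → ℂ) (MulAut.conjNormal (g⁻¹)⁻¹ n) = _ at h
  rwa [inv_inv] at h

/-- Normal 2-complements and Galois-fixed odd degree characters of the principal block. -/
theorem hnpc_two_iff (hM : IsPModular 2 M) (k : ℕ)
    (hk₁ : ∀ g : G, (∃ j : ℕ, orderOf g = 2 ^ j) → g ^ k = g ^ 3)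
    (hk₂ : ∀ g : G, Odd (orderOf g) → g ^ k = g) :
    HasNormalPComplement 2 G ↔ ∀ χ ∈ principalBlock M G, Odd (charDegree (χ : G → ℂ)) →
      (∀ g : G, (χ : G → ℂ) (g ^ k) = (χ : G → ℂ) g) → charDegree (χ : G → ℂ) = 1 := by
  classical
  haveI : Fact (Nat.Prime 2) := ⟨Nat.prime_two⟩
  haveI : Fintype (pResidual 2 G) := Fintype.ofFinite _
  have hk : k.Coprime (Nat.card G) := PFixExt.coprime_card (p := 2)
    (fun g hg => hk₁ g hg) (fun g hg => hk₂ g (Nat.coprime_two_right.1 hg))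
  obtain ⟨j, hj⟩ : ∃ j, (pResidual 2 G).index = 2 ^ j :=
    IsPGroup.iff_card.1 (Fusion.isPGroup_quotient_pResidual (G := G) (p := 2))
  rw [Fusion.hnpc_iff]
  constructor
  · intro hnpc χ hχ hodd _
    obtain ⟨θ, hθ, hd⟩ := PFixExt.exists_restrict hj χ (fun h => (Nat.not_even_iff_odd.2 hodd)
      (even_iff_two_dvd.2 h))
    have hcon : ∀ n : pResidual 2 G, (θ : pResidual 2 G → ℂ) n = (θ : pResidual 2 G → ℂ) 1 := by
      intro n
      rw [← hθ, ← hθ, OneMemClass.coe_one]
      exact principal_trivial_on hM (pResidual 2 G)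
        (fun h2 => absurd (Nat.eq_one_of_dvd_coprimes hnpc h2 dvd_rfl) (by norm_num)) hχ n n.2
    have h := irr_self θ.2
    rw [classInner] at h
    simp only [fun n => (hcon n).trans (deg_cast θ), map_natCast, Finset.sum_const, Finset.card_univ,
      nsmul_eq_mul, ← Nat.card_eq_fintype_card] at h
    rw [← mul_assoc, inv_mul_cancel₀ (Nat.cast_ne_zero.2 Nat.card_pos.ne'), one_mul] at h
    rw [← hd]
    exact Nat.eq_one_of_mul_eq_one_left (by exact_mod_cast h)
  · intro h
    by_contra hc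
    rw [Nat.coprime_two_right, Nat.not_odd_iff_even, even_iff_two_dvd] at hc
    obtain ⟨θ, hθB, hθo, hθ1, hinv, hθk⟩ := exists_fixed_nonlinear hM hk₁ hk₂ hk hc
    have ho := odd_detOrder θ hinv
    have hcop : (pResidual 2 G).index.Coprime
        (detOrder (θ : pResidual 2 G → ℂ) * charDegree (θ : pResidual 2 G → ℂ)) := by
      rw [hj]
      exact ((Nat.prime_two.coprime_iff_not_dvd.2 ho).mul_right
        (Nat.coprime_two_left.2 hθo)).pow_left j
    obtain ⟨χ, ⟨hχ, hχN, hχo⟩, huniq⟩ := Cfsg.Agent.S0867.result (pResidual 2 G)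
      (θ : pResidual 2 G → ℂ) θ.2
      (fun g n => (congrArg _ (Subtype.ext (MulAut.conjNormal_apply g n).symm)).trans (hinv g n))
      (charDegree (θ : pResidual 2 G → ℂ)) (deg_cast θ) hcop
    have hfix : ∀ g : G, χ (g ^ k) = χ g := fun g => by
      refine congrFun (huniq (fun g => χ (g ^ k)) (isIrrCharacter_pow hχ hk) (fun n => ?_) ?_) g
      · rw [← Subgroup.coe_pow, hχN]
        exact hθk n
      · refine ((hj ▸ (Nat.prime_two.coprime_iff_not_dvd.2 ho).pow_left j :
          (pResidual 2 G).index.Coprime (detOrder (θ : pResidual 2 G → ℂ)))).coprime_dvd_right ?_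
        rw [← hχo, detOrder, detOrder, detChar_pow (irr_isCharacter hχ) hk]
        show orderOf (detChar χ ^ k) ∣ orderOf (detChar χ)
        exact orderOf_dvd_of_pow_eq_one (by
          rw [← pow_mul, mul_comm, pow_mul, pow_orderOf_eq_one, one_pow])
    set oneG : IrrCharacter G := ⟨fun _ => 1, isIrrCharacter_one⟩
    set oneN : IrrCharacter (pResidual 2 G) := ⟨fun _ => 1, isIrrCharacter_one⟩
    have hB : (⟨χ, hχ⟩ : IrrCharacter G) ∈ principalBlock M G := by
      refine sameBlock_of_pIndex hM hj (χ := oneG) (χ' := ⟨χ, hχ⟩) (θ := oneN) (θ' := θ) hθB ?_ ?_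
      · rw [show (fun n : pResidual 2 G => (oneG : G → ℂ) n) = (oneN : pResidual 2 G → ℂ) from rfl,
          irr_self oneN.2]
        exact one_ne_zero
      · rw [show (fun n : pResidual 2 G => χ n) = (θ : pResidual 2 G → ℂ) from funext hχN, irr_self θ.2]
        exact one_ne_zero
    have hd : charDegree χ = charDegree (θ : pResidual 2 G → ℂ) := by
      have h1 := hχN 1
      rw [OneMemClass.coe_one] at h1
      simp only [charDegree, h1]
    refine hθ1 (hd.symm.trans (h ⟨χ, hχ⟩ hB ?_ hfix))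
    show Odd (charDegree χ)
    rw [hd]
    exact hθo

end Cfsg.Agent.Char.NPCTwo
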