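import Cfsg.Agent.Lib.Char.CoverBlocks
import Cfsg.Agent.Lib.Char.BlockFusion

/-!
# Nilpotent blocks and normal subgroups of `p`-power index
-/

set_option autoImplicit false
set_option linter.style.haveILetI false

namespace Cfsg.Agent.Char

open Cfsg Module
open scoped ComplexConjugate

universe u

variable {G : Type u} [Group G] [Fintype G] {M : Ideal AlgInt} {p : ℕ}
variable {N : Subgroup G} [hNn : N.Normal] {Q0 : Subgroup N}

/-- The part in `N` of the centralizer of `Q0`. -/
def centPart (Q0 : Subgroup N) :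
    Subgroup (Subgroup.centralizer ((Q0.map N.subtype : Subgroup G) : Set G)) :=
  N.subgroupOf (Subgroup.centralizer ((Q0.map N.subtype : Subgroup G) : Set G))

instance centPart_normal : (centPart Q0).Normal :=
  inferInstanceAs (N.subgroupOf _).Normal

/-- The centralizer of `Q0` in `N`, inside that in the whole group. -/
def centPartEquiv (Q0 : Subgroup N) : centPart Q0 ≃* Subgroup.centralizer (Q0 : Set N) where
  toFun v := ⟨⟨v.1.1, v.2⟩,
    (mem_centralizer_map_subtype _).mpr v.1.2⟩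
  invFun w := ⟨⟨((w : N) : G), (mem_centralizer_map_subtype _).mp w.2⟩, (w : N).2⟩
  left_inv _ := rfl
  right_inv _ := rfl
  map_mul' _ _ := rfl

/-- Conjugation by a normalizing element, on the part in `N` of the centralizer. -/
def centPartConj (Q0 : Subgroup N) {y : G}
    (hy : y ∈ Subgroup.normalizer ((Q0.map N.subtype : Subgroup G) : Set G)) :
    centPart Q0 ≃* centPart Q0 where
  toFun v := ⟨⟨y * v.1.1 * y⁻¹,
    conj_mem_centralizer hy v.1.2⟩, hNn.conj_mem _ v.2 y⟩
  invFun v := ⟨⟨y⁻¹ * v.1.1 * y,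
    by simpa using conj_mem_centralizer (inv_mem hy) v.1.2⟩,
    Subgroup.mem_subgroupOf.mpr (show y⁻¹ * v.1.1 * y ∈ N by simpa using hNn.conj_mem v.1.1 v.2 y⁻¹)⟩
  left_inv v := Subtype.ext (Subtype.ext (by simp [mul_assoc]))
  right_inv v := Subtype.ext (Subtype.ext (by simp [mul_assoc]))
  map_mul' v w := Subtype.ext (Subtype.ext
    (show y * (v.1.1 * w.1.1) * y⁻¹ = y * v.1.1 * y⁻¹ * (y * w.1.1 * y⁻¹) by group))

omit [Fintype G] in
theorem centPart_index {k : ℕ} [Fact p.Prime] (hk : N.index = p ^ k) :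
    ∃ j : ℕ, (centPart Q0).index = p ^ j := by
  obtain ⟨j, -, hj⟩ := (Nat.dvd_prime_pow (Fact.out : p.Prime)).mp
    (hk ▸ Subgroup.relIndex_dvd_index_of_normal N
      (Subgroup.centralizer ((Q0.map N.subtype : Subgroup G) : Set G)))
  exact ⟨j, hj⟩

theorem image_transport_eq (hM : M.IsPrime) {K : Type u} [Group K] [Fintype K] (κ : K ≃* K)
    {θ : IrrCharacter K} (hs : SameBlock M (θ : K → ℂ) (irrTransport κ θ : K → ℂ)) :
    irrTransport κ '' blockOf M (θ : K → ℂ) = blockOf M (θ : K → ℂ) :=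
  block_disjoint hM (isPBlock_transport κ (isPBlock_blockOf M θ)) (isPBlock_blockOf M θ)
    ⟨θ, self_mem_blockOf hM θ, rfl⟩ hs

section Pairs

variable {B : Set (IrrCharacter G)} {c : Set (IrrCharacter N)}
variable [Fintype N] [Fintype (Subgroup.centralizer ((Q0.map N.subtype : Subgroup G) : Set G))]
  [Fintype (centPart Q0)] [Fintype (Subgroup.centralizer (Q0 : Set N))]

/-- The truncation of the idempotent at the two centralizers. -/
theorem lam_trunc (hBc : ∀ g : G, blockCoeff B g = subgroupBlockCoeff N c g)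
    {χ : IrrCharacter (Subgroup.centralizer ((Q0.map N.subtype : Subgroup G) : Set G))}
    {θ : IrrCharacter (centPart Q0)}
    (h : classInner (fun n : centPart Q0 =>
      (χ : Subgroup.centralizer ((Q0.map N.subtype : Subgroup G) : Set G) → ℂ) n.1) (θ : centPart Q0 → ℂ) ≠ 0) :
    lam (χ : _ → ℂ) (tr (Q0.map N.subtype) (blockCoeff B)) =
      lam (irrTransport (centPartEquiv Q0).symm θ : Subgroup.centralizer (Q0 : Set N) → ℂ)
        (tr Q0 (blockCoeff c)) := by
  set φ : centPart Q0 → ℂ := fun v => blockCoeff B v.1.1 with hφ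
  have hinv : GInvariant (centPart Q0) φ := fun g v => by
    show blockCoeff B ((MulAut.conjNormal g v : centPart Q0).1 : G) = _
    rw [MulAut.conjNormal_apply]
    exact isClassFunction_blockCoeff B _ (g : G)
  have hext : extendByZero (centPart Q0) φ = tr (Q0.map N.subtype) (blockCoeff B) := by
    funext v
    by_cases hv : v ∈ centPart Q0
    · rw [extendByZero_mem _ φ hv]; rfl
    · rw [extendByZero_not_mem _ φ hv, tr_apply, hBc, subgroupBlockCoeff_eq,
        extendByZero_not_mem _ _ (show (v : G) ∉ N from hv)]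
  rw [← hext, lam_extend_of_constituent h hinv]
  simp only [lam, irrTransport_apply, map_one]
  congr 1
  refine Fintype.sum_equiv (centPartEquiv Q0).toEquiv _ _ fun v => ?_
  simp only [MulEquiv.toEquiv_eq_coe, EquivLike.coe_coe, MulEquiv.symm_apply_apply, tr_apply, hφ,
    hBc, subgroupBlockCoeff_eq]
  rw [extendByZero_mem _ _ (show v.1.1 ∈ N from v.2)]
  rfl

end Pairs

variable {B : Set (IrrCharacter G)} {c : Set (IrrCharacter N)}

/-- Conjugate constituents. -/
theorem constituent_conj {y : G}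
    (hy : y ∈ Subgroup.normalizer ((Q0.map N.subtype : Subgroup G) : Set G))
    [Fintype (centPart Q0)]
    {χ χ' : IrrCharacter (Subgroup.centralizer ((Q0.map N.subtype : Subgroup G) : Set G))}
    (hχ : ∀ v v' : Subgroup.centralizer ((Q0.map N.subtype : Subgroup G) : Set G),
      (v' : G) = y * (v : G) * y⁻¹ → (χ : _ → ℂ) v' = (χ' : _ → ℂ) v)
    {θ : IrrCharacter (centPart Q0)}
    (h : classInner (fun n : centPart Q0 =>
      (χ : Subgroup.centralizer ((Q0.map N.subtype : Subgroup G) : Set G) → ℂ) n.1) (θ : centPart Q0 → ℂ) ≠ 0) :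
    classInner (fun n : centPart Q0 =>
      (χ' : Subgroup.centralizer ((Q0.map N.subtype : Subgroup G) : Set G) → ℂ) n.1)
      (irrTransport (centPartConj Q0 hy) θ : centPart Q0 → ℂ) ≠ 0 := by
  convert h using 1
  simp only [classInner]
  congr 1
  refine Fintype.sum_equiv (centPartConj Q0 hy).toEquiv _ _ fun v => ?_
  simp only [MulEquiv.toEquiv_eq_coe, EquivLike.coe_coe, irrTransport_apply]
  rw [hχ v.1 (centPartConj Q0 hy v).1 rfl]

/-- A nilpotent block covers only nilpotent blocks in a normal subgroup of `p`-power index. -/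
theorem nilpotent_below (hM : IsPModular p M) {k : ℕ} (hk : N.index = p ^ k) (hc : IsPBlock M c)
    (hB : IsPBlock M B) (hBc : ∀ g : G, blockCoeff B g = subgroupBlockCoeff N c g)
    (hnil : IsNilpotentBlock p M B) : IsNilpotentBlock p M c := by
  classical
  refine ⟨hc, fun Q0 e0 hQe x hx hst hreg => ?_⟩
  haveI := Fact.mk hM.1
  haveI := Fintype.ofFinite N
  set C := Subgroup.centralizer ((Q0.map N.subtype : Subgroup G) : Set G)
  haveI := Fintype.ofFinite C
  haveI := Fintype.ofFinite (centPart Q0)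
  haveI := Fintype.ofFinite (Subgroup.centralizer (Q0 : Set N))
  have hMp := pmod_prime hM
  obtain ⟨ξ0, hξ0⟩ := block_nonempty hMp hQe.1.2
  set θ := irrTransport (centPartEquiv Q0) ξ0 with hθdef
  have hback : irrTransport (centPartEquiv Q0).symm θ = ξ0 := irrTransport_symm _ ξ0
  obtain ⟨χ, hχ⟩ := exists_constituent_over (centPart Q0) θ
  set f := blockOf M (χ : C → ℂ) with hf
  have hfB : IsPBlock M f := isPBlock_blockOf M χ
  have hp : IsPGroup p (Q0.map N.subtype) := hQe.1.1.map _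
  have hpair : IsBrauerPairOf p M B (Q0.map N.subtype) f := by
    refine ⟨⟨hp, hfB⟩, hB, brOne_of_mem hM hfB
      (isGoodFun_of_classFun _ (isIntClassFun_blockCoeff hM hB)) (self_mem_blockOf hMp χ) ?_⟩
    have h1 := hQe.2.2 ξ0 hξ0
    rw [brauerOmega_eq] at h1 ⊢
    rwa [lam_trunc hBc hχ, hback]
  have hy : (x : G) ∈ Subgroup.normalizer ((Q0.map N.subtype : Subgroup G) : Set G) :=
    Subgroup.le_normalizer_map N.subtype ⟨x, hx, rfl⟩
  have hfix : StabilizesBlock C f (x : G) := by
    let κ : C ≃* C := (conjC (Q0.map N.subtype) ⟨(x : G), hy⟩ : MulAut C)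
    have hcon : classInner (fun n : centPart Q0 => (irrTransport κ χ : C → ℂ) n)
        (irrTransport (centPartConj Q0 hy) θ : centPart Q0 → ℂ) ≠ 0 :=
      constituent_conj hy (fun v v' e => by
        rw [irrTransport_apply]
        exact congrArg _ (Subtype.ext (e.trans (conjC_apply ⟨(x : G), hy⟩ v).symm))) hχ
    obtain ⟨ξ1, hξ1, hξ1c⟩ := hst.2 ξ0 hξ0
    have hs1 : SameBlock M (irrTransport (centPartConj Q0 hy) θ : centPart Q0 → ℂ) (θ : _ → ℂ) := by
      have h0 := block_sameBlock hMp hQe.1.2 hξ1 hξ0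
      have h1 := sameBlock_transport (centPartEquiv Q0) h0
      have h2 := sameBlock_transport (centPartConj Q0 hy) h1
      rw [show irrTransport (centPartConj Q0 hy) (irrTransport (centPartEquiv Q0) ξ1) = θ from
        Subtype.ext (funext fun v => by
          rw [irrTransport_apply, irrTransport_apply, hθdef, irrTransport_apply]
          exact hξ1c _ _ rfl)] at h2
      exact sameBlock_symm hMp h2
    obtain ⟨j, hj⟩ := centPart_index (Q0 := Q0) (p := p) hk
    have hsame := sameBlock_of_pIndex hM hj hs1 hcon hχ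
    have himg := image_transport_eq hMp κ (sameBlock_symm hMp hsame)
    refine stabilizes_of_blockCoeff hMp hy hfB fun z => ?_
    rw [subgroupBlockCoeff_eq]
    by_cases hz : z ∈ C
    · rw [extendByZero_mem _ _ hz, extendByZero_mem _ _ (conj_mem_centralizer hy hz)]
      conv_rhs => rw [hf, ← himg, blockCoeff_transport]
      exact congrArg _ (Subtype.ext (conjC_apply ⟨(x : G), hy⟩ ⟨z, hz⟩).symm)
    · rw [extendByZero_not_mem _ _ hz, extendByZero_not_mem]
      intro h
      have h' := conj_mem_centralizer (inv_mem hy) h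
      rw [show (x : G)⁻¹ * ((x : G) * z * (x : G)⁻¹) * (x : G)⁻¹⁻¹ = z by group] at h'
      exact hz h'
  have hcen := hnil.2 _ f hpair (x : G) hy hfix (by
    show ¬ p ∣ orderOf (x : G)
    rw [Subgroup.orderOf_coe]
    exact hreg)
  exact (mem_centralizer_map_subtype x).mpr hcen

omit [Fintype G] in
theorem comm_of_regular_power {x q : G} {m : ℕ} (hreg : (orderOf x).Coprime m)
    (h : x ^ m * q = q * x ^ m) : x * q = q * x := by
  obtain ⟨i, hi⟩ := exists_pow_eq_self_of_coprime hreg.symm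
  have h1 : Commute ((x ^ m) ^ i) q := (show Commute (x ^ m) q from h).pow_left i
  rwa [hi] at h1

/-- A block over a nilpotent block in a normal subgroup of `p`-power index is nilpotent. -/
theorem nilpotent_above (hM : IsPModular p M) {k : ℕ} (hk : N.index = p ^ k)
    (hB : IsPBlock M B) (hBc : ∀ g : G, blockCoeff B g = subgroupBlockCoeff N c g)
    (hnil : IsNilpotentBlock p M c) : IsNilpotentBlock p M B := by
  classical
  refine ⟨hB, fun Q e hQe x hx hst hreg => ?_⟩
  haveI := Fact.mk hM.1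
  haveI := Fintype.ofFinite N
  have hMp := pmod_prime hM
  have hp := hM.1
  have memN : ∀ y : G, ¬ p ∣ orderOf y → y ∈ N := fun y hy => by
    refine (QuotientGroup.eq_one_iff y).mp (orderOf_eq_one_iff.mp ?_)
    refine Nat.eq_one_of_dvd_coprimes (Nat.Coprime.pow_left k (hp.coprime_iff_not_dvd.mpr hy)) ?_
      (orderOf_map_dvd (QuotientGroup.mk' N) y)
    rw [← hk]
    exact orderOf_dvd_natCard _
  have hxN := memN x hreg
  set Q0 := Q.subgroupOf N with hQ0
  set C := Subgroup.centralizer ((Q0.map N.subtype : Subgroup G) : Set G)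
  haveI := Fintype.ofFinite C
  haveI := Fintype.ofFinite (centPart Q0)
  haveI := Fintype.ofFinite (Subgroup.centralizer (Q0 : Set N))
  have hQ1le : Q0.map N.subtype ≤ Q := by
    rintro _ ⟨q, hq, rfl⟩
    exact hq
  obtain ⟨f, ⟨hfB, hle⟩, huniq⟩ := existsUnique_subpair hM hQe.1 hQ1le
  have hpair : IsBrauerPairOf p M B (Q0.map N.subtype) f :=
    (brauerPairOf_subpair hM hB hle).mpr hQe
  have hxQ1 : x ∈ Subgroup.normalizer ((Q0.map N.subtype : Subgroup G) : Set G) := by
    rw [hQ0, show (Q.subgroupOf N).map N.subtype = Q ⊓ N from Subgroup.subgroupOf_map_subtype Q N,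
      Subgroup.mem_normalizer_iff]
    intro q
    rw [Subgroup.mem_inf, Subgroup.mem_inf]
    refine and_congr (Subgroup.mem_normalizer_iff.mp hx q) ⟨fun h => hNn.conj_mem q h x, fun h => ?_⟩
    simpa [mul_assoc] using hNn.conj_mem _ h x⁻¹
  have hfix : StabilizesBlock C f x := by
    have hxe : conjIdx x (⟨Q, e⟩ : BrauerPairIdx G) = ⟨Q, e⟩ :=
      (conjIdx_eq_self_iff hMp hQe.1.2 x).mpr ⟨hx, hst⟩
    have h1 := subpair_rel_conj hM x (a := ⟨Q0.map N.subtype, f⟩) (b := ⟨Q, e⟩) hle
    rw [hxe] at h1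
    have hmapeq : (Q0.map N.subtype).map (MulAut.conj x).toMonoidHom = Q0.map N.subtype :=
      Subgroup.mem_normalizer_iff_map_conj_eq.mp hxQ1
    have hu : ∀ (R : Subgroup G) (g : Set (IrrCharacter (Subgroup.centralizer (R : Set G)))),
        R = Q0.map N.subtype → IsPBlock M g → SubpairLE p M R g Q e →
        (⟨R, g⟩ : BrauerPairIdx G) = ⟨Q0.map N.subtype, f⟩ := by
      rintro R g rfl hg hle'
      rw [huniq g ⟨hg, hle'⟩]
    exact ((conjIdx_eq_self_iff hMp hfB x).mp
      (hu _ (conjBlock _ x f) hmapeq (isPBlock_conjBlock x hfB) h1)).2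
  obtain ⟨χ, hχ⟩ := block_nonempty hMp hfB
  have hQ0p : IsPGroup p Q0 := hQe.1.1.comap_subtype
  obtain ⟨χ', hχ', hconj⟩ := hfix.2 χ hχ
  -- find `y` in `x C` stabilizing the block of `θ`
  obtain ⟨θ', hθ'⟩ := exists_constituent (N := centPart Q0) χ'
  have hcon2 : classInner (fun n : centPart Q0 => (χ : C → ℂ) n)
      (irrTransport (centPartConj Q0 hxQ1) θ' : centPart Q0 → ℂ) ≠ 0 :=
    constituent_conj hxQ1 (fun v v' e => hconj v v' e) hθ'
  obtain ⟨d, hd⟩ := mem_orbU_of_sameBlock hM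
    (block_sameBlock hMp hfB hχ' hχ) hθ' hcon2
  set y := x * (d : G) with hydef
  have hy : y ∈ Subgroup.normalizer ((Q0.map N.subtype : Subgroup G) : Set G) :=
    mul_mem hxQ1 (centralizer_le_norm _ d.2)
  have hs : SameBlock M (θ' : centPart Q0 → ℂ) (irrTransport (centPartConj Q0 hy) θ' : _ → ℂ) := by
    convert hd using 2
    refine Subtype.ext (funext fun v => ?_)
    rw [irrTransport_apply, irrComp_apply, irrTransport_apply]
    refine congrArg _ (Subtype.ext (Subtype.ext ?_))
    show y * _ * y⁻¹ = x * ((MulAut.conjNormal d v : centPart Q0) : C) * x⁻¹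
    rw [MulAut.conjNormal_apply]
    simp only [hydef, Subgroup.coe_mul, Subgroup.coe_inv, mul_inv_rev]
    group
  have himg := image_transport_eq hMp (centPartConj Q0 hy) hs
  set e2 := irrTransport (centPartEquiv Q0).symm '' blockOf M (θ' : centPart Q0 → ℂ) with he2
  have he2B : IsPBlock M e2 := isPBlock_transport _ (isPBlock_blockOf M θ')
  have hpair2 : IsBrauerPairOf p M c Q0 e2 := by
    refine ⟨⟨hQ0p, he2B⟩, hnil.1, brOne_of_mem hM he2B
      (isGoodFun_of_classFun _ (isIntClassFun_blockCoeff hM hnil.1))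
      ⟨θ', self_mem_blockOf hMp θ', rfl⟩ ?_⟩
    have h1 := hpair.2.2 χ' hχ'
    rw [brauerOmega_eq] at h1 ⊢
    rwa [lam_trunc hBc hθ'] at h1
  set Φ : G → ℂ := fun z =>
    if h : z ∈ C ∧ z ∈ N then blockCoeff (blockOf M (θ' : centPart Q0 → ℂ)) ⟨⟨z, h.1⟩, h.2⟩ else 0
    with hΦ
  have hΦy : ∀ z, Φ (y * z * y⁻¹) = Φ z := by
    intro z
    simp only [hΦ]
    by_cases hz : z ∈ C ∧ z ∈ N
    · rw [dif_pos hz, dif_pos ⟨conj_mem_centralizer hy hz.1, hNn.conj_mem _ hz.2 y⟩]
      conv_rhs => rw [← himg, blockCoeff_transport]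
      rfl
    · rw [dif_neg hz, dif_neg]
      intro h
      have h' := conj_mem_centralizer (inv_mem hy) h.1
      have h'' := hNn.conj_mem _ h.2 y⁻¹
      rw [show y⁻¹ * (y * z * y⁻¹) * y⁻¹⁻¹ = z by group] at h' h''
      exact hz ⟨h', h''⟩
  have hΦn : ∀ (n : ℕ) z, Φ (y ^ n * z * (y ^ n)⁻¹) = Φ z := by
    intro n
    induction n with
    | zero => simp
    | succ n ih =>
      intro z
      rw [show y ^ (n + 1) * z * (y ^ (n + 1))⁻¹ = y * (y ^ n * z * (y ^ n)⁻¹) * y⁻¹ by
        rw [pow_succ']; group, hΦy, ih]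
  set m := p ^ (orderOf y).factorization p with hm
  have hsreg : ¬ p ∣ orderOf (y ^ m) := by
    rw [orderOf_pow' _ (pow_ne_zero _ hp.ne_zero), Nat.gcd_eq_right (Nat.ordProj_dvd _ _)]
    exact Nat.not_dvd_ordCompl hp (orderOf_pos y).ne'
  have hsN := memN _ hsreg
  set s : N := ⟨y ^ m, hsN⟩ with hs'
  have hsn : s ∈ Subgroup.normalizer (Q0 : Set N) := by
    have h1 := pow_mem hy m
    rw [Subgroup.mem_normalizer_iff] at h1 ⊢
    intro q
    constructor
    · intro hq
      obtain ⟨q', hq', e'⟩ := (h1 (q : G)).mp ⟨q, hq, rfl⟩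
      exact (show q' = s * q * s⁻¹ from Subtype.ext e') ▸ hq'
    · intro hq
      obtain ⟨q', hq', e'⟩ := (h1 (q : G)).mpr ⟨_, hq, rfl⟩
      exact (show q' = q from Subtype.ext e') ▸ hq'
  have hsst : StabilizesBlock (Subgroup.centralizer (Q0 : Set N)) e2 s := by
    refine stabilizes_of_blockCoeff hMp hsn he2B fun z => ?_
    have key : ∀ z : N, subgroupBlockCoeff (Subgroup.centralizer (Q0 : Set N)) e2 z = Φ (z : G) := by
      intro z
      rw [subgroupBlockCoeff_eq]
      by_cases hz : z ∈ Subgroup.centralizer (Q0 : Set N)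
      · rw [extendByZero_mem _ _ hz, he2, blockCoeff_transport]
        simp only [hΦ]
        rw [dif_pos ⟨(mem_centralizer_map_subtype z).mp hz, z.2⟩]
        rfl
      · rw [extendByZero_not_mem _ _ hz]
        simp only [hΦ]
        rw [dif_neg fun h => hz ((mem_centralizer_map_subtype z).mpr h.1)]
    rw [key, key]
    exact hΦn m (z : G)
  have hscent := hnil.2 Q0 e2 hpair2 s hsn hsst (by
    show ¬ p ∣ orderOf s
    rwa [← Subgroup.orderOf_coe])
  -- `x` acts on `Q ∩ N` as `y` does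
  have hxm : ∀ q ∈ Q0.map N.subtype, x * q = q * x := by
    intro q hq
    have hact : ∀ n : ℕ, ∀ r ∈ Q0.map N.subtype, y ^ n * r * (y ^ n)⁻¹ = x ^ n * r * (x ^ n)⁻¹ := by
      intro n
      induction n with
      | zero => intro r _; simp
      | succ n ih =>
        intro r hr
        have hr' : (d : G) * r * (d : G)⁻¹ = r := by rw [← d.2 r hr]; group
        calc y ^ (n + 1) * r * (y ^ (n + 1))⁻¹ = y ^ n * (y * r * y⁻¹) * (y ^ n)⁻¹ := by
              rw [pow_succ]; group
          _ = y ^ n * (x * r * x⁻¹) * (y ^ n)⁻¹ := by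
              rw [show y * r * y⁻¹ = x * ((d : G) * r * (d : G)⁻¹) * x⁻¹ by rw [hydef]; group, hr']
          _ = x ^ n * (x * r * x⁻¹) * (x ^ n)⁻¹ :=
              ih _ ((Subgroup.mem_normalizer_iff.mp hxQ1 r).mp hr)
          _ = _ := by rw [pow_succ]; group
    obtain ⟨q0, hq0, rfl⟩ := hq
    have h1 : (q0 : G) * y ^ m = y ^ m * (q0 : G) := congrArg Subtype.val (hscent q0 hq0)
    refine comm_of_regular_power (m := m)
      (Nat.Coprime.pow_right _ (hp.coprime_iff_not_dvd.mpr hreg).symm) ?_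
    have h2 := hact m (q0 : G) ⟨q0, hq0, rfl⟩
    rw [← h1, mul_inv_cancel_right] at h2
    show x ^ m * (q0 : G) = (q0 : G) * x ^ m
    calc x ^ m * (q0 : G) = x ^ m * (q0 : G) * (x ^ m)⁻¹ * x ^ m := by group
      _ = (q0 : G) * x ^ m := by rw [← h2]
  intro q hq
  set z := x * q * x⁻¹ * q⁻¹ with hz
  have hzQ : z ∈ Q0.map N.subtype := by
    refine ⟨⟨z, ?_⟩, ?_, rfl⟩
    · rw [hz, show x * q * x⁻¹ * q⁻¹ = x * (q * x⁻¹ * q⁻¹) by group]
      exact mul_mem hxN (hNn.conj_mem _ (inv_mem hxN) q)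
    · show z ∈ Q
      exact mul_mem ((Subgroup.mem_normalizer_iff.mp hx q).mp hq) (inv_mem hq)
  have hzx : x * z * x⁻¹ = z := by rw [hxm z hzQ, mul_inv_cancel_right]
  have hpow : ∀ n : ℕ, x ^ n * q * (x ^ n)⁻¹ = z ^ n * q := by
    intro n
    induction n with
    | zero => simp
    | succ n ih =>
      calc x ^ (n + 1) * q * (x ^ (n + 1))⁻¹ = x * (x ^ n * q * (x ^ n)⁻¹) * x⁻¹ := by
            rw [pow_succ']; group
        _ = (x * z ^ n * x⁻¹) * (x * q * x⁻¹) := by rw [ih]; group
        _ = (x * z * x⁻¹) ^ n * (z * q) := by rw [conj_pow, hz]; group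
        _ = z ^ (n + 1) * q := by rw [hzx, ← mul_assoc, ← pow_succ]
  have hz1 : z = 1 := by
    have h1 := hpow (orderOf x)
    rw [pow_orderOf_eq_one, one_mul, inv_one, mul_one] at h1
    have h2 : z ^ orderOf x = 1 := mul_eq_right.mp h1.symm
    obtain ⟨i, hi⟩ := hQe.1.1 ⟨z, hQ1le hzQ⟩
    have h3 : z ^ p ^ i = 1 := by simpa using congrArg (fun t : Q => (t : G)) hi
    have h4 := pow_gcd_eq_one.mpr ⟨h2, h3⟩
    rwa [Nat.Coprime.gcd_eq_one (Nat.Coprime.pow_right i (hp.coprime_iff_not_dvd.mpr hreg).symm),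
      pow_one] at h4
  show q * x = x * q
  calc q * x = z * q * x := by rw [hz1, one_mul]
    _ = x * q := by rw [hz]; group

end Cfsg.Agent.Char
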