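import Cfsg.Agent.Lib.Char.FrobSylowExceptional
import Cfsg.Agent.Lib.Char.FrobSylowClassSum
import Cfsg.Agent.Lib.Small.StructureConstantTwo
import Mathlib

/-!
A Sylow 3-subgroup of order nine whose normalizer only inverts it, with two independent elements having it as
centraliser: the group is the product of a normal subgroup of order prime to three and this normalizer.
-/

set_option autoImplicit false
set_option linter.unusedSectionVars false

namespace Cfsg.Agent.Char.NineInverted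

open Cfsg Cfsg.Agent.Char
open scoped ComplexConjugate

universe u

theorem card_sup_of_le_normalizer {G : Type*} [Group G] {A Y : Subgroup G} (hn : Y ≤ Subgroup.normalizer (A : Set G))
    (hdis : Disjoint A Y) : Nat.card ↥(A ⊔ Y) = Nat.card A * Nat.card Y := by
  rw [sup_comm, ← Nat.card_prod]
  refine (Nat.card_eq_of_bijective (fun q : A × Y => (⟨(q.2 : G) * q.1, Subgroup.mul_mem_sup q.2.2 q.1.2⟩ : ↥(Y ⊔ A))) ⟨?_, ?_⟩).symm
  · intro q q' e
    have e' : (q.2 : G) * q.1 = q'.2 * q'.1 := congrArg Subtype.val e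
    have h1 : (q'.2 : G)⁻¹ * q.2 = (q'.1 : G) * (q.1 : G)⁻¹ := by
      rw [eq_mul_inv_iff_mul_eq, mul_assoc, e', inv_mul_cancel_left]
    have h2 := Subgroup.disjoint_def.1 hdis (h1 ▸ A.mul_mem q'.1.2 (A.inv_mem q.1.2)) (Y.mul_mem (Y.inv_mem q'.2.2) q.2.2)
    have h3 : (q.2 : G) = q'.2 := (inv_mul_eq_one.1 h2).symm
    exact Prod.ext (Subtype.ext (by rwa [h3, mul_right_inj] at e')) (Subtype.ext h3)
  · rintro ⟨g, hg⟩
    have hg' : g ∈ ((Y ⊔ A : Subgroup G) : Set G) := hg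
    rw [Subgroup.coe_mul_of_left_le_normalizer_right Y A hn] at hg'
    obtain ⟨b, hb, a, ha, rfl⟩ := hg'
    exact ⟨(⟨a, ha⟩, ⟨b, hb⟩), rfl⟩

theorem normalizer_map_of_characteristic {G : Type*} [Group G] (A : Subgroup G) (S : Subgroup A) [S.Characteristic]
    {g : G} (hg : g ∈ Subgroup.normalizer (A : Set G)) : g ∈ Subgroup.normalizer ((S.map A.subtype : Subgroup G) : Set G) := by
  have h1 : ∀ g ∈ Subgroup.normalizer (A : Set G), ∀ a ∈ S.map A.subtype, g * a * g⁻¹ ∈ S.map A.subtype := by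
    rintro g hg _ ⟨a, ha, rfl⟩
    have hm : ∀ b : G, b ∈ A ↔ g * b * g⁻¹ ∈ A := Subgroup.mem_normalizer_iff.1 hg
    let φ : A ≃* A :=
      { toFun := fun b => ⟨g * b * g⁻¹, (hm b).1 b.2⟩
        invFun := fun b => ⟨g⁻¹ * b * g, (hm _).2 (by simp [mul_assoc])⟩
        left_inv := fun b => Subtype.ext (by simp [mul_assoc])
        right_inv := fun b => Subtype.ext (by simp [mul_assoc])
        map_mul' := fun b b' => Subtype.ext (by simp [mul_assoc]) }
    exact ⟨φ a, (Subgroup.characteristic_iff_map_le.1 inferInstance φ) ⟨a, ha, rfl⟩, rfl⟩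
  refine Subgroup.mem_normalizer_iff.2 fun a => ⟨h1 g hg a, fun h => ?_⟩
  have h2 := h1 g⁻¹ (inv_mem hg) _ h
  simpa [mul_assoc] using h2

/-- Two elements of order three with product of order three. -/
theorem triangle_comm {G : Type*} [Group G] {x u : G} (hx : x ^ 3 = 1) (hy : (u⁻¹ * x) ^ 3 = 1)
    (hxy : (x * (u⁻¹ * x)) ^ 3 = 1) :
    (x * u * x⁻¹) * (x ^ 2 * u * (x ^ 2)⁻¹) = (x ^ 2 * u * (x ^ 2)⁻¹) * (x * u * x⁻¹) ∧
      u = ((x * u * x⁻¹) * (x ^ 2 * u * (x ^ 2)⁻¹))⁻¹ := by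
  have hi : x⁻¹ = x * x := inv_eq_of_mul_eq_one_right (by rw [← hx]; simp [pow_succ, mul_assoc])
  have h3 : x * x * x = 1 := by rw [← hx]; simp [pow_succ]
  have e3 : ∀ g : G, x * (x * (x * g)) = g := fun g => by rw [← mul_assoc, ← mul_assoc, h3, one_mul]
  set v := x * u * x⁻¹ with hv
  set w := x ^ 2 * u * (x ^ 2)⁻¹ with hw
  have hvi : v⁻¹ = x * u⁻¹ * x⁻¹ := by rw [hv]; group
  have hwi : w⁻¹ = x ^ 2 * u⁻¹ * (x ^ 2)⁻¹ := by rw [hw]; group
  have A : u⁻¹ * v⁻¹ * w⁻¹ = 1 := by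
    rw [← hy, hvi, hwi]
    simp only [pow_succ, pow_zero, one_mul, mul_inv_rev, hi, mul_assoc, e3]
  have B : u⁻¹ * w⁻¹ * v⁻¹ = 1 := by
    have h : x * ((u⁻¹ * w⁻¹ * v⁻¹) * x⁻¹) = 1 := by
      rw [← hxy, hvi, hwi]
      simp only [pow_succ, pow_zero, one_mul, mul_inv_rev, hi, mul_assoc, e3]
    calc u⁻¹ * w⁻¹ * v⁻¹ = x⁻¹ * (x * ((u⁻¹ * w⁻¹ * v⁻¹) * x⁻¹)) * x := by group
      _ = 1 := by rw [h]; group
  constructor
  · clear_value v w
    rw [← inv_inj, mul_inv_rev, mul_inv_rev]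
    exact (mul_left_cancel (by rw [← mul_assoc, ← mul_assoc, A, B] : u⁻¹ * (v⁻¹ * w⁻¹) = u⁻¹ * (w⁻¹ * v⁻¹))).symm
  · clear_value v w
    rw [mul_inv_rev]
    calc u = u * (u⁻¹ * w⁻¹ * v⁻¹) := by rw [B, mul_one]
      _ = w⁻¹ * v⁻¹ := by group

variable {G : Type u} [Group G] [Fintype G] [Fact (Nat.Prime 3)] {P : Sylow 3 G}

/-- The normalizer of `P` only centralises or inverts it. -/
structure Inverted (P : Sylow 3 G) : Prop where
  card : Nat.card P = 9
  exp : ∀ x ∈ (P : Subgroup G), x ^ 3 = 1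
  comm : IsMulCommutative P
  inv_exists : ∃ n ∈ Subgroup.normalizer ((P : Subgroup G) : Set G), ∀ x ∈ (P : Subgroup G), n * x * n⁻¹ = x⁻¹
  dich : ∀ n ∈ Subgroup.normalizer ((P : Subgroup G) : Set G),
    n ∈ Subgroup.centralizer ((P : Subgroup G) : Set G) ∨ ∀ x ∈ (P : Subgroup G), n * x * n⁻¹ = x⁻¹

namespace Inverted

variable (H : Inverted P)
include H

theorem eq_one_of_inv {x : G} (hx : x ∈ (P : Subgroup G)) (h : x⁻¹ = x) : x = 1 := by
  have h2 : x * x = 1 := by nth_rw 1 [← h]; exact inv_mul_cancel x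
  have h3 := H.exp x hx
  rwa [pow_succ, pow_two, h2, one_mul] at h3

theorem frobSylow : FrobSylow P 2 := by
  set C := Subgroup.centralizer ((P : Subgroup G) : Set G) with hC
  set N := Subgroup.normalizer ((P : Subgroup G) : Set G) with hN
  have hCN : C ≤ N := Subgroup.centralizer_le_normalizer _
  refine ⟨H.comm, by rw [H.card]; norm_num, ?_, fun y hy hy1 => ?_⟩
  · obtain ⟨n, hn, hni⟩ := H.inv_exists
    have hnC : n ∉ C := fun hc => by
      haveI : Nontrivial (P : Subgroup G) := Finite.one_lt_card_iff_nontrivial.1 (by rw [H.card]; norm_num)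
      obtain ⟨⟨x, hx⟩, hne⟩ := exists_ne (1 : (P : Subgroup G))
      refine hne (Subtype.ext (H.eq_one_of_inv hx ?_))
      rw [← hni x hx, ← (hc x hx), mul_inv_cancel_right]
    rw [Subgroup.relIndex, Subgroup.index_eq_two_iff]
    refine ⟨⟨n, hn⟩, fun b => ?_⟩
    simp only [Subgroup.mem_subgroupOf, Subgroup.coe_mul]
    by_cases hb : (b : G) ∈ C
    · exact Or.inr ⟨hb, fun h => hnC ((Subgroup.mul_mem_cancel_left _ hb).1 h)⟩
    · have hbi := (H.dich b b.2).resolve_left hb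
      refine Or.inl ⟨fun x hx => ?_, hb⟩
      have : (b : G) * n * x * ((b : G) * n)⁻¹ = x := by
        calc _ = (b : G) * (n * x * n⁻¹) * (b : G)⁻¹ := by group
          _ = x := by rw [hni x hx, hbi _ (inv_mem hx), inv_inv]
      exact (mul_inv_eq_iff_eq_mul.1 this).symm
  · refine le_antisymm (fun g hg => ?_) (le_inf (fun g hg => ?_) hCN)
    · obtain ⟨hg1, hg2⟩ := Subgroup.mem_inf.1 hg
      refine (H.dich g hg2).resolve_right fun hi => hy1 (H.eq_one_of_inv hy ?_)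
      rw [← hi y hy, Subgroup.mem_centralizer_singleton_iff.1 hg1, mul_inv_cancel_right]
    · exact Subgroup.mem_centralizer_singleton_iff.2 (hg y hy).symm

theorem conj_cases {x x' : ↥(P : Subgroup G)} (hc : IsConj (x : G) (x' : G)) : x' = x ∨ x' = x⁻¹ := by
  obtain ⟨n, hn, he⟩ := H.frobSylow.fusion hc
  rcases H.dich n hn with h | h
  · exact Or.inl (Subtype.ext (by rw [← he, ← h x x.2, mul_inv_cancel_right]))
  · exact Or.inr (Subtype.ext (by rw [← he, h x x.2, Subgroup.coe_inv]))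

theorem isConj_inv (x : ↥(P : Subgroup G)) : IsConj (x : G) ((x⁻¹ : ↥(P : Subgroup G)) : G) := by
  obtain ⟨n, -, hn⟩ := H.inv_exists
  exact isConj_iff.2 ⟨n, by rw [hn x x.2, Subgroup.coe_inv]⟩

variable [Fintype (↥(P : Subgroup G) →* ℂˣ)]

/-- The exceptional values. -/
theorem orbSum_val {ψ : ↥(P : Subgroup G) →* ℂˣ} (hψ : ψ ≠ 1) {x : ↥(P : Subgroup G)} (hx : (x : G) ≠ 1) :
    orbSum ψ x = ((ψ x : ℂˣ) : ℂ) + ((ψ x⁻¹ : ℂˣ) : ℂ) ∧
      ((ψ x = 1 ∧ orbSum ψ x = 2) ∨ (ψ x ≠ 1 ∧ orbSum ψ x = -1)) := by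
  classical
  have hne : x ≠ x⁻¹ := fun e => hx (H.eq_one_of_inv x.2 (by rw [← Subgroup.coe_inv, ← e]))
  have hcl : clP P (x : G) = {x, x⁻¹} := by
    ext w
    rw [mem_clP, Finset.mem_insert, Finset.mem_singleton]
    constructor
    · exact fun h => H.conj_cases h
    · rintro (rfl | rfl)
      · exact IsConj.refl _
      · exact H.isConj_inv x
  have e : orbSum ψ x = ((ψ x : ℂˣ) : ℂ) + ((ψ x⁻¹ : ℂˣ) : ℂ) := by
    rw [H.frobSylow.orbSum_eq_class two_ne_zero hψ hx, hcl, Finset.sum_pair hne]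
  refine ⟨e, ?_⟩
  by_cases h1 : ψ x = 1
  · exact Or.inl ⟨h1, by rw [e, map_inv, h1, inv_one, Units.val_one]; norm_num⟩
  · refine Or.inr ⟨h1, ?_⟩
    set c : ℂ := ((ψ x : ℂˣ) : ℂ) with hc
    have hc3 : c ^ 3 = 1 := by
      rw [hc, ← Units.val_pow_eq_pow_val, ← map_pow,
        show x ^ 3 = 1 from Subtype.ext (H.exp x x.2), map_one, Units.val_one]
    have hc1 : c - 1 ≠ 0 := sub_ne_zero.2 fun h => h1 (Units.ext h)
    have hc0 : c * c + c + 1 = 0 := by
      refine (mul_eq_zero.1 (show (c - 1) * (c * c + c + 1) = 0 by linear_combination hc3)).resolve_left hc1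
    rw [e, map_inv, Units.val_inv_eq_inv_val, ← hc]
    have : c⁻¹ = c * c := inv_eq_of_mul_eq_one_right (by linear_combination hc3)
    rw [this]
    linear_combination hc0

open scoped Classical in
theorem vanish {M : Ideal AlgInt} (hM : IsPModular 3 M) {y : ↥(P : Subgroup G)} (hy : (y : G) ≠ 1)
    (hC : Subgroup.centralizer ({(y : G)} : Set G) = P) {χ : IrrCharacter G}
    (hχ : χ ∉ principalBlock M G) : (χ : G → ℂ) (y : G) = 0 := by
  have h3 : ∑ ψ : IrrCharacter G, (ψ : G → ℂ) (y : G) * conj ((ψ : G → ℂ) (y : G)) = (Nat.card P : ℂ) := by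
    have h := second_orth (y : G) (y : G)
    rw [if_pos (IsConj.refl _)] at h
    have hmul := card_conjClass_mul_centralizer (y : G)
    rw [hC] at hmul
    rw [h, ← hmul, Nat.cast_mul, mul_div_cancel_left₀ _ (Nat.cast_ne_zero.2 (card_conjClass_ne_zero _))]
  rw [← Finset.sum_filter_add_sum_filter_not Finset.univ (fun ψ : IrrCharacter G => ψ ∈ principalBlock M G),
    H.frobSylow.sum_norm_principal hM hy, add_eq_left] at h3
  simp only [Complex.mul_conj'] at h3
  have h4 : ∑ ψ : IrrCharacter G with ψ ∉ principalBlock M G, ‖(ψ : G → ℂ) (y : G)‖ ^ 2 = 0 := by exact_mod_cast h3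
  have h5 := (Finset.sum_eq_zero_iff_of_nonneg fun ψ _ => by positivity).1 h4 χ
    (Finset.mem_filter.2 ⟨Finset.mem_univ _, hχ⟩)
  exact norm_eq_zero.1 (by nlinarith [h5, norm_nonneg ((χ : G → ℂ) (y : G))])

omit [Fintype (↥(P : Subgroup G) →* ℂˣ)]

/-- An element with centraliser `P` is no product of two conjugates of an element independent of it. -/
theorem no_product {y z : G} (hy : y ∈ (P : Subgroup G)) (hy1 : y ≠ 1)
    (hCy : Subgroup.centralizer ({y} : Set G) = P) (hz : z ∈ (P : Subgroup G))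
    (hyz : y ∉ Subgroup.zpowers z) (g₁ g₂ : G) : g₁ * z * g₁⁻¹ * (g₂ * z * g₂⁻¹) ≠ y := by
  intro hprod
  set x := g₁ * z * g₁⁻¹ with hxd
  set x' := g₂ * z * g₂⁻¹ with hx'd
  haveI := H.comm
  have hx3 : x ^ 3 = 1 := by rw [hxd, conj_pow, H.exp z hz, mul_one, mul_inv_cancel]
  have hx'3 : x' ^ 3 = 1 := by rw [hx'd, conj_pow, H.exp z hz, mul_one, mul_inv_cancel]
  set u := x * x'⁻¹ with hu
  have hx' : x' = u⁻¹ * x := by rw [hu]; group
  obtain ⟨hvw, huvw⟩ := triangle_comm hx3 (hx' ▸ hx'3) (hx' ▸ hprod.symm ▸ H.exp y hy)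
  set v := x * u * x⁻¹ with hv
  set w := x ^ 2 * u * (x ^ 2)⁻¹ with hw
  set A := Subgroup.closure ({v, w} : Set G) with hA
  have hvA : v ∈ A := Subgroup.subset_closure (Or.inl rfl)
  have hwA : w ∈ A := Subgroup.subset_closure (Or.inr rfl)
  haveI hAc : IsMulCommutative A := Subgroup.isMulCommutative_closure (by
    rintro a (rfl | rfl) b (rfl | rfl) <;> first | rfl | exact hvw | exact hvw.symm)
  have hconj : ∀ a ∈ A, x * a * x⁻¹ ∈ A := by
    intro a ha
    induction ha using Subgroup.closure_induction with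
    | mem a ha =>
      rcases ha with rfl | rfl
      · rw [show x * v * x⁻¹ = w by rw [hv, hw, pow_two]; group]; exact hwA
      · rw [show x * w * x⁻¹ = u by rw [hw]; calc x * (x ^ 2 * u * (x ^ 2)⁻¹) * x⁻¹ = x ^ 3 * u * (x ^ 3)⁻¹ := by group
                                              _ = u := by rw [hx3, one_mul, inv_one, mul_one],
          huvw]
        exact A.inv_mem (A.mul_mem hvA hwA)
    | one => simp
    | mul a b _ _ iha ihb => rw [show x * (a * b) * x⁻¹ = (x * a * x⁻¹) * (x * b * x⁻¹) by group]; exact A.mul_mem iha ihb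
    | inv a _ iha => rw [show x * a⁻¹ * x⁻¹ = (x * a * x⁻¹)⁻¹ by group]; exact A.inv_mem iha
  have hxN : x ∈ Subgroup.normalizer (A : Set G) := by
    rw [Subgroup.mem_normalizer_iff_map_conj_eq]
    refine Subgroup.eq_of_le_of_card_ge ?_ (by rw [Subgroup.card_map_of_injective (MulEquiv.injective _)])
    rintro _ ⟨a, ha, rfl⟩
    exact hconj a ha
  -- `y` generates the group modulo `A`
  have hy2 : y = x ^ 2 * w⁻¹ * x ^ 3 := by
    rw [← hprod, hx', hw, hx3, mul_one]
    calc x * (u⁻¹ * x) = x ^ 3 * (x * (u⁻¹ * x)) * (x ^ 3)⁻¹ := by rw [hx3]; group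
      _ = _ := by group
  rw [hx3, mul_one] at hy2
  set L := A ⊔ Subgroup.zpowers y with hL
  have hxy : x ^ 2 = y * w := by rw [hy2]; group
  have hxL : x ∈ L := by
    have h2 : x ^ 2 ∈ L := hxy ▸ L.mul_mem (le_sup_right (a := A) (Subgroup.mem_zpowers y)) (le_sup_left (b := Subgroup.zpowers y) hwA)
    have h4 : x = x ^ 2 * x ^ 2 := by rw [← pow_add, show 2 + 2 = 3 + 1 from rfl, pow_succ, hx3, one_mul]
    rw [h4]
    exact L.mul_mem h2 h2
  have hyN : y ∈ Subgroup.normalizer (A : Set G) := by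
    rw [hy2]
    exact mul_mem (pow_mem hxN 2) (Subgroup.le_normalizer (A.inv_mem hwA))
  have hyA : y ∉ A := by
    intro hya
    have hx2A : x ^ 2 ∈ A := hxy ▸ A.mul_mem hya hwA
    have hxA : x ∈ A := by
      have h4 : x = x ^ 2 * x ^ 2 := by rw [← pow_add, show 2 + 2 = 3 + 1 from rfl, pow_succ, hx3, one_mul]
      rw [h4]
      exact A.mul_mem hx2A hx2A
    have hxc : x * y = y * x := congrArg Subtype.val (mul_comm' (⟨x, hxA⟩ : A) ⟨y, hya⟩)
    have hxP : x ∈ (P : Subgroup G) := hCy ▸ Subgroup.mem_centralizer_singleton_iff.2 hxc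
    have hx'P : x' ∈ (P : Subgroup G) := by
      rw [show x' = x⁻¹ * y by rw [← hprod]; group]
      exact mul_mem (inv_mem hxP) hy
    have key : ∀ (gi : G) {a : G} (ha : a ∈ (P : Subgroup G)), a = gi * z * gi⁻¹ → a ∈ Subgroup.zpowers z := by
      intro gi a ha hgi
      rcases H.conj_cases (x := ⟨z, hz⟩) (x' := ⟨a, ha⟩) (isConj_iff.2 ⟨gi, hgi.symm⟩) with e | e <;>
        rw [show a = _ from congrArg Subtype.val e]
      · exact Subgroup.mem_zpowers z
      · exact Subgroup.inv_mem _ (Subgroup.mem_zpowers z)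
    exact hyz (hprod ▸ Subgroup.mul_mem _ (key g₁ hxP hxd) (key g₂ hx'P hx'd))
  have hoy : orderOf y = 3 := orderOf_eq_prime (H.exp y hy) hy1
  have hcardL : Nat.card L = Nat.card A * 3 := by
    have hdis : Disjoint A (Subgroup.zpowers y) := by
      rw [Subgroup.disjoint_def]
      intro a ha hay
      by_contra ha1
      have : Subgroup.zpowers a = Subgroup.zpowers y :=
        Subgroup.eq_of_le_of_card_ge (Subgroup.zpowers_le.2 hay) (by
          rw [Nat.card_zpowers, Nat.card_zpowers, hoy, orderOf_eq_prime (p := 3) ?_ ha1]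
          obtain ⟨k, rfl⟩ := hay
          show (y ^ k) ^ 3 = 1
          rw [← zpow_natCast, ← zpow_mul, mul_comm, zpow_mul, zpow_natCast, H.exp y hy, one_zpow])
      exact hyA ((Subgroup.zpowers_le.2 ha : Subgroup.zpowers a ≤ A) (this ▸ Subgroup.mem_zpowers y))
    have hn : Subgroup.zpowers y ≤ Subgroup.normalizer (A : Set G) := Subgroup.zpowers_le.2 hyN
    rw [← hoy, ← Nat.card_zpowers, hL]
    exact card_sup_of_le_normalizer hn hdis
  by_cases h3A : 3 ∣ Nat.card A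
  · -- an element of `A ∩ P` centralises `x`
    let S : Sylow 3 A := default
    have hSne : (S : Subgroup A) ≠ ⊥ := S.ne_bot_of_dvd_card h3A
    haveI : (S : Subgroup A).Normal := Subgroup.normal_of_comm _
    haveI : (S : Subgroup A).Characteristic := S.characteristic_of_normal inferInstance
    set A3 := (S : Subgroup A).map A.subtype with hA3
    have hA3A : A3 ≤ A := Subgroup.map_subtype_le _
    have hyN3 : y ∈ Subgroup.normalizer (A3 : Set G) := normalizer_map_of_characteristic A (S : Subgroup A) hyN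
    have hp : IsPGroup 3 ↥(A3 ⊔ Subgroup.zpowers y) :=
      IsPGroup.to_sup_of_normal_left' (S.isPGroup'.map _) (IsPGroup.of_card (n := 1) (by rw [Nat.card_zpowers, hoy, pow_one]))
        (Subgroup.zpowers_le.2 hyN3)
    obtain ⟨Q, hQ⟩ := hp.exists_le_sylow
    obtain ⟨g, hg⟩ := MulAction.exists_smul_eq G P Q
    have hA3P : A3 ≤ P := by
      intro a ha
      rw [← hCy, Subgroup.mem_centralizer_singleton_iff]
      have haQ : a ∈ (Q : Subgroup G) := hQ (le_sup_left (b := Subgroup.zpowers y) ha)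
      have hyQ : y ∈ (Q : Subgroup G) := hQ (le_sup_right (a := A3) (Subgroup.mem_zpowers y))
      have hQc : (⟨a, haQ⟩ : (Q : Subgroup G)) * ⟨y, hyQ⟩ = ⟨y, hyQ⟩ * ⟨a, haQ⟩ :=
        (Q.equiv P).injective (by rw [map_mul, map_mul]; exact mul_comm' _ _)
      exact congrArg Subtype.val hQc
    obtain ⟨c, hc3, hc1⟩ : ∃ c ∈ A3, c ≠ 1 := by
      by_contra hcon
      push Not at hcon
      refine hSne ((Subgroup.eq_bot_iff_forall _).2 fun a ha => Subtype.ext (hcon _ ⟨a, ha, rfl⟩))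
    have hcL : L ≤ Subgroup.centralizer ({c} : Set G) := by
      refine sup_le (fun a ha => Subgroup.mem_centralizer_singleton_iff.2
        (congrArg Subtype.val (mul_comm' (⟨a, ha⟩ : A) ⟨c, hA3A hc3⟩))) (Subgroup.zpowers_le.2 ?_)
      exact Subgroup.mem_centralizer_singleton_iff.2
        (congrArg Subtype.val (mul_comm' (⟨y, hy⟩ : (P : Subgroup G)) ⟨c, hA3P hc3⟩))
    set K := Subgroup.centralizer ({c} : Set G) with hK
    obtain ⟨V, hVn, hV3, hVi, -⟩ := H.frobSylow.hnpc_centralizer (y := ⟨c, hA3P hc3⟩) hc1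
    have hPK : (P : Subgroup G) ≤ K := fun a ha => Subgroup.mem_centralizer_singleton_iff.2
      (congrArg Subtype.val (mul_comm' (⟨a, ha⟩ : (P : Subgroup G)) ⟨c, hA3P hc3⟩))
    let π := QuotientGroup.mk' V
    have hinj : ∀ a : K, (a : G) ∈ (P : Subgroup G) → π a = 1 → a = 1 := by
      intro a ha h1
      by_contra hne
      have hmem : a ∈ V := (QuotientGroup.eq_one_iff a).1 h1
      have ho : orderOf a = 3 := orderOf_eq_prime (Subtype.ext (H.exp _ ha)) hne
      have hd := Subgroup.orderOf_dvd_natCard V hmem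
      rw [ho] at hd
      exact hV3 hd
    have hsur : ∀ a : K, ∃ b : K, (b : G) ∈ (P : Subgroup G) ∧ π b = π a := by
      have hinj' : Function.Injective (fun b : (P : Subgroup G) => π ⟨b, hPK b.2⟩) := by
        intro b b' e
        have h1 := hinj (⟨b, hPK b.2⟩ * (⟨b', hPK b'.2⟩)⁻¹ : K) ((P : Subgroup G).mul_mem b.2 (inv_mem b'.2))
          (by rw [map_mul, map_inv]; exact mul_inv_eq_one.2 e)
        exact Subtype.ext (mul_inv_eq_one.1 (congrArg Subtype.val h1 : (b : G) * (b' : G)⁻¹ = 1))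
      have hb := (Nat.bijective_iff_injective_and_card _).2 ⟨hinj', by rw [← Subgroup.index_eq_card, hVi]⟩
      intro a
      obtain ⟨b, hb'⟩ := hb.2 (π a)
      exact ⟨⟨b, hPK b.2⟩, b.2, hb'⟩
    have key : ∀ (gi : G) (a : K), (a : G) = gi * z * gi⁻¹ →
        ∃ b : K, (b : G) ∈ Subgroup.zpowers z ∧ π b = π a := by
      intro gi a hgi
      obtain ⟨b, hbP, hb⟩ := hsur a
      by_cases hb1 : b = 1
      · exact ⟨1, Subgroup.one_mem _, by rw [← hb, hb1]⟩
      -- a Sylow subgroup of `K` containing `a` is conjugate to `P`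
      let PK : Sylow 3 K := P.subtype hPK
      have hpa : IsPGroup 3 (Subgroup.zpowers a) := by
        refine fun ⟨q, hq⟩ => ⟨1, Subtype.ext ?_⟩
        obtain ⟨k, rfl⟩ := hq
        apply Subtype.ext
        simp only [pow_one, SubmonoidClass.coe_pow, Subgroup.coe_zpow, OneMemClass.coe_one]
        rw [hgi, ← zpow_natCast, ← zpow_mul, mul_comm, zpow_mul, zpow_natCast, conj_pow, H.exp z hz, mul_one,
          mul_inv_cancel, one_zpow]
      obtain ⟨R, hR⟩ := hpa.exists_le_sylow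
      obtain ⟨k, hk⟩ := MulAction.exists_smul_eq K R PK
      have hka : k * a * k⁻¹ ∈ (PK : Subgroup K) := by
        rw [← hk, Sylow.coe_subgroup_smul]
        exact ⟨a, hR (Subgroup.mem_zpowers a), rfl⟩
      have hkaP : ((k * a * k⁻¹ : K) : G) ∈ (P : Subgroup G) := hka
      have hab : π (k * a * k⁻¹) = π a := by
        obtain ⟨l, hlP, hl⟩ := hsur k
        rw [map_mul, map_mul, map_inv, ← hl, ← hb, ← map_inv, ← map_mul, ← map_mul]
        congr 1
        exact Subtype.ext (by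
          show (l : G) * (b : G) * (l : G)⁻¹ = b
          rw [show (l : G) * b = b * l from congrArg Subtype.val (mul_comm' (⟨l, hlP⟩ : (P : Subgroup G)) ⟨b, hbP⟩),
            mul_inv_cancel_right])
      refine ⟨k * a * k⁻¹, ?_, hab⟩
      have hc' : IsConj z ((k * a * k⁻¹ : K) : G) := by
        refine isConj_iff.2 ⟨(k : G) * gi, ?_⟩
        simp only [Subgroup.coe_mul, Subgroup.coe_inv, hgi]
        group
      rcases H.conj_cases (x := ⟨z, hz⟩) (x' := ⟨_, hkaP⟩) hc' with e | e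
      · have e' : ((k * a * k⁻¹ : K) : G) = z := by exact congrArg Subtype.val e
        rw [e']
        exact Subgroup.mem_zpowers z
      · have e' : ((k * a * k⁻¹ : K) : G) = z⁻¹ := by exact congrArg Subtype.val e
        rw [e']
        exact Subgroup.inv_mem _ (Subgroup.mem_zpowers z)
    have hxK : x ∈ K := hcL hxL
    have hyK : y ∈ K := hPK hy
    have hx'K : x' ∈ K := by
      rw [show x' = x⁻¹ * y by rw [← hprod]; group]
      exact K.mul_mem (K.inv_mem hxK) hyK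
    obtain ⟨b, hb, hbe⟩ := key g₁ ⟨x, hxK⟩ hxd
    obtain ⟨b', hb', hbe'⟩ := key g₂ ⟨x', hx'K⟩ hx'd
    have hbz : ∀ q : K, (q : G) ∈ Subgroup.zpowers z → (q : G) ∈ (P : Subgroup G) := fun q hq =>
      (Subgroup.zpowers_le.2 hz : Subgroup.zpowers z ≤ P) hq
    have e1 : π (⟨y, hyK⟩ * (b * b')⁻¹) = 1 := by
      rw [map_mul, map_inv, map_mul, hbe, hbe', ← map_mul, ← map_inv, ← map_mul, ← map_one π]
      exact congrArg π (Subtype.ext (by
        show y * (x * x')⁻¹ = 1
        rw [← hprod, mul_inv_cancel]))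
    have e2 := congrArg Subtype.val (hinj _ ((P : Subgroup G).mul_mem hy (inv_mem (mul_mem (hbz b hb) (hbz b' hb')))) e1)
    exact hyz (mul_inv_eq_one.1 (show y * ((b : G) * b')⁻¹ = 1 from e2) ▸ Subgroup.mul_mem _ hb hb')
  · -- otherwise `x` and `y` generate conjugate Sylow subgroups
    haveI : Fact (Nat.Prime 3) := ⟨Nat.prime_three⟩
    have hx1 : x ≠ 1 := fun e => by
      rw [hxd, mul_inv_eq_one, mul_eq_left] at e
      rw [hxd, hx'd, e] at hprod
      simp only [mul_one, mul_inv_cancel] at hprod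
      exact hy1 hprod.symm
    have hox : orderOf x = 3 := orderOf_eq_prime hx3 hx1
    have hfac : (Nat.card L).factorization 3 = 1 := by
      rw [hcardL, Nat.factorization_mul Nat.card_pos.ne' (by norm_num), Finsupp.add_apply,
        Nat.factorization_eq_zero_of_not_dvd h3A, Nat.Prime.factorization_self Nat.prime_three]
    have hyL : y ∈ L := le_sup_right (a := A) (Subgroup.mem_zpowers y)
    let SX : Sylow 3 L := Sylow.ofCard (Subgroup.zpowers (⟨x, hxL⟩ : L)) (by
      rw [Nat.card_zpowers, Subgroup.orderOf_mk, hox, hfac, pow_one])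
    let SY : Sylow 3 L := Sylow.ofCard (Subgroup.zpowers (⟨y, hyL⟩ : L)) (by
      rw [Nat.card_zpowers, Subgroup.orderOf_mk, hoy, hfac, pow_one])
    obtain ⟨l, hl⟩ := MulAction.exists_smul_eq L SX SY
    have hmem : l * ⟨x, hxL⟩ * l⁻¹ ∈ (SY : Subgroup L) := by
      rw [← hl, Sylow.coe_subgroup_smul]
      exact ⟨_, Subgroup.mem_zpowers _, rfl⟩
    obtain ⟨i, hi⟩ := hmem
    have hi' : y ^ i = (l : G) * x * (l : G)⁻¹ := congrArg Subtype.val hi
    have hyi : y ^ i ∈ (P : Subgroup G) := zpow_mem hy i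
    have hc' : IsConj z (y ^ i) := by
      refine isConj_iff.2 ⟨(l : G) * g₁, ?_⟩
      rw [hi', hxd]; group
    have hz1 : z ≠ 1 := fun e => hx1 (by rw [hxd, e]; group)
    have hzy : z ∈ Subgroup.zpowers y := by
      rcases H.conj_cases (x := ⟨z, hz⟩) (x' := ⟨_, hyi⟩) hc' with e | e
      · exact ⟨i, congrArg Subtype.val e⟩
      · exact ⟨-i, by
          show y ^ (-i) = z
          rw [zpow_neg, show y ^ i = z⁻¹ from congrArg Subtype.val e, inv_inv]⟩
    have : Subgroup.zpowers z = Subgroup.zpowers y :=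
      Subgroup.eq_of_le_of_card_ge (Subgroup.zpowers_le.2 hzy)
        (by rw [Nat.card_zpowers, Nat.card_zpowers, hoy, orderOf_eq_prime (H.exp z hz) hz1])
    exact hyz (this ▸ Subgroup.mem_zpowers y)

open scoped Classical in
/-- The exceptional characters have degree two. -/
theorem degree_two {M : Ideal AlgInt} (hM : IsPModular 3 M) [Fintype (↥(P : Subgroup G) →* ℂˣ)]
    {y z : ↥(P : Subgroup G)} (hy : (y : G) ≠ 1) (hCy : Subgroup.centralizer ({(y : G)} : Set G) = P)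
    (hyz : (y : G) ∉ Subgroup.zpowers (z : G)) (hz : (z : G) ≠ 1) :
    ∃ (rep : Fin 4 → (↥(P : Subgroup G) →* ℂˣ)) (μ : Fin 4 → IrrCharacter G),
      (∀ i, rep i ≠ 1) ∧ (∀ i, (μ i : G → ℂ) 1 = 2) ∧
      (∀ i, ∀ x : ↥(P : Subgroup G), (x : G) ≠ 1 → (μ i : G → ℂ) (x : G) = orbSum (rep i) x) ∧
      ∀ x : ↥(P : Subgroup G), (x : G) ≠ 1 → ∑ i, orbSum (rep i) x = -1 := by
  have h := H.frobSylow
  obtain ⟨r, rep, idx, -, hcount, hrep, hidx, hmem, hconst⟩ := h.exists_orbit_index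
  obtain rfl : r = 4 := by rw [H.card] at hcount; omega
  have hI : OrbitIndex 2 rep idx := ⟨hcount, hrep, hidx, hmem, hconst⟩
  obtain ⟨X, μ, a, d, δ, hX⟩ := h.exists_principal_exc hM two_ne_zero (by norm_num) hI
  set e1 : IrrCharacter G := ⟨fun _ => 1, isIrrCharacter_one⟩ with he1
  have hsq : ∀ χ ∈ X, (1 : ℤ) ≤ a χ ^ 2 := fun χ hχ => sq_pos_of_ne_zero (hX.a_ne χ hχ)
  have hn := hX.norm
  rw [← Finset.add_sum_erase _ _ hX.one_mem, show a e1 = 1 from hX.one_val] at hn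
  push_cast at hn
  have hS0 : (0 : ℤ) ≤ ∑ χ ∈ X.erase e1, a χ ^ 2 := Finset.sum_nonneg fun χ _ => sq_nonneg _
  obtain rfl : d = 0 := by
    by_contra hd
    have : 1 ≤ d ^ 2 := sq_pos_of_ne_zero hd
    nlinarith [sq_nonneg (d - δ)]
  have hδ2 : δ ^ 2 = 1 := by rcases hX.sign with e | e <;> simp [e]
  have hS1 : ∑ χ ∈ X.erase e1, a χ ^ 2 = 1 := by nlinarith
  have hcard : ((X.erase e1).card : ℤ) ≤ 1 := by
    rw [← hS1, Finset.card_eq_sum_ones, Nat.cast_sum]
    exact Finset.sum_le_sum fun χ hχ => by simpa using hsq χ (Finset.mem_of_mem_erase hχ)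
  obtain ⟨χ₀, hχ₀⟩ : ∃ χ₀, X.erase e1 = {χ₀} := by
    refine Finset.card_eq_one.1 (le_antisymm (by exact_mod_cast hcard) (Finset.card_pos.2 ?_))
    rw [Finset.nonempty_iff_ne_empty]
    intro e
    rw [e, Finset.sum_empty] at hS1
    exact zero_ne_one hS1
  have hχX : χ₀ ∈ X := Finset.mem_of_mem_erase (hχ₀ ▸ Finset.mem_singleton_self χ₀)
  have ha : a χ₀ = 1 ∨ a χ₀ = -1 := by
    rw [hχ₀, Finset.sum_singleton] at hS1
    exact sq_eq_one_iff.1 hS1
  have hdeg : ∀ χ : IrrCharacter G, (χ : G → ℂ) 1 = (deg (χ : G → ℂ) : ℂ) ∧ 0 < deg (χ : G → ℂ) :=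
    fun χ => ⟨char_one_eq_deg (irr_isCharacter χ.2), deg_pos χ.2⟩
  set m₀ : ℕ := deg (χ₀ : G → ℂ) with hm₀
  set f : ℕ := deg (μ 0 : G → ℂ) with hf
  have h31 : ¬ 3 ∣ orderOf (1 : G) := by simp
  have hμ1 : ∀ i, (μ i : G → ℂ) 1 = (f : ℂ) := fun i => by rw [hX.reg i 0 1 h31, (hdeg _).1]
  -- the relation in degree one
  have hrel : (δ : ℤ) * f = 1 + a χ₀ * m₀ := by
    have h1 := hX.rel 0 1 h31
    rw [← Finset.add_sum_erase _ _ hX.one_mem, hχ₀, Finset.sum_singleton, hμ1, show a e1 = 1 from hX.one_val,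
      (hdeg χ₀).1] at h1
    have : ((δ * f : ℤ) : ℂ) = ((1 + a χ₀ * m₀ : ℤ) : ℂ) := by
      push_cast at h1 ⊢
      linear_combination -h1
    exact_mod_cast this
  -- values on `P`
  have hval : ∀ x : ↥(P : Subgroup G), (x : G) ≠ 1 → (χ₀ : G → ℂ) (x : G) = (a χ₀ : ℂ) ∧
      ∀ i, (μ i : G → ℂ) (x : G) = (δ : ℂ) * orbSum (rep i) x := fun x hx =>
    ⟨hX.a_val χ₀ hχX x (mem_nonOne.2 hx), fun i => by rw [hX.mu_val i x (mem_nonOne.2 hx)]; simp⟩
  have hsum : ∀ x : ↥(P : Subgroup G), (x : G) ≠ 1 → ∑ i, orbSum (rep i) x = -1 :=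
    fun x hx => h.sum_all_orbSum hI hx
  -- the mixed sum
  have hmix : ∑ i, orbSum (rep i) y * orbSum (rep i) z ^ 2 = -4 := by
    have hne : ∀ {v : ↥(P : Subgroup G)}, v = z ∨ v = z⁻¹ → ((y * v : ↥(P : Subgroup G)) : G) ≠ 1 := by
      intro v hv e
      rw [Subgroup.coe_mul, mul_eq_one_iff_eq_inv] at e
      refine hyz ?_
      rw [e]
      rcases hv with rfl | rfl
      · exact Subgroup.inv_mem _ (Subgroup.mem_zpowers _)
      · exact Subgroup.inv_mem _ (by rw [Subgroup.coe_inv]; exact Subgroup.inv_mem _ (Subgroup.mem_zpowers _))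
    have hterm : ∀ i, orbSum (rep i) y * orbSum (rep i) z ^ 2 =
        orbSum (rep i) (y * z) + orbSum (rep i) (y * z⁻¹) + 2 * orbSum (rep i) y := by
      intro i
      have e2 : orbSum (rep i) z ^ 2 = orbSum (rep i) z + 2 := by
        rcases (H.orbSum_val (hrep i) hz).2 with ⟨-, e⟩ | ⟨-, e⟩ <;> rw [e] <;> norm_num
      haveI := H.comm
      rw [e2, (H.orbSum_val (hrep i) hy).1, (H.orbSum_val (hrep i) hz).1, (H.orbSum_val (hrep i) (hne (Or.inl rfl))).1,
        (H.orbSum_val (hrep i) (hne (Or.inr rfl))).1]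
      simp only [mul_inv_rev, inv_inv, map_mul, map_inv, Units.val_mul]
      ring
    rw [Finset.sum_congr rfl fun i _ => hterm i, Finset.sum_add_distrib, Finset.sum_add_distrib, ← Finset.mul_sum,
      hsum _ (hne (Or.inl rfl)), hsum _ (hne (Or.inr rfl)), hsum y hy]
    norm_num
  -- no pairs
  have hzero : ∑ χ : IrrCharacter G,
      conj ((χ : G → ℂ) (y : G)) * ((χ : G → ℂ) (z : G) * (χ : G → ℂ) (z : G) / (χ : G → ℂ) 1) = 0 := by
    have h0 := Small.StructureConstantTwo.pairs_formula (z : G) (y : G)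
    rw [Finset.filter_eq_empty_iff.2 fun t _ => H.no_product y.2 hy hCy z.2 hyz t.1 t.2, Finset.card_empty,
      Nat.cast_zero] at h0
    exact (mul_eq_zero.1 h0.symm).resolve_left (Nat.cast_ne_zero.2 Nat.card_pos.ne')
  rw [← Finset.sum_subset (Finset.subset_univ (X ∪ Finset.univ.image μ)) fun χ _ hχ => ?_,
    Finset.sum_union ?_, Finset.sum_image fun i _ j _ e => hX.inj e, ← Finset.add_sum_erase _ _ hX.one_mem, hχ₀,
    Finset.sum_singleton] at hzero
  rotate_left
  · refine Finset.disjoint_left.2 fun χ hχ hχ' => ?_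
    obtain ⟨i, -, rfl⟩ := Finset.mem_image.1 hχ'
    exact hX.notMem i hχ
  · rw [H.vanish hM hy hCy fun hB => ?_, map_zero, zero_mul]
    rcases (hX.mem_iff χ).1 hB with hx | ⟨i, rfl⟩
    · exact hχ (Finset.mem_union_left _ hx)
    · exact hχ (Finset.mem_union_right _ (Finset.mem_image_of_mem _ (Finset.mem_univ i)))
  have hconjO : ∀ i, conj (orbSum (rep i) y) = orbSum (rep i) y := fun i => by
    rcases (H.orbSum_val (hrep i) hy).2 with ⟨-, e⟩ | ⟨-, e⟩ <;> rw [e]
    · exact map_ofNat _ 2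
    · rw [map_neg, map_one]
  simp only [(hval y hy).1, (hval z hz).1, (hval y hy).2, (hval z hz).2, hμ1, (hdeg χ₀).1, map_mul, map_intCast,
    hconjO, show ((e1 : IrrCharacter G) : G → ℂ) = fun _ => 1 from rfl, map_one] at hzero
  rw [Finset.sum_congr rfl (g := fun i => (δ : ℂ) ^ 3 / (f : ℂ) * (orbSum (rep i) y * orbSum (rep i) z ^ 2))
    fun i _ => by ring, ← Finset.mul_sum, hmix] at hzero
  have hm0 : (m₀ : ℂ) ≠ 0 := Nat.cast_ne_zero.2 (hdeg χ₀).2.ne'
  have hf0 : (f : ℂ) ≠ 0 := Nat.cast_ne_zero.2 (hdeg _).2.ne'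
  rw [← hm₀] at hzero
  field_simp at hzero
  have hz' : (m₀ : ℤ) * f + a χ₀ ^ 3 * f - 4 * δ ^ 3 * m₀ = 0 := by
    have : (((m₀ : ℤ) * f + a χ₀ ^ 3 * f - 4 * δ ^ 3 * m₀ : ℤ) : ℂ) = 0 := by
      push_cast
      linear_combination hzero
    exact_mod_cast this
  have hm1 : 1 ≤ (m₀ : ℤ) := by exact_mod_cast (hdeg χ₀).2
  have hf1 : 1 ≤ (f : ℤ) := by exact_mod_cast (hdeg (μ 0)).2
  obtain ⟨hδ, hf2⟩ : δ = 1 ∧ (f : ℤ) = 2 := by
    rcases hX.sign with rfl | rfl <;> rcases ha with e | e <;> rw [e] at hrel hz' <;>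
      refine ⟨?_, ?_⟩ <;> nlinarith [sq_nonneg ((m₀ : ℤ) - 1), sq_nonneg ((m₀ : ℤ) + 1)]
  refine ⟨rep, μ, hrep, fun i => ?_, fun i x hx => ?_, hsum⟩
  · rw [hμ1]; exact_mod_cast hf2
  · rw [(hval x hx).2 i, hδ, Int.cast_one, one_mul]

/-- The group is the product of a normal subgroup of order prime to three and `N(P)`. -/
theorem exists_normal {y y' : G} (hy : y ∈ (P : Subgroup G)) (hy1 : y ≠ 1)
    (hy' : y' ∈ (P : Subgroup G)) (hyy : y' ∉ Subgroup.zpowers y)
    (hCy : Subgroup.centralizer ({y} : Set G) = P) (hCy' : Subgroup.centralizer ({y'} : Set G) = P) :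
    ∃ W : Subgroup G, W.Normal ∧ ¬ 3 ∣ Nat.card W ∧
      W ⊔ Subgroup.normalizer ((P : Subgroup G) : Set G) = ⊤ := by
  classical
  haveI := H.comm
  obtain ⟨M, hM⟩ := exists_pModular Nat.prime_three
  haveI := H.frobSylow.finite_dual.1
  letI : Fintype (↥(P : Subgroup G) →* ℂˣ) := Fintype.ofFinite _
  have hy'1 : y' ≠ 1 := fun e => hyy (e ▸ Subgroup.one_mem _)
  have hoy : orderOf y = 3 := orderOf_eq_prime (H.exp y hy) hy1
  have hoy' : orderOf y' = 3 := orderOf_eq_prime (H.exp y' hy') hy'1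
  have hzy : y ∉ Subgroup.zpowers y' := fun h => hyy (by
    have : Subgroup.zpowers y = Subgroup.zpowers y' := Subgroup.eq_of_le_of_card_ge (Subgroup.zpowers_le.2 h)
      (by rw [Nat.card_zpowers, Nat.card_zpowers, hoy, hoy'])
    exact this ▸ Subgroup.mem_zpowers y')
  obtain ⟨rep, μ, hrep, hμ1, hμv, hsum⟩ := H.degree_two hM (y := ⟨y, hy⟩) (z := ⟨y', hy'⟩) hy1 hCy hzy hy'1
  -- kernels
  have hex : ∀ x : ↥(P : Subgroup G), (x : G) ≠ 1 → ∃ i, rep i x = 1 := by
    intro x hx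
    by_contra hno
    push Not at hno
    have h4 := hsum x hx
    rw [Finset.sum_congr rfl fun i _ =>
      (((H.orbSum_val (hrep i) hx).2).resolve_left fun h => hno i h.1).2] at h4
    norm_num at h4
  have hgen : ∀ (ψ : ↥(P : Subgroup G) →* ℂˣ), ψ ⟨y, hy⟩ = 1 → ψ ⟨y', hy'⟩ = 1 → ψ = 1 := by
    intro ψ h1 h2
    have hle : (P : Subgroup G) ≤ Subgroup.map (P : Subgroup G).subtype ψ.ker := by
      set T := Subgroup.map (P : Subgroup G).subtype ψ.ker with hT
      have hyT : y ∈ T := ⟨⟨y, hy⟩, h1, rfl⟩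
      have hy'T : y' ∈ T := ⟨⟨y', hy'⟩, h2, rfl⟩
      have hTP : T ≤ P := Subgroup.map_subtype_le _
      have hd := Subgroup.card_dvd_of_le hTP
      have h3 := Subgroup.card_dvd_of_le (Subgroup.zpowers_le.2 hyT)
      rw [Nat.card_zpowers, hoy] at h3
      obtain ⟨k, hk, e⟩ := (Nat.dvd_prime_pow Nat.prime_three).1 (show Nat.card T ∣ 3 ^ 2 by
        rw [show (3 : ℕ) ^ 2 = 9 from rfl, ← H.card]; exact hd)
      refine (Subgroup.eq_of_le_of_card_ge hTP ?_).ge
      rcases (show k = 0 ∨ k = 1 ∨ k = 2 by omega) with rfl | rfl | rfl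
      · rw [e] at h3; norm_num at h3
      · exfalso
        have : Subgroup.zpowers y = T := Subgroup.eq_of_le_of_card_ge (Subgroup.zpowers_le.2 hyT)
          (by rw [Nat.card_zpowers, hoy, e]; norm_num)
        exact hyy (this ▸ hy'T)
      · rw [e, H.card]; norm_num
    refine MonoidHom.ext fun x => ?_
    obtain ⟨x', hx', e⟩ := hle x.2
    rw [← Subtype.ext e]
    exact hx'
  obtain ⟨i, hi⟩ := hex ⟨y, hy⟩ hy1
  obtain ⟨j, hj⟩ := hex ⟨y', hy'⟩ hy'1
  set K := blockKerSub ({μ i} : Set (IrrCharacter G)) with hK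
  set K' := blockKerSub ({μ j} : Set (IrrCharacter G)) with hK'
  haveI hKn : K.Normal := blockKerSub_normal _
  haveI hK'n : K'.Normal := blockKerSub_normal _
  have memK : ∀ (k : Fin 4) {x : ↥(P : Subgroup G)}, (x : G) ≠ 1 →
      ((x : G) ∈ blockKerSub ({μ k} : Set (IrrCharacter G)) ↔ rep k x = 1) := by
    intro k x hx
    change (∀ χ ∈ ({μ k} : Set (IrrCharacter G)), (χ : G → ℂ) (x : G) = (χ : G → ℂ) 1) ↔ _
    simp only [Set.mem_singleton_iff, forall_eq, hμ1, hμv k x hx]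
    rcases (H.orbSum_val (hrep k) hx).2 with ⟨h1, e⟩ | ⟨h1, e⟩
    · simp [h1, e]
    · rw [e]; norm_num [h1]
  have hyK : y ∈ K := (memK i (x := ⟨y, hy⟩) hy1).2 hi
  have hy'K : y' ∈ K' := (memK j (x := ⟨y', hy'⟩) hy'1).2 hj
  -- the intersection
  set W := K ⊓ K' with hW
  haveI hWn : W.Normal := inferInstance
  have hW3 : ¬ 3 ∣ Nat.card W := by
    intro hd
    obtain ⟨w, hw⟩ := exists_prime_orderOf_dvd_card' 3 hd
    have hw3 : orderOf (w : G) = 3 := by rw [Subgroup.orderOf_coe, hw]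
    obtain ⟨Q, hQ⟩ := (IsPGroup.of_card (p := 3) (n := 1)
      (by rw [Nat.card_zpowers, hw3, pow_one]) : IsPGroup 3 (Subgroup.zpowers (w : G))).exists_le_sylow
    obtain ⟨g, hg⟩ := MulAction.exists_smul_eq G Q P
    have hcP : g * (w : G) * g⁻¹ ∈ (P : Subgroup G) := by
      rw [← hg, Sylow.coe_subgroup_smul]
      exact ⟨(w : G), hQ (Subgroup.mem_zpowers _), rfl⟩
    set x : ↥(P : Subgroup G) := ⟨_, hcP⟩ with hxd
    have hx1 : (x : G) ≠ 1 := fun e => by
      have : (w : G) = 1 := by rwa [hxd, conj_eq_one_iff] at e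
      rw [this, orderOf_one] at hw3
      norm_num at hw3
    have hxW : (x : G) ∈ W := hWn.conj_mem _ w.2 g
    have h1 := (memK i hx1).1 hxW.1
    have h2 := (memK j hx1).1 hxW.2
    -- each kernel meets `P` in a single line
    by_cases hxy : (x : G) ∈ Subgroup.zpowers y
    · obtain ⟨n, hn⟩ := hxy
      have hn' : (x : ↥(P : Subgroup G)) = (⟨y, hy⟩ : ↥(P : Subgroup G)) ^ n := Subtype.ext (by rw [Subgroup.coe_zpow]; exact hn.symm)
      have hr : rep j ⟨y, hy⟩ = 1 := by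
        have hy3 : (⟨y, hy⟩ : ↥(P : Subgroup G)) ∈ Subgroup.zpowers x := by
          have : Subgroup.zpowers x = Subgroup.zpowers (⟨y, hy⟩ : ↥(P : Subgroup G)) :=
            Subgroup.eq_of_le_of_card_ge (Subgroup.zpowers_le.2 ⟨n, hn'.symm⟩) (by
              rw [Nat.card_zpowers, Nat.card_zpowers, ← Subgroup.orderOf_coe, ← Subgroup.orderOf_coe, hoy,
                orderOf_eq_prime (H.exp _ hcP) hx1])
          exact this ▸ Subgroup.mem_zpowers _
        obtain ⟨l, hl⟩ := hy3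
        rw [← hl]
        simp only [map_zpow, h2, one_zpow]
      exact hrep j (hgen _ hr hj)
    · have hr : rep i ⟨y', hy'⟩ = 1 := by
        have hker : (P : Subgroup G) ≤ Subgroup.map (P : Subgroup G).subtype (rep i).ker := by
          set T := Subgroup.map (P : Subgroup G).subtype (rep i).ker with hT
          have hyT : y ∈ T := ⟨⟨y, hy⟩, hi, rfl⟩
          have hxT : (x : G) ∈ T := ⟨x, h1, rfl⟩
          have hTP : T ≤ P := Subgroup.map_subtype_le _
          have hd := Subgroup.card_dvd_of_le hTP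
          have h3 := Subgroup.card_dvd_of_le (Subgroup.zpowers_le.2 hyT)
          rw [Nat.card_zpowers, hoy] at h3
          obtain ⟨k, hk, e⟩ := (Nat.dvd_prime_pow Nat.prime_three).1 (show Nat.card T ∣ 3 ^ 2 by
            rw [show (3 : ℕ) ^ 2 = 9 from rfl, ← H.card]; exact hd)
          refine (Subgroup.eq_of_le_of_card_ge hTP ?_).ge
          rcases (show k = 0 ∨ k = 1 ∨ k = 2 by omega) with rfl | rfl | rfl
          · rw [e] at h3; norm_num at h3
          · exfalso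
            have : Subgroup.zpowers y = T := Subgroup.eq_of_le_of_card_ge (Subgroup.zpowers_le.2 hyT)
              (by rw [Nat.card_zpowers, hoy, e]; norm_num)
            exact hxy (this ▸ hxT)
          · rw [e, H.card]; norm_num
        obtain ⟨q, hq, e⟩ := hker hy'
        rw [show (⟨y', hy'⟩ : ↥(P : Subgroup G)) = q from (Subtype.ext e).symm]
        exact hq
      exact hrep i (hgen _ hi hr)
  refine ⟨W, hWn, hW3, ?_⟩
  -- every element of `K'` centralises `y` modulo `W`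
  set N := Subgroup.normalizer ((P : Subgroup G) : Set G) with hN
  have hdis : Disjoint W (Subgroup.zpowers y) := by
    rw [disjoint_iff]
    refine Subgroup.inf_eq_bot_of_coprime ?_
    rw [Nat.card_zpowers, hoy, Nat.coprime_comm]
    exact Nat.prime_three.coprime_iff_not_dvd.2 hW3
  set L := W ⊔ Subgroup.zpowers y with hL
  have hnW : Subgroup.zpowers y ≤ Subgroup.normalizer (W : Set G) := by
    rw [Subgroup.normalizer_eq_top]; exact le_top
  have hcardL : Nat.card L = Nat.card W * 3 := by rw [hL, card_sup_of_le_normalizer hnW hdis, Nat.card_zpowers, hoy]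
  have hfac : (Nat.card L).factorization 3 = 1 := by
    rw [hcardL, Nat.factorization_mul Nat.card_pos.ne' (by norm_num), Finsupp.add_apply,
      Nat.factorization_eq_zero_of_not_dvd hW3, Nat.Prime.factorization_self Nat.prime_three]
  have hyL : y ∈ L := le_sup_right (a := W) (Subgroup.mem_zpowers y)
  have hK'le : ∀ k ∈ K', k ∈ W ⊔ (P : Subgroup G) := by
    intro k hk
    have hcm : k * y * k⁻¹ * y⁻¹ ∈ W := by
      refine ⟨K.mul_mem (hKn.conj_mem y hyK k) (K.inv_mem hyK), ?_⟩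
      rw [mul_assoc, mul_assoc]
      refine K'.mul_mem hk ?_
      rw [← mul_assoc]
      exact hK'n.conj_mem _ (K'.inv_mem hk) y
    have hkL : k * y * k⁻¹ ∈ L := by
      rw [show k * y * k⁻¹ = (k * y * k⁻¹ * y⁻¹) * y by group]
      exact L.mul_mem (le_sup_left (b := Subgroup.zpowers y) hcm) hyL
    have hok : orderOf (k * y * k⁻¹) = 3 := by
      rw [← hoy]
      exact MulEquiv.orderOf_eq (MulAut.conj k) y
    let S1 : Sylow 3 L := Sylow.ofCard (Subgroup.zpowers (⟨_, hkL⟩ : L)) (by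
      rw [Nat.card_zpowers, Subgroup.orderOf_mk, hok, hfac, pow_one])
    let S2 : Sylow 3 L := Sylow.ofCard (Subgroup.zpowers (⟨y, hyL⟩ : L)) (by
      rw [Nat.card_zpowers, Subgroup.orderOf_mk, hoy, hfac, pow_one])
    obtain ⟨l, hl⟩ := MulAction.exists_smul_eq L S1 S2
    have hmem : l * ⟨_, hkL⟩ * l⁻¹ ∈ (S2 : Subgroup L) := by
      rw [← hl, Sylow.coe_subgroup_smul]
      exact ⟨_, Subgroup.mem_zpowers _, rfl⟩
    obtain ⟨n, hn⟩ := hmem
    have hn' : y ^ n = (l : G) * (k * y * k⁻¹) * (l : G)⁻¹ := congrArg Subtype.val hn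
    -- modulo `W` the exponent is one
    let π := QuotientGroup.mk' W
    have hpw : π (y ^ n) = π y := by
      obtain ⟨b, hb, w, hw, e⟩ : ∃ b ∈ Subgroup.zpowers y, ∃ w ∈ W, b * w = (l : G) := by
        have hl2 : (l : G) ∈ ((Subgroup.zpowers y ⊔ W : Subgroup G) : Set G) := by
          rw [sup_comm]; exact l.2
        rw [Subgroup.coe_mul_of_left_le_normalizer_right _ _ hnW] at hl2
        obtain ⟨b, hb, w, hw, e⟩ := hl2
        exact ⟨b, hb, w, hw, e⟩
      have hπw : ∀ v ∈ W, π v = 1 := fun v hv => (QuotientGroup.eq_one_iff v).2 hv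
      have hk' : π (k * y * k⁻¹) = π y := by
        rw [show k * y * k⁻¹ = (k * y * k⁻¹ * y⁻¹) * y by group, map_mul, hπw _ hcm, one_mul]
      obtain ⟨s, rfl⟩ := hb
      rw [hn', map_mul, map_mul, map_inv, hk', ← e, map_mul, hπw w hw, mul_one, ← map_inv, ← map_mul, ← map_mul]
      congr 1
      rw [(Commute.zpow_self y s).eq, mul_inv_cancel_right]
    have hyn : y ^ n = y := by
      have h1 : y ^ n * y⁻¹ ∈ W := (QuotientGroup.eq_one_iff _).1 (by
        show π (y ^ n * y⁻¹) = 1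
        rw [map_mul, map_inv, hpw, mul_inv_cancel])
      have h2 := Subgroup.disjoint_def.1 hdis h1 (Subgroup.mul_mem _ (Subgroup.zpow_mem _ (Subgroup.mem_zpowers y) n)
        (Subgroup.inv_mem _ (Subgroup.mem_zpowers y)))
      exact mul_inv_eq_one.1 h2
    rw [hyn] at hn'
    have hlk : (l : G) * k ∈ (P : Subgroup G) := by
      rw [← hCy, Subgroup.mem_centralizer_singleton_iff]
      calc (l : G) * k * y = (l : G) * (k * y * k⁻¹) * (l : G)⁻¹ * ((l : G) * k) := by group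
        _ = _ := by rw [← hn']
    have hlWP : (l : G) ∈ W ⊔ (P : Subgroup G) :=
      (sup_le_sup_left (Subgroup.zpowers_le.2 hy) W : L ≤ W ⊔ (P : Subgroup G)) l.2
    rw [show k = (l : G)⁻¹ * ((l : G) * k) by group]
    exact mul_mem (inv_mem hlWP) (le_sup_right (a := W) hlk)
  rw [eq_top_iff]
  intro g _
  -- Frattini
  have hgy : g * y' * g⁻¹ ∈ W ⊔ (P : Subgroup G) := hK'le _ (hK'n.conj_mem _ hy'K g)
  set L' := W ⊔ (P : Subgroup G) with hL'
  let SP : Sylow 3 L' := P.subtype le_sup_right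
  have ho' : (g * y' * g⁻¹) ^ 3 = 1 := by rw [conj_pow, H.exp y' hy', mul_one, mul_inv_cancel]
  obtain ⟨R, hR⟩ := (show IsPGroup 3 (Subgroup.zpowers (⟨_, hgy⟩ : L')) from by
    rintro ⟨q, k, rfl⟩
    refine ⟨1, Subtype.ext ?_⟩
    simp only [pow_one, SubmonoidClass.coe_pow, OneMemClass.coe_one]
    show ((⟨_, hgy⟩ : L') ^ k) ^ 3 = 1
    rw [← zpow_natCast, ← zpow_mul, mul_comm, zpow_mul, zpow_natCast,
      show (⟨_, hgy⟩ : L') ^ 3 = 1 from Subtype.ext ho', one_zpow]).exists_le_sylow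
  obtain ⟨l, hl⟩ := MulAction.exists_smul_eq L' R SP
  have hmem : l * ⟨_, hgy⟩ * l⁻¹ ∈ (SP : Subgroup L') := by
    rw [← hl, Sylow.coe_subgroup_smul]
    exact ⟨_, hR (Subgroup.mem_zpowers _), rfl⟩
  have hmem' : (l : G) * (g * y' * g⁻¹) * (l : G)⁻¹ ∈ (P : Subgroup G) := hmem
  obtain ⟨n, hn, he⟩ := H.frobSylow.fusion (y := ⟨y', hy'⟩) (y' := ⟨_, hmem'⟩)
    (isConj_iff.2 ⟨(l : G) * g, by show (l : G) * g * y' * ((l : G) * g)⁻¹ = _; group⟩)
  have hcen : n⁻¹ * ((l : G) * g) ∈ (P : Subgroup G) := by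
    rw [← hCy', Subgroup.mem_centralizer_singleton_iff]
    have he' : n * y' * n⁻¹ = (l : G) * (g * y' * g⁻¹) * (l : G)⁻¹ := he
    calc n⁻¹ * ((l : G) * g) * y' = n⁻¹ * ((l : G) * (g * y' * g⁻¹) * (l : G)⁻¹) * n * (n⁻¹ * ((l : G) * g)) := by group
      _ = _ := by rw [← he']; group
  have hPN : (P : Subgroup G) ≤ N := Subgroup.le_normalizer
  have hlW : (l : G) ∈ W ⊔ N := (sup_le_sup_left hPN W) l.2
  rw [show g = (l : G)⁻¹ * (n * (n⁻¹ * ((l : G) * g))) by group]
  exact mul_mem (inv_mem hlW) (le_sup_right (a := W) (mul_mem hn (hPN hcen)))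

end Inverted

end Cfsg.Agent.Char.NineInverted
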