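import Cfsg.Agent.Lib.Solv.PGroupPhi
import Mathlib

/-!
# Toggling normal chains of subgroups of prime power order at an element
-/

set_option autoImplicit false
set_option linter.style.haveILetI false
set_option linter.unusedSectionVars false

open scoped Classical

namespace Cfsg.Agent.Char.NormalChains

universe u

variable {G : Type u} [Group G] [Fintype G] {p : ℕ}

/-- A nonempty chain of nontrivial subgroups of `p`-power order normalising each other. -/
structure Good (p : ℕ) (s : Finset (Subgroup G)) : Prop where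
  ne : s.Nonempty
  chain : ∀ Q ∈ s, ∀ R ∈ s, Q ≤ R ∨ R ≤ Q
  pgroup : ∀ Q ∈ s, Q ≠ ⊥ ∧ IsPGroup p Q
  norm : ∀ Q ∈ s, ∀ R ∈ s, R ≤ Subgroup.normalizer (Q : Set G)

theorem exists_top {s : Finset (Subgroup G)} (hne : s.Nonempty)
    (hc : ∀ Q ∈ s, ∀ R ∈ s, Q ≤ R ∨ R ≤ Q) : ∃ T ∈ s, ∀ Q ∈ s, Q ≤ T := by
  obtain ⟨T, hT, hmax⟩ := Finset.exists_max_image s (fun Q => Nat.card Q) hne
  refine ⟨T, hT, fun Q hQ => (hc Q hQ T hT).elim id fun h => ?_⟩
  rw [Subgroup.eq_of_le_of_card_ge h (hmax Q hQ)]

theorem good_iff (s : Finset (Subgroup G)) :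
    Good p s ↔ s.Nonempty ∧ (∀ Q ∈ s, ∀ R ∈ s, Q ≤ R ∨ R ≤ Q) ∧ (∀ Q ∈ s, Q ≠ ⊥ ∧ IsPGroup p Q) ∧
      ∃ T ∈ s, ∀ Q ∈ s, Q ≤ T ∧ T ≤ Subgroup.normalizer ((Q : Subgroup G) : Set G) := by
  constructor
  · intro h
    obtain ⟨T, hT, hmax⟩ := exists_top h.ne h.chain
    exact ⟨h.ne, h.chain, h.pgroup, T, hT, fun Q hQ => ⟨hmax Q hQ, h.norm Q hQ T hT⟩⟩
  · rintro ⟨h1, h2, h3, T, -, hT⟩
    exact ⟨h1, h2, h3, fun Q hQ R hR => (hT R hR).1.trans (hT Q hQ).2⟩

/-- The common normalizer of the members. -/
def stab (s : Finset (Subgroup G)) : Subgroup G := ⨅ Q ∈ s, Subgroup.normalizer ((Q : Subgroup G) : Set G)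

theorem mem_stab {s : Finset (Subgroup G)} {g : G} :
    g ∈ stab s ↔ ∀ Q ∈ s, g ∈ Subgroup.normalizer ((Q : Subgroup G) : Set G) := by
  simp only [stab, Subgroup.mem_iInf]

theorem mem_normalizer_of_conj {P : Subgroup G} {n : G} (h : ∀ x ∈ P, n * x * n⁻¹ ∈ P) :
    n ∈ Subgroup.normalizer (P : Set G) := by
  have hle : P.map (MulAut.conj n).toMonoidHom ≤ P := by
    rintro _ ⟨x, hx, rfl⟩
    exact h x hx
  have heq : P.map (MulAut.conj n).toMonoidHom = P := Subgroup.eq_of_le_of_card_ge hle
    (le_of_eq (Subgroup.card_map_of_injective (MulAut.conj n).injective).symm)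
  refine Subgroup.mem_normalizer_iff.2 fun x => ⟨h x, fun hx => ?_⟩
  rw [← heq] at hx
  obtain ⟨y, hy, hyx⟩ := hx
  rwa [← (MulAut.conj n).injective (hyx : MulAut.conj n y = MulAut.conj n x)]

theorem mem_normalizer_sup {A B : Subgroup G} {g : G} (hA : g ∈ Subgroup.normalizer (A : Set G))
    (hB : g ∈ Subgroup.normalizer (B : Set G)) : g ∈ Subgroup.normalizer ((A ⊔ B : Subgroup G) : Set G) := by
  refine mem_normalizer_of_conj fun x hx => ?_
  have h1 : MulAut.conj g x ∈ (A ⊔ B).map (MulAut.conj g).toMonoidHom := ⟨x, hx, rfl⟩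
  rw [Subgroup.map_sup] at h1
  refine SetLike.le_def.1 (sup_le_sup ?_ ?_) h1
  · rintro _ ⟨a, ha, rfl⟩; exact (Subgroup.mem_normalizer_iff.1 hA a).1 ha
  · rintro _ ⟨a, ha, rfl⟩; exact (Subgroup.mem_normalizer_iff.1 hB a).1 ha

/-- The member just below the element. -/
noncomputable def below (u : G) (s : Finset (Subgroup G)) : Subgroup G := (s.filter fun Q => u ∉ Q).sup id

/-- The subgroup to toggle. -/
noncomputable def pivot (u : G) (s : Finset (Subgroup G)) : Subgroup G :=
  sInf {X : Subgroup G | below u s ⊔ Subgroup.zpowers u ≤ X ∧ ∀ R ∈ s, R ≤ Subgroup.normalizer (X : Set G)}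

variable {u : G} {s : Finset (Subgroup G)}

theorem below_cases (hs : ∀ Q ∈ s, ∀ R ∈ s, Q ≤ R ∨ R ≤ Q) :
    below u s = ⊥ ∨ (below u s ∈ s ∧ u ∉ below u s) := by
  rcases (s.filter fun Q => u ∉ Q).eq_empty_or_nonempty with h | h
  · exact Or.inl (by rw [below, h, Finset.sup_empty])
  · obtain ⟨T, hT, hmax⟩ := exists_top h fun Q hQ R hR =>
      hs Q (Finset.mem_filter.1 hQ).1 R (Finset.mem_filter.1 hR).1
    have e : below u s = T := le_antisymm (Finset.sup_le hmax) (Finset.le_sup (f := id) hT)
    exact Or.inr (e ▸ Finset.mem_filter.1 hT)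

theorem le_below {R : Subgroup G} (hR : R ∈ s) (hu : u ∉ R) : R ≤ below u s :=
  Finset.le_sup (f := id) (Finset.mem_filter.2 ⟨hR, hu⟩)

theorem sup_le_pivot : below u s ⊔ Subgroup.zpowers u ≤ pivot u s := le_sInf fun _ hX => hX.1

theorem mem_pivot : u ∈ pivot u s :=
  (le_sup_right.trans sup_le_pivot : Subgroup.zpowers u ≤ pivot u s) (Subgroup.mem_zpowers u)

theorem pivot_le {X : Subgroup G} (h1 : below u s ⊔ Subgroup.zpowers u ≤ X)
    (h2 : ∀ R ∈ s, R ≤ Subgroup.normalizer (X : Set G)) : pivot u s ≤ X := sInf_le ⟨h1, h2⟩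

theorem le_normalizer_pivot {R : Subgroup G} (hR : R ∈ s) : R ≤ Subgroup.normalizer (pivot u s : Set G) :=
  fun g hg => mem_normalizer_of_conj fun x hx => Subgroup.mem_sInf.2 fun X hX =>
    (Subgroup.mem_normalizer_iff.1 (hX.2 R hR hg) x).1 (Subgroup.mem_sInf.1 hx X hX)

theorem pivot_le_of_mem (hs : Good p s) {R : Subgroup G} (hR : R ∈ s) (hu : u ∈ R) : pivot u s ≤ R := by
  refine pivot_le (sup_le ?_ (Subgroup.zpowers_le.2 hu)) fun Q hQ => hs.norm R hR Q hQ
  rcases below_cases (u := u) hs.chain with h | ⟨h, hn⟩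
  · rw [h]; exact bot_le
  · exact (hs.chain _ h R hR).resolve_right fun h' => hn (h' hu)

theorem pivot_eq_of_none (hnone : ∀ R ∈ s, u ∉ R) :
    pivot u s = below u s ⊔ Subgroup.zpowers u :=
  le_antisymm (pivot_le le_rfl fun R hR =>
    ((le_below hR (hnone R hR)).trans le_sup_left).trans Subgroup.le_normalizer) sup_le_pivot

theorem zpowers_le_stab (hu : u ∈ stab s) : Subgroup.zpowers u ≤ stab s := Subgroup.zpowers_le.2 hu

theorem pgroup_sup [Fact p.Prime] (hs : Good p s) (hu : u ∈ stab s) (hup : ∃ k : ℕ, orderOf u = p ^ k) :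
    IsPGroup p (below u s ⊔ Subgroup.zpowers u : Subgroup G) := by
  obtain ⟨k, hk⟩ := hup
  have hZ : IsPGroup p (Subgroup.zpowers u) := IsPGroup.of_card (n := k) (by rw [Nat.card_zpowers, hk])
  rcases below_cases (u := u) hs.chain with h | ⟨h, -⟩
  · rwa [h, bot_sup_eq]
  · exact IsPGroup.to_sup_of_normal_left' (hs.pgroup _ h).2 hZ
      (Subgroup.zpowers_le.2 (mem_stab.1 hu _ h))

theorem pgroup_pivot [Fact p.Prime] (hs : Good p s) (hu : u ∈ stab s) (hup : ∃ k : ℕ, orderOf u = p ^ k) :
    IsPGroup p (pivot u s) := by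
  by_cases h : ∃ R ∈ s, u ∈ R
  · obtain ⟨R, hR, huR⟩ := h
    exact (hs.pgroup R hR).2.to_le (pivot_le_of_mem hs hR huR)
  · push Not at h
    rw [pivot_eq_of_none h]
    exact pgroup_sup hs hu hup

theorem pivot_le_normalizer (hs : Good p s) (hu : u ∈ stab s) {R : Subgroup G} (hR : R ∈ s) :
    pivot u s ≤ Subgroup.normalizer (R : Set G) := by
  by_cases h : ∃ T ∈ s, u ∈ T
  · obtain ⟨T, hT, huT⟩ := h
    exact (pivot_le_of_mem hs hT huT).trans (hs.norm R hR T hT)
  · push Not at h
    rw [pivot_eq_of_none h]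
    refine sup_le ?_ (Subgroup.zpowers_le.2 (mem_stab.1 hu R hR))
    rcases below_cases (u := u) hs.chain with hb | ⟨hb, -⟩
    · rw [hb]; exact bot_le
    · exact hs.norm R hR _ hb

theorem mem_normalizer_pivot (hs : Good p s) {g : G} (hg : g ∈ stab s) (hgu : g * u = u * g) :
    g ∈ Subgroup.normalizer (pivot u s : Set G) := by
  refine mem_normalizer_of_conj fun x hx => Subgroup.mem_sInf.2 fun X hX => ?_
  have hfix : g ∈ Subgroup.normalizer ((below u s ⊔ Subgroup.zpowers u : Subgroup G) : Set G) := by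
    refine mem_normalizer_sup ?_ (mem_normalizer_of_conj ?_)
    · rcases below_cases (u := u) hs.chain with h | ⟨h, -⟩
      · rw [h]
        exact mem_normalizer_of_conj fun y hy => by
          rw [Subgroup.mem_bot.1 hy, mul_one, mul_inv_cancel]
          exact one_mem _
      · exact mem_stab.1 hg _ h
    · intro y hy
      obtain ⟨m, rfl⟩ := Subgroup.mem_zpowers_iff.1 hy
      rw [((Commute.zpow_right (show Commute g u from hgu) m)).eq, mul_inv_cancel_right]
      exact Subgroup.zpow_mem _ (Subgroup.mem_zpowers u) m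
  have h1 : pivot u s ≤ X.comap (MulAut.conj g).toMonoidHom := by
    refine pivot_le (fun y hy => hX.1 ((Subgroup.mem_normalizer_iff.1 hfix y).1 hy)) fun R hR r hr => ?_
    refine mem_normalizer_of_conj fun y hy => ?_
    rw [Subgroup.mem_comap] at hy ⊢
    have hr' : g * r * g⁻¹ ∈ R := (Subgroup.mem_normalizer_iff.1 (mem_stab.1 hg R hR) r).1 hr
    have h2 := (Subgroup.mem_normalizer_iff.1 (hX.2 R hR hr') _).1 hy
    simp only [MulEquiv.coe_toMonoidHom, MulAut.conj_apply] at h2 ⊢
    convert h2 using 1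
    group
  exact h1 hx

theorem top_eq [Fact p.Prime] {T X : Subgroup G} (hT : IsPGroup p T) (hXT : X ≤ T)
    (h : ∀ Y : Subgroup G, X ≤ Y → Y ≤ T → T ≤ Subgroup.normalizer (Y : Set G) → Y = T) : X = T := by
  rcases eq_top_or_exists_le_coatom (X.subgroupOf T) with h1 | ⟨M, hM, hXM⟩
  · exact le_antisymm hXT (Subgroup.subgroupOf_eq_top.1 h1)
  · exfalso
    have hMn := Solv.coatom_normal hT hM
    have hY := h (M.map T.subtype) (fun x hx => ⟨⟨x, hXT hx⟩, hXM (Subgroup.mem_subgroupOf.2 hx), rfl⟩)
      (Subgroup.map_subtype_le M) (fun t ht => mem_normalizer_of_conj (by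
        rintro _ ⟨m, hm, rfl⟩
        exact ⟨⟨t, ht⟩ * m * ⟨t, ht⟩⁻¹, hMn.conj_mem m hm ⟨t, ht⟩, rfl⟩))
    refine hM.1 (Subgroup.map_injective T.subtype_injective ?_)
    rw [hY, ← MonoidHom.range_eq_map, Subgroup.range_subtype]

theorem below_congr {t : Finset (Subgroup G)}
    (h : s.filter (fun Q => u ∉ Q) = t.filter fun Q => u ∉ Q) : below u s = below u t := by
  rw [below, below, h]

theorem below_insert : below u (insert (pivot u s) s) = below u s :=
  below_congr (by rw [Finset.filter_insert, if_neg (not_not.2 mem_pivot)])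

theorem below_erase : below u (s.erase (pivot u s)) = below u s :=
  below_congr (by rw [Finset.filter_erase, Finset.erase_eq_of_notMem (by simp [mem_pivot])])

theorem pivot_insert (u : G) (s : Finset (Subgroup G)) : pivot u (insert (pivot u s) s) = pivot u s := by
  refine le_antisymm (pivot_le ?_ ?_) (pivot_le ?_ ?_)
  · rw [below_insert]; exact sup_le_pivot
  · intro R hR
    rcases Finset.mem_insert.1 hR with rfl | h
    · exact Subgroup.le_normalizer
    · exact le_normalizer_pivot h
  · exact (below_insert (u := u) (s := s)).symm.le.trans' le_rfl |> fun h =>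
      (sup_le_sup_right h _).trans sup_le_pivot
  · exact fun R hR => le_normalizer_pivot (Finset.mem_insert_of_mem hR)

theorem pivot_erase [Fact p.Prime] (hs : Good p s) (hu : u ∈ stab s) (hup : ∃ k : ℕ, orderOf u = p ^ k) :
    pivot u (s.erase (pivot u s)) = pivot u s := by
  refine le_antisymm (pivot_le ?_ fun R hR => le_normalizer_pivot (Finset.mem_of_mem_erase hR))
    (pivot_le ?_ fun R hR => ?_)
  · rw [below_erase]; exact sup_le_pivot
  · conv_lhs => rw [← below_erase]
    exact sup_le_pivot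
  · by_cases hRQ : R = pivot u s
    · subst hRQ
      by_cases h : ∃ T ∈ s.erase (pivot u s), u ∈ T
      · obtain ⟨T, hT, huT⟩ := h
        exact (pivot_le_of_mem hs (Finset.mem_of_mem_erase hT) huT).trans (le_normalizer_pivot hT)
      · push Not at h
        have e : below u s ⊔ Subgroup.zpowers u = pivot u s := by
          refine top_eq (pgroup_pivot hs hu hup) sup_le_pivot fun Y hXY hYT hTY => ?_
          refine le_antisymm hYT (pivot_le hXY fun R hR' => ?_)
          by_cases hR2 : R = pivot u s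
          · rw [hR2]; exact hTY
          · exact ((le_below hR' (h R (Finset.mem_erase.2 ⟨hR2, hR'⟩))).trans
              (le_sup_left.trans hXY)).trans Subgroup.le_normalizer
        rw [pivot_eq_of_none h, below_erase, e]
        exact Subgroup.le_normalizer
    · exact le_normalizer_pivot (Finset.mem_erase.2 ⟨hRQ, hR⟩)

theorem good_insert [Fact p.Prime] (hs : Good p s) (hu : u ∈ stab s) (hu1 : u ≠ 1)
    (hup : ∃ k : ℕ, orderOf u = p ^ k) : Good p (insert (pivot u s) s) := by
  refine ⟨Finset.insert_nonempty _ _, ?_, ?_, ?_⟩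
  · have hc : ∀ R ∈ s, pivot u s ≤ R ∨ R ≤ pivot u s := fun R hR => by
      by_cases h : u ∈ R
      · exact Or.inl (pivot_le_of_mem hs hR h)
      · exact Or.inr ((le_below hR h).trans (le_sup_left.trans sup_le_pivot))
    intro Q hQ R hR
    rcases Finset.mem_insert.1 hQ with rfl | hQ <;> rcases Finset.mem_insert.1 hR with rfl | hR
    · exact Or.inl le_rfl
    · exact hc R hR
    · exact (hc Q hQ).symm
    · exact hs.chain Q hQ R hR
  · intro Q hQ
    rcases Finset.mem_insert.1 hQ with rfl | hQ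
    · refine ⟨fun h => hu1 ?_, pgroup_pivot hs hu hup⟩
      have := mem_pivot (u := u) (s := s)
      rwa [h, Subgroup.mem_bot] at this
    · exact hs.pgroup Q hQ
  · intro Q hQ R hR
    rcases Finset.mem_insert.1 hQ with rfl | hQ <;> rcases Finset.mem_insert.1 hR with rfl | hR
    · exact Subgroup.le_normalizer
    · exact le_normalizer_pivot hR
    · exact pivot_le_normalizer hs hu hQ
    · exact hs.norm Q hQ R hR

theorem erase_nonempty [Fact p.Prime] (hs : Good p s) (hu : u ∈ stab s)
    (hup : ∃ k : ℕ, orderOf u = p ^ k) (hne : s ≠ {Subgroup.zpowers u}) :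
    (s.erase (pivot u s)).Nonempty := by
  rcases (s.erase (pivot u s)).eq_empty_or_nonempty with h | h
  · exfalso
    have h1 : pivot u (s.erase (pivot u s)) = Subgroup.zpowers u := by
      rw [h, pivot_eq_of_none (fun R hR => absurd hR (Finset.notMem_empty R)), below,
        Finset.filter_empty, Finset.sup_empty, bot_sup_eq]
    rw [pivot_erase hs hu hup] at h1
    rcases (Finset.erase_eq_empty_iff s _).1 h with h2 | h2
    · exact hs.ne.ne_empty h2
    · exact hne (by rw [h2, h1])
  · exact h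

theorem good_erase (hs : Good p s) {Q : Subgroup G} (h : (s.erase Q).Nonempty) : Good p (s.erase Q) :=
  ⟨h, fun A hA B hB => hs.chain A (Finset.mem_of_mem_erase hA) B (Finset.mem_of_mem_erase hB),
    fun A hA => hs.pgroup A (Finset.mem_of_mem_erase hA),
    fun A hA B hB => hs.norm A (Finset.mem_of_mem_erase hA) B (Finset.mem_of_mem_erase hB)⟩

/-- Signed sums over the chains stabilised by an element collapse to the cyclic chain. -/
theorem sum_toggle [Fact p.Prime] (hu1 : u ≠ 1) (hup : ∃ k : ℕ, orderOf u = p ^ k) (F : Subgroup G → ℤ) :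
    ∑ s : Finset (Subgroup G) with Good p s ∧ u ∈ stab s,
      (-1 : ℤ) ^ (s.card - 1) * F (stab s ⊓ Subgroup.centralizer ({u} : Set G)) =
        F (Subgroup.centralizer ({u} : Set G)) := by
  set f : Finset (Subgroup G) → ℤ := fun s =>
    (-1 : ℤ) ^ (s.card - 1) * F (stab s ⊓ Subgroup.centralizer ({u} : Set G)) with hf
  have hZn : u ∈ Subgroup.normalizer (Subgroup.zpowers u : Set G) :=
    Subgroup.le_normalizer (Subgroup.mem_zpowers u)
  have hstab : stab ({Subgroup.zpowers u} : Finset (Subgroup G)) =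
      Subgroup.normalizer (Subgroup.zpowers u : Set G) := by
    ext g
    simp [mem_stab]
  obtain ⟨k, hk⟩ := hup
  have hZ : IsPGroup p (Subgroup.zpowers u) := IsPGroup.of_card (n := k) (by rw [Nat.card_zpowers, hk])
  have hmem : ({Subgroup.zpowers u} : Finset (Subgroup G)) ∈
      Finset.univ.filter fun s : Finset (Subgroup G) => Good p s ∧ u ∈ stab s := by
    refine Finset.mem_filter.2 ⟨Finset.mem_univ _, ⟨Finset.singleton_nonempty _, ?_, ?_, ?_⟩, by rw [hstab]; exact hZn⟩
    · intro Q hQ R hR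
      rw [Finset.mem_singleton] at hQ hR
      exact Or.inl (by rw [hQ, hR])
    · intro Q hQ
      rw [Finset.mem_singleton] at hQ
      subst hQ
      exact ⟨fun h => hu1 (Subgroup.zpowers_eq_bot.1 h), hZ⟩
    · intro Q hQ R hR
      rw [Finset.mem_singleton] at hQ hR
      subst hQ hR
      exact Subgroup.le_normalizer
  rw [← Finset.add_sum_erase _ f hmem]
  have hCN : Subgroup.centralizer ({u} : Set G) ≤ Subgroup.normalizer (Subgroup.zpowers u : Set G) := by
    rw [show Subgroup.centralizer ({u} : Set G) = Subgroup.centralizer (Subgroup.zpowers u : Set G) by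
      rw [Subgroup.zpowers_eq_closure, Subgroup.centralizer_closure]]
    exact Subgroup.centralizer_le_normalizer _
  have h1 : f {Subgroup.zpowers u} = F (Subgroup.centralizer ({u} : Set G)) := by
    simp only [hf, hstab, Finset.card_singleton, Nat.sub_self, pow_zero, one_mul, inf_eq_right.2 hCN]
  rw [h1, add_eq_left]
  set g : Finset (Subgroup G) → Finset (Subgroup G) := fun s =>
    if pivot u s ∈ s then s.erase (pivot u s) else insert (pivot u s) s with hg
  have hstab_eq : ∀ s, Good p s → stab (insert (pivot u s) s) ⊓ Subgroup.centralizer ({u} : Set G) =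
      stab s ⊓ Subgroup.centralizer ({u} : Set G) := by
    intro s hs
    ext x
    simp only [Subgroup.mem_inf, mem_stab, Finset.mem_insert, forall_eq_or_imp]
    refine ⟨fun h => ⟨h.1.2, h.2⟩, fun h => ⟨⟨?_, h.1⟩, h.2⟩⟩
    exact mem_normalizer_pivot hs (mem_stab.2 h.1) (Subgroup.mem_centralizer_singleton_iff.1 h.2)
  have hgood : ∀ s ∈ (Finset.univ.filter fun s : Finset (Subgroup G) => Good p s ∧ u ∈ stab s).erase
      {Subgroup.zpowers u}, (Good p (g s) ∧ u ∈ stab (g s) ∧ g s ≠ {Subgroup.zpowers u}) ∧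
        g (g s) = s ∧ f s + f (g s) = 0 ∧ g s ≠ s := by
    intro s hs
    simp only [Finset.mem_erase, Finset.mem_filter, Finset.mem_univ, true_and] at hs
    obtain ⟨hne, hs, hu⟩ := hs
    by_cases hQ : pivot u s ∈ s
    · have hg1 : g s = s.erase (pivot u s) := if_pos hQ
      have hn := erase_nonempty hs hu ⟨k, hk⟩ hne
      have hs' := good_erase hs hn
      have hu' : u ∈ stab (s.erase (pivot u s)) :=
        mem_stab.2 fun R hR => mem_stab.1 hu R (Finset.mem_of_mem_erase hR)
      have hp := pivot_erase hs hu ⟨k, hk⟩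
      have hins : insert (pivot u s) (s.erase (pivot u s)) = s := Finset.insert_erase hQ
      refine ⟨⟨hg1 ▸ hs', hg1 ▸ hu', ?_⟩, ?_, ?_, ?_⟩
      · intro h
        rw [hg1] at h
        have h2 : pivot u (s.erase (pivot u s)) = Subgroup.zpowers u := by
          rw [h]
          refine le_antisymm (pivot_le ?_ ?_) (le_sup_right.trans sup_le_pivot)
          · rw [below, Finset.filter_singleton, if_neg (not_not.2 (Subgroup.mem_zpowers u)),
              Finset.sup_empty, bot_sup_eq]
          · intro R hR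
            rw [Finset.mem_singleton] at hR
            rw [hR]
            exact Subgroup.le_normalizer
        rw [hp] at h2
        have h3 : Subgroup.zpowers u ∈ s.erase (pivot u s) := h ▸ Finset.mem_singleton_self _
        exact Finset.ne_of_mem_erase h3 h2.symm
      · rw [hg1]
        show (if pivot u (s.erase (pivot u s)) ∈ s.erase (pivot u s) then _ else _) = s
        rw [hp, if_neg (Finset.notMem_erase _ _), hins]
      · rw [hg1]
        have e := hstab_eq _ hs'
        rw [hp, hins] at e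
        simp only [hf]
        rw [e, Finset.card_erase_of_mem hQ]
        obtain ⟨m, hm⟩ := Nat.exists_eq_add_of_le hn.card_pos
        rw [Finset.card_erase_of_mem hQ] at hm
        rw [hm]
        simp [pow_add]
      · rw [hg1]
        exact fun h => Finset.notMem_erase (pivot u s) s (h.symm ▸ hQ)
    · have hg1 : g s = insert (pivot u s) s := if_neg hQ
      have hs' := good_insert hs hu hu1 ⟨k, hk⟩
      refine ⟨⟨hg1 ▸ hs', ?_, ?_⟩, ?_, ?_, ?_⟩
      · rw [hg1, mem_stab]
        intro R hR
        rcases Finset.mem_insert.1 hR with rfl | hR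
        · exact Subgroup.le_normalizer mem_pivot
        · exact mem_stab.1 hu R hR
      · intro h
        rw [hg1] at h
        obtain ⟨R, hR⟩ := hs.ne
        have h1 : pivot u s ∈ ({Subgroup.zpowers u} : Finset (Subgroup G)) := h ▸ Finset.mem_insert_self _ _
        have h2 : R ∈ ({Subgroup.zpowers u} : Finset (Subgroup G)) := h ▸ Finset.mem_insert_of_mem hR
        rw [Finset.mem_singleton] at h1 h2
        exact hQ (h1 ▸ h2 ▸ hR)
      · rw [hg1]
        show (if pivot u (insert (pivot u s) s) ∈ insert (pivot u s) s then _ else _) = s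
        rw [if_pos (show pivot u (insert (pivot u s) s) ∈ insert (pivot u s) s by
          rw [pivot_insert]; exact Finset.mem_insert_self _ _), pivot_insert, Finset.erase_insert hQ]
      · rw [hg1]
        simp only [hf, hstab_eq s hs, Finset.card_insert_of_notMem hQ]
        obtain ⟨m, hm⟩ := Nat.exists_eq_add_of_le hs.ne.card_pos
        rw [hm]
        simp [pow_add]
      · rw [hg1]
        intro h
        have h2 := Finset.mem_insert_self (pivot u s) s
        rw [h] at h2
        exact hQ h2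
  exact Finset.sum_involution (fun s _ => g s) (fun s hs => (hgood s hs).2.2.1)
    (fun s hs _ => (hgood s hs).2.2.2)
    (fun s hs => Finset.mem_erase.2 ⟨(hgood s hs).1.2.2,
      Finset.mem_filter.2 ⟨Finset.mem_univ _, (hgood s hs).1.1, (hgood s hs).1.2.1⟩⟩)
    (fun s hs => (hgood s hs).2.1)

end Cfsg.Agent.Char.NormalChains
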