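import Cfsg.Agent.Lib.Char.LocalRankFormula
import Cfsg.Agent.Lib.Char.NormalChainToggle

/-!
# The alternating sum over normal chains of characters minus rank
-/

set_option autoImplicit false
set_option linter.style.haveILetI false
set_option linter.unusedSectionVars false

open Cfsg
open scoped Classical

namespace Cfsg.Agent.Char.NormalChains

universe u

variable {G : Type u} [Group G] [Fintype G] {M : Ideal AlgInt} {p : ℕ}

/-- The characters of `H` in blocks inducing `b`. -/
def overBlock (M : Ideal AlgInt) (H : Subgroup G) (b : Set (IrrCharacter G)) : Set (IrrCharacter H) :=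
  {ψ | ∃ β : Set (IrrCharacter H), ψ ∈ β ∧ IsInducedBlock M H β b}

theorem term_eq (hM : IsPModular p M) (b : Set (IrrCharacter G)) (H : Subgroup G) :
    (Nat.card H : ℤ) * ((Nat.card (overBlock M H b) : ℤ) - (blockRank p (overBlock M H b) : ℤ)) =
      ∑ u : G with (u ≠ 1 ∧ ∃ k : ℕ, orderOf u = p ^ k) ∧ u ∈ H,
        (LocalRank.weight M p {b} (H ⊓ Subgroup.centralizer ({u} : Set G)) : ℤ) := by
  haveI := Fintype.ofFinite H
  set S := Finset.univ.filter fun β : Set (IrrCharacter H) => IsInducedBlock M H β b with hS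
  have hU : overBlock M H b = LocalRank.unionBlocks S := by
    ext ψ
    constructor
    · rintro ⟨β, h1, h2⟩; exact ⟨β, Finset.mem_filter.2 ⟨Finset.mem_univ _, h2⟩, h1⟩
    · rintro ⟨β, h1, h2⟩; exact ⟨β, h2, (Finset.mem_filter.1 h1).2⟩
  rw [hU, LocalRank.card_sub_rank hM S fun β hβ => (Finset.mem_filter.1 hβ).2.1]
  refine (Finset.sum_congr rfl (g := fun u : H => (LocalRank.weight M p {b} (H ⊓ Subgroup.centralizer ({(u : G)} : Set G)) : ℤ))
    fun u hu => ?_).trans (Finset.sum_bij (fun (u : H) _ => (u : G)) ?_ ?_ ?_ ?_)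
  · simp only [Finset.mem_filter, Finset.mem_univ, true_and] at hu
    exact congrArg Nat.cast (LocalRank.weight_trans hM H hu.2 b)
  · intro u hu
    simp only [Finset.mem_filter, Finset.mem_univ, true_and] at hu ⊢
    obtain ⟨h1, h2⟩ := hu
    refine ⟨⟨fun h => h1 (Subtype.ext h), ?_⟩, u.2⟩
    obtain ⟨k, hk⟩ := h2
    exact ⟨k, by rw [Subgroup.orderOf_coe, hk]⟩
  · exact fun a _ b _ h => Subtype.ext h
  · intro g hg
    simp only [Finset.mem_filter, Finset.mem_univ, true_and] at hg
    obtain ⟨⟨h1, h2⟩, h3⟩ := hg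
    refine ⟨⟨g, h3⟩, ?_, rfl⟩
    simp only [Finset.mem_filter, Finset.mem_univ, true_and]
    refine ⟨fun h => h1 (congrArg Subtype.val h), ?_⟩
    obtain ⟨k, hk⟩ := h2
    exact ⟨k, by rw [Subgroup.orderOf_mk, hk]⟩
  · exact fun u _ => rfl

/-- Knörr and Robinson's formula for `k - l`. -/
theorem alternating_sum (hM : IsPModular p M) {b : Set (IrrCharacter G)} (hb : IsPBlock M b) :
    (Nat.card G : ℤ) * ((Nat.card b : ℤ) - (blockRank p b : ℤ)) =
      ∑ s : Finset (Subgroup G) with Good p s, (-1 : ℤ) ^ (s.card - 1) * (Nat.card (stab s) : ℤ) *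
        ((Nat.card (overBlock M (stab s) b) : ℤ) - (blockRank p (overBlock M (stab s) b) : ℤ)) := by
  haveI := Fact.mk hM.1
  have hU : LocalRank.unionBlocks ({b} : Finset (Set (IrrCharacter G))) = b := by
    ext ψ
    simp [LocalRank.unionBlocks]
  have hl := LocalRank.card_sub_rank hM {b} fun β hβ => by rwa [Finset.mem_singleton.1 hβ]
  rw [hU] at hl
  rw [hl]
  simp only [mul_assoc, term_eq hM b, Finset.mul_sum]
  refine Eq.trans ?_ (Finset.sum_comm' (t' := Finset.univ.filter fun u : G => u ≠ 1 ∧ ∃ k : ℕ, orderOf u = p ^ k)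
    (s' := fun u => Finset.univ.filter fun s : Finset (Subgroup G) => Good p s ∧ u ∈ stab s)
    (fun s u => by simp; tauto)).symm
  refine Finset.sum_congr rfl fun u hu => ?_
  obtain ⟨hu1, hup⟩ := (Finset.mem_filter.1 hu).2
  exact (sum_toggle hu1 hup fun K => (LocalRank.weight M p {b} K : ℤ)).symm

end Cfsg.Agent.Char.NormalChains
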