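import Cfsg.Agent.Lib.Char.CoverBlocks
import Cfsg.Agent.Lib.Char.LocalPairs

/-!
# A block over a normal `p`-subgroup as a trace of a centralizer block
-/

set_option autoImplicit false
set_option linter.style.haveILetI false

namespace Cfsg.Agent.Char

open Cfsg Module
open scoped ComplexConjugate

universe u

variable {G : Type u} [Group G] [Fintype G] {M : Ideal AlgInt} {p : ℕ}
variable {N : Subgroup G} [hNn : N.Normal] [Fintype N]

/-- A normalized character on a normal subgroup is the average of the conjugates of a constituent. -/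
theorem char_eq_average {χ : IrrCharacter G} {θ : IrrCharacter N}
    (h : classInner (fun n : N => (χ : G → ℂ) n) (θ : N → ℂ) ≠ 0) (n : N) :
    (χ : G → ℂ) n / (χ : G → ℂ) 1 =
      (Nat.card G : ℂ)⁻¹ * ∑ g : G, (θ : N → ℂ) (MulAut.conjNormal g n) / (θ : N → ℂ) 1 := by
  classical
  have e := (constituent_restrict_iff N χ θ).mp h n
  rw [← centralChar_indFun, centralChar, centralChar, indFun_restrict_normal, indFun_one] at e
  have hidx : ((Subgroup.centralizer ({(n : G)} : Set G)).index : ℂ) ≠ 0 :=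
    Nat.cast_ne_zero.mpr Subgroup.index_ne_zero_of_finite
  have hχ := irr_one_ne_zero χ.2
  have hθ := irr_one_ne_zero θ.2
  have hi : (N.index : ℂ) ≠ 0 := Nat.cast_ne_zero.mpr Subgroup.index_ne_zero_of_finite
  have hN : (Nat.card N : ℂ) ≠ 0 := Nat.cast_ne_zero.mpr Nat.card_pos.ne'
  have hG : (Nat.card G : ℂ) = (Nat.card N : ℂ) * N.index := by
    rw [← Nat.cast_mul, Subgroup.card_mul_index]
  rw [← Finset.sum_div, hG]
  field_simp at e ⊢
  linear_combination e

/-- The trace of the idempotent of a block of a normal subgroup. -/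
theorem lam_trace (hM : M.IsPrime) {e : Set (IrrCharacter N)} (he : IsPBlock M e) {T : Subgroup G}
    (hT : ∀ x : G, x ∈ T ↔ StabilizesBlock N e x) {χ : IrrCharacter G} {θ : IrrCharacter N}
    (h : classInner (fun n : N => (χ : G → ℂ) n) (θ : N → ℂ) ≠ 0) :
    (θ ∈ e → lam (χ : G → ℂ) (fun g => (Nat.card T : ℂ)⁻¹ *
        ∑ x : G, subgroupBlockCoeff N e (x⁻¹ * g * x)) = 1) ∧
      ((∀ g : G, irrComp (MulAut.conjNormal g) θ ∉ e) →
        lam (χ : G → ℂ) (fun g => (Nat.card T : ℂ)⁻¹ *
          ∑ x : G, subgroupBlockCoeff N e (x⁻¹ * g * x)) = 0) := by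
  classical
  set β := subgroupBlockCoeff N e with hβ
  have hG0 : (Nat.card G : ℂ) ≠ 0 := Nat.cast_ne_zero.mpr Nat.card_pos.ne'
  have h1 : lam (χ : G → ℂ) (fun g => (Nat.card T : ℂ)⁻¹ * ∑ x : G, β (x⁻¹ * g * x)) =
      (Nat.card T : ℂ)⁻¹ * (Nat.card G : ℂ) * lam (χ : G → ℂ) β := by
    have e1 : ∀ x : G, ∑ g : G, β (x⁻¹ * g * x) * (χ : G → ℂ) g = ∑ g : G, β g * (χ : G → ℂ) g := by
      intro x
      refine Fintype.sum_equiv (MulAut.conj x⁻¹).toEquiv _ _ fun g => ?_
      simp only [MulEquiv.toEquiv_eq_coe, EquivLike.coe_coe, MulAut.conj_apply, inv_inv]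
      congr 1
      have := isClassFunction_character (irr_isCharacter χ.2) g x⁻¹
      rwa [inv_inv, eq_comm] at this
    simp only [lam, Finset.sum_mul, mul_assoc, ← Finset.mul_sum]
    simp only [mul_assoc] at e1
    rw [Finset.sum_comm, Finset.sum_congr rfl fun x _ => e1 x, Finset.sum_const, nsmul_eq_mul,
      Finset.card_univ]
    simp only [Nat.card_eq_fintype_card]
    ring
  have h2 : lam (χ : G → ℂ) β = (Nat.card G : ℂ)⁻¹ *
      ((Finset.univ.filter fun g : G => irrComp (MulAut.conjNormal g) θ ∈ e).card : ℂ) := by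
    rw [lam, hβ, subgroupBlockCoeff_eq, sum_extendByZero_mul, Finset.sum_div]
    simp only [mul_div_assoc, char_eq_average h, Finset.mul_sum]
    rw [Finset.sum_comm, Finset.card_filter, Nat.cast_sum, Finset.mul_sum]
    refine Finset.sum_congr rfl fun g _ => ?_
    rw [Nat.cast_ite, Nat.cast_one, Nat.cast_zero, ← lam_blockCoeff e, lam, irrComp_apply, map_one,
      Finset.sum_div, Finset.mul_sum]
    exact Finset.sum_congr rfl fun n _ => by rw [irrComp_apply]; ring
  rw [h1, h2, mul_assoc, mul_inv_cancel_left₀ hG0]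
  refine ⟨fun hθ => ?_, fun hno => ?_⟩
  · have himg : ∀ g : G, irrComp (MulAut.conjNormal g) θ ∈ e →
        irrTransport (MulAut.conjNormal g : N ≃* N) '' e = e := fun g hg =>
      block_disjoint hM (isPBlock_transport _ he) he ⟨θ, hθ, rfl⟩ hg
    have hfilter : (Finset.univ.filter fun g : G => irrComp (MulAut.conjNormal g) θ ∈ e) =
        Finset.univ.filter fun g : G => g⁻¹ ∈ T := by
      refine Finset.filter_congr fun g _ => ?_
      rw [hT]
      constructor
      · intro hg
        refine ⟨by rw [Subgroup.normalizer_eq_top]; exact Subgroup.mem_top _, fun η hη => ?_⟩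
        refine ⟨irrTransport (MulAut.conjNormal g : N ≃* N) η, himg g hg ▸ ⟨η, hη, rfl⟩, ?_⟩
        intro k k' hk
        rw [irrTransport_apply]
        refine congrArg _ (Subtype.ext ?_)
        rw [MulAut.conjNormal_apply, hk]
        group
      · intro hg
        obtain ⟨θ', hθ', hc⟩ := hg.2 θ hθ
        rwa [show irrComp (MulAut.conjNormal g) θ = θ' from Subtype.ext (funext fun n => by
          rw [irrComp_apply]
          refine (hc (MulAut.conjNormal g n) n ?_).symm
          rw [MulAut.conjNormal_apply]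
          group)]
    rw [hfilter]
    have hcard : (Finset.univ.filter fun g : G => g⁻¹ ∈ T).card = Nat.card T := by
      rw [Nat.card_eq_fintype_card, ← Fintype.card_subtype]
      exact Fintype.card_congr ((Equiv.inv G).subtypeEquiv fun g => Iff.rfl)
    rw [hcard, inv_mul_cancel₀ (Nat.cast_ne_zero.mpr Nat.card_pos.ne')]
  · rw [Finset.filter_false_of_mem fun g _ => hno g]
    simp

theorem blockCoeff_eq_trace (hM : IsPModular p M) (P : Subgroup G) [P.Normal]
    [Fintype (Subgroup.centralizer (P : Set G))] (hP : IsPGroup p P)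
    {B : Set (IrrCharacter G)} {e : Set (IrrCharacter (Subgroup.centralizer (P : Set G)))}
    (hBe : IsBrauerPairOf p M B P e) {T : Subgroup G}
    (hT : ∀ x : G, x ∈ T ↔ StabilizesBlock (Subgroup.centralizer (P : Set G)) e x) :
    blockCoeff B = fun g => (Nat.card T : ℂ)⁻¹ *
      ∑ x : G, subgroupBlockCoeff (Subgroup.centralizer (P : Set G)) e (x⁻¹ * g * x) := by
  classical
  have hMp := pmod_prime hM
  haveI : (Subgroup.centralizer (P : Set G)).Normal := Subgroup.normal_centralizer
  set β := subgroupBlockCoeff (Subgroup.centralizer (P : Set G)) e with hβ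
  set R : G → ℂ := fun g => (Nat.card T : ℂ)⁻¹ * ∑ x : G, β (x⁻¹ * g * x) with hR
  have hRc : IsClassFunction G R := fun a k => by
    simp only [hR]
    congr 1
    exact Fintype.sum_equiv (Equiv.mulLeft k⁻¹) _ _ fun x => by
      simp [mul_assoc]
  have hb := isIntClassFun_blockCoeff hM hBe.2.1
  set f : (Subgroup.centralizer (P : Set G)) → ℂ := fun n => blockCoeff B n with hf
  have hinv : GInvariant (Subgroup.centralizer (P : Set G)) f := fun g n => by
    show blockCoeff B (MulAut.conjNormal g n : G) = _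
    rw [MulAut.conjNormal_apply, hb.1]
  have hext : extendByZero (Subgroup.centralizer (P : Set G)) f = blockCoeff B := by
    funext x
    by_cases hx : x ∈ (Subgroup.centralizer (P : Set G))
    · rw [extendByZero_mem (Subgroup.centralizer (P : Set G)) f hx]
    · rw [extendByZero_not_mem (Subgroup.centralizer (P : Set G)) f hx, blockCoeff_eq_zero_of_not_centralizing hM P hP hBe.2.1 hx]
  have hmem : ∀ (χ : IrrCharacter G) (θ : IrrCharacter (Subgroup.centralizer (P : Set G))),
      classInner (fun n : (Subgroup.centralizer (P : Set G)) => (χ : G → ℂ) n) (θ : (Subgroup.centralizer (P : Set G)) → ℂ) ≠ 0 → θ ∈ e → χ ∈ B := by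
    intro χ θ h hθ
    by_contra hn
    have h1 := lam_extend_of_constituent h hinv
    rw [hext, lam_blockCoeff, if_neg hn] at h1
    have h2 := hBe.2.2 θ hθ
    rw [brauerOmega_eq] at h2
    rw [show tr P (blockCoeff B) = f from rfl, ← h1, zero_sub] at h2
    exact memLI_one_iff hMp (by simpa using memLI_neg hMp h2)
  show blockCoeff B = R
  rw [classFun_eq_sum_idem hRc, blockCoeff_eq, Finset.sum_filter]
  refine Finset.sum_congr rfl fun χ _ => ?_
  obtain ⟨θ, hθ⟩ := exists_constituent (N := (Subgroup.centralizer (P : Set G))) χ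
  by_cases hm : ∃ g : G, irrComp (MulAut.conjNormal g) θ ∈ e
  · obtain ⟨g, hg⟩ := hm
    have hcon := constituent_irrComp hθ g
    rw [if_pos (hmem χ _ hcon hg), (lam_trace hMp hBe.1.2 hT hcon).1 hg, one_smul]
  · push Not at hm
    rw [(lam_trace hMp hBe.1.2 hT hθ).2 hm, zero_smul, if_neg]
    intro hχ
    obtain ⟨θ0, hθ0⟩ := block_nonempty hMp hBe.1.2
    obtain ⟨χ0, hχ0⟩ := exists_constituent_over (Subgroup.centralizer (P : Set G)) θ0
    obtain ⟨g, hg⟩ := mem_orbU_of_sameBlock hM
      (block_sameBlock hMp hBe.2.1 (hmem χ0 θ0 hχ0 hθ0) hχ) hχ0 hθ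
    exact hm g ((mem_block_iff hMp hBe.1.2 hθ0 _).mpr hg)

end Cfsg.Agent.Char
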