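import Cfsg.Agent.Lib.Char.SpecialLinearPermChar

/-!
# The least degree of a representation of `SL_n(q)` in another characteristic

The transvections with a fixed centre form an elementary abelian group whose non-trivial characters are
permuted transitively by the stabilizer of the centre, so all of them occur.
-/

set_option autoImplicit false
set_option linter.unusedSectionVars false
set_option linter.style.haveILetI false

namespace Cfsg.Agent.Char.SLPerm

open Matrix

universe u v

variable {F : Type u} [Field F] [Fintype F] [DecidableEq F]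

theorem exists_nontrivial_addChar {L : Type v} [Field L] [IsAlgClosed L] (p : ℕ) [Fact p.Prime] [CharP F p]
    (hp : (p : L) ≠ 0) : ∃ ψ : AddChar F L, ∃ a : F, ψ a ≠ 1 := by
  classical
  haveI : NeZero (p : L) := ⟨hp⟩
  letI := ZMod.algebra F p
  obtain ⟨ζ, hζ⟩ := HasEnoughRootsOfUnity.exists_primitiveRoot L p
  let b := Module.Free.chooseBasis (ZMod p) F
  obtain ⟨i⟩ : Nonempty (Module.Free.ChooseBasisIndex (ZMod p) F) := b.index_nonempty
  refine ⟨(AddChar.zmodChar p hζ.pow_eq_one).compAddMonoidHom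
    (b.coord i).toAddMonoidHom, b i, ?_⟩
  show (AddChar.zmodChar p hζ.pow_eq_one) (b.coord i (b i)) ≠ 1
  rw [AddChar.zmodChar_apply]
  have : b.coord i (b i) = 1 := by simp
  rw [this, ZMod.val_one, pow_one]
  exact hζ.ne_one (Fact.out : p.Prime).one_lt

theorem addChar_card_le (A : Type u) [AddCommGroup A] [Finite A] (L : Type v) [Field L] :
    Finite (AddChar A L) ∧ Nat.card (AddChar A L) ≤ Nat.card A := by
  haveI := Fintype.ofFinite A
  have hli : LinearIndependent L (fun (f : Multiplicative A →* L) => (f : Multiplicative A → L)) :=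
    linearIndependent_monoidHom (Multiplicative A) L
  haveI : Finite (Multiplicative A →* L) := hli.finite
  haveI := Fintype.ofFinite (Multiplicative A →* L)
  refine ⟨Finite.of_equiv _ AddChar.toMonoidHomEquiv.symm, ?_⟩
  rw [Nat.card_congr AddChar.toMonoidHomEquiv, Nat.card_eq_fintype_card, Nat.card_eq_fintype_card,
    ← Fintype.card_multiplicative A, ← Module.finrank_fintype_fun_eq_card L (η := Multiplicative A)]
  exact hli.fintype_card_le_finrank

theorem min_degree_aux {m : ℕ} (hm : 2 ≤ m) {L : Type v} [Field L] [IsAlgClosed L] (p : ℕ) [Fact p.Prime]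
    [CharP F p] (hp : (p : L) ≠ 0) {d : ℕ}
    (ρ : SpecialLinearGroup (Fin (m + 1)) F →* Matrix (Fin d) (Fin d) L)
    (hker : ∀ g, ρ g = 1 → g ∈ Subgroup.center (SpecialLinearGroup (Fin (m + 1)) F)) :
    Fintype.card F ^ m - 1 ≤ d := by
  classical
  let e₀ : Fin (m + 1) → F := Pi.single 0 1
  let W : AddSubgroup (Fin (m + 1) → F) :=
    { carrier := {w | w 0 = 0}
      zero_mem' := rfl
      add_mem' := fun {a b} (ha : a 0 = 0) (hb : b 0 = 0) => show a 0 + b 0 = 0 by rw [ha, hb, add_zero]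
      neg_mem' := fun {a} (ha : a 0 = 0) => show -a 0 = 0 by rw [ha, neg_zero] }
  have hW : Nat.card W = Fintype.card F ^ m := by
    rw [show Nat.card W = Nat.card (Fin m → F) from Nat.card_congr
      { toFun := fun w => Fin.tail w.1
        invFun := fun v => ⟨Fin.cons 0 v, Fin.cons_zero _ _⟩
        left_inv := fun w => Subtype.ext (by
          show Fin.cons 0 (Fin.tail w.1) = w.1
          conv_rhs => rw [← Fin.cons_self_tail w.1, show w.1 0 = 0 from w.2])
        right_inv := fun v => Fin.tail_cons _ _ }, Nat.card_fun, Nat.card_fin, Nat.card_eq_fintype_card]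
  have hdot : ∀ w : W, w.1 ⬝ᵥ e₀ = 0 := fun w => by
    rw [dotProduct_single, mul_one]; exact w.2
  have hdet : ∀ w : W, (1 + vecMulVec e₀ w.1).det = 1 := fun w => by
    rw [show vecMulVec e₀ w.1 = replicateCol Unit e₀ * replicateRow Unit w.1 from
      vecMulVec_eq Unit e₀ w.1, det_one_add_replicateCol_mul_replicateRow, hdot, add_zero]
  let t : W → SpecialLinearGroup (Fin (m + 1)) F := fun w => ⟨1 + vecMulVec e₀ w.1, hdet w⟩
  have htadd : ∀ a b : W, t (a + b) = t a * t b := fun a b => Subtype.ext (by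
    show 1 + vecMulVec e₀ (a.1 + b.1) = (1 + vecMulVec e₀ a.1) * (1 + vecMulVec e₀ b.1)
    have : vecMulVec e₀ (0 : Fin (m + 1) → F) = 0 := by ext i j; simp [vecMulVec_apply]
    rw [add_mul, one_mul, mul_add, mul_one, vecMulVec_mul_vecMulVec, hdot, zero_smul, vecMulVec_add, this,
      add_zero]
    abel)
  have ht0 : t 0 = 1 := Subtype.ext (by
    show 1 + vecMulVec e₀ (0 : Fin (m + 1) → F) = 1
    ext i j; simp [vecMulVec_apply])
  let T : W → Matrix (Fin d) (Fin d) L := fun w => ρ (t w)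
  have hTadd : ∀ a b, T (a + b) = T a * T b := fun a b => by simp only [T, htadd, map_mul]
  -- the characters
  obtain ⟨ψ, a₁, ha₁⟩ := exists_nontrivial_addChar (F := F) (L := L) p hp
  let χ : W → AddChar W L := fun u =>
    { toFun := fun w => ψ (u.1 ⬝ᵥ w.1)
      map_zero_eq_one' := by
        show ψ (u.1 ⬝ᵥ 0) = 1
        rw [dotProduct_zero, AddChar.map_zero_eq_one]
      map_add_eq_mul' := fun a b => by
        show ψ (u.1 ⬝ᵥ (a.1 + b.1)) = _
        rw [dotProduct_add, AddChar.map_add_eq_mul] }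
  obtain ⟨hfin, hcard⟩ := addChar_card_le W L
  haveI := hfin
  have hχinj : Function.Injective χ := by
    intro u u' h
    by_contra hne
    obtain ⟨i, hi⟩ := Function.ne_iff.1 (fun e => hne (Subtype.ext e) : u.1 ≠ u'.1)
    have hi0 : i ≠ 0 := fun e => hi (by rw [e, show u.1 0 = 0 from u.2, show u'.1 0 = 0 from u'.2])
    let w : W := ⟨Pi.single i (a₁ / (u.1 i - u'.1 i)), Pi.single_eq_of_ne hi0.symm _⟩
    have h1 : ψ (u.1 ⬝ᵥ w.1) = ψ (u'.1 ⬝ᵥ w.1) := congrArg (fun f : AddChar W L => f w) h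
    have h2 : u.1 ⬝ᵥ w.1 = a₁ + u'.1 ⬝ᵥ w.1 := by
      show u.1 ⬝ᵥ Pi.single i _ = a₁ + u'.1 ⬝ᵥ Pi.single i _
      rw [dotProduct_single, dotProduct_single]
      field_simp [sub_ne_zero.2 hi]
      ring
    rw [h2, AddChar.map_add_eq_mul] at h1
    exact ha₁ ((mul_eq_right₀ (ψ.val_isUnit _).ne_zero).1 h1)
  have hχbij : Function.Bijective χ :=
    (Nat.bijective_iff_injective_and_card χ).2
      ⟨hχinj, le_antisymm (Nat.card_le_card_of_injective χ hχinj) hcard⟩
  haveI := Fintype.ofFinite W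
  -- the projections
  have hN : (Fintype.card W : L) ≠ 0 := by
    rw [← Nat.card_eq_fintype_card, hW, Nat.cast_pow]
    refine pow_ne_zero _ ?_
    obtain ⟨k, -, hk⟩ := FiniteField.card F p
    rw [hk, Nat.cast_pow]
    exact pow_ne_zero _ hp
  let P : W → Matrix (Fin d) (Fin d) L := fun u => (Fintype.card W : L)⁻¹ • ∑ w, χ u (-w) • T w
  have hTP : ∀ a u, T a * P u = χ u a • P u := by
    intro a u
    simp only [P, mul_smul_comm, Finset.mul_sum, smul_comm (χ u a), Finset.smul_sum]
    refine Fintype.sum_bijective (fun w => a + w) (AddGroup.addLeft_bijective a) _ _ fun w => ?_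
    rw [← hTadd]
    simp only [smul_smul]
    rw [← AddChar.map_add_eq_mul, show -(a + w) + a = -w by abel]
  have hsum1 : ∀ w : W, ∑ u, χ u w = if w = 0 then (Fintype.card W : L) else 0 := by
    intro w
    split_ifs with hw
    · simp [hw]
    · obtain ⟨i, hi⟩ := Function.ne_iff.1 (fun e => hw (Subtype.ext e) : w.1 ≠ 0)
      have hi0 : i ≠ 0 := fun e => hi (e ▸ w.2)
      let c : W := ⟨Pi.single i (a₁ / w.1 i), Pi.single_eq_of_ne hi0.symm _⟩
      have hc : χ c w = ψ a₁ := by
        show ψ ((Pi.single i (a₁ / w.1 i) : Fin (m + 1) → F) ⬝ᵥ w.1) = _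
        rw [single_dotProduct, div_mul_cancel₀ _ hi]
      refine eq_zero_of_mul_eq_self_left (b := ψ a₁) ha₁ ?_
      rw [← hc, Finset.mul_sum]
      refine Fintype.sum_bijective (fun u => c + u) (AddGroup.addLeft_bijective c) _ _ fun u => ?_
      show ψ (c.1 ⬝ᵥ w.1) * ψ (u.1 ⬝ᵥ w.1) = ψ ((c.1 + u.1) ⬝ᵥ w.1)
      rw [add_dotProduct, AddChar.map_add_eq_mul]
  have hPsum : ∑ u, P u = 1 := by
    simp only [P, ← Finset.smul_sum]
    rw [Finset.sum_comm, Finset.sum_eq_single 0]
    · rw [← Finset.sum_smul, hsum1, neg_zero, if_pos rfl, smul_smul, inv_mul_cancel₀ hN, one_smul]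
      show ρ (t 0) = 1
      rw [ht0, map_one]
    · intro w _ hw
      rw [← Finset.sum_smul, hsum1, if_neg (neg_ne_zero.2 hw), zero_smul]
    · simp
  -- some non-trivial character occurs
  have hex : ∃ u, u ≠ 0 ∧ P u ≠ 0 := by
    by_contra hno
    push Not at hno
    have hP0 : P 0 = 1 := by
      rw [← hPsum]
      exact (Finset.sum_eq_single 0 (fun u _ hu => hno u hu) (by simp)).symm
    let i1 : Fin (m + 1) := ⟨1, by omega⟩
    let w : W := ⟨Pi.single i1 1, Pi.single_eq_of_ne (by simp [i1, Fin.ext_iff]) _⟩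
    have h1 := hTP w 0
    rw [hP0, mul_one, show χ 0 w = 1 from by
      show ψ ((0 : Fin (m + 1) → F) ⬝ᵥ _) = 1
      rw [zero_dotProduct, AddChar.map_zero_eq_one], one_smul] at h1
    have h2 := hker (t w) h1
    let j : Fin (m + 1) := ⟨2, by omega⟩
    obtain ⟨g, hg1, hg2⟩ := exists_sl_pair (F := F) (n := m + 1) (by omega)
      (v := e₀) (w := Pi.single j 1) (v' := Pi.single i1 1) (w' := e₀)
      ((LinearIndependent.pair_iff' (by simp [e₀])).2 fun a ha => by
        have := congrFun ha j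
        simp [e₀, j, Fin.ext_iff, Pi.single_apply] at this)
      ((LinearIndependent.pair_iff' (by simp)).2 fun a ha => by
        have := congrFun ha 0
        simp [e₀, i1, Fin.ext_iff, Pi.single_apply] at this)
    -- the transvection does not commute with it
    have h3 : (t w).1 *ᵥ (g.1 *ᵥ e₀) = g.1 *ᵥ ((t w).1 *ᵥ e₀) := by
      rw [← mul_mulVec', ← mul_mulVec', Subgroup.mem_center_iff.1 h2 g]
    have h4 : ∀ z, (t w).1 *ᵥ z = z + (w.1 ⬝ᵥ z) • e₀ := fun z => by
      show (1 + vecMulVec e₀ w.1) *ᵥ z = _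
      rw [add_mulVec, one_mulVec, vecMulVec_mulVec, op_smul_eq_smul]
    rw [h4, h4, hdot, zero_smul, add_zero, hg1, add_eq_left] at h3
    have := congrFun h3 0
    simp [e₀, w, i1, Pi.single_apply, dotProduct_single, Fin.ext_iff] at this
  -- the orbit
  have hne : ∀ u, u ≠ 0 → P u ≠ 0 := by
    intro u hu h0
    obtain ⟨u', hu', hP'⟩ := hex
    have hind : ∀ x : W, x ≠ 0 → LinearIndependent F ![e₀, x.1] := fun x hx =>
      (LinearIndependent.pair_iff' (by simp [e₀])).2 fun a ha => hx (Subtype.ext (by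
        have := congrFun ha 0
        rw [show x.1 0 = 0 from x.2] at this
        simp [e₀] at this
        rw [← ha, this, zero_smul]
        rfl))
    obtain ⟨g, hg1, hg2⟩ := exists_sl_pair (F := F) (n := m + 1) (by omega) (hind u' hu') (hind u hu)
    have hmem : ∀ w : W, (w.1 ᵥ* g.1) 0 = 0 := fun w => by
      have : (w.1 ᵥ* g.1) ⬝ᵥ e₀ = 0 := by rw [← dotProduct_mulVec, hg1, hdot]
      rwa [dotProduct_single, mul_one] at this
    let c : W → W := fun w => ⟨w.1 ᵥ* g.1, hmem w⟩
    have hc : ∀ w, t (c w) = g⁻¹ * t w * g := fun w => by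
      rw [mul_assoc, eq_inv_mul_iff_mul_eq]
      refine Subtype.ext ?_
      show g.1 * (1 + vecMulVec e₀ (w.1 ᵥ* g.1)) = (1 + vecMulVec e₀ w.1) * g.1
      rw [mul_add, add_mul, mul_one, one_mul, mul_vecMulVec, hg1, vecMulVec_mul]
    have hcinj : Function.Injective c := fun a b h => by
      have hi : ∀ x : Fin (m + 1) → F, x ᵥ* g.1 ᵥ* (g⁻¹).1 = x := fun x => by
        rw [vecMul_vecMul, show g.1 * (g⁻¹).1 = 1 from congrArg Subtype.val (mul_inv_cancel g), vecMul_one]
      have := congrArg (fun z : W => z.1 ᵥ* (g⁻¹).1) h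
      simp only [c, hi] at this
      exact Subtype.ext this
    have hχc : ∀ w, χ u w = χ u' (c w) := fun w => by
      show ψ (u.1 ⬝ᵥ w.1) = ψ (u'.1 ⬝ᵥ (w.1 ᵥ* g.1))
      rw [dotProduct_comm u'.1, ← dotProduct_mulVec, hg2, dotProduct_comm]
    have hconj : P u' = ρ g⁻¹ * P u * ρ g := by
      simp only [P, mul_smul_comm, smul_mul_assoc, Finset.mul_sum, Finset.sum_mul]
      refine congrArg _ (Fintype.sum_bijective c (Finite.injective_iff_bijective.1 hcinj) _ _ fun w => ?_).symm
      rw [hχc, show c (-w) = -c w from Subtype.ext (neg_vecMul w.1 g.1)]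
      simp only [T, hc, map_mul]
    exact hP' (by rw [hconj, h0, mul_zero, zero_mul])
  -- independent eigenvectors
  have hvec : ∀ u : {u : W // u ≠ 0}, ∃ v : Fin d → L, P u.1 *ᵥ v ≠ 0 := fun u => by
    by_contra h
    push Not at h
    refine hne u.1 u.2 (Matrix.ext_iff_mulVec.2 fun v => by rw [h v, zero_mulVec])
  choose v hv using hvec
  have hmul : ∀ u u', P u * P u' = (if u = u' then (1 : L) else 0) • P u' := by
    intro u u'
    rw [show P u = (Fintype.card W : L)⁻¹ • ∑ w, χ u (-w) • T w from rfl, smul_mul_assoc, Finset.sum_mul]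
    simp only [smul_mul_assoc, hTP, smul_smul, ← Finset.sum_smul]
    congr 1
    have h1 : ∀ w, χ u (-w) * χ u' w = χ (u' - u) w := fun w => by
      show ψ (u.1 ⬝ᵥ (-w.1)) * ψ (u'.1 ⬝ᵥ w.1) = ψ ((u'.1 - u.1) ⬝ᵥ w.1)
      rw [← AddChar.map_add_eq_mul, dotProduct_neg, sub_dotProduct, neg_add_eq_sub]
    rw [Finset.sum_congr rfl fun w _ => h1 w]
    have h2 : ∑ w, χ (u' - u) w = ∑ w, χ w (u' - u) :=
      Finset.sum_congr rfl fun w _ => congrArg ψ (dotProduct_comm _ _)
    rw [h2, hsum1]
    by_cases h : u = u'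
    · rw [if_pos h, if_pos (sub_eq_zero.2 h.symm), inv_mul_cancel₀ hN]
    · rw [if_neg h, if_neg (fun e => h (sub_eq_zero.1 e).symm), mul_zero]
  have hli : LinearIndependent L fun u : {u : W // u ≠ 0} => P u.1 *ᵥ v u := by
    rw [Fintype.linearIndependent_iff]
    intro f hf u
    have := congrArg (fun z => P u.1 *ᵥ z) hf
    simp only [mulVec_sum, mulVec_smul, mulVec_mulVec, hmul, mulVec_zero] at this
    rw [Finset.sum_eq_single u (fun u' _ hne' => by
      rw [if_neg (fun e => hne' (Subtype.ext e.symm)), zero_smul, zero_mulVec, smul_zero]) (by simp),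
      if_pos rfl, one_smul] at this
    exact (smul_eq_zero.1 this).resolve_right (hv u)
  have := hli.fintype_card_le_finrank
  rw [Module.finrank_fin_fun, Fintype.card_subtype_compl, Fintype.card_subtype_eq,
    ← Nat.card_eq_fintype_card, hW] at this
  exact this

end Cfsg.Agent.Char.SLPerm
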