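import Cfsg.Agent.Lib.Char.Inflate
import Cfsg.Agent.Lib.Char.TwoDegreesPrime
import Cfsg.Agent.Lib.Char.BlockBasic
import Cfsg.Agent.Lib.Solv.OneClassSolvable

/-!
# An element on which a single nonlinear irreducible character does not vanish

Column orthogonality against the sum of the linear characters gives the values of that character,
and shows that the hypotheses of `Solv.OneClass.Data` hold for its kernel.
-/

set_option autoImplicit false
set_option linter.unusedSectionVars false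

open scoped ComplexConjugate
open Cfsg

namespace Cfsg.Agent.Char.OneNonvan

universe u

variable {G : Type u} [Group G] [Fintype G]

open scoped Classical in
/-- The sum of the linear characters. -/
theorem sum_linear (x : G) :
    ∑ χ ∈ Finset.univ.filter (fun χ : IrrCharacter G => (χ : G → ℂ) 1 = 1), (χ : G → ℂ) x =
      if x ∈ commutator G then ((commutator G).index : ℂ) else 0 := by
  have : Finite (G →* ℂˣ) := Finite.of_equiv _ (linearEquiv (G := G)).symm
  have := Fintype.ofFinite (G →* ℂˣ)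
  rw [← Finset.sum_subtype_eq_sum_filter, Finset.subtype_univ]
  rw [← Fintype.sum_equiv (linearEquiv (G := G)) (fun l => ((l x : ℂˣ) : ℂ)) _ fun l => rfl]
  split_ifs with hx
  · rw [Finset.sum_congr rfl (g := fun _ => (1 : ℂ)) fun l _ => by
      rw [show l x = 1 from Abelianization.commutator_subset_ker l hx, Units.val_one]]
    simp [← card_hom_units, Nat.card_eq_fintype_card]
  · haveI : NeZero (Monoid.exponent (Abelianization G)) := ⟨Monoid.exponent_ne_zero_of_finite⟩
    obtain ⟨φ, hφ⟩ := CommGroup.exists_apply_ne_one_of_hasEnoughRootsOfUnity (Abelianization G) ℂ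
      (a := Abelianization.of x) (fun h => hx ((QuotientGroup.eq_one_iff x).1 h))
    set l₀ : G →* ℂˣ := φ.comp Abelianization.of with hl₀
    have hne : ((l₀ x : ℂˣ) : ℂ) ≠ 1 := fun h => hφ (Units.ext h)
    set T := ∑ l : G →* ℂˣ, ((l x : ℂˣ) : ℂ) with hT
    have hs : ((l₀ x : ℂˣ) : ℂ) * T = T := by
      rw [hT, Finset.mul_sum]
      exact Fintype.sum_equiv (Equiv.mulLeft l₀) _ _ fun l => by simp
    by_contra h0
    exact hne (mul_right_cancel₀ h0 (hs.trans (one_mul T).symm))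

/-- The value at `x⁻¹`. -/
theorem linear_mul_conj (χ : IrrCharacter G) (h1 : (χ : G → ℂ) 1 = 1) (a b : G) :
    (χ : G → ℂ) a * conj ((χ : G → ℂ) b) = (χ : G → ℂ) (a * b⁻¹) := by
  rw [← char_inv (irr_isCharacter χ.2) b]
  obtain ⟨l, hl⟩ := exists_hom_of_degree_one (irr_isCharacter χ.2) h1
  rw [hl]
  simp

theorem one_eq_one_iff (χ : IrrCharacter G) :
    (χ : G → ℂ) 1 = 1 ↔ charDegree (χ : G → ℂ) = 1 := by
  rw [charDegree_eq_deg, char_one_eq_deg (irr_isCharacter χ.2)]
  exact Nat.cast_eq_one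

variable (g : G) (χ : IrrCharacter G) (hχ1 : (χ : G → ℂ) 1 ≠ 1)
  (hother : ∀ ψ : IrrCharacter G, (ψ : G → ℂ) 1 ≠ 1 → ψ ≠ χ → (ψ : G → ℂ) g = 0)

include hχ1 hother

open scoped Classical in
/-- The column relation. -/
theorem column (x : G) :
    (if g * x⁻¹ ∈ commutator G then ((commutator G).index : ℂ) else 0) +
      (χ : G → ℂ) g * conj ((χ : G → ℂ) x) =
      if IsConj g x then ((Nat.card G : ℂ) / Nat.card {y : G // IsConj x y}) else 0 := by
  rw [← second_orth g x, ← sum_linear]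
  refine Eq.trans ?_ (Finset.sum_filter_add_sum_filter_not Finset.univ
    (fun ψ : IrrCharacter G => (ψ : G → ℂ) 1 = 1) _)
  congr 1
  · exact Finset.sum_congr rfl fun ψ hψ => (linear_mul_conj ψ (Finset.mem_filter.1 hψ).2 g x).symm
  · symm
    refine Finset.sum_eq_single χ (fun ψ hψ hne => ?_) (fun h => ?_)
    · rw [hother ψ (Finset.mem_filter.1 hψ).2 hne, zero_mul]
    · exact absurd (Finset.mem_filter.2 ⟨Finset.mem_univ χ, hχ1⟩) h

variable (hg1 : g ≠ 1) (hχg : (χ : G → ℂ) g ≠ 0)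
include hg1 hχg

theorem g_mem : g ∈ commutator G := by
  by_contra h
  have h1 := column g χ hχ1 hother 1
  rw [inv_one, mul_one, if_neg h, zero_add, if_neg (fun hc => hg1 (by simpa using hc)),
    conj_char_one (irr_isCharacter χ.2)] at h1
  exact mul_ne_zero hχg (irr_one_ne_zero χ.2) h1

theorem value_g : (χ : G → ℂ) g = -(((commutator G).index : ℂ) / (χ : G → ℂ) 1) := by
  have h1 := column g χ hχ1 hother 1
  rw [inv_one, mul_one, if_pos (g_mem g χ hχ1 hother hg1 hχg),
    if_neg (fun hc => hg1 (by simpa using hc)), conj_char_one (irr_isCharacter χ.2)] at h1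
  have h0 := irr_one_ne_zero χ.2
  field_simp
  linear_combination h1

theorem vanish {x : G} (hx : x ∉ commutator G) : (χ : G → ℂ) x = 0 := by
  have hgm := g_mem g χ hχ1 hother hg1 hχg
  have h1 := column g χ hχ1 hother x
  have hn : g * x⁻¹ ∉ commutator G := fun h =>
    hx (inv_mem_iff.1 ((Subgroup.mul_mem_cancel_left _ hgm).1 h))
  have hnc : ¬ IsConj g x := fun h => by
    obtain ⟨y, hy⟩ := isConj_iff.1 h
    exact hx (hy ▸ (inferInstance : (commutator G).Normal).conj_mem g hgm y)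
  rw [if_neg hn, if_neg hnc, zero_add, mul_eq_zero] at h1
  exact (map_eq_zero _).1 (h1.resolve_left hχg)

theorem value_one {x : G} (hx : x ∈ commutator G) (hnc : ¬ IsConj g x) :
    (χ : G → ℂ) x = (χ : G → ℂ) 1 := by
  have hgm := g_mem g χ hχ1 hother hg1 hχg
  have h1 := column g χ hχ1 hother x
  rw [if_pos ((commutator G).mul_mem hgm (inv_mem hx)), if_neg hnc] at h1
  have hv := value_g g χ hχ1 hother hg1 hχg
  have h0 := irr_one_ne_zero χ.2
  rw [hv] at h1
  have hc : ((commutator G).index : ℂ) ≠ 0 := Nat.cast_ne_zero.2 Subgroup.index_ne_zero_of_finite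
  have h2 : conj ((χ : G → ℂ) x) = (χ : G → ℂ) 1 := by
    field_simp at h1
    refine mul_left_cancel₀ hc ?_
    linear_combination -h1
  rw [← Complex.conj_conj ((χ : G → ℂ) x), h2, conj_char_one (irr_isCharacter χ.2)]

theorem value_class {x : G} (h : IsConj g x) : (χ : G → ℂ) x ≠ (χ : G → ℂ) 1 := by
  obtain ⟨y, rfl⟩ := isConj_iff.1 h
  rw [isClassFunction_character (irr_isCharacter χ.2) g y, value_g g χ hχ1 hother hg1 hχg,
    char_one_eq_deg (irr_isCharacter χ.2)]
  intro he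
  have hd : (deg (χ : G → ℂ) : ℂ) ≠ 0 := by exact_mod_cast (deg_pos χ.2).ne'
  field_simp at he
  have h2 : ((deg (χ : G → ℂ) * deg (χ : G → ℂ) + (commutator G).index : ℕ) : ℂ) = 0 := by
    push_cast
    linear_combination -he
  have := deg_pos χ.2
  rw [Nat.cast_eq_zero] at h2
  nlinarith

theorem mem_comm_of_eq {x : G} (h : (χ : G → ℂ) x = (χ : G → ℂ) 1) : x ∈ commutator G := by
  by_contra hx
  rw [vanish g χ hχ1 hother hg1 hχg hx] at h
  exact irr_one_ne_zero χ.2 h.symm

theorem set_eq : (commutator G : Set G) =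
    {x : G | (χ : G → ℂ) x = (χ : G → ℂ) 1} ∪ {h : G | IsConj g h} := by
  ext x
  refine ⟨fun hx => ?_, fun hx => ?_⟩
  · by_cases hc : IsConj g x
    · exact Or.inr hc
    · exact Or.inl (value_one g χ hχ1 hother hg1 hχg hx hc)
  · rcases hx with hx | hx
    · exact mem_comm_of_eq g χ hχ1 hother hg1 hχg hx
    · obtain ⟨y, rfl⟩ := isConj_iff.1 hx
      exact (inferInstance : (commutator G).Normal).conj_mem g (g_mem g χ hχ1 hother hg1 hχg) y

/-- The only nonlinear irreducible character trivial on the kernel of `χ` is `χ`. -/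
theorem only_one (ψ : IrrCharacter G) (hψ : (ψ : G → ℂ) 1 ≠ 1)
    (hker : ∀ x : G, (χ : G → ℂ) x = (χ : G → ℂ) 1 → (ψ : G → ℂ) x = (ψ : G → ℂ) 1) : ψ = χ := by
  classical
  by_contra hne
  have hψg := hother ψ hψ hne
  -- orthogonality with the linear characters
  have h1 : classInner (ψ : G → ℂ)
      (∑ l ∈ Finset.univ.filter (fun l : IrrCharacter G => (l : G → ℂ) 1 = 1), (l : G → ℂ)) = 0 := by
    rw [classInner_sum_right]
    refine Finset.sum_eq_zero fun l hl => ?_
    rw [irrC_orth, if_neg]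
    rintro rfl
    exact hψ (Finset.mem_filter.1 hl).2
  have hterm : ∀ x : G, (ψ : G → ℂ) x *
      conj ((∑ l ∈ Finset.univ.filter (fun l : IrrCharacter G => (l : G → ℂ) 1 = 1), (l : G → ℂ)) x) =
      if (χ : G → ℂ) x = (χ : G → ℂ) 1 then (ψ : G → ℂ) 1 * ((commutator G).index : ℂ) else 0 := by
    intro x
    rw [Finset.sum_apply, sum_linear]
    by_cases hx : x ∈ commutator G
    · rw [if_pos hx, map_natCast]
      split_ifs with h
      · rw [hker x h]
      · have hc : IsConj g x := by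
          by_contra hc
          exact h (value_one g χ hχ1 hother hg1 hχg hx hc)
        obtain ⟨y, rfl⟩ := isConj_iff.1 hc
        rw [isClassFunction_character (irr_isCharacter ψ.2) g y, hψg, zero_mul]
    · rw [if_neg hx, map_zero, mul_zero, if_neg]
      exact fun h => hx (mem_comm_of_eq g χ hχ1 hother hg1 hχg h)
  rw [classInner, Finset.sum_congr rfl (fun x _ => hterm x), ← Finset.sum_filter, Finset.sum_const,
    nsmul_eq_mul] at h1
  simp [irr_one_ne_zero ψ.2, Subgroup.index_ne_zero_of_finite, Finset.filter_eq_empty_iff] at h1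
  exact h1 (x := 1) rfl

theorem data : haveI : (TwoDeg.kerC χ).Normal := TwoDeg.kerC_normal χ
    Solv.OneClass.Data (TwoDeg.kerC χ) g := by
  have hmem : ∀ x : G, x ∈ TwoDeg.kerC χ ↔ (χ : G → ℂ) x = (χ : G → ℂ) 1 := fun x =>
    ⟨fun h => by simpa using h 1, TwoDeg.mem_kerC_of_eq χ⟩
  refine ⟨fun x hx => mem_comm_of_eq g χ hχ1 hother hg1 hχg ((hmem x).1 hx),
    g_mem g χ hχ1 hother hg1 hχg, fun h => value_class g χ hχ1 hother hg1 hχg (IsConj.refl g) ((hmem g).1 h),
    fun x hx => ?_, fun x hx => ?_⟩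
  · by_cases hc : IsConj g x
    · exact Or.inr hc
    · exact Or.inl ((hmem x).2 (value_one g χ hχ1 hother hg1 hχg hx hc))
  classical
  have hle : ∀ n ∈ TwoDeg.kerC χ, n ∈ commutator G := fun n hn =>
    mem_comm_of_eq g χ hχ1 hother hg1 hχg ((hmem n).1 hn)
  have := Fintype.ofFinite (G ⧸ TwoDeg.kerC χ)
  have h1 := second_orth (x : G ⧸ TwoDeg.kerC χ) (x : G ⧸ TwoDeg.kerC χ)
  rw [if_pos (IsConj.refl _)] at h1
  have hlinx : ∀ ψ : IrrCharacter G, (ψ : G → ℂ) 1 = 1 →
      (ψ : G → ℂ) x * conj ((ψ : G → ℂ) x) = 1 := fun ψ hψ => by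
    rw [linear_mul_conj ψ hψ, mul_inv_cancel, hψ]
  have hlinN : ∀ ψ : IrrCharacter G, (ψ : G → ℂ) 1 = 1 →
      ∀ n ∈ TwoDeg.kerC χ, (ψ : G → ℂ) n = (ψ : G → ℂ) 1 := fun ψ hψ n hn => by
    obtain ⟨l, hl⟩ := exists_hom_of_degree_one (irr_isCharacter ψ.2) hψ
    rw [hl]
    simp [show l n = 1 from Abelianization.commutator_subset_ker l (hle n hn)]
  have h2 : ∑ φ : IrrCharacter (G ⧸ TwoDeg.kerC χ),
      (φ : G ⧸ TwoDeg.kerC χ → ℂ) x * conj ((φ : G ⧸ TwoDeg.kerC χ → ℂ) x) =
      ((commutator G).index : ℂ) := by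
    refine (Fintype.sum_equiv (inflateEquiv (TwoDeg.kerC χ)) _
      (fun ψ => (ψ.1 : G → ℂ) x * conj ((ψ.1 : G → ℂ) x)) (fun φ => rfl)).trans ?_
    rw [← Finset.subtype_univ,
      Finset.sum_subtype_eq_sum_filter (fun ψ : IrrCharacter G => (ψ : G → ℂ) x * conj ((ψ : G → ℂ) x))]
    rw [← Finset.sum_subset (s₁ := Finset.univ.filter fun ψ : IrrCharacter G => (ψ : G → ℂ) 1 = 1)
      (fun ψ hψ => Finset.mem_filter.2 ⟨Finset.mem_univ _, hlinN ψ (Finset.mem_filter.1 hψ).2⟩)
      (fun ψ hψ hn => ?_)]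
    · rw [Finset.sum_congr rfl (g := fun _ => (1 : ℂ)) fun ψ hψ => hlinx ψ (Finset.mem_filter.1 hψ).2,
        Finset.sum_const, nsmul_eq_mul, mul_one, ← Fintype.card_subtype, ← Nat.card_eq_fintype_card,
        card_linear]
    · have hψ1 : (ψ : G → ℂ) 1 ≠ 1 := fun h => hn (Finset.mem_filter.2 ⟨Finset.mem_univ _, h⟩)
      rw [only_one g χ hχ1 hother hg1 hχg ψ hψ1
        fun y hy => (Finset.mem_filter.1 hψ).2 y ((hmem y).2 hy),
        vanish g χ hχ1 hother hg1 hχg hx, zero_mul]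
  rw [h2] at h1
  have h3 := card_conjClass_mul_centralizer (x : G ⧸ TwoDeg.kerC χ)
  rw [← h3, Nat.cast_mul, mul_div_cancel_left₀ _ (Nat.cast_ne_zero.2 (card_conjClass_ne_zero _))] at h1
  exact_mod_cast h1.symm

theorem isSolvable : Group.IsSolvable G :=
  haveI : (TwoDeg.kerC χ).Normal := TwoDeg.kerC_normal χ
  (data g χ hχ1 hother hg1 hχg).isSolvable

end Cfsg.Agent.Char.OneNonvan
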