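import Cfsg.Agent.Lib.Char.OrderJankoBase

/-!
A group of order 175560 is simple or has a normal Sylow 19-subgroup.
-/

set_option autoImplicit false
set_option linter.style.haveILetI false

universe u

namespace Cfsg.Agent.Char.OrderJanko

open Cfsg.Agent.Char.PrimeSylowCount
open scoped Pointwise

theorem table_five_7980 : ∀ n ∈ Nat.divisors 1596, ∀ e ∈ Nat.divisors 4, n * e ∣ 1596 →
    n % 5 = 1 → n ≠ 1 → e ≠ 1 → ¬ 19 ∣ 1596 / (n * e) →
    e = 2 ∧ ¬ 7 ∣ 1596 / (n * e) := by decide +kernel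

theorem table_five_15960 : ∀ n ∈ Nat.divisors 3192, ∀ e ∈ Nat.divisors 4, n * e ∣ 3192 →
    n % 5 = 1 → n ≠ 1 → e ≠ 1 → ¬ 19 ∣ 3192 / (n * e) →
    (n = 76 ∧ e = 2) ∨ (n = 266 ∧ e = 4) ∨ (e = 2 ∧ ¬ 7 ∣ 3192 / (n * e)) := by decide +kernel

theorem table_seven_15960 : ∀ n ∈ Nat.divisors 2280, ∀ e ∈ Nat.divisors 6, n * e ∣ 2280 →
    n % 7 = 1 → n ≠ 1 → e ≠ 1 → ¬ 19 ∣ 2280 / (n * e) → ¬ n ∣ 152 := by decide +kernel

theorem table_seven_58520 : ∀ n ∈ Nat.divisors 8360, ∀ e ∈ Nat.divisors 6, n * e ∣ 8360 →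
    n % 7 = 1 → n ≠ 1 → e ≠ 1 → ¬ 19 ∣ 8360 / (n * e) →
    e = 2 ∧ ¬ 5 ∣ 8360 / (n * e) := by decide +kernel

theorem table_eleven : ∀ n ∈ Nat.divisors 7980, ∀ e ∈ Nat.divisors 10, n * e ∣ 7980 →
    n % 11 = 1 → n ≠ 1 → e ≠ 1 → 7 ∣ 7980 / (n * e) → n = 12 := by decide +kernel

theorem table_seven_87780 : ∀ n ∈ Nat.divisors 12540, ∀ e ∈ Nat.divisors 6, n * e ∣ 12540 →
    n % 7 = 1 → n ≠ 1 → e ≠ 1 → ¬ 19 ∣ 12540 / (n * e) → ¬ 11 ∣ 12540 / (n * e) →
    (e = 2 ∧ 5 ∣ 12540 / (n * e)) ∨ (e = 3 ∧ ¬ 5 ∣ 12540 / (n * e)) := by decide +kernel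

theorem table_five_87780 : ∀ n ∈ Nat.divisors 17556, ∀ e ∈ Nat.divisors 4, n * e ∣ 17556 →
    n % 5 = 1 → n ≠ 1 → e ≠ 1 → ¬ 19 ∣ 17556 / (n * e) →
    e = 2 ∧ ¬ 7 ∣ 17556 / (n * e) := by decide +kernel

theorem k_eq {n e k m : ℕ} (h : n * e * k = m) (hm : m ≠ 0) : k = m / (n * e) := by
  subst h
  rcases Nat.eq_zero_or_pos (n * e) with h0 | h0
  · simp [h0] at hm
  · rw [Nat.mul_div_cancel_left _ h0]

variable {G : Type u} [Group G] [Finite G] [IsSimpleGroup G]

theorem false_7980 (hG : Nat.card G = 7980) : False := by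
  rcases data_nineteen (m := 420) (by rw [hG]) (by norm_num) (by norm_num) with h | h
  · omega
  obtain ⟨P, n, e, k, hP, hn, hk, hnek, -, hc⟩ := h
  have hk1 : k = 1 ∧ e = 2 := by omega
  obtain ⟨rfl, rfl⟩ := hk1
  obtain ⟨Q, n5, e5, k5, hQ, hn5, hk5, hnek5, hm5, hne5, he5, he51, -⟩ :=
    data (G := G) (p := 5) (m := 1596) (by rw [hG]) (by norm_num) (by norm_num)
  obtain ⟨R, n7, e7, k7, hR, hn7, hk7, hnek7, -, -, he7, -, -⟩ :=
    data (G := G) (p := 7) (m := 1140) (by rw [hG]) (by norm_num) (by norm_num)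
  have h195 := not_dvd_k P Q hP hQ hk hk5 (by norm_num) (by norm_num)
  have h := table_five_7980 n5 (Nat.mem_divisors.2 ⟨Dvd.intro (e5 * k5) (by rw [← hnek5]; ring),
    by norm_num⟩) e5 (Nat.mem_divisors.2 ⟨he5, by norm_num⟩) (Dvd.intro k5 hnek5) hm5 hne5 he51
    (k_eq hnek5 (by norm_num) ▸ h195)
  rw [← k_eq hnek5 (by norm_num)] at h
  obtain ⟨he, h7⟩ := h
  have b19 := pSet_bound (E := 2) P hP hn hk hnek le_rfl
  have b5 := pSet_bound (E := 2) Q hQ hn5 hk5 hnek5 he.le
  have b7 := pSet_bound (E := 6) R hR hn7 hk7 hnek7 (Nat.le_of_dvd (by norm_num) he7)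
  have := count_three (G := G) (p := 19) (q := 5) (r := 7)
    (disjoint_of P hP hk (by norm_num) (by norm_num)) (disjoint_of P hP hk (by norm_num) (by norm_num))
    (disjoint_of Q hQ hk5 (by norm_num) h7) (by norm_num) (by norm_num) (by norm_num)
  omega

theorem false_15960 (hG : Nat.card G = 15960) : False := by
  rcases data_nineteen (m := 840) (by rw [hG]) (by norm_num) (by norm_num) with h | h
  · omega
  obtain ⟨P, n, e, k, hP, hn, hk, hnek, -, hc⟩ := h
  have hk1 : k = 2 ∧ e = 2 := by omega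
  obtain ⟨rfl, rfl⟩ := hk1
  obtain ⟨Q, n5, e5, k5, hQ, hn5, hk5, hnek5, hm5, hne5, he5, he51, -⟩ :=
    data (G := G) (p := 5) (m := 3192) (by rw [hG]) (by norm_num) (by norm_num)
  obtain ⟨R, n7, e7, k7, hR, hn7, hk7, hnek7, hm7, hne7, he7, he71, -⟩ :=
    data (G := G) (p := 7) (m := 2280) (by rw [hG]) (by norm_num) (by norm_num)
  have h195 := not_dvd_k P Q hP hQ hk hk5 (by norm_num) (by norm_num)
  have h197 := not_dvd_k P R hP hR hk hk7 (by norm_num) (by norm_num)
  have h := table_five_15960 n5 (Nat.mem_divisors.2 ⟨Dvd.intro (e5 * k5) (by rw [← hnek5]; ring),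
    by norm_num⟩) e5 (Nat.mem_divisors.2 ⟨he5, by norm_num⟩) (Dvd.intro k5 hnek5) hm5 hne5 he51
    (k_eq hnek5 (by norm_num) ▸ h195)
  rw [← k_eq hnek5 (by norm_num)] at h
  have hcN := Small.SmallOrders.card_normalizer Q
  rw [hn5, hG] at hcN
  haveI : Fact (Nat.Prime 3) := ⟨by norm_num⟩
  have hQC : (Q : Subgroup G) ≤ Subgroup.centralizer ((Q : Subgroup G) : Set G) := by
    haveI : IsCyclic ↥(Q : Subgroup G) := isCyclic_of_prime_card hQ
    intro a ha
    rw [Subgroup.mem_centralizer_iff]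
    intro b hb
    exact congrArg Subtype.val (IsCyclic.commutative.is_comm.comm
      (⟨b, hb⟩ : ↥(Q : Subgroup G)) ⟨a, ha⟩)
  set C := Subgroup.centralizer ((Q : Subgroup G) : Set G) with hC
  have hCcard : Nat.card C = 5 * k5 := hk5
  rcases h with ⟨rfl, rfl⟩ | ⟨rfl, rfl⟩ | ⟨he, h7⟩
  · -- the centraliser of order 105
    have hk5v : k5 = 21 := by omega
    subst hk5v
    obtain ⟨⟨y, hy⟩, hyo⟩ := exists_prime_orderOf_dvd_card' 7 (show 7 ∣ Nat.card C by
      rw [hCcard]; norm_num)
    rw [Subgroup.orderOf_mk] at hyo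
    obtain ⟨R', hR'⟩ := exists_sylow_eq R hR y hyo
    have hR'C : (R' : Subgroup G) ≤ C := by rw [hR']; exact Subgroup.zpowers_le.2 hy
    have hcomm : (Q : Subgroup G) ≤ Subgroup.normalizer ((R' : Subgroup G) : Set G) :=
      le_trans (Subgroup.le_centralizer_iff.1 hR'C) (Subgroup.centralizer_le_normalizer _)
    have hJcard : Nat.card ((Q : Subgroup G) ⊔ (R' : Subgroup G) : Subgroup G) = 35 := by
      have hnR : (R' : Subgroup G) ≤ Subgroup.normalizer ((Q : Subgroup G) : Set G) :=
        hR'C.trans (Subgroup.centralizer_le_normalizer _)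
      have h1 := Solv.card_sup_mul_card_inf' (Q : Subgroup G) (R' : Subgroup G) hnR
      have hR'c : Nat.card (R' : Subgroup G) = 7 := by rw [hR', Nat.card_zpowers, hyo]
      have hi1 := Subgroup.card_dvd_of_le (inf_le_left : (Q : Subgroup G) ⊓ R' ≤ Q)
      have hi2 := Subgroup.card_dvd_of_le (inf_le_right : (Q : Subgroup G) ⊓ R' ≤ R')
      rw [show Nat.card (Q : Subgroup G) = 5 from hQ] at h1 hi1
      rw [hR'c] at h1 hi2
      have hi : Nat.card ((Q : Subgroup G) ⊓ R' : Subgroup G) = 1 :=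
        Nat.eq_one_of_dvd_coprimes (by norm_num) hi1 hi2
      rw [hi, mul_one] at h1
      exact h1
    have hKN := normal_in (p := 7) R' C ((Q : Subgroup G) ⊔ R') hR'C hJcard
      (sup_le hQC hR'C) (sup_le hcomm Subgroup.le_normalizer) (fun d hd hdm => by
        rw [hCcard] at hd
        have key : ∀ d ∈ Nat.divisors 3, d % 7 = 1 → d = 1 := by decide
        refine key d (Nat.mem_divisors.2 ⟨?_, by norm_num⟩) hdm
        exact Nat.dvd_of_mul_dvd_mul_right (by norm_num : 0 < 35) hd)
    have h105 := Subgroup.card_dvd_of_le hKN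
    rw [hCcard] at h105
    have hc7 := Small.SmallOrders.card_normalizer R'
    rw [hn7, hG] at hc7
    obtain ⟨j, hj⟩ := h105
    rw [hj] at hc7
    refine table_seven_15960 n7 (Nat.mem_divisors.2 ⟨Dvd.intro (e7 * k7) (by rw [← hnek7]; ring),
      by norm_num⟩) e7 (Nat.mem_divisors.2 ⟨he7, by norm_num⟩) (Dvd.intro k7 hnek7) hm7 hne7 he71
      (k_eq hnek7 (by norm_num) ▸ h197) ⟨j, ?_⟩
    have : n7 * j * 105 = 152 * 105 := by rw [← show (15960 : ℕ) = 152 * 105 by norm_num, ← hc7]; ring
    exact (Nat.eq_of_mul_eq_mul_right (by norm_num) this).symm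
  · -- the centraliser of order 15
    have hk5v : k5 = 3 := by omega
    subst hk5v
    obtain ⟨⟨y, hy⟩, hyo⟩ := exists_prime_orderOf_dvd_card' 3 (show 3 ∣ Nat.card C by
      rw [hCcard]; norm_num)
    rw [Subgroup.orderOf_mk] at hyo
    obtain ⟨S, n3, e3, k3, hS, hn3, -, hnek3, hm3, hne3, -, -, -⟩ :=
      data (G := G) (p := 3) (m := 5320) (by rw [hG]) (by norm_num) (by norm_num)
    obtain ⟨S', hS'⟩ := exists_sylow_eq S hS y hyo
    have hS'C : (S' : Subgroup G) ≤ C := by rw [hS']; exact Subgroup.zpowers_le.2 hy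
    have hS'c : Nat.card (S' : Subgroup G) = 3 := by rw [hS', Nat.card_zpowers, hyo]
    have hCS : C ≤ Subgroup.normalizer ((S' : Subgroup G) : Set G) :=
      normal_in (p := 3) S' C (S' : Subgroup G) hS'C hS'c hS'C Subgroup.le_normalizer
        (fun d hd hdm => by
          rw [hCcard] at hd
          have key : ∀ d ∈ Nat.divisors 5, d % 3 = 1 → d = 1 := by decide
          exact key d (Nat.mem_divisors.2 ⟨Nat.dvd_of_mul_dvd_mul_right (by norm_num : 0 < 3) hd,
            by norm_num⟩) hdm)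
    -- the normaliser of Q normalises S'
    have hNN : Subgroup.normalizer ((Q : Subgroup G) : Set G) ≤
        Subgroup.normalizer ((S' : Subgroup G) : Set G) := by
      intro g hg
      have hconj : ∀ z ∈ (S' : Subgroup G), g * z * g⁻¹ ∈ (S' : Subgroup G) := by
        intro z hz
        have hzC : g * z * g⁻¹ ∈ C := by
          rw [hC, Subgroup.mem_centralizer_iff]
          intro w hw
          have hw' : g⁻¹ * w * g ∈ (Q : Subgroup G) := by
            have := (Subgroup.mem_normalizer_iff.1 (inv_mem hg) w).1 hw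
            rwa [inv_inv] at this
          have h := Subgroup.mem_centralizer_iff.1 (hS'C hz) _ hw'
          calc w * (g * z * g⁻¹) = g * ((g⁻¹ * w * g) * z) * g⁻¹ := by group
            _ = g * (z * (g⁻¹ * w * g)) * g⁻¹ := by rw [h]
            _ = g * z * g⁻¹ * w := by group
        have ho : orderOf (g * z * g⁻¹) ∣ 3 := by
          rw [show g * z * g⁻¹ = MulAut.conj g z from rfl, MulEquiv.orderOf_eq, ← hS'c]
          exact Subgroup.orderOf_dvd_natCard _ hz
        rcases (Nat.dvd_prime (by norm_num)).1 ho with h1 | h1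
        · rw [orderOf_eq_one_iff.1 h1]; exact one_mem _
        · exact mem_of_normalizes S' (k := 1) (by rw [h1, pow_one]) (hCS hzC)
      exact Subgroup.mem_normalizer_fintype hconj
    have hc3 := Small.SmallOrders.card_normalizer S'
    rw [hn3, hG] at hc3
    have h60 : Nat.card (Subgroup.normalizer ((Q : Subgroup G) : Set G)) = 60 := by omega
    have hd3 := Subgroup.card_dvd_of_le hNN
    rw [h60] at hd3
    obtain ⟨j, hj⟩ := hd3
    rw [hj] at hc3
    have hnj : n3 * j = 266 := by
      have : n3 * j * 60 = 266 * 60 := by rw [← show (15960 : ℕ) = 266 * 60 by norm_num, ← hc3]; ring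
      exact Nat.eq_of_mul_eq_mul_right (by norm_num) this
    have key : ∀ n ∈ Nat.divisors 266, n % 3 = 1 → n ≠ 1 → ∀ d ∈ Nat.divisors (266 / n),
        d % 5 = 1 → d = 1 := by decide +kernel
    have hn30 : 0 < n3 := by
      rcases Nat.eq_zero_or_pos n3 with h0 | h0
      · subst h0; simp at hnj
      · exact h0
    have hj' : 266 / n3 = j := by rw [← hnj, Nat.mul_div_cancel_left _ hn30]
    have hQK : (Q : Subgroup G) ≤ Subgroup.normalizer ((S' : Subgroup G) : Set G) :=
      Subgroup.le_normalizer.trans hNN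
    have hKN := normal_in (p := 5) Q _ (Subgroup.normalizer ((Q : Subgroup G) : Set G)) hQK h60
      hNN le_rfl (fun d hd hdm => by
        refine key n3 (Nat.mem_divisors.2 ⟨Dvd.intro j hnj, by norm_num⟩) hm3 hne3 d
          (Nat.mem_divisors.2 ⟨?_, fun h0 => ?_⟩) hdm
        · rw [hj'] ; rw [hj, mul_comm 60 j] at hd
          exact Nat.dvd_of_mul_dvd_mul_right (by norm_num : 0 < 60) hd
        · rw [hj'] at h0; subst h0; simp at hnj)
    have h5 := Subgroup.card_dvd_of_le hKN
    rw [h60, hj] at h5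
    have hj1 : j = 1 := Nat.dvd_one.1 (Nat.dvd_of_mul_dvd_mul_left (by norm_num : 0 < 60)
      (by rwa [mul_one]))
    subst hj1
    rw [mul_one] at hnj
    subst hnj
    omega
  · have b19 := pSet_bound (E := 2) P hP hn hk hnek le_rfl
    have b5 := pSet_bound (E := 2) Q hQ hn5 hk5 hnek5 he.le
    have b7 := pSet_bound (E := 6) R hR hn7 hk7 hnek7 (Nat.le_of_dvd (by norm_num) he7)
    have := count_three (G := G) (p := 19) (q := 5) (r := 7)
      (disjoint_of P hP hk (by norm_num) (by norm_num))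
      (disjoint_of P hP hk (by norm_num) (by norm_num))
      (disjoint_of Q hQ hk5 (by norm_num) h7) (by norm_num) (by norm_num) (by norm_num)
    omega

theorem false_58520 (hG : Nat.card G = 58520) : False := by
  rcases data_nineteen (m := 3080) (by rw [hG]) (by norm_num) (by norm_num) with h | h
  · omega
  obtain ⟨P, n, e, k, hP, hn, hk, hnek, -, hc⟩ := h
  have hk1 : k = 1 ∧ e = 2 := by omega
  obtain ⟨rfl, rfl⟩ := hk1
  obtain ⟨Q, n5, e5, k5, hQ, hn5, hk5, hnek5, -, -, he5, -, -⟩ :=
    data (G := G) (p := 5) (m := 11704) (by rw [hG]) (by norm_num) (by norm_num)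
  obtain ⟨R, n7, e7, k7, hR, hn7, hk7, hnek7, hm7, hne7, he7, he71, -⟩ :=
    data (G := G) (p := 7) (m := 8360) (by rw [hG]) (by norm_num) (by norm_num)
  have h197 := not_dvd_k P R hP hR hk hk7 (by norm_num) (by norm_num)
  have h := table_seven_58520 n7 (Nat.mem_divisors.2 ⟨Dvd.intro (e7 * k7) (by rw [← hnek7]; ring),
    by norm_num⟩) e7 (Nat.mem_divisors.2 ⟨he7, by norm_num⟩) (Dvd.intro k7 hnek7) hm7 hne7 he71
    (k_eq hnek7 (by norm_num) ▸ h197)
  rw [← k_eq hnek7 (by norm_num)] at h
  obtain ⟨he, h5⟩ := h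
  have b19 := pSet_bound (E := 2) P hP hn hk hnek le_rfl
  have b5 := pSet_bound (E := 4) Q hQ hn5 hk5 hnek5 (Nat.le_of_dvd (by norm_num) he5)
  have b7 := pSet_bound (E := 2) R hR hn7 hk7 hnek7 he.le
  have := count_three (G := G) (p := 19) (q := 7) (r := 5)
    (disjoint_of P hP hk (by norm_num) (by norm_num)) (disjoint_of P hP hk (by norm_num) (by norm_num))
    (disjoint_of R hR hk7 (by norm_num) h5) (by norm_num) (by norm_num) (by norm_num)
  omega

theorem false_87780 (hG : Nat.card G = 87780) : False := by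
  rcases data_nineteen (m := 4620) (by rw [hG]) (by norm_num) (by norm_num) with h | h
  · omega
  obtain ⟨P, n, e, k, hP, hn, hk, hnek, he19, hc⟩ := h
  have hk1 : k = 1 ∨ k = 11 := by omega
  obtain ⟨T, n11, e11, k11, hT, hn11, hk11, hnek11, hm11, hne11, he11, he111, -⟩ :=
    data (G := G) (p := 11) (m := 7980) (by rw [hG]) (by norm_num) (by norm_num)
  obtain ⟨Q, n5, e5, k5, hQ, hn5, hk5, hnek5, hm5, hne5, he5, he51, -⟩ :=
    data (G := G) (p := 5) (m := 17556) (by rw [hG]) (by norm_num) (by norm_num)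
  obtain ⟨R, n7, e7, k7, hR, hn7, hk7, hnek7, hm7, hne7, he7, he71, -⟩ :=
    data (G := G) (p := 7) (m := 12540) (by rw [hG]) (by norm_num) (by norm_num)
  have hne : ¬ 7 ∣ k ∧ ¬ 5 ∣ k := by rcases hk1 with rfl | rfl <;> norm_num
  have h197 := not_dvd_k P R hP hR hk hk7 (by norm_num) hne.1
  have h195 := not_dvd_k P Q hP hQ hk hk5 (by norm_num) hne.2
  have h7T : ¬ 7 ∣ k11 := by
    intro h7
    have h12 := table_eleven n11 (Nat.mem_divisors.2 ⟨Dvd.intro (e11 * k11) (by rw [← hnek11]; ring),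
      by norm_num⟩) e11 (Nat.mem_divisors.2 ⟨he11, by norm_num⟩) (Dvd.intro k11 hnek11) hm11 hne11
      he111 (k_eq hnek11 (by norm_num) ▸ h7)
    have hi : (Subgroup.normalizer ((T : Subgroup G) : Set G)).index = 12 := by
      rw [← h12, ← hn11]; exact (Sylow.card_eq_index_normalizer T).symm
    have hne : Subgroup.normalizer ((T : Subgroup G) : Set G) ≠ ⊤ := fun h => by
      rw [h, Subgroup.index_top] at hi; omega
    have := Small.SmallOrders.card_dvd_index_factorial _ hne
    rw [hG, hi] at this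
    norm_num [Nat.factorial] at this
  have h117 := not_dvd_k T R hT hR hk11 hk7 (by norm_num) h7T
  have h := table_seven_87780 n7 (Nat.mem_divisors.2 ⟨Dvd.intro (e7 * k7) (by rw [← hnek7]; ring),
    by norm_num⟩) e7 (Nat.mem_divisors.2 ⟨he7, by norm_num⟩) (Dvd.intro k7 hnek7) hm7 hne7 he71
    (k_eq hnek7 (by norm_num) ▸ h197) (k_eq hnek7 (by norm_num) ▸ h117)
  rw [← k_eq hnek7 (by norm_num)] at h
  have h' := table_five_87780 n5 (Nat.mem_divisors.2 ⟨Dvd.intro (e5 * k5) (by rw [← hnek5]; ring),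
    by norm_num⟩) e5 (Nat.mem_divisors.2 ⟨he5, by norm_num⟩) (Dvd.intro k5 hnek5) hm5 hne5 he51
    (k_eq hnek5 (by norm_num) ▸ h195)
  rw [← k_eq hnek5 (by norm_num)] at h'
  obtain ⟨he5', h75⟩ := h'
  rcases h with ⟨he7', h57⟩ | ⟨he7', -⟩
  · exact (not_dvd_k Q R hQ hR hk5 hk7 (by norm_num) h75) h57
  have b19 := pSet_bound (E := 3) P hP hn hk hnek he19
  have b5 := pSet_bound (E := 2) Q hQ hn5 hk5 hnek5 he5'.le
  have b7 := pSet_bound (E := 3) R hR hn7 hk7 hnek7 he7'.le
  have := count_three (G := G) (p := 19) (q := 5) (r := 7)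
    (disjoint_of P hP hk (by norm_num) hne.2) (disjoint_of P hP hk (by norm_num) hne.1)
    (disjoint_of Q hQ hk5 (by norm_num) h75) (by norm_num) (by norm_num) (by norm_num)
  omega

omit [IsSimpleGroup G] in
/-- A group whose order divides 175560 and is divisible by nineteen. -/
theorem simple_or_normal : ∀ d : ℕ, ∀ (G : Type u) [Group G] [Finite G], Nat.card G = d →
    19 ∣ d → d ∣ 175560 →
    (IsSimpleGroup G ∧ d = 175560) ∨ ∀ P : Sylow 19 G, (P : Subgroup G).Normal := by
  intro d
  induction d using Nat.strong_induction_on with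
  | _ d ih =>
    intro G _ _ hd h19 hdvd
    obtain ⟨m, rfl⟩ := h19
    have hm : m ∣ 9240 := Nat.dvd_of_mul_dvd_mul_left (by norm_num : 0 < 19)
      (by norm_num; exact hdvd)
    have h19m : ¬ 19 ∣ m := fun h => absurd (h.trans hm) (by norm_num)
    have hPcard : ∀ P : Sylow 19 G, Nat.card P = 19 := fun P => by
      have := Small.SmallOrders.sylow_card_eq (k := 1) (by rwa [pow_one]) h19m P
      rwa [pow_one] at this
    by_cases hm1 : m = 1
    · refine Or.inr fun P => ?_
      have : (P : Subgroup G) = ⊤ := Subgroup.eq_top_of_card_eq _ (by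
        rw [hd, hm1, mul_one]; exact hPcard P)
      rw [this]; infer_instance
    have hm0 : m ≠ 0 := by rintro rfl; simp at hm
    by_cases hs : IsSimpleGroup G
    · refine Or.inl ⟨hs, ?_⟩
      rcases data_nineteen (G := G) hd hm (by omega) with h | h
      · rw [h]
      · exfalso
        obtain ⟨P, n, e, k, -, -, -, -, -, hc⟩ := h
        rcases hc with ⟨rfl, -⟩ | ⟨rfl, -⟩ | ⟨rfl, -⟩ | ⟨rfl, -⟩
        · exact false_7980 hd
        · exact false_15960 hd
        · exact false_58520 hd
        · exact false_87780 hd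
    refine Or.inr ?_
    -- a proper normal subgroup of order divisible by 19 suffices
    have hN19 : ∀ N : Subgroup G, N.Normal → N ≠ ⊤ → 19 ∣ Nat.card N →
        ∀ P : Sylow 19 G, (P : Subgroup G).Normal := by
      intro N hN hNt h19N P
      haveI := hN
      have hlt : Nat.card N < 19 * m :=
        hd ▸ lt_of_le_of_ne (Subgroup.card_le_card_group N) fun h =>
          hNt (Subgroup.eq_top_of_card_eq _ h)
      rcases ih _ hlt N rfl h19N ((Subgroup.card_subgroup_dvd_card N).trans (hd ▸ hdvd)) with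
        ⟨-, h⟩ | h
      · have hle : 19 * m ≤ 175560 := Nat.le_of_dvd (by norm_num) hdvd
        omega
      obtain ⟨PN⟩ := (inferInstance : Nonempty (Sylow 19 N))
      haveI := h PN
      haveI : (PN : Subgroup N).Characteristic := PN.characteristic_of_normal inferInstance
      haveI hmap : ((PN : Subgroup N).map N.subtype).Normal := inferInstance
      have hc : Nat.card ((PN : Subgroup N).map N.subtype) = 19 := by
        rw [Subgroup.card_map_of_injective N.subtype_injective]
        obtain ⟨j, hj⟩ := h19N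
        have hj19 : ¬ 19 ∣ j := fun h => h19m (Nat.dvd_of_mul_dvd_mul_left (by norm_num : 0 < 19)
          ((Nat.mul_dvd_mul_left 19 h).trans (hj ▸ hd ▸ Subgroup.card_subgroup_dvd_card N)))
        have := Small.SmallOrders.sylow_card_eq (k := 1) (by rw [pow_one]; exact hj) hj19 PN
        rwa [pow_one] at this
      have hle : (PN : Subgroup N).map N.subtype ≤ (P : Subgroup G) := fun x hx => by
        obtain ⟨k, hk⟩ := IsPGroup.iff_orderOf.1 (IsPGroup.of_card (n := 1) (by rw [hc, pow_one] :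
          Nat.card ((PN : Subgroup N).map N.subtype) = 19 ^ 1)) ⟨x, hx⟩
        rw [Subgroup.orderOf_mk] at hk
        have hsup := (IsPGroup.of_card (n := 1) (by rw [hc, pow_one] :
          Nat.card ((PN : Subgroup N).map N.subtype) = 19 ^ 1)).to_sup_of_normal_left P.isPGroup'
        exact (P.is_maximal' hsup le_sup_right).le (Subgroup.mem_sup_left hx)
      rw [← Subgroup.eq_of_le_of_card_ge hle (by rw [hc]; exact (hPcard P).le)]
      exact hmap
    obtain ⟨N, hN, hN1, hNt⟩ : ∃ N : Subgroup G, N.Normal ∧ N ≠ ⊥ ∧ N ≠ ⊤ := by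
      by_contra hcon
      apply hs
      haveI : Nontrivial G := by
        rw [← Finite.one_lt_card_iff_nontrivial, hd]; omega
      exact ⟨fun N hN => by
        by_contra h
        push_neg at h
        exact hcon ⟨N, hN, h.1, h.2⟩⟩
    haveI := hN
    by_cases h19N : 19 ∣ Nat.card N
    · exact hN19 N hN hNt h19N
    intro P
    have hmul := Subgroup.card_mul_index N
    have hidx : N.index = Nat.card (G ⧸ N) := (Subgroup.index_eq_card N)
    have h19q : 19 ∣ Nat.card (G ⧸ N) := by
      rw [← hidx]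
      have : 19 ∣ Nat.card N * N.index := by rw [hmul, hd]; exact dvd_mul_right _ _
      exact ((by norm_num : Nat.Prime 19).dvd_mul.1 this).resolve_left h19N
    have hlt : Nat.card (G ⧸ N) < 19 * m := by
      rw [← hidx, ← hd, ← hmul]
      have h1 : 1 < Nat.card N := N.one_lt_card_iff_ne_bot.2 hN1
      have h2 : 0 < N.index := Nat.pos_of_ne_zero Subgroup.index_ne_zero_of_finite
      exact lt_mul_of_one_lt_left h2 h1
    rcases ih _ hlt (G ⧸ N) rfl h19q ((hidx ▸ Subgroup.index_dvd_card N).trans (hd ▸ hdvd)) with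
      ⟨-, h⟩ | h
    · have hle : 19 * m ≤ 175560 := Nat.le_of_dvd (by norm_num) hdvd
      omega
    let Pq : Sylow 19 (G ⧸ N) := P.mapSurjective (QuotientGroup.mk'_surjective N)
    haveI := h Pq
    let M : Subgroup G := (Pq : Subgroup (G ⧸ N)).comap (QuotientGroup.mk' N)
    haveI hMn : M.Normal := inferInstance
    have hPM : (P : Subgroup G) ≤ M := Subgroup.map_le_iff_le_comap.1 le_rfl
    by_cases hMt : M = ⊤
    swap
    · exact hN19 M hMn hMt ((hPcard P) ▸ Subgroup.card_dvd_of_le hPM) P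
    -- `G = N P`: the normaliser of `P` contains a Sylow subgroup for every prime
    have hNP : N ⊔ (P : Subgroup G) = ⊤ := by
      rw [← hMt]
      show _ = (((P : Subgroup G).map (QuotientGroup.mk' N))).comap (QuotientGroup.mk' N)
      rw [Subgroup.comap_map_eq, QuotientGroup.ker_mk', sup_comm]
    have hq : ∀ q : ℕ, q.Prime → q ∣ m → q ^ (m.factorization q) ∣
        Nat.card (Subgroup.normalizer ((P : Subgroup G) : Set G)) := by
      intro q hq hqm
      haveI := Fact.mk hq
      have hq19 : q ≠ 19 := fun h => h19m (h ▸ hqm)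
      have hPN : (P : Subgroup G) ≤ Subgroup.normalizer (N : Set G) := fun x _ =>
        Subgroup.normalizer_eq_top (H := N) ▸ Subgroup.mem_top x
      have hco : (Nat.card (P : Subgroup G)).Coprime (Nat.card N) := by
        rw [show Nat.card (P : Subgroup G) = 19 from hPcard P]
        exact (Nat.Prime.coprime_iff_not_dvd (by norm_num)).2 h19N
      obtain ⟨S, hS, hSinv⟩ := Solv.exists_invariant_sylow hPN hco
        (Or.inl (Group.isSolvable_of_comm (by
          haveI : IsCyclic ↥(P : Subgroup G) := isCyclic_of_prime_card (hPcard P)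
          exact fun a b => IsCyclic.commutative.is_comm.comm a b))) q
      have hScard : Nat.card S = q ^ (m.factorization q) := by
        have hNm : Nat.card N = m := by
          have h1 := Solv.card_sup_mul_card_inf' N (P : Subgroup G) hPN
          rw [hNP, Subgroup.card_top, hd, show Nat.card (P : Subgroup G) = 19 from hPcard P] at h1
          have hi : Nat.card (N ⊓ (P : Subgroup G) : Subgroup G) = 1 :=
            Nat.eq_one_of_dvd_coprimes hco.symm (Subgroup.card_dvd_of_le inf_le_left)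
              (Subgroup.card_dvd_of_le inf_le_right)
          rw [hi, mul_one] at h1
          omega
        rw [hS.2, hNm]
      -- the Sylow count in `S P`
      have hK := Solv.card_sup_mul_card_inf' S (P : Subgroup G) hSinv
      rw [hScard, show Nat.card (P : Subgroup G) = 19 from hPcard P] at hK
      have hi : Nat.card (S ⊓ (P : Subgroup G) : Subgroup G) = 1 := by
        refine Nat.eq_one_of_dvd_coprimes (Nat.Coprime.pow_left (m.factorization q)
          ((Nat.coprime_primes hq (by norm_num : Nat.Prime 19)).2 hq19)) ?_ ?_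
        · rw [← hScard]; exact Subgroup.card_dvd_of_le inf_le_left
        · exact dvd_trans (Subgroup.card_dvd_of_le inf_le_right) (dvd_of_eq (hPcard P))
      rw [hi, mul_one] at hK
      have hqf : q ^ (m.factorization q) ∈ Nat.divisors 9240 :=
        Nat.mem_divisors.2 ⟨(Nat.ordProj_dvd m q).trans hm, by norm_num⟩
      have hle := normal_in (p := 19) P (S ⊔ (P : Subgroup G)) (P : Subgroup G) le_sup_right
        (hPcard P) le_sup_right Subgroup.le_normalizer (fun d hd' hdm => by
          rw [hK] at hd'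
          have hd'' : d ∣ q ^ (m.factorization q) :=
            Nat.dvd_of_mul_dvd_mul_right (by norm_num : 0 < 19) hd'
          obtain ⟨i, hi1, rfl⟩ := (Nat.dvd_prime_pow hq).1 hd''
          have key : ∀ x ∈ Nat.divisors 9240, IsPrimePow x → x % 19 = 1 → False := by
            decide +kernel
          rcases Nat.eq_zero_or_pos i with rfl | hi0
          · simp
          · exact (key _ (Nat.mem_divisors.2 ⟨hd''.trans (Nat.mem_divisors.1 hqf).1, by norm_num⟩)
              ⟨q, i, Nat.prime_iff.1 hq, hi0, rfl⟩ hdm).elim)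
      rw [← hScard]
      exact Subgroup.card_dvd_of_le (le_sup_left.trans hle)
    have hdvN : 19 * m ∣ Nat.card (Subgroup.normalizer ((P : Subgroup G) : Set G)) := by
      refine Nat.Coprime.mul_dvd_of_dvd_of_dvd
        ((Nat.Prime.coprime_iff_not_dvd (by norm_num)).2 h19m)
        ((dvd_of_eq (hPcard P).symm).trans (Subgroup.card_dvd_of_le Subgroup.le_normalizer)) ?_
      rw [Nat.dvd_iff_prime_pow_dvd_dvd]
      intro q k hqp hqk
      rcases Nat.eq_zero_or_pos k with rfl | hk0
      · simp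
      · exact (pow_dvd_pow q ((hqp.pow_dvd_iff_le_factorization hm0).1 hqk)).trans
          (hq q hqp ((dvd_pow_self q hk0.ne').trans hqk))
    rw [← Subgroup.normalizer_eq_top_iff]
    exact Subgroup.eq_top_of_card_eq _ (Nat.dvd_antisymm (Subgroup.card_subgroup_dvd_card _)
      (hd ▸ hdvN))

end Cfsg.Agent.Char.OrderJanko
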