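import Cfsg.Agent.Lib.Char.PrimeSylowCount

/-!
Groups of order dividing 175560: general lemmas and the possible Sylow 19 data of a simple group.
-/

set_option autoImplicit false
set_option linter.style.haveILetI false

universe u

namespace Cfsg.Agent.Char.OrderJanko

open Cfsg.Agent.Char.PrimeSylowCount
open scoped Pointwise

variable {G : Type u} [Group G] [Finite G]

theorem mem_of_normalizes {p : ℕ} [Fact p.Prime] (P : Sylow p G) {y : G} {k : ℕ}
    (hy : orderOf y = p ^ k) (hn : y ∈ Subgroup.normalizer ((P : Subgroup G) : Set G)) :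
    y ∈ (P : Subgroup G) := by
  have hpg : IsPGroup p (Subgroup.zpowers y) :=
    IsPGroup.of_card (n := k) (by rw [Nat.card_zpowers, hy])
  have hsup := hpg.to_sup_of_normal_right' P.isPGroup' (Subgroup.zpowers_le.2 hn)
  exact (P.is_maximal' hsup le_sup_right).le (Subgroup.mem_sup_left (Subgroup.mem_zpowers y))

/-- A Sylow subgroup is normal in an overgroup when Sylow counting allows only one. -/
theorem normal_in {p a : ℕ} [Fact p.Prime] (Q : Sylow p G) (K J : Subgroup G)
    (hQK : (Q : Subgroup G) ≤ K) (hJ : Nat.card J = a) (hJK : J ≤ K)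
    (hJN : J ≤ Subgroup.normalizer ((Q : Subgroup G) : Set G))
    (h : ∀ d, d * a ∣ Nat.card K → d % p = 1 → d = 1) :
    K ≤ Subgroup.normalizer ((Q : Subgroup G) : Set G) := by
  let QK : Sylow p K := Q.subtype hQK
  have hQcoe : (QK : Subgroup K) = (Q : Subgroup G).subgroupOf K := Q.coe_subtype hQK
  set NK := Subgroup.normalizer (((QK : Subgroup K)) : Set K) with hNK
  have hle : J.subgroupOf K ≤ NK := by
    intro x hx
    rw [hNK, Subgroup.mem_normalizer_iff]
    intro y
    rw [hQcoe, Subgroup.mem_subgroupOf, Subgroup.mem_subgroupOf]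
    exact (Subgroup.mem_normalizer_iff.1 (hJN hx) (y : G))
  have hmul : Nat.card (Sylow p K) * a ∣ Nat.card K := by
    obtain ⟨c, hc⟩ := Subgroup.card_dvd_of_le hle
    refine ⟨c, ?_⟩
    rw [← Small.SmallOrders.card_normalizer QK, ← hNK, hc, Solv.card_subgroupOf hJK, hJ, mul_assoc]
  have hmod : Nat.card (Sylow p K) % p = 1 := by
    rw [card_sylow_modEq_one p K, Nat.mod_eq_of_lt (Fact.out : p.Prime).one_lt]
  have h1 := h _ hmul hmod
  haveI : Subsingleton (Sylow p K) := (Nat.card_eq_one_iff_unique.mp h1).1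
  haveI hn : ((Q : Subgroup G).subgroupOf K).Normal := hQcoe ▸ QK.normal_of_subsingleton
  exact (Subgroup.normal_subgroupOf_iff_le_normalizer hQK).1 hn

/-- `(p - 1) m` is at most `E` times the number of elements of order divisible by `p`. -/
theorem pSet_bound {p m n e k E : ℕ} [Fact p.Prime] (P : Sylow p G) (hP : Nat.card P = p)
    (hn : Nat.card (Sylow p G) = n) (hk : centCard p P = p * k) (hm : n * e * k = m)
    (he : e ≤ E) : (p - 1) * m ≤ E * (pSet p G).card := by
  have h := pSet_ge P hP hk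
  rw [hn] at h
  calc (p - 1) * m = e * (n * ((p - 1) * k)) := by rw [← hm]; ring
    _ ≤ E * (pSet p G).card := Nat.mul_le_mul he h

theorem not_dvd_k {p q k k' : ℕ} [Fact p.Prime] [Fact q.Prime] (P : Sylow p G) (Q : Sylow q G)
    (hP : Nat.card P = p) (hQ : Nat.card Q = q) (hk : centCard p P = p * k)
    (hk' : centCard q Q = q * k') (hpq : p ≠ q) (h : ¬ q ∣ k) : ¬ p ∣ k' := by
  intro hpk
  have h1 := cross Q P hQ hP (hk' ▸ dvd_mul_of_dvd_right hpk q)
  rw [hk] at h1
  rcases (Fact.out : q.Prime).dvd_mul.1 h1 with h2 | h2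
  · exact hpq ((Nat.prime_dvd_prime_iff_eq (Fact.out : q.Prime) (Fact.out : p.Prime)).1 h2).symm
  · exact h h2

theorem disjoint_of {p q k : ℕ} [Fact p.Prime] [Fact q.Prime] (P : Sylow p G)
    (hP : Nat.card P = p) (hk : centCard p P = p * k) (hpq : p ≠ q) (h : ¬ q ∣ k) :
    Disjoint (pSet p G) (pSet q G) := by
  refine pSet_disjoint P hP hpq fun h1 => ?_
  rw [hk] at h1
  rcases (Fact.out : q.Prime).dvd_mul.1 h1 with h2 | h2
  · exact hpq ((Nat.prime_dvd_prime_iff_eq (Fact.out : q.Prime) (Fact.out : p.Prime)).1 h2).symm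
  · exact h h2

instance : Fact (Nat.Prime 19) := ⟨by norm_num⟩
instance : Fact (Nat.Prime 11) := ⟨by norm_num⟩
instance : Fact (Nat.Prime 7) := ⟨by norm_num⟩
instance : Fact (Nat.Prime 5) := ⟨by norm_num⟩

/-- With twenty Sylow subgroups of order nineteen the centraliser has order nineteen. -/
theorem cent_twenty [IsSimpleGroup G] (P : Sylow 19 G) (hP : Nat.card P = 19)
    (hn : Nat.card (Sylow 19 G) = 20) : centCard 19 P ≤ 19 := by
  classical
  haveI := Fintype.ofFinite (Sylow 19 G)
  have hne : ∃ Q : Sylow 19 G, Q ≠ P := by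
    by_contra hcon
    push_neg at hcon
    haveI : Subsingleton (Sylow 19 G) := ⟨fun a b => (hcon a).trans (hcon b).symm⟩
    have := Finite.card_le_one_iff_subsingleton.2 (inferInstance : Subsingleton (Sylow 19 G))
    omega
  obtain ⟨Q, hQ⟩ := hne
  have hker : (MulAction.toPermHom G (Sylow 19 G)).ker = ⊥ := by
    refine (IsSimpleGroup.eq_bot_or_eq_top_of_normal _ inferInstance).resolve_right fun h => hQ ?_
    obtain ⟨g, hg⟩ := MulAction.exists_smul_eq G P Q
    have h1 : (MulAction.toPermHom G (Sylow 19 G)) g = 1 :=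
      MonoidHom.mem_ker.1 (h ▸ Subgroup.mem_top g)
    have h2 : g • P = P := Equiv.congr_fun h1 P
    rw [h2] at hg
    exact hg.symm
  -- the orbit of `Q` under `P` is everything but `P`
  have horb : ∀ R : Sylow 19 G, R ≠ P → ∃ y ∈ (P : Subgroup G), y • Q = R := by
    have hmove : ∀ y : G, y ∈ (P : Subgroup G) → y • Q = Q → y = 1 := by
      intro y hy hyQ
      by_contra hy1
      have ho : orderOf y = 19 := by
        have h := (P : Subgroup G).orderOf_dvd_natCard hy
        rw [show Nat.card (P : Subgroup G) = 19 from hP] at h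
        rcases (Nat.dvd_prime (by norm_num)).1 h with h' | h'
        · exact absurd (orderOf_eq_one_iff.1 h') hy1
        · exact h'
      have hyQ' := mem_of_normalizes Q (k := 1) (by rw [ho, pow_one])
        (Sylow.smul_eq_iff_mem_normalizer.1 hyQ)
      apply hQ
      apply Sylow.ext
      have h1 : Subgroup.zpowers y = (P : Subgroup G) := Subgroup.eq_of_le_of_card_ge
        (Subgroup.zpowers_le.2 hy) (by rw [Nat.card_zpowers, ho]; exact hP.le)
      have h2 : Subgroup.zpowers y = (Q : Subgroup G) := Subgroup.eq_of_le_of_card_ge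
        (Subgroup.zpowers_le.2 hyQ') (by
          rw [Nat.card_zpowers, ho, Q.card_eq_multiplicity, ← P.card_eq_multiplicity, hP])
      exact h2.symm.trans h1
    let f : ↥(P : Subgroup G) → {R : Sylow 19 G // R ≠ P} := fun y => ⟨(y : G) • Q, fun h => by
      apply hQ
      have h3 : Q = (y : G)⁻¹ • P :=
        (inv_smul_smul (y : G) Q).symm.trans (congrArg ((y : G)⁻¹ • ·) h)
      rw [h3]
      exact Sylow.smul_eq_iff_mem_normalizer.2 (Subgroup.le_normalizer ((P : Subgroup G).inv_mem y.2))⟩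
    have hinj : Function.Injective f := by
      intro a b hab
      have h : ((b : G)⁻¹ * a) • Q = Q := by
        have hab' : (a : G) • Q = (b : G) • Q := congrArg Subtype.val hab
        rw [mul_smul, hab', inv_smul_smul]
      exact Subtype.ext (inv_mul_eq_one.1 (hmove _ ((P : Subgroup G).mul_mem
        ((P : Subgroup G).inv_mem b.2) a.2) h)).symm
    have hsurj : Function.Surjective f := by
      refine (Nat.bijective_iff_injective_and_card f).2 ⟨hinj, ?_⟩ |>.2
      rw [show Nat.card (P : Subgroup G) = 19 from hP, Nat.card_eq_fintype_card,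
        Fintype.card_subtype_compl, Fintype.card_subtype_eq, ← Nat.card_eq_fintype_card, hn]
    intro R hR
    obtain ⟨y, hy⟩ := hsurj ⟨R, hR⟩
    exact ⟨y, y.2, congrArg Subtype.val hy⟩
  let g : Subgroup.centralizer ((P : Subgroup G) : Set G) → {R : Sylow 19 G // R ≠ P} :=
    fun c => ⟨(c : G) • Q, fun h => hQ (by
      have h3 : Q = (c : G)⁻¹ • P :=
        (inv_smul_smul (c : G) Q).symm.trans (congrArg ((c : G)⁻¹ • ·) h)
      rw [h3]
      exact Sylow.smul_eq_iff_mem_normalizer.2 (Subgroup.centralizer_le_normalizer _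
        ((Subgroup.centralizer _).inv_mem c.2)))⟩
  have hg : Function.Injective g := by
    intro a b hab
    set d := (b : G)⁻¹ * a with hd
    have hdC : d ∈ Subgroup.centralizer ((P : Subgroup G) : Set G) :=
      mul_mem (inv_mem b.2) a.2
    have hab' : (a : G) • Q = (b : G) • Q := congrArg Subtype.val hab
    have hdQ : d • Q = Q := by rw [hd, mul_smul, hab', inv_smul_smul]
    have hd1 : d = 1 := by
      rw [← Subgroup.mem_bot, ← hker, MonoidHom.mem_ker]
      refine Equiv.ext fun R => ?_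
      show d • R = R
      by_cases hR : R = P
      · rw [hR]; exact Sylow.smul_eq_iff_mem_normalizer.2 (Subgroup.centralizer_le_normalizer _ hdC)
      · obtain ⟨y, hy, rfl⟩ := horb R hR
        rw [← mul_smul, ← Subgroup.mem_centralizer_iff.1 hdC y hy, mul_smul, hdQ]
    exact Subtype.ext (inv_mul_eq_one.1 hd1).symm
  have := Nat.card_le_card_of_injective g hg
  rw [Nat.card_eq_fintype_card (α := {R : Sylow 19 G // R ≠ P}),
    Fintype.card_subtype_compl, Fintype.card_subtype_eq, ← Nat.card_eq_fintype_card, hn] at this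
  exact this

/-- The possible Sylow 19 data. -/
theorem data_nineteen [IsSimpleGroup G] {m : ℕ} (hG : Nat.card G = 19 * m) (hm : m ∣ 9240)
    (hm1 : 1 < m) : m = 9240 ∨ ∃ (P : Sylow 19 G) (n e k : ℕ), Nat.card P = 19 ∧
      Nat.card (Sylow 19 G) = n ∧ centCard 19 P = 19 * k ∧ n * e * k = m ∧ e ≤ 3 ∧
      ((m = 420 ∧ k = 1 ∧ e = 2) ∨ (m = 840 ∧ k = 2 ∧ e = 2) ∨ (m = 3080 ∧ k = 1 ∧ e = 2) ∨
        (m = 4620 ∧ (k = 1 ∨ k = 11))) := by
  have h19 : ¬ 19 ∣ m := fun h => absurd (h.trans hm) (by norm_num)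
  obtain ⟨P, n, e, k, hP, hn, hk, hnek, hn1, hne1, he, he1, hrel⟩ := data hG h19 hm1
  have hna : ¬ IsMulCommutative G := Lead.BlockDeg.not_comm (p := 19) (by norm_num) hG hm1
  by_cases hmax : m = 9240
  · exact Or.inl hmax
  right
  have hndiv : n ∈ Nat.divisors 9240 :=
    Nat.mem_divisors.2 ⟨(Dvd.intro (e * k) (by rw [← hnek]; ring)).trans hm, by norm_num⟩
  have hn' : n = 20 ∨ n = 77 ∨ n = 210 ∨ n = 1540 := by
    have key : ∀ n ∈ Nat.divisors 9240, n % 19 = 1 → n ≠ 1 →
        n = 20 ∨ n = 77 ∨ n = 210 ∨ n = 1540 := by decide +kernel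
    exact key n hndiv hn1 hne1
  have hek : n * e ∣ 9240 := (Dvd.intro k hnek).trans hm
  have hk19 : k ∣ 9240 := (Dvd.intro (n * e) (by rw [← hnek]; ring)).trans hm
  have hediv : e ∈ Nat.divisors 18 := Nat.mem_divisors.2 ⟨he, by norm_num⟩
  rcases hn' with rfl | rfl | rfl | rfl
  · exfalso
    have hk1 : k = 1 := by
      have h := cent_twenty P hP hn
      rw [hk] at h
      rcases Nat.eq_zero_or_pos k with hk0 | hk0
      · subst hk0; simp at hnek; omega
      · omega
    subst hk1
    have he' : e = 2 ∨ e = 3 ∨ e = 6 := by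
      have key : ∀ e ∈ Nat.divisors 18, 20 * e ∣ 9240 → e ≠ 1 → e = 2 ∨ e = 3 ∨ e = 6 := by
        decide +kernel
      exact key e hediv hek he1
    obtain ⟨l, t, hl, hs, htd, -, hsum⟩ := Lead.BlockDeg.degree_equation hna P hP hrel
      (by omega) (by omega)
    have hall : ∀ s ∈ l, s = 20 := by
      intro s hs'
      obtain ⟨h1, h2, -, h4⟩ := hs s hs'
      rw [hn] at h4
      have key : ∀ e ∈ ({2, 3, 6} : Finset ℕ), ∀ d ∈ Nat.divisors (20 * e), 1 < d →
          (d % 19 = 1 → d = 20) ∧ d % 19 ≠ 18 := by decide +kernel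
      have h5 := key e (by simp [he']) s.natAbs
        (Nat.mem_divisors.2 ⟨h4, by omega⟩) h2
      obtain ⟨h6, h7⟩ := h5
      omega
    rw [List.eq_replicate_iff.2 ⟨hl, hall⟩, List.sum_replicate, nsmul_eq_mul] at hsum
    rw [hG, ← hnek, hsum] at htd
    rcases he' with rfl | rfl | rfl <;> norm_num at htd
  · exfalso
    have he' : e = 2 ∨ e = 3 ∨ e = 6 := by
      have key : ∀ e ∈ Nat.divisors 18, 77 * e ∣ 9240 → e ≠ 1 → e = 2 ∨ e = 3 ∨ e = 6 := by
        decide +kernel
      exact key e hediv hek he1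
    obtain ⟨l, t, hl, hs, htd, -, hsum⟩ := Lead.BlockDeg.degree_equation hna P hP hrel
      (by omega) (by omega)
    have hall : ∀ s ∈ l, s = 77 := by
      intro s hs'
      obtain ⟨h1, h2, -, h4⟩ := hs s hs'
      rw [hn] at h4
      have key : ∀ e ∈ ({2, 3, 6} : Finset ℕ), ∀ d ∈ Nat.divisors (77 * e), 1 < d →
          (d % 19 = 1 → d = 77) ∧ d % 19 ≠ 18 := by decide +kernel
      have h5 := key e (by simp [he']) s.natAbs
        (Nat.mem_divisors.2 ⟨h4, by omega⟩) h2
      obtain ⟨h6, h7⟩ := h5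
      omega
    rw [List.eq_replicate_iff.2 ⟨hl, hall⟩, List.sum_replicate, nsmul_eq_mul] at hsum
    have htd' : t.natAbs ∣ 175560 :=
      htd.trans (by rw [hG]; exact Nat.mul_dvd_mul_left 19 hm)
    rw [hsum] at htd'
    rcases he' with rfl | rfl | rfl <;> norm_num at htd'
  · refine ⟨P, 210, e, k, hP, hn, hk, hnek, ?_, ?_⟩
    all_goals
      have he' : e = 2 := by
        have key : ∀ e ∈ Nat.divisors 18, 210 * e ∣ 9240 → e ≠ 1 → e = 2 := by decide +kernel
        exact key e hediv hek he1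
      subst he'
    · omega
    · have key : ∀ k ∈ Nat.divisors 9240, 210 * 2 * k ∣ 9240 → 210 * 2 * k ≠ 9240 →
          k = 1 ∨ k = 2 ∨ k = 11 := by decide +kernel
      have := key k (Nat.mem_divisors.2 ⟨hk19, by norm_num⟩) (hnek ▸ hm) (hnek ▸ hmax)
      omega
  · refine ⟨P, 1540, e, k, hP, hn, hk, hnek, ?_, ?_⟩
    all_goals
      have key : ∀ e ∈ Nat.divisors 18, ∀ k ∈ Nat.divisors 9240, 1540 * e * k ∣ 9240 →
          1540 * e * k ≠ 9240 → e ≠ 1 → (e = 2 ∧ k = 1) ∨ (e = 3 ∧ k = 1) := by decide +kernel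
      have := key e hediv k (Nat.mem_divisors.2 ⟨hk19, by norm_num⟩) (hnek ▸ hm)
        (hnek ▸ hmax) he1
    · omega
    · rcases this with ⟨rfl, rfl⟩ | ⟨rfl, rfl⟩ <;> omega

end Cfsg.Agent.Char.OrderJanko
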