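import Cfsg.Agent.Lib.Char.Defect
import Cfsg.Agent.Lib.Char.ResField
import Cfsg.Agent.Lib.Char.Clifford

/-!
# Central characters vanishing off the centralizer of a Sylow subgroup over a normal `p'`-subgroup
-/

set_option autoImplicit false

namespace Cfsg.Agent.Char

open Cfsg Module
open scoped ComplexConjugate Classical

universe u

variable {G : Type u} [Group G] [Fintype G] {M : Ideal AlgInt} {p : ℕ}

/-- An endomorphism commuting with a normal subgroup commutes with an overgroup having the same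
norm of the restricted character. -/
theorem commute_of_norm_eq {V : Type*} [AddCommGroup V] [Module ℂ V] [FiniteDimensional ℂ V]
    {N L : Subgroup G} [Fintype N] [Fintype L] (hNL : N ≤ L) (ρ : Representation ℂ G V)
    (h : classInner (fun n : N => ρ.character n) (fun n : N => ρ.character n) =
      classInner (fun l : L => ρ.character l) (fun l : L => ρ.character l))
    (X : Module.End ℂ V) (hX : ∀ n : N, X * ρ n = ρ n * X) {l : G} (hl : l ∈ L) :
    X * ρ l = ρ l * X := by
  let ρN : Representation ℂ N V := ρ.comp N.subtype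
  let ρL : Representation ℂ L V := ρ.comp L.subtype
  let toN : ρL.IntertwiningMap ρL →ₗ[ℂ] ρN.IntertwiningMap ρN :=
    { toFun := fun T => T.toLinearMap.intertwiningMap_of_isIntertwiningMap ρN ρN fun n v =>
        LinearMap.congr_fun (T.isIntertwining' ⟨n, hNL n.2⟩) v
      map_add' := fun _ _ => rfl
      map_smul' := fun _ _ => rfl }
  have hinj : Function.Injective toN := fun S T hST => by
    have : (toN S).toLinearMap = (toN T).toLinearMap := congrArg (fun U => U.toLinearMap) hST
    exact Representation.IntertwiningMap.ext this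
  have hd : finrank ℂ (ρL.IntertwiningMap ρL) = finrank ℂ (ρN.IntertwiningMap ρN) := by
    have h1 : (finrank ℂ (ρN.IntertwiningMap ρN) : ℂ) = finrank ℂ (ρL.IntertwiningMap ρL) := by
      rw [← classInner_rep, ← classInner_rep]
      exact h
    exact_mod_cast h1.symm
  obtain ⟨T, hT⟩ := (LinearMap.injective_iff_surjective_of_finrank_eq_finrank hd).mp hinj
    (X.intertwiningMap_of_isIntertwiningMap ρN ρN fun n v => LinearMap.congr_fun (hX n) v)
  have hTX : T.toLinearMap = X := congrArg (fun U => U.toLinearMap) hT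
  exact LinearMap.ext fun v => by
    rw [← hTX]
    exact LinearMap.congr_fun (T.isIntertwining' ⟨l, hl⟩) v

/-- A sum of an invariant function over a set without fixed points lies in the maximal ideal. -/
theorem sum_mem_smul_of_no_fixed (hM : IsPModular p M) {Q K W : Type*} [Group Q] [Finite Q]
    [MulAction Q K] [Fintype K] [AddCommGroup W] [Module (locRing (pmod_prime hM)) W]
    (hQ : IsPGroup p Q) (F : K → W) (Λ : Submodule (locRing (pmod_prime hM)) W)
    (hF : ∀ x, F x ∈ Λ) (hinv : ∀ (u : Q) (x : K), F (u • x) = F x)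
    (hfree : ∀ x : K, ∃ u : Q, u • x ≠ x) :
    (∑ x, F x) ∈ resIdeal (pmod_prime hM) • Λ := by
  haveI := Fact.mk hM.1
  rw [← Finset.sum_fiberwise Finset.univ (fun x => Quotient.mk (MulAction.orbitRel Q K) x)]
  refine Submodule.sum_mem _ fun q _ => ?_
  obtain ⟨x₀, rfl⟩ := Quotient.exists_rep q
  set T := Finset.univ.filter fun x =>
    Quotient.mk (MulAction.orbitRel Q K) x = Quotient.mk (MulAction.orbitRel Q K) x₀ with hT
  have hmem : ∀ x, x ∈ T ↔ x ∈ MulAction.orbit Q x₀ := fun x => by
    simp only [hT, Finset.mem_filter, Finset.mem_univ, true_and]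
    exact Quotient.eq (r := MulAction.orbitRel Q K)
  rw [Finset.sum_congr rfl (g := fun _ => F x₀) (fun x hx => by
    obtain ⟨u, rfl⟩ := (hmem x).mp hx
    exact hinv u x₀), Finset.sum_const]
  obtain ⟨k, hk⟩ := hQ.card_orbit x₀
  have hcard : T.card = p ^ k := by
    rw [← hk, ← Set.ncard_coe_finset, Nat.card_coe_set_eq]
    congr 1
    ext x
    exact hmem x
  have hk0 : k ≠ 0 := fun h0 => by
    rw [h0, pow_zero] at hcard
    obtain ⟨z, hz⟩ := Finset.card_eq_one.mp hcard
    obtain ⟨u, hu⟩ := hfree x₀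
    have h1 := hz ▸ (hmem (u • x₀)).mpr ⟨u, rfl⟩
    have h2 := hz ▸ (hmem x₀).mpr (MulAction.mem_orbit_self x₀)
    rw [Finset.mem_singleton] at h1 h2
    exact hu (h1.trans h2.symm)
  rw [← Nat.cast_smul_eq_nsmul (locRing (pmod_prime hM))]
  refine Submodule.smul_mem_smul ?_ (hF x₀)
  show MemLocalIdeal M _
  rw [hcard]
  push_cast
  obtain ⟨j, rfl⟩ := Nat.exists_eq_succ_of_ne_zero hk0
  rw [pow_succ]
  exact memLI_mul_left (pmod_prime hM) (memLR_pow (pmod_prime hM)
    (memLR_natCast (pmod_prime hM) p) j) (memLI_p hM)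

theorem resIdeal_le_jacobson (hP : M.IsPrime) :
    resIdeal hP ≤ Ideal.jacobson (⊥ : Ideal (locRing hP)) := by
  intro x hx
  rw [Ideal.mem_jacobson_bot]
  intro y
  have hI : MemLocalIdeal M ((x : ℂ) * (y : ℂ)) := memLI_mul_right hP hx y.2
  have hR : MemLocalRing M ((x : ℂ) * (y : ℂ) + 1) := memLR_add hP (memLI_memLR hI) (memLR_one hP)
  have hne : ¬ MemLocalIdeal M ((x : ℂ) * (y : ℂ) + 1) := fun h => memLI_one_iff hP (by
    simpa using memLI_sub hP h hI)
  have h0 : ((x : ℂ) * (y : ℂ) + 1) ≠ 0 := fun h => hne (h ▸ memLI_zero hP)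
  exact isUnit_iff_exists_inv.mpr ⟨⟨_, memLR_inv hP hR hne⟩,
    Subtype.ext (mul_inv_cancel₀ h0)⟩

/-- Over a normal `p'`-subgroup `N` and with the same norm on `L ⊇ Q`, the central character
vanishes on classes missing the centralizer of `Q`. -/
theorem omega_memLI_of_norm_eq (hM : IsPModular p M) {N L Q : Subgroup G} [N.Normal] [Fintype N]
    [Fintype L] (hN : ¬ p ∣ Nat.card N) (hNL : N ≤ L) (hQL : Q ≤ L) (hQ : IsPGroup p Q)
    (χ : IrrCharacter G)
    (h : classInner (fun n : N => (χ : G → ℂ) n) (fun n : N => (χ : G → ℂ) n) =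
      classInner (fun l : L => (χ : G → ℂ) l) (fun l : L => (χ : G → ℂ) l))
    {g : G} (hg : ∀ x, IsConj g x → x ∉ Subgroup.centralizer (Q : Set G)) :
    MemLocalIdeal M (omega (χ : G → ℂ) g) := by
  have hP := pmod_prime hM
  obtain ⟨χf, n, ρ, hρ, rfl⟩ := χ
  haveI := hρ
  by_contra hu
  set V := Fin n → ℂ
  let K := {x : G // IsConj g x}
  let F : K → Module.End ℂ V := fun x =>
    (Nat.card N : ℂ)⁻¹ • ∑ m : N, ρ (m * x * (m : G)⁻¹)
  have hFcomm : ∀ (x : K) (m : N), F x * ρ m = ρ m * F x := by
    intro x m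
    simp only [F, smul_mul_assoc, mul_smul_comm, Finset.sum_mul, Finset.mul_sum, ← map_mul]
    congr 1
    refine Fintype.sum_equiv (Equiv.mulLeft m⁻¹) _ _ fun a => ?_
    simp only [Equiv.coe_mulLeft, Subgroup.coe_mul, InvMemClass.coe_inv]
    congr 1
    group
  letI A : MulAction Q K :=
    { smul := fun u x => ⟨(u : G) * x * (u : G)⁻¹, x.2.trans (isConj_iff.mpr ⟨u, rfl⟩)⟩
      one_smul := fun x => Subtype.ext (by
        show ((1 : Q) : G) * x * ((1 : Q) : G)⁻¹ = x; simp)
      mul_smul := fun a b x => Subtype.ext (by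
        show ((a * b : Q) : G) * x * ((a * b : Q) : G)⁻¹ =
          (a : G) * ((b : G) * x * (b : G)⁻¹) * (a : G)⁻¹
        push_cast; group) }
  have hinv : ∀ (u : Q) (x : K), F (u • x) = F x := by
    intro u x
    have hu' := commute_of_norm_eq hNL ρ h (F x) (hFcomm x) (hQL u.2)
    have e : F (u • x) = ρ (u : G) * F x * ρ (u : G)⁻¹ := by
      simp only [F, mul_smul_comm, smul_mul_assoc, Finset.mul_sum, Finset.sum_mul, ← map_mul]
      congr 1
      refine Fintype.sum_equiv (MulAut.conjNormal (u : G)⁻¹).toEquiv _ _ fun a => ?_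
      show ρ ((a : G) * ((u : G) * x * (u : G)⁻¹) * (a : G)⁻¹) = ρ _
      rw [show (((MulAut.conjNormal (u : G)⁻¹).toEquiv a : N) : G) =
        (u : G)⁻¹ * a * (u : G)⁻¹⁻¹ from MulAut.conjNormal_apply _ _]
      congr 1
      group
    rw [e, ← hu', mul_assoc, ← map_mul, mul_inv_cancel, map_one, mul_one]
  -- the lattice
  obtain ⟨v, hv⟩ : ∃ v : V, v ≠ 0 := by
    by_contra hne
    push Not at hne
    haveI : Subsingleton V := ⟨fun a b => (hne a).trans (hne b).symm⟩
    exact irr_one_ne_zero (χ := ρ.character) ⟨n, ρ, hρ, rfl⟩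
      (by rw [Representation.char_one, Module.finrank_zero_of_subsingleton, Nat.cast_zero])
  set Λ : Submodule (locRing hP) V := Submodule.span (locRing hP) (Set.range fun a : G => ρ a v)
  have hstab : ∀ (a : G), ∀ w ∈ Λ, ρ a w ∈ Λ := by
    intro a w hw
    induction hw using Submodule.span_induction with
    | mem x hx =>
      obtain ⟨b, rfl⟩ := hx
      exact Submodule.subset_span ⟨a * b, by simp [map_mul]⟩
    | zero => simp
    | add x y _ _ hx hy => rw [map_add]; exact Λ.add_mem hx hy
    | smul c x _ hx =>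
      rw [show ρ a (c • x) = c • ρ a x from map_smul (ρ a) (c : ℂ) x]
      exact Λ.smul_mem c hx
  have hle : Λ ≤ resIdeal hP • Λ := by
    intro w hw
    have hsum : omega ρ.character g • w = ∑ x : K, F x w := by
      have h1 := rep_sum_eq_lam ρ (intClassFun_classInd (G := G) (M := M) hP g).1
      rw [lam_classInd' (isClassFunction_character (isCharacter_character ρ))] at h1
      have h2 : ∑ x : K, ρ (x : G) = omega ρ.character g • LinearMap.id := by
        rw [← h1]
        simp only [classInd, ite_smul, one_smul, zero_smul, ← Finset.sum_filter]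
        exact (Finset.sum_subtype _ (fun x => by simp) _).symm
      have hconj : ∀ m : N, ∑ x : K, ρ ((m : G) * x * (m : G)⁻¹) = omega ρ.character g • LinearMap.id := by
        intro m
        rw [← h2]
        refine Fintype.sum_equiv ((MulAut.conj (m : G)).toEquiv.subtypeEquiv fun x => ?_) _ _
          fun x => rfl
        exact ⟨fun hx => hx.trans (isConj_iff.mpr ⟨m, rfl⟩),
          fun hx => hx.trans (IsConj.symm (isConj_iff.mpr ⟨m, rfl⟩))⟩
      have h3 : ∑ x : K, F x = omega ρ.character g • LinearMap.id := by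
        simp only [F, ← Finset.smul_sum]
        rw [Finset.sum_comm, Finset.sum_congr rfl fun m _ => hconj m, Finset.sum_const,
          Finset.card_univ, ← Nat.card_eq_fintype_card, ← Nat.cast_smul_eq_nsmul ℂ, smul_smul,
          inv_mul_cancel₀ (Nat.cast_ne_zero.mpr Nat.card_pos.ne'), one_smul]
      rw [← LinearMap.sum_apply, h3]
      rfl
    have hmem : ∑ x : K, F x w ∈ resIdeal hP • Λ := by
      refine sum_mem_smul_of_no_fixed hM hQ (fun x => F x w) Λ (fun x => ?_)
        (fun u x => by rw [hinv]) fun x => ?_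
      · simp only [F, LinearMap.smul_apply, LinearMap.sum_apply]
        exact Λ.smul_mem (⟨_, memLR_inv_natCast hM hN⟩ : locRing hP)
          (Λ.sum_mem fun m _ => hstab _ w hw)
      · by_contra hfix
        push Not at hfix
        exact hg x x.2 fun u hu' =>
          mul_inv_eq_iff_eq_mul.mp (congrArg Subtype.val (hfix ⟨u, hu'⟩))
    rw [← hsum] at hmem
    have hR := memLR_omega hP (χ := ρ.character) ⟨n, ρ, hρ, rfl⟩ g
    have h0 : omega ρ.character g ≠ 0 := fun h0 => hu (h0 ▸ memLI_zero hP)
    have h4 := (resIdeal hP • Λ).smul_mem (⟨_, memLR_inv hP hR hu⟩ : locRing hP) hmem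
    rwa [show (⟨_, memLR_inv hP hR hu⟩ : locRing hP) • (omega ρ.character g • w) =
      (omega ρ.character g)⁻¹ • (omega ρ.character g • w) from rfl, inv_smul_smul₀ h0] at h4
  have hbot := Submodule.eq_bot_of_le_smul_of_le_jacobson_bot (resIdeal hP) Λ
    (Submodule.fg_span (Set.finite_range _)) hle (resIdeal_le_jacobson hP)
  refine hv ?_
  have : ρ 1 v ∈ Λ := Submodule.subset_span ⟨1, rfl⟩
  rw [hbot, Submodule.mem_bot, map_one] at this
  exact this

end Cfsg.Agent.Char
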