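import Cfsg.Agent.Lib.Char.PrincipalTwoPrimes
import Cfsg.Agent.Lib.Char.CoverUnit
import Cfsg.Agent.Lib.Char.CoverDefect
import Cfsg.Agent.Lib.Char.GlaubermanOver
import Cfsg.Agent.Lib.Char.RelGlaubermanCentral
import Cfsg.Agent.Lib.Solv.PLength
import Mathlib

/-!
# `p`-length one and irreducible restrictions of the principal block
-/

set_option autoImplicit false
set_option linter.unusedSectionVars false
set_option linter.style.haveILetI false

namespace Cfsg.Agent.Char.PLengthOne

open Cfsg Cfsg.Agent Cfsg.Agent.Char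
open scoped ComplexConjugate commutatorElement

universe u

variable {G : Type u} [Group G] [Fintype G] {p : ℕ} [Fact p.Prime] {M : Ideal AlgInt}

/-- Forward direction. -/
theorem irr_restrict_of_pLength (hM : IsPModular p M) (P : Sylow p G) (h : PLengthLE p 1 G)
    (χ : IrrCharacter G) (hχ : χ ∈ principalBlock M G) :
    IsIrrCharacter (Subgroup.normalizer ((P : Subgroup G) : Set G))
      (fun n => (χ : G → ℂ) n) := by
  classical
  obtain ⟨f, hf0, hftop, hfn, hfmono, hfidx⟩ := (Solv.PLen.pLengthLE_iff 1).mp h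
  have hp : p.Prime := Fact.out
  haveI := Solv.pPrimeCore_normal (G := G) p
  set R := pPrimeCore p G with hR
  have hRp : ¬ p ∣ Nat.card R :=
    (hp.coprime_iff_not_dvd).mp (Fusion.card_pPrimeCore_coprime p G).symm
  haveI := hfn 1
  haveI := hfn 2
  have hf1 : f 1 ≤ R := Fusion.le_pPrimeCore (by
    have := hfidx 0
    simp only [Solv.PLen.OkIndex, Even.zero, if_true, hf0, zero_add, Subgroup.relIndex_bot_left] at this
    exact this)
  have hf3 : f 3 = ⊤ := hftop 3 le_rfl
  -- the Sylow subgroup and the core give a normal subgroup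
  have hidx : ¬ p ∣ (f 2).index := by
    have := hfidx 2
    simp only [Solv.PLen.OkIndex, even_two, if_true] at this
    rw [show (2 + 1 : ℕ) = 3 from rfl, hf3, Subgroup.relIndex_top_right] at this
    exact (hp.coprime_iff_not_dvd).mp this.symm
  have hPf : (P : Subgroup G) ≤ f 2 := by
    intro x hx
    obtain ⟨k, hk⟩ := P.isPGroup' ⟨x, hx⟩
    have hk' : x ^ p ^ k = 1 := by simpa using congrArg Subtype.val hk
    have h1 : (x : G ⧸ f 2) ^ (f 2).index = 1 := pow_card_eq_one' (G := G ⧸ f 2)
    have h2 : (x : G ⧸ f 2) ^ p ^ k = 1 := by rw [← QuotientGroup.mk_pow, hk', QuotientGroup.mk_one]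
    have h3 := pow_gcd_eq_one.mpr ⟨h1, h2⟩
    rwa [Nat.Coprime.gcd_eq_one (((hp.coprime_iff_not_dvd).mpr hidx).symm.pow_right k), pow_one,
      QuotientGroup.eq_one_iff] at h3
  set N := Subgroup.normalizer ((P : Subgroup G) : Set G) with hN
  have hgen : N ⊔ R = ⊤ := by
    have hfrat := Sylow.normalizer_sup_eq_top (N := f 2) (P.subtype hPf)
    have hmap : ((P.subtype hPf : Sylow p (f 2)) : Subgroup (f 2)).map (f 2).subtype = P := by
      rw [Sylow.coe_subtype, Subgroup.subgroupOf_map_subtype, inf_eq_left.mpr hPf]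
    rw [hmap] at hfrat
    have hle : f 2 ≤ N ⊔ R := by
      intro x hx
      have hq : ∃ m, (f 1).relIndex (f 2) = p ^ m := by
        have := hfidx 1
        simpa [Solv.PLen.OkIndex] using this
      have hmem : f 2 ≤ (P : Subgroup G) ⊔ f 1 := by
        have hle2 : (P : Subgroup G) ⊔ f 1 ≤ f 2 := sup_le hPf (hfmono 1)
        refine le_of_eq (le_antisymm ?_ hle2) |>.trans le_rfl
        refine Subgroup.relIndex_eq_one.mp ?_
        obtain ⟨m, hm⟩ := hq
        obtain ⟨j, -, hj⟩ := (Nat.dvd_prime_pow hp).1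
          (hm ▸ Subgroup.relIndex_dvd_of_le_left (f 2) (le_sup_right : f 1 ≤ (P : Subgroup G) ⊔ f 1))
        rcases j with _ | j
        · simpa using hj
        · exfalso
          refine P.not_dvd_index (dvd_trans ?_ (Subgroup.index_dvd_of_le
            (le_sup_left : (P : Subgroup G) ≤ (P : Subgroup G) ⊔ f 1)))
          exact (Dvd.intro_left _ (pow_succ p j).symm |>.trans hj.symm.dvd).trans
            (Subgroup.relIndex_dvd_index_of_le hle2)
      exact sup_le_sup Subgroup.le_normalizer hf1 (hmem hx)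
    rw [eq_top_iff, ← hfrat]
    exact sup_le le_sup_left hle
  haveI := Fintype.ofFinite (G ⧸ R)
  obtain ⟨ψ, hψ⟩ := (inflateEquiv R).surjective ⟨χ, principal_trivial_on hM R hRp hχ⟩
  have hval : (fun n : N => (χ : G → ℂ) n) =
      fun n : N => (ψ : G ⧸ R → ℂ) ((QuotientGroup.mk' R).comp N.subtype n) := by
    funext n
    have e : (inflateEquiv R ψ).1 = χ := congrArg Subtype.val hψ
    rw [← e]
    rfl
  rw [hval]
  refine isIrr_comp_surjective _ (fun q => ?_) ψ.2
  obtain ⟨g, rfl⟩ := QuotientGroup.mk'_surjective R q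
  have hg : g ∈ N ⊔ R := hgen ▸ Subgroup.mem_top g
  obtain ⟨n, hn, r, hr, rfl⟩ := Subgroup.mem_sup_of_normal_right.mp hg
  exact ⟨⟨n, hn⟩, by
    show (n : G ⧸ R) = ((n * r : G) : G ⧸ R)
    rw [QuotientGroup.mk_mul, (QuotientGroup.eq_one_iff r).mpr hr, mul_one]⟩

/-- Converse direction. -/
theorem pLength_of_irr_restrict (hM : IsPModular p M) (P : Sylow p G)
    (h : ∀ χ ∈ principalBlock M G,
      IsIrrCharacter (Subgroup.normalizer ((P : Subgroup G) : Set G)) (fun n => (χ : G → ℂ) n)) :
    PLengthLE p 1 G := by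
  classical
  have hp : p.Prime := Fact.out
  have hMp := pmod_prime hM
  set L : Subgroup G := Subgroup.normalClosure ((P : Subgroup G) : Set G) with hL
  haveI := Fintype.ofFinite L
  haveI := Fintype.ofFinite (P : Subgroup G)
  set N := Subgroup.normalizer ((P : Subgroup G) : Set G) with hN
  haveI := Fintype.ofFinite N
  have hPL : (P : Subgroup G) ≤ L := Subgroup.le_normalClosure
  set PL : Sylow p L := P.subtype hPL with hPLdef
  set Q : Subgroup L := (PL : Subgroup L) with hQdef
  haveI := Fintype.ofFinite Q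
  have hQmem : ∀ u : L, u ∈ Q ↔ (u : G) ∈ (P : Subgroup G) := fun u => Iff.rfl
  -- a character of the principal block of `L` containing the trivial character on `P` is trivial
  have key : ∀ ψ ∈ principalBlock M L,
      classInner (fun u : Q => (ψ : L → ℂ) u) (fun _ => (1 : ℂ)) ≠ 0 →
      (ψ : L → ℂ) = fun _ => 1 := by
    intro ψ hψ hne
    obtain ⟨χ, hχ, hcon⟩ := exists_over_of_covered (N := L) hM (isPBlock_principalBlock M)
      (isPBlock_principalBlock M) (χ := ⟨fun _ => 1, isIrrCharacter_one⟩)
      (self_mem_blockOf hMp ⟨fun _ => (1 : ℂ), isIrrCharacter_one⟩)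
      (θ₀ := ⟨fun _ => 1, isIrrCharacter_one⟩)
      (self_mem_blockOf hMp ⟨fun _ => (1 : ℂ), isIrrCharacter_one⟩)
      (by
        show classInner (fun _ : L => (1 : ℂ)) (fun _ => (1 : ℂ)) ≠ 0
        rw [irr_self isIrrCharacter_one]; exact one_ne_zero) hψ
    -- the trivial character of `P` occurs in `χ`
    have hPne : classInner (fun u : (P : Subgroup G) => (χ : G → ℂ) u) (fun _ => (1 : ℂ)) ≠ 0 := by
      set φ : L → ℂ := fun n => (χ : G → ℂ) n with hφ
      have hφc : IsCharacter L φ := isCharacter_comp L.subtype (irr_isCharacter χ.2)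
      choose a ha using fun η : IrrCharacter L => classInner_natCast hφc (irr_isCharacter η.2)
      choose b hb using fun η : IrrCharacter L =>
        classInner_natCast (isCharacter_comp Q.subtype (irr_isCharacter η.2)) (isCharacter_one (G := Q))
      have e : (fun u : Q => φ u) = ∑ η : IrrCharacter L,
          classInner φ (η : L → ℂ) • (fun u : Q => (η : L → ℂ) u) := by
        funext u
        have := congrFun (char_expansion hφc) (u : L)
        simpa [Finset.sum_apply] using this
      have e2 : classInner (fun u : Q => φ u) (fun _ => (1 : ℂ)) =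
          ((∑ η : IrrCharacter L, a η * b η : ℕ) : ℂ) := by
        rw [e, classInner_sum_left, Nat.cast_sum]
        refine Finset.sum_congr rfl fun η _ => ?_
        rw [classInner_smul_left, ha η]
        rw [show classInner (fun u : Q => (η : L → ℂ) u) (fun _ => (1 : ℂ)) = b η from hb η]
        push_cast
        rfl
      have hPQ : classInner (fun u : (P : Subgroup G) => (χ : G → ℂ) u) (fun _ => (1 : ℂ)) =
          classInner (fun u : Q => φ u) (fun _ => (1 : ℂ)) := by
        let e : Q ≃ (P : Subgroup G) := (Subgroup.subgroupOfEquivOfLe hPL).toEquiv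
        simp only [classInner]
        rw [show Nat.card Q = Nat.card (P : Subgroup G) from Nat.card_congr e]
        congr 1
        exact (Fintype.sum_equiv e _ _ fun u => rfl).symm
      rw [hPQ, e2, Nat.cast_ne_zero]
      intro h0
      have := Finset.sum_eq_zero_iff.mp h0 ψ (Finset.mem_univ _)
      rcases Nat.mul_eq_zero.mp this with h1 | h1
      · exact hcon (by
          show classInner φ (ψ : L → ℂ) = 0
          rw [ha ψ, h1, Nat.cast_zero])
      · exact hne (by
          rw [show classInner (fun u : Q => (ψ : L → ℂ) u) (fun _ => (1 : ℂ)) = b ψ from hb ψ, h1,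
            Nat.cast_zero])
    -- so `P` lies in its kernel
    set χN : IrrCharacter N := ⟨_, h χ hχ⟩ with hχN
    set PN : Subgroup N := (P : Subgroup G).subgroupOf N with hPN
    haveI : PN.Normal := Subgroup.normal_subgroupOf_iff_le_normalizer Subgroup.le_normalizer |>.mpr le_rfl
    haveI := Fintype.ofFinite PN
    have hker : ∀ u ∈ (P : Subgroup G), (χ : G → ℂ) u = (χ : G → ℂ) 1 := by
      intro u hu
      refine trivial_on_of_constituent PN χN ?_ ⟨⟨u, Subgroup.le_normalizer hu⟩, hu⟩
      refine fun h0 => hPne ?_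
      rw [← h0]
      let e : PN ≃ (P : Subgroup G) := (Subgroup.subgroupOfEquivOfLe Subgroup.le_normalizer).toEquiv
      simp only [classInner]
      rw [show Nat.card PN = Nat.card (P : Subgroup G) from Nat.card_congr e]
      congr 1
      exact (Fintype.sum_equiv e _ _ fun u => rfl).symm
    haveI := blockKerSub_normal ({χ} : Set (IrrCharacter G))
    have hLker : L ≤ blockKerSub {χ} := Subgroup.normalClosure_le_normal fun u hu φ hφ => by
      rw [Set.mem_singleton_iff.mp hφ]; exact hker u hu
    have hψker : ∀ n : L, (ψ : L → ℂ) n = (ψ : L → ℂ) 1 := fun n =>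
      constituent_eq_at_ker (isCharacter_comp L.subtype (irr_isCharacter χ.2)) (ψ := ψ) hcon
        (x := n) (hLker n.2 χ rfl)
    have h1 := irr_self ψ.2
    rw [classInner] at h1
    simp only [hψker, conj_char_one (irr_isCharacter ψ.2), Finset.sum_const, Finset.card_univ,
      ← Nat.card_eq_fintype_card, nsmul_eq_mul] at h1
    rw [← mul_assoc, inv_mul_cancel₀ (Nat.cast_ne_zero.mpr Nat.card_pos.ne'), one_mul,
      char_one_eq_deg (irr_isCharacter ψ.2), ← Nat.cast_mul, Nat.cast_eq_one] at h1
    funext g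
    rw [hψker, char_one_eq_deg (irr_isCharacter ψ.2), (_root_.mul_eq_one.mp h1).1, Nat.cast_one]
  -- linear characters of `P` extend to `L`
  set B := Finset.univ.filter (fun ψ : IrrCharacter L => ψ ∈ principalBlock M L) with hB
  have hsum : ∀ l : Q →* ℂˣ, ∑ ψ ∈ B, (ψ : L → ℂ) 1 *
      classInner (fun u : Q => (ψ : L → ℂ) u) (fun u => (l u : ℂ)) =
      (Nat.card Q : ℂ)⁻¹ * ∑ ψ ∈ B, (ψ : L → ℂ) 1 ^ 2 := by
    intro l
    simp only [classInner, Finset.mul_sum]
    rw [Finset.sum_comm]
    rw [Fintype.sum_eq_single (1 : Q)]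
    · refine Finset.sum_congr rfl fun ψ _ => ?_
      simp only [OneMemClass.coe_one, map_one, Units.val_one, mul_one]
      ring
    · intro u hu
      have hd : p ∣ orderOf (u : L) := by
        obtain ⟨k, hk⟩ := IsPGroup.iff_orderOf.mp PL.isPGroup' u
        rw [Subgroup.orderOf_coe, hk]
        rcases k with _ | k
        · exact absurd (orderOf_eq_one_iff.mp (hk.trans (pow_zero p))) hu
        · exact dvd_pow_self p k.succ_ne_zero
      have h1 := weak_orthogonality hM (isPBlock_principalBlock M (G := L)) (x := (1 : L))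
        (by simp [hp.ne_one]) hd
      rw [finsum_mem_eq_finite_toFinset_sum _ (Set.toFinite _)] at h1
      have hset : (Set.toFinite (principalBlock M L)).toFinset = B := by ext; simp [hB]
      rw [hset] at h1
      have h2 := congrArg conj h1
      rw [map_sum, map_zero] at h2
      simp only [map_mul, Complex.conj_conj, conj_char_one (irr_isCharacter (Subtype.prop _))] at h2
      calc ∑ ψ ∈ B, (ψ : L → ℂ) 1 * ((Nat.card Q : ℂ)⁻¹ * ((ψ : L → ℂ) u * conj (l u : ℂ)))
          = (Nat.card Q : ℂ)⁻¹ * conj (l u : ℂ) * ∑ ψ ∈ B, (ψ : L → ℂ) 1 * (ψ : L → ℂ) u := by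
            rw [Finset.mul_sum]; exact Finset.sum_congr rfl fun ψ _ => by ring
        _ = 0 := by rw [h2, mul_zero]
  have hsum1 : ∀ l : Q →* ℂˣ, ∑ ψ ∈ B, (ψ : L → ℂ) 1 *
      classInner (fun u : Q => (ψ : L → ℂ) u) (fun u => (l u : ℂ)) = 1 := by
    intro l
    rw [hsum l, ← hsum 1]
    simp only [MonoidHom.one_apply, Units.val_one]
    rw [Finset.sum_eq_single (⟨fun _ => 1, isIrrCharacter_one⟩ : IrrCharacter L)]
    · simp only
      rw [show classInner (fun _ : Q => (1 : ℂ)) (fun _ => (1 : ℂ)) = 1 from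
        irr_self isIrrCharacter_one, mul_one]
    · intro ψ hψ hne
      by_contra h0
      exact hne (Subtype.ext (key ψ (Finset.mem_filter.mp hψ).2 (right_ne_zero_of_mul h0)))
    · exact fun hno => absurd (Finset.mem_filter.mpr ⟨Finset.mem_univ _,
        self_mem_blockOf hMp ⟨fun _ : L => (1 : ℂ), isIrrCharacter_one⟩⟩) hno
  have hext : ∀ l : Q →* ℂˣ, ∃ Λ : L →* ℂˣ, ∀ u : Q, Λ u = l u := by
    intro l
    choose m hm using fun ψ : IrrCharacter L =>
      classInner_natCast (isCharacter_comp Q.subtype (irr_isCharacter ψ.2)) (isCharacter_linear l)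
    have hm' : ∀ ψ : IrrCharacter L,
        classInner (fun u : Q => (ψ : L → ℂ) u) (fun u => (l u : ℂ)) = m ψ := hm
    have h1 := hsum1 l
    simp only [hm', char_one_eq_deg (irr_isCharacter (Subtype.prop _)), ← Nat.cast_mul,
      ← Nat.cast_sum, Nat.cast_eq_one] at h1
    obtain ⟨ψ, hψ, hψ1⟩ : ∃ ψ ∈ B, deg (ψ : L → ℂ) * m ψ = 1 := by
      by_contra hno
      push Not at hno
      obtain ⟨ψ, hψ, hpos⟩ := Finset.exists_ne_zero_of_sum_ne_zero (h1.trans_ne one_ne_zero)
      have := Finset.single_le_sum (f := fun ψ : IrrCharacter L => deg (ψ : L → ℂ) * m ψ)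
        (fun _ _ => Nat.zero_le _) hψ
      rw [h1] at this
      exact hno ψ hψ (by omega)
    obtain ⟨hd, hmψ⟩ := _root_.mul_eq_one.mp hψ1
    obtain ⟨Λ, hΛ⟩ := exists_hom_of_degree_one (irr_isCharacter ψ.2)
      (by rw [char_one_eq_deg (irr_isCharacter ψ.2), hd, Nat.cast_one])
    refine ⟨Λ, fun u => Units.ext ?_⟩
    have hne : classInner (fun u : Q => (Λ u : ℂ)) (fun u => (l u : ℂ)) ≠ 0 := by
      rw [show (fun u : Q => (Λ u : ℂ)) = fun u : Q => (ψ : L → ℂ) u from funext fun u => (congrFun hΛ u).symm,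
        hm' ψ, hmψ]
      simp
    have horth := irr_orth (isIrrCharacter_linear (Λ.comp Q.subtype)) (isIrrCharacter_linear l)
    by_contra hu
    refine hne (horth.trans (if_neg fun e => hu ?_))
    exact congrFun e u
  -- hence `L' ∩ P ≤ P'`, and `L` has a normal `p`-complement
  have hQcomm : (commutator Q).map Q.subtype = ⁅Q, Q⁆ := by
    rw [commutator_def, Subgroup.map_commutator, ← MonoidHom.range_eq_map, Subgroup.range_subtype]
  have hLP : commutator L ⊓ Q ≤ ⁅Q, Q⁆ := by
    rintro x ⟨hxL, hxQ⟩
    have hx : (⟨x, hxQ⟩ : Q) ∈ commutator Q := by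
      refine mem_commutator_of_forall_linear fun l => ?_
      obtain ⟨Λ, hΛ⟩ := hext l
      rw [← hΛ]
      exact MonoidHom.mem_ker.mp (Abelianization.commutator_subset_ker Λ hxL)
    rw [← hQcomm]
    exact ⟨⟨x, hxQ⟩, hx, rfl⟩
  haveI : (commutator L).Normal := inferInstance
  haveI : Group.IsNilpotent Q := PL.isPGroup'.isNilpotent
  have hn : HasNormalPComplement p (commutator L) := by
    refine Fusion.hnpc_normal_of_frattini _ PL (hLP.trans ?_)
    rw [← hQcomm]
    exact Subgroup.map_mono (Solv.commutator_le_frattini_pgroup PL.isPGroup')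
  set K : Subgroup L := (pResidual p (commutator L)).map (commutator L).subtype with hK
  haveI : K.Characteristic := by
    rw [hK]; infer_instance
  set KG : Subgroup G := K.map L.subtype with hKG
  haveI : KG.Normal := ConjAct.normal_of_characteristic_of_normal
  have hKco : (Nat.card KG).Coprime p := by
    rw [hKG, Subgroup.card_map_of_injective L.subtype_injective, hK,
      Subgroup.card_map_of_injective (commutator L).subtype_injective]
    exact Fusion.hnpc_iff.1 hn
  -- `L / K` is a `p`-group
  have hKL : IsPGroup p (L ⧸ K) := by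
    haveI : K.Normal := inferInstance
    set π := QuotientGroup.mk' K with hπ
    have hD : IsPGroup p ((commutator L).map π) := by
      intro q
      obtain ⟨_, d, hd, rfl⟩ := q
      obtain ⟨k, hk⟩ := (Fusion.isPGroup_quotient_pResidual (p := p) (G := commutator L))
        (QuotientGroup.mk ⟨d, hd⟩)
      refine ⟨k, Subtype.ext ?_⟩
      rw [← QuotientGroup.mk_pow, QuotientGroup.eq_one_iff] at hk
      show π d ^ p ^ k = 1
      rw [← map_pow, hπ, QuotientGroup.mk'_apply, QuotientGroup.eq_one_iff, hK]
      exact ⟨_, hk, rfl⟩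
    haveI : ((commutator L).map π).Normal := Subgroup.Normal.map inferInstance π
      (QuotientGroup.mk'_surjective K)
    have hQp : IsPGroup p (Q.map π) := PL.isPGroup'.map π
    have htop : (commutator L).map π ⊔ Q.map π = ⊤ := by
      rw [← Subgroup.map_sup, ← Subgroup.map_top_of_surjective π (QuotientGroup.mk'_surjective K)]
      congr 1
      set S := commutator L ⊔ Q with hS
      haveI hSn : S.Normal := by
        refine ⟨fun n hn g => ?_⟩
        have hc : ⁅g, n⁆ ∈ commutator L := by
          rw [commutator_def]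
          exact Subgroup.commutator_mem_commutator (Subgroup.mem_top g) (Subgroup.mem_top n)
        have : g * n * g⁻¹ = ⁅g, n⁆ * n := by rw [commutatorElement_def]; group
        rw [this]
        exact S.mul_mem (Subgroup.mem_sup_left hc) hn
      -- every conjugate of `P` lies in `S`
      refine eq_top_iff.mpr fun x _ => ?_
      have hmapS : L ≤ S.map L.subtype := by
        refine (Subgroup.closure_le (S.map L.subtype)).mpr ?_
        intro y hy
        obtain ⟨u, hu, hyu⟩ := Group.mem_conjugatesOfSet_iff.mp hy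
        obtain ⟨c, hc⟩ := isConj_iff.mp hyu
        rw [← hc]
        have hcuL : c * u * c⁻¹ ∈ L := Subgroup.normalClosure_normal.conj_mem _ (hPL hu) c
        obtain ⟨T, hT⟩ : ∃ T : Sylow p L, (⟨c * u * c⁻¹, hcuL⟩ : L) ∈ (T : Subgroup L) := by
          obtain ⟨T, hT⟩ := (show IsPGroup p (Subgroup.zpowers (⟨c * u * c⁻¹, hcuL⟩ : L)) from by
            obtain ⟨k, hk⟩ := P.isPGroup' ⟨u, hu⟩
            have hk' : u ^ p ^ k = 1 := by simpa using congrArg Subtype.val hk
            have hz : (⟨c * u * c⁻¹, hcuL⟩ : L) ^ p ^ k = 1 := Subtype.ext (by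
              show (c * u * c⁻¹) ^ p ^ k = 1
              rw [conj_pow, hk']; group)
            obtain ⟨i, -, hi⟩ := (Nat.dvd_prime_pow hp).mp (orderOf_dvd_of_pow_eq_one hz)
            exact IsPGroup.of_card (n := i) (by rw [Nat.card_zpowers, hi])).exists_le_sylow
          exact ⟨T, hT (Subgroup.mem_zpowers _)⟩
        obtain ⟨g, hg⟩ := MulAction.exists_smul_eq L PL T
        rw [← hg, Sylow.coe_subgroup_smul, Subgroup.mem_smul_pointwise_iff_exists] at hT
        obtain ⟨v, hv, hvw⟩ := hT
        refine ⟨⟨c * u * c⁻¹, hcuL⟩, ?_, rfl⟩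
        show (⟨c * u * c⁻¹, hcuL⟩ : L) ∈ S
        rw [← hvw, MulAut.smul_def, MulAut.conj_apply]
        exact hSn.conj_mem v (Subgroup.mem_sup_right hv) g
      obtain ⟨y, hy, hyx⟩ := hmapS x.2
      exact (Subtype.val_injective hyx : y = x) ▸ hy
    have hall := hD.to_sup_of_normal_left hQp
    rw [htop] at hall
    exact hall.of_equiv Subgroup.topEquiv
  haveI hLn : L.Normal := Subgroup.normalClosure_normal
  have hLidx : ¬ p ∣ L.index := fun hd => P.not_dvd_index (hd.trans (Subgroup.index_dvd_of_le hPL))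
  refine (Solv.PLen.pLengthLE_iff 1).mpr
    ⟨fun n => match n with | 0 => ⊥ | 1 => KG | 2 => L | _ => ⊤, rfl, ?_, ?_, ?_, ?_⟩
  · intro n hn
    match n, hn with
    | n + 3, _ => rfl
  · intro n
    match n with
    | 0 => exact inferInstanceAs ((⊥ : Subgroup G).Normal)
    | 1 => exact inferInstanceAs KG.Normal
    | 2 => exact hLn
    | n + 3 => exact inferInstanceAs ((⊤ : Subgroup G).Normal)
  · intro n
    match n with
    | 0 => exact bot_le
    | 1 => exact Subgroup.map_subtype_le K
    | n + 2 => exact le_top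
  · intro n
    match n with
    | 0 =>
      show Solv.PLen.OkIndex p 0 ((⊥ : Subgroup G).relIndex KG)
      rw [Subgroup.relIndex_bot_left]
      simpa [Solv.PLen.OkIndex] using hKco
    | 1 =>
      show Solv.PLen.OkIndex p 1 (KG.relIndex L)
      have e : KG.relIndex L = K.index := by
        rw [Subgroup.relIndex, Subgroup.subgroupOf, hKG,
          Subgroup.comap_map_eq_self_of_injective L.subtype_injective]
      rw [e]
      rw [Subgroup.index_eq_card]
      simpa [Solv.PLen.OkIndex] using hKL.exists_card_eq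
    | 2 =>
      show Solv.PLen.OkIndex p 2 (L.relIndex ⊤)
      rw [Subgroup.relIndex_top_right]
      simpa [Solv.PLen.OkIndex] using ((hp.coprime_iff_not_dvd).mpr hLidx).symm
    | n + 3 =>
      show Solv.PLen.OkIndex p (n + 3) ((⊤ : Subgroup G).relIndex ⊤)
      rw [Subgroup.relIndex_self]
      exact Solv.PLen.OkIndex.one

end Cfsg.Agent.Char.PLengthOne
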