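import Cfsg.Agent.Lib.Perm.ThreeCycleClasses
import Cfsg.Agent.Lib.Char.GaloisDegrees

/-!
# Overgroups of a Sylow 3-subgroup of an alternating group
-/

set_option autoImplicit false

open Equiv Equiv.Perm Cfsg

namespace Cfsg.Agent.Char.PMinAlt

open Cfsg.Agent.Perm Cfsg.Agent.Perm.AltAut Cfsg.Agent.Perm.ThreeClasses

variable {α : Type*} [Fintype α] [DecidableEq α]

theorem good_union {M : Subgroup (Perm α)} {U V : Finset α} (hU : Good M U) (hU3 : 3 ≤ U.card)
    (hV : Good M V) (hV3 : 3 ≤ V.card) {a : α} (haU : a ∈ U) (haV : a ∈ V) : Good M (U ∪ V) := by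
  obtain ⟨Δ, hle, hmax⟩ := Finite.exists_le_maximal (p := fun Δ : Finset α => Good M Δ) hU
  have hΔ : IsClass M Δ := ⟨hmax.1, hU3.trans (Finset.card_le_card hle),
    fun Δ' h' hsub => le_antisymm (hmax.2 h' hsub) hsub⟩
  have hVle : V ⊆ Δ := by
    intro b hb
    by_cases hba : b = a
    · exact hba ▸ hle haU
    obtain ⟨d, hd⟩ : ∃ d, d ∈ (V.erase a).erase b := Finset.card_pos.1 (by
      rw [Finset.card_erase_of_mem (Finset.mem_erase.2 ⟨hba, hb⟩), Finset.card_erase_of_mem haV]
      omega)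
    simp only [Finset.mem_erase] at hd
    exact (mem_of_mem hΔ (hle haU) (Ne.symm hba) (Ne.symm hd.2.1) (Ne.symm hd.1)
      (hV a haV b hb d hd.2.2 (Ne.symm hba) (Ne.symm hd.2.1) (Ne.symm hd.1))).1
  intro a ha b hb d hd
  exact hΔ.1 a (Finset.union_subset hle hVle ha) b (Finset.union_subset hle hVle hb) d
    (Finset.union_subset hle hVle hd)

theorem good_image {M : Subgroup (Perm α)} {U : Finset α} (hU : Good M U) {g : Perm α} (hg : g ∈ M) :
    Good M (U.image g) := by
  intro u hu v hv w hw hab had hbd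
  obtain ⟨a, ha, rfl⟩ := Finset.mem_image.1 hu
  obtain ⟨b, hb, rfl⟩ := Finset.mem_image.1 hv
  obtain ⟨d, hd, rfl⟩ := Finset.mem_image.1 hw
  rw [← conj_cyc]
  exact mul_mem (mul_mem hg (hU a ha b hb d hd (fun e => hab (e ▸ rfl)) (fun e => had (e ▸ rfl))
    (fun e => hbd (e ▸ rfl)))) (inv_mem hg)

theorem alt_le_of_good {M : Subgroup (Perm α)} (h : Good M Finset.univ) : alternatingGroup α ≤ M := by
  rw [← closure_three_cycles_eq_alternating, Subgroup.closure_le]
  intro f hf
  obtain ⟨a, ha⟩ : ∃ a, f a ≠ a := by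
    by_contra hne
    push Not at hne
    exact hf.ne_one (Equiv.ext hne)
  obtain ⟨h1, h2, -⟩ := three_points hf ha
  rw [SetLike.mem_coe, eq_cyc hf ha]
  exact h a (Finset.mem_univ _) _ (Finset.mem_univ _) _ (Finset.mem_univ _) (Ne.symm ha) h2
    h1

/-- A predicate-valued map is respected by a permutation. -/
def respects {β : Type*} (f : α → β) : Subgroup (Perm α) where
  carrier := {g | ∀ x y, f x = f y ↔ f (g x) = f (g y)}
  one_mem' := fun x y => Iff.rfl
  mul_mem' := fun {a b} ha hb x y => (hb x y).trans (ha _ _)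
  inv_mem' := fun {a} ha x y => by
    have h := ha (a⁻¹ x) (a⁻¹ y)
    simp only [Equiv.Perm.coe_inv, Equiv.apply_symm_apply] at h ⊢
    exact h.symm

theorem cyc_image {β : Type*} (f : α → β) {a b d : α} (hab : a ≠ b) (had : a ≠ d) (hbd : b ≠ d)
    (h1 : f a = f b) (h2 : f b = f d) (x : α) : f (AltAut.cyc a b d x) = f x := by
  by_cases hxa : x = a
  · rw [hxa, cyc_left hab had, h1]
  by_cases hxb : x = b
  · rw [hxb, cyc_mid had hbd, h2]
  by_cases hxd : x = d
  · rw [hxd, cyc_right, h1, h2]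
  rw [cyc_other hxa hxb hxd]

/-- The abstract situation: `M` contains all proper overgroups of `P` in the alternating group. -/
structure Setup (P M : Subgroup (Perm α)) : Prop where
  hn : 5 ≤ Fintype.card α
  hP : IsPGroup 3 ↥P
  hPA : P ≤ alternatingGroup α
  hP1 : P ≠ ⊥
  hM : ∀ L : Subgroup (Perm α), P ≤ L → L ≤ alternatingGroup α → L ≠ alternatingGroup α → L ≤ M

variable {P M : Subgroup (Perm α)}

theorem good_fibre (h : Setup P M) {β : Type*} (f : α → β) (hPf : P ≤ respects f) {a a' b : α}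
    (haa : a ≠ a') (h1 : f a = f a') (h2 : f a' ≠ f b) (U : Finset α)
    (hU : ∀ x ∈ U, ∀ y ∈ U, f x = f y) : Good M U := by
  have hab : a ≠ b := fun e => h2 (by rw [← h1, e])
  have hab' : a' ≠ b := fun e => h2 (by rw [e])
  have hne : alternatingGroup α ⊓ respects f ≠ alternatingGroup α := fun e => by
    have hm : AltAut.cyc a a' b ∈ alternatingGroup α ⊓ respects f := by
      rw [e]
      exact (cyc_isThreeCycle haa hab hab').mem_alternatingGroup
    have h3 := (hm.2 a a').1 h1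
    rw [cyc_left haa hab, cyc_mid hab hab'] at h3
    exact h2 h3
  intro x hx y hy w hw hxy hxw hyw
  refine h.hM _ (le_inf h.hPA hPf) inf_le_left hne
    ⟨(cyc_isThreeCycle hxy hxw hyw).mem_alternatingGroup, fun u v => ?_⟩
  rw [cyc_image f hxy hxw hyw (hU x hx y hy) (hU y hy w hw),
    cyc_image f hxy hxw hyw (hU x hx y hy) (hU y hy w hw)]

/-- An element of order 3 commuting with `P` gives, from its centralizer, an element of `M` permuting three of its cycles. -/
theorem exists_glue (h : Setup P M) (z : Perm α) (hz3 : z * z * z = 1) (hzP : ∀ p ∈ P, Commute p z)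
    {a1 a2 a3 : α} (f1 : z a1 ≠ a1) (f2 : z a2 ≠ a2) (f3 : z a3 ≠ a3)
    (d12 : ∀ k : ℕ, (z ^ k) a1 ≠ a2) (d13 : ∀ k : ℕ, (z ^ k) a1 ≠ a3) (d23 : ∀ k : ℕ, (z ^ k) a2 ≠ a3) :
    ∃ g ∈ M, g a1 = a2 ∧ g a3 = a1 := by
  have hzA : z ∈ alternatingGroup α := by
    rw [Equiv.Perm.mem_alternatingGroup]
    have h3 := congrArg Equiv.Perm.sign hz3
    rw [map_mul, map_mul, map_one] at h3
    rcases Int.units_eq_one_or (Equiv.Perm.sign z) with e | e
    · exact e
    · rw [e] at h3; exact absurd h3 (by decide)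
  have z3 : ∀ x, z (z (z x)) = x := fun x => Equiv.Perm.congr_fun hz3 x
  have zz : ∀ x, z x ≠ x → z (z x) ≠ x := fun x hx e => hx (by
    have := z3 x
    rwa [e] at this)
  have u1 := zz _ f1
  have u2 := zz _ f2
  have u3 := zz _ f3
  have e12 : a1 ≠ a2 := by simpa using d12 0
  have e13 : a1 ≠ a3 := by simpa using d13 0
  have e23 : a2 ≠ a3 := by simpa using d23 0
  have p12 : z a1 ≠ a2 := by simpa using d12 1
  have p13 : z a1 ≠ a3 := by simpa using d13 1
  have p23 : z a2 ≠ a3 := by simpa using d23 1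
  have q12 : z (z a1) ≠ a2 := by simpa [pow_succ] using d12 2
  have q13 : z (z a1) ≠ a3 := by simpa [pow_succ] using d13 2
  have q23 : z (z a2) ≠ a3 := by simpa [pow_succ] using d23 2
  have p21 : z a2 ≠ a1 := fun e => q12 (by rw [← e, z3])
  have p31 : z a3 ≠ a1 := fun e => q13 (by rw [← e, z3])
  have p32 : z a3 ≠ a2 := fun e => q23 (by rw [← e, z3])
  have q21 : z (z a2) ≠ a1 := fun e => p12 (by rw [← e, z3])
  have q31 : z (z a3) ≠ a1 := fun e => p13 (by rw [← e, z3])
  have q32 : z (z a3) ≠ a2 := fun e => p23 (by rw [← e, z3])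
  obtain ⟨A, hA⟩ : ∃ A, A = AltAut.cyc a1 a2 a3 := ⟨_, rfl⟩
  obtain ⟨B, hB⟩ : ∃ B, B = AltAut.cyc (z a1) (z a2) (z a3) := ⟨_, rfl⟩
  obtain ⟨C, hC⟩ : ∃ C, C = AltAut.cyc (z (z a1)) (z (z a2)) (z (z a3)) := ⟨_, rfl⟩
  have cA : z * A * z⁻¹ = B := by rw [hA, hB, conj_cyc]
  have cB : z * B * z⁻¹ = C := by rw [hB, hC, conj_cyc]
  have cC : z * C * z⁻¹ = A := by rw [hA, hC, conj_cyc, z3, z3, z3]
  have fixB : ∀ {x}, x ≠ z a1 → x ≠ z a2 → x ≠ z a3 → B x = x := fun u v w => hB ▸ cyc_other u v w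
  have fixC : ∀ {x}, x ≠ z (z a1) → x ≠ z (z a2) → x ≠ z (z a3) → C x = x :=
    fun u v w => hC ▸ cyc_other u v w
  have fixA : ∀ {x}, x ≠ a1 → x ≠ a2 → x ≠ a3 → A x = x := fun u v w => hA ▸ cyc_other u v w
  have kAB : A * B * A⁻¹ = B := by
    conv_lhs => rw [hB, conj_cyc]
    rw [fixA f1 p12 p13, fixA p21 f2 p23, fixA p31 p32 f3, hB]
  have kAC : A * C * A⁻¹ = C := by
    conv_lhs => rw [hC, conj_cyc]
    rw [fixA u1 q12 q13, fixA q21 u2 q23, fixA q31 q32 u3, hC]
  have cAB : A * B = B * A := mul_inv_eq_iff_eq_mul.1 kAB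
  have cAC : A * C = C * A := mul_inv_eq_iff_eq_mul.1 kAC
  have hg : z * (A * B * C) * z⁻¹ = A * B * C := by
    have : z * (A * B * C) * z⁻¹ = (z * A * z⁻¹) * (z * B * z⁻¹) * (z * C * z⁻¹) := by group
    rw [this, cA, cB, cC, mul_assoc B C A, ← cAC, ← mul_assoc, ← cAB]
  refine ⟨A * B * C, ?_, ?_, ?_⟩
  · have hne : alternatingGroup α ⊓ Subgroup.centralizer {z} ≠ alternatingGroup α := fun e => by
      have hm : AltAut.cyc a1 a2 (z a1) ∈ alternatingGroup α ⊓ Subgroup.centralizer {z} := by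
        rw [e]
        exact (cyc_isThreeCycle e12 f1.symm p12.symm).mem_alternatingGroup
      have h3 := Equiv.Perm.congr_fun (Subgroup.mem_centralizer_singleton_iff.1 hm.2) a1
      rw [Equiv.Perm.mul_apply, Equiv.Perm.mul_apply, cyc_left e12 f1.symm, cyc_right] at h3
      exact p21 h3.symm
    refine h.hM _ (le_inf h.hPA fun p hp => Subgroup.mem_centralizer_singleton_iff.2 (hzP p hp).eq)
      inf_le_left hne ⟨?_, ?_⟩
    · rw [hA, hB, hC]
      exact mul_mem (mul_mem (cyc_isThreeCycle e12 e13 e23).mem_alternatingGroup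
        (cyc_isThreeCycle (z.injective.ne e12) (z.injective.ne e13) (z.injective.ne e23)).mem_alternatingGroup)
        (cyc_isThreeCycle (z.injective.ne (z.injective.ne e12)) (z.injective.ne (z.injective.ne e13))
          (z.injective.ne (z.injective.ne e23))).mem_alternatingGroup
    · exact Subgroup.mem_centralizer_singleton_iff.2 (mul_inv_eq_iff_eq_mul.1 hg).symm
  · rw [Equiv.Perm.mul_apply, Equiv.Perm.mul_apply, fixC u1.symm q21.symm q31.symm,
      fixB f1.symm p21.symm p31.symm, hA, cyc_left e12 e13]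
  · rw [Equiv.Perm.mul_apply, Equiv.Perm.mul_apply, fixC q13.symm q23.symm u3.symm,
      fixB p13.symm p23.symm f3.symm, hA, cyc_right]

/-- The orbit of a point as a finset. -/
noncomputable def orb (P : Subgroup (Perm α)) (a : α) : Finset α := by
  classical exact Finset.univ.filter fun x => ∃ p ∈ P, p a = x

theorem mem_orb {a x : α} : x ∈ orb P a ↔ ∃ p ∈ P, p a = x := by
  classical simp [orb]

theorem mem_orb_self (a : α) : a ∈ orb P a := mem_orb.2 ⟨1, P.one_mem, rfl⟩

theorem orb_iff {a x : α} {p : Perm α} (hp : p ∈ P) : p x ∈ orb P a ↔ x ∈ orb P a := by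
  constructor
  · intro h
    obtain ⟨q, hq, e⟩ := mem_orb.1 h
    exact mem_orb.2 ⟨p⁻¹ * q, P.mul_mem (P.inv_mem hp) hq, by simp [e]⟩
  · intro h
    obtain ⟨q, hq, rfl⟩ := mem_orb.1 h
    exact mem_orb.2 ⟨p * q, P.mul_mem hp hq, rfl⟩

theorem orb_eq {a b : α} (h : b ∈ orb P a) : orb P b = orb P a := by
  obtain ⟨q, hq, rfl⟩ := mem_orb.1 h
  ext x
  constructor
  · intro hx
    obtain ⟨p, hp, rfl⟩ := mem_orb.1 hx
    exact (orb_iff hp).2 ((orb_iff hq).2 (mem_orb_self a))
  · intro hx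
    obtain ⟨p, hp, rfl⟩ := mem_orb.1 hx
    exact mem_orb.2 ⟨p * q⁻¹, P.mul_mem hp (P.inv_mem hq), by simp⟩

theorem card_orb (h : Setup P M) (a : α) : ∃ k, (orb P a).card = 3 ^ k := by
  haveI : Fact (Nat.Prime 3) := ⟨Nat.prime_three⟩
  obtain ⟨k, hk⟩ := h.hP.card_orbit a
  refine ⟨k, ?_⟩
  rw [← hk, ← Nat.card_eq_finsetCard]
  exact Nat.card_congr (Equiv.subtypeEquivRight fun x => by
    rw [mem_orb]
    exact ⟨fun ⟨p, hp, e⟩ => ⟨⟨p, hp⟩, e⟩, fun ⟨p, e⟩ => ⟨p, p.2, e⟩⟩)

theorem good_orb_compl (h : Setup P M) {a : α} (h2 : 2 ≤ (orb P a).card) (hne : ∃ b, b ∉ orb P a) :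
    Good M (orb P a) ∧ Good M (orb P a)ᶜ := by
  classical
  obtain ⟨a', ha', haa⟩ := Finset.exists_mem_ne (show 1 < (orb P a).card by omega) a
  obtain ⟨b, hb⟩ := hne
  have hf : P ≤ respects (fun x => decide (x ∈ orb P a)) := fun p hp x y => by
    simp only [decide_eq_decide, orb_iff hp]
  have h1 : decide (a ∈ orb P a) = decide (a' ∈ orb P a) := by simp [mem_orb_self, ha']
  have h2' : decide (a' ∈ orb P a) ≠ decide (b ∈ orb P a) := by simp [ha', hb]
  exact ⟨good_fibre h _ hf haa.symm h1 h2' _ fun x hx y hy => by simp [hx, hy],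
    good_fibre h _ hf haa.symm h1 h2' _ fun x hx y hy => by
      rw [Finset.mem_compl] at hx hy
      simp [hx, hy]⟩

theorem three_orbits (h : Setup P M) {a b d : α} (h3 : 2 ≤ (orb P a).card) (hb : b ∉ orb P a)
    (hd : d ∉ orb P a) (hd' : d ∉ orb P b) : Good M Finset.univ := by
  classical
  have hba : a ∉ orb P b := fun e => hb (orb_eq e ▸ mem_orb_self b)
  have hda : a ∉ orb P d := fun e => hd (orb_eq e ▸ mem_orb_self d)
  have hdb : b ∉ orb P d := fun e => hd' (orb_eq e ▸ mem_orb_self d)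
  have h3' : 3 ≤ (orb P a).card := by
    obtain ⟨k, hk⟩ := card_orb h a
    rcases Nat.eq_zero_or_pos k with rfl | hk0
    · omega
    · rw [hk]; exact le_trans (by norm_num) (Nat.pow_le_pow_right (by norm_num) hk0)
  -- the stabilizer of any orbit contains the alternating group on its complement
  have key : ∀ e : α, a ∉ orb P e → Good M (orb P e)ᶜ ∧ 3 ≤ ((orb P e)ᶜ : Finset α).card := by
    intro e he
    have hsub : orb P a ⊆ (orb P e)ᶜ := fun x hx => Finset.mem_compl.2 fun hx' =>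
      he (by rw [← orb_eq hx', orb_eq hx]; exact mem_orb_self a)
    refine ⟨?_, h3'.trans (Finset.card_le_card hsub)⟩
    have hf : P ≤ respects (fun x => decide (x ∈ orb P e)) := fun p hp x y => by
      simp only [decide_eq_decide, orb_iff hp]
    obtain ⟨a', ha', haa⟩ := Finset.exists_mem_ne (show 1 < (orb P a).card by omega) a
    refine good_fibre h _ hf (a := a) (a' := a') (b := e) haa.symm ?_ ?_ _ fun x hx y hy => ?_
    · simp [he, Finset.mem_compl.1 (hsub ha')]
    · simp [Finset.mem_compl.1 (hsub ha'), mem_orb_self]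
    · rw [Finset.mem_compl] at hx hy
      simp [hx, hy]
  obtain ⟨g1, c1⟩ := key b hba
  obtain ⟨g2, c2⟩ := key d hda
  have hu := good_union g1 c1 g2 c2 (Finset.mem_compl.2 hba) (Finset.mem_compl.2 hda)
  intro x _ y _ w _
  have hall : ∀ u : α, u ∈ (orb P b)ᶜ ∪ (orb P d)ᶜ := fun u => by
    rw [Finset.mem_union, Finset.mem_compl, Finset.mem_compl]
    by_contra hno
    push Not at hno
    exact hd' (by rw [← orb_eq hno.1, orb_eq hno.2]; exact mem_orb_self d)
  exact hu x (hall x) y (hall y) w (hall w)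

/-- A central element of order 3 of the group induced on a non-trivial orbit. -/
theorem exists_central (h : Setup P M) {a : α} (h2 : 2 ≤ (orb P a).card) :
    ∃ z : Perm α, z * z * z = 1 ∧ (∀ p ∈ P, Commute p z) ∧ (∀ x ∈ orb P a, z x ≠ x ∧ z x ∈ orb P a) ∧
      ∀ x ∉ orb P a, z x = x := by
  classical
  haveI : Fact (Nat.Prime 3) := ⟨Nat.prime_three⟩
  let ρ : ↥P →* Perm {x // x ∈ orb P a} :=
    { toFun := fun p => (p : Perm α).subtypePerm (fun x => orb_iff p.2)
      map_one' := by ext; simp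
      map_mul' := fun p q => Equiv.ext fun y => Subtype.ext rfl }
  have hQ : IsPGroup 3 ↥ρ.range := h.hP.of_surjective ρ.rangeRestrict ρ.rangeRestrict_surjective
  obtain ⟨a', ha', haa⟩ := Finset.exists_mem_ne (show 1 < (orb P a).card by omega) a
  haveI : Nontrivial ↥ρ.range := by
    obtain ⟨p, hp, e⟩ := mem_orb.1 ha'
    refine ⟨⟨⟨ρ ⟨p, hp⟩, _, rfl⟩, 1, fun e' => haa ?_⟩⟩
    have := congrArg (fun σ : ↥ρ.range => ((σ : Perm {x // x ∈ orb P a}) ⟨a, mem_orb_self a⟩ : α)) e'
    exact e.symm.trans this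
  haveI := hQ.center_nontrivial
  have hdvd : 3 ∣ Nat.card ↥(Subgroup.center ↥ρ.range) :=
    ((hQ.to_subgroup _).card_eq_or_dvd).resolve_left (by
      have := Finite.one_lt_card (α := ↥(Subgroup.center ↥ρ.range))
      omega)
  obtain ⟨w, hw⟩ := exists_prime_orderOf_dvd_card' 3 hdvd
  let σ : Perm {x // x ∈ orb P a} := ((w : ↥ρ.range) : Perm {x // x ∈ orb P a})
  have hσ3 : σ * σ * σ = 1 := by
    have h1 := pow_orderOf_eq_one w
    rw [hw, pow_succ, pow_two] at h1
    exact congrArg (fun v : ↥(Subgroup.center ↥ρ.range) => ((v : ↥ρ.range) : Perm {x // x ∈ orb P a})) h1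
  have hσ1 : σ ≠ 1 := fun e => by
    have : w = 1 := Subtype.ext (Subtype.ext e)
    rw [this, orderOf_one] at hw
    omega
  have hcomm : ∀ p : ↥P, ∀ y, ρ p (σ y) = σ (ρ p y) := fun p y =>
    Equiv.Perm.congr_fun (congrArg (fun v : ↥ρ.range => (v : Perm {x // x ∈ orb P a}))
      (Subgroup.mem_center_iff.1 w.2 ⟨ρ p, p, rfl⟩)) y
  have hfree : ∀ y, σ y ≠ y := by
    intro y hy
    refine hσ1 (Equiv.ext fun y' => ?_)
    obtain ⟨p, hp, e⟩ := mem_orb.1 (show (y' : α) ∈ orb P (y : α) from (orb_eq y.2).symm ▸ y'.2)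
    have e' : ρ ⟨p, hp⟩ y = y' := Subtype.ext e
    rw [Equiv.Perm.one_apply, ← e', ← hcomm, hy]
  refine ⟨Equiv.Perm.ofSubtype σ, ?_, ?_, ?_, ?_⟩
  · rw [← map_mul, ← map_mul, hσ3, map_one]
  · intro p hp
    refine Equiv.ext fun x => ?_
    rw [Equiv.Perm.mul_apply, Equiv.Perm.mul_apply]
    by_cases hx : x ∈ orb P a
    · rw [Equiv.Perm.ofSubtype_apply_of_mem σ hx, Equiv.Perm.ofSubtype_apply_of_mem σ ((orb_iff hp).2 hx)]
      exact congrArg Subtype.val (hcomm ⟨p, hp⟩ ⟨x, hx⟩)
    · rw [Equiv.Perm.ofSubtype_apply_of_not_mem σ hx,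
        Equiv.Perm.ofSubtype_apply_of_not_mem σ (fun e => hx ((orb_iff hp).1 e))]
  · intro x hx
    rw [Equiv.Perm.ofSubtype_apply_of_mem σ hx]
    exact ⟨fun e => hfree ⟨x, hx⟩ (Subtype.ext e), Subtype.coe_prop _⟩
  · intro x hx
    exact Equiv.Perm.ofSubtype_apply_of_not_mem σ hx

theorem card_eq_or_pow (h : Setup P M) (hM : ¬ alternatingGroup α ≤ M) :
    Fintype.card α = 6 ∨ Fintype.card α = 9 ∨ ∃ a : ℕ, 2 ≤ a ∧ Fintype.card α = 3 ^ a + 1 := by
  classical
  haveI : Fact (Nat.Prime 3) := ⟨Nat.prime_three⟩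
  -- some orbit is non-trivial
  obtain ⟨a, ha⟩ : ∃ a, 2 ≤ (orb P a).card := by
    by_contra hno
    push Not at hno
    refine h.hP1 (eq_bot_iff.2 fun p hp => Subgroup.mem_bot.2 (Equiv.ext fun x => ?_))
    rw [Equiv.Perm.one_apply]
    exact Finset.card_le_one.1 (Nat.le_of_lt_succ (hno x)) _ ((orb_iff hp).2 (mem_orb_self x)) _
      (mem_orb_self x)
  obtain ⟨k, hk⟩ := card_orb h a
  by_cases htr : ∀ x, x ∈ orb P a
  · -- transitive
    have hcard : Fintype.card α = 3 ^ k := by
      rw [← hk, ← Finset.card_univ]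
      exact congrArg Finset.card (Finset.ext fun x => ⟨fun _ => htr x, fun _ => Finset.mem_univ x⟩)
    rcases Nat.lt_trichotomy k 2 with hk2 | rfl | hk3
    · exfalso
      interval_cases k <;> simp_all <;> have := h.hn <;> omega
    · exact Or.inr (Or.inl hcard)
    exfalso
    refine hM (alt_le_of_good ?_)
    have h27 : 27 ≤ 3 ^ k := le_trans (by norm_num) (Nat.pow_le_pow_right (by norm_num) hk3)
    -- a normal subgroup of index 3 containing the point stabilizer
    obtain ⟨S, hS⟩ : ∃ S, S = MulAction.stabilizer ↥P a := ⟨_, rfl⟩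
    have hSt : ∀ p : ↥P, p ∈ S ↔ (p : Perm α) a = a := fun p => hS ▸ MulAction.mem_stabilizer_iff
    obtain ⟨a', ha', haa⟩ := Finset.exists_mem_ne (show 1 < (orb P a).card by omega) a
    have hSne : S ≠ ⊤ := fun e => by
      obtain ⟨p, hp, e'⟩ := mem_orb.1 ha'
      exact haa (e'.symm.trans ((hSt ⟨p, hp⟩).1 (e ▸ Subgroup.mem_top _)))
    obtain ⟨K, hK, hSK⟩ := (eq_top_or_exists_le_coatom S).resolve_left hSne
    haveI : Group.IsNilpotent ↥P := h.hP.isNilpotent
    haveI hKn : K.Normal := Subgroup.NormalizerCondition.normal_of_coatom K Group.normalizerCondition_of_isNilpotent hK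
    have hK3 : K.index = 3 := by
      haveI := hKn
      obtain ⟨m, hm⟩ := h.hP.index K
      have hKne : K ≠ ⊤ := hK.1
      have hm0 : m ≠ 0 := fun e => hKne (Subgroup.index_eq_one.1 (by rw [hm, e, pow_zero]))
      have hd : 3 ∣ Nat.card (↥P ⧸ K) := by
        rw [← Subgroup.index_eq_card, hm]; exact dvd_pow_self 3 hm0
      obtain ⟨y, hy⟩ := exists_prime_orderOf_dvd_card' 3 hd
      obtain ⟨y, rfl⟩ := QuotientGroup.mk_surjective y
      have hlt : K < K ⊔ Subgroup.zpowers y := lt_of_le_of_ne le_sup_left fun e => by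
        have hyK : y ∈ K := e ▸ Subgroup.mem_sup_right (Subgroup.mem_zpowers y)
        rw [(QuotientGroup.eq_one_iff y).2 hyK, orderOf_one] at hy
        omega
      have htop := hK.2 _ hlt
      have hz : Subgroup.zpowers (QuotientGroup.mk' K y) = ⊤ := by
        have := congrArg (Subgroup.map (QuotientGroup.mk' K)) htop
        rwa [Subgroup.map_sup, (Subgroup.map_eq_bot_iff K).2 (by rw [QuotientGroup.ker_mk']), bot_sup_eq,
          MonoidHom.map_zpowers, Subgroup.map_top_of_surjective _ (QuotientGroup.mk'_surjective K)] at this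
      rw [Subgroup.index_eq_card, ← Subgroup.card_top, ← hz, Nat.card_zpowers]
      exact hy
    -- the block map
    choose g hgP hga using fun x => mem_orb.1 (htr x)
    let φ : α → ↥P ⧸ K := fun x => QuotientGroup.mk' K ⟨g x, hgP x⟩
    have hφ : ∀ (p : ↥P) (x : α), φ ((p : Perm α) x) = QuotientGroup.mk' K p * φ x := by
      intro p x
      show QuotientGroup.mk' K _ = _ * QuotientGroup.mk' K _
      rw [← map_mul, QuotientGroup.mk'_apply, QuotientGroup.mk'_apply, QuotientGroup.eq]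
      refine hSK ((hSt _).2 ?_)
      show (g ((p : Perm α) x))⁻¹ (((p : Perm α) * g x) a) = a
      rw [Equiv.Perm.mul_apply, hga x]
      exact (Equiv.symm_apply_eq _).2 (hga _).symm
    have hPφ : P ≤ respects φ := fun p hp x y => by
      rw [hφ ⟨p, hp⟩ x, hφ ⟨p, hp⟩ y, mul_right_inj]
    let Cl : ↥P ⧸ K → Finset α := fun q => Finset.univ.filter fun x => φ x = q
    have hCl : ∀ q x, x ∈ Cl q ↔ φ x = q := fun q x => by simp [Cl]
    have hφsurj : ∀ q, ∃ x, φ x = q := by
      intro q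
      obtain ⟨p, rfl⟩ := QuotientGroup.mk'_surjective K q
      refine ⟨((p * ⟨g a, hgP a⟩⁻¹ : ↥P) : Perm α) a, ?_⟩
      rw [hφ, map_mul, map_inv, inv_mul_cancel_right]
    have hClcard : ∀ q q', (Cl q).card ≤ (Cl q').card := by
      intro q q'
      obtain ⟨x, rfl⟩ := hφsurj q
      obtain ⟨p, hp⟩ := QuotientGroup.mk'_surjective K (q' * (φ x)⁻¹)
      refine Finset.card_le_card_of_injOn (p : Perm α) (fun y hy => ?_) (p : Perm α).injective.injOn
      rw [Finset.mem_coe, hCl] at hy ⊢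
      rw [hφ, hp, hy, inv_mul_cancel_right]
    haveI : Fintype (↥P ⧸ K) := Fintype.ofFinite _
    have hsum : Fintype.card α = ∑ q, (Cl q).card := by
      rw [← Finset.card_univ]
      exact Finset.card_eq_sum_card_fiberwise fun x _ => Finset.mem_univ _
    have h9 : ∀ q, 9 ≤ (Cl q).card := by
      intro q
      have h1 : ∑ q', (Cl q').card ≤ 3 * (Cl q).card := by
        refine le_trans (Finset.sum_le_card_nsmul _ _ _ fun q' _ => hClcard q' q) (le_of_eq ?_)
        rw [Finset.card_univ, ← Nat.card_eq_fintype_card, ← Subgroup.index_eq_card, hK3, smul_eq_mul]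
      omega
    obtain ⟨x1, hx1⟩ := hφsurj 1
    obtain ⟨t, ht⟩ : ∃ t : ↥P ⧸ K, t ≠ 1 := by
      haveI : Nontrivial (↥P ⧸ K) := Finite.one_lt_card_iff_nontrivial.1 (by rw [← Subgroup.index_eq_card, hK3]; norm_num)
      exact exists_ne 1
    obtain ⟨x2, hx2⟩ := hφsurj t
    have hgood : ∀ q, Good M (Cl q) := by
      intro q
      obtain ⟨y, hy, hyne⟩ := Finset.exists_mem_ne (show 1 < (Cl 1).card by have := h9 1; omega) x1
      refine good_fibre h φ hPφ (a := x1) (a' := y) (b := x2) hyne.symm (hx1.trans ((hCl _ _).1 hy).symm)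
        (by rw [(hCl _ _).1 hy, hx2]; exact ht.symm) _ fun u hu v hv => ((hCl _ _).1 hu).trans ((hCl _ _).1 hv).symm
    -- a central element inside `K`
    have hKne : K ≠ ⊥ := fun e => by
      have h1 : Nat.card ↥P = 3 := by rw [← hK3, e, Subgroup.index_bot]
      have h2 : Nat.card (MulAction.orbit ↥P a) ∣ Nat.card ↥P := by
        rw [Nat.card_coe_set_eq, ← MulAction.index_stabilizer]
        exact ⟨_, (Subgroup.index_mul_card _).symm⟩
      have h4 : Nat.card (MulAction.orbit ↥P a) = (orb P a).card := by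
        rw [← Nat.card_eq_finsetCard]
        exact Nat.card_congr (Equiv.subtypeEquivRight fun x => by
          rw [mem_orb]
          exact ⟨fun ⟨p, e⟩ => ⟨p, p.2, e⟩, fun ⟨p, hp, e⟩ => ⟨⟨p, hp⟩, e⟩⟩)
      rw [h4, h1] at h2
      have := Nat.le_of_dvd (by norm_num) h2
      omega
    obtain ⟨w, ⟨hwK, hwC⟩, hw3⟩ : ∃ w : ↥P, w ∈ K ⊓ Subgroup.center ↥P ∧ orderOf w = 3 := by
      have hne := Cfsg.Agent.Char.GalDeg.inf_center_ne_bot h.hP K hKne
      have hd := ((h.hP.to_subgroup (K ⊓ Subgroup.center ↥P)).card_eq_or_dvd).resolve_left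
        (fun e => hne (Subgroup.card_eq_one.1 e))
      obtain ⟨v, hv⟩ := exists_prime_orderOf_dvd_card' 3 hd
      exact ⟨v, v.2, by rw [Subgroup.orderOf_coe, hv]⟩
    have hwfree : ∀ x, (w : Perm α) x ≠ x := by
      intro x hx
      have h1 : w = 1 := Subtype.ext (Equiv.ext fun y => by
        obtain ⟨p, hp, rfl⟩ := mem_orb.1 (orb_eq (htr x) ▸ htr y : y ∈ orb P x)
        have hc := Equiv.Perm.congr_fun (congrArg Subtype.val (Subgroup.mem_center_iff.1 hwC ⟨p, hp⟩)) x
        simp only [Subgroup.coe_mul, Equiv.Perm.mul_apply] at hc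
        rw [hx] at hc
        exact hc.symm)
      rw [h1, orderOf_one] at hw3
      omega
    have hwφ : ∀ (m : ℕ) x, φ ((((w : Perm α)) ^ m) x) = φ x := fun m x => by
      rw [← SubgroupClass.coe_pow, hφ, map_pow, QuotientGroup.mk'_apply, (QuotientGroup.eq_one_iff w).2 hwK,
        one_pow, one_mul]
    obtain ⟨x3, hx3, hx3'⟩ : ∃ x3 ∈ Cl 1, ∀ m : ℕ, ((w : Perm α) ^ m) x1 ≠ x3 := by
      obtain ⟨x3, hx3, hx3'⟩ : ∃ x3 ∈ Cl 1,
          x3 ∉ ({x1, (w : Perm α) x1, (w : Perm α) ((w : Perm α) x1)} : Finset α) := by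
        refine Finset.exists_mem_notMem_of_card_lt_card (lt_of_le_of_lt Finset.card_le_three ?_)
        have := h9 1
        omega
      refine ⟨x3, hx3, fun m e => hx3' ?_⟩
      have hmod : ((w : Perm α) ^ m) = (w : Perm α) ^ (m % 3) := by
        rw [← SubgroupClass.coe_pow, ← SubgroupClass.coe_pow, ← hw3, pow_mod_orderOf]
      rw [hmod] at e
      have : m % 3 < 3 := Nat.mod_lt _ (by norm_num)
      simp only [Finset.mem_insert, Finset.mem_singleton]
      interval_cases hmm : m % 3 <;> simp [pow_succ] at e <;> simp [e]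
    have hw33 : (w : Perm α) * (w : Perm α) * (w : Perm α) = 1 := by
      have h1 := pow_orderOf_eq_one w
      rw [hw3, pow_succ, pow_two] at h1
      exact congrArg Subtype.val h1
    obtain ⟨G, hGM, hG1, hG3⟩ := exists_glue h (w : Perm α) hw33
      (fun p hp => congrArg Subtype.val (Subgroup.mem_center_iff.1 hwC ⟨p, hp⟩))
      (hwfree x1) (hwfree x2) (hwfree x3)
      (fun m e => ht.symm (by rw [← hx1, ← hwφ m x1, e, hx2]))
      hx3' (fun m e => ht (by rw [← hx2, ← hwφ m x2, e]; exact (hCl _ _).1 hx3))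
    have c1 : x1 ∈ Cl 1 := (hCl _ _).2 hx1
    have c2 : x2 ∈ Cl t := (hCl _ _).2 hx2
    have hU : Good M (Cl 1 ∪ Cl t) := by
      have s1 := good_union (hgood 1) (by have := h9 1; omega) (good_image (hgood 1) hGM)
        (by rw [Finset.card_image_of_injective _ G.injective]; have := h9 1; omega) c1
        (Finset.mem_image.2 ⟨x3, hx3, hG3⟩)
      have s2 := good_union s1 ((h9 1).trans' (by norm_num) |>.trans (Finset.card_le_card Finset.subset_union_left))
        (hgood t) (by have := h9 t; omega) (Finset.mem_union_right _ (Finset.mem_image.2 ⟨x1, c1, hG1⟩)) c2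
      intro u hu v hv r hr
      have hs : Cl 1 ∪ Cl t ⊆ Cl 1 ∪ Finset.image G (Cl 1) ∪ Cl t :=
        Finset.union_subset_union Finset.subset_union_left subset_rfl
      exact s2 u (hs hu) v (hs hv) r (hs hr)
    obtain ⟨p, hp⟩ := QuotientGroup.mk'_surjective K t
    have hpM : (p : Perm α) ∈ M := by
      refine h.hM _ (le_inf h.hPA hPφ) inf_le_left (fun e => ?_) ⟨h.hPA p.2, hPφ p.2⟩
      obtain ⟨y, hy, hyne⟩ := Finset.exists_mem_ne (show 1 < (Cl 1).card by have := h9 1; omega) x1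
      have hyb : y ≠ x2 := fun e' => ht (by rw [← hx2, ← e']; exact (hCl _ _).1 hy)
      have hxb : x1 ≠ x2 := fun e' => ht (by rw [← hx2, ← e', hx1])
      have hm : AltAut.cyc x1 y x2 ∈ alternatingGroup α ⊓ respects φ := by
        rw [e]; exact (cyc_isThreeCycle hyne.symm hxb hyb).mem_alternatingGroup
      have h3 := (hm.2 x1 y).1 (hx1.trans ((hCl _ _).1 hy).symm)
      rw [cyc_left hyne.symm hxb, cyc_mid hxb hyb, (hCl _ _).1 hy, hx2] at h3
      exact ht h3.symm
    have hU3 : 3 ≤ (Cl 1 ∪ Cl t).card :=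
      (le_trans (by norm_num) (h9 1)).trans (Finset.card_le_card Finset.subset_union_left)
    have hV := good_union hU hU3 (good_image hU hpM)
      (by rw [Finset.card_image_of_injective _ (p : Perm α).injective]; exact hU3)
      (Finset.mem_union_right _ c2) (Finset.mem_image.2 ⟨(p⁻¹ : ↥P) • x2, Finset.mem_union_left _ ((hCl _ _).2 (by
        show φ (((p⁻¹ : ↥P) : Perm α) x2) = 1
        rw [hφ, map_inv, hp, hx2, inv_mul_cancel])), by
        show (p : Perm α) (((p⁻¹ : ↥P) : Perm α) x2) = x2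
        simp⟩)
    intro u _ v _ r _
    have hall : ∀ x : α, x ∈ (Cl 1 ∪ Cl t) ∪ (Cl 1 ∪ Cl t).image (p : Perm α) := by
      intro x
      rw [Finset.mem_union, Finset.mem_union, hCl, hCl]
      by_contra hno
      push Not at hno
      -- the quotient has exactly three elements `1, t, t * t`
      have h3 : φ x = t * t := by
        by_contra h4
        have hsub : ({1, t, t * t, φ x} : Finset (↥P ⧸ K)).card ≤ 3 := by
          rw [← hK3, Subgroup.index_eq_card, Nat.card_eq_fintype_card]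
          exact Finset.card_le_univ _
        have htt : t * t ≠ 1 := fun e => ht (by
          have h5 : t ^ 3 = 1 := by rw [← hK3, Subgroup.index_eq_card]; exact pow_card_eq_one'
          rwa [pow_succ, pow_two, e, one_mul] at h5)
        have htt' : t * t ≠ t := fun e => ht (mul_eq_left.1 e)
        rw [Finset.card_insert_of_notMem (by simp [Ne.symm ht, Ne.symm htt, Ne.symm hno.1.1]),
          Finset.card_insert_of_notMem (by simp [Ne.symm htt', Ne.symm hno.1.2]),
          Finset.card_insert_of_notMem (by simp [Ne.symm h4]), Finset.card_singleton] at hsub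
        omega
      refine hno.2 (Finset.mem_image.2 ⟨((p⁻¹ : ↥P) : Perm α) x, ?_, by simp⟩)
      refine Finset.mem_union_right _ ((hCl _ _).2 ?_)
      rw [hφ, map_inv, hp, h3, inv_mul_cancel_left]
    exact hV u (hall u) v (hall v) r (hall r)
  push Not at htr
  obtain ⟨b, hb⟩ := htr
  by_cases h3 : ∃ d, d ∉ orb P a ∧ d ∉ orb P b
  · obtain ⟨d, hd, hd'⟩ := h3
    exact absurd (alt_le_of_good (three_orbits h ha hb hd hd')) hM
  push Not at h3
  have hba : a ∉ orb P b := fun e => hb (orb_eq e ▸ mem_orb_self b)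
  have hcompl : (orb P a)ᶜ = orb P b := by
    ext x
    rw [Finset.mem_compl]
    refine ⟨h3 x, fun hx hx' => hb ?_⟩
    rw [← orb_eq hx', orb_eq hx]; exact mem_orb_self b
  obtain ⟨l, hl⟩ := card_orb h b
  have hsum : Fintype.card α = 3 ^ k + 3 ^ l := by
    rw [← hk, ← hl, ← hcompl, Finset.card_add_card_compl]
  have hk1 : 1 ≤ k := Nat.one_le_iff_ne_zero.2 fun e => by rw [e, pow_zero] at hk; omega
  rcases Nat.eq_zero_or_pos l with rfl | hl1
  · refine Or.inr (Or.inr ⟨k, ?_, by rw [hsum, pow_zero]⟩)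
    by_contra hk2
    obtain rfl : k = 1 := by omega
    have := h.hn
    norm_num at hsum
    omega
  by_cases hkl : k = 1 ∧ l = 1
  · left
    rw [hsum, hkl.1, hkl.2]
    norm_num
  exfalso
  refine hM (alt_le_of_good ?_)
  have hl2 : 2 ≤ (orb P b).card := by
    rw [hl]; exact le_trans (by norm_num) (Nat.pow_le_pow_right (by norm_num) hl1)
  -- the larger orbit first
  have main : ∀ u v : α, 4 ≤ (orb P u).card → 2 ≤ (orb P v).card → (orb P u)ᶜ = orb P v → Good M Finset.univ := by
    intro u v hu hv hc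
    have hvu : v ∉ orb P u := fun e => by
      have hm : v ∈ (orb P u)ᶜ := hc ▸ mem_orb_self v
      exact Finset.mem_compl.1 hm e
    obtain ⟨gu, gv⟩ := good_orb_compl h (a := u) (by omega) ⟨v, hvu⟩
    rw [hc] at gv
    obtain ⟨z1, z13, z1P, z1on, z1off⟩ := exists_central h (a := u) (by omega)
    obtain ⟨z2, z23, z2P, z2on, z2off⟩ := exists_central h hv
    have hdisj : ∀ x, x ∈ orb P v → x ∉ orb P u := fun x hx => Finset.mem_compl.1 (hc ▸ hx)
    have hcz : z1 * z2 = z2 * z1 := Equiv.ext fun x => by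
      rw [Equiv.Perm.mul_apply, Equiv.Perm.mul_apply]
      by_cases hx : x ∈ orb P u
      · have hxv : x ∉ orb P v := fun e => hdisj x e hx
        rw [z2off x hxv, z2off _ (fun e => hdisj _ e (z1on x hx).2)]
      · have hxv : x ∈ orb P v := hc ▸ Finset.mem_compl.2 hx
        rw [z1off x hx, z1off _ (hdisj _ (z2on x hxv).2)]
    have hz3 : z1 * z2 * (z1 * z2) * (z1 * z2) = 1 := by
      have c : Commute z1 z2 := hcz
      have := c.mul_pow 3
      rw [pow_succ, pow_two, pow_succ, pow_two, pow_succ, pow_two, z13, z23, one_mul] at this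
      exact this
    have on1 : ∀ x ∈ orb P u, (z1 * z2) x = z1 x := fun x hx => by
      rw [Equiv.Perm.mul_apply, z2off x fun e => hdisj x e hx]
    have stay : ∀ (m : ℕ) x, (((z1 * z2) ^ m) x ∈ orb P u ↔ x ∈ orb P u) := by
      intro m
      induction m with
      | zero => intro x; simp
      | succ m ih =>
        intro x
        rw [pow_succ', Equiv.Perm.mul_apply, ← ih x]
        generalize ((z1 * z2) ^ m) x = y
        constructor
        · intro hy
          by_contra hn
          have hyv : y ∈ orb P v := hc ▸ Finset.mem_compl.2 hn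
          rw [Equiv.Perm.mul_apply, z1off _ (hdisj _ (z2on y hyv).2)] at hy
          exact hdisj _ (z2on y hyv).2 hy
        · intro hy
          rw [on1 y hy]
          exact (z1on y hy).2
    have free : ∀ x, (z1 * z2) x ≠ x := fun x => by
      by_cases hx : x ∈ orb P u
      · rw [on1 x hx]; exact (z1on x hx).1
      · have hxv : x ∈ orb P v := hc ▸ Finset.mem_compl.2 hx
        rw [Equiv.Perm.mul_apply, z1off _ (hdisj _ (z2on x hxv).2)]
        exact (z2on x hxv).1
    obtain ⟨u3, hu3, hu3'⟩ : ∃ u3 ∈ orb P u,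
        u3 ∉ ({u, (z1 * z2) u, (z1 * z2) ((z1 * z2) u)} : Finset α) :=
      Finset.exists_mem_notMem_of_card_lt_card (lt_of_le_of_lt Finset.card_le_three hu)
    have hne : ∀ m : ℕ, ((z1 * z2) ^ m) u ≠ u3 := fun m e => hu3' (by
      have hmod : (z1 * z2) ^ m = (z1 * z2) ^ (m % 3) := by
        conv_lhs => rw [← Nat.mod_add_div m 3]
        rw [pow_add, pow_mul, show (z1 * z2) ^ 3 = 1 by rw [pow_succ, pow_two]; exact hz3, one_pow, mul_one]
      rw [hmod] at e
      have : m % 3 < 3 := Nat.mod_lt _ (by norm_num)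
      simp only [Finset.mem_insert, Finset.mem_singleton]
      interval_cases hmm : m % 3 <;> simp [pow_succ] at e <;> simp [e])
    obtain ⟨G, hGM, hG1, hG3⟩ := exists_glue h (z1 * z2) hz3
      (fun p hp => (z1P p hp).mul_right (z2P p hp)) (free u) (free v) (free u3)
      (fun m e => hvu (e ▸ (stay m u).2 (mem_orb_self u)))
      hne (fun m e => hvu ((stay m v).1 (e ▸ hu3)))
    have hv3 : 3 ≤ (orb P v).card := by
      obtain ⟨j, hj⟩ := card_orb h v
      rcases Nat.eq_zero_or_pos j with rfl | hj0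
      · rw [pow_zero] at hj; omega
      · rw [hj]; exact le_trans (by norm_num) (Nat.pow_le_pow_right (by norm_num) hj0)
    have s1 := good_union gu (by omega) (good_image gu hGM)
      (by rw [Finset.card_image_of_injective _ G.injective]; omega) (mem_orb_self u)
      (Finset.mem_image.2 ⟨u3, hu3, hG3⟩)
    have s2 := good_union s1 (le_trans (by omega : 3 ≤ (orb P u).card) (Finset.card_le_card Finset.subset_union_left))
      gv hv3 (Finset.mem_union_right _ (Finset.mem_image.2 ⟨u, mem_orb_self u, hG1⟩)) (mem_orb_self v)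
    intro x _ y _ w _
    have hall : ∀ r : α, r ∈ orb P u ∪ Finset.image G (orb P u) ∪ orb P v := fun r => by
      by_cases hr : r ∈ orb P u
      · exact Finset.mem_union_left _ (Finset.mem_union_left _ hr)
      · exact Finset.mem_union_right _ (hc ▸ Finset.mem_compl.2 hr)
    exact s2 x (hall x) y (hall y) w (hall w)
  rcases (show 2 ≤ k ∨ 2 ≤ l by omega) with hk2 | hl2'
  · exact main a b (by rw [hk]; exact le_trans (by norm_num) (Nat.pow_le_pow_right (by norm_num) hk2)) hl2 hcompl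
  · refine main b a (by rw [hl]; exact le_trans (by norm_num) (Nat.pow_le_pow_right (by norm_num) hl2')) ha ?_
    rw [← hcompl, compl_compl]

end Cfsg.Agent.Char.PMinAlt
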