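import Cfsg.Agent.Lib.Char.PSL2Degrees
import Cfsg.Agent.Lib.Char.BSW.Eqs
import Cfsg.Agent.Lib.Char.Ortho
import Cfsg.Agent.Lib.Classical.Dickson.Tools

/-!
The degree multiset of `PSL(2,p²)` forces every element of order divisible by `p` to be a
`p`-element: defect-zero characters vanish there, and column orthogonality does the rest.
-/

set_option autoImplicit false
set_option linter.unusedSectionVars false
set_option linter.style.haveILetI false

namespace Cfsg.Agent.Char.PSLSquare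

open Cfsg Cfsg.Agent Cfsg.Agent.Char

universe u

theorem no_half {m a b c e i j : ℤ} (hm : 4 ≤ m) (ha : 0 ≤ a) (hc : c = 2)
    (hi : 2 + 4 * a + c = i * m) (hj : 2 + 4 * b + e = j * (m + 1))
    (hej : (e = 1 ∧ j = 3) ∨ (e = 2 ∧ j = 4))
    (h : 2 * m * (2 * m + 1) * (m + 1) = 1 + (2 * m + 1) ^ 2 + a * (2 * m + 2) ^ 2 +
      b * (2 * m) ^ 2 + c * (m + 1) ^ 2 + e * m ^ 2) : False := by
  subst hc
  have hi0 : 1 ≤ i := by
    by_contra hlt
    nlinarith
  have key : 2 * m * (2 * m + 1) * (m + 1) = 1 + (2 * m + 1) ^ 2 + (i * m - 4) * (m + 1) ^ 2 +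
      (j * (m + 1) - 2 - e) * m ^ 2 + 2 * (m + 1) ^ 2 + e * m ^ 2 := by
    rw [← hi, ← hj, h]; ring
  rcases hej with ⟨rfl, rfl⟩ | ⟨rfl, rfl⟩
  · rcases (show i = 1 ∨ 2 ≤ i by omega) with rfl | hi2
    · nlinarith
    · nlinarith [mul_le_mul_of_nonneg_right hi2 (show (0 : ℤ) ≤ m * (m + 1) ^ 2 by positivity)]
  · nlinarith [mul_le_mul_of_nonneg_right hi0 (show (0 : ℤ) ≤ m * (m + 1) ^ 2 by positivity)]

variable {F : Type u} [Field F] [Fintype F]

local notation "PSL" => Matrix.ProjectiveSpecialLinearGroup (Fin 2) F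
local notation "SL" => Matrix.SpecialLinearGroup (Fin 2) F

theorem card_one : Nat.card {χ : IrrCharacter PSL // charDegree (χ : PSL → ℂ) = 1} ≤
    Nat.card {χ : IrrCharacter SL // (χ : SL → ℂ) 1 = (1 : ℂ)} :=
  (PSL2Deg.card_irr_deg_le (F := F) 1).trans (le_of_eq (by rw [Nat.cast_one]))

/-- For `q = 8 n + 1` the characters of degree `(q - 1) / 2` of `SL(2,q)` are faithful. -/
theorem no_half_minus {m : ℕ} (hm : Fintype.card F = 2 * m + 1) (h4 : 4 ∣ m) (χ : IrrCharacter PSL) :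
    charDegree (χ : PSL → ℂ) ≠ m := by
  classical
  haveI := Fintype.ofFinite SL
  haveI := Fintype.ofFinite PSL
  have hodd : Odd (Fintype.card F) := ⟨m, hm⟩
  have hm4 : 4 ≤ m := by
    have := Fintype.one_lt_card (α := F)
    obtain ⟨k, rfl⟩ := h4; omega
  have hc := (Cfsg.Agent.S2299.result (F := F) hodd).2 (by omega)
  set S : ℕ → ℕ := fun d => Nat.card {χ : IrrCharacter PSL // charDegree (χ : PSL → ℂ) = d} with hS
  have hS1 : S 1 = 1 := by
    have h1 : S 1 ≤ 1 := card_one.trans (le_of_eq hc.1)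
    have h2 : S 1 ≠ 0 := Nat.card_ne_zero.mpr ⟨⟨⟨⟨_, isIrrCharacter_one⟩, by
      simp [charDegree]⟩⟩, inferInstance⟩
    omega
  have hSq : S (2 * m + 1) = 1 := by
    have h1 : S (2 * m + 1) ≤ 1 := (PSL2Deg.card_irr_deg_le (F := F) (2 * m + 1)).trans (le_of_eq (by
      rw [← hm]; exact hc.2.1))
    obtain ⟨χ, hχ⟩ := PSL2Deg.exists_steinberg (F := F)
    have h2 : S (2 * m + 1) ≠ 0 :=
      Nat.card_ne_zero.mpr ⟨⟨⟨χ, hχ.trans hm⟩⟩, inferInstance⟩
    omega
  have hSp : S (m + 1) ≤ 2 := (PSL2Deg.card_irr_deg_le (F := F) (m + 1)).trans (le_of_eq (by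
    rw [show m + 1 = (Fintype.card F + 1) / 2 by omega]; exact hc.2.2.2.2.1))
  have hSm : S m ≤ 2 := (PSL2Deg.card_irr_deg_le (F := F) m).trans (le_of_eq (by
    rw [show m = (Fintype.card F - 1) / 2 by omega]; exact hc.2.2.2.2.2))
  have hSb : S (2 * m) ≤ m := (PSL2Deg.card_irr_deg_le (F := F) (2 * m)).trans (le_of_eq (by
    rw [show ((2 * m : ℕ) : ℂ) = (Fintype.card F : ℂ) - 1 by rw [hm]; push_cast; ring]
    rw [hc.2.2.2.1]; omega))
  have hsum : Nat.card PSL = S 1 * 1 ^ 2 + S (2 * m + 1) * (2 * m + 1) ^ 2 +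
      S (2 * m + 2) * (2 * m + 2) ^ 2 + S (2 * m) * (2 * m) ^ 2 + S (m + 1) * (m + 1) ^ 2 +
      S m * m ^ 2 := by
    rw [← PSL2Deg.sum_sq_psl]
    have hmaps : ∀ χ ∈ (Finset.univ : Finset (IrrCharacter PSL)), charDegree (χ : PSL → ℂ) ∈
        ({1, 2 * m + 1, 2 * m + 2, 2 * m, m + 1, m} : Finset ℕ) := by
      intro χ _
      rcases PSL2Deg.psl_degree χ with h | h | h | h | ⟨-, h | h⟩ <;>
        simp only [Finset.mem_insert, Finset.mem_singleton] <;> omega
    rw [← Finset.sum_fiberwise_of_maps_to hmaps]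
    have hfib : ∀ d : ℕ, ∑ χ ∈ Finset.univ.filter
        (fun χ : IrrCharacter PSL => charDegree (χ : PSL → ℂ) = d),
        charDegree (χ : PSL → ℂ) ^ 2 = S d * d ^ 2 := by
      intro d
      rw [Finset.sum_congr rfl (g := fun _ => d ^ 2) fun χ hχ => by
        rw [(Finset.mem_filter.mp hχ).2], Finset.sum_const, smul_eq_mul]
      simp only [hS, Nat.card_eq_fintype_card, Fintype.card_subtype]
    simp only [hfib]
    rw [Finset.sum_insert (by simp; omega), Finset.sum_insert (by simp; omega),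
      Finset.sum_insert (by simp; omega), Finset.sum_insert (by simp; omega),
      Finset.sum_insert (by simp), Finset.sum_singleton]
    ring
  rw [PSL2Deg.card_psl_odd hodd hm, hS1, hSq] at hsum
  intro hχ
  have hSm0 : S m ≠ 0 := Nat.card_ne_zero.mpr ⟨⟨⟨χ, hχ⟩⟩, inferInstance⟩
  obtain ⟨n, hn⟩ := h4
  have h' : (2 * (m : ℤ) * (2 * m + 1) * (m + 1)) = 1 + (2 * (m : ℤ) + 1) ^ 2 +
      (S (2 * m + 2) : ℤ) * (2 * m + 2) ^ 2 + (S (2 * m) : ℤ) * (2 * m) ^ 2 +
      (S (m + 1) : ℤ) * (m + 1) ^ 2 + (S m : ℤ) * m ^ 2 := by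
    have : ((2 * m * (2 * m + 1) * (m + 1) : ℕ) : ℤ) = _ := congrArg Nat.cast hsum
    push_cast at this
    linear_combination this
  set a : ℤ := (S (2 * m + 2) : ℤ)
  set b : ℤ := (S (2 * m) : ℤ)
  set c : ℤ := (S (m + 1) : ℤ) with hcdef
  set e : ℤ := (S m : ℤ) with hedef
  obtain ⟨i, hi⟩ : (m : ℤ) ∣ 2 + 4 * a + c := by
    refine ⟨2 * (2 * m + 1) * (m + 1) - 4 * m - 4 - 4 * a * m - 8 * a - 4 * b * m - c * m - 2 * c -
      e * m, ?_⟩
    linear_combination (-1 : ℤ) * h'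
  obtain ⟨j, hj⟩ : ((m : ℤ) + 1) ∣ 2 + 4 * b + e := by
    refine ⟨2 * m * (2 * m + 1) - 4 * m - 4 * a * (m + 1) - 4 * b * (m - 1) - c * (m + 1) -
      e * (m - 1), ?_⟩
    linear_combination (-1 : ℤ) * h'
  have hb' : b ≤ m := by omega
  have he' : 1 ≤ e ∧ e ≤ 2 := by omega
  have hc' : 0 ≤ c ∧ c ≤ 2 := by omega
  have hi4 : 4 ∣ 2 + 4 * a + c := hi ▸ Dvd.dvd.mul_right (a := (4 : ℤ)) ⟨n, by omega⟩ i
  have hc2 : c = 2 := by omega
  have hj1 : 1 ≤ j := by
    by_contra hlt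
    nlinarith [show (0 : ℤ) ≤ b by positivity]
  have hj5 : j ≤ 4 := by
    by_contra hlt
    nlinarith
  have hej : (e = 1 ∧ j = 3) ∨ (e = 2 ∧ j = 4) := by
    have h5 : ((m : ℤ) + 1) * j = 4 * (n * j) + j := by rw [hn]; push_cast; ring
    omega
  exact no_half (a := a) (b := b) (i := i) (j := j) (by exact_mod_cast hm4) (Int.natCast_nonneg _) hc2 (by rw [hi]; ring) (by rw [hj]; ring)
    hej h'

/-- Degrees of `PSL(2,p²)`. -/
theorem degree_cases {p : ℕ} (hp : p.Prime) (hF : Fintype.card F = p ^ 2) (χ : IrrCharacter PSL) :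
    charDegree (χ : PSL → ℂ) = 1 ∨ charDegree (χ : PSL → ℂ) = p ^ 2 ∨
      charDegree (χ : PSL → ℂ) = p ^ 2 + 1 ∨ charDegree (χ : PSL → ℂ) = p ^ 2 - 1 ∨
      (Odd p ∧ charDegree (χ : PSL → ℂ) = (p ^ 2 + 1) / 2) := by
  rw [← hF]
  rcases PSL2Deg.psl_degree χ with h | h | h | h | ⟨ho, h | h⟩
  · exact Or.inl h
  · exact Or.inr (Or.inl h)
  · exact Or.inr (Or.inr (Or.inl h))
  · exact Or.inr (Or.inr (Or.inr (Or.inl h)))
  · refine Or.inr (Or.inr (Or.inr (Or.inr ⟨?_, h⟩)))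
    rw [hF] at ho
    exact (Nat.odd_pow_iff (by norm_num)).mp ho
  · exfalso
    rw [hF] at ho
    obtain ⟨i, hi⟩ := (Nat.odd_pow_iff (by norm_num : (2 : ℕ) ≠ 0)).mp ho
    have hq : Fintype.card F = 2 * (2 * (i * i + i)) + 1 := by rw [hF, hi]; ring
    refine no_half_minus hq ?_ χ (h.trans (by omega))
    obtain ⟨t, ht⟩ := Nat.even_mul_succ_self i
    exact ⟨t, by rw [show i * i + i = i * (i + 1) by ring, ht]; ring⟩

variable {G : Type*} [Group G] [Finite G]

theorem no_mixed {p d : ℕ} [hp : Fact p.Prime] (hd : d = Nat.gcd 2 (p ^ 2 - 1))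
    (hG : Nat.card G * d = p ^ 2 * ((p ^ 2) ^ 2 - 1))
    (hdeg : ∀ χ : IrrCharacter G, deg (χ : G → ℂ) = 1 ∨ deg (χ : G → ℂ) = p ^ 2 ∨
      deg (χ : G → ℂ) = p ^ 2 + 1 ∨ deg (χ : G → ℂ) = p ^ 2 - 1 ∨
      (Odd p ∧ deg (χ : G → ℂ) = (p ^ 2 + 1) / 2))
    (hone : ∀ χ : IrrCharacter G, deg (χ : G → ℂ) = 1 → (χ : G → ℂ) = fun _ => 1)
    (g : G) (hg : p ∣ orderOf g) (r : ℕ) (hr : r.Prime) (hrg : r ∣ orderOf g) : r = p := by
  classical
  haveI := Fintype.ofFinite G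
  by_contra hrp
  haveI : Fact r.Prime := ⟨hr⟩
  set q := p ^ 2 with hq
  have hp2 := hp.out.two_le
  have hq4 : 4 ≤ q := by rw [hq]; nlinarith
  have hsq : q ^ 2 - 1 = (q + 1) * (q - 1) := by rw [← one_pow 2, Nat.sq_sub_sq, one_pow]
  rw [hsq] at hG
  set v := (Nat.card G).factorization r with hv
  have hv1 : r ^ v ∣ Nat.card G := Nat.ordProj_dvd _ _
  have hrG : r ∣ Nat.card G := hrg.trans (orderOf_dvd_natCard g)
  have hrq : Nat.Coprime r q := Nat.Coprime.pow_right 2 ((Nat.coprime_primes hr hp.out).mpr hrp)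
  have hdiv : r ^ v ∣ (q + 1) * (q - 1) :=
    (hrq.pow_left v).dvd_of_dvd_mul_left (hG ▸ dvd_mul_of_dvd_left hv1 d)
  have hpfull : (p : ℕ) ^ (Nat.card G).factorization p ∣ q := by
    refine (Nat.Coprime.dvd_of_dvd_mul_right (n := (q + 1) * (q - 1)) ?_ ?_)
    · refine Nat.Coprime.pow_left _ (hp.out.coprime_iff_not_dvd.mpr fun h => ?_)
      rw [← hsq] at h
      have h2 : p ∣ q ^ 2 := dvd_pow (dvd_pow_self p (by norm_num)) (by norm_num)
      have := Nat.dvd_sub h2 h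
      rw [Nat.sub_sub_self (Nat.one_le_pow 2 q (by omega)), Nat.dvd_one] at this
      omega
    · exact hG ▸ dvd_mul_of_dvd_left (Nat.ordProj_dvd _ _) d
  have hvp : ∀ χ : IrrCharacter G, deg (χ : G → ℂ) = q → (χ : G → ℂ) g = 0 := fun χ h =>
    BSW.defect_zero_vanish hp.out (h ▸ hpfull) hg
  have hodd4 : Odd p → q % 4 = 1 := by
    rintro ⟨i, rfl⟩
    rw [hq, show (2 * i + 1) ^ 2 = 4 * (i * i + i) + 1 by ring]
    omega
  obtain ⟨D, hD, hdiv'⟩ : ∃ D : ℕ, 2 ≤ D ∧ ∀ χ : IrrCharacter G, (χ : G → ℂ) = (fun _ => 1) ∨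
      (χ : G → ℂ) g = 0 ∨ D ∣ deg (χ : G → ℂ) := by
    by_cases hrm : r ∣ q - 1
    · have hfull : r ^ v ∣ q - 1 := by
        rcases eq_or_ne r 2 with rfl | hr2
        · have hpo : Odd p := hp.out.eq_two_or_odd'.resolve_left (Ne.symm hrp)
          have hq1 := hodd4 hpo
          obtain ⟨w, hw⟩ : 2 ∣ q + 1 := by omega
          have hd2 : d = 2 := by
            rw [hd]; exact Nat.gcd_eq_left ⟨(q - 1) / 2, by omega⟩
          have h1 : 2 ^ (v + 1) ∣ 2 * (q - 1) * (w * q) := by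
            rw [show 2 * (q - 1) * (w * q) = q * ((q + 1) * (q - 1)) by rw [hw]; ring, ← hG, hd2,
              pow_succ]
            exact mul_dvd_mul_right hv1 2
          have h2 : 2 ^ (v + 1) ∣ 2 * (q - 1) := by
            refine Nat.Coprime.dvd_of_dvd_mul_right (Nat.Coprime.pow_left _ ?_) h1
            rw [Nat.coprime_two_left]
            exact Odd.mul ⟨w / 2, by omega⟩ ⟨q / 2, by omega⟩
          rw [pow_succ'] at h2
          exact Nat.dvd_of_mul_dvd_mul_left (by norm_num) h2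
        · refine (Nat.Coprime.pow_left v (hr.coprime_iff_not_dvd.mpr fun h => hr2 ?_)).dvd_of_dvd_mul_left hdiv
          have := Nat.dvd_sub h hrm
          rw [show q + 1 - (q - 1) = 2 by omega] at this
          exact (Nat.prime_dvd_prime_iff_eq hr Nat.prime_two).mp this
      refine ⟨if Odd p then (q + 1) / 2 else q + 1, by split_ifs <;> omega, fun χ => ?_⟩
      rcases hdeg χ with h | h | h | h | ⟨ho, h⟩
      · exact Or.inl (hone χ h)
      · exact Or.inr (Or.inl (hvp χ h))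
      · refine Or.inr (Or.inr ?_)
        rw [h]
        split_ifs with ho
        · exact ⟨2, by have := hodd4 ho; omega⟩
        · exact dvd_rfl
      · exact Or.inr (Or.inl (BSW.defect_zero_vanish hr (h ▸ hfull) hrg))
      · exact Or.inr (Or.inr (by rw [h, if_pos ho]))
    · have hr2 : r ≠ 2 := by
        rintro rfl
        have hpo : Odd p := hp.out.eq_two_or_odd'.resolve_left (Ne.symm hrp)
        have := hodd4 hpo
        exact hrm (by omega)
      have hfull : r ^ v ∣ q + 1 :=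
        (Nat.Coprime.pow_left v (hr.coprime_iff_not_dvd.mpr hrm)).dvd_of_dvd_mul_right hdiv
      have hhalf : Odd p → r ^ v ∣ (q + 1) / 2 := fun ho => by
        have := hodd4 ho
        refine (Nat.Coprime.pow_left v ((Nat.coprime_primes hr Nat.prime_two).mpr hr2)).dvd_of_dvd_mul_left ?_
        rw [show 2 * ((q + 1) / 2) = q + 1 by omega]
        exact hfull
      refine ⟨q - 1, by omega, fun χ => ?_⟩
      rcases hdeg χ with h | h | h | h | ⟨ho, h⟩
      · exact Or.inl (hone χ h)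
      · exact Or.inr (Or.inl (hvp χ h))
      · exact Or.inr (Or.inl (BSW.defect_zero_vanish hr (h ▸ hfull) hrg))
      · exact Or.inr (Or.inr (h ▸ dvd_rfl))
      · exact Or.inr (Or.inl (BSW.defect_zero_vanish hr (h ▸ hhalf ho) hrg))
  have hg1 : ¬ IsConj g 1 := fun h => by
    rw [isConj_one_left] at h
    rw [h, orderOf_one, Nat.dvd_one] at hg
    omega
  have hsum := second_orth g (1 : G)
  rw [if_neg hg1] at hsum
  set one : IrrCharacter G := ⟨_, isIrrCharacter_one⟩ with hone'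
  rw [← Finset.add_sum_erase _ _ (Finset.mem_univ one)] at hsum
  have h1 : ((one : IrrCharacter G) : G → ℂ) g * (starRingEnd ℂ) (((one : IrrCharacter G) : G → ℂ) 1) = 1 := by
    rw [hone']; simp
  have hterm : ∀ χ ∈ Finset.univ.erase one, ∃ w : ℂ, IsIntegral ℤ w ∧
      (χ : G → ℂ) g * (starRingEnd ℂ) ((χ : G → ℂ) 1) = (D : ℂ) * w := by
    intro χ hχ
    rcases hdiv' χ with h | h | ⟨e, he⟩
    · exact absurd (Subtype.ext h) (Finset.ne_of_mem_erase hχ)
    · exact ⟨0, isIntegral_zero, by rw [h]; ring⟩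
    · refine ⟨(χ : G → ℂ) g * (e : ℂ), (char_isIntegral (irr_isCharacter χ.2) g).mul
        (by simpa using isIntegral_algebraMap (R := ℤ) (A := ℂ) (x := (e : ℤ))), ?_⟩
      rw [conj_char_one (irr_isCharacter χ.2), char_one_eq_deg (irr_isCharacter χ.2), he]
      push_cast; ring
  choose! w hw hwe using hterm
  rw [h1, Finset.sum_congr rfl hwe, ← Finset.mul_sum] at hsum
  have hint : IsIntegral ℤ (∑ χ ∈ Finset.univ.erase one, w χ) := IsIntegral.sum _ hw
  have hDne : (D : ℂ) ≠ 0 := Nat.cast_ne_zero.mpr (by omega)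
  have heq : (∑ χ ∈ Finset.univ.erase one, w χ) = (((-1 : ℚ) / D : ℚ) : ℂ) := by
    push_cast
    field_simp
    linear_combination hsum
  rw [heq] at hint
  obtain ⟨z, hz⟩ := isIntegral_rat_cast_imp hint
  have hz' : (z : ℚ) * D = -1 := by
    rw [hz, div_mul_cancel₀ _ (Nat.cast_ne_zero.mpr (by omega))]
  have hz2 : z * (D : ℤ) = -1 := by exact_mod_cast hz'
  have : (D : ℤ) ∣ 1 := ⟨-z, by linear_combination hz2⟩
  have := Int.le_of_dvd one_pos this
  omega

end Cfsg.Agent.Char.PSLSquare
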