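import Mathlib
import Cfsg.Prelude.Def_Classical
import Cfsg.Prelude.Def_LocalEven
import Cfsg.Prelude.Def_PLocal
import Cfsg.Agent.Lib.Fusion.QdSection
import Cfsg.Agent.Lib.Fusion.QdNoControl

/-!
`Qd(p)` is not involved in `PSU₃(q)` in characteristic `p`.
-/

set_option autoImplicit false

namespace Cfsg.Agent.Char.PSUQd

open Matrix
open Cfsg.Agent.Fusion (affMat affMat_mul affMat_mem_qd qd_elim)

variable {K : Type*} [Field K] [Fintype K] {p n : ℕ} [hp : Fact p.Prime] [CharP K p]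

local notation "V3" => Fin 3 → K

/-- the hermitian form -/
abbrev h (n p : ℕ) (u v : V3) : K := Cfsg.hermForm 3 K (p ^ n) u v

omit [Fintype K] in
theorem h_add_left (u u' v : V3) : h n p (u + u') v = h n p u v + h n p u' v := by
  simp [h, Cfsg.hermForm, add_mul, Finset.sum_add_distrib]

omit [Fintype K] in
theorem h_smul_left (c : K) (u v : V3) : h n p (c • u) v = c * h n p u v := by
  simp [h, Cfsg.hermForm, Finset.mul_sum, mul_assoc]

omit [Fintype K] in
theorem h_add_right (u v v' : V3) : h n p u (v + v') = h n p u v + h n p u v' := by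
  simp [h, Cfsg.hermForm, add_pow_char_pow, mul_add, Finset.sum_add_distrib]

omit [Fintype K] in
theorem h_smul_right (c : K) (u v : V3) : h n p u (c • v) = c ^ p ^ n * h n p u v := by
  simp [h, Cfsg.hermForm, Finset.mul_sum, mul_pow, mul_comm, mul_left_comm]

omit [Fintype K] in
theorem h_zero_left (v : V3) : h n p 0 v = 0 := by simp [h, Cfsg.hermForm]

omit [Fintype K] in
theorem h_sub_left (u u' v : V3) : h n p (u - u') v = h n p u v - h n p u' v := by
  simp [h, Cfsg.hermForm, sub_mul, Finset.sum_sub_distrib]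

variable (hK : Fintype.card K = (p ^ n) ^ 2)

include hK in
theorem frob_sq (a : K) : (a ^ p ^ n) ^ p ^ n = a := by
  rw [← pow_mul, ← sq, ← hK]; exact FiniteField.pow_card a

include hK in
theorem h_symm (u v : V3) : h n p u v ^ p ^ n = h n p v u := by
  simp only [h, Cfsg.hermForm]
  rw [sum_pow_char_pow]
  refine Finset.sum_congr rfl fun i _ => ?_
  rw [mul_pow, frob_sq hK]; ring

omit [Fintype K] in
theorem h_single (u v : V3) (i : Fin 3) : h n p (Pi.single i 1) v = v i ^ p ^ n := by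
  simp [h, Cfsg.hermForm, Fin.sum_univ_three]
  fin_cases i <;> simp

include hK in
theorem eq_zero_of_h {v : V3} (hv : ∀ u, h n p u v = 0) : v = 0 := by
  funext i
  have := hv (Pi.single i 1)
  rw [h_single v v i] at this
  exact (pow_eq_zero_iff (pow_ne_zero _ hp.out.ne_zero)).1 this

/-- the two functionals -/
def pairMap (n p : ℕ) [Fact p.Prime] [CharP K p] (l m : V3) : V3 →ₗ[K] K × K where
  toFun v := (h n p v l, h n p v m)
  map_add' u v := by simp [h_add_left]
  map_smul' c v := by simp [h_smul_left]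

include hK in
/-- two orthogonal isotropic vectors are dependent -/
theorem iso_dep {l m : V3} (hl : l ≠ 0) (hll : h n p l l = 0) (hmm : h n p m m = 0) (hlm : h n p l m = 0) :
    ∃ c : K, m = c • l := by
  classical
  have hml : h n p m l = 0 := by rw [← h_symm hK l m, hlm, zero_pow (pow_ne_zero _ hp.out.ne_zero)]
  by_contra hne
  push Not at hne
  have hind : LinearIndependent K ![l, m] := by
    rw [LinearIndependent.pair_iff' hl]
    exact fun a e => hne a e.symm
  set S := Submodule.span K (Set.range ![l, m])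
  have hS : Module.finrank K S = 2 := by
    have := finrank_span_eq_card hind
    simpa using this
  have hSker : S ≤ LinearMap.ker (pairMap n p l m) := by
    refine Submodule.span_le.2 ?_
    rintro _ ⟨i, rfl⟩
    fin_cases i <;> simp [pairMap, hll, hlm, hml, hmm]
  have hsurj : Function.Surjective (pairMap n p l m) := by
    rw [← LinearMap.range_eq_top]
    by_contra hr
    obtain ⟨φ, hφ, hφr⟩ := Submodule.exists_dual_map_eq_bot_of_lt_top (lt_top_iff_ne_top.2 hr) inferInstance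
    have hz : ∀ v, φ (pairMap n p l m v) = 0 := fun v => by
      have : φ (pairMap n p l m v) ∈ (LinearMap.range (pairMap n p l m)).map φ :=
        ⟨_, ⟨v, rfl⟩, rfl⟩
      rwa [hφr, Submodule.mem_bot] at this
    set a := φ (1, 0)
    set b := φ (0, 1)
    have hφe : ∀ x y : K, φ (x, y) = a * x + b * y := fun x y => by
      rw [show ((x, y) : K × K) = x • (1, 0) + y • (0, 1) by simp, map_add, map_smul, map_smul, smul_eq_mul,
        smul_eq_mul]; ring
    have hw : a ^ p ^ n • l + b ^ p ^ n • m = 0 := eq_zero_of_h hK fun u => by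
      rw [h_add_right, h_smul_right, h_smul_right, frob_sq hK, frob_sq hK, ← hφe]
      exact hz u
    have hab := LinearIndependent.pair_iff.1 hind _ _ hw
    refine hφ (LinearMap.ext fun ⟨x, y⟩ => ?_)
    have hpn : p ^ n ≠ 0 := pow_ne_zero _ hp.out.ne_zero
    rw [hφe, (pow_eq_zero_iff hpn).1 hab.1, (pow_eq_zero_iff hpn).1 hab.2]; simp
  have h3 := LinearMap.finrank_range_add_finrank_ker (pairMap n p l m)
  rw [LinearMap.range_eq_top.2 hsurj, finrank_top] at h3
  have := Submodule.finrank_mono hSker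
  rw [hS] at this
  simp at h3
  omega

/-- the matrix of an element -/
def mat (x : Cfsg.SU 3 K (p ^ n)) : Matrix (Fin 3) (Fin 3) K := x.1.1

theorem mat_mul (x y : Cfsg.SU 3 K (p ^ n)) : mat (x * y) = mat x * mat y := rfl

theorem mat_one : mat (1 : Cfsg.SU 3 K (p ^ n)) = 1 := rfl

theorem mat_pow (x : Cfsg.SU 3 K (p ^ n)) (k : ℕ) : mat (x ^ k) = mat x ^ k := by
  induction k with
  | zero => rfl
  | succ k ih => rw [pow_succ, mat_mul, ih, pow_succ]

theorem mat_inj : Function.Injective (mat : Cfsg.SU 3 K (p ^ n) → Matrix (Fin 3) (Fin 3) K) :=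
  fun _ _ e => Subtype.ext (Subtype.ext e)

theorem preserves (x : Cfsg.SU 3 K (p ^ n)) (u v : V3) : h n p (mat x *ᵥ u) (mat x *ᵥ v) = h n p u v := x.2 u v

theorem cancel (x : Cfsg.SU 3 K (p ^ n)) (v : V3) : mat x⁻¹ *ᵥ (mat x *ᵥ v) = v := by
  rw [Matrix.mulVec_mulVec, ← mat_mul, inv_mul_cancel, mat_one, Matrix.one_mulVec]

/-- The fixed vectors orthogonal to all fixed vectors. -/
def radFix (x : Cfsg.SU 3 K (p ^ n)) (w : V3) : Prop :=
  mat x *ᵥ w = w ∧ ∀ u, mat x *ᵥ u = u → h n p u w = 0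

include hK in
theorem radFix_dep (x : Cfsg.SU 3 K (p ^ n)) {l m : V3} (hl0 : l ≠ 0) (hl : radFix x l) (hm : radFix x m) :
    ∃ c : K, m = c • l :=
  iso_dep hK hl0 (hl.2 l hl.1) (hm.2 m hm.1) (hm.2 l hl.1)

include hK in
theorem radFix_exists (x : Cfsg.SU 3 K (p ^ n)) (hx1 : x ≠ 1) {k : ℕ} (hxk : x ^ p ^ k = 1) :
    ∃ w : V3, w ≠ 0 ∧ radFix x w := by
  classical
  set N := mat x - 1 with hN
  have hnil : N ^ p ^ k = 0 := by
    rw [hN, sub_pow_char_pow_of_commute _ _ (Commute.one_right _), one_pow, ← mat_pow, hxk, mat_one, sub_self]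
  have hex : ∃ j, N ^ j = 0 := ⟨_, hnil⟩
  set j := Nat.find hex
  have hj : N ^ j = 0 := Nat.find_spec hex
  have hj2 : 2 ≤ j := by
    by_contra hlt
    have : N ^ 1 = 0 := pow_eq_zero_of_le (by omega) hj
    rw [pow_one, hN, sub_eq_zero] at this
    exact hx1 (mat_inj (this.trans mat_one.symm))
  have hne : N ^ (j - 1) ≠ 0 := Nat.find_min hex (by omega)
  obtain ⟨v, hv⟩ : ∃ v : V3, N ^ (j - 1) *ᵥ v ≠ 0 := by
    by_contra hall
    push Not at hall
    refine hne (Matrix.ext_of_mulVec_single fun i => ?_)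
    rw [hall, Matrix.zero_mulVec]
  set w := N ^ (j - 1) *ᵥ v with hw
  have hfix : ∀ u : V3, mat x *ᵥ u = u ↔ N *ᵥ u = 0 := fun u => by
    rw [hN, Matrix.sub_mulVec, Matrix.one_mulVec, sub_eq_zero]
  refine ⟨w, hv, (hfix w).2 ?_, fun u hu => ?_⟩
  · rw [hw, Matrix.mulVec_mulVec, ← pow_succ', show j - 1 + 1 = j by omega, hj, Matrix.zero_mulVec]
  · obtain ⟨v', hv'⟩ : ∃ v', w = mat x *ᵥ v' - v' := ⟨N ^ (j - 2) *ᵥ v, by
      rw [hw, show j - 1 = (j - 2) + 1 by omega, pow_succ', ← Matrix.mulVec_mulVec, hN, Matrix.sub_mulVec,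
        Matrix.one_mulVec]⟩
    have hz : h n p w u = 0 := by
      rw [hv', h_sub_left]
      conv_lhs => arg 1; rw [← hu]
      rw [preserves, sub_self]
    rw [← h_symm hK w u, hz, zero_pow (pow_ne_zero _ hp.out.ne_zero)]

include hK in
theorem radFix_conj (x g : Cfsg.SU 3 K (p ^ n)) {w : V3} (hw : radFix x w) :
    radFix (g * x * g⁻¹) (mat g *ᵥ w) := by
  refine ⟨?_, fun u hu => ?_⟩
  · rw [mat_mul, mat_mul, ← Matrix.mulVec_mulVec, ← Matrix.mulVec_mulVec, cancel, hw.1]
  · have hu' : mat x *ᵥ (mat g⁻¹ *ᵥ u) = mat g⁻¹ *ᵥ u := by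
      conv_rhs => rw [← hu]
      rw [mat_mul, mat_mul, ← Matrix.mulVec_mulVec, ← Matrix.mulVec_mulVec, cancel]
    have := hw.2 _ hu'
    have e : mat g *ᵥ (mat g⁻¹ *ᵥ u) = u := by
      rw [Matrix.mulVec_mulVec, ← mat_mul, mul_inv_cancel, mat_one, Matrix.one_mulVec]
    rw [← e, preserves]; exact this

/-- stabiliser of a line -/
def lineStab (n p : ℕ) [Fact p.Prime] [CharP K p] (l : V3) : Subgroup (Cfsg.SU 3 K (p ^ n)) where
  carrier := {x | ∃ c : K, c ≠ 0 ∧ mat x *ᵥ l = c • l}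
  one_mem' := ⟨1, one_ne_zero, by rw [mat_one, Matrix.one_mulVec, one_smul]⟩
  mul_mem' := by
    rintro x y ⟨c, hc, hx⟩ ⟨d, hd, hy⟩
    exact ⟨d * c, mul_ne_zero hd hc, by rw [mat_mul, ← Matrix.mulVec_mulVec, hy, Matrix.mulVec_smul, hx, smul_smul]⟩
  inv_mem' := by
    rintro x ⟨c, hc, hx⟩
    refine ⟨c⁻¹, inv_ne_zero hc, ?_⟩
    have := congrArg (mat x⁻¹ *ᵥ ·) hx
    simp only [cancel, Matrix.mulVec_smul] at this
    rw [eq_inv_smul_iff₀ hc]
    exact this.symm

/-- the functional `v ↦ h v l` -/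
def lmap (n p : ℕ) [Fact p.Prime] [CharP K p] (l : V3) : V3 →ₗ[K] K where
  toFun v := h n p v l
  map_add' u v := h_add_left u v l
  map_smul' c v := h_smul_left c v l

include hK in
/-- In a line stabiliser the `p`-elements form a subgroup. -/
theorem unipotent_subgroup {l : V3} (hl : l ≠ 0) (hll : h n p l l = 0) :
    ∃ U : Subgroup (Cfsg.SU 3 K (p ^ n)), IsPGroup p U ∧
      (∀ g ∈ lineStab n p l, ∀ x ∈ U, g * x * g⁻¹ ∈ U) ∧
      (∀ x ∈ lineStab n p l, ∀ k : ℕ, x ^ p ^ k = 1 → x ∈ U) ∧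
      (∀ x ∈ U, x ≠ 1 → radFix x l) := by
  classical
  set W := LinearMap.ker (lmap n p l) with hW
  have hWmem : ∀ v, v ∈ W ↔ h n p v l = 0 := fun v => LinearMap.mem_ker
  obtain ⟨z, hz⟩ : ∃ z, h n p z l ≠ 0 := by
    by_contra hall
    push Not at hall
    exact hl (eq_zero_of_h hK hall)
  have hW2 : Module.finrank K W = 2 := by
    have h3 := LinearMap.finrank_range_add_finrank_ker (lmap n p l)
    have hsurj : Function.Surjective (lmap n p l) := fun c => ⟨(c * (h n p z l)⁻¹) • z, by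
      show h n p _ l = c
      rw [h_smul_left, inv_mul_cancel_right₀ hz]⟩
    rw [LinearMap.range_eq_top.2 hsurj, finrank_top, Module.finrank_self, Module.finrank_fin_fun, ← hW] at h3
    omega
  obtain ⟨m, hmW, hml⟩ : ∃ m ∈ W, ∀ c : K, m ≠ c • l := by
    by_contra hall
    push Not at hall
    have hle : W ≤ Submodule.span K {l} := fun v hv => by
      obtain ⟨c, rfl⟩ := hall v hv
      exact Submodule.mem_span_singleton.2 ⟨c, rfl⟩
    have := Submodule.finrank_mono hle
    rw [finrank_span_singleton hl, hW2] at this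
    omega
  have hbasis : ∀ v ∈ W, ∃ a b : K, v = a • l + b • m := by
    intro v hv
    have hind : LinearIndependent K ![l, m] := by
      rw [LinearIndependent.pair_iff' hl]; exact fun a e => hml a e.symm
    have hle : Submodule.span K (Set.range ![l, m]) ≤ W := Submodule.span_le.2 (by
      rintro _ ⟨i, rfl⟩; fin_cases i
      · exact (hWmem _).2 hll
      · exact hmW)
    have heq := Submodule.eq_of_le_of_finrank_le hle (by rw [hW2, finrank_span_eq_card hind]; simp)
    rw [← heq, Matrix.range_cons, Matrix.range_cons, Matrix.range_empty, Set.union_empty,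
      Set.singleton_union, Submodule.mem_span_pair] at hv
    obtain ⟨a, b, e⟩ := hv
    exact ⟨a, b, e.symm⟩
  have hc : ∀ x : lineStab n p l, ∃ c : K, c ≠ 0 ∧ mat x.1 *ᵥ l = c • l := fun x => x.2
  choose χ hχ0 hχ using hc
  have hWinv : ∀ x : lineStab n p l, ∀ v ∈ W, mat x.1 *ᵥ v ∈ W := by
    intro x v hv
    rw [hWmem] at hv ⊢
    have := preserves x.1 v l
    rw [hχ, h_smul_right, hv, mul_eq_zero] at this
    exact this.resolve_left (pow_ne_zero _ (hχ0 x))
  have hd : ∀ x : lineStab n p l, ∃ ab : K × K, mat x.1 *ᵥ m = ab.1 • l + ab.2 • m := fun x => by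
    obtain ⟨a, b, e⟩ := hbasis _ (hWinv x m hmW); exact ⟨(a, b), e⟩
  choose δ hδ using hd
  have huniq : ∀ a b a' b' : K, a • l + b • m = a' • l + b' • m → a = a' ∧ b = b' := by
    intro a b a' b' e
    by_cases hb : b = b'
    · subst hb
      exact ⟨smul_left_injective K hl (add_right_cancel e), rfl⟩
    · exfalso
      refine hml ((b - b')⁻¹ * (a' - a)) ?_
      rw [← smul_smul, eq_inv_smul_iff₀ (sub_ne_zero.2 hb), sub_smul, sub_smul]
      linear_combination (norm := module) e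
  have hδmul : ∀ x y : lineStab n p l, (δ (x * y)).2 = (δ x).2 * (δ y).2 := fun x y => by
    have e : mat (x * y).1 *ᵥ m = ((δ y).1 * χ x + (δ y).2 * (δ x).1) • l + ((δ y).2 * (δ x).2) • m := by
      rw [Subgroup.coe_mul, mat_mul, ← Matrix.mulVec_mulVec, hδ, Matrix.mulVec_add, Matrix.mulVec_smul,
        Matrix.mulVec_smul, hχ, hδ]
      module
    rw [hδ] at e
    rw [(huniq _ _ _ _ e).2, mul_comm]
  have hχmul : ∀ x y : lineStab n p l, χ (x * y) = χ x * χ y := fun x y => by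
    refine smul_left_injective K hl ?_
    show χ (x * y) • l = (χ x * χ y) • l
    rw [← hχ, Subgroup.coe_mul, mat_mul, ← Matrix.mulVec_mulVec, hχ, Matrix.mulVec_smul, hχ, smul_smul, mul_comm]
  have hδ1 : (δ 1).2 = 1 := by
    have e : mat ((1 : lineStab n p l) : Cfsg.SU 3 K (p ^ n)) *ᵥ m = (0 : K) • l + (1 : K) • m := by
      rw [Subgroup.coe_one, mat_one, Matrix.one_mulVec, zero_smul, one_smul, zero_add]
    rw [hδ] at e
    exact (huniq _ _ _ _ e).2
  have hχ1 : χ 1 = 1 := mul_left_cancel₀ (hχ0 1) (by rw [← hχmul, one_mul, mul_one])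
  let Φ : lineStab n p l →* K × K :=
    { toFun := fun x => (χ x, (δ x).2)
      map_one' := Prod.ext hχ1 hδ1
      map_mul' := fun x y => Prod.ext (hχmul x y) (hδmul x y) }
  have hpel : ∀ (x : lineStab n p l) (k : ℕ), x ^ p ^ k = 1 → Φ x = 1 := fun x k hk => by
    have e : ∀ a : K, a ^ p ^ k = 1 → a = 1 := fun a ha => by
      have : (a - 1) ^ p ^ k = 0 := by rw [sub_pow_char_pow, one_pow, ha, sub_self]
      exact sub_eq_zero.1 ((pow_eq_zero_iff (pow_ne_zero _ hp.out.ne_zero)).1 this)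
    have := congrArg Φ hk
    rw [map_pow, map_one] at this
    exact Prod.ext (e _ (congrArg Prod.fst this)) (e _ (congrArg Prod.snd this))
  have hker : ∀ (x : lineStab n p l), Φ x = 1 → mat x.1 *ᵥ l = l ∧ (∀ v ∈ W, ∃ b : K, mat x.1 *ᵥ v - v = b • l) ∧
      ∀ v : V3, mat x.1 *ᵥ v - v ∈ W := by
    intro x hx
    have h1 : χ x = 1 := congrArg Prod.fst hx
    have h2 : (δ x).2 = 1 := congrArg Prod.snd hx
    refine ⟨by rw [hχ, h1, one_smul], fun v hv => ?_, fun v => ?_⟩
    · obtain ⟨a, b, rfl⟩ := hbasis v hv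
      refine ⟨b * (δ x).1, ?_⟩
      rw [Matrix.mulVec_add, Matrix.mulVec_smul, Matrix.mulVec_smul, hχ, hδ, h1, h2]
      module
    · rw [hWmem, h_sub_left]
      have := preserves x.1 v l
      rw [hχ, h1, one_smul] at this
      rw [this, sub_self]
  clear_value Φ
  refine ⟨Φ.ker.map (lineStab n p l).subtype, ?_, ?_, ?_, ?_⟩
  · rintro ⟨_, x, hx, rfl⟩
    refine ⟨2, Subtype.ext (mat_inj ?_)⟩
    show mat (x.1 ^ p ^ 2) = mat 1
    obtain ⟨h1, h2, h3⟩ := hker x (MonoidHom.mem_ker.1 hx)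
    set N := mat x.1 - 1 with hN
    have hN3 : N ^ 3 = 0 := by
      refine Matrix.ext_of_mulVec_single fun i => ?_
      rw [Matrix.zero_mulVec, pow_succ, pow_two, ← Matrix.mulVec_mulVec, ← Matrix.mulVec_mulVec]
      have e : ∀ u : V3, N *ᵥ u = mat x.1 *ᵥ u - u := fun u => by rw [hN, Matrix.sub_mulVec, Matrix.one_mulVec]
      obtain ⟨b, hb⟩ := h2 _ (h3 (Pi.single i 1))
      rw [e (Pi.single i 1), e (mat x.1 *ᵥ Pi.single i 1 - Pi.single i 1), hb, Matrix.mulVec_smul, e l, h1, sub_self,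
        smul_zero]
    have h3le : 3 ≤ p ^ 2 := by
      have := hp.out.two_le
      have : 2 * 2 ≤ p ^ 2 := by rw [sq]; exact Nat.mul_le_mul this this
      omega
    have h0 := pow_eq_zero_of_le h3le hN3
    rw [hN, sub_pow_char_pow_of_commute _ _ (Commute.one_right _), one_pow, sub_eq_zero] at h0
    rw [mat_pow, h0, mat_one]
  · rintro g hg _ ⟨x, hx, rfl⟩
    have h' := Subgroup.mem_map_of_mem (lineStab n p l).subtype ((MonoidHom.normal_ker Φ).conj_mem x hx ⟨g, hg⟩)
    rw [map_mul, map_mul, map_inv] at h'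
    exact h'
  · intro x hx k hk
    exact ⟨⟨x, hx⟩, hpel ⟨x, hx⟩ k (Subtype.ext hk), rfl⟩
  · rintro _ ⟨x, hx, rfl⟩ hx1
    obtain ⟨h1, h2, h3⟩ := hker x (MonoidHom.mem_ker.1 hx)
    refine ⟨h1, fun w hw => ?_⟩
    by_contra hwl
    apply hx1
    have hWfix : ∀ v ∈ W, mat x.1 *ᵥ v = v := by
      intro v hv
      obtain ⟨b, hb⟩ := h2 v hv
      have hlw : h n p l w ≠ 0 := fun e => hwl (by
        rw [← h_symm hK l w, e, zero_pow (pow_ne_zero _ hp.out.ne_zero)])
      have := preserves x.1 v w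
      rw [show mat x.1 *ᵥ v = v + b • l by rw [← hb]; abel, show mat x.1 *ᵥ w = w from hw, h_add_left,
        h_smul_left, add_eq_left, mul_eq_zero] at this
      rw [this.resolve_right hlw, zero_smul, sub_eq_zero] at hb
      exact hb
    refine mat_inj (Matrix.ext_of_mulVec_single fun i => ?_)
    show mat x.1 *ᵥ _ = _
    rw [mat_one, Matrix.one_mulVec]
    set v : V3 := Pi.single i 1
    set c := h n p v l * (h n p w l)⁻¹
    have hv : v - c • w ∈ W := by
      rw [hWmem, h_sub_left, h_smul_left, inv_mul_cancel_right₀ hwl, sub_self]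
    have := hWfix _ hv
    rw [Matrix.mulVec_sub, Matrix.mulVec_smul, show mat x.1 *ᵥ w = w from hw] at this
    exact sub_left_inj.1 this

/-- translations and linear parts in `Qd(p)` -/
def qel (p : ℕ) (R : Matrix.SpecialLinearGroup (Fin 2) (ZMod p)) (v : Fin 2 → ZMod p) : ↥(Cfsg.qd p) :=
  ⟨affMat p R v, affMat_mem_qd p R v⟩

theorem qel_mul (R S : Matrix.SpecialLinearGroup (Fin 2) (ZMod p)) (v w : Fin 2 → ZMod p) :
    qel p R v * qel p S w = qel p (R * S) (R.1 *ᵥ w + v) := Subtype.ext (affMat_mul p R S v w)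

theorem qel_inj {R S : Matrix.SpecialLinearGroup (Fin 2) (ZMod p)} {v w : Fin 2 → ZMod p}
    (e : qel p R v = qel p S w) : R = S ∧ v = w := by
  have e' : (affMat p R v).1 = (affMat p S w).1 := congrArg Subtype.val (congrArg Subtype.val e)
  refine ⟨Subtype.ext (Matrix.ext fun i j => ?_), funext fun i => ?_⟩
  · fin_cases i <;> fin_cases j
    · simpa [affMat] using congrFun (congrFun e' 0) 0
    · simpa [affMat] using congrFun (congrFun e' 0) 1
    · simpa [affMat] using congrFun (congrFun e' 1) 0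
    · simpa [affMat] using congrFun (congrFun e' 1) 1
  · fin_cases i
    · simpa [affMat] using congrFun (congrFun e' 0) 2
    · simpa [affMat] using congrFun (congrFun e' 1) 2

theorem qel_one : qel p 1 0 = 1 := by
  have h := qel_mul (p := p) 1 1 0 0
  rw [mul_one, Matrix.mulVec_zero, add_zero] at h
  exact mul_eq_left.1 h

theorem qel_pow (R : Matrix.SpecialLinearGroup (Fin 2) (ZMod p)) (k : ℕ) : qel p R 0 ^ k = qel p (R ^ k) 0 := by
  induction k with
  | zero => rw [pow_zero, pow_zero, qel_one]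
  | succ k ih => rw [pow_succ, ih, qel_mul, pow_succ, Matrix.mulVec_zero, add_zero]

/-- The `p`-elements of `Qd(p)` do not form a subgroup. -/
theorem qd_no_subgroup (hp2 : p ≠ 2) (Q : Subgroup ↥(Cfsg.qd p)) (hQ : IsPGroup p Q)
    (hall : ∀ x : ↥(Cfsg.qd p), ∀ k : ℕ, x ^ p ^ k = 1 → x ∈ Q) : False := by
  classical
  let A : Matrix.SpecialLinearGroup (Fin 2) (ZMod p) := ⟨!![1, 1; 0, 1], by simp [Matrix.det_fin_two]⟩
  let B : Matrix.SpecialLinearGroup (Fin 2) (ZMod p) := ⟨!![1, 0; 1, 1], by simp [Matrix.det_fin_two]⟩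
  have hpow : ∀ R : Matrix.SpecialLinearGroup (Fin 2) (ZMod p), (R.1 - 1) ^ 2 = 0 → R ^ p = 1 := fun R hR => by
    refine Subtype.ext ?_
    have := pow_eq_zero_of_le hp.out.two_le hR
    rw [sub_pow_char_of_commute _ (Commute.one_right _), one_pow, sub_eq_zero] at this
    simpa using this
  have hA : qel p A 0 ∈ Q := hall _ 1 (by
    rw [pow_one, qel_pow, hpow A (by ext i j; fin_cases i <;> fin_cases j <;> simp [A, sq, Matrix.mul_apply, Fin.sum_univ_two]),
      qel_one])
  have hB : qel p B 0 ∈ Q := hall _ 1 (by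
    rw [pow_one, qel_pow, hpow B (by ext i j; fin_cases i <;> fin_cases j <;> simp [B, sq, Matrix.mul_apply, Fin.sum_univ_two]),
      qel_one])
  obtain ⟨k, hk⟩ := hQ ⟨_, Q.mul_mem hA hB⟩
  have hk' : (qel p A 0 * qel p B 0) ^ p ^ k = 1 := congrArg Subtype.val hk
  rw [qel_mul, Matrix.mulVec_zero, add_zero, qel_pow, ← qel_one] at hk'
  have hM : ((A * B).1) ^ p ^ k = 1 := by
    have := congrArg Subtype.val (qel_inj hk').1
    simpa using this
  have hN : ((A * B).1 - 1) ^ p ^ k = 0 := by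
    rw [sub_pow_char_pow_of_commute _ _ (Commute.one_right _), one_pow, hM, sub_self]
  have hdet := congrArg Matrix.det hN
  rw [Matrix.det_pow, Matrix.det_zero, pow_eq_zero_iff (pow_ne_zero _ hp.out.ne_zero)] at hdet
  have hAB : (A * B).1 = !![(2 : ZMod p), 1; 1, 1] := by
    show A.1 * B.1 = _
    ext i j
    fin_cases i <;> fin_cases j <;> simp [A, B, Matrix.mul_apply, Fin.sum_univ_two]
    norm_num
  rw [hAB] at hdet
  simp [Matrix.det_fin_two] at hdet

/-- The statement for a section of `SU₃`. -/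
theorem no_qd (hp2 : p ≠ 2) {hK : Fintype.card K = (p ^ n) ^ 2} (H : Subgroup (Cfsg.SU 3 K (p ^ n)))
    (f : H →* ↥(Cfsg.qd p)) (hf : Function.Surjective f) : False := by
  classical
  let τ : Multiplicative (Fin 2 → ZMod p) →* ↥(Cfsg.qd p) :=
    MonoidHom.mk' (fun v => qel p 1 v.toAdd) (fun a b => by
      rw [qel_mul, mul_one, toAdd_mul, add_comm]
      congr 1
      simp [add_comm])
  haveI hTn : τ.range.Normal := ⟨fun t ht g => by
    obtain ⟨v, rfl⟩ := ht
    obtain ⟨R, u, e⟩ := qd_elim g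
    refine ⟨Multiplicative.ofAdd (R.1 *ᵥ v.toAdd), ?_⟩
    have hg : g = qel p R u := Subtype.ext e.symm
    rw [eq_mul_inv_iff_mul_eq, hg]
    show qel p 1 (R.1 *ᵥ v.toAdd) * qel p R u = qel p R u * qel p 1 v.toAdd
    rw [qel_mul, qel_mul, one_mul, mul_one]
    congr 1
    simp [add_comm]⟩
  set T := τ.range.comap f with hT
  obtain ⟨P⟩ : Nonempty (Sylow p T) := inferInstance
  set P' : Subgroup H := (P : Subgroup T).map T.subtype
  -- `P` is not trivial
  obtain ⟨v, hv⟩ : ∃ v : Multiplicative (Fin 2 → ZMod p), τ v ≠ 1 := ⟨Multiplicative.ofAdd ![1, 0], fun e => by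
    have := congrFun (qel_inj (e.trans qel_one.symm)).2 0
    simp at this⟩
  have hPne : ∃ z : T, z ∈ (P : Subgroup T) ∧ z ≠ 1 := by
    by_contra hall
    push Not at hall
    have hbot : (P : Subgroup T) = ⊥ := (Subgroup.eq_bot_iff_forall _).2 hall
    have hcard : ¬ p ∣ Nat.card T := by
      have := P.not_dvd_index
      rwa [hbot, Subgroup.index_bot] at this
    obtain ⟨x, hx⟩ := hf (τ v)
    have hxT : x ∈ T := show f x ∈ τ.range from hx ▸ ⟨v, rfl⟩
    have h1 : orderOf (τ v) ∣ Nat.card T := by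
      rw [← hx]
      refine (orderOf_map_dvd f x).trans ?_
      exact Subgroup.orderOf_dvd_natCard _ hxT
    have h2 : orderOf (τ v) = p := by
      refine orderOf_eq_prime ?_ hv
      rw [← map_pow, show v ^ p = 1 from Multiplicative.toAdd.injective (by
        rw [toAdd_pow, toAdd_one]; funext i; simp)]
      exact map_one τ
    exact hcard (dvd_trans (dvd_of_eq h2.symm) h1)
  -- a common line
  haveI : Nontrivial ↥(P : Subgroup T) := by
    obtain ⟨z, hz, hz1⟩ := hPne
    exact ⟨⟨⟨z, hz⟩, 1, fun e => hz1 (congrArg Subtype.val e)⟩⟩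
  haveI := P.2.center_nontrivial
  obtain ⟨z, hz1⟩ := exists_ne (1 : Subgroup.center ↥(P : Subgroup T))
  set zz : Cfsg.SU 3 K (p ^ n) := ((z.1.1 : T) : H).1 with hzz
  have hzz1 : zz ≠ 1 := fun e => hz1 (Subtype.ext (Subtype.ext (Subtype.ext (Subtype.ext e))))
  obtain ⟨kz, hkz⟩ := P.2 z.1
  have hzk : zz ^ p ^ kz = 1 := congrArg (fun w : ↥(P : Subgroup T) => ((w.1 : H) : Cfsg.SU 3 K (p ^ n))) hkz
  obtain ⟨l, hl0, hl⟩ := radFix_exists hK zz hzz1 hzk
  obtain ⟨U, hU, hUn, hUall, hUrad⟩ := unipotent_subgroup hK hl0 (hl.2 l hl.1)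
  have hstab : ∀ g : Cfsg.SU 3 K (p ^ n), radFix zz (mat g *ᵥ l) → g ∈ lineStab n p l := by
    intro g hg
    obtain ⟨c, hc⟩ := radFix_dep hK zz hl0 hl hg
    refine ⟨c, fun h0 => ?_, hc⟩
    rw [h0, zero_smul] at hc
    exact hl0 (by rw [← cancel g l, hc, Matrix.mulVec_zero])
  have hPU : ∀ x ∈ P', (x.1 : Cfsg.SU 3 K (p ^ n)) ∈ U := by
    rintro _ ⟨x, hx, rfl⟩
    obtain ⟨k, hk⟩ := P.2 ⟨x, hx⟩
    refine hUall _ (hstab _ ?_) k (congrArg (fun w : ↥(P : Subgroup T) => ((w.1 : H) : Cfsg.SU 3 K (p ^ n))) hk)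
    have hc := Subgroup.mem_center_iff.1 z.2 ⟨x, hx⟩
    have hcomm : (x : H).1 * zz * (x : H).1⁻¹ = zz := by
      rw [mul_inv_eq_iff_eq_mul]
      exact congrArg (fun w : ↥(P : Subgroup T) => ((w.1 : H) : Cfsg.SU 3 K (p ^ n))) hc
    have := radFix_conj hK zz (x : H).1 hl
    rwa [hcomm] at this
  -- the normaliser stabilises the line
  haveI : T.Normal := inferInstance
  have htop : Subgroup.normalizer (P' : Set H) ⊔ T = ⊤ := Sylow.normalizer_sup_eq_top P
  have hN : ∀ g ∈ Subgroup.normalizer (P' : Set H), (g.1 : Cfsg.SU 3 K (p ^ n)) ∈ lineStab n p l := by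
    intro g hg
    refine hstab _ ?_
    have hzP : ((z.1.1 : T) : H) ∈ P' := ⟨z.1.1, z.1.2, rfl⟩
    set y : H := g⁻¹ * ((z.1.1 : T) : H) * g with hy
    have hyP : y ∈ P' := by
      have h' := (Subgroup.mem_normalizer_iff.1 ((Subgroup.normalizer (P' : Set H)).inv_mem hg) _).1 hzP
      rwa [inv_inv] at h'
    have hy1 : y.1 ≠ 1 := by
      intro e
      have e' : y = 1 := Subtype.ext e
      refine hzz1 ?_
      have : ((z.1.1 : T) : H) = g * y * g⁻¹ := by rw [hy]; group
      rw [hzz, this, e', mul_one, mul_inv_cancel]; rfl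
    have hrad : radFix y.1 l := hUrad _ (hPU y hyP) hy1
    have := radFix_conj hK y.1 g.1 hrad
    rwa [show g.1 * y.1 * g.1⁻¹ = zz by
      rw [hy, hzz]; simp only [Subgroup.coe_mul, Subgroup.coe_inv]; group] at this
  -- push to the quotient
  let Q : Subgroup ↥(Cfsg.qd p) := ((U.subgroupOf H) ⊓ Subgroup.normalizer (P' : Set H)).map f ⊔ τ.range
  have hTp : IsPGroup p τ.range := fun ⟨_, w, rfl⟩ => ⟨1, Subtype.ext (by
    show τ w ^ p ^ 1 = 1
    rw [pow_one, ← map_pow, show w ^ p = 1 from Multiplicative.toAdd.injective (by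
      rw [toAdd_pow, toAdd_one]; funext i; simp)]
    exact map_one τ)⟩
  have hQ : IsPGroup p Q := by
    refine IsPGroup.to_sup_of_normal_right (IsPGroup.map ?_ f) hTp
    exact (hU.comap_of_injective H.subtype H.subtype_injective).to_le inf_le_left
  refine qd_no_subgroup hp2 Q hQ fun x k hk => ?_
  obtain ⟨g, rfl⟩ := hf x
  have hgtop : g ∈ Subgroup.normalizer (P' : Set H) ⊔ T := htop ▸ Subgroup.mem_top g
  obtain ⟨a, ha, t, ht, rfl⟩ := Subgroup.mem_sup_of_normal_right.1 hgtop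
  rw [map_mul]
  refine Q.mul_mem ?_ (Subgroup.mem_sup_right ht)
  -- the normaliser part is a p-element modulo translations
  obtain ⟨e, m', hm', hord⟩ := Nat.exists_eq_pow_mul_and_not_dvd (orderOf_pos a).ne' p hp.out.ne_one
  have hfak : f a ^ p ^ k ∈ τ.range := by
    have h1 : QuotientGroup.mk' τ.range (f (a * t) ^ p ^ k) = 1 := by rw [hk, map_one]
    rw [map_pow, map_mul, map_mul, show QuotientGroup.mk' τ.range (f t) = 1 from (QuotientGroup.eq_one_iff _).2 ht,
      mul_one, ← map_pow] at h1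
    exact (QuotientGroup.eq_one_iff _).1 h1
  obtain ⟨k', hk'⟩ := hTp ⟨_, hfak⟩
  have hfa : f a ^ p ^ (k + k') = 1 := by rw [pow_add, pow_mul]; exact congrArg Subtype.val hk'
  obtain ⟨r, hr, hr'⟩ := (Nat.chineseRemainder (show Nat.Coprime (p ^ (k + k' + e + 1)) m' from
    Nat.Coprime.pow_left _ ((hp.out.coprime_iff_not_dvd).2 hm')) 1 0)
  have hau : a ^ r ∈ U.subgroupOf H := by
    refine hUall _ (hN _ ((Subgroup.normalizer (P' : Set H)).pow_mem ha r)) e ?_
    have hd : orderOf a ∣ r * p ^ e := by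
      rw [hord, mul_comm r]
      exact Nat.mul_dvd_mul_left _ (Nat.modEq_zero_iff_dvd.1 hr')
    have : (a ^ r) ^ p ^ e = 1 := by rw [← pow_mul]; exact orderOf_dvd_iff_pow_eq_one.1 hd
    exact congrArg Subtype.val this
  have hfr : f (a ^ r) = f a := by
    rw [map_pow]
    conv_rhs => rw [← pow_one (f a)]
    refine pow_eq_pow_iff_modEq.2 (Nat.ModEq.of_dvd ?_ hr)
    exact (orderOf_dvd_of_pow_eq_one hfa).trans (pow_dvd_pow p (by omega))
  rw [← hfr]
  exact Subgroup.mem_sup_left ⟨_, ⟨hau, (Subgroup.normalizer (P' : Set H)).pow_mem ha r⟩, rfl⟩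

/-- The statement. -/
theorem psu_qd_free (hp2 : p ≠ 2) (hK : Fintype.card K = (p ^ n) ^ 2) :
    ¬ Cfsg.Involves ↥(Cfsg.qd p) (Cfsg.PSU 3 K (p ^ n)) := by
  rintro ⟨K', R, hR, ⟨e⟩⟩
  let π := QuotientGroup.mk' (Subgroup.center (Cfsg.SU 3 K (p ^ n)))
  let g : K'.comap π →* K' := (π.comp (K'.comap π).subtype).codRestrict K' fun x => x.2
  have hg : Function.Surjective g := fun ⟨y, hy⟩ => by
    obtain ⟨x, rfl⟩ := QuotientGroup.mk'_surjective _ y
    exact ⟨⟨x, hy⟩, rfl⟩
  exact no_qd hp2 (hK := hK) (K'.comap π) ((e.toMonoidHom.comp (QuotientGroup.mk' _)).comp g)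
    ((e.surjective.comp (QuotientGroup.mk'_surjective _)).comp hg)

end Cfsg.Agent.Char.PSUQd
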