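import Cfsg.Agent.Lib.Char.TaketaBound
import Cfsg.Agent.Lib.Char.DegreesBelowPrime
import Cfsg.Agent.Lib.Solv.HallHigman
import Cfsg.Agent.Lib.Solv.PSolvHall
import Cfsg.Agent.Lib.Fusion.Cores
import Cfsg.Agent.S0887

/-!
# The derived length of a Sylow subgroup is bounded by the number of `p`-singular characters
-/

set_option autoImplicit false
set_option linter.unusedSectionVars false
set_option linter.style.haveILetI false

open scoped ComplexConjugate commutatorElement

namespace Cfsg.Agent.Char.SingCount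

open Cfsg Cfsg.Agent Cfsg.Agent.Char

universe u

variable {p : ℕ} [hp : Fact p.Prime] {G : Type u} [Group G] [Fintype G]

/-- The number of irreducible characters of degree divisible by `p`. -/
noncomputable def csing (p : ℕ) (G : Type u) [Group G] : ℕ :=
  Nat.card {χ : IrrCharacter G // p ∣ deg (χ : G → ℂ)}

/-- The singular characters nontrivial on `N`. -/
noncomputable def cextra (p : ℕ) (N : Subgroup G) : ℕ :=
  Nat.card {χ : IrrCharacter G //
    p ∣ deg (χ : G → ℂ) ∧ ¬ ∀ n ∈ N, (χ : G → ℂ) n = (χ : G → ℂ) 1}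

theorem count_split (N : Subgroup G) [N.Normal] [Fintype (G ⧸ N)] :
    csing p G = csing p (G ⧸ N) + cextra p N := by
  classical
  have h1 : csing p (G ⧸ N) = Nat.card {χ : IrrCharacter G //
      p ∣ deg (χ : G → ℂ) ∧ ∀ n ∈ N, (χ : G → ℂ) n = (χ : G → ℂ) 1} := by
    have hdeg : ∀ ψ : IrrCharacter (G ⧸ N),
        deg ((inflateEquiv N ψ).1 : G → ℂ) = deg (ψ : G ⧸ N → ℂ) := fun ψ =>
      Nat.cast_injective (R := ℂ) (by
        rw [← char_one_eq_deg (irr_isCharacter (inflateEquiv N ψ).1.2),
          ← char_one_eq_deg (irr_isCharacter ψ.2), inflateEquiv_apply, QuotientGroup.mk_one])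
    refine Nat.card_congr
      ((Equiv.subtypeEquiv (q := fun c => p ∣ deg ((c.1 : IrrCharacter G) : G → ℂ)) (inflateEquiv N)
        fun ψ => by rw [hdeg]).trans
      ((Equiv.subtypeSubtypeEquivSubtypeInter _ (fun χ : IrrCharacter G => p ∣ deg (χ : G → ℂ))).trans
        (Equiv.subtypeEquivRight fun χ => and_comm)))
  rw [h1, csing, cextra, Nat.card_eq_fintype_card, Nat.card_eq_fintype_card, Nat.card_eq_fintype_card,
    Fintype.card_subtype, Fintype.card_subtype, Fintype.card_subtype, ← Finset.card_union_of_disjoint]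
  · congr 1
    ext χ
    simp only [Finset.mem_filter, Finset.mem_univ, true_and, Finset.mem_union]
    tauto
  · rw [Finset.disjoint_filter]
    intro χ _ h h'
    exact h'.2 h.2

/-- Characters over characters of different degree of a normal `p`-subgroup. -/
theorem extra_ge (N : Subgroup G) [N.Normal] [Fintype N] (hN : IsPGroup p N) :
    (TaketaBound.degSet N).card ≤ cextra p N + 1 := by
  classical
  set one : IrrCharacter N := ⟨fun _ => 1, isIrrCharacter_one⟩
  have hone : deg (one : N → ℂ) = 1 := Nat.cast_injective (R := ℂ) (by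
    rw [← char_one_eq_deg (irr_isCharacter one.2), Nat.cast_one])
  have hpick : ∀ d : {d // d ∈ (TaketaBound.degSet N).erase 1}, ∃ χ : IrrCharacter G,
      (p ∣ deg (χ : G → ℂ) ∧ ¬ ∀ n ∈ N, (χ : G → ℂ) n = (χ : G → ℂ) 1) ∧
      ∀ θ : IrrCharacter N, classInner (fun n : N => (χ : G → ℂ) n) (θ : N → ℂ) ≠ 0 →
        deg (θ : N → ℂ) = d.1 := by
    rintro ⟨d, hd⟩
    obtain ⟨hd1, hd2⟩ := Finset.mem_erase.mp hd
    obtain ⟨θ, -, hθ⟩ := Finset.mem_image.mp hd2
    obtain ⟨χ, hχ⟩ := exists_constituent_over N θ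
    obtain ⟨k, hk⟩ := IsPGroup.iff_card.mp hN
    obtain ⟨j, -, hj⟩ := (Nat.dvd_prime_pow hp.out).mp (hk ▸ deg_dvd_card θ.2)
    have hj0 : j ≠ 0 := fun h0 => hd1 (by rw [← hθ, hj, h0, pow_zero])
    refine ⟨χ, ⟨?_, fun hall => hd1 ?_⟩, fun θ' hθ' => ?_⟩
    · exact ((dvd_pow_self p hj0).trans (hj ▸ dvd_rfl)).trans
        (Cfsg.Agent.S0887.result N (χ : G → ℂ) χ.2 (θ : N → ℂ) θ.2 hχ _ _
          (char_one_eq_deg (irr_isCharacter χ.2)) (char_one_eq_deg (irr_isCharacter θ.2))).1
    · have h1 : (fun n : N => (χ : G → ℂ) n) = fun n : N => (χ : G → ℂ) 1 * (one : N → ℂ) n :=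
        funext fun n => by rw [hall n n.2]; exact (mul_one _).symm
      rw [h1, classInner, Finset.sum_congr rfl fun n _ => mul_assoc _ _ _, ← Finset.mul_sum,
        mul_left_comm] at hχ
      have h2 : classInner (one : N → ℂ) (θ : N → ℂ) ≠ 0 := (mul_ne_zero_iff.mp hχ).2
      rw [irr_orth one.2 θ.2] at h2
      have h3 : (one : N → ℂ) = (θ : N → ℂ) := by
        by_contra hne
        exact h2 (if_neg hne)
      rw [← hθ, ← h3, hone]
    · obtain ⟨g, rfl⟩ := mem_cliffOrbit.mp (mem_cliffOrbit_of_constituent hχ hθ')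
      show _ = d
      rw [← hθ]
      exact Nat.cast_injective (R := ℂ) (by
        rw [← char_one_eq_deg (irr_isCharacter (irrComp (MulAut.conjNormal g) θ).2),
          ← char_one_eq_deg (irr_isCharacter θ.2), irrComp_apply, map_one])
  choose f hf hfd using hpick
  have hinj : Function.Injective fun d => (⟨f d, hf d⟩ : {χ : IrrCharacter G //
      p ∣ deg (χ : G → ℂ) ∧ ¬ ∀ n ∈ N, (χ : G → ℂ) n = (χ : G → ℂ) 1}) := by
    intro d d' e
    have e' : f d = f d' := congrArg Subtype.val e
    obtain ⟨θ, hθ⟩ := exists_constituent (N := N) (f d)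
    exact Subtype.ext ((hfd d θ hθ).symm.trans (hfd d' θ (e' ▸ hθ)))
  have h := Nat.card_le_card_of_injective _ hinj
  rw [Nat.card_eq_fintype_card, Fintype.card_coe] at h
  have h2 := Finset.pred_card_le_card_erase (s := TaketaBound.degSet N) (a := 1)
  rw [cextra]
  omega

/-- An automorphism of coprime order fixing all irreducible characters centralizes. -/
theorem commute_of_fix_irr (N : Subgroup G) [N.Normal] [Fintype N] {x : G}
    (hco : (orderOf x).Coprime (Nat.card N))
    (hinv : ∀ θ : IrrCharacter N, irrComp (MulAut.conjNormal x) θ = θ) :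
    ∀ n ∈ N, Commute x n := by
  classical
  have hcls : ∀ C : ConjClasses N,
      ConjClasses.map (MulAut.conjNormal x : MulAut N).toMonoidHom C = C := by
    have h1 := card_fixed_irr_eq_card_fixed_classes (MulAut.conjNormal x : MulAut N)
    have h2 := card_fixed_irr_eq_card_fixed_classes (1 : MulAut N)
    have h3 : ∀ C : ConjClasses N, ConjClasses.map (1 : MulAut N).toMonoidHom C = C := fun C => by
      obtain ⟨c, rfl⟩ := C.exists_rep
      rfl
    have h4 : ∀ θ : IrrCharacter N, irrComp (1 : MulAut N) θ = θ := fun θ =>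
      Subtype.ext (funext fun n => by rw [irrComp_apply]; rfl)
    rw [Nat.card_congr (Equiv.subtypeUnivEquiv hinv)] at h1
    rw [Nat.card_congr (Equiv.subtypeUnivEquiv h4), Nat.card_congr (Equiv.subtypeUnivEquiv h3), h1]
      at h2
    intro C
    by_contra hC
    have h5 : Nat.card {C : ConjClasses N //
        ConjClasses.map (MulAut.conjNormal x : MulAut N).toMonoidHom C = C} <
        Nat.card (ConjClasses N) := by
      rw [Nat.card_eq_fintype_card, Nat.card_eq_fintype_card]
      exact Fintype.card_subtype_lt hC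
    exact h5.ne h2
  have htop : (Subgroup.centralizer ({x} : Set G)).subgroupOf N = ⊤ := by
    refine Solv.eq_top_of_forall_conj_mem _ fun n => ?_
    obtain ⟨m, hm, hxm⟩ := exists_fixed_of_fixed_class N x hco n (hcls _)
    obtain ⟨c, hc⟩ := isConj_iff.1 (ConjClasses.mk_eq_mk_iff_isConj.1 hm.symm)
    refine ⟨c, ?_⟩
    rw [hc, Subgroup.mem_subgroupOf, Subgroup.mem_centralizer_singleton_iff]
    exact hxm.symm
  intro n hn
  have h1 : (⟨n, hn⟩ : N) ∈ (Subgroup.centralizer ({x} : Set G)).subgroupOf N := htop ▸ trivial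
  exact (Subgroup.mem_centralizer_singleton_iff.mp (Subgroup.mem_subgroupOf.mp h1)).symm

/-- With trivial `p`-core some singular character is nontrivial on the `p'`-core. -/
theorem extra_pos (hG : IsPSolvable p G) (h0 : pCore p G = ⊥) (hpG : p ∣ Nat.card G) :
    0 < cextra p (pPrimeCore p G) := by
  classical
  haveI := Solv.pPrimeCore_normal (G := G) p
  set K := pPrimeCore p G with hK
  haveI := Fintype.ofFinite K
  by_contra hz
  have hno : ∀ χ : IrrCharacter G, p ∣ deg (χ : G → ℂ) → ∀ n ∈ K, (χ : G → ℂ) n = (χ : G → ℂ) 1 := by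
    intro χ hd
    by_contra hne
    exact hz (Nat.card_pos_iff.mpr ⟨⟨⟨χ, hd, hne⟩⟩, inferInstance⟩)
  have hQs : IsPSolvable p (G ⧸ K) :=
    Solv.isPSolvable_map hp.out hG (QuotientGroup.mk' K) (QuotientGroup.mk'_surjective K)
  have hKp : ¬ p ∣ Nat.card K :=
    hp.out.coprime_iff_not_dvd.mp (Fusion.card_pPrimeCore_coprime p G).symm
  set Rb := pCore p (G ⧸ K) with hRb
  haveI := Solv.pCore_normal (G := G ⧸ K) p
  have hRne : Rb ≠ ⊥ := by
    intro e
    have h1 := Solv.centralizer_pPrimeCore_le hQs e
    rw [show pPrimeCore p (G ⧸ K) = ⊥ from Fusion.pPrimeCore_quotient_eq_bot] at h1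
    have h2 : (⊤ : Subgroup (G ⧸ K)) ≤ ⊥ := fun g _ => h1 (Subgroup.mem_centralizer_iff.mpr
      fun y hy => by
        rw [SetLike.mem_coe, Subgroup.mem_bot] at hy
        rw [hy, one_mul, mul_one])
    have h3 : K = ⊤ := eq_top_iff.mpr fun g _ =>
      (QuotientGroup.eq_one_iff g).mp (Subgroup.mem_bot.mp (h2 (Subgroup.mem_top _)))
    exact hKp (by rw [h3, Subgroup.card_top]; exact hpG)
  set R := Rb.comap (QuotientGroup.mk' K) with hR
  have hpR : p ∣ Nat.card R := by
    have h1 : p ∣ Nat.card Rb := by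
      obtain ⟨a, ha⟩ := IsPGroup.iff_card.mp (Fusion.isPGroup_pCore p (G ⧸ K))
      rw [← hRb] at ha
      have ha0 : a ≠ 0 := fun h => hRne (Subgroup.card_eq_one.mp (by rw [ha, h, pow_zero]))
      exact ha ▸ dvd_pow_self p ha0
    have h2 : R.map (QuotientGroup.mk' K) = Rb :=
      Subgroup.map_comap_eq_self_of_surjective (QuotientGroup.mk'_surjective K) _
    rw [← h2] at h1
    exact h1.trans (Subgroup.card_map_dvd R (QuotientGroup.mk' K))
  obtain ⟨⟨x, hxR⟩, hx⟩ := exists_prime_orderOf_dvd_card' p hpR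
  rw [Subgroup.orderOf_mk] at hx
  have hinv : ∀ θ : IrrCharacter K, irrComp (MulAut.conjNormal x) θ = θ := by
    intro θ
    obtain ⟨χ, hχ⟩ := exists_constituent_over K θ
    by_cases hθ1 : (θ : K → ℂ) = fun _ => 1
    · exact Subtype.ext (funext fun n => by rw [irrComp_apply, hθ1])
    have hnd : ¬ p ∣ deg (χ : G → ℂ) := by
      intro hd
      have hall := hno χ hd
      set one : IrrCharacter K := ⟨fun _ => 1, isIrrCharacter_one⟩
      have h1 : (fun n : K => (χ : G → ℂ) n) = fun n : K => (χ : G → ℂ) 1 * (one : K → ℂ) n :=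
        funext fun n => by rw [hall n n.2]; exact (mul_one _).symm
      rw [h1, classInner, Finset.sum_congr rfl fun n _ => mul_assoc _ _ _, ← Finset.mul_sum,
        mul_left_comm] at hχ
      have h2 : classInner (one : K → ℂ) (θ : K → ℂ) ≠ 0 := (mul_ne_zero_iff.mp hχ).2
      rw [irr_orth one.2 θ.2] at h2
      refine hθ1 ?_
      by_contra hne
      exact h2 (if_neg fun e => hne e.symm)
    let I : Subgroup G :=
      { carrier := {g | irrComp (MulAut.conjNormal g) θ = θ}
        one_mem' := by
          show irrComp (MulAut.conjNormal (1 : G)) θ = θ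
          exact irrComp_conj_one θ
        mul_mem' := fun {a b} (ha : _ = θ) (hb : _ = θ) => by
          show irrComp (MulAut.conjNormal (a * b)) θ = θ
          rw [← irrComp_conj_mul, ha, hb]
        inv_mem' := fun {a} (ha : _ = θ) => by
          show irrComp (MulAut.conjNormal a⁻¹) θ = θ
          conv_rhs => rw [← irrComp_conj_one θ, ← mul_inv_cancel a, ← irrComp_conj_mul, ha] }
    obtain ⟨m, hm⟩ := exists_decomposition (isCharacter_comp K.subtype (irr_isCharacter χ.2))
    have hco : classInner (fun n : K => (χ : G → ℂ) n) (θ : K → ℂ) = m θ :=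
      decomposition_coeff m hm θ
    have hmul := card_cliffOrbit_mul θ
    rw [show Nat.card {g // irrComp (MulAut.conjNormal g) θ = θ} = Nat.card I from rfl] at hmul
    have hidx : (cliffOrbit K θ).card = I.index := by
      rw [← Subgroup.index_mul_card I] at hmul
      exact Nat.eq_of_mul_eq_mul_right Nat.card_pos hmul
    have h1 := congrFun (clifford_restrict χ θ hχ) 1
    have hall' : ∀ ψ ∈ cliffOrbit K θ, (ψ : K → ℂ) 1 = (θ : K → ℂ) 1 := by
      intro ψ hψ
      obtain ⟨g, rfl⟩ := mem_cliffOrbit.mp hψ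
      rw [irrComp_apply, map_one]
    rw [Pi.smul_apply, Finset.sum_apply, Finset.sum_congr rfl hall', Finset.sum_const, smul_eq_mul,
      nsmul_eq_mul, hco, Subgroup.coe_one, char_one_eq_deg (irr_isCharacter χ.2),
      char_one_eq_deg (irr_isCharacter θ.2), hidx] at h1
    have h2 : deg (χ : G → ℂ) = m θ * (I.index * deg (θ : K → ℂ)) := by exact_mod_cast h1
    have hpI : ¬ p ∣ I.index := fun h => hnd (h2 ▸ dvd_mul_of_dvd_right (dvd_mul_of_dvd_left h _) _)
    have hKI : K ≤ I := fun k hk => Subtype.ext (funext fun n => by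
      rw [irrComp_apply]
      have := isClassFunction_character (irr_isCharacter θ.2) n (⟨k, hk⟩ : K)
      rw [show MulAut.conjNormal k n = (⟨k, hk⟩ : K) * n * (⟨k, hk⟩ : K)⁻¹ from
        Subtype.ext (MulAut.conjNormal_apply k n)]
      exact this)
    obtain ⟨Q⟩ : Nonempty (Sylow p I) := inferInstance
    -- a Sylow subgroup of the stabilizer is one of `G`
    have hQG : ∃ Q' : Sylow p G, (Q' : Subgroup G) ≤ I := by
      obtain ⟨Q', hQ'⟩ := (Q.isPGroup'.map I.subtype).exists_le_sylow
      refine ⟨Q', (Subgroup.eq_of_le_of_card_ge hQ' ?_).symm ▸ Subgroup.map_subtype_le _⟩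
      rw [Subgroup.card_map_of_injective I.subtype_injective, Q.card_eq_multiplicity,
        Q'.card_eq_multiplicity, ← Subgroup.card_mul_index I,
        Nat.factorization_mul Nat.card_pos.ne' Subgroup.index_ne_zero_of_finite, Finsupp.add_apply,
        Nat.factorization_eq_zero_of_not_dvd hpI, add_zero]
    obtain ⟨Q', hQ'⟩ := hQG
    have hle : R ≤ (Q' : Subgroup G) ⊔ K := by
      have h3 : Rb ≤ (Q' : Subgroup G).map (QuotientGroup.mk' K) := by
        have := IsPGroup.le_sylow_of_normal (Fusion.isPGroup_pCore p (G ⧸ K))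
          (Q'.mapSurjective (QuotientGroup.mk'_surjective K))
        rwa [Sylow.coe_mapSurjective] at this
      refine (Subgroup.comap_mono h3).trans ?_
      rw [Subgroup.comap_map_eq, QuotientGroup.ker_mk']
    exact (hle.trans (sup_le hQ' hKI)) hxR
  have hco : (orderOf x).Coprime (Nat.card K) := by
    rw [hx]
    exact hp.out.coprime_iff_not_dvd.mpr hKp
  have hxK : x ∈ K := Solv.centralizer_pPrimeCore_le hG h0
    (Subgroup.mem_centralizer_iff.mpr fun k hk => (commute_of_fix_irr K hco hinv k hk).eq.symm)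
  refine hKp ?_
  rw [← hx]
  calc orderOf x = orderOf (⟨x, hxK⟩ : K) := (Subgroup.orderOf_mk x hxK).symm
    _ ∣ Nat.card K := orderOf_dvd_natCard _

theorem derivedSeries_add {X : Type*} [Group X] (K : Subgroup X) {n : ℕ}
    (h : derivedSeries X n ≤ K) (m : ℕ) :
    derivedSeries X (n + m) ≤ (derivedSeries K m).map K.subtype := by
  induction m with
  | zero =>
    rw [add_zero, derivedSeries_zero, ← MonoidHom.range_eq_map, Subgroup.range_subtype]
    exact h
  | succ m ih =>
    rw [← add_assoc, derivedSeries_succ, derivedSeries_succ, Subgroup.map_commutator]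
    exact Subgroup.commutator_mono ih ih

theorem derivedSeries_bot_of_injective {X Y : Type*} [Group X] [Group Y] {f : X →* Y}
    (hf : Function.Injective f) {n : ℕ} (h : derivedSeries Y n = ⊥) : derivedSeries X n = ⊥ :=
  (Subgroup.map_eq_bot_iff_of_injective _ hf).mp
    (le_bot_iff.mp (h ▸ map_derivedSeries_le_derivedSeries f n))

theorem derivedSeries_mono {X : Type*} [Group X] {a b : ℕ} (hab : a ≤ b)
    (h : derivedSeries X a = ⊥) : derivedSeries X b = ⊥ :=
  le_bot_iff.mp (h ▸ derivedSeries_antitone X hab)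

theorem main : ∀ (M : ℕ) (G : Type u) [Group G] [Fintype G], Nat.card G = M → IsPSolvable p G →
    ∀ P : Sylow p G, derivedSeries (P : Subgroup G) (csing p G + 1) = ⊥ ∧
      (pCore p G = ⊥ → derivedSeries (P : Subgroup G) (csing p G) = ⊥) := by
  intro M
  induction M using Nat.strong_induction_on with
  | _ M ih =>
    intro G _ _ hM hG P
    classical
    have hB : pCore p G = ⊥ → derivedSeries (P : Subgroup G) (csing p G) = ⊥ := by
      intro h0
      by_cases hpG : p ∣ Nat.card G
      swap
      · obtain ⟨k, hk⟩ := IsPGroup.iff_card.mp P.isPGroup'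
        have hk0 : k = 0 := by
          by_contra h
          exact hpG ((dvd_pow_self p h).trans (hk ▸ Subgroup.card_subgroup_dvd_card (P : Subgroup G)))
        haveI : Subsingleton (P : Subgroup G) :=
          (Nat.card_eq_one_iff_unique.mp (by rw [hk, hk0, pow_zero])).1
        exact Subsingleton.elim _ _
      haveI := Solv.pPrimeCore_normal (G := G) p
      set K := pPrimeCore p G with hK
      haveI : Fintype (G ⧸ K) := Fintype.ofFinite _
      have hKne : K ≠ ⊥ := by
        intro e
        have h1 := extra_pos hG h0 hpG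
        rw [← hK, e, cextra] at h1
        obtain ⟨⟨χ, -, hχ⟩⟩ := (Nat.card_pos_iff.mp h1).1
        exact hχ fun n hn => by rw [Subgroup.mem_bot.mp hn]
      have hlt : Nat.card (G ⧸ K) < M := by
        rw [← hM, Subgroup.card_eq_card_quotient_mul_card_subgroup K]
        exact lt_mul_of_one_lt_right Nat.card_pos ((Subgroup.one_lt_card_iff_ne_bot K).mpr hKne)
      set π := QuotientGroup.mk' K
      have h1 := (ih _ hlt (G ⧸ K) rfl (Solv.isPSolvable_map hp.out hG π
        (QuotientGroup.mk'_surjective K)) (P.mapSurjective (QuotientGroup.mk'_surjective K))).1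
      rw [Sylow.coe_mapSurjective] at h1
      refine derivedSeries_mono ?_ (derivedSeries_bot_of_injective
        (f := π.subgroupMap (P : Subgroup G)) ?_ h1)
      · have := count_split (p := p) K
        have := extra_pos hG h0 hpG
        rw [← hK] at this
        omega
      · rw [injective_iff_map_eq_one]
        intro a ha
        have h2 : (a : G) ∈ (P : Subgroup G) ⊓ K :=
          ⟨a.2, (QuotientGroup.eq_one_iff _).mp (congrArg Subtype.val ha)⟩
        have hbot : (P : Subgroup G) ⊓ K = ⊥ := by
          refine Subgroup.inf_eq_bot_of_coprime ?_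
          obtain ⟨k, hk⟩ := IsPGroup.iff_card.mp P.isPGroup'
          rw [hk]
          exact (Fusion.card_pPrimeCore_coprime p G).symm.pow_left k
        rw [hbot, Subgroup.mem_bot] at h2
        exact Subtype.ext h2
    refine ⟨?_, hB⟩
    by_cases h0 : pCore p G = ⊥
    · exact derivedSeries_mono (Nat.le_succ _) (hB h0)
    haveI := Solv.pCore_normal (G := G) p
    set U := pCore p G with hU
    haveI : Fintype (G ⧸ U) := Fintype.ofFinite _
    haveI := Fintype.ofFinite U
    have hUp : IsPGroup p U := Fusion.isPGroup_pCore p G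
    have hUP : U ≤ (P : Subgroup G) := IsPGroup.le_sylow_of_normal hUp P
    have hlt : Nat.card (G ⧸ U) < M := by
      rw [← hM, Subgroup.card_eq_card_quotient_mul_card_subgroup U]
      exact lt_mul_of_one_lt_right Nat.card_pos ((Subgroup.one_lt_card_iff_ne_bot U).mpr h0)
    set π := QuotientGroup.mk' U
    have h1 := (ih _ hlt (G ⧸ U) rfl (Solv.isPSolvable_map hp.out hG π
      (QuotientGroup.mk'_surjective U)) (P.mapSurjective (QuotientGroup.mk'_surjective U))).2
      Fusion.pCore_quotient_eq_bot
    rw [Sylow.coe_mapSurjective] at h1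
    have h2 : derivedSeries (P : Subgroup G) (csing p (G ⧸ U)) ≤ U.subgroupOf (P : Subgroup G) := by
      intro a ha
      have h3 := map_derivedSeries_le_derivedSeries (π.subgroupMap (P : Subgroup G)) _
        (Subgroup.mem_map_of_mem _ ha)
      rw [h1, Subgroup.mem_bot] at h3
      show (a : G) ∈ U
      exact (QuotientGroup.eq_one_iff (a : G)).mp (congrArg Subtype.val h3)
    haveI : Group.IsNilpotent U := hUp.isNilpotent
    have h4 : derivedSeries (U.subgroupOf (P : Subgroup G)) (TaketaBound.degSet U).card = ⊥ :=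
      derivedSeries_bot_of_injective (f := (Subgroup.subgroupOfEquivOfLe hUP).toMonoidHom)
        (Subgroup.subgroupOfEquivOfLe hUP).injective TaketaBound.taketa_nilpotent
    refine derivedSeries_mono ?_ (le_bot_iff.mp ((derivedSeries_add _ h2 _).trans
      (by rw [h4, Subgroup.map_bot])))
    have := count_split (p := p) U
    have := extra_ge U hUp
    omega

end Cfsg.Agent.Char.SingCount
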