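import Mathlib

/-!
Groups with an element of prime order that is its own centralizer.
-/

set_option autoImplicit false
set_option linter.unusedSectionVars false
open scoped Pointwise commutatorElement

namespace Cfsg.Agent.Char.SelfCent

variable {G : Type*} [Group G] [Finite G] {p : ℕ} [Fact p.Prime] {x : G}

theorem card_zp (hx : orderOf x = p) : Nat.card (Subgroup.zpowers x) = p := by
  rw [Nat.card_zpowers, hx]

theorem ne_one (hx : orderOf x = p) : x ≠ 1 := fun h =>
  (Fact.out : p.Prime).ne_one (by rw [← hx, h, orderOf_one])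

theorem centralizer_eq_of_mem (hx : orderOf x = p)
    (hC : Subgroup.centralizer ({x} : Set G) = Subgroup.zpowers x) {y : G}
    (hy : y ∈ Subgroup.zpowers x) (hy1 : y ≠ 1) :
    Subgroup.centralizer ({y} : Set G) = Subgroup.zpowers x := by
  haveI : Fact (Nat.card (Subgroup.zpowers x)).Prime := ⟨by rw [card_zp hx]; exact Fact.out⟩
  have h1 : Subgroup.zpowers y = Subgroup.zpowers x := by
    refine Subgroup.eq_of_le_of_card_ge (Subgroup.zpowers_le.2 hy) ?_
    rw [Nat.card_zpowers, Nat.card_zpowers]
    have h2 : orderOf y ∣ p := by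
      have := orderOf_dvd_natCard (⟨y, hy⟩ : Subgroup.zpowers x)
      rwa [Subgroup.orderOf_mk, card_zp hx] at this
    rw [hx]
    rcases (Nat.dvd_prime Fact.out).1 h2 with h | h
    · exact absurd (orderOf_eq_one_iff.1 h) hy1
    · exact h.ge
  refine le_antisymm (fun w hw => ?_) (fun w hw => ?_)
  · rw [← hC, Subgroup.mem_centralizer_singleton_iff]
    obtain ⟨k, hk⟩ : x ∈ Subgroup.zpowers y := h1 ▸ Subgroup.mem_zpowers x
    rw [← show y ^ k = x from hk]
    have : Commute w y := Subgroup.mem_centralizer_singleton_iff.1 hw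
    exact (this.zpow_right k).eq
  · rw [Subgroup.mem_centralizer_singleton_iff]
    obtain ⟨k, rfl⟩ := hw
    obtain ⟨l, rfl⟩ := hy
    exact (((Commute.refl x).zpow_left k).zpow_right l).eq

theorem exists_sylow (hx : orderOf x = p)
    (hC : Subgroup.centralizer ({x} : Set G) = Subgroup.zpowers x) :
    ∃ P : Sylow p G, (P : Subgroup G) = Subgroup.zpowers x := by
  have hXp : IsPGroup p (Subgroup.zpowers x) := IsPGroup.of_card (n := 1) (by rw [card_zp hx, pow_one])
  obtain ⟨P, hP⟩ := hXp.exists_le_sylow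
  refine ⟨P, le_antisymm (fun w hw => ?_) hP⟩
  have hxP : x ∈ (P : Subgroup G) := hP (Subgroup.mem_zpowers x)
  haveI : Nontrivial (P : Subgroup G) :=
    ⟨⟨x, hxP⟩, 1, fun h => ne_one hx (congrArg Subtype.val h)⟩
  haveI : Nontrivial (Subgroup.center (P : Subgroup G)) := P.2.center_nontrivial
  obtain ⟨z, hz⟩ := exists_ne (1 : Subgroup.center (P : Subgroup G))
  have hzc : ((z : (P : Subgroup G)) : G) ∈ Subgroup.zpowers x := by
    rw [← hC, Subgroup.mem_centralizer_singleton_iff]
    exact (congrArg Subtype.val (Subgroup.mem_center_iff.1 z.2 ⟨x, hxP⟩)).symm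
  rw [← centralizer_eq_of_mem hx hC hzc (fun h => hz (Subtype.ext (Subtype.ext h))),
    Subgroup.mem_centralizer_singleton_iff]
  exact congrArg Subtype.val (Subgroup.mem_center_iff.1 z.2 ⟨w, hw⟩)

theorem le_normalizer : Subgroup.zpowers x ≤ Subgroup.normalizer (Subgroup.zpowers x : Set G) :=
  Subgroup.le_normalizer

/-- `t * e = p - 1`. -/
theorem count_classes (hx : orderOf x = p)
    (hC : Subgroup.centralizer ({x} : Set G) = Subgroup.zpowers x) :
    Nat.card {C : ConjClasses G // ∃ g ∈ C.carrier, orderOf g = p} *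
      (Subgroup.zpowers x).relIndex (Subgroup.normalizer (Subgroup.zpowers x : Set G)) = p - 1 := by
  classical
  have hp : p.Prime := Fact.out
  obtain ⟨P, hP⟩ := exists_sylow hx hC
  set N := Subgroup.normalizer (Subgroup.zpowers x : Set G) with hN
  have hsub : ∀ Q : Sylow p G, Nat.card (Q : Subgroup G) = p := fun Q => by
    obtain ⟨g, rfl⟩ := MulAction.exists_smul_eq G P Q
    rw [Nat.card_congr (Sylow.equiv (g • P) P).toEquiv]
    exact (congrArg (fun H : Subgroup G => Nat.card H) hP).trans (card_zp hx)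
  have horder : ∀ g : G, orderOf g = p → ∃ Q : Sylow p G, (Q : Subgroup G) = Subgroup.zpowers g := by
    intro g hg
    refine ⟨Sylow.ofCard (Subgroup.zpowers g) ?_, rfl⟩
    rw [← P.card_eq_multiplicity, Nat.card_zpowers, hg, hsub P]
  have hQel : ∀ (Q : Sylow p G) (g : G), g ∈ (Q : Subgroup G) → g ≠ 1 → orderOf g = p := by
    intro Q g hg hg1
    have h := orderOf_dvd_natCard (⟨g, hg⟩ : (Q : Subgroup G))
    rw [Subgroup.orderOf_mk, hsub Q] at h
    exact ((Nat.dvd_prime hp).1 h).resolve_left (fun h1 => hg1 (orderOf_eq_one_iff.1 h1))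
  -- number of elements of order `p`
  let e1 : {g : G // orderOf g = p} ≃ Σ Q : Sylow p G, {g : (Q : Subgroup G) // g ≠ 1} :=
    (Equiv.ofBijective (fun z : Σ Q : Sylow p G, {g : (Q : Subgroup G) // g ≠ 1} =>
      (⟨(z.2.1 : G), hQel z.1 _ z.2.1.2 (fun h => z.2.2 (Subtype.ext h))⟩ : {g : G // orderOf g = p}))
      ⟨fun a b h => by
        obtain ⟨Q, ⟨g, hg⟩, hg1⟩ := a
        obtain ⟨R, ⟨g', hg'⟩, hg1'⟩ := b
        obtain rfl : g = g' := congrArg Subtype.val h
        have key : ∀ S : Sylow p G, g ∈ (S : Subgroup G) → (S : Subgroup G) = Subgroup.zpowers g := by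
          intro S hS
          refine (Subgroup.eq_of_le_of_card_ge (Subgroup.zpowers_le.2 hS) ?_).symm
          rw [Nat.card_zpowers, hsub S, hQel S g hS (fun h1 => hg1 (Subtype.ext h1))]
        obtain rfl : Q = R := Sylow.ext ((key Q hg).trans (key R hg').symm)
        rfl,
      fun g => by
        obtain ⟨Q, hQ⟩ := horder g.1 g.2
        exact ⟨⟨Q, ⟨g.1, hQ ▸ Subgroup.mem_zpowers _⟩, fun h => hp.ne_one (by
          rw [← g.2, show g.1 = 1 from congrArg Subtype.val h, orderOf_one])⟩, rfl⟩⟩).symm
  haveI := Fintype.ofFinite (Sylow p G)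
  have hnum : Nat.card {g : G // orderOf g = p} = Nat.card (Sylow p G) * (p - 1) := by
    rw [Nat.card_congr e1, Nat.card_sigma, Finset.sum_congr rfl (g := fun _ => p - 1) (fun Q _ => ?_),
      Finset.sum_const, Finset.card_univ, smul_eq_mul, Nat.card_eq_fintype_card]
    haveI := Fintype.ofFinite (Q : Subgroup G)
    have hc := hsub Q
    rw [Nat.card_eq_fintype_card] at hc ⊢
    rw [Fintype.card_subtype_compl, Fintype.card_subtype_eq, hc]
  -- elements of order `p` fibred over the classes
  set T := {C : ConjClasses G // ∃ g ∈ C.carrier, orderOf g = p} with hT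
  haveI := Fintype.ofFinite T
  let e2 : {g : G // orderOf g = p} ≃ Σ C : T, C.1.carrier :=
    { toFun := fun g => ⟨⟨ConjClasses.mk g.1, g.1, ConjClasses.mem_carrier_mk, g.2⟩, g.1,
        ConjClasses.mem_carrier_mk⟩
      invFun := fun z => ⟨z.2.1, by
        obtain ⟨g, hg, hgo⟩ := z.1.2
        obtain ⟨c, hc⟩ := isConj_iff.1 (ConjClasses.mk_eq_mk_iff_isConj.1
          ((ConjClasses.mem_carrier_iff_mk_eq.1 hg).trans (ConjClasses.mem_carrier_iff_mk_eq.1 z.2.2).symm))
        rw [← hc, ← hgo]
        exact MulEquiv.orderOf_eq (MulAut.conj c) g⟩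
      left_inv := fun g => rfl
      right_inv := fun z => by
        obtain ⟨⟨C, hC'⟩, g, hg⟩ := z
        obtain rfl := ConjClasses.mem_carrier_iff_mk_eq.1 hg
        rfl }
  have hclass : ∀ C : T, Nat.card C.1.carrier * p = Nat.card G := by
    rintro ⟨C, g, hg, hgo⟩
    obtain rfl := ConjClasses.mem_carrier_iff_mk_eq.1 hg
    obtain ⟨Q, hQ⟩ := horder g hgo
    obtain ⟨c, hc⟩ := MulAction.exists_smul_eq G Q P
    have hgx : c * g * c⁻¹ ∈ Subgroup.zpowers x := by
      rw [← hP, ← hc, Sylow.coe_subgroup_smul, Subgroup.mem_pointwise_smul_iff_inv_smul_mem]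
      have e : (MulAut.conj c)⁻¹ • (c * g * c⁻¹) = g := by simp [mul_assoc]
      rw [e, hQ]
      exact Subgroup.mem_zpowers g
    have hne : c * g * c⁻¹ ≠ 1 := fun h => hp.ne_one (by
      rw [← hgo, ← MulEquiv.orderOf_eq (MulAut.conj c) g, MulAut.conj_apply, h, orderOf_one])
    have hcard : Nat.card (Subgroup.centralizer ({g} : Set G)) = p := by
      rw [← card_zp hx, ← centralizer_eq_of_mem hx hC hgx hne]
      refine Nat.card_congr ((MulAut.conj c).toEquiv.subtypeEquiv fun w => ?_)
      simp only [Subgroup.mem_centralizer_singleton_iff, MulEquiv.toEquiv_eq_coe, EquivLike.coe_coe,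
        MulAut.conj_apply]
      constructor
      · intro h
        calc c * w * c⁻¹ * (c * g * c⁻¹) = c * (w * g) * c⁻¹ := by group
          _ = _ := by rw [h]; group
      · intro h
        have h2 : c * (w * g) * c⁻¹ = c * (g * w) * c⁻¹ := by
          calc c * (w * g) * c⁻¹ = c * w * c⁻¹ * (c * g * c⁻¹) := by group
            _ = _ := by rw [h]; group
        exact mul_left_cancel (mul_right_cancel h2)
    have hst : (MulAction.stabilizer (ConjAct G) g).index = Nat.card (ConjClasses.mk g).carrier := by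
      rw [MulAction.index_stabilizer, ConjAct.orbit_eq_carrier_conjClasses, Nat.card_coe_set_eq]
    show Nat.card (ConjClasses.mk g).carrier * p = Nat.card G
    rw [← hst, ← hcard, mul_comm]
    have := Subgroup.card_mul_index (MulAction.stabilizer (ConjAct G) g)
    rw [Subgroup.nat_card_centralizer_nat_card_stabilizer]
    exact this
  have h2 : Nat.card {g : G // orderOf g = p} * p = Nat.card T * Nat.card G := by
    rw [Nat.card_congr e2, Nat.card_sigma, Finset.sum_mul, Finset.sum_congr rfl (fun C _ => hclass C),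
      Finset.sum_const, Finset.card_univ, smul_eq_mul, Nat.card_eq_fintype_card (α := T)]
  rw [hnum] at h2
  have h3 : Nat.card (Sylow p G) = N.index := by
    rw [Sylow.card_eq_index_normalizer P, hN]
    show (Subgroup.normalizer ((P : Subgroup G) : Set G)).index = _
    rw [hP]
  have h4 : (Subgroup.zpowers x).relIndex N * p * N.index = Nat.card G := by
    rw [mul_comm ((Subgroup.zpowers x).relIndex N), ← card_zp hx]
    have := Subgroup.card_mul_index ((Subgroup.zpowers x).subgroupOf N)
    rw [Nat.card_congr (Subgroup.subgroupOfEquivOfLe (le_normalizer (x := x))).toEquiv] at this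
    rw [Subgroup.relIndex, this, Subgroup.card_mul_index]
  rw [h3, ← h4] at h2
  have h5 : N.index * p * (p - 1) =
      N.index * p * (Nat.card T * (Subgroup.zpowers x).relIndex N) := by
    linarith
  exact (Nat.eq_of_mul_eq_mul_left (Nat.mul_pos (Nat.pos_of_ne_zero Subgroup.index_ne_zero_of_finite) hp.pos) h5).symm

/-- A normal subgroup of order prime to `p` consists of commutators with `x`. -/
theorem le_commutator_of_coprime (hx : orderOf x = p)
    (hC : Subgroup.centralizer ({x} : Set G) = Subgroup.zpowers x) (K : Subgroup G) [K.Normal]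
    (hK : ¬ p ∣ Nat.card K) : K ≤ commutator G := by
  have hmem : ∀ k : K, (k : G) * x * (k : G)⁻¹ * x⁻¹ ∈ K := fun k => by
    rw [show (k : G) * x * (k : G)⁻¹ * x⁻¹ = (k : G) * (x * (k : G)⁻¹ * x⁻¹) by group]
    exact mul_mem k.2 (Subgroup.Normal.conj_mem ‹K.Normal› _ (inv_mem k.2) x)
  let f : K → K := fun k => ⟨(k : G) * x * (k : G)⁻¹ * x⁻¹, hmem k⟩
  have hf : Function.Injective f := by
    intro a b h
    have h1 : (a : G) * x * (a : G)⁻¹ = (b : G) * x * (b : G)⁻¹ :=
      mul_right_cancel (congrArg Subtype.val h)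
    have h2 : (b : G)⁻¹ * a ∈ Subgroup.centralizer ({x} : Set G) := by
      rw [Subgroup.mem_centralizer_singleton_iff]
      calc (b : G)⁻¹ * a * x = (b : G)⁻¹ * ((a : G) * x * (a : G)⁻¹) * a := by group
        _ = x * ((b : G)⁻¹ * a) := by rw [h1]; group
    rw [hC] at h2
    have h3 : (b : G)⁻¹ * a = 1 := by
      have hd1 := orderOf_dvd_natCard (⟨_, h2⟩ : Subgroup.zpowers x)
      have hd2 := orderOf_dvd_natCard (b⁻¹ * a)
      rw [Subgroup.orderOf_mk, card_zp hx] at hd1
      rw [← Subgroup.orderOf_coe, Subgroup.coe_mul, Subgroup.coe_inv] at hd2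
      exact orderOf_eq_one_iff.1 (Nat.eq_one_of_dvd_coprimes
        ((Fact.out : p.Prime).coprime_iff_not_dvd.2 hK) hd1 hd2)
    exact Subtype.ext (inv_mul_eq_one.1 h3).symm
  intro k hk
  obtain ⟨a, ha⟩ := (Finite.injective_iff_surjective.1 hf) ⟨k, hk⟩
  have ha' : ⁅(a : G), x⁆ = k := (commutatorElement_def _ _).trans (congrArg Subtype.val ha)
  rw [← ha']
  exact Subgroup.commutator_mem_commutator (Subgroup.mem_top _) (Subgroup.mem_top _)

/-- Outside the case of a self-normalizing subgroup, `x` is a commutator. -/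
theorem mem_commutator (hx : orderOf x = p)
    (hC : Subgroup.centralizer ({x} : Set G) = Subgroup.zpowers x)
    (he : (Subgroup.zpowers x).relIndex (Subgroup.normalizer (Subgroup.zpowers x : Set G)) ≠ 1) :
    x ∈ commutator G := by
  obtain ⟨n, hn, hnX⟩ : ∃ n ∈ Subgroup.normalizer (Subgroup.zpowers x : Set G), n ∉ Subgroup.zpowers x := by
    by_contra h
    simp only [not_exists, not_and, not_not] at h
    exact he (Subgroup.relIndex_eq_one.2 h)
  have hcX : ⁅n, x⁆ ∈ Subgroup.zpowers x := by
    rw [commutatorElement_def]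
    exact mul_mem ((Subgroup.mem_normalizer_iff.1 hn x).1 (Subgroup.mem_zpowers x))
      (inv_mem (Subgroup.mem_zpowers x))
  have hc1 : ⁅n, x⁆ ≠ 1 := fun h => hnX (by
    rw [← hC, Subgroup.mem_centralizer_singleton_iff]
    exact commutatorElement_eq_one_iff_commute.1 h)
  have hgen : x ∈ Subgroup.zpowers ⁅n, x⁆ := by
    have hle : Subgroup.zpowers ⁅n, x⁆ ≤ Subgroup.zpowers x := Subgroup.zpowers_le.2 hcX
    have h2 : orderOf ⁅n, x⁆ ∣ p := by
      have := orderOf_dvd_natCard (⟨_, hcX⟩ : Subgroup.zpowers x)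
      rwa [Subgroup.orderOf_mk, card_zp hx] at this
    rcases (Nat.dvd_prime Fact.out).1 h2 with h | h
    · exact absurd (orderOf_eq_one_iff.1 h) hc1
    · rw [Subgroup.eq_of_le_of_card_ge hle (by rw [Nat.card_zpowers, Nat.card_zpowers, hx, h])]
      exact Subgroup.mem_zpowers x
  refine Subgroup.zpowers_le.2 ?_ hgen
  exact Subgroup.commutator_mem_commutator (Subgroup.mem_top _) (Subgroup.mem_top _)

theorem commutator_index_le (hx : orderOf x = p)
    (hC : Subgroup.centralizer ({x} : Set G) = Subgroup.zpowers x) (hxc : x ∈ commutator G) :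
    (commutator G).index ≤
      (Subgroup.zpowers x).relIndex (Subgroup.normalizer (Subgroup.zpowers x : Set G)) := by
  obtain ⟨P, hP⟩ := exists_sylow hx hC
  have hle : Subgroup.zpowers x ≤ commutator G := Subgroup.zpowers_le.2 hxc
  have hfr : Subgroup.normalizer ((P : Subgroup G) : Set G) ⊔ commutator G = ⊤ :=
    Sylow.normalizer_sup_eq_top' P (hP.trans_le hle)
  rw [hP] at hfr
  set N := Subgroup.normalizer (Subgroup.zpowers x : Set G)
  have h1 : (commutator G).index = (commutator G).relIndex N := by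
    rw [← Subgroup.relIndex_top_right, ← hfr, sup_comm, Subgroup.relIndex_sup_left]
  rw [h1, ← Subgroup.inf_relIndex_left N (commutator G)]
  exact Nat.le_of_dvd (Nat.pos_of_ne_zero Subgroup.index_ne_zero_of_finite)
    (Subgroup.relIndex_dvd_of_le_left N (le_inf le_normalizer hle))

/-- A self-normalizing `zpowers x` has a normal complement. -/
theorem exists_complement (hx : orderOf x = p)
    (hC : Subgroup.centralizer ({x} : Set G) = Subgroup.zpowers x)
    (he : (Subgroup.zpowers x).relIndex (Subgroup.normalizer (Subgroup.zpowers x : Set G)) = 1) :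
    (commutator G).index = p ∧ ¬ p ∣ Nat.card (commutator G) := by
  obtain ⟨P, hP⟩ := exists_sylow hx hC
  have hNC : Subgroup.normalizer ((P : Subgroup G) : Set G) ≤
      Subgroup.centralizer ((P : Subgroup G) : Set G) := by
    rw [hP]
    refine (Subgroup.relIndex_eq_one.1 he).trans fun w hw => ?_
    rw [Subgroup.mem_centralizer_iff]
    intro y hy
    obtain ⟨k, rfl⟩ := hy
    obtain ⟨l, rfl⟩ := hw
    exact (((Commute.refl x).zpow_left k).zpow_right l).eq
  have hcomp := MonoidHom.ker_transferSylow_isComplement' P hNC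
  set K := (MonoidHom.transferSylow P hNC).ker with hK
  have hPc : Nat.card (P : Subgroup G) = p := by rw [hP, card_zp hx]
  have hKi : K.index = p := by rw [hcomp.symm.index_eq_card, hPc]
  have hKp : ¬ p ∣ Nat.card K := by
    have h := Sylow.not_dvd_index P
    rwa [hcomp.index_eq_card] at h
  have hc : commutator G = K := le_antisymm (fun g hg => ?_) (le_commutator_of_coprime hx hC K hKp)
  · exact ⟨by rw [hc, hKi], by rw [hc]; exact hKp⟩
  · haveI : IsCyclic (G ⧸ K) := isCyclic_of_prime_card (p := p) (by rw [← Subgroup.index_eq_card, hKi])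
    have := (Subgroup.Normal.quotient_commutative_iff_commutator_le (N := K)).1
      IsCyclic.commutative
    exact this hg

/-- A generator of the automiser of order equal to its index, acting without fixed points. -/
theorem exists_gen (hx : orderOf x = p)
    (hC : Subgroup.centralizer ({x} : Set G) = Subgroup.zpowers x) :
    ∃ n ∈ Subgroup.normalizer (Subgroup.zpowers x : Set G),
      orderOf n = (Subgroup.zpowers x).relIndex (Subgroup.normalizer (Subgroup.zpowers x : Set G)) ∧
      ∀ k : ℕ, n ^ k ∈ Subgroup.centralizer ({x} : Set G) → orderOf n ∣ k := by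
  have hp : p.Prime := Fact.out
  set X := Subgroup.zpowers x with hX
  set N := Subgroup.normalizer (X : Set G) with hN
  set φ := Subgroup.normalizerMonoidHom X with hφ
  have hker : φ.ker = X.subgroupOf N := by
    rw [hφ, Subgroup.normalizerMonoidHom_ker]
    congr 1
    refine le_antisymm ?_ ?_
    · exact (Subgroup.centralizer_le (Set.singleton_subset_iff.2 (Subgroup.mem_zpowers x))).trans hC.le
    · intro w hw
      rw [Subgroup.mem_centralizer_iff]
      intro y hy
      obtain ⟨k, rfl⟩ := hy
      obtain ⟨l, rfl⟩ := hw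
      exact (((Commute.refl x).zpow_left k).zpow_right l).eq
  haveI hcX : IsCyclic X := Subgroup.isCyclic_zpowers x
  haveI : Fact (Nat.card X).Prime := ⟨by rw [hX, card_zp hx]; exact hp⟩
  haveI : IsCyclic (MulAut X) := isCyclic_of_injective
    (IsCyclic.mulAutMulEquiv X).toMonoidHom (IsCyclic.mulAutMulEquiv X).injective
  obtain ⟨⟨a, ha'⟩, ha⟩ := IsCyclic.exists_generator (α := φ.range)
  obtain ⟨n₀, hn₀⟩ := MonoidHom.mem_range.1 ha'
  have hord : orderOf (φ n₀) = X.relIndex N := by
    rw [hn₀, ← Subgroup.orderOf_mk a ha', orderOf_eq_card_of_forall_mem_zpowers ha,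
      ← Subgroup.index_ker, hker]
    rfl
  set e := X.relIndex N with he
  have hep : e.Coprime p := by
    have h2 := count_classes (G := G) hx hC
    rw [Nat.coprime_comm, hp.coprime_iff_not_dvd]
    intro h
    have h3 : e ∣ p - 1 := Dvd.intro_left _ h2
    have h4 := Nat.le_of_dvd (by have := hp.two_le; omega) (h.trans h3)
    have := hp.two_le
    omega
  have hφn : orderOf (φ (n₀ ^ p)) = e := by
    rw [map_pow, Nat.Coprime.orderOf_pow (by rw [hord]; exact hep), hord]
  have hn : (n₀ ^ p) ^ e = 1 := by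
    have h1 : n₀ ^ e ∈ φ.ker := by
      rw [MonoidHom.mem_ker, map_pow, ← hord, pow_orderOf_eq_one]
    rw [hker, Subgroup.mem_subgroupOf] at h1
    have h2 := orderOf_dvd_natCard (⟨_, h1⟩ : X)
    rw [Subgroup.orderOf_mk, (card_zp hx : Nat.card X = p), orderOf_dvd_iff_pow_eq_one] at h2
    refine Subtype.ext ?_
    rw [← pow_mul, mul_comm, pow_mul, SubmonoidClass.coe_pow, h2, OneMemClass.coe_one]
  have hno : orderOf (n₀ ^ p) = e :=
    Nat.dvd_antisymm (orderOf_dvd_of_pow_eq_one hn) (hφn ▸ orderOf_map_dvd φ _)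
  refine ⟨((n₀ ^ p : N) : G), (n₀ ^ p : N).2, by rw [Subgroup.orderOf_coe, hno], fun k hk => ?_⟩
  rw [Subgroup.orderOf_coe, hno, ← hφn, orderOf_dvd_iff_pow_eq_one, ← map_pow, ← MonoidHom.mem_ker,
    hker, Subgroup.mem_subgroupOf, SubmonoidClass.coe_pow]
  exact hC.le hk

end Cfsg.Agent.Char.SelfCent
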