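import Cfsg.Agent.Lib.Char.PrincipalBlock
import Cfsg.Agent.Lib.Char.FirstMainInduced
import Cfsg.Agent.Lib.Char.FongReynolds
import Cfsg.Agent.Lib.Char.CoverUnit
import Cfsg.Prelude.Def_OddOrderLocal

/-!
# Normal subgroups of order prime to `p` in kernels of blocks and Brauer pairs
-/

set_option autoImplicit false
set_option linter.style.haveILetI false

namespace Cfsg.Agent.Char

open Cfsg
open scoped ComplexConjugate

universe u

variable {G : Type u} [Group G] [Fintype G] {M : Ideal AlgInt} {p : ℕ}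

/-- The averaging idempotent of a subgroup. -/
noncomputable def kInd (K : Subgroup G) : G → ℂ := (Nat.card K : ℂ)⁻¹ • subInd K

/-- All members are constant on `K`. -/
def TrivOn (C : Subgroup G) (e : Set (IrrCharacter C)) (K : Subgroup G) : Prop :=
  ∀ ξ ∈ e, ∀ c : C, (c : G) ∈ K → (ξ : C → ℂ) c = (ξ : C → ℂ) 1

omit [Fintype G] in
theorem normal_subgroupOf_of (K C : Subgroup G) (hC : ∀ c ∈ C, ∀ k ∈ K, c * k * c⁻¹ ∈ K) :
    (K.subgroupOf C).Normal :=
  ⟨fun k hk c => hC c c.2 k hk⟩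

omit [Fintype G] in
theorem kInd_trunc (K C : Subgroup G) [Fintype C] :
    (fun c : C => kInd K (c : G)) = (Nat.card K : ℂ)⁻¹ • subInd (K.subgroupOf C) := by
  classical
  funext c
  simp only [kInd, Pi.smul_apply, subInd, Subgroup.mem_subgroupOf]

/-- The cardinality of a subgroup and of its fixed points. -/
theorem card_inf_centralizer_congr (hM : IsPModular p M) (K R : Subgroup G) (hR : IsPGroup p R)
    (hRK : ∀ u ∈ R, ∀ k ∈ K, u * k * u⁻¹ ∈ K) :
    MemLocalIdeal M ((Nat.card K : ℂ) -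
      Nat.card (K.subgroupOf (Subgroup.centralizer (R : Set G)))) := by
  classical
  have hP := pmod_prime hM
  have h := sum_centralizer_congr hM hR (subInd K)
    (fun x => by simp only [subInd]; split_ifs; exacts [memLR_one hP, memLR_zero hP]) fun u hu x => by
      simp only [subInd]
      by_cases hx : x ∈ K
      · rw [if_pos hx, if_pos (hRK u hu x hx)]
      · rw [if_neg hx, if_neg fun h => hx (by
          simpa [mul_assoc] using hRK u⁻¹ (R.inv_mem hu) _ h)]
  have := Fintype.ofFinite (Subgroup.centralizer (R : Set G))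
  rw [sum_subInd, Finset.sum_subtype (p := fun y => y ∈ Subgroup.centralizer (R : Set G))
    (Finset.univ.filter fun y => y ∈ Subgroup.centralizer (R : Set G)) (fun y => by simp)] at h
  rw [← sum_subInd (K.subgroupOf (Subgroup.centralizer (R : Set G)))]
  convert h using 3
  simp [subInd, Subgroup.mem_subgroupOf]

/-- The two possible values of a central character at the averaging idempotent. -/
theorem lam_kInd_cases (hM : IsPModular p M) {K C : Subgroup G} [Fintype C]
    (hC : ∀ c ∈ C, ∀ k ∈ K, c * k * c⁻¹ ∈ K) (hK : ¬ p ∣ Nat.card K)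
    (hcard : MemLocalIdeal M ((Nat.card K : ℂ) - Nat.card (K.subgroupOf C)))
    {e : Set (IrrCharacter C)} (he : IsPBlock M e) {ξ : IrrCharacter C} (hξ : ξ ∈ e) :
    (TrivOn C e K ∧ MemLocalIdeal M (lam (ξ : C → ℂ) (fun c : C => kInd K (c : G)) - 1)) ∨
      (¬ TrivOn C e K ∧ lam (ξ : C → ℂ) (fun c : C => kInd K (c : G)) = 0) := by
  have hP := pmod_prime hM
  haveI := normal_subgroupOf_of K C hC
  have hS : ¬ p ∣ Nat.card (K.subgroupOf C) := fun hd => hK (hd.trans (by
    simpa using Subgroup.card_comap_dvd_of_injective K C.subtype C.subtype_injective))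
  have hiff : TrivOn C e K ↔ ∀ c ∈ K.subgroupOf C, (ξ : C → ℂ) c = (ξ : C → ℂ) 1 :=
    ⟨fun h c hc => h ξ hξ c hc, fun h η hη c hc =>
      trivial_on_of_sameBlock hM (K.subgroupOf C) hS (block_sameBlock hP he hξ hη) h c hc⟩
  rw [hiff, trivial_on_iff_lam, kInd_trunc, lam_smul]
  rcases lam_subInd_cases hP (K.subgroupOf C) ξ with h | h
  · refine Or.inr ⟨?_, by rw [h, mul_zero]⟩
    rw [h]
    exact fun h0 => Nat.card_pos.ne' (Nat.cast_eq_zero.mp h0.symm)
  · refine Or.inl ⟨h, ?_⟩
    have hK0 : (Nat.card K : ℂ) ≠ 0 := Nat.cast_ne_zero.mpr Nat.card_pos.ne'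
    rw [h, show (Nat.card K : ℂ)⁻¹ * (Nat.card (K.subgroupOf C) : ℂ) - 1 =
      -((Nat.card K : ℂ)⁻¹ * ((Nat.card K : ℂ) - Nat.card (K.subgroupOf C))) by field_simp; ring]
    exact memLI_neg hP (memLI_mul_left hP (memLR_inv_natCast hM hK) hcard)

theorem isIntClassFun_kInd (hM : IsPModular p M) (K : Subgroup G) [K.Normal]
    (hK : ¬ p ∣ Nat.card K) : IsIntClassFun M (kInd K) := by
  have h := intClassFun_subInd (pmod_prime hM) K
  exact ⟨fun a k => by simp only [kInd, Pi.smul_apply, h.1 a k],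
    fun x => memLR_mul (pmod_prime hM) (memLR_inv_natCast hM hK) (h.2 x)⟩

/-- A normal `p'`-subgroup is in the kernel of a block iff it is, at a pair of the block. -/
theorem pair_ker_iff (hM : IsPModular p M) (K : Subgroup G) [K.Normal] (hK : ¬ p ∣ Nat.card K)
    {B : Set (IrrCharacter G)} {Q : Subgroup G}
    {e : Set (IrrCharacter (Subgroup.centralizer (Q : Set G)))} (h : IsBrauerPairOf p M B Q e) :
    (∀ χ ∈ B, ∀ k ∈ K, (χ : G → ℂ) k = (χ : G → ℂ) 1) ↔
      TrivOn (Subgroup.centralizer (Q : Set G)) e K := by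
  classical
  have hP := pmod_prime hM
  haveI := Fintype.ofFinite (Subgroup.centralizer (Q : Set G))
  obtain ⟨ξ, hξ⟩ := block_nonempty hP h.1.2
  obtain ⟨χ, hχ⟩ := block_nonempty hP h.2.1
  have h1 : MemLocalIdeal M (lam (ξ : Subgroup.centralizer (Q : Set G) → ℂ)
      (fun c : Subgroup.centralizer (Q : Set G) => kInd K (c : G)) - lam (χ : G → ℂ) (kInd K)) :=
    pair_lam hM h hξ hχ (isIntClassFun_kInd hM K hK)
  have hcase := lam_kInd_cases hM (C := Subgroup.centralizer (Q : Set G))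
    (fun c _ k hk => Subgroup.Normal.conj_mem inferInstance k hk c) hK
    (card_inf_centralizer_congr hM K Q h.1.1 fun c _ k hk => Subgroup.Normal.conj_mem inferInstance k hk c)
    h.1.2 hξ
  have hiff : (∀ χ' ∈ B, ∀ k ∈ K, (χ' : G → ℂ) k = (χ' : G → ℂ) 1) ↔
      ∀ k ∈ K, (χ : G → ℂ) k = (χ : G → ℂ) 1 :=
    ⟨fun h' => h' χ hχ, fun h' χ' hχ' =>
      trivial_on_of_sameBlock hM K hK (block_sameBlock hP h.2.1 hχ hχ') h'⟩
  have hK0 : (Nat.card K : ℂ) ≠ 0 := Nat.cast_ne_zero.mpr Nat.card_pos.ne'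
  rw [show lam (χ : G → ℂ) (kInd K) = (Nat.card K : ℂ)⁻¹ * lam (χ : G → ℂ) (subInd K) from
    lam_smul _ _ _] at h1
  rw [hiff, trivial_on_iff_lam]
  rcases lam_subInd_cases hP K χ with hc | hc <;> rw [hc] at h1 ⊢ <;>
    rcases hcase with ⟨ht, hv⟩ | ⟨ht, hv⟩
  · rw [mul_zero, sub_zero] at h1
    exact absurd (by simpa using memLI_sub hP h1 hv) (memLI_one_iff hP)
  · exact ⟨fun h0 => absurd h0.symm hK0, fun h0 => absurd h0 ht⟩
  · exact ⟨fun _ => ht, fun _ => rfl⟩
  · rw [inv_mul_cancel₀ hK0, hv, zero_sub] at h1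
    exact absurd (by simpa using memLI_neg hP h1) (memLI_one_iff hP)

theorem eq_extend_of_support {K CQ : Subgroup G} (hKC : K ≤ CQ) :
    kInd K = extendByZero CQ (fun c : CQ => kInd K (c : G)) := by
  classical
  funext x
  by_cases hx : x ∈ CQ
  · rw [extendByZero_mem _ _ hx]
  · rw [extendByZero_not_mem _ _ hx]
    simp only [kInd, Pi.smul_apply, subInd, if_neg fun h => hx (hKC h), smul_zero]

/-- The same along a normal inclusion of pairs. -/
theorem step_ker_iff (hM : IsPModular p M) {Q R : Subgroup G}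
    {f : Set (IrrCharacter (Subgroup.centralizer (Q : Set G)))}
    {g : Set (IrrCharacter (Subgroup.centralizer (R : Set G)))} (h : IsNormalSubpair p M Q f R g)
    (K : Subgroup G) (hKC : K ≤ Subgroup.centralizer (Q : Set G))
    (hKn : ∀ c ∈ Subgroup.centralizer (Q : Set G), ∀ k ∈ K, c * k * c⁻¹ ∈ K)
    (hKR : ∀ u ∈ R, ∀ k ∈ K, u * k * u⁻¹ ∈ K) (hK : ¬ p ∣ Nat.card K) :
    TrivOn (Subgroup.centralizer (Q : Set G)) f K ↔
      TrivOn (Subgroup.centralizer (R : Set G)) g K := by
  classical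
  have hP := pmod_prime hM
  obtain ⟨hQf, hRg, hQR, hRN, hst, hone⟩ := h
  haveI := Fintype.ofFinite (Subgroup.centralizer (Q : Set G))
  haveI := Fintype.ofFinite (Subgroup.centralizer (R : Set G))
  have hCRQ : (Subgroup.centralizer (R : Set G)) ≤ (Subgroup.centralizer (Q : Set G)) := centralizer_antitone hQR
  obtain ⟨η, hη⟩ := block_nonempty hP hQf.2
  obtain ⟨ξ, hξ⟩ := block_nonempty hP hRg.2
  set F := subgroupBlockCoeff (Subgroup.centralizer (Q : Set G)) f with hF
  have hFe : F = extendByZero (Subgroup.centralizer (Q : Set G)) (blockCoeff f) := subgroupBlockCoeff_eq (Subgroup.centralizer (Q : Set G)) f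
  have hFI := isIntClassFun_blockCoeff hM hQf.2
  have hstab : ∀ u ∈ R, ∀ y, F (u * y * u⁻¹) = F y := by
    intro u hu y
    rw [hFe]
    by_cases hy : y ∈ (Subgroup.centralizer (Q : Set G))
    · have hy' : u * y * u⁻¹ ∈ (Subgroup.centralizer (Q : Set G)) := conj_mem_centralizer (hRN hu) hy
      rw [extendByZero_mem _ _ hy, extendByZero_mem _ _ hy']
      rw [blockCoeff, blockCoeff]
      congr 1
      have hf : ∀ χ ∈ f, ∃ χ' ∈ f, IsConjCharOf (Subgroup.centralizer (Q : Set G)) u (χ : (Subgroup.centralizer (Q : Set G)) → ℂ) (χ' : (Subgroup.centralizer (Q : Set G)) → ℂ) := (hst u hu).2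
      choose φ hφ hφc using hf
      have hbij : Set.BijOn (fun χ => if h : χ ∈ f then φ χ h else χ) f f := by
        refine (Set.Finite.injOn_iff_bijOn_of_mapsTo (Set.toFinite f) fun χ hχ => by
          simp only [dif_pos hχ]; exact hφ χ hχ).mp fun χ hχ χ' hχ' he => ?_
        simp only [dif_pos hχ, dif_pos hχ'] at he
        refine Subtype.ext (funext fun c => ?_)
        have hc' : u * (c : G) * u⁻¹ ∈ (Subgroup.centralizer (Q : Set G)) := conj_mem_centralizer (hRN hu) c.2
        rw [← hφc χ hχ c ⟨_, hc'⟩ rfl, ← hφc χ' hχ' c ⟨_, hc'⟩ rfl, he]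
      symm
      refine finsum_mem_eq_of_bijOn _ hbij fun χ hχ => ?_
      simp only [dif_pos hχ]
      rw [hφc χ hχ ⟨y, hy⟩ ⟨_, hy'⟩ rfl, hφc χ hχ 1 1 (by simp)]
    · rw [extendByZero_not_mem _ _ hy, extendByZero_not_mem]
      intro h'
      exact hy (by simpa [mul_assoc] using conj_mem_centralizer (inv_mem (hRN hu)) h')
  have hstabC : ∀ a ∈ (Subgroup.centralizer (R : Set G)), ∀ y, F (a * y * a⁻¹) = F y := by
    intro a ha y
    rw [hFe]
    exact (ninv_extend hFI.1) a (hCRQ ha) y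
  have hFg : IsGoodFun M R F := ⟨fun x => hFe ▸ memLR_extendByZero hP hFI.2 x, hstab, hstabC⟩
  have hEr : ∀ x, MemLocalRing M (kInd K x) := fun x => by
    refine memLR_mul hP (memLR_inv_natCast hM hK) ?_
    simp only [subInd]; split_ifs
    exacts [memLR_one hP, memLR_zero hP]
  have hEinv : ∀ a : G, (∀ k ∈ K, a * k * a⁻¹ ∈ K) → (∀ k ∈ K, a⁻¹ * k * a⁻¹⁻¹ ∈ K) →
      ∀ y, kInd K (a * y * a⁻¹) = kInd K y := by
    intro a ha ha' y
    simp only [kInd, Pi.smul_apply, subInd]
    by_cases hy : y ∈ K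
    · rw [if_pos hy, if_pos (ha y hy)]
    · rw [if_neg hy, if_neg fun h => hy (by simpa [mul_assoc] using ha' _ h)]
  have hEg : IsGoodFun M R (kInd K) := ⟨hEr, fun a ha => hEinv a (hKR a ha) (hKR _ (R.inv_mem ha)),
    fun a ha => hEinv a (hKn a (hCRQ ha)) (hKn _ (hCRQ (Subgroup.inv_mem (Subgroup.centralizer (R : Set G)) ha)))⟩
  -- the product is a multiple of the idempotent
  set t : ℂ := lam (η : (Subgroup.centralizer (Q : Set G)) → ℂ) (fun c : (Subgroup.centralizer (Q : Set G)) => kInd K (c : G)) with ht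
  have hcardQ : MemLocalIdeal M ((Nat.card K : ℂ) - Nat.card (K.subgroupOf (Subgroup.centralizer (Q : Set G)))) := by
    rw [Nat.card_congr (Subgroup.subgroupOfEquivOfLe hKC).toEquiv, sub_self]
    exact memLI_zero hP
  have hEcl : IsClassFunction (Subgroup.centralizer (Q : Set G)) (fun c : (Subgroup.centralizer (Q : Set G)) => kInd K (c : G)) := fun a k =>
    hEinv k (hKn k k.2) (hKn _ (Subgroup.inv_mem (Subgroup.centralizer (Q : Set G)) k.2)) a
  have hconst : ∀ η' ∈ f, lam (η' : (Subgroup.centralizer (Q : Set G)) → ℂ) (fun c : (Subgroup.centralizer (Q : Set G)) => kInd K (c : G)) = t := by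
    intro η' hη'
    haveI := normal_subgroupOf_of K (Subgroup.centralizer (Q : Set G)) hKn
    rw [ht, kInd_trunc, lam_smul, lam_smul]
    have hS : ¬ p ∣ Nat.card (K.subgroupOf (Subgroup.centralizer (Q : Set G))) := by
      rwa [Nat.card_congr (Subgroup.subgroupOfEquivOfLe hKC).toEquiv]
    rcases lam_subInd_cases hP (K.subgroupOf (Subgroup.centralizer (Q : Set G))) η with h0 | h0 <;>
      rcases lam_subInd_cases hP (K.subgroupOf (Subgroup.centralizer (Q : Set G))) η' with h1 | h1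
    · rw [h0, h1]
    · exact absurd ((trivial_on_iff_lam _ _).mp (trivial_on_of_sameBlock hM _ hS
        (block_sameBlock hP hQf.2 hη' hη) ((trivial_on_iff_lam _ _).mpr h1)))
        (by rw [h0]; exact fun h2 => Nat.card_pos.ne' (Nat.cast_eq_zero.mp h2.symm))
    · exact absurd ((trivial_on_iff_lam _ _).mp (trivial_on_of_sameBlock hM _ hS
        (block_sameBlock hP hQf.2 hη hη') ((trivial_on_iff_lam _ _).mpr h0)))
        (by rw [h1]; exact fun h2 => Nat.card_pos.ne' (Nat.cast_eq_zero.mp h2.symm))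
    · rw [h0, h1]
  have hprod : conv F (kInd K) = t • F := by
    have hext : kInd K = extendByZero (Subgroup.centralizer (Q : Set G)) (fun c : (Subgroup.centralizer (Q : Set G)) => kInd K (c : G)) :=
      eq_extend_of_support hKC
    rw [hFe]
    conv_lhs => rw [hext, extendByZero_conv]
    have h2 : conv (blockCoeff f) (fun c : (Subgroup.centralizer (Q : Set G)) => kInd K (c : G)) = t • blockCoeff f := by
      have hc := isClassFunction_conv hFI.1 hEcl
      rw [classFun_eq_sum_idem hc]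
      conv_rhs => rw [blockCoeff_eq, Finset.smul_sum, Finset.sum_filter]
      refine Finset.sum_congr rfl fun χ _ => ?_
      rw [lam_conv χ.2 hFI.1 hEcl, lam_blockCoeff]
      split_ifs with hm
      · rw [one_mul, hconst χ hm]
      · rw [zero_mul, zero_smul]
    rw [h2]
    funext x
    by_cases hx : x ∈ (Subgroup.centralizer (Q : Set G))
    · rw [Pi.smul_apply, extendByZero_mem _ _ hx, extendByZero_mem _ _ hx]; rfl
    · rw [Pi.smul_apply, extendByZero_not_mem _ _ hx, extendByZero_not_mem _ _ hx, smul_zero]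
  -- reduce at R
  have htrF : MemLocalIdeal M (lam (ξ : (Subgroup.centralizer (R : Set G)) → ℂ) (tr R F) - 1) := by
    have := hone ξ hξ; rwa [brauerOmega_eq] at this
  have hsub : MemLocalIdeal M (lam (ξ : (Subgroup.centralizer (R : Set G)) → ℂ) (tr R (conv F (kInd K))) -
      lam (ξ : (Subgroup.centralizer (R : Set G)) → ℂ) (tr R F) * lam (ξ : (Subgroup.centralizer (R : Set G)) → ℂ) (tr R (kInd K))) := by
    rw [← lam_conv ξ.2 hFg.tr.1 hEg.tr.1, ← lam_sub]
    refine memLI_lam hP ξ.2 ?_ fun x => tr_conv hM hRg.1 hFg hEg x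
    intro a k
    simp only [Pi.sub_apply, (hFg.conv hP hEg).tr.1 a k, isClassFunction_conv hFg.tr.1 hEg.tr.1 a k]
  have htE : MemLocalRing M (lam (ξ : (Subgroup.centralizer (R : Set G)) → ℂ) (tr R (kInd K))) := memLR_lam hP ξ.2 hEg.tr.1 hEg.tr.2
  rw [hprod, show tr R (t • F) = t • tr R F from rfl, lam_smul] at hsub
  have hkey : MemLocalIdeal M (t - lam (ξ : (Subgroup.centralizer (R : Set G)) → ℂ) (tr R (kInd K))) := by
    have htm : MemLocalRing M t := memLR_lam hP η.2 hEcl fun c => hEr _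
    have e : t - lam (ξ : (Subgroup.centralizer (R : Set G)) → ℂ) (tr R (kInd K)) =
        (t * lam (ξ : (Subgroup.centralizer (R : Set G)) → ℂ) (tr R F) - lam (ξ : (Subgroup.centralizer (R : Set G)) → ℂ) (tr R F) * lam (ξ : (Subgroup.centralizer (R : Set G)) → ℂ) (tr R (kInd K)))
        - (t - lam (ξ : (Subgroup.centralizer (R : Set G)) → ℂ) (tr R (kInd K))) * (lam (ξ : (Subgroup.centralizer (R : Set G)) → ℂ) (tr R F) - 1) := by ring
    rw [e]
    exact memLI_sub hP hsub (memLI_mul_left hP (memLR_sub hP htm htE) htrF)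
  have hcR := lam_kInd_cases hM (C := (Subgroup.centralizer (R : Set G))) (fun c hc => hKn c (hCRQ hc)) hK
    (card_inf_centralizer_congr hM K R hRg.1 hKR) hRg.2 hξ
  have hcQ := lam_kInd_cases hM (C := (Subgroup.centralizer (Q : Set G))) hKn hK hcardQ hQf.2 hη
  rcases hcQ with ⟨hq, hqv⟩ | ⟨hq, hqv⟩ <;> rcases hcR with ⟨hr, hrv⟩ | ⟨hr, hrv⟩
  · exact iff_of_true hq hr
  · exfalso
    rw [show lam (ξ : (Subgroup.centralizer (R : Set G)) → ℂ) (tr R (kInd K)) = 0 from hrv] at hkey
    have h5 : MemLocalIdeal M (t - 0) := hkey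
    rw [sub_zero] at h5
    rw [← ht] at hqv
    exact memLI_one_iff hP (by simpa using memLI_sub hP h5 hqv)
  · exfalso
    have h5 : MemLocalIdeal M (t - lam (ξ : (Subgroup.centralizer (R : Set G)) → ℂ) (fun c : (Subgroup.centralizer (R : Set G)) => kInd K (c : G))) := hkey
    rw [ht, hqv, zero_sub] at h5
    exact memLI_one_iff hP (by simpa using memLI_sub hP (memLI_neg hP h5) hrv)
  · exact iff_of_false hq hr

end Cfsg.Agent.Char
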