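import Cfsg.Agent.Lib.Char.DegreesBelowPrime
import Cfsg.Agent.Lib.Char.PrimeSylowPrincipal
import Cfsg.Agent.Lib.Char.RootUnityValues
import Cfsg.Agent.Lib.Char.Burnside

/-!
# Groups whose nonlinear irreducible degrees are primes
-/

set_option autoImplicit false
set_option linter.unusedSectionVars false
set_option linter.style.haveILetI false

namespace Cfsg.Agent.Char.PrimeDegrees

open Cfsg
open scoped ComplexConjugate commutatorElement

universe u

/-- The nonlinear degrees are primes. -/
def PrimeDeg (G : Type u) [Group G] : Prop :=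
  ∀ χ : IrrCharacter G, deg (χ : G → ℂ) = 1 ∨ (deg (χ : G → ℂ)).Prime

variable {G : Type u} [Group G] [Fintype G]

theorem deg_dvd_of_constituent (N : Subgroup G) [N.Normal] [Fintype N] {χ : IrrCharacter G}
    {θ : IrrCharacter N} (h : classInner (fun n : N => (χ : G → ℂ) n) (θ : N → ℂ) ≠ 0) :
    deg (θ : N → ℂ) ∣ deg (χ : G → ℂ) := by
  classical
  obtain ⟨c, hc⟩ := classInner_natCast (isCharacter_comp N.subtype (irr_isCharacter χ.2))
    (irr_isCharacter θ.2)
  have hc' : classInner (fun n : N => (χ : G → ℂ) n) (θ : N → ℂ) = c := hc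
  have h1 := congrFun (clifford_restrict χ θ h) 1
  rw [hc', OneMemClass.coe_one, Pi.smul_apply, Finset.sum_apply, smul_eq_mul,
    char_one_eq_deg (irr_isCharacter χ.2),
    Finset.sum_congr rfl (g := fun _ => (deg (θ : N → ℂ) : ℂ)) fun ψ hψ => by
      obtain ⟨g, rfl⟩ := mem_cliffOrbit.mp hψ
      rw [← char_one_eq_deg (irr_isCharacter θ.2)]
      simp,
    Finset.sum_const, nsmul_eq_mul] at h1
  exact ⟨c * (cliffOrbit N θ).card, by
    have : deg (χ : G → ℂ) = c * ((cliffOrbit N θ).card * deg (θ : N → ℂ)) := by exact_mod_cast h1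
    rw [this]; ring⟩

theorem primeDeg_normal (h : PrimeDeg G) (N : Subgroup G) [N.Normal] [Fintype N] : PrimeDeg N := by
  intro θ
  obtain ⟨χ, hχ⟩ := exists_constituent_over N θ
  have hd := deg_dvd_of_constituent N hχ
  rcases h χ with e | e
  · exact Or.inl (Nat.dvd_one.1 (e ▸ hd))
  · rcases (Nat.dvd_prime e).1 hd with e' | e'
    · exact Or.inl e'
    · exact Or.inr (e'.symm ▸ e)

theorem primeDeg_quotient (h : PrimeDeg G) (N : Subgroup G) [N.Normal] [Fintype (G ⧸ N)] :
    PrimeDeg (G ⧸ N) := by
  intro ψ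
  have h2 : deg ((inflateEquiv N ψ).1 : G → ℂ) = deg (ψ : G ⧸ N → ℂ) := Nat.cast_injective (R := ℂ) (by
    rw [← char_one_eq_deg (irr_isCharacter (inflateEquiv N ψ).1.2),
      ← char_one_eq_deg (irr_isCharacter ψ.2), inflateEquiv_apply, QuotientGroup.mk_one])
  exact h2 ▸ h (inflateEquiv N ψ).1

/-- A simple nonabelian group has a nonlinear character of composite degree. -/
theorem not_simple (h : PrimeDeg G) [IsSimpleGroup G] (hna : ¬ ∀ a b : G, a * b = b * a) :
    False := by
  classical
  have hcen : Subgroup.center G = ⊥ := by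
    rcases Subgroup.Normal.eq_bot_or_eq_top (inferInstance : (Subgroup.center G).Normal) with e | e
    · exact e
    · exact absurd (fun a b => (Subgroup.mem_center_iff.mp (e ▸ Subgroup.mem_top b) a)) hna
  have hcomm : commutator G = ⊤ := by
    rcases Subgroup.Normal.eq_bot_or_eq_top (inferInstance : (commutator G).Normal) with e | e
    · exact absurd (fun a b => ((commutator_eq_bot_iff G).1 e).1.comm a b) hna
    · exact e
  -- a nontrivial character is faithful and nonlinear
  have hnl : ∀ χ : IrrCharacter G, (χ : G → ℂ) ≠ (fun _ => 1) →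
      (deg (χ : G → ℂ)).Prime ∧ ∀ g : G, (χ : G → ℂ) g = (χ : G → ℂ) 1 → g = 1 := by
    intro χ hχ
    have hdeg : deg (χ : G → ℂ) ≠ 1 := fun e => by
      obtain ⟨l, hl⟩ := exists_hom_of_degree_one (irr_isCharacter χ.2)
        (by rw [char_one_eq_deg (irr_isCharacter χ.2), e, Nat.cast_one])
      refine hχ (hl.trans (funext fun g => ?_))
      have : g ∈ l.ker := Abelianization.commutator_subset_ker l (hcomm ▸ Subgroup.mem_top g)
      rw [MonoidHom.mem_ker.1 this, Units.val_one]
    refine ⟨(h χ).resolve_left hdeg, fun g hg => ?_⟩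
    obtain ⟨n, ρ, hρ, e⟩ := χ.2
    rcases (inferInstance : ρ.ker.Normal).eq_bot_or_eq_top with hb | ht
    · rw [← e, Representation.char_one, eq_id_iff] at hg
      exact Subgroup.mem_bot.1 (hb ▸ MonoidHom.mem_ker.2 hg)
    · exfalso
      have htriv : ∀ x, ρ x = LinearMap.id := fun x =>
        MonoidHom.mem_ker.mp (ht ▸ Subgroup.mem_top x : x ∈ ρ.ker)
      exact hdeg (by rw [← e, deg_character]; exact finrank_eq_one_of_trivial hρ htriv)
  have hne : 1 < Nat.card G := Finite.one_lt_card
  obtain ⟨q, hqmem, hqmax⟩ := Finset.exists_max_image (Nat.card G).primeFactors id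
    ⟨_, Nat.mem_primeFactors.2 ⟨Nat.minFac_prime hne.ne', Nat.minFac_dvd _, by omega⟩⟩
  simp only [id] at hqmax
  obtain ⟨hq, hqd, -⟩ := Nat.mem_primeFactors.1 hqmem
  haveI := Fact.mk hq
  have hle : ∀ s : ℕ, s.Prime → s ∣ Nat.card G → s ≤ q := fun s hs hd =>
    hqmax s (Nat.mem_primeFactors.2 ⟨hs, hd, by omega⟩)
  have hdegle : ∀ χ : IrrCharacter G, deg (χ : G → ℂ) ≤ q := by
    intro χ
    rcases h χ with e | e
    · rw [e]; exact hq.one_le
    · exact hle _ e (deg_dvd_card χ.2)
  have hnotsol : ¬ Group.IsSolvable G := fun hs => by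
    haveI := hs
    exact (Group.IsSolvable.commutator_lt_top_of_nontrivial G).ne hcomm
  have hq5 : 5 ≤ q := by
    by_contra hlt
    refine hnotsol (isSolvable_of_two_primes Nat.prime_two Nat.prime_three _ rfl fun s hs hsd => ?_)
    have h5 := hle s hs hsd
    have h2 := hs.two_le
    have : s ≤ 4 := by omega
    interval_cases s
    · exact Or.inl rfl
    · exact Or.inr rfl
    · norm_num at hs
  obtain ⟨Q⟩ : Nonempty (Sylow q G) := inferInstance
  have hQne : (Q : Subgroup G) ≠ ⊥ := Q.ne_bot_of_dvd_card hqd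
  have hQnn : ¬ (Q : Subgroup G).Normal := fun hN => by
    rcases hN.eq_bot_or_eq_top with e | e
    · exact hQne e
    · refine hnotsol ?_
      haveI : Group.IsNilpotent G := (Q.isPGroup'.of_equiv
        ((MulEquiv.subgroupCongr e).trans Subgroup.topEquiv)).isNilpotent
      infer_instance
  -- some character has degree `q`
  obtain ⟨χq, hχq⟩ : ∃ χ : IrrCharacter G, deg (χ : G → ℂ) = q := by
    by_contra hno
    push Not at hno
    exact hQnn (DegBelow.main (p := q) (Nat.card G) G rfl
      (fun χ => lt_of_le_of_ne (hdegle χ) (hno χ)) Q)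
  -- some nontrivial character has smaller degree
  set e1 : IrrCharacter G := ⟨fun _ => 1, isIrrCharacter_one⟩
  obtain ⟨χd, hχd1, hχd⟩ : ∃ χ : IrrCharacter G, χ ≠ e1 ∧ deg (χ : G → ℂ) < q := by
    by_contra hno
    push Not at hno
    have hs := sum_sq_deg (G := G)
    rw [← Finset.add_sum_erase _ _ (Finset.mem_univ e1)] at hs
    have hall : ∀ χ ∈ Finset.univ.erase e1, ((χ : G → ℂ) 1) ^ 2 = ((q * q : ℕ) : ℂ) := fun χ hχ => by
      rw [char_one_eq_deg (irr_isCharacter χ.2),
        le_antisymm (hdegle χ) (hno χ (Finset.mem_erase.1 hχ).1)]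
      push_cast; ring
    rw [Finset.sum_congr rfl hall, Finset.sum_const, nsmul_eq_mul, show ((e1 : G → ℂ) 1) = 1 from rfl,
      one_pow] at hs
    have hs' : Nat.card G = 1 + (Finset.univ.erase e1).card * (q * q) := by exact_mod_cast hs.symm
    rw [hs'] at hqd
    exact hq.ne_one (Nat.dvd_one.1 ((Nat.dvd_add_left
      ((dvd_mul_right q q).mul_left _)).1 hqd))
  obtain ⟨hdp, hdfaith⟩ := hnl χd fun e => hχd1 (Subtype.ext e)
  -- the Sylow subgroup is abelian
  haveI := Fintype.ofFinite (Q : Subgroup G)
  have hQab : ∀ a ∈ (Q : Subgroup G), ∀ b ∈ (Q : Subgroup G), a * b = b * a := by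
    intro a ha b hb
    set c : (Q : Subgroup G) := ⁅(⟨a, ha⟩ : (Q : Subgroup G)), ⟨b, hb⟩⁆ with hc
    have hv : (χd : G → ℂ) (c : G) = (χd : G → ℂ) 1 := by
      refine SolvDiv.value_of_constituents χd (Q : Subgroup G) fun θ hθ => ?_
      obtain ⟨k, hk⟩ := IsPGroup.iff_card.mp Q.isPGroup'
      obtain ⟨j, -, hj⟩ := (Nat.dvd_prime_pow hq).mp (hk ▸ deg_dvd_card θ.2)
      have hjle : deg (θ : ↥(Q : Subgroup G) → ℂ) ≤ deg (χd : G → ℂ) := by
        have h1 := degree_le_of_classInner_ne_zero
          (isCharacter_comp (Q : Subgroup G).subtype (irr_isCharacter χd.2)) θ hθ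
        rwa [char_one_eq_deg (irr_isCharacter θ.2),
          show ((χd : G → ℂ) ∘ (Q : Subgroup G).subtype) 1 = (χd : G → ℂ) 1 from
            congrArg _ (map_one (Q : Subgroup G).subtype),
          char_one_eq_deg (irr_isCharacter χd.2), Complex.natCast_re, Complex.natCast_re,
          Nat.cast_le] at h1
      have hj0 : j = 0 := by
        by_contra h0
        have := hj ▸ Nat.le_self_pow h0 q
        omega
      obtain ⟨l, hl⟩ := exists_hom_of_degree_one (irr_isCharacter θ.2)
        (by rw [char_one_eq_deg (irr_isCharacter θ.2), hj, hj0, pow_zero, Nat.cast_one])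
      have h1 : l c = 1 := by
        rw [hc, map_commutatorElement, commutatorElement_eq_one_iff_mul_comm, mul_comm]
      rw [hl]
      show ((l c : ℂˣ) : ℂ) = ((l 1 : ℂˣ) : ℂ)
      rw [h1, map_one]
    have := hdfaith _ hv
    rw [hc] at this
    exact commutatorElement_eq_one_iff_mul_comm.mp this
  -- it has order `q`
  have hQcard : Nat.card Q = q := by
    obtain ⟨-, hqfaith⟩ := hnl χq fun e => by
      have h1 := char_one_eq_deg (irr_isCharacter χq.2)
      rw [hχq, e] at h1
      exact hq.ne_one (Nat.cast_eq_one.1 h1.symm)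
    have hz : ∀ y : (Q : Subgroup G), y ≠ 1 → (χq : G → ℂ) (y : G) = 0 := by
      intro y hy
      obtain ⟨n, ρ, hρ, e⟩ := id χq.2
      have hcop : Nat.Coprime q (Subgroup.centralizer ({(y : G)} : Set G)).index := by
        refine (hq.coprime_iff_not_dvd).2 fun hd => Q.not_dvd_index (hd.trans
          (Subgroup.index_dvd_of_le fun g hg => Subgroup.mem_centralizer_singleton_iff.2
            (hQab g hg y y.2)))
      have hfr : Module.finrank ℂ (Fin n → ℂ) = q := by rw [← deg_character ρ, e, hχq]
      rcases vanish_or_full ρ hρ (y : G) (by rwa [hfr]) with h0 | h0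
      · rw [← e]; exact h0
      · exfalso
        have h2 : ‖(χq : G → ℂ) (y : G)‖ = (deg (χq : G → ℂ) : ℝ) := by
          rw [hχq]; rw [e, hfr] at h0; exact h0
        have := RootValues.mem_center_of_norm χq hqfaith h2
        rw [hcen, Subgroup.mem_bot] at this
        exact hy (Subtype.ext this)
    obtain ⟨t, ht⟩ := classInner_natCast
      (isCharacter_comp (Q : Subgroup G).subtype (irr_isCharacter χq.2))
      (irr_isCharacter (isIrrCharacter_one (G := (Q : Subgroup G))))
    rw [classInner, Finset.sum_eq_single (1 : (Q : Subgroup G))] at ht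
    rotate_left
    · intro y _ hy
      rw [Function.comp_apply, Subgroup.coe_subtype, hz y hy, zero_mul]
    · intro hn; exact absurd (Finset.mem_univ _) hn
    rw [Function.comp_apply, map_one, map_one, mul_one, char_one_eq_deg (irr_isCharacter χq.2), hχq] at ht
    have hQ0 : (Nat.card (Q : Subgroup G) : ℂ) ≠ 0 := Nat.cast_ne_zero.2 Nat.card_pos.ne'
    have hdvd : Nat.card (Q : Subgroup G) ∣ q := ⟨t, by
      have : (q : ℂ) = (Nat.card (Q : Subgroup G) : ℂ) * t := by
        rw [← ht, mul_inv_cancel_left₀ hQ0]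
      exact_mod_cast this⟩
    rcases (Nat.dvd_prime hq).1 hdvd with e | e
    · exact absurd (Subgroup.card_eq_one.1 e) hQne
    · exact e
  obtain ⟨M, hM⟩ := exists_pModular hq
  obtain ⟨X, Y, a, δ, hpp⟩ := exists_prime_principal (P := Q) hM hQcard rfl
  have hX : X.card ≤ 1 := by
    refine Finset.card_le_one.2 fun χ hχ ψ hψ => ?_
    have key : ∀ η ∈ X, η = e1 := by
      intro η hη
      by_contra hne'
      obtain ⟨hp', -⟩ := hnl η fun e => hne' (Subtype.ext e)
      have hc := hpp.a_congr η hη
      have hd : charDegree (η : G → ℂ) = deg (η : G → ℂ) := rfl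
      rw [hd] at hc
      have hl := hdegle η
      have h2 := hp'.two_le
      rcases hpp.a_sign η hη with e | e <;> rw [e] at hc <;> rw [Int.modEq_iff_dvd] at hc
      · have hd' : (q : ℤ) ∣ (deg (η : G → ℂ) : ℤ) - 1 := by
          rw [← dvd_neg]; simpa using hc
        have := Int.le_of_dvd (by omega) hd'
        omega
      · have hd' : (q : ℤ) ∣ (deg (η : G → ℂ) : ℤ) + 1 := by
          rw [← dvd_neg]; simpa [sub_eq_add_neg, add_comm] using hc
        have := Int.le_of_dvd (by omega) hd'
        rcases eq_or_lt_of_le hl with e' | e'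
        · rw [e'] at hd'
          have h3 : (q : ℤ) ∣ 1 := (Int.dvd_add_right (dvd_refl _)).1 hd'
          exact hq.ne_one (Nat.dvd_one.1 (by exact_mod_cast h3))
        · have e2 : deg (η : G → ℂ) = q - 1 := by omega
          rcases hp'.eq_two_or_odd' with e3 | e3
          · omega
          · rcases hq.eq_two_or_odd' with e4 | e4
            · omega
            · rw [e2] at e3
              obtain ⟨u, hu⟩ := e3
              obtain ⟨v, hv⟩ := e4
              omega
    rw [key χ hχ, key ψ hψ]
  rw [hpp.cardX] at hX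
  -- hence a normal complement
  have hrel : (Subgroup.centralizer ((Q : Subgroup G) : Set G)).relIndex
      (Subgroup.normalizer ((Q : Subgroup G) : Set G)) = 1 := by
    have hne0 : (Subgroup.centralizer ((Q : Subgroup G) : Set G)).relIndex
      (Subgroup.normalizer ((Q : Subgroup G) : Set G)) ≠ 0 := Subgroup.index_ne_zero_of_finite
    omega
  have hNC := Subgroup.relIndex_eq_one.1 hrel
  have hcompl := MonoidHom.ker_transferSylow_isComplement' Q hNC
  rcases (MonoidHom.normal_ker (MonoidHom.transferSylow Q hNC)).eq_bot_or_eq_top with e | e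
  · rw [e] at hcompl
    exact hQnn (by rw [Subgroup.isComplement'_bot_left.1 hcompl]; infer_instance)
  · rw [e] at hcompl
    exact hQne (Subgroup.isComplement'_top_left.1 hcompl)

/-- Solvability. -/
theorem isSolvable : ∀ (n : ℕ) (G : Type u) [Group G] [Fintype G], Nat.card G = n → PrimeDeg G →
    Group.IsSolvable G := by
  intro n
  induction n using Nat.strong_induction_on with
  | _ n ih =>
    intro G _ _ hn h
    classical
    rcases subsingleton_or_nontrivial G with hs | hs
    · infer_instance
    by_cases hsimp : IsSimpleGroup G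
    · by_cases hab : ∀ a b : G, a * b = b * a
      · letI : CommGroup G := { ‹Group G› with mul_comm := hab }
        infer_instance
      · exact (not_simple h hab).elim
    obtain ⟨N, hN, hN0, hN1⟩ : ∃ N : Subgroup G, N.Normal ∧ N ≠ ⊥ ∧ N ≠ ⊤ := by
      by_contra hno
      push Not at hno
      exact hsimp ⟨fun N hN => or_iff_not_imp_left.2 fun h0 => hno N hN h0⟩
    haveI := hN
    haveI := Fintype.ofFinite N
    haveI := Fintype.ofFinite (G ⧸ N)
    haveI h1 : Group.IsSolvable N := by
      refine ih (Nat.card N) ?_ N rfl (primeDeg_normal h N)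
      rw [← hn]
      exact lt_of_le_of_ne (Subgroup.card_le_card_group N) fun e => hN1 (Subgroup.eq_top_of_card_eq N e)
    haveI h2 : Group.IsSolvable (G ⧸ N) := by
      refine ih (Nat.card (G ⧸ N)) ?_ (G ⧸ N) rfl (primeDeg_quotient h N)
      rw [← hn, ← N.card_mul_index, Subgroup.index]
      exact lt_mul_of_one_lt_left Nat.card_pos (Subgroup.one_lt_card_iff_ne_bot N |>.2 hN0)
    exact Group.isSolvable_of_ker_le_range N.subtype (QuotientGroup.mk' N) (by simp)

end Cfsg.Agent.Char.PrimeDegrees
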