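import Cfsg.Agent.Lib.Char.DegreeSplit
import Cfsg.Agent.Lib.Char.PSingularCount
import Cfsg.Agent.Lib.Char.TaketaBound
import Cfsg.Agent.Lib.Char.GlaubermanOver
import Cfsg.Agent.Lib.Char.PrimeDegrees
import Cfsg.Agent.Lib.Char.Central
import Cfsg.Agent.Lib.Char.Inflate
import Cfsg.Agent.Lib.Solv.Cores
import Cfsg.Agent.Lib.Solv.Basic
import Mathlib.Algebra.Group.Action.End

/-!
# Solvable groups with squarefree character degrees

An irreducible solvable group with squarefree orbit lengths has cyclic Fitting subgroup, so it is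
metabelian; hence the second derived subgroup is nilpotent, and it is metabelian by Taketa's bound.
-/

set_option autoImplicit false
set_option linter.unusedSectionVars false
set_option linter.style.haveILetI false
open scoped commutatorElement

namespace Cfsg.Agent.Char.SqfreeDeg

open Cfsg

universe u

theorem relIndex_dvd_index_normal {H : Type*} [Group H] [Finite H] (A K : Subgroup H) [K.Normal] :
    A.relIndex K ∣ A.index := by
  have e : A.relIndex K = A.relIndex (A ⊔ K) := by
    have h1 := Subgroup.card_mul_index (A.subgroupOf K)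
    have h2 := Subgroup.card_mul_index (A.subgroupOf (A ⊔ K))
    have h3 := Subgroup.card_mul_index (K.subgroupOf (K ⊔ A))
    have h4 := Subgroup.card_mul_index (K.subgroupOf A)
    have hc : ∀ B C : Subgroup H, Nat.card (B.subgroupOf C) = Nat.card (B ⊓ C : Subgroup H) :=
      fun B C => by
        rw [← Subgroup.inf_subgroupOf_right,
          Nat.card_congr (Subgroup.subgroupOfEquivOfLe (inf_le_right : B ⊓ C ≤ C)).toEquiv]
    rw [← Subgroup.relIndex, hc] at h1 h2 h3 h4
    rw [Subgroup.relIndex_sup_left] at h3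
    rw [inf_eq_left.2 le_sup_left] at h2
    rw [inf_eq_left.2 le_sup_left, sup_comm] at h3
    rw [inf_comm] at h4
    have hpos : 0 < Nat.card A := Nat.card_pos
    refine Nat.eq_of_mul_eq_mul_left hpos ?_
    rw [h2, ← h3, ← h4, ← h1]
    ring
  rw [e]
  exact ⟨(A ⊔ K).index, (Subgroup.relIndex_mul_index le_sup_left).symm⟩

/-- The action form: faithful, no nontrivial normal subgroup has fixed points, squarefree orbits. -/
theorem action_metabelian {H D : Type*} [Group H] [Finite H] [CommGroup D]
    (hH : Group.IsSolvable H) [MulDistribMulAction H D] [FaithfulSMul H D]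
    (hfix : ∀ N : Subgroup H, N.Normal → N ≠ ⊥ → ∀ d : D, (∀ n ∈ N, n • d = d) → d = 1)
    (hsq : ∀ d : D, Squarefree (MulAction.stabilizer H d).index) :
    derivedSeries H 2 = ⊥ := by
  classical
  have hone : ∀ s : H, (∀ d : D, s • d = d) → s = 1 := fun s hs =>
    eq_of_smul_eq_smul fun d : D => by rw [hs d, one_smul]
  -- each core has prime order at most
  have hcore : ∀ q : Nat.Primes, IsCyclic (Cfsg.pCore (q : ℕ) H) := by
    intro q
    haveI := Fact.mk q.2
    set R := Cfsg.pCore (q : ℕ) H with hR
    haveI hRn : R.Normal := Solv.pCore_normal _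
    have hRp : IsPGroup (q : ℕ) R := Solv.pCore_isPGroup _
    rcases eq_or_ne R ⊥ with hb | hb
    · exact isCyclic_of_card_dvd_prime (p := (q : ℕ)) (by rw [hb, Subgroup.card_bot]; exact one_dvd _)
    let S : D → Subgroup R := fun d => (MulAction.stabilizer H d).subgroupOf R
    have hmemS : ∀ (d : D) (r : R), r ∈ S d ↔ (r : H) • d = d := fun d r => Iff.rfl
    have hSi : ∀ d, (S d).index ∣ (q : ℕ) := by
      intro d
      have h1 : (S d).index ∣ (MulAction.stabilizer H d).index :=
        relIndex_dvd_index_normal _ _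
      obtain ⟨k, hk⟩ := hRp.index (S d)
      have h2 : Squarefree ((q : ℕ) ^ k) := hk ▸ Squarefree.squarefree_of_dvd h1 (hsq d)
      rw [hk]
      rcases Nat.lt_or_ge k 2 with h | h
      · exact (pow_dvd_pow _ (by omega : k ≤ 1)).trans (by rw [pow_one])
      · exact absurd (h2.squarefree_of_dvd (pow_dvd_pow _ h)) (by
          rw [pow_two]; exact fun hs => q.2.ne_one (Nat.isUnit_iff.1 (hs _ dvd_rfl)))
    have hSn : ∀ d, (S d).Normal := by
      intro d
      rcases (Nat.dvd_prime q.2).1 (hSi d) with h | h
      · rw [Subgroup.index_eq_one.1 h]; infer_instance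
      · have hc : (Nat.card R).minFac = (q : ℕ) := by
          obtain ⟨k, hk⟩ := IsPGroup.iff_card.1 hRp
          have hk0 : k ≠ 0 := fun h0 => hb (by rw [h0, pow_zero] at hk; exact Subgroup.card_eq_one.1 hk)
          rw [hk, Nat.pow_minFac hk0, q.2.minFac_eq]
        exact Subgroup.normal_of_index_eq_minFac_card (by rw [h, hc])
    have hpow : ∀ r : R, r ^ (q : ℕ) = 1 := fun r => Subtype.ext (hone _ fun d => by
      haveI := hSn d
      obtain ⟨c, hc⟩ := hSi d
      have : r ^ (q : ℕ) ∈ S d := by
        rw [hc, pow_mul]; exact (S d).pow_mem (Subgroup.pow_index_mem (S d) r) c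
      exact (hmemS d _).1 this)
    have hcomm : ∀ r s : R, r * s = s * r := fun r s => commutatorElement_eq_one_iff_mul_comm.1 <|
      Subtype.ext (hone _ fun d => by
        haveI := hSn d
        refine (hmemS d _).1 ((QuotientGroup.eq_one_iff _).1 ?_)
        haveI : IsCyclic (R ⧸ S d) := isCyclic_of_card_dvd_prime (p := (q : ℕ)) (hSi d)
        rw [commutatorElement_def, QuotientGroup.mk_mul, QuotientGroup.mk_mul, QuotientGroup.mk_mul,
          QuotientGroup.mk_inv, QuotientGroup.mk_inv]
        haveI := IsCyclic.isMulCommutative (α := R ⧸ S d)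
        rw [IsMulCommutative.is_comm.comm (r : R ⧸ S d) (s : R ⧸ S d)]
        group)
    have hprop : ∀ d : D, d ≠ 1 → S d ≠ ⊤ := fun d hd h =>
      hd (hfix R hRn hb d fun n hn => (hmemS d ⟨n, hn⟩).1 (h ▸ Subgroup.mem_top _))
    have hmax : ∀ d : D, ∀ T : Subgroup R, S d < T → T = ⊤ := fun d T hT => by
      have h1 : T.index ∣ (S d).index := Subgroup.index_dvd_of_le hT.le
      rcases (Nat.dvd_prime q.2).1 (h1.trans (hSi d)) with h | h
      · exact Subgroup.index_eq_one.1 h
      · exact absurd (Subgroup.index_strictAnti hT) (by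
          rw [h]; exact not_lt.2 (Nat.le_of_dvd q.2.pos (hSi d)))
    -- all stabilisers coincide
    have hall : ∀ a b : D, a ≠ 1 → b ≠ 1 → S a = S b := by
      intro a b ha hb'
      by_contra hne
      have hnot : ¬ S b ≤ S a := fun hle => hprop a ha (hmax b _ (lt_of_le_of_ne hle (Ne.symm hne)))
      have htop : S a ⊔ S b = ⊤ := hmax a _ (lt_of_le_of_ne le_sup_left fun h => hnot (h ▸ le_sup_right))
      have hkey : ∀ r : R, r ∈ S (a * b) → r ∈ S a ∧ r ∈ S b := by
        intro r hr
        have e0 : ((r : H) • a) * ((r : H) • b) = a * b := by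
          rw [← smul_mul']; exact (hmemS _ r).1 hr
        have e1 : a⁻¹ * ((r : H) • a) = b * ((r : H) • b)⁻¹ := by
          rw [eq_mul_inv_iff_mul_eq, mul_assoc, e0, inv_mul_cancel_left]
        have hfixed : ∀ x : D, ∀ t : R, (t : H) • x = x →
            (t : H) • (x⁻¹ * ((r : H) • x)) = x⁻¹ * ((r : H) • x) := by
          intro x t ht
          rw [smul_mul', smul_inv', ht, ← mul_smul,
            show (t : H) * (r : H) = (r : H) * (t : H) from congrArg Subtype.val (hcomm t r), mul_smul, ht]
        have hle : S a ⊔ S b ≤ S (a⁻¹ * ((r : H) • a)) := by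
          refine sup_le (fun t ht => (hmemS _ _).2 (hfixed a t ((hmemS a t).1 ht))) fun t ht => (hmemS _ _).2 ?_
          have hb2 : b * ((r : H) • b)⁻¹ = (b⁻¹ * ((r : H) • b))⁻¹ := by
            rw [mul_inv_rev, inv_inv, mul_comm]
          rw [e1, hb2, smul_inv', hfixed b t ((hmemS b t).1 ht)]
        have h1 : a⁻¹ * ((r : H) • a) = 1 := by
          by_contra h
          exact hprop _ h (eq_top_iff.2 (htop ▸ hle))
        refine ⟨(hmemS a r).2 (inv_mul_eq_one.1 h1).symm, (hmemS b r).2 ?_⟩
        rw [h1] at e1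
        exact (mul_inv_eq_one.1 e1.symm).symm
      have h1 : S (a * b) ≤ S a := fun r hr => (hkey r hr).1
      rcases eq_or_lt_of_le h1 with h | h
      · exact hnot ((h ▸ (fun r hr => (hkey r hr).2) : S a ≤ S b).lt_or_eq.elim
          (fun hlt => absurd (hmax a _ hlt) (hprop b hb')) (fun he => he ▸ le_rfl))
      · exact hprop a ha (hmax (a * b) _ h)
    obtain ⟨d0, hd0⟩ : ∃ d : D, d ≠ 1 := by
      by_contra h
      push Not at h
      exact hb ((Subgroup.eq_bot_iff_forall _).2 fun r _ => hone r fun d => by rw [h d, smul_one])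
    have hS0 : S d0 = ⊥ := (Subgroup.eq_bot_iff_forall _).2 fun r hr => Subtype.ext (hone _ fun d => by
      rcases eq_or_ne d 1 with rfl | hd
      · exact smul_one _
      · exact (hmemS d r).1 (hall d0 d hd0 hd ▸ hr))
    exact isCyclic_of_card_dvd_prime (p := (q : ℕ)) (by
      have := hSi d0
      rwa [hS0, Subgroup.index_bot] at this)
  -- the derived subgroup centralises every core
  haveI := Solv.fittingSubgroup_normal (G := H)
  set F := Cfsg.fittingSubgroup H with hF
  have h1 : commutator H ≤ Subgroup.centralizer (F : Set H) := by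
    rw [Subgroup.le_centralizer_iff, hF, Solv.fitting_eq_iSup_pCore]
    refine iSup_le fun q => ?_
    rw [Subgroup.le_centralizer_iff]
    haveI : (Cfsg.pCore (q : ℕ) H).Normal := Solv.pCore_normal _
    haveI := hcore q
    set φ : H →* MulAut (Cfsg.pCore (q : ℕ) H) := MulAut.conjNormal with hφ
    have hle : commutator H ≤ φ.ker := by
      rw [commutator_def, Subgroup.commutator_le]
      intro a _ b _
      rw [MonoidHom.mem_ker, map_commutatorElement, commutatorElement_eq_one_iff_mul_comm]
      exact (IsCyclic.mulAutMulEquiv _).injective (by rw [map_mul, map_mul, mul_comm])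
    refine hle.trans fun x hx => Subgroup.mem_centralizer_iff.2 fun r hr => ?_
    have h := congrArg Subtype.val (DFunLike.congr_fun (MonoidHom.mem_ker.1 hx) ⟨r, hr⟩)
    rw [MulAut.one_apply, hφ, MulAut.conjNormal_apply] at h
    exact (mul_inv_eq_iff_eq_mul.1 h).symm
  have h2 : commutator H ≤ F := h1.trans (Solv.centralizer_fitting_le hH)
  rw [derivedSeries_succ, derivedSeries_one, Subgroup.commutator_eq_bot_iff_le_centralizer]
  exact h2.trans (Subgroup.le_centralizer_iff.1 h1)

/-- Linear characters of a finite abelian group separate points. -/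
theorem separate {U : Type*} [Group U] [Finite U] (hU : ∀ a b : U, a * b = b * a) {u v : U}
    (h : ∀ l : U →* ℂˣ, l u = l v) : u = v := by
  letI : CommGroup U := { (inferInstance : Group U) with mul_comm := hU }
  rw [← div_eq_one]
  by_contra hne
  obtain ⟨l, hl⟩ := CommGroup.exists_apply_ne_one_of_hasEnoughRootsOfUnity U ℂ hne
  exact hl (by rw [map_div, h l, div_self'])

variable {G : Type u} [Group G]

theorem charDegree_squarefree_quotient [Finite G] (N : Subgroup G) [N.Normal]
    (h : ∀ χ : IrrCharacter G, Squarefree (charDegree (χ : G → ℂ))) :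
    ∀ χ : IrrCharacter (G ⧸ N), Squarefree (charDegree (χ : G ⧸ N → ℂ)) := by
  haveI := Fintype.ofFinite G
  haveI := Fintype.ofFinite (G ⧸ N)
  intro χ
  have hd : charDegree ((inflateEquiv N χ).1 : G → ℂ) = charDegree (χ : G ⧸ N → ℂ) := by
    unfold Cfsg.charDegree
    rw [inflateEquiv_apply, QuotientGroup.mk_one]
  exact hd ▸ h _

theorem orbit_dvd [Fintype G] (N : Subgroup G) [N.Normal] [Fintype N] (θ : IrrCharacter N) :
    ∃ χ : IrrCharacter G, (cliffOrbit N θ).card * deg (θ : N → ℂ) ∣ deg (χ : G → ℂ) := by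
  classical
  obtain ⟨χ, h⟩ := exists_constituent_over N θ
  obtain ⟨c, hc⟩ := classInner_natCast (isCharacter_comp N.subtype (irr_isCharacter χ.2))
    (irr_isCharacter θ.2)
  have hc' : classInner (fun n : N => (χ : G → ℂ) n) (θ : N → ℂ) = c := hc
  have h1 := congrFun (clifford_restrict χ θ h) 1
  rw [hc', OneMemClass.coe_one, Pi.smul_apply, Finset.sum_apply, smul_eq_mul,
    char_one_eq_deg (irr_isCharacter χ.2),
    Finset.sum_congr rfl (g := fun _ => (deg (θ : N → ℂ) : ℂ)) fun ψ hψ => by
      obtain ⟨g, rfl⟩ := mem_cliffOrbit.mp hψ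
      rw [← char_one_eq_deg (irr_isCharacter θ.2)]
      simp,
    Finset.sum_const, nsmul_eq_mul] at h1
  exact ⟨χ, c, by
    have : deg (χ : G → ℂ) = c * ((cliffOrbit N θ).card * deg (θ : N → ℂ)) := by exact_mod_cast h1
    rw [this]; ring⟩

theorem squarefree_normal [Fintype G] (h : ∀ χ : IrrCharacter G, Squarefree (deg (χ : G → ℂ)))
    (N : Subgroup G) [N.Normal] [Fintype N] (θ : IrrCharacter N) : Squarefree (deg (θ : N → ℂ)) := by
  obtain ⟨χ, hχ⟩ := orbit_dvd N θ
  exact (h χ).squarefree_of_dvd ((dvd_mul_left _ _).trans hχ)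

/-- The automorphism of the dual induced by conjugation. -/
noncomputable def dualConj (U : Subgroup G) [U.Normal] : G →* MulAut (↥U →* ℂˣ) where
  toFun g :=
    { toFun := fun l => l.comp (MulAut.conjNormal g⁻¹ : MulAut U).toMonoidHom
      invFun := fun l => l.comp (MulAut.conjNormal g : MulAut U).toMonoidHom
      left_inv := fun l => by ext u; simp
      right_inv := fun l => by ext u; simp
      map_mul' := fun l m => rfl }
  map_one' := by ext l u; simp
  map_mul' g h := by ext l u; simp

theorem dualConj_apply (U : Subgroup G) [U.Normal] (g : G) (l : ↥U →* ℂˣ) (u : U) :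
    dualConj U g l u = l (MulAut.conjNormal g⁻¹ u) := rfl

/-- The second derived subgroup centralises every minimal normal subgroup. -/
theorem derived_two_centralizes [Finite G] (hs : Group.IsSolvable G)
    (h : ∀ χ : IrrCharacter G, Squarefree (charDegree (χ : G → ℂ))) (U : Subgroup G) [U.Normal]
    (hU : ∀ a b : U, a * b = b * a) (hmin : ∀ K : Subgroup G, K.Normal → K ≤ U → K = ⊥ ∨ K = U) :
    derivedSeries G 2 ≤ Subgroup.centralizer (U : Set G) := by
  classical
  haveI := Fintype.ofFinite G
  haveI := Fintype.ofFinite U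
  set φ := dualConj U with hφ
  have hker : φ.ker ≤ Subgroup.centralizer (U : Set G) := by
    intro g hg
    refine Subgroup.mem_centralizer_iff.2 fun u hu => ?_
    have h1 : MulAut.conjNormal g⁻¹ (⟨u, hu⟩ : U) = ⟨u, hu⟩ := separate hU fun l => by
      rw [← dualConj_apply U g l, ← hφ, MonoidHom.mem_ker.1 hg, MulAut.one_apply]
    have h2 := congrArg Subtype.val h1
    rw [MulAut.conjNormal_apply, inv_inv] at h2
    calc u * g = g * (g⁻¹ * u * g) := by group
      _ = g * u := by rw [h2]
  haveI : Finite φ.range := Finite.of_surjective _ φ.rangeRestrict_surjective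
  letI : MulDistribMulAction φ.range (↥U →* ℂˣ) :=
    { smul := fun x l => (x : MulAut (↥U →* ℂˣ)) l
      one_smul := fun _ => rfl
      mul_smul := fun _ _ _ => rfl
      smul_mul := fun x l m => map_mul (x : MulAut (↥U →* ℂˣ)) l m
      smul_one := fun x => map_one (x : MulAut (↥U →* ℂˣ)) }
  have hsm : ∀ (x : φ.range) (l : ↥U →* ℂˣ), x • l = (x : MulAut (↥U →* ℂˣ)) l := fun _ _ => rfl
  haveI : FaithfulSMul φ.range (↥U →* ℂˣ) := ⟨fun {a b} hab => Subtype.ext (MulEquiv.ext fun l => by
    rw [← hsm a l, ← hsm b l]; exact hab l)⟩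
  have hmain := action_metabelian (H := φ.range) (D := ↥U →* ℂˣ)
    (Group.isSolvable_of_surjective φ.rangeRestrict_surjective) ?_ ?_
  · intro x hx
    refine hker (MonoidHom.mem_ker.2 ?_)
    have h1 : φ.rangeRestrict x ∈ derivedSeries φ.range 2 :=
      map_derivedSeries_le_derivedSeries φ.rangeRestrict 2 ⟨x, hx, rfl⟩
    rw [hmain, Subgroup.mem_bot] at h1
    exact congrArg Subtype.val h1
  · intro N hN hNb l hl
    haveI := hN
    set M := N.comap φ.rangeRestrict with hM
    rcases hmin ⁅U, M⁆ inferInstance (Subgroup.commutator_le_left U M) with h0 | h0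
    · refine absurd ((Subgroup.eq_bot_iff_forall _).2 fun n hn => ?_) hNb
      obtain ⟨g, rfl⟩ := φ.rangeRestrict_surjective n
      refine Subtype.ext (MulEquiv.ext fun m => MonoidHom.ext fun u => ?_)
      change dualConj U g m u = m u
      rw [dualConj_apply]
      congr 1
      refine Subtype.ext ?_
      have hg : g ∈ Subgroup.centralizer (U : Set G) :=
        (Subgroup.commutator_eq_bot_iff_le_centralizer.1 ((Subgroup.commutator_comm M U).trans h0))
          (show g ∈ M from hn)
      rw [MulAut.conjNormal_apply, inv_inv, mul_assoc, Subgroup.mem_centralizer_iff.1 hg u u.2,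
        inv_mul_cancel_left]
    · refine MonoidHom.ext fun u => ?_
      have hle : ⁅U, M⁆ ≤ (l.ker).map U.subtype := by
        refine Subgroup.commutator_le.2 fun v hv g hg => ?_
        refine ⟨⁅(⟨v, hv⟩ : U), ⟨v, hv⟩⁆ * ((⟨v, hv⟩ : U) * MulAut.conjNormal g (⟨v, hv⟩ : U)⁻¹), ?_, ?_⟩
        · rw [SetLike.mem_coe, MonoidHom.mem_ker, commutatorElement_self, one_mul, map_mul,
            map_inv, map_inv, mul_inv_eq_one]
          have h1 := DFunLike.congr_fun
            (hl ((φ.rangeRestrict g)⁻¹) (N.inv_mem hg)) (⟨v, hv⟩ : U)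
          rw [hsm, ← map_inv, MonoidHom.coe_rangeRestrict] at h1
          rw [hφ, dualConj_apply, inv_inv] at h1
          exact h1.symm
        · simp [commutatorElement_def, MulAut.conjNormal_apply, mul_assoc]
      obtain ⟨w, hw, hwu⟩ := hle (h0.ge u.2)
      have : u = w := Subtype.ext hwu.symm
      rw [this, MonoidHom.one_apply]
      exact MonoidHom.mem_ker.1 hw
  · intro l
    let θ : IrrCharacter U := ⟨fun u => (l u : ℂ), isIrrCharacter_linear l⟩
    obtain ⟨χ, hχ⟩ := orbit_dvd U θ
    have hcard : (MulAction.stabilizer φ.range l).index = (cliffOrbit U θ).card := by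
      rw [MulAction.index_stabilizer, ← Nat.card_coe_set_eq, ← Nat.card_eq_finsetCard]
      let f : MulAction.orbit φ.range l → (cliffOrbit U θ : Finset _) := fun m =>
        ⟨⟨fun u => ((m : ↥U →* ℂˣ) u : ℂ), isIrrCharacter_linear _⟩, by
          obtain ⟨⟨_, g, rfl⟩, hm⟩ := m.2
          refine mem_cliffOrbit.2 ⟨g⁻¹, Subtype.ext (funext fun u => ?_)⟩
          rw [irrComp_apply]
          simp only [← hm]
          rfl⟩
      refine Nat.card_eq_of_bijective f ⟨fun m m' he => Subtype.ext (MonoidHom.ext fun u =>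
        Units.ext (congrFun (congrArg Subtype.val (congrArg Subtype.val he)) u)), fun ψ => ?_⟩
      obtain ⟨g, hg⟩ := mem_cliffOrbit.1 ψ.2
      refine ⟨⟨φ.rangeRestrict g⁻¹ • l, MulAction.mem_orbit _ _⟩, Subtype.ext (Subtype.ext (funext fun u => ?_))⟩
      rw [← hg, irrComp_apply]
      change ((dualConj U g⁻¹ l u : ℂˣ) : ℂ) = _
      rw [dualConj_apply, inv_inv]
    exact hcard ▸ (h χ).squarefree_of_dvd ((dvd_mul_right _ _).trans hχ)

/-- The second derived subgroup is nilpotent. -/
theorem derived_two_nilpotent : ∀ (n : ℕ) (G : Type u) [Group G] [Finite G], Nat.card G = n →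
    Group.IsSolvable G → (∀ χ : IrrCharacter G, Squarefree (charDegree (χ : G → ℂ))) →
    Group.IsNilpotent (derivedSeries G 2) := by
  intro n
  induction n using Nat.strong_induction_on with
  | _ n ih =>
    intro G _ _ hn hs h
    subst hn
    cases subsingleton_or_nontrivial G
    · infer_instance
    obtain ⟨U, hUn, hUb, hmin⟩ := Solv.exists_minimal_normal (G := G)
    haveI := hUn
    obtain ⟨hUc, -⟩ := Solv.minimal_normal_elementaryAbelian U inferInstance hUb hmin
    have hc := derived_two_centralizes hs h U (fun a b => hUc.is_comm.comm a b) hmin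
    have hnil := ih (Nat.card (G ⧸ U)) (Cfsg.Agent.Solv.card_quotient_lt U hUb) (G ⧸ U) rfl
      (Group.isSolvable_of_surjective (QuotientGroup.mk'_surjective U))
      (charDegree_squarefree_quotient U h)
    haveI := hnil
    let π : derivedSeries G 2 →* derivedSeries (G ⧸ U) 2 :=
      ((QuotientGroup.mk' U).comp (derivedSeries G 2).subtype).codRestrict _ fun x =>
        map_derivedSeries_le_derivedSeries (QuotientGroup.mk' U) 2 ⟨x, x.2, rfl⟩
    refine Subgroup.isNilpotent_of_ker_le_center π fun x hx => Subgroup.mem_center_iff.2 fun y => ?_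
    have hxU : (x : G) ∈ U := (QuotientGroup.eq_one_iff _).1 (congrArg Subtype.val hx)
    exact Subtype.ext (Subgroup.mem_centralizer_iff.1 (hc y.2) x hxU).symm

/-- A nilpotent group with squarefree degrees is metabelian. -/
theorem nilpotent_metabelian {X : Type u} [Group X] [Fintype X] [Group.IsNilpotent X]
    (h : ∀ χ : IrrCharacter X, Squarefree (deg (χ : X → ℂ))) : derivedSeries X 2 = ⊥ := by
  classical
  have hn : ∀ {p : ℕ} [Fact p.Prime] (P : Sylow p X), (P : Subgroup X).Normal := fun {p} _ P =>
    Sylow.normal_of_normalizerCondition Group.normalizerCondition_of_isNilpotent P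
  have hP : ∀ (p : ℕ) [Fact p.Prime] (P : Sylow p X), derivedSeries (P : Subgroup X) 2 = ⊥ := by
    intro p hp P
    haveI := hn P
    haveI : Fintype (P : Subgroup X) := Fintype.ofFinite _
    haveI : Group.IsNilpotent (P : Subgroup X) := P.isPGroup'.isNilpotent
    have hsub : TaketaBound.degSet (P : Subgroup X) ⊆ {1, p} := by
      intro d hd
      simp only [TaketaBound.degSet, Finset.mem_image] at hd
      obtain ⟨θ, -, rfl⟩ := hd
      have hs := squarefree_normal h (P : Subgroup X) θ
      obtain ⟨k, hk⟩ := IsPGroup.iff_card.1 P.isPGroup'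
      obtain ⟨j, -, hj⟩ := (Nat.dvd_prime_pow hp.out).1 (hk ▸ deg_dvd_card θ.2)
      rw [hj] at hs ⊢
      rcases Nat.lt_or_ge j 2 with h' | h'
      · interval_cases j <;> simp
      · exact absurd (hs.squarefree_of_dvd (pow_dvd_pow p h')) (by
          rw [pow_two]; exact fun hs' => hp.out.ne_one (Nat.isUnit_iff.1 (hs' _ dvd_rfl)))
    exact SingCount.derivedSeries_mono ((Finset.card_le_card hsub).trans Finset.card_le_two)
      TaketaBound.taketa_nilpotent
  refine (Subgroup.eq_bot_iff_forall _).2 fun x hx => ?_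
  let e := (Sylow.directProductOfNormal (G := X) (fun {p} _ P => hn P)).symm
  refine e.injective ?_
  rw [map_one]
  funext p P
  haveI : Fact (p : ℕ).Prime := Fact.mk (Nat.prime_of_mem_primeFactors p.2)
  let f : X →* (P : Subgroup X) :=
    ((Pi.evalMonoidHom _ P).comp (Pi.evalMonoidHom _ p)).comp e.toMonoidHom
  have hm : f x ∈ derivedSeries (P : Subgroup X) 2 :=
    map_derivedSeries_le_derivedSeries f 2 ⟨x, hx, rfl⟩
  rw [hP p P, Subgroup.mem_bot] at hm
  exact hm

theorem main [Finite G] (hs : Group.IsSolvable G)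
    (h : ∀ χ : IrrCharacter G, Squarefree (charDegree (χ : G → ℂ))) : derivedSeries G 4 = ⊥ := by
  haveI := Fintype.ofFinite G
  haveI := derived_two_nilpotent _ G rfl hs h
  haveI : (derivedSeries G 2).Normal := derivedSeries_normal G 2
  haveI := Fintype.ofFinite (derivedSeries G 2)
  have h2 := nilpotent_metabelian (X := derivedSeries G 2) (squarefree_normal h _)
  have h3 := SingCount.derivedSeries_add (derivedSeries G 2) (le_refl (derivedSeries G 2)) 2
  rw [h2, Subgroup.map_bot] at h3
  exact le_bot_iff.1 h3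

end Cfsg.Agent.Char.SqfreeDeg
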