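import Cfsg.Agent.Lib.Char.ResField
import Cfsg.Agent.Lib.Char.CyclicCentre

/-!
# An idempotent on a permutation lattice with the least possible trace

A `p`-group acts on a finite set and an equivariant idempotent matrix with local-integral entries is nonzero
modulo the ideal on the points fixed by `T`, and zero above `T`.  If its trace is the index of `T`, its image is
the permutation lattice on the cosets of `T`, so its twisted traces count fixed cosets.
-/

set_option autoImplicit false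
set_option linter.unusedSectionVars false
set_option linter.style.haveILetI false

open Cfsg

namespace Cfsg.Agent.Char.PermImage

universe u v

section Field

variable {k : Type*} [Field k] {p : ℕ} [Fact p.Prime] [CharP k p] {Γ : Type u} [Group Γ] [Finite Γ]
  {Ω : Type v} [Fintype Ω] [MulAction Γ Ω]

/-- A `p`-group fixes a nonzero vector of a nonzero stable group of vectors. -/
theorem exists_fixed_vec (hΓ : IsPGroup p Γ) (W : AddSubgroup (Ω → k))
    (hW : ∀ g : Γ, ∀ v ∈ W, (fun x => v (g⁻¹ • x)) ∈ W) {v : Ω → k} (hv : v ∈ W) (hv0 : v ≠ 0) :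
    ∃ u ∈ W, u ≠ 0 ∧ ∀ (g : Γ) (x : Ω), u (g • x) = u x := by
  classical
  haveI := Fintype.ofFinite Γ
  set V : AddSubgroup (Ω → k) := AddSubgroup.closure (Set.range fun g : Γ => fun x => v (g⁻¹ • x)) with hV
  have hVW : V ≤ W := by
    rw [hV, AddSubgroup.closure_le]
    rintro _ ⟨g, rfl⟩
    exact hW g v hv
  set φ : (Γ → ZMod p) →+ (Ω → k) :=
    { toFun := fun c x => ∑ g : Γ, (ZMod.castHom dvd_rfl k (c g)) * v (g⁻¹ • x)
      map_zero' := by funext x; simp
      map_add' := fun c d => by funext x; simp [add_mul, Finset.sum_add_distrib] } with hφ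
  have hVφ : V ≤ φ.range := by
    rw [hV, AddSubgroup.closure_le]
    rintro _ ⟨g, rfl⟩
    refine ⟨Pi.single g 1, ?_⟩
    funext x
    simp only [hφ, AddMonoidHom.coe_mk, ZeroHom.coe_mk]
    rw [Finset.sum_eq_single g (fun h _ hh => by rw [Pi.single_eq_of_ne hh, map_zero, zero_mul])
      (fun h => absurd (Finset.mem_univ g) h), Pi.single_eq_same, map_one, one_mul]
  haveI : Finite φ.range := Finite.of_surjective φ.rangeRestrict φ.rangeRestrict_surjective
  haveI : Finite V := Finite.of_injective (AddSubgroup.inclusion hVφ) (AddSubgroup.inclusion_injective hVφ)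
  letI : MulAction Γ V :=
    { smul := fun g w => ⟨fun x => w.1 (g⁻¹ • x), by
        refine (AddSubgroup.closure_le (K := V.comap
          { toFun := fun (w : Ω → k) x => w (g⁻¹ • x), map_zero' := rfl, map_add' := fun _ _ => rfl })).mpr ?_ w.2
        rintro _ ⟨h, rfl⟩
        refine AddSubgroup.subset_closure ⟨g * h, ?_⟩
        funext x
        show v ((g * h)⁻¹ • x) = v (h⁻¹ • g⁻¹ • x)
        rw [mul_inv_rev, mul_smul]⟩
      one_smul := fun w => Subtype.ext (funext fun x => by
        show w.1 ((1 : Γ)⁻¹ • x) = w.1 x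
        rw [inv_one, one_smul])
      mul_smul := fun g h w => Subtype.ext (funext fun x => by
        show w.1 ((g * h)⁻¹ • x) = w.1 (h⁻¹ • g⁻¹ • x)
        rw [mul_inv_rev, mul_smul]) }
  have hvV : v ∈ V := AddSubgroup.subset_closure ⟨1, funext fun x => by simp⟩
  have hp : p ∣ Nat.card V := by
    have h1 : addOrderOf (⟨v, hvV⟩ : V) = p := by
      refine addOrderOf_eq_prime (Subtype.ext (funext fun x => ?_)) fun h => hv0 (congrArg Subtype.val h)
      show (p • v) x = 0
      rw [Pi.smul_apply, nsmul_eq_mul, CharP.cast_eq_zero, zero_mul]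
    exact h1 ▸ addOrderOf_dvd_natCard _
  have h0 : (0 : V) ∈ MulAction.fixedPoints Γ V := fun g => rfl
  obtain ⟨w, hw, hne⟩ := hΓ.exists_fixed_point_of_prime_dvd_card_of_fixed_point V hp h0
  refine ⟨w.1, hVW w.2, fun h => hne (Subtype.ext h.symm), fun g x => ?_⟩
  have h := congrFun (congrArg Subtype.val (hw g⁻¹)) x
  change w.1 (g⁻¹⁻¹ • x) = w.1 x at h
  rwa [inv_inv] at h

variable {e : Ω → Ω → k} {T : Subgroup Γ}

open scoped Classical in
/-- The sum over an orbit of type `T` as a sum over cosets. -/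
theorem sum_orbit {i : Ω} (hi : T = MulAction.stabilizer Γ i) [Fintype (Γ ⧸ T)] (f : Ω → k) :
    ∑ β : Γ ⧸ T, f (β.out • i) = ∑ l : Ω with l ∈ MulAction.orbit Γ i, f l := by
  refine Finset.sum_nbij (fun β => β.out • i) (fun β _ => ?_) (fun a _ b _ h => ?_) (fun l hl => ?_) fun _ _ => rfl
  · simp
  · rw [← QuotientGroup.out_eq' a, ← QuotientGroup.out_eq' b, QuotientGroup.eq]
    refine hi.ge ?_
    rw [MulAction.mem_stabilizer_iff, mul_smul]
    exact inv_smul_eq_iff.mpr h.symm
  · obtain ⟨g, rfl⟩ := (Finset.mem_filter.mp (Finset.mem_coe.mp hl)).2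
    refine ⟨(g : Γ ⧸ T), Finset.mem_coe.mpr (Finset.mem_univ _), ?_⟩
    have h : g⁻¹ * (g : Γ ⧸ T).out ∈ MulAction.stabilizer Γ i :=
      hi ▸ QuotientGroup.eq.mp (QuotientGroup.out_eq' (g : Γ ⧸ T)).symm
    rw [MulAction.mem_stabilizer_iff, mul_smul, inv_smul_eq_iff] at h
    exact h

theorem out_smul {i : Ω} (hi : T = MulAction.stabilizer Γ i) (g : Γ) :
    (g : Γ ⧸ T).out • i = g • i := by
  have h : g⁻¹ * (g : Γ ⧸ T).out ∈ MulAction.stabilizer Γ i :=
    hi ▸ QuotientGroup.eq.mp (QuotientGroup.out_eq' (g : Γ ⧸ T)).symm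
  rwa [MulAction.mem_stabilizer_iff, mul_smul, inv_smul_eq_iff] at h

open scoped Classical in
/-- Somewhere the matrix is invertible on a pair of orbits of type `T`. -/
theorem exists_det_ne_zero (hΓ : IsPGroup p Γ) (heq : ∀ (g : Γ) x y, e (g • x) (g • y) = e x y)
    (hid : ∀ x y, ∑ l, e x l * e l y = e x y) [Fintype (Γ ⧸ T)]
    (hne : ∃ x y : Ω, T ≤ MulAction.stabilizer Γ x ∧ T ≤ MulAction.stabilizer Γ y ∧ e x y ≠ 0)
    (hbig : ∀ T' : Subgroup Γ, T < T' → ∀ x y : Ω, T' ≤ MulAction.stabilizer Γ x →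
      T' ≤ MulAction.stabilizer Γ y → e x y = 0) :
    ∃ i j : Ω, T = MulAction.stabilizer Γ i ∧ T = MulAction.stabilizer Γ j ∧
      (Matrix.of fun α β : Γ ⧸ T => e (α.out • j) (β.out • i)).det ≠ 0 := by
  have hTp : IsPGroup p T := hΓ.to_subgroup T
  set F : Finset Ω := Finset.univ.filter fun x => T ≤ MulAction.stabilizer Γ x with hF
  have hmF : ∀ {x}, x ∈ F ↔ T ≤ MulAction.stabilizer Γ x := fun {x} => by simp [hF]
  have hfix : ∀ f : Ω → k, (∀ (u : T) l, f ((u : Γ) • l) = f l) → ∑ l, f l = ∑ l ∈ F, f l := by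
    intro f hf
    rw [CyclicCentre.sum_fixed (k := k) hTp f fun u l => hf u l]
    refine Finset.sum_congr (Finset.ext fun l => ?_) fun _ _ => rfl
    simp only [hmF, Finset.mem_filter, Finset.mem_univ, true_and, MulAction.mem_fixedPoints]
    exact ⟨fun h u hu => h ⟨u, hu⟩, fun h u => h u.2⟩
  have hidF : ∀ x ∈ F, ∀ y ∈ F, ∑ l ∈ F, e x l * e l y = e x y := by
    intro x hx y hy
    rw [← hfix (fun l => e x l * e l y) fun u l => ?_, hid x y]
    have hux : (u : Γ) • x = x := hmF.mp hx u.2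
    have huy : (u : Γ) • y = y := hmF.mp hy u.2
    show e x ((u : Γ) • l) * e ((u : Γ) • l) y = _
    rw [← heq (u : Γ) x l, ← heq (u : Γ) l y, hux, huy]
  -- a fixed vector of the image on the fixed points
  set N := Subgroup.normalizer (T : Set Γ) with hN
  have hNF : ∀ (g : Γ), g ∈ N → ∀ {x}, x ∈ F → g • x ∈ F := by
    intro g hg x hx
    rw [hmF] at hx ⊢
    intro u hu
    rw [MulAction.mem_stabilizer_iff]
    have h1 : g⁻¹ * u * g ∈ T := by
      have := (Subgroup.mem_normalizer_iff.mp (N.inv_mem hg) u).mp hu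
      rwa [inv_inv] at this
    have h2 : (g⁻¹ * u * g) • x = x := hx h1
    conv_rhs => rw [← h2]
    rw [mul_smul, mul_smul, smul_inv_smul]
  let W : AddSubgroup (Ω → k) :=
    { carrier := {w | ∀ x, (x ∉ F → w x = 0) ∧ (x ∈ F → ∑ l ∈ F, e x l * w l = w x)}
      zero_mem' := fun x => ⟨fun _ => rfl, fun _ => by simp⟩
      add_mem' := fun {u w} hu hw x => ⟨fun hx => by simp [(hu x).1 hx, (hw x).1 hx], fun hx => by
        simp only [Pi.add_apply, mul_add, Finset.sum_add_distrib, (hu x).2 hx, (hw x).2 hx]⟩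
      neg_mem' := fun {u} hu x => ⟨fun hx => by simp [(hu x).1 hx], fun hx => by
        simp only [Pi.neg_apply, mul_neg, Finset.sum_neg_distrib, (hu x).2 hx]⟩ }
  obtain ⟨x₀, y₀, hx₀, hy₀, h₀⟩ := hne
  have hWN : ∀ (g : N) (v : Ω → k), v ∈ W → (fun x => v (g⁻¹ • x)) ∈ W := by
    intro g v hv x
    refine ⟨fun hx => (hv _).1 fun h => hx ?_, fun hx => ?_⟩
    · have := hNF g g.2 h
      rwa [show (g : Γ) • g⁻¹ • x = x from smul_inv_smul g x] at this
    show ∑ l ∈ F, e x l * v (g⁻¹ • l) = v (g⁻¹ • x)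
    rw [← (hv (g⁻¹ • x)).2 (hNF (g⁻¹ : N) (g⁻¹ : N).2 hx)]
    refine Finset.sum_nbij' (fun l => g⁻¹ • l) (fun l => g • l) (fun l hl => hNF (g⁻¹ : N) (g⁻¹ : N).2 hl)
      (fun l hl => hNF g g.2 hl)
      (fun l _ => smul_inv_smul g l) (fun l _ => inv_smul_smul g l) fun l _ => ?_
    show e x l * v (g⁻¹ • l) = e (((g⁻¹ : N) : Γ) • x) (((g⁻¹ : N) : Γ) • l) * v (g⁻¹ • l)
    rw [heq]
  have hvW : (fun x => if x ∈ F then e x y₀ else 0) ∈ W := fun x => by
    refine ⟨fun hx => if_neg hx, fun hx => ?_⟩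
    dsimp only
    rw [if_pos hx, ← hidF x hx y₀ (hmF.mpr hy₀)]
    exact Finset.sum_congr rfl fun l hl => by rw [if_pos hl]
  obtain ⟨w, hwW, hw0, hwN⟩ := exists_fixed_vec (hΓ.to_subgroup N) W hWN hvW
    (fun h => h₀ (by simpa [hmF.mpr hx₀] using congrFun h x₀))
  have hwbig : ∀ x, T < MulAction.stabilizer Γ x → w x = 0 := by
    intro x hx
    haveI := Fact.mk (Fact.out : p.Prime)
    set S := MulAction.stabilizer Γ x with hS
    have hTQ : T < S ⊓ N := by
      have hnil : Group.IsNilpotent S := (hΓ.to_subgroup S).isNilpotent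
      have hlt : T.subgroupOf S < ⊤ := lt_top_iff_ne_top.mpr fun h => hx.not_ge (Subgroup.subgroupOf_eq_top.mp h)
      have h := Group.normalizerCondition_of_isNilpotent (T.subgroupOf S) hlt
      obtain ⟨g, hg, hgT⟩ := SetLike.exists_of_lt h
      refine lt_of_le_of_ne (le_inf hx.le Subgroup.le_normalizer) fun he => hgT ?_
      rw [Subgroup.mem_subgroupOf, he]
      refine ⟨g.2, Subgroup.mem_normalizer_iff.mpr fun u => ?_⟩
      by_cases hu : u ∈ S
      · exact Subgroup.mem_normalizer_iff.mp hg ⟨u, hu⟩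
      · refine ⟨fun h => absurd (hx.le h) hu, fun h => absurd ?_ hu⟩
        have := S.mul_mem (S.mul_mem (S.inv_mem g.2) (hx.le h)) g.2
        simpa [mul_assoc] using this
    rw [← (hwW x).2 (hmF.mpr hx.le), ← Finset.sum_filter_of_ne (p := fun _ => True) (fun _ _ _ => trivial),
      Finset.sum_filter]
    simp only [if_true]
    set Q := S ⊓ N with hQ
    have h1 := CyclicCentre.sum_fixed (k := k) (hΓ.to_subgroup Q) (fun l => if l ∈ F then e x l * w l else 0)
      fun u l => ?_
    · rw [← Finset.sum_filter, Finset.filter_mem_eq_inter, Finset.univ_inter] at h1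
      rw [h1]
      refine Finset.sum_eq_zero fun l hl => ?_
      split_ifs with hlF
      · rw [hbig Q hTQ x l inf_le_left fun u hu => (Finset.mem_filter.mp hl).2 ⟨u, hu⟩, zero_mul]
      · rfl
    · show (if (u : Γ) • l ∈ F then e x ((u : Γ) • l) * w ((u : Γ) • l) else 0) = _
      have hxu : (u : Γ) • x = x := (Subgroup.mem_inf.mp u.2).1
      have hwu : w ((u : Γ) • l) = w l := hwN ⟨u, (Subgroup.mem_inf.mp u.2).2⟩ l
      by_cases hl : l ∈ F
      · rw [if_pos hl, if_pos (hNF u (Subgroup.mem_inf.mp u.2).2 hl), hwu]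
        conv_rhs => rw [← heq (u : Γ) x l, hxu]
      · rw [if_neg hl, if_neg fun h => hl ?_]
        have := hNF (u : Γ)⁻¹ (N.inv_mem (Subgroup.mem_inf.mp u.2).2) h
        rwa [inv_smul_smul] at this
  -- a pair of orbits with nonzero sum
  obtain ⟨i, j, hi, hj, hc⟩ : ∃ i j : Ω, T = MulAction.stabilizer Γ i ∧ T = MulAction.stabilizer Γ j ∧
      ∑ β : Γ ⧸ T, e j (β.out • i) ≠ 0 := by
    by_contra hno
    push Not at hno
    refine hw0 (funext fun x => ?_)
    by_cases hxF : x ∈ F
    swap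
    · exact (hwW x).1 hxF
    rcases (hmF.mp hxF).eq_or_lt with hx | hx
    swap
    · exact hwbig x hx
    rw [← (hwW x).2 hxF, ← Finset.sum_fiberwise_of_maps_to (t := F.image fun l => MulAction.orbit Γ l)
      (g := fun l => MulAction.orbit Γ l) fun l hl => Finset.mem_image_of_mem _ hl]
    refine Finset.sum_eq_zero fun O hO => ?_
    obtain ⟨i, hiF, rfl⟩ := Finset.mem_image.mp hO
    by_cases hi : T = MulAction.stabilizer Γ i
    · have h1 : ∀ l ∈ F.filter (fun l => MulAction.orbit Γ l = MulAction.orbit Γ i), e x l * w l = e x l * w i := by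
        intro l hl
        obtain ⟨hlF, hlo⟩ := Finset.mem_filter.mp hl
        obtain ⟨g, rfl⟩ : l ∈ MulAction.orbit Γ i := hlo ▸ MulAction.mem_orbit_self l
        have hgN : g ∈ N := by
          have h2 : T.map (MulAut.conj g).toMonoidHom = MulAction.stabilizer Γ (g • i) := by
            rw [MulAction.stabilizer_smul_eq_stabilizer_map_conj, ← hi]
          have h3 : T = T.map (MulAut.conj g).toMonoidHom :=
            Subgroup.eq_of_le_of_card_ge (h2 ▸ hmF.mp hlF)
              (le_of_eq (Subgroup.card_map_of_injective (MulEquiv.injective _)))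
          refine Subgroup.mem_normalizer_iff.mpr fun u => ?_
          constructor
          · intro hu
            rw [h3]
            exact ⟨u, hu, rfl⟩
          · intro hu
            rw [h3] at hu
            obtain ⟨v, hv, he⟩ := hu
            rw [← (MulAut.conj g).injective (show MulAut.conj g v = MulAut.conj g u from he)]
            exact hv
        rw [show w (g • i) = w i from hwN ⟨g, hgN⟩ i]
      rw [Finset.sum_congr rfl h1, ← Finset.sum_mul]
      refine mul_eq_zero_of_left ?_ _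
      rw [← hno i x hi hx, sum_orbit hi, Finset.sum_filter (s := Finset.univ),
        hfix (fun l => if l ∈ MulAction.orbit Γ i then e x l else 0) fun u l => ?_, Finset.sum_filter]
      · exact Finset.sum_congr rfl fun l _ => by simp only [MulAction.orbit_eq_iff]
      · have hux : (u : Γ) • x = x := hmF.mp hxF u.2
        simp only [← MulAction.orbit_eq_iff, MulAction.orbit_smul]
        split_ifs
        · conv_rhs => rw [← heq (u : Γ) x l, hux]
        · rfl
    · refine Finset.sum_eq_zero fun l hl => ?_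
      obtain ⟨hlF, hlo⟩ := Finset.mem_filter.mp hl
      obtain ⟨g, rfl⟩ : l ∈ MulAction.orbit Γ i := hlo ▸ MulAction.mem_orbit_self l
      rw [hwbig _ (lt_of_le_of_ne (hmF.mp hlF) fun he => hi ?_), mul_zero]
      refine Subgroup.eq_of_le_of_card_ge (hmF.mp hiF) (le_of_eq ?_)
      rw [he, MulAction.stabilizer_smul_eq_stabilizer_map_conj]
      exact (Subgroup.card_map_of_injective (MulEquiv.injective _)).symm
  refine ⟨i, j, hi, hj, fun hdet => hc ?_⟩
  set A : Matrix (Γ ⧸ T) (Γ ⧸ T) k := Matrix.of fun α β => e (α.out • j) (β.out • i) with hA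
  have hAinv : ∀ (g : Γ) α β, A (g • α) (g • β) = A α β := by
    intro g α β
    obtain ⟨a, rfl⟩ := QuotientGroup.mk_surjective α
    obtain ⟨b, rfl⟩ := QuotientGroup.mk_surjective β
    show e (((g * a : Γ) : Γ ⧸ T).out • j) (((g * b : Γ) : Γ ⧸ T).out • i) = e _ _
    rw [out_smul hi, out_smul hj, out_smul hi, out_smul hj, mul_smul, mul_smul, heq]
  obtain ⟨v, hv0, hv⟩ := Matrix.exists_mulVec_eq_zero_iff.mpr hdet
  let W' : AddSubgroup (Γ ⧸ T → k) :=
    { carrier := {u | A.mulVec u = 0}
      zero_mem' := Matrix.mulVec_zero A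
      add_mem' := fun {a b} ha hb => by
        show A.mulVec (a + b) = 0
        rw [Matrix.mulVec_add, show A.mulVec a = 0 from ha, show A.mulVec b = 0 from hb, add_zero]
      neg_mem' := fun {a} ha => by
        show A.mulVec (-a) = 0
        rw [Matrix.mulVec_neg, show A.mulVec a = 0 from ha, neg_zero] }
  obtain ⟨u, hu, hu0, huN⟩ := exists_fixed_vec hΓ W' (fun g a ha => by
    show A.mulVec _ = 0
    funext α
    have h := congrFun (show A.mulVec a = 0 from ha) (g⁻¹ • α)
    simp only [Matrix.mulVec, dotProduct, Pi.zero_apply] at h ⊢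
    rw [← h]
    refine Fintype.sum_equiv (MulAction.toPerm g⁻¹) _ _ fun β => ?_
    rw [MulAction.toPerm_apply, hAinv]) (show v ∈ W' from hv) hv0
  set o : Γ ⧸ T := ((1 : Γ) : Γ ⧸ T) with ho
  have hconst : ∀ β, u β = u o := fun β => by
    obtain ⟨b, rfl⟩ := QuotientGroup.mk_surjective β
    rw [← huN b o]
    congr 1
    show _ = ((b * 1 : Γ) : Γ ⧸ T)
    rw [mul_one]
  have hne0 : u o ≠ 0 := fun h => hu0 (funext fun β => (hconst β).trans h)
  have h1 := congrFun (show A.mulVec u = 0 from hu) o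
  simp only [Matrix.mulVec, dotProduct, hconst, ← Finset.sum_mul, Pi.zero_apply, mul_eq_zero, hne0, or_false] at h1
  rw [← h1]
  refine Finset.sum_congr rfl fun β _ => ?_
  show _ = e (o.out • j) (β.out • i)
  rw [ho, out_smul hj, one_smul]

end Field

section Lift

variable {M : Ideal AlgInt} {p : ℕ} {Γ : Type u} [Group Γ] [Finite Γ] {Ω : Type v} [Fintype Ω] [MulAction Γ Ω]

open scoped Classical in
/-- The twisted traces count fixed cosets. -/
theorem trace_eq_fixed (hM : IsPModular p M) (hΓ : IsPGroup p Γ) (E : Ω → Ω → ℂ) {T : Subgroup Γ}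
    (hR : ∀ x y, MemLocalRing M (E x y)) (heq : ∀ (g : Γ) x y, E (g • x) (g • y) = E x y)
    (hid : ∀ x y, ∑ l, E x l * E l y = E x y)
    (hne : ∃ x y : Ω, T ≤ MulAction.stabilizer Γ x ∧ T ≤ MulAction.stabilizer Γ y ∧ ¬ MemLocalIdeal M (E x y))
    (hbig : ∀ T' : Subgroup Γ, T < T' → ∀ x y : Ω, T' ≤ MulAction.stabilizer Γ x →
      T' ≤ MulAction.stabilizer Γ y → MemLocalIdeal M (E x y))
    (htr : ∑ x, E x x = (Nat.card (Γ ⧸ T) : ℂ)) (g : Γ) :
    ∑ x, E (g⁻¹ • x) x = (Nat.card {q : Γ ⧸ T // g • q = q} : ℂ) := by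
  have hP := pmod_prime hM
  haveI := Fact.mk hM.1
  haveI := charP_res hP hM
  haveI := Fintype.ofFinite (Γ ⧸ T)
  obtain ⟨i, j, hi, hj, hdet⟩ := exists_det_ne_zero (k := Res hP) (e := fun x y => red hP (E x y)) hΓ
    (fun g x y => by rw [heq])
    (fun x y => by
      rw [← hid x y, red_sum hP _ _ fun l _ => memLR_mul hP (hR x l) (hR l y)]
      exact Finset.sum_congr rfl fun l _ => (red_mul hP (hR x l) (hR l y)).symm)
    (by
      obtain ⟨x, y, hx, hy, h⟩ := hne
      exact ⟨x, y, hx, hy, fun h0 => h ((red_eq_zero_iff hP (hR x y)).mp h0)⟩)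
    (fun T' hT x y hx hy => (red_eq_zero_iff hP (hR x y)).mpr (hbig T' hT x y hx hy))
  set A : Matrix (Γ ⧸ T) (Γ ⧸ T) ℂ := Matrix.of fun α β => E (α.out • j) (β.out • i) with hA
  have hA0 : A.det ≠ 0 := by
    let AR : Matrix (Γ ⧸ T) (Γ ⧸ T) (locRing hP) := Matrix.of fun α β => ⟨_, hR (α.out • j) (β.out • i)⟩
    have e1 : AR.map (redHom hP) = Matrix.of fun α β : Γ ⧸ T => red hP (E (α.out • j) (β.out • i)) := by
      ext α β
      exact redHom_apply hP _
    have e2 : AR.map (locRing hP).subtype = A := rfl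
    intro h
    apply hdet
    rw [← e1, ← RingHom.mapMatrix_apply, ← RingHom.map_det]
    have h' : (locRing hP).subtype AR.det = 0 := by
      rw [RingHom.map_det, RingHom.mapMatrix_apply, e2, h]
    rw [show AR.det = 0 from Subtype.ext h', map_zero]
  set V : Matrix Ω (Γ ⧸ T) ℂ := Matrix.of fun x β => E x (β.out • i) with hV
  set P : Matrix Ω Ω ℂ := Matrix.of E with hPm
  have hPV : P * V = V := by
    ext x β
    exact hid x _
  have hinj : Function.Injective V.mulVecLin := by
    intro a b h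
    refine Matrix.mulVec_injective_iff_isUnit.mpr ((Matrix.isUnit_iff_isUnit_det A).mpr hA0.isUnit) ?_
    funext α
    exact congrFun h (α.out • j)
  have hPP : P * P = P := by
    ext x y
    exact hid x y
  have hrange : LinearMap.range P.mulVecLin = LinearMap.range V.mulVecLin := by
    refine (Submodule.eq_of_le_of_finrank_eq ?_ ?_).symm
    · rintro _ ⟨a, rfl⟩
      exact ⟨V.mulVec a, by rw [Matrix.mulVecLin_apply, Matrix.mulVec_mulVec, hPV]; rfl⟩
    · have hproj : LinearMap.IsProj (LinearMap.range P.mulVecLin) P.mulVecLin :=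
        ⟨fun x => ⟨x, rfl⟩, by
          rintro _ ⟨a, rfl⟩
          rw [Matrix.mulVecLin_apply, Matrix.mulVecLin_apply, Matrix.mulVec_mulVec, hPP]⟩
      have h1 := hproj.trace
      have h2 : LinearMap.trace ℂ (Ω → ℂ) P.mulVecLin = ∑ x, E x x := by
        rw [← Matrix.toLin'_apply', Matrix.trace_toLin'_eq]
        rfl
      rw [h2, htr] at h1
      rw [LinearMap.finrank_range_of_inj hinj, Module.finrank_fintype_fun_eq_card, ← Nat.card_eq_fintype_card]
      exact_mod_cast h1
  have hcol : ∀ y, ∃ c : Γ ⧸ T → ℂ, V.mulVec c = fun x => E x y := fun y => by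
    have h1 : (fun x => E x y) ∈ LinearMap.range P.mulVecLin :=
      ⟨Pi.single y 1, funext fun x => by simp [hPm]⟩
    rw [hrange] at h1
    exact h1
  choose c hc using hcol
  set K : Matrix (Γ ⧸ T) Ω ℂ := Matrix.of fun β y => c y β with hK
  have hVK : V * K = P := by
    ext x y
    exact congrFun (hc y) x
  have hKV : K * V = 1 := by
    ext β γ
    have h1 : V.mulVec (fun δ => (K * V) δ γ) = V.mulVec (Pi.single γ 1) := by
      rw [Matrix.mulVec_single_one]
      funext x
      show ∑ δ, V x δ * (K * V) δ γ = V x γ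
      rw [← Matrix.mul_apply, ← Matrix.mul_assoc, hVK, hPV]
    rw [congrFun (hinj h1) β, Matrix.one_apply, Pi.single_apply]
  have hVinv : ∀ x β, E (g⁻¹ • x) (β.out • i) = V x (g • β) := by
    intro x β
    obtain ⟨b, rfl⟩ := QuotientGroup.mk_surjective β
    show _ = E x (((g * b : Γ) : Γ ⧸ T).out • i)
    rw [out_smul hi, out_smul hi, mul_smul, ← heq g, smul_inv_smul]
  calc ∑ x, E (g⁻¹ • x) x = ∑ x, ∑ β, V (g⁻¹ • x) β * K β x :=
        Finset.sum_congr rfl fun x _ => (congrFun (congrFun hVK (g⁻¹ • x)) x).symm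
    _ = ∑ β, (K * V) β (g • β) := by
        rw [Finset.sum_comm]
        refine Finset.sum_congr rfl fun β _ => ?_
        rw [Matrix.mul_apply]
        exact Finset.sum_congr rfl fun x _ => by rw [← hVinv x β]; exact mul_comm _ _
    _ = _ := by
        rw [hKV]
        simp only [Matrix.one_apply, eq_comm (b := g • _), Finset.sum_boole]
        rw [Nat.card_eq_fintype_card, Fintype.card_subtype]

end Lift

end Cfsg.Agent.Char.PermImage
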