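import Cfsg.Agent.Lib.Char.PairKernel
import Cfsg.Agent.Lib.Char.FongReynolds
import Cfsg.Agent.S1886

/-!
# The core of order prime to a set of primes in kernels of Brauer correspondents
-/

set_option autoImplicit false
set_option linter.style.haveILetI false

namespace Cfsg.Agent.Char

open Cfsg
open scoped ComplexConjugate

universe u

variable {G : Type u} [Group G] [Fintype G] {M : Ideal AlgInt} {p : ℕ} {π : Set ℕ}

/-- The largest normal subgroup of order prime to `π` of a subgroup, in the ambient group. -/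
noncomputable def piK (π : Set ℕ) (C : Subgroup G) : Subgroup G :=
  (piCore {q | q ∉ π} C).map C.subtype

omit [Fintype G] in
theorem piK_le (C : Subgroup G) : piK π C ≤ C := Subgroup.map_subtype_le _

theorem piK_primes (C : Subgroup G) {q : ℕ} (hq : q.Prime) (h : q ∣ Nat.card (piK π C)) : q ∉ π := by
  rw [piK, Subgroup.card_map_of_injective (Subgroup.subtype_injective C)] at h
  exact S1886.piCore_isPi _ q hq h

theorem piK_not_dvd (hp : p.Prime) (hpπ : p ∈ π) (C : Subgroup G) : ¬ p ∣ Nat.card (piK π C) :=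
  fun h => piK_primes C hp h hpπ

theorem piK_orderOf {C : Subgroup G} {x : G} (hx : x ∈ piK π C) {q : ℕ} (hq : q.Prime)
    (h : q ∣ orderOf x) : q ∉ π :=
  piK_primes C hq (h.trans (by
    rw [← Subgroup.orderOf_mk x hx]; exact orderOf_dvd_natCard _))

omit [Fintype G] in
theorem piK_norm {C : Subgroup G} : ∀ c ∈ C, ∀ k ∈ piK π C, c * k * c⁻¹ ∈ piK π C := by
  rintro c hc _ ⟨k, hk, rfl⟩
  exact ⟨⟨c, hc⟩ * k * ⟨c, hc⟩⁻¹, (piCore_normal _ _).conj_mem k hk ⟨c, hc⟩, rfl⟩

omit [Fintype G] in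
theorem le_piK {C K : Subgroup G} (hKC : K ≤ C) (hn : ∀ c ∈ C, ∀ k ∈ K, c * k * c⁻¹ ∈ K)
    (hq : ∀ q : ℕ, q.Prime → q ∣ Nat.card K → q ∉ π) : K ≤ piK π C := by
  intro k hk
  refine ⟨⟨k, hKC hk⟩, ?_, rfl⟩
  have hn' : (K.subgroupOf C).Normal := ⟨fun k hk c => hn c c.2 k hk⟩
  refine (le_sSup (show K.subgroupOf C ∈ {N : Subgroup C | N.Normal ∧
    ∀ q : ℕ, q.Prime → q ∣ Nat.card N → q ∈ {q | q ∉ π}} from ⟨hn', fun q hq' hd => hq q hq' ?_⟩)) ?_
  · rwa [Nat.card_congr (Subgroup.subgroupOfEquivOfLe hKC).toEquiv] at hd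
  · exact hk

theorem piK_norm_normalizer {C : Subgroup G} {u : G} (hu : u ∈ Subgroup.normalizer (C : Set G)) :
    ∀ k ∈ piK π C, u * k * u⁻¹ ∈ piK π C := by
  intro k hk
  have hle : (piK π C).map (MulAut.conj u).toMonoidHom ≤ piK π C := by
    refine le_piK ?_ ?_ fun q hq hd => piK_primes C hq (by
      rwa [Subgroup.card_map_of_injective (MulEquiv.injective (MulAut.conj u))] at hd)
    · rintro _ ⟨w, hw, rfl⟩
      exact (Subgroup.mem_normalizer_iff.mp hu w).mp (piK_le C hw)
    · rintro c hc _ ⟨w, hw, rfl⟩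
      have hc' : u⁻¹ * c * u ∈ C := by
        simpa using (Subgroup.mem_normalizer_iff.mp (Subgroup.inv_mem _ hu) c).mp hc
      refine ⟨u⁻¹ * c * u * w * (u⁻¹ * c * u)⁻¹, piK_norm _ hc' w hw, ?_⟩
      show u * (u⁻¹ * c * u * w * (u⁻¹ * c * u)⁻¹) * u⁻¹ = c * (u * w * u⁻¹) * c⁻¹
      group
  exact hle ⟨k, hk, rfl⟩

/-- A pair whose core lies in the kernel of its block. -/
def GoodPair (π : Set ℕ) (Q : Subgroup G) (e : Set (IrrCharacter (Subgroup.centralizer (Q : Set G)))) :
    Prop :=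
  TrivOn (Subgroup.centralizer (Q : Set G)) e (piK π (Subgroup.centralizer (Q : Set G)))

theorem goodPair_step_down (hM : IsPModular p M) (hpπ : p ∈ π) {Q R : Subgroup G}
    {f : Set (IrrCharacter (Subgroup.centralizer (Q : Set G)))}
    {g : Set (IrrCharacter (Subgroup.centralizer (R : Set G)))} (h : IsNormalSubpair p M Q f R g)
    (hg : GoodPair π R g) : GoodPair π Q f := by
  have hCRQ : Subgroup.centralizer (R : Set G) ≤ Subgroup.centralizer (Q : Set G) :=
    centralizer_antitone h.2.2.1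
  refine (step_ker_iff hM h _ (piK_le _) piK_norm (fun u hu => piK_norm_normalizer ?_)
    (piK_not_dvd hM.1 hpπ _)).mpr fun ξ hξ c hc => hg ξ hξ c ?_
  · have hu' := h.2.2.2.1 hu
    refine Subgroup.mem_normalizer_iff.mpr fun w => ⟨fun hw => conj_mem_centralizer hu' hw, fun hw => ?_⟩
    simpa [mul_assoc] using conj_mem_centralizer (Subgroup.inv_mem _ hu') hw
  · refine (le_piK (K := piK π (Subgroup.centralizer (Q : Set G)) ⊓ Subgroup.centralizer (R : Set G))
      inf_le_right (fun d hd k hk => ⟨piK_norm d (hCRQ hd) k hk.1,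
        Subgroup.mul_mem _ (Subgroup.mul_mem _ hd hk.2) (Subgroup.inv_mem _ hd)⟩) fun q hq hd =>
      piK_primes _ hq (hd.trans (Subgroup.card_dvd_of_le inf_le_left))) ⟨hc, c.2⟩

theorem goodPair_down (hM : IsPModular p M) (hpπ : p ∈ π) {a b : BrauerPairIdx G}
    (h : Relation.ReflTransGen (NormalSubpairRel p M) a b) (hb : GoodPair π b.1 b.2) :
    GoodPair π a.1 a.2 := by
  induction h using Relation.ReflTransGen.head_induction_on with
  | refl => exact hb
  | head h1 _ ih => exact goodPair_step_down hM hpπ h1 ih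

theorem goodPair_of_conj {Q : Subgroup G} {f : Set (IrrCharacter (Subgroup.centralizer (Q : Set G)))}
    {x : G} (h : GoodPair π (Q.map (MulAut.conj x).toMonoidHom) (conjBlock Q x f)) :
    GoodPair π Q f := by
  haveI := Fintype.ofFinite (Subgroup.centralizer (Q : Set G))
  haveI := Fintype.ofFinite
    (Subgroup.centralizer ((Q.map (MulAut.conj x).toMonoidHom : Subgroup G) : Set G))
  intro ξ hξ c hc
  have hm : irrTransport (centConj Q x).symm ξ ∈ conjBlock Q x f := by
    rw [conjBlock_eq]; exact ⟨ξ, hξ, rfl⟩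
  have h2 := h _ hm (centConj Q x c) ?_
  · rw [irrTransport_apply, irrTransport_apply, MulEquiv.symm_apply_apply, map_one] at h2
    exact h2
  · show x * (c : G) * x⁻¹ ∈ _
    refine (le_piK (K := (piK π (Subgroup.centralizer (Q : Set G))).map (MulAut.conj x).toMonoidHom)
      ?_ ?_ fun q hq hd => piK_primes _ hq (by
        rwa [Subgroup.card_map_of_injective (MulEquiv.injective (MulAut.conj x))] at hd)) ⟨_, hc, rfl⟩
    · rintro _ ⟨w, hw, rfl⟩
      exact (mem_centralizer_map x).mp (piK_le _ hw)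
    · rintro d hd _ ⟨w, hw, rfl⟩
      have hd' : x⁻¹ * d * x ∈ Subgroup.centralizer (Q : Set G) := by
        refine (mem_centralizer_map x).mpr ?_
        rwa [show x * (x⁻¹ * d * x) * x⁻¹ = d by group]
      refine ⟨x⁻¹ * d * x * w * (x⁻¹ * d * x)⁻¹, piK_norm _ hd' w hw, ?_⟩
      show x * (x⁻¹ * d * x * w * (x⁻¹ * d * x)⁻¹) * x⁻¹ = d * (x * w * x⁻¹) * d⁻¹
      group

/-- The maximal pair of a Brauer correspondent. -/
theorem exists_max_pair_lift (hM : IsPModular p M) {B : Set (IrrCharacter G)} {D : Subgroup G}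
    (hBD : IsDefectGroup p M B D) [Fintype (Subgroup.normalizer (D : Set G))]
    {B₁ : Set (IrrCharacter (Subgroup.normalizer (D : Set G)))}
    (hB₁ : IsInducedBlock M (Subgroup.normalizer (D : Set G)) B₁ B)
    (hB₁D : IsDefectGroup p M B₁ (D.subgroupOf (Subgroup.normalizer (D : Set G)))) :
    ∃ e1, IsBrauerPairOf p M B₁ (D.subgroupOf (Subgroup.normalizer (D : Set G))) e1 ∧
      IsMaximalBrauerPair p M B
        ((D.subgroupOf (Subgroup.normalizer (D : Set G))).map (Subgroup.normalizer (D : Set G)).subtype)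
        (liftBlock (D.subgroupOf (Subgroup.normalizer (D : Set G))) e1) := by
  set N := Subgroup.normalizer (D : Set G)
  have hmap : (D.subgroupOf N).map N.subtype = D :=
    Subgroup.map_subgroupOf_eq_of_le Subgroup.le_normalizer
  have hC : Subgroup.centralizer (((D.subgroupOf N).map N.subtype : Subgroup G) : Set G) ≤ N := by
    rw [hmap]; exact Subgroup.centralizer_le_normalizer _
  obtain ⟨e1, he1⟩ := exists_pair_of_le_defect hM hB₁.1 hB₁D le_rfl
  exact ⟨e1, he1, maximal_of_defect hM (by rwa [hmap]) (pairOf_of_induced hM hB₁ hC he1)⟩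

/-- If the core of the normalizer is in the kernel, every pair of the block is good. -/
theorem goodPair_of_ker (hM : IsPModular p M) (hpπ : p ∈ π) {B : Set (IrrCharacter G)}
    {D : Subgroup G} (hBD : IsDefectGroup p M B D) [Fintype (Subgroup.normalizer (D : Set G))]
    {B₁ : Set (IrrCharacter (Subgroup.normalizer (D : Set G)))}
    (hB₁ : IsInducedBlock M (Subgroup.normalizer (D : Set G)) B₁ B)
    (hB₁D : IsDefectGroup p M B₁ (D.subgroupOf (Subgroup.normalizer (D : Set G))))
    (hker : ∀ n : Subgroup.normalizer (D : Set G),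
      n ∈ piCore {q | q ∉ π} (Subgroup.normalizer (D : Set G)) → n ∈ blockKer B₁)
    {Q : Subgroup G} {e : Set (IrrCharacter (Subgroup.centralizer (Q : Set G)))}
    (he : IsBrauerPairOf p M B Q e) : GoodPair π Q e := by
  obtain ⟨e1, he1, hmax⟩ := exists_max_pair_lift hM hBD hB₁ hB₁D
  obtain ⟨x, hx⟩ := pairs_conj_into_maximal hM hmax he
  refine goodPair_of_conj (goodPair_down hM hpπ hx ?_)
  have hmap : (D.subgroupOf (Subgroup.normalizer (D : Set G))).map (Subgroup.normalizer (D : Set G)).subtype = D := Subgroup.map_subgroupOf_eq_of_le Subgroup.le_normalizer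
  have hp1 : ¬ p ∣ Nat.card (piCore {q | q ∉ π} (Subgroup.normalizer (D : Set G))) := fun h => S1886.piCore_isPi _ p hM.1 h hpπ
  have htr := (pair_ker_iff hM _ hp1 he1).mp fun χ hχ k hk => hker k hk χ hχ
  rintro ξ' ⟨ξ, hξ, hval⟩ c hc
  have hcN : (c : G) ∈ (Subgroup.normalizer (D : Set G)) := by
    have h1 : (c : G) ∈ Subgroup.centralizer ((((D.subgroupOf (Subgroup.normalizer (D : Set G))).map
      (Subgroup.normalizer (D : Set G)).subtype : Subgroup G)) : Set G) := c.2
    exact Subgroup.centralizer_le_normalizer _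
      (le_of_eq (congrArg (fun X : Subgroup G => Subgroup.centralizer (X : Set G)) hmap) h1)
  let c0 : Subgroup.centralizer ((D.subgroupOf (Subgroup.normalizer (D : Set G))) : Set (Subgroup.normalizer (D : Set G))) :=
    ⟨⟨(c : G), hcN⟩, (mem_centralizer_map_subtype _).mpr c.2⟩
  rw [hval c0 c rfl, hval 1 1 rfl]
  refine htr ξ hξ c0 ?_
  have hle : piK π (Subgroup.centralizer (((D.subgroupOf (Subgroup.normalizer (D : Set G))).map (Subgroup.normalizer (D : Set G)).subtype : Subgroup G) : Set G)) ≤ piK π (Subgroup.normalizer (D : Set G)) := by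
    refine le_piK ((piK_le _).trans (by rw [hmap]; exact Subgroup.centralizer_le_normalizer _))
      (fun d hd => piK_norm_normalizer ?_) fun q hq hd => piK_primes _ hq hd
    rw [hmap]
    refine Subgroup.mem_normalizer_iff.mpr fun w => ⟨fun hw => conj_mem_centralizer hd hw, fun hw => ?_⟩
    simpa [mul_assoc] using conj_mem_centralizer (Subgroup.inv_mem _ hd) hw
  obtain ⟨w, hw, hwc⟩ := hle hc
  rwa [show (c0 : (Subgroup.normalizer (D : Set G))) = w from Subtype.ext hwc.symm]

/-- Brauer: the core is in the kernel of blocks with local data inducing the block. -/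
theorem piCore_le_ker_of_good (hM : IsPModular p M) (hpπ : p ∈ π) {B : Set (IrrCharacter G)}
    {G₀ : Subgroup G} [Fintype G₀] {B₀ : Set (IrrCharacter G₀)} (hB₀ : IsInducedBlock M G₀ B₀ B)
    {D₀ : Subgroup G₀} (hD₀ : IsDefectGroup p M B₀ D₀)
    (hC : Subgroup.centralizer ((D₀.map G₀.subtype : Subgroup G) : Set G) ≤ G₀)
    (hgood : ∀ (Q : Subgroup G) (e : Set (IrrCharacter (Subgroup.centralizer (Q : Set G)))),
      IsBrauerPairOf p M B Q e → GoodPair π Q e) :
    ∀ x : G₀, x ∈ piCore {q | q ∉ π} G₀ → x ∈ blockKer B₀ := by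
  obtain ⟨e0, he0⟩ := exists_pair_of_le_defect hM hB₀.1 hD₀ le_rfl
  have hg := hgood _ _ (pairOf_of_induced hM hB₀ hC he0)
  have hp0 : ¬ p ∣ Nat.card (piCore {q | q ∉ π} G₀) := fun h => S1886.piCore_isPi _ p hM.1 h hpπ
  intro x hx χ hχ
  refine (pair_ker_iff hM _ hp0 he0).mpr ?_ χ hχ x hx
  intro ξ hξ c hc
  haveI := Fintype.ofFinite (Subgroup.centralizer (D₀ : Set G₀))
  haveI := Fintype.ofFinite
    (Subgroup.centralizer ((D₀.map G₀.subtype : Subgroup G) : Set G))
  have hm : irrTransport (liftEquiv D₀ hC).symm ξ ∈ liftBlock D₀ e0 := by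
    rw [liftBlock_eq D₀ hC]; exact ⟨ξ, hξ, rfl⟩
  have h2 := hg _ hm (liftEquiv D₀ hC c) ?_
  · rw [irrTransport_apply, irrTransport_apply, MulEquiv.symm_apply_apply, map_one] at h2
    exact h2
  · refine (le_piK (K := piK π G₀ ⊓ Subgroup.centralizer ((D₀.map G₀.subtype : Subgroup G) : Set G))
      inf_le_right (fun d hd k hk => ⟨piK_norm d (hC hd) k hk.1,
        Subgroup.mul_mem _ (Subgroup.mul_mem _ hd hk.2) (Subgroup.inv_mem _ hd)⟩) fun q hq hd =>
      piK_primes _ hq (hd.trans (Subgroup.card_dvd_of_le inf_le_left)))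
      ⟨⟨(c : G₀), hc, rfl⟩, ((liftEquiv D₀ hC c)).2⟩

/-- Above a pair whose centralizer has a normal complement, the kernel property ascends. -/
theorem goodPair_up (hM : IsPModular p M) (hpπ : p ∈ π) {a b : BrauerPairIdx G}
    (h : Relation.ReflTransGen (NormalSubpairRel p M) a b)
    (hall : ∀ x ∈ Subgroup.centralizer (a.1 : Set G), (∀ q : ℕ, q.Prime → q ∣ orderOf x → q ∉ π) →
      x ∈ piK π (Subgroup.centralizer (a.1 : Set G)))
    (ha : GoodPair π a.1 a.2) :
    GoodPair π b.1 b.2 ∧ ∀ x ∈ Subgroup.centralizer (b.1 : Set G),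
      (∀ q : ℕ, q.Prime → q ∣ orderOf x → q ∉ π) → x ∈ piK π (Subgroup.centralizer (b.1 : Set G)) := by
  induction h with
  | refl => exact ⟨ha, hall⟩
  | @tail b c _ h1 ih =>
    obtain ⟨hb, hballb⟩ := ih
    have hCRQ : Subgroup.centralizer (c.1 : Set G) ≤ Subgroup.centralizer (b.1 : Set G) :=
      centralizer_antitone h1.2.2.1
    have htr := (step_ker_iff hM h1 _ (piK_le _) piK_norm (fun u hu => piK_norm_normalizer (by
      have hu' := h1.2.2.2.1 hu
      refine Subgroup.mem_normalizer_iff.mpr fun w => ⟨fun hw => conj_mem_centralizer hu' hw, fun hw => ?_⟩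
      simpa [mul_assoc] using conj_mem_centralizer (Subgroup.inv_mem _ hu') hw))
      (piK_not_dvd hM.1 hpπ _)).mp hb
    refine ⟨fun ξ hξ d hd => htr ξ hξ d
      (hballb _ (hCRQ d.2) fun q hq hdq => piK_orderOf hd hq hdq), fun x hx hord => ?_⟩
    exact le_piK (K := piK π (Subgroup.centralizer (b.1 : Set G)) ⊓ Subgroup.centralizer (c.1 : Set G))
      inf_le_right (fun d hd k hk => ⟨piK_norm d (hCRQ hd) k hk.1,
        Subgroup.mul_mem _ (Subgroup.mul_mem _ hd hk.2) (Subgroup.inv_mem _ hd)⟩)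
      (fun q hq hd => piK_primes _ hq (hd.trans (Subgroup.card_dvd_of_le inf_le_left)))
      ⟨hballb x (hCRQ hx) hord, hx⟩

end Cfsg.Agent.Char
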