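import Cfsg.Agent.Lib.Char.BelowData
import Cfsg.Agent.Lib.Char.ExtraspecialChar
import Cfsg.Agent.Lib.Char.Green

/-!
# The block of the centralizer of a defect group of prime order

It holds a unique character trivial on the defect group, its stabilizer is that of the pair, and this character
takes a value prime to `p`.
-/

set_option autoImplicit false
set_option linter.unusedSectionVars false
set_option linter.style.haveILetI false

open Cfsg

namespace Cfsg.Agent.Char.PrimeBlockLocal

universe u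

variable {G : Type u} [Group G] [Fintype G] {M : Ideal AlgInt} {p : ℕ} {B : Set (IrrCharacter G)}
  {D : Subgroup G} {c : Set (IrrCharacter (Subgroup.centralizer (D : Set G)))}

theorem comm_of_card (hp : p.Prime) (hD : Nat.card D = p) : ∀ x ∈ D, ∀ y ∈ D, x * y = y * x := by
  haveI := Fact.mk hp
  haveI : IsCyclic D := isCyclic_of_prime_card hD
  letI : CommGroup D := IsCyclic.commGroup
  intro x hx y hy
  exact congrArg Subtype.val (mul_comm (⟨x, hx⟩ : D) ⟨y, hy⟩)

theorem defect_one (hM : IsPModular p M) (hmax : IsMaximalBrauerPair p M B D c) (hD : Nat.card D = p) :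
    blockDefect p B = 1 :=
  Nat.pow_right_injective hM.1.two_le
    ((card_defectGroup hM hmax.1.2.1 (maximal_pair_defect hM hmax)).symm.trans (hD.trans (pow_one p).symm))

theorem self_below (hM : IsPModular p M) (hmax : IsMaximalBrauerPair p M B D c) :
    IsNormalSubpair p M D c D c := isNormalSubpair_self hM hmax.1.1.1 hmax.1.1.2

theorem self_free (hM : IsPModular p M) (hmax : IsMaximalBrauerPair p M B D c) :
    ∀ t ∈ pairStab (pmod_prime hM) hmax.1.1.2, (∀ u ∈ D, t * u = u * t) →
      t ∈ Subgroup.centralizer (D : Set G) := fun _ _ h u hu => (h u hu).symm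

variable [Fintype (Subgroup.centralizer (D : Set G))]

open scoped Classical in
/-- The character trivial on `D`. -/
theorem local_char (hM : IsPModular p M) (hmax : IsMaximalBrauerPair p M B D c) (hD : Nat.card D = p) :
    ∃ (θ : IrrCharacter (Subgroup.centralizer (D : Set G))) (m : ℕ), θ ∈ c ∧ ¬ p ∣ m ∧
      (Nat.card (Subgroup.centralizer (D : Set G)) : ℂ) =
        p * m * (θ : Subgroup.centralizer (D : Set G) → ℂ) 1 ∧
      (∀ y : Subgroup.centralizer (D : Set G), (y : G) ∈ D →
        (θ : Subgroup.centralizer (D : Set G) → ℂ) y = (θ : Subgroup.centralizer (D : Set G) → ℂ) 1) ∧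
      (∀ η ∈ c, (∀ y : Subgroup.centralizer (D : Set G), (y : G) ∈ D →
        (η : Subgroup.centralizer (D : Set G) → ℂ) y = (η : Subgroup.centralizer (D : Set G) → ℂ) 1) → η = θ) ∧
      ∃ h, ¬ MemLocalIdeal M ((θ : Subgroup.centralizer (D : Set G) → ℂ) h) := by
  have hp := hM.1
  have hP := pmod_prime hM
  have hab := comm_of_card hp hD
  have hQ := self_below hM hmax
  have hfree := self_free hM hmax
  have hc : IsPBlock M c := hmax.1.1.2
  have hcount : Nat.card c = p := by
    rw [BelowData.counts hM hmax hab hQ hfree, defect_one hM hmax hD, pow_one]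
  have hreg : ∀ ξ ∈ c, ∀ η ∈ c, ∀ x : (Subgroup.centralizer (D : Set G)), ¬ p ∣ orderOf x → (ξ : (Subgroup.centralizer (D : Set G)) → ℂ) x = (η : (Subgroup.centralizer (D : Set G)) → ℂ) x :=
    fun ξ hξ η hη x hx => BelowData.regular hM hmax hab hQ hfree hξ hη hx
  obtain ⟨θ₀, hθ₀⟩ := block_nonempty hP hc
  set n := deg (θ₀ : (Subgroup.centralizer (D : Set G)) → ℂ) with hn
  have hn0 : 0 < n := deg_pos θ₀.2
  have hone : ∀ η ∈ c, (η : (Subgroup.centralizer (D : Set G)) → ℂ) 1 = (n : ℂ) := fun η hη => by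
    rw [hreg η hη θ₀ hθ₀ 1 (by simp [hp.ne_one]), char_one_eq_deg (irr_isCharacter θ₀.2)]
  have hDC : D ≤ (Subgroup.centralizer (D : Set G)) := BelowData.le_centralizer hab le_rfl
  have hsumfin : ∀ g : (Subgroup.centralizer (D : Set G)), ∑ η : IrrCharacter (Subgroup.centralizer (D : Set G)) with η ∈ c, (η : (Subgroup.centralizer (D : Set G)) → ℂ) g =
      if p ∣ orderOf g then 0 else p * (θ₀ : (Subgroup.centralizer (D : Set G)) → ℂ) g := by
    intro g
    have hcard : (Finset.univ.filter fun η : IrrCharacter (Subgroup.centralizer (D : Set G)) => η ∈ c).card = p := by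
      rw [← hcount, Nat.card_eq_fintype_card, Fintype.card_subtype]
    split_ifs with hg
    · have h0 := blockCoeff_eq_zero_of_singular hM hc (x := g⁻¹) (by rwa [orderOf_inv])
      rw [blockCoeff, finsum_mem_irr, mul_eq_zero] at h0
      rcases h0 with h0 | h0
      · exact absurd h0 (inv_ne_zero (Nat.cast_ne_zero.mpr Nat.card_pos.ne'))
      · rw [Finset.sum_congr rfl (g := fun η : IrrCharacter (Subgroup.centralizer (D : Set G)) => (n : ℂ) * (η : (Subgroup.centralizer (D : Set G)) → ℂ) g) (fun η hη => by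
          rw [← char_inv (irr_isCharacter η.2), inv_inv, hone η (Finset.mem_filter.mp hη).2]), ← Finset.mul_sum] at h0
        exact (mul_eq_zero.mp h0).resolve_left (Nat.cast_ne_zero.mpr hn0.ne')
    · rw [Finset.sum_congr rfl fun η hη => hreg η (Finset.mem_filter.mp hη).2 θ₀ hθ₀ g hg, Finset.sum_const,
        hcard, nsmul_eq_mul]
  let Dc := Finset.univ.filter fun y : (Subgroup.centralizer (D : Set G)) => (y : G) ∈ D
  have hDc : Dc.card = p := by
    rw [← hD, Nat.card_eq_fintype_card, ← Fintype.card_coe]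
    exact Fintype.card_congr
      { toFun := fun y => ⟨(y.1 : G), (Finset.mem_filter.mp y.2).2⟩
        invFun := fun y => ⟨⟨y, hDC y.2⟩, Finset.mem_filter.mpr ⟨Finset.mem_univ _, y.2⟩⟩
        left_inv := fun y => Subtype.ext (Subtype.ext rfl)
        right_inv := fun y => rfl }
  -- each member is trivial on `D` or sums to zero over it
  have hdich : ∀ η ∈ c, (∀ y : (Subgroup.centralizer (D : Set G)), (y : G) ∈ D → (η : (Subgroup.centralizer (D : Set G)) → ℂ) y = (η : (Subgroup.centralizer (D : Set G)) → ℂ) 1) ∨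
      ∑ y ∈ Dc, (η : (Subgroup.centralizer (D : Set G)) → ℂ) y = 0 := by
    intro η _
    by_contra hcon
    push Not at hcon
    obtain ⟨⟨z, hz, hzne⟩, hsum⟩ := hcon
    have hzc : z ∈ Subgroup.center (Subgroup.centralizer (D : Set G)) := Subgroup.mem_center_iff.mpr fun x => Subtype.ext (x.2 (z : G) hz).symm
    obtain ⟨ω, -, hω⟩ := char_mul_central η.2 hzc
    refine hzne ?_
    have h1 : ∑ y ∈ Dc, (η : (Subgroup.centralizer (D : Set G)) → ℂ) (y * z) = ∑ y ∈ Dc, (η : (Subgroup.centralizer (D : Set G)) → ℂ) y :=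
      Finset.sum_equiv (Equiv.mulRight z) (fun y => by simp [Dc, D.mul_mem_cancel_right hz]) fun y _ => rfl
    rw [Finset.sum_congr rfl fun y _ => hω y, ← Finset.mul_sum, ← sub_eq_zero, ← sub_one_mul, mul_eq_zero,
      or_iff_left hsum, sub_eq_zero] at h1
    rw [← one_mul z, hω 1, h1, one_mul]
  -- exactly one is trivial on `D`
  set F := Finset.univ.filter fun η : IrrCharacter (Subgroup.centralizer (D : Set G)) =>
    η ∈ c ∧ ∀ y : (Subgroup.centralizer (D : Set G)), (y : G) ∈ D → (η : (Subgroup.centralizer (D : Set G)) → ℂ) y = (η : (Subgroup.centralizer (D : Set G)) → ℂ) 1 with hF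
  have hFcard : F.card = 1 := by
    have h1 : ∑ y ∈ Dc, ∑ η : IrrCharacter (Subgroup.centralizer (D : Set G)) with η ∈ c, (η : (Subgroup.centralizer (D : Set G)) → ℂ) y = (p : ℂ) * n := by
      rw [Finset.sum_eq_single (1 : (Subgroup.centralizer (D : Set G)))]
      · rw [hsumfin, if_neg (by simp [hp.ne_one]), char_one_eq_deg (irr_isCharacter θ₀.2)]
      · intro y hy hy1
        rw [hsumfin, if_pos]
        have h2 : orderOf (y : G) = p := by
          have h3 : orderOf (⟨(y : G), (Finset.mem_filter.mp hy).2⟩ : D) ∣ p := hD ▸ orderOf_dvd_natCard _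
          rw [Subgroup.orderOf_mk] at h3
          refine ((Nat.dvd_prime hp).mp h3).resolve_left fun h4 => hy1 ?_
          exact Subtype.ext (orderOf_eq_one_iff.mp h4)
        rw [← Subgroup.orderOf_coe, h2]
      · exact fun h => absurd (show (1 : (Subgroup.centralizer (D : Set G))) ∈ Dc by simp [Dc]) h
    rw [Finset.sum_comm] at h1
    have h2 : ∑ η : IrrCharacter (Subgroup.centralizer (D : Set G)) with η ∈ c, ∑ y ∈ Dc, (η : (Subgroup.centralizer (D : Set G)) → ℂ) y = (F.card : ℂ) * ((p : ℂ) * n) := by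
      rw [← nsmul_eq_mul, ← Finset.sum_const, hF, Finset.sum_filter, Finset.sum_filter]
      refine Finset.sum_congr rfl fun η _ => ?_
      by_cases hη : η ∈ c
      · by_cases ht : ∀ y : (Subgroup.centralizer (D : Set G)), (y : G) ∈ D → (η : (Subgroup.centralizer (D : Set G)) → ℂ) y = (η : (Subgroup.centralizer (D : Set G)) → ℂ) 1
        · rw [if_pos hη, if_pos ⟨hη, ht⟩,
            Finset.sum_congr rfl fun y hy => (ht y (Finset.mem_filter.mp hy).2).trans (hone η hη),
            Finset.sum_const, hDc, nsmul_eq_mul]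
        · rw [if_pos hη, if_neg fun h => ht h.2]
          exact (hdich η hη).resolve_left ht
      · rw [if_neg hη, if_neg fun h => hη h.1]
    rw [h1] at h2
    have hpn : (p : ℂ) * n ≠ 0 := mul_ne_zero (Nat.cast_ne_zero.mpr hp.ne_zero) (Nat.cast_ne_zero.mpr hn0.ne')
    have h3 : (F.card : ℂ) = 1 := mul_right_cancel₀ hpn (by rw [← h2, one_mul])
    exact_mod_cast h3
  obtain ⟨θ, hθF⟩ := Finset.card_eq_one.mp hFcard
  obtain ⟨hθ, hθD⟩ := (Finset.mem_filter.mp (hθF.symm ▸ Finset.mem_singleton_self θ : θ ∈ F)).2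
  -- the index
  have hdeg : ∀ η ∈ c, charDegree (η : (Subgroup.centralizer (D : Set G)) → ℂ) = n := fun η hη => by
    have h1 := char_one_eq_deg (irr_isCharacter η.2)
    rw [hone η hη] at h1
    exact Nat.cast_injective (R := ℂ) h1.symm
  obtain ⟨m', hm'⟩ : n ∣ Nat.card (Subgroup.centralizer (D : Set G)) := deg_dvd_card θ₀.2
  have hval : (Nat.card (Subgroup.centralizer (D : Set G))).factorization p - n.factorization p = 1 := by
    have h1 := (BelowData.defect hM hmax hab hQ).trans (defect_one hM hmax hD)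
    rw [blockDefect, Set.image_congr (g := fun _ => n.factorization p) (fun η hη => by rw [hdeg η hη]),
      Set.Nonempty.image_const ⟨θ₀, hθ₀⟩, csInf_singleton] at h1
    exact h1
  have hm0 : m' ≠ 0 := fun h => Nat.card_pos.ne' (by rw [hm', h, mul_zero] : Nat.card (Subgroup.centralizer (D : Set G)) = 0)
  have hm1 : m'.factorization p = 1 := by
    rw [hm', Nat.factorization_mul hn0.ne' hm0, Finsupp.add_apply] at hval
    omega
  obtain ⟨m, hm⟩ : p ∣ m' := (hp.dvd_iff_one_le_factorization hm0).mpr (by omega)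
  have hmp : ¬ p ∣ m := by
    intro h
    obtain ⟨l, rfl⟩ := h
    have h2 : 2 ≤ m'.factorization p := (hp.pow_dvd_iff_le_factorization hm0).mp ⟨l, by rw [hm]; ring⟩
    omega
  have hcard' : (Nat.card (Subgroup.centralizer (D : Set G)) : ℂ) = p * m * (θ : (Subgroup.centralizer (D : Set G)) → ℂ) 1 := by
    rw [hone θ hθ, hm', hm]; push_cast; ring
  refine ⟨θ, m, hθ, hmp, hcard', hθD, fun η hη ht => ?_, ?_⟩
  · exact Finset.mem_singleton.mp (hθF ▸ Finset.mem_filter.mpr ⟨Finset.mem_univ _, hη, ht⟩)
  · by_contra hall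
    push Not at hall
    refine memLI_one_iff hP ?_
    have h1 : MemLocalIdeal M (lam (θ : (Subgroup.centralizer (D : Set G)) → ℂ) (blockCoeff c)) :=
      memLI_lam hP θ.2 (isClassFunction_blockCoeff c) fun x => by
        by_cases hx : p ∣ orderOf x
        · rw [blockCoeff_eq_zero_of_singular hM hc hx]; exact memLI_zero hP
        · have e : blockCoeff c x = (m : ℂ)⁻¹ * (θ : (Subgroup.centralizer (D : Set G)) → ℂ) x⁻¹ := by
            rw [blockCoeff, finsum_mem_irr,
              Finset.sum_congr rfl (g := fun η : IrrCharacter (Subgroup.centralizer (D : Set G)) => (n : ℂ) * (η : (Subgroup.centralizer (D : Set G)) → ℂ) x⁻¹)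
                (fun η hη => by rw [← char_inv (irr_isCharacter η.2), hone η (Finset.mem_filter.mp hη).2]),
              ← Finset.mul_sum, hsumfin, if_neg (by rwa [orderOf_inv]), hm', hm,
              hreg θ hθ θ₀ hθ₀ x⁻¹ (by rwa [orderOf_inv])]
            have h0 : (n : ℂ) ≠ 0 := Nat.cast_ne_zero.mpr hn0.ne'
            have h0' : (p : ℂ) ≠ 0 := Nat.cast_ne_zero.mpr hp.ne_zero
            have h0'' : (m : ℂ) ≠ 0 := Nat.cast_ne_zero.mpr fun h => hmp (h ▸ dvd_zero p)
            push_cast
            field_simp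
          rw [e]
          exact memLI_mul_left hP (memLR_inv_natCast hM hmp) (hall _)
    rwa [lam_blockCoeff, if_pos hθ] at h1

/-- An element of the normalizer moves the character into `c` only by stabilizing the pair. -/
theorem mem_stab_iff (hM : IsPModular p M) (hmax : IsMaximalBrauerPair p M B D c)
    {θ : IrrCharacter (Subgroup.centralizer (D : Set G))} (hθ : θ ∈ c)
    (hθD : ∀ y : Subgroup.centralizer (D : Set G), (y : G) ∈ D →
      (θ : Subgroup.centralizer (D : Set G) → ℂ) y = (θ : Subgroup.centralizer (D : Set G) → ℂ) 1)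
    (huniq : ∀ η ∈ c, (∀ y : Subgroup.centralizer (D : Set G), (y : G) ∈ D →
      (η : Subgroup.centralizer (D : Set G) → ℂ) y = (η : Subgroup.centralizer (D : Set G) → ℂ) 1) → η = θ)
    {g : G} (hg : g ∈ Subgroup.normalizer (D : Set G))
    (α : Subgroup.centralizer (D : Set G) ≃* Subgroup.centralizer (D : Set G))
    (hα : ∀ x, (α x : G) = g * (x : G) * g⁻¹) :
    (irrTransport α θ ∈ c ↔ g ∈ pairStab (pmod_prime hM) hmax.1.1.2) ∧
      (g ∈ pairStab (pmod_prime hM) hmax.1.1.2 → irrTransport α θ = θ) := by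
  have hP := pmod_prime hM
  have hcN : g ∈ Subgroup.normalizer ((Subgroup.centralizer (D : Set G)) : Set G) := by
    refine Subgroup.mem_normalizer_iff.mpr fun x => ⟨fun hx => (hα ⟨x, hx⟩) ▸ (α ⟨x, hx⟩).2, fun hx => ?_⟩
    obtain ⟨w, hw⟩ := α.surjective ⟨g * x * g⁻¹, hx⟩
    have h1 := hα w
    rw [hw] at h1
    rw [mul_left_inj, mul_right_inj] at h1
    exact h1 ▸ w.2
  have hmem : g ∈ pairStab (pmod_prime hM) hmax.1.1.2 → irrTransport α θ ∈ c := by
    intro h
    have hst := (mem_pairStab hP hmax.1.1.2).mp (inv_mem h)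
    obtain ⟨χ', hχ', hconj⟩ := hst.2.2 θ hθ
    rwa [show irrTransport α θ = χ' from Subtype.ext (funext fun x => by
      rw [irrTransport_apply]
      refine (hconj (α x) x ?_).symm
      rw [hα]; group)]
  refine ⟨⟨fun h => (mem_pairStab hP hmax.1.1.2).mpr ⟨hg, hcN, fun χ hχ => ?_⟩, hmem⟩, fun h => ?_⟩
  · have himg : irrTransport α '' c = c :=
      block_disjoint hP (isPBlock_transport α hmax.1.1.2) hmax.1.1.2 ⟨θ, hθ, rfl⟩ h
    obtain ⟨χ', hχ', rfl⟩ := (himg.symm ▸ hχ : χ ∈ irrTransport α '' c)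
    refine ⟨χ', hχ', fun k k' hk => ?_⟩
    rw [irrTransport_apply]
    exact congrArg _ (Subtype.ext (by rw [hα]; exact hk))
  · refine huniq _ (hmem h) fun y hy => ?_
    rw [irrTransport_apply, irrTransport_apply, map_one]
    refine hθD _ ?_
    rw [hα]
    exact (Subgroup.mem_normalizer_iff.mp hg _).mp hy

end Cfsg.Agent.Char.PrimeBlockLocal
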