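import Cfsg.Agent.Lib.Char.Restrict
import Cfsg.Agent.Lib.Char.Convolution
import Cfsg.Agent.Lib.Char.Inflate
import Cfsg.Agent.Lib.Char.ModTrace
import Cfsg.Agent.Lib.Char.ResField
import Cfsg.Agent.Lib.Char.CentralHom

/-!
# Irreducible modules from characters whose degree has full `p`-part modulo a normal subgroup of order `p`

The reductions of such characters give irreducible modules on which the class functions act by the reduced
central characters, and distinct characters give unlinked modules.
-/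

set_option autoImplicit false
set_option linter.unusedSectionVars false
set_option linter.style.haveILetI false

open Cfsg

namespace Cfsg.Agent.Char.PrimeNormalModules

universe u v

section Reg

variable {k : Type v} [CommRing k] {N : Type u} [Group N]

/-- Right translations of functions on the group. -/
def regR : N →* Module.End k (N → k) where
  toFun n :=
    { toFun := fun f x => f (x * n)
      map_add' := fun _ _ => rfl
      map_smul' := fun _ _ => rfl }
  map_one' := LinearMap.ext fun f => funext fun x => by simp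
  map_mul' a b := LinearMap.ext fun f => funext fun x => by simp [mul_assoc]

theorem regR_apply (n : N) (f : N → k) (x : N) : regR n f x = f (x * n) := rfl

end Reg

section Sub

variable {k : Type v} [Field k] {G : Type u} [Group G] {W : Type*} [AddCommGroup W] [Module k W]
  {ρ : G →* Module.End k W} {U : Submodule k W}

/-- The representation on an invariant subspace. -/
def subRep (hU : InvSub ρ U) : G →* Module.End k U where
  toFun g := (ρ g).restrict fun x hx => hU g x hx
  map_one' := LinearMap.ext fun x => Subtype.ext (by simp)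
  map_mul' a b := LinearMap.ext fun x => Subtype.ext (by simp)

theorem subRep_apply (hU : InvSub ρ U) (g : G) (x : U) : ((subRep hU g x : U) : W) = ρ g (x : W) := rfl

theorem exists_simple_sub [FiniteDimensional k W] {U₀ : Submodule k W} (hU₀ : InvSub ρ U₀) (hne : U₀ ≠ ⊥) :
    ∃ V : Submodule k W, ∃ hV : InvSub ρ V, V ≤ U₀ ∧ SimpleRep (subRep hV) := by
  obtain ⟨V, ⟨hV, hle, hVne⟩, hmin⟩ := (IsWellFounded.wf
    (r := ((· < ·) : Submodule k W → Submodule k W → Prop))).has_min
    {V | InvSub ρ V ∧ V ≤ U₀ ∧ V ≠ ⊥} ⟨U₀, hU₀, le_rfl, hne⟩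
  refine ⟨V, hV, hle, Submodule.nontrivial_iff_ne_bot.mpr hVne, fun U hU => ?_⟩
  by_contra hcon
  push Not at hcon
  have hlt : U.map V.subtype < V := by
    refine lt_of_le_of_ne (Submodule.map_subtype_le V U) fun e => hcon.2 ?_
    refine Submodule.map_injective_of_injective V.injective_subtype ?_
    rw [e, Submodule.map_top, Submodule.range_subtype]
  refine hmin _ ⟨?_, hlt.le.trans hle, fun e => hcon.1 ?_⟩ hlt
  · rintro g _ ⟨x, hx, rfl⟩
    exact ⟨subRep hV g x, hU g x hx, rfl⟩
  · exact Submodule.map_injective_of_injective V.injective_subtype (by rw [e, Submodule.map_bot])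

end Sub

variable {N : Type u} [Group N] [Fintype N] {M : Ideal AlgInt} {p : ℕ} (D : Subgroup N) [D.Normal]
  [Fintype (N ⧸ D)]

theorem sum_cosets (hD : Nat.card D = p) (hp : p ≠ 0) {F : N → ℂ} (hF : ∀ n : N, ∀ y ∈ D, F (n * y) = F n) :
    ∑ q : N ⧸ D, F q.out = (p : ℂ)⁻¹ * ∑ n : N, F n := by
  have h := sum_comp_mk D fun q : N ⧸ D => F q.out
  rw [Finset.sum_congr rfl (g := F) fun n _ => ?_, hD] at h
  · rw [h, inv_mul_cancel_left₀ (Nat.cast_ne_zero.mpr hp)]
  · obtain ⟨y, hy⟩ := QuotientGroup.mk_out_eq_mul D n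
    rw [hy]
    exact hF n _ y.2

theorem exists_modules (hM : IsPModular p M) (hD : Nat.card D = p) {e K : ℕ} (hK : ¬ p ∣ K)
    (ν : Fin e → IrrCharacter N) (hinj : Function.Injective ν)
    (htriv : ∀ i, ∀ x : N, ∀ y ∈ D, (ν i : N → ℂ) (x * y) = (ν i : N → ℂ) x)
    (hdeg : ∀ i, (Nat.card N : ℂ) = p * K * (ν i : N → ℂ) 1) :
    ∃ (V : Fin e → Submodule (Res (pmod_prime hM)) (N → Res (pmod_prime hM)))
      (hV : ∀ i, InvSub regR (V i)),
      (∀ i, SimpleRep (subRep (hV i))) ∧
      (∀ i, ∀ y ∈ D, subRep (hV i) y = 1) ∧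
      (∀ i, ∀ a : N → ℂ, IsClassFunction N a → (∀ g, MemLocalRing M (a g)) → ∀ v,
        (∑ g, red (pmod_prime hM) (a g) • subRep (hV i) g v) =
          red (pmod_prime hM) (lam (ν i : N → ℂ) a) • v) ∧
      (∀ i j, i ≠ j → ∀ f : V j →ₗ[Res (pmod_prime hM)] V i,
        (∀ n v, f (subRep (hV j) n v) = subRep (hV i) n (f v)) → f = 0) := by
  classical
  set hP := pmod_prime hM
  have hp := hM.1
  have hν : ∀ i x, MemLocalRing M ((ν i : N → ℂ) x) := fun i x => memLR_char hP (irr_isCharacter (ν i).2) x
  have hKR : MemLocalRing M (K : ℂ)⁻¹ := memLR_inv_natCast hM hK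
  have hK0 : (K : ℂ) ≠ 0 := Nat.cast_ne_zero.mpr fun h => hK (h ▸ dvd_zero p)
  have hp0 : (p : ℂ) ≠ 0 := Nat.cast_ne_zero.mpr hp.ne_zero
  have hclass : ∀ i, IsClassFunction N (ν i : N → ℂ) := fun i => isClassFunction_character (irr_isCharacter (ν i).2)
  have hswap : ∀ i (a b : N), (ν i : N → ℂ) (a * b) = (ν i : N → ℂ) (b * a) := fun i a b => by
    have h := hclass i (a * b) b
    rw [show b * (a * b) * b⁻¹ = b * a by group] at h
    exact h.symm
  -- the convolutions over the quotient
  have hortho : ∀ i j (x g : N), ∑ q : N ⧸ D, (K : ℂ)⁻¹ * (ν j : N → ℂ) (q.out)⁻¹ * (ν i : N → ℂ) (x * q.out * g) =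
      if i = j then (ν i : N → ℂ) (x * g) else 0 := by
    intro i j x g
    rw [sum_cosets D hD hp.ne_zero
      (F := fun n => (K : ℂ)⁻¹ * (ν j : N → ℂ) n⁻¹ * (ν i : N → ℂ) (x * n * g)) fun n y hy => ?_]
    · have h := irr_convolution (ν j).2 (ν i).2 (g * x)
      have h1 : ∑ n : N, (K : ℂ)⁻¹ * (ν j : N → ℂ) n⁻¹ * (ν i : N → ℂ) (x * n * g) =
          (K : ℂ)⁻¹ * ∑ n : N, (ν j : N → ℂ) n * (ν i : N → ℂ) (n⁻¹ * (g * x)) := by
        rw [Finset.mul_sum]
        refine Fintype.sum_equiv (Equiv.inv N) _ _ fun n => ?_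
        rw [Equiv.inv_apply, inv_inv, mul_assoc x, hswap i x, mul_assoc n g x, mul_assoc]
      rw [h1]
      have h0 : (ν i : N → ℂ) 1 ≠ 0 := irr_one_ne_zero (ν i).2
      by_cases hij : i = j
      · subst hij
        rw [if_pos rfl, hdeg i] at h
        rw [if_pos rfl, hswap i x g]
        refine mul_left_cancel₀ (mul_ne_zero (mul_ne_zero hp0 hK0) h0) ?_
        rw [← h]
        field_simp
      · rw [if_neg fun e => hij (hinj (Subtype.ext e)).symm] at h
        rw [if_neg hij, (mul_eq_zero.mp h).resolve_left h0, mul_zero, mul_zero]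
    · have h2 : (n * y)⁻¹ = y⁻¹ * n⁻¹ := mul_inv_rev n y
      rw [h2, hswap j, htriv j _ _ (D.inv_mem hy), ← mul_assoc x n y,
        show x * n * y * g = x * n * g * (g⁻¹ * y * g) by group,
        htriv i _ _ (by simpa using Subgroup.Normal.conj_mem ‹D.Normal› y hy g⁻¹)]
  let φ : Fin e → (N → Res hP) := fun i x => red hP ((ν i : N → ℂ) x)
  let U : Fin e → Submodule (Res hP) (N → Res hP) := fun i =>
    Submodule.span (Res hP) (Set.range fun g => regR g (φ i))
  have hU : ∀ i, InvSub regR (U i) := fun i g x hx => by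
    induction hx using Submodule.span_induction with
    | mem w hw =>
      obtain ⟨a, rfl⟩ := hw
      rw [← Module.End.mul_apply, ← map_mul]
      exact Submodule.subset_span ⟨g * a, rfl⟩
    | zero => rw [map_zero]; exact (U i).zero_mem
    | add a b _ _ ha hb => rw [map_add]; exact (U i).add_mem ha hb
    | smul r a _ ha => rw [map_smul]; exact (U i).smul_mem r ha
  -- a class function acts by its central character
  let opA : (N → ℂ) → Module.End (Res hP) (N → Res hP) := fun a => ∑ g, red hP (a g) • regR g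
  have hA : ∀ i, ∀ a : N → ℂ, IsClassFunction N a → (∀ g, MemLocalRing M (a g)) → ∀ v ∈ U i,
      opA a v = red hP (lam (ν i : N → ℂ) a) • v := by
    intro i a ha haR v hv
    induction hv using Submodule.span_induction with
    | mem w hw =>
      obtain ⟨g, rfl⟩ := hw
      funext x
      simp only [opA, LinearMap.sum_apply, LinearMap.smul_apply, Finset.sum_apply, Pi.smul_apply, regR_apply, φ,
        smul_eq_mul]
      rw [Finset.sum_congr rfl (g := fun w => red hP (a w * (ν i : N → ℂ) (x * w * g)))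
          (fun w _ => (red_mul hP (haR w) (hν i _)).symm),
        ← red_sum hP _ _ (fun w _ => memLR_mul hP (haR w) (hν i _)),
        ← red_mul hP (memLR_lam hP (ν i).2 ha haR) (hν i _)]
      refine congrArg (red hP) ?_
      rw [hswap i x g, ← sum_mul_shift (ν i).2 ha (g * x)]
      refine Finset.sum_congr rfl fun w _ => ?_
      rw [mul_assoc x, hswap i x, mul_assoc w g x]
    | zero => rw [map_zero, smul_zero]
    | add u w _ _ hu hw => rw [map_add, hu, hw, smul_add]
    | smul r u _ hu => rw [map_smul, hu, smul_comm]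
  -- separating operators
  let R : Fin e → Module.End (Res hP) (N → Res hP) := fun j =>
    ∑ q : N ⧸ D, red hP ((K : ℂ)⁻¹ * (ν j : N → ℂ) (q.out)⁻¹) • regR q.out
  have hR : ∀ i j, ∀ v ∈ U i, R j v = if i = j then v else 0 := by
    intro i j v hv
    induction hv using Submodule.span_induction with
    | mem w hw =>
      obtain ⟨g, rfl⟩ := hw
      funext x
      simp only [R, LinearMap.sum_apply, LinearMap.smul_apply, Finset.sum_apply, Pi.smul_apply, regR_apply, φ,
        smul_eq_mul]
      rw [Finset.sum_congr rfl (g := fun q : N ⧸ D => red hP ((K : ℂ)⁻¹ * (ν j : N → ℂ) (q.out)⁻¹ *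
            (ν i : N → ℂ) (x * q.out * g)))
          (fun q _ => (red_mul hP (memLR_mul hP hKR (hν j _)) (hν i _)).symm),
        ← red_sum hP _ _ (fun q _ => memLR_mul hP (memLR_mul hP hKR (hν j _)) (hν i _)), hortho]
      split_ifs
      · rfl
      · rw [red_zero]; rfl
    | zero => rw [map_zero, ite_self]
    | add u w _ _ hu hw => rw [map_add, hu, hw]; split_ifs <;> simp
    | smul r u _ hu => rw [map_smul, hu]; split_ifs <;> simp
  -- the reductions do not vanish
  have hne : ∀ i, U i ≠ ⊥ := by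
    intro i hbot
    have hmem : ∀ x, MemLocalIdeal M ((ν i : N → ℂ) x) := fun x => by
      have h1 : regR 1 (φ i) ∈ U i := Submodule.subset_span ⟨1, rfl⟩
      rw [hbot, Submodule.mem_bot, map_one, Module.End.one_apply] at h1
      exact (red_eq_zero_iff hP (hν i x)).mp (congrFun h1 x)
    let A : Matrix (N ⧸ D) (N ⧸ D) (locRing hP) := Matrix.of fun a b =>
      ⟨(K : ℂ)⁻¹ * (ν i : N → ℂ) ((b.out)⁻¹ * a.out), memLR_mul hP hKR (hν i _)⟩
    have hA0 : A.map (redHom hP) = 0 := by
      ext a b
      rw [Matrix.map_apply, redHom_apply, Matrix.zero_apply]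
      simp only [A, Matrix.of_apply]
      rw [red_eq_zero_iff hP (memLR_mul hP hKR (hν i _))]
      exact memLI_mul_left hP hKR (hmem _)
    have hdet : ((1 - A).map (locRing hP).subtype).det ≠ 0 := by
      intro h0
      rw [← RingHom.mapMatrix_apply, ← RingHom.map_det] at h0
      have h2 := RingHom.map_det (redHom hP) (1 - A)
      rw [show (1 - A).det = 0 from Subtype.ext h0, map_zero, RingHom.mapMatrix_apply,
        Matrix.map_sub _ (map_sub _), hA0, sub_zero, Matrix.map_one _ (map_zero _) (map_one _), Matrix.det_one] at h2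
      exact zero_ne_one h2
    let v : N ⧸ D → ℂ := fun q => (ν i : N → ℂ) q.out
    have hfix : ((1 - A).map (locRing hP).subtype).mulVec v = 0 := by
      rw [Matrix.map_sub _ (map_sub _), Matrix.map_one _ (map_zero _) (map_one _), Matrix.sub_mulVec,
        Matrix.one_mulVec, sub_eq_zero]
      funext a
      have h := hortho i i a.out 1
      simp only [mul_one, if_pos] at h
      show (ν i : N → ℂ) a.out = ∑ b : N ⧸ D, (K : ℂ)⁻¹ * (ν i : N → ℂ) ((b.out)⁻¹ * a.out) * (ν i : N → ℂ) b.out
      rw [← h, sum_cosets D hD hp.ne_zero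
          (F := fun n => (K : ℂ)⁻¹ * (ν i : N → ℂ) n⁻¹ * (ν i : N → ℂ) (a.out * n)) fun n y hy => ?_,
        sum_cosets D hD hp.ne_zero
          (F := fun n => (K : ℂ)⁻¹ * (ν i : N → ℂ) (n⁻¹ * a.out) * (ν i : N → ℂ) n) fun n y hy => ?_]
      · refine congrArg ((p : ℂ)⁻¹ * ·) (Fintype.sum_equiv (Equiv.mulLeft a.out) _ _ fun n => ?_)
        rw [Equiv.coe_mulLeft, mul_inv_rev, inv_mul_cancel_right]
      · rw [mul_inv_rev, mul_assoc y⁻¹, hswap i y⁻¹, htriv i _ _ (D.inv_mem hy), htriv i _ _ hy]
      · rw [mul_inv_rev, hswap i y⁻¹, htriv i _ _ (D.inv_mem hy), ← mul_assoc a.out, htriv i _ _ hy]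
    have hv0 := congrFun (Matrix.eq_zero_of_mulVec_eq_zero hdet hfix) ((1 : N) : N ⧸ D)
    obtain ⟨y, hy⟩ := QuotientGroup.mk_out_eq_mul D (1 : N)
    simp only [v, hy, Pi.zero_apply] at hv0
    rw [htriv i _ _ y.2] at hv0
    exact irr_one_ne_zero (ν i).2 hv0
  choose V hV hle hsim using fun i => exists_simple_sub (hU i) (hne i)
  refine ⟨V, hV, hsim, fun i y hy => LinearMap.ext fun v => Subtype.ext ?_, fun i a ha haR v => Subtype.ext ?_,
    fun i j hij f hf => LinearMap.ext fun v => ?_⟩
  · rw [subRep_apply, Module.End.one_apply]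
    have h := hle i v.2
    generalize (v : N → Res hP) = w₀ at h ⊢
    induction h using Submodule.span_induction with
    | mem w hw =>
      obtain ⟨g, rfl⟩ := hw
      funext x
      simp only [regR_apply, φ]
      rw [show x * y * g = x * g * (g⁻¹ * y * g) by group,
        htriv i _ _ (by simpa using Subgroup.Normal.conj_mem ‹D.Normal› y hy g⁻¹)]
    | zero => rw [map_zero]
    | add u w _ _ hu hw => rw [map_add, hu, hw]
    | smul r u _ hu => rw [map_smul, hu]
  · have h := hA i a ha haR v (hle i v.2)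
    simp only [opA, LinearMap.sum_apply, LinearMap.smul_apply] at h
    rw [AddSubmonoidClass.coe_finsetSum, Submodule.coe_smul_of_tower, ← h]
    exact Finset.sum_congr rfl fun g _ => rfl
  · let Rs : ∀ l, Module.End (Res hP) (V l) := fun l =>
      ∑ q : N ⧸ D, red hP ((K : ℂ)⁻¹ * (ν j : N → ℂ) (q.out)⁻¹) • subRep (hV l) q.out
    have hRs : ∀ l w, (Rs l w : N → Res hP) = if l = j then (w : N → Res hP) else 0 := fun l w => by
      rw [← hR l j w (hle l w.2)]
      simp only [Rs, R, LinearMap.sum_apply, LinearMap.smul_apply, AddSubmonoidClass.coe_finsetSum]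
      rfl
    have h1 : Rs j v = v := Subtype.ext (by rw [hRs, if_pos rfl])
    have h2 : Rs i (f v) = 0 := Subtype.ext (by rw [hRs, if_neg hij]; rfl)
    rw [LinearMap.zero_apply, ← h2]
    conv_lhs => rw [← h1]
    simp only [Rs, LinearMap.sum_apply, LinearMap.smul_apply, map_sum, map_smul, hf]

end Cfsg.Agent.Char.PrimeNormalModules
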