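import Cfsg.Agent.Lib.Char.Coprime
import Cfsg.Agent.Lib.Char.Gallagher
import Cfsg.Agent.Lib.Char.CliffordInd

/-!
# Characters over a character with cyclic inertia quotient
-/

set_option autoImplicit false
set_option linter.unusedSectionVars false
set_option linter.style.haveILetI false

namespace Cfsg.Agent.Char.StarCliff

open Cfsg

universe u

variable {N : Type u} [Group N] [Fintype N]

open scoped Classical in
set_option maxHeartbeats 800000 in
/-- One character for each linear character of the inertia quotient. -/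
theorem exists_clifford (C T : Subgroup N) [C.Normal] [T.Normal] (hCT : C ≤ T)
    (hcyc : IsCyclic (T ⧸ C.subgroupOf T)) (θ : IrrCharacter C)
    (hin : ∀ g : N, irrComp (MulAut.conjNormal g) θ = θ ↔ g ∈ T) :
    ∃ ν : Fin (C.relIndex T) → IrrCharacter N, Function.Injective ν ∧
      ∀ i, ∀ h : C, (Nat.card T : ℂ) * (ν i : N → ℂ) h = ∑ g : N, (θ : C → ℂ) (MulAut.conjNormal g h) := by
  set Ct := C.subgroupOf T with hCt
  haveI : Ct.Normal := inferInstance
  let ε : Ct ≃* C := Subgroup.subgroupOfEquivOfLe hCT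
  let θt : Ct → ℂ := fun x => (θ : C → ℂ) (ε x)
  have hθt : IsIrrCharacter Ct θt := isIrrCharacter_comp_equiv ε θ.2
  have hεcoe : ∀ x : Ct, ((ε x : C) : N) = ((x : T) : N) := fun x => rfl
  have hθinv : ∀ (t : T) (x : Ct), θt (MulAut.conjNormal t x) = θt x := by
    intro t x
    have h := congrArg (fun φ : IrrCharacter C => (φ : C → ℂ) (ε x)) ((hin (t : N)).mpr t.2)
    refine Eq.trans ?_ h
    refine congrArg (θ : C → ℂ) (Subtype.ext ?_)
    simp [hεcoe, MulAut.conjNormal_apply]
  obtain ⟨χ, hχ, hext⟩ := exists_extension_cyclic Ct hcyc hθt hθinv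
  have h1 : IsIrrCharacter Ct (1 : Ct → ℂ) := isIrrCharacter_one
  have hg := gallagher Ct (1 : Ct → ℂ) θt h1 (fun _ _ => rfl) hθinv (by rw [one_mul]; exact hθt)
    (irr_isCharacter hχ) hext
  haveI := hcyc
  letI : CommGroup (T ⧸ Ct) := IsCyclic.commGroup
  haveI : NeZero (Monoid.exponent (T ⧸ Ct)) := ⟨Monoid.exponent_ne_zero_of_finite⟩
  haveI : Finite ((T ⧸ Ct) →* ℂˣ) := Nat.finite_of_card_ne_zero (by
    rw [CommGroup.card_monoidHom_of_hasEnoughRootsOfUnity]; exact Nat.card_pos.ne')
  have hcard : Nat.card ((T ⧸ Ct) →* ℂˣ) = C.relIndex T :=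
    CommGroup.card_monoidHom_of_hasEnoughRootsOfUnity (T ⧸ Ct) ℂ
  let en : Fin (C.relIndex T) ≃ ((T ⧸ Ct) →* ℂˣ) :=
    ((Finite.equivFin _).trans (finCongr hcard)).symm
  let lam : Fin (C.relIndex T) → T →* ℂˣ := fun i => (en i).comp (QuotientGroup.mk' Ct)
  let β : Fin (C.relIndex T) → T → ℂ := fun i t => ((lam i t : ℂˣ) : ℂ)
  have hβC : ∀ i, ∀ x : Ct, β i x = 1 := fun i x => by
    simp only [β, lam, MonoidHom.comp_apply, QuotientGroup.mk'_apply, (QuotientGroup.eq_one_iff _).mpr x.2,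
      map_one, Units.val_one]
  have hβmem : ∀ i, β i ∈ {b : T → ℂ | IsIrrCharacter T b ∧ classInner (indFun Ct (1 : Ct → ℂ)) b ≠ 0} :=
    fun i => ⟨isIrrCharacter_linear (lam i), (constituent_indFun_one_iff Ct (isIrrCharacter_linear (lam i))).mpr
      fun x => (hβC i x).trans (by simp)⟩
  have hinj : Function.Injective fun i => β i * χ := fun i j h => by
    have h' : β i = β j := hg.injOn (hβmem i) (hβmem j) h
    refine en.injective (QuotientGroup.monoidHom_ext Ct ?_)
    exact MonoidHom.ext fun t => Units.ext (congrFun h' t)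
  let ψ : Fin (C.relIndex T) → IrrCharacter T := fun i => ⟨β i * χ, (hg.mapsTo (hβmem i)).1⟩
  have hψC : ∀ i, ∀ h : C, (ψ i : T → ℂ) ⟨(h : N), hCT h.2⟩ = (θ : C → ℂ) h := by
    intro i h
    show β i _ * χ _ = _
    have e1 := hβC i (ε.symm h)
    have e2 := hext (ε.symm h)
    simp only [θt, MulEquiv.apply_symm_apply] at e2
    exact (congrArg₂ (· * ·) e1 e2).trans (one_mul _)
  have hiner : ∀ i j, ∀ g : N, irrComp (MulAut.conjNormal g) (ψ i) = ψ j → g ∈ T := by
    intro i j g h
    refine (hin g).mp (Subtype.ext (funext fun x => ?_))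
    have e := congrArg (fun φ : IrrCharacter T => (φ : T → ℂ) ⟨(x : N), hCT x.2⟩) h
    simp only [irrComp_apply] at e ⊢
    rw [hψC j x] at e
    rw [← hψC i (MulAut.conjNormal g x), ← e]
    exact congrArg _ (Subtype.ext (by simp [MulAut.conjNormal_apply]))
  let ν : Fin (C.relIndex T) → IrrCharacter N := fun i =>
    ⟨indFun T (ψ i : T → ℂ), isIrr_indFun_of_inertia T (ψ i) (hiner i i)⟩
  refine ⟨ν, fun i j h => ?_, fun i h => ?_⟩
  · have h1 : classInner (indFun T (ψ i : T → ℂ)) (indFun T (ψ j : T → ℂ)) = 1 := by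
      rw [show indFun T (ψ j : T → ℂ) = indFun T (ψ i : T → ℂ) from (congrArg Subtype.val h).symm]
      exact irr_self (ν i).2
    rw [classInner_indFun_normal] at h1
    obtain ⟨⟨g, hg'⟩⟩ : Nonempty {g : N // irrComp (MulAut.conjNormal g) (ψ i) = ψ j} := by
      rw [← not_isEmpty_iff]
      intro he
      haveI := he
      rw [Nat.card_of_isEmpty (α := {g : N // irrComp (MulAut.conjNormal g) (ψ i) = ψ j}), Nat.cast_zero,
        mul_zero] at h1
      exact zero_ne_one h1
    have hgT := hiner i j g hg'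
    have hfix : irrComp (MulAut.conjNormal g) (ψ i) = ψ i := Subtype.ext (funext fun x => by
      rw [irrComp_apply, show MulAut.conjNormal g x = (⟨g, hgT⟩ : T) * x * (⟨g, hgT⟩ : T)⁻¹ from
        Subtype.ext (by simp [MulAut.conjNormal_apply]), isClassFunction_character (irr_isCharacter (ψ i).2)])
    exact hinj (congrArg Subtype.val (hfix.symm.trans hg'))
  · show (Nat.card T : ℂ) * indFun T (ψ i : T → ℂ) ((⟨(h : N), hCT h.2⟩ : T) : N) = _
    rw [indFun_restrict_normal, ← mul_assoc, mul_inv_cancel₀ (Nat.cast_ne_zero.mpr Nat.card_pos.ne'), one_mul]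
    refine Finset.sum_congr rfl fun g _ => ?_
    rw [← hψC i (MulAut.conjNormal g h)]
    exact congrArg _ (Subtype.ext (by simp [MulAut.conjNormal_apply]))

end Cfsg.Agent.Char.StarCliff
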