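import Cfsg.Agent.Lib.Char.PrimeBlockLocal
import Cfsg.Agent.Lib.Char.PrimeNormalModules
import Cfsg.Agent.Lib.Char.TransferSection
import Cfsg.Agent.Lib.Char.StarCliff
import Cfsg.Agent.Lib.Char.PrimeSylowBlockRank
import Cfsg.Agent.Lib.Char.BrolineGarrison
import Cfsg.Agent.Lib.Char.ResClosed
import Cfsg.Agent.Lib.Char.InducedPart

/-!
# A block with defect group of prime order has at least as many modular irreducibles as its inertial index
-/

set_option autoImplicit false
set_option linter.unusedSectionVars false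
set_option linter.style.haveILetI false

open Cfsg

namespace Cfsg.Agent.Char.PrimeDefectRank

universe u

variable {G : Type u} [Group G] [Fintype G] {M : Ideal AlgInt} {p : ℕ} {B : Set (IrrCharacter G)}
  {D : Subgroup G} {c : Set (IrrCharacter (Subgroup.centralizer (D : Set G)))}

open scoped Classical in
theorem sum_supported {A : Type*} [AddCommMonoid A] {N C : Subgroup G} [Fintype N] [Fintype C] (h : C ≤ N)
    (F : N → A) (hF : ∀ w : N, (w : G) ∉ C → F w = 0) : ∑ w : N, F w = ∑ x : C, F (Subgroup.inclusion h x) := by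
  symm
  refine Fintype.sum_of_injective (Subgroup.inclusion h) (Subgroup.inclusion_injective h) _ _ (fun w hw => hF w ?_)
    fun _ => rfl
  exact fun hwC => hw ⟨⟨w, hwC⟩, Subtype.ext rfl⟩

open scoped Classical in
/-- The blocks of the normalizer in the inertial quotient give modules in the fixed classes. -/
theorem exists_norm_data (hM : IsPModular p M) (hmax : IsMaximalBrauerPair p M B D c) (hD : Nat.card D = p) :
    ∃ (V : Fin ((Subgroup.centralizer (D : Set G)).relIndex (pairStab (pmod_prime hM) hmax.1.1.2)) →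
        Submodule (Res (pmod_prime hM)) (Subgroup.normalizer (D : Set G) → Res (pmod_prime hM)))
      (hV : ∀ i, InvSub PrimeNormalModules.regR (V i)) (z : G → Res (pmod_prime hM)),
      (∀ i, TransferLine.NormData D z (fun g => red (pmod_prime hM) (blockCoeff B g))
        (PrimeNormalModules.subRep (hV i))) ∧
      (∀ i j, i ≠ j → ∀ f : V j →ₗ[Res (pmod_prime hM)] V i,
        (∀ n v, f (PrimeNormalModules.subRep (hV j) n v) = PrimeNormalModules.subRep (hV i) n (f v)) → f = 0) := by
  haveI := Fact.mk hM.1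
  have hp := hM.1
  set hP := pmod_prime hM with hPdef
  obtain ⟨θ, m, hθ, hm, hcardC, hθD, huniq, h0, hh0⟩ := PrimeBlockLocal.local_char hM hmax hD
  have hab := PrimeBlockLocal.comm_of_card hp hD
  have hCN : Subgroup.centralizer (D : Set G) ≤ Subgroup.normalizer (D : Set G) :=
    Subgroup.centralizer_le_normalizer _
  have hDC : D ≤ Subgroup.centralizer (D : Set G) := BelowData.le_centralizer hab le_rfl
  have hTN : pairStab hP hmax.1.1.2 ≤ Subgroup.normalizer (D : Set G) := fun t ht => ((mem_pairStab hP _).mp ht).1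
  have hCT : Subgroup.centralizer (D : Set G) ≤ pairStab hP hmax.1.1.2 := fun g hg => (mem_pairStab hP _).mpr
    ⟨hCN hg, stabilizesBlock_of_centralizer hM hmax.1.1.1 hmax.1.1.2 hg⟩
  -- the action of the normalizer
  let N := Subgroup.normalizer (D : Set G)
  let Cs : Subgroup N := (Subgroup.centralizer (D : Set G)).subgroupOf N
  let Ts : Subgroup N := (pairStab hP hmax.1.1.2).subgroupOf N
  haveI : IsCyclic D := isCyclic_of_prime_card hD
  haveI hcycA : IsCyclic (MulAut D) := by
    haveI : IsCyclic (ZMod (Nat.card D))ˣ := by rw [hD]; infer_instance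
    exact (IsCyclic.mulAutMulEquiv D).isCyclic.mpr inferInstance
  letI : CommGroup (MulAut D) := IsCyclic.commGroup
  have hker : D.normalizerMonoidHom.ker = Cs := D.normalizerMonoidHom_ker
  haveI hCsn : Cs.Normal := hker ▸ MonoidHom.normal_ker _
  have hCsTs : Cs ≤ Ts := fun x hx => hCT hx
  haveI hTsn : Ts.Normal := ⟨fun t ht g => by
    have h1 : t⁻¹ * (g * t * g⁻¹) ∈ Cs := by
      rw [← hker, MonoidHom.mem_ker]
      simp [mul_comm]
    have h2 := Ts.mul_mem ht (hCsTs h1)
    rwa [mul_inv_cancel_left] at h2⟩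
  have hcyc : IsCyclic (Ts ⧸ Cs.subgroupOf Ts) := by
    have e : (D.normalizerMonoidHom.comp Ts.subtype).ker = Cs.subgroupOf Ts := by
      rw [← hker]; rfl
    exact isCyclic_of_injective ((QuotientGroup.kerLift _).comp (QuotientGroup.quotientMulEquivOfEq e.symm).toMonoidHom)
      ((QuotientGroup.kerLift_injective (D.normalizerMonoidHom.comp Ts.subtype)).comp (MulEquiv.injective _))
  have hrel : Cs.relIndex Ts = (Subgroup.centralizer (D : Set G)).relIndex (pairStab hP hmax.1.1.2) :=
    Subgroup.relIndex_subgroupOf hTN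
  have he : ¬ p ∣ (Subgroup.centralizer (D : Set G)).relIndex (pairStab hP hmax.1.1.2) := by
    rw [← hrel]
    intro hdvd
    have h1 : Cs.relIndex Ts ∣ Nat.card (MulAut D) := by
      rw [Subgroup.relIndex, show Cs.subgroupOf Ts = (D.normalizerMonoidHom.comp Ts.subtype).ker by
        rw [← hker]; rfl, Subgroup.index_ker]
      exact Subgroup.card_subgroup_dvd_card _
    rw [IsCyclic.card_mulAut, hD, Nat.totient_prime hp] at h1
    have := Nat.le_of_dvd (by have := hp.two_le; omega) (hdvd.trans h1)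
    have := hp.two_le
    omega
  set e := (Subgroup.centralizer (D : Set G)).relIndex (pairStab hP hmax.1.1.2) with hedef
  -- the Clifford characters
  let ε : Cs ≃* Subgroup.centralizer (D : Set G) := Subgroup.subgroupOfEquivOfLe hCN
  let α : N → (Subgroup.centralizer (D : Set G) ≃* Subgroup.centralizer (D : Set G)) := fun g =>
    ε.symm.trans ((MulAut.conjNormal g : MulAut Cs).trans ε)
  have hα : ∀ g : N, ∀ x, (α g x : G) = (g : G) * (x : G) * (g : G)⁻¹ := fun g x => rfl
  have hiff := fun g : N => PrimeBlockLocal.mem_stab_iff hM hmax hθ hθD huniq g.2 (α g) (hα g)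
  have hin : ∀ g : N, irrComp (MulAut.conjNormal g : MulAut Cs) (irrTransport ε θ) = irrTransport ε θ ↔ g ∈ Ts := by
    intro g
    have hval : ∀ x, (irrTransport (α g) θ : Subgroup.centralizer (D : Set G) → ℂ) x =
        (irrComp (MulAut.conjNormal g : MulAut Cs) (irrTransport ε θ) : Cs → ℂ) (ε.symm x) := fun x => rfl
    constructor
    · intro h
      refine (hiff g).1.mp ?_
      rwa [show irrTransport (α g) θ = θ from Subtype.ext (funext fun x => by
        rw [hval, h, irrTransport_apply, MulEquiv.apply_symm_apply])]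
    · intro h
      refine Subtype.ext (funext fun y => ?_)
      have h1 := hval (ε y)
      rw [(hiff g).2 h, MulEquiv.symm_apply_apply] at h1
      exact h1.symm
  obtain ⟨ν', hinj', hν'⟩ := StarCliff.exists_clifford Cs Ts hCsTs hcyc (irrTransport ε θ) hin
  let ν : Fin ((Subgroup.centralizer (D : Set G)).relIndex (pairStab hP hmax.1.1.2)) → IrrCharacter N :=
    fun i => ν' (Fin.cast hrel.symm i)
  have hinj : Function.Injective ν := hinj'.comp (Fin.cast_injective _)
  have hT0 : (Nat.card Ts : ℂ) ≠ 0 := Nat.cast_ne_zero.mpr Nat.card_pos.ne'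
  have hνC : ∀ i, ∀ h : Subgroup.centralizer (D : Set G),
      (Nat.card Ts : ℂ) * (ν i : N → ℂ) (Subgroup.inclusion hCN h) =
        ∑ g : N, (θ : Subgroup.centralizer (D : Set G) → ℂ) (α g h) := fun i h => hν' _ (ε.symm h)
  have hθ1 : (θ : Subgroup.centralizer (D : Set G) → ℂ) 1 ≠ 0 := irr_one_ne_zero θ.2
  have hcardT : (Nat.card Ts : ℂ) = (p : ℂ) * ((e * m : ℕ) : ℂ) * (θ : Subgroup.centralizer (D : Set G) → ℂ) 1 := by
    have h1 : Nat.card Ts = e * Nat.card (Subgroup.centralizer (D : Set G)) := by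
      rw [Nat.card_congr (Subgroup.subgroupOfEquivOfLe hTN).toEquiv, hedef, Subgroup.relIndex,
        ← Nat.card_congr (Subgroup.subgroupOfEquivOfLe hCT).toEquiv, Subgroup.index_mul_card]
    rw [h1, Nat.cast_mul, hcardC]; push_cast; ring
  have hdeg : ∀ i, (Nat.card N : ℂ) = p * ((e * m : ℕ) : ℂ) * (ν i : N → ℂ) 1 := by
    intro i
    have h1 := hνC i 1
    simp only [map_one, Finset.sum_const, nsmul_eq_mul, Finset.card_univ, ← Nat.card_eq_fintype_card] at h1
    rw [hcardT] at h1
    refine mul_right_cancel₀ hθ1 ?_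
    rw [← h1]; ring
  let Ds : Subgroup N := D.subgroupOf N
  haveI : Ds.Normal := Subgroup.normal_in_normalizer
  have htriv : ∀ i, ∀ x : N, ∀ y ∈ Ds, (ν i : N → ℂ) (x * y) = (ν i : N → ℂ) x := by
    intro i x y hy
    refine BG.kerC_invariant (ν i) x y ((BG.mem_kerC_iff (ν i) y).mpr (mul_left_cancel₀ hT0 ?_))
    have h1 := hνC i ⟨(y : G), hDC hy⟩
    have h2 := hνC i 1
    rw [show Subgroup.inclusion hCN ⟨(y : G), hDC hy⟩ = y from rfl] at h1
    rw [map_one] at h2
    rw [h1, h2]
    refine Finset.sum_congr rfl fun g _ => ?_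
    rw [map_one]
    refine hθD _ ?_
    rw [hα]
    exact (Subgroup.mem_normalizer_iff.mp g.2 _).mp hy
  letI := Fintype.ofFinite (N ⧸ Ds)
  obtain ⟨V, hV, hsim, hVD, hact, hsep⟩ := PrimeNormalModules.exists_modules Ds hM
    ((Nat.card_congr (Subgroup.subgroupOfEquivOfLe (hDC.trans hCN)).toEquiv).trans hD)
    (fun h => (hp.dvd_mul.mp h).elim he hm) ν hinj htriv hdeg
  -- the coefficients of the relative trace
  let θ0 := (θ : Subgroup.centralizer (D : Set G) → ℂ) h0
  let t : ℂ := ((e * m : ℕ) : ℂ)⁻¹ * θ0⁻¹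
  have hθ0R : MemLocalRing M θ0 := memLR_char hP (irr_isCharacter θ.2) h0
  have htR : MemLocalRing M t := memLR_mul hP (memLR_inv_natCast hM fun h => (hp.dvd_mul.mp h).elim he hm)
    (memLR_inv hP hθ0R hh0)
  let zG : G → ℂ := fun g => if h : g ∈ Subgroup.centralizer (D : Set G) then
    t * blockCoeff c (⟨g, h⟩ * h0⁻¹) else 0
  have hzR : ∀ g, MemLocalRing M (zG g) := fun g => by
    simp only [zG]
    split_ifs
    · exact memLR_mul hP htR (memLR_blockCoeff hM hmax.1.1.2 _)
    · exact memLR_zero hP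
  have hz0 : ∀ g, g ∉ Subgroup.centralizer (D : Set G) → zG g = 0 := fun g hg => dif_neg hg
  have hzconj : ∀ u y : N, (y : G) ∈ D → zG ((y⁻¹ * u * y : N) : G) = zG (u : G) := by
    intro u y hy
    by_cases hu : (u : G) ∈ Subgroup.centralizer (D : Set G)
    · congr 1
      simp only [Subgroup.coe_mul, Subgroup.coe_inv]
      rw [mul_assoc, ← hu (y : G) hy, inv_mul_cancel_left]
    · rw [hz0 _ hu, hz0]
      intro h
      refine hu ?_
      simp only [Subgroup.coe_mul, Subgroup.coe_inv] at h
      have hyC := hDC hy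
      rwa [Subgroup.mul_mem_cancel_right _ hyC, Subgroup.mul_mem_cancel_left _ (inv_mem hyC)] at h
  let a : N → ℂ := fun w => ∑ q : N ⧸ Ds, zG (((q.out)⁻¹ * w * q.out : N) : G)
  have haR : ∀ w, MemLocalRing M (a w) := fun w => memLR_sum hP _ _ fun q _ => hzR _
  have hDs : Nat.card Ds = p :=
    (Nat.card_congr (Subgroup.subgroupOfEquivOfLe (hDC.trans hCN)).toEquiv).trans hD
  have haavg : ∀ w, a w = (p : ℂ)⁻¹ * ∑ n : N, zG ((n⁻¹ * w * n : N) : G) := fun w =>
    PrimeNormalModules.sum_cosets Ds hDs hp.ne_zero (F := fun n : N => zG ((n⁻¹ * w * n : N) : G))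
      fun n y hy => by
      rw [show (n * y)⁻¹ * w * (n * y) = y⁻¹ * (n⁻¹ * w * n) * y by group]
      exact hzconj _ _ hy
  have hacl : IsClassFunction N a := fun w g => by
    rw [haavg, haavg]
    refine congrArg _ (Fintype.sum_equiv (Equiv.mulLeft g⁻¹) _ _ fun n => ?_)
    rw [Equiv.coe_mulLeft]
    congr 2
    group
  have hlam : ∀ i, lam (ν i : N → ℂ) a = 1 := by
    intro i
    have h1 : ∑ w : N, a w * (ν i : N → ℂ) w =
        (p : ℂ)⁻¹ * ((Nat.card N : ℂ) * ∑ u : N, zG (u : G) * (ν i : N → ℂ) u) := by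
      simp only [haavg, mul_assoc (p : ℂ)⁻¹, ← Finset.mul_sum, Finset.sum_mul]
      congr 1
      rw [Finset.sum_comm, Finset.sum_congr rfl (g := fun _ : N => ∑ u : N, zG (u : G) * (ν i : N → ℂ) u),
        Finset.sum_const, Finset.card_univ, nsmul_eq_mul, Nat.card_eq_fintype_card]
      intro n _
      refine Fintype.sum_equiv (MulAut.conj n⁻¹).toEquiv _ _ fun w => ?_
      show _ = zG ((n⁻¹ * w * n⁻¹⁻¹ : N) : G) * (ν i : N → ℂ) (n⁻¹ * w * n⁻¹⁻¹)
      rw [isClassFunction_character (irr_isCharacter (ν i).2) w n⁻¹, inv_inv]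
    have h2 : (Nat.card Ts : ℂ) * ∑ u : N, zG (u : G) * (ν i : N → ℂ) u = (Nat.card Ts : ℂ) * (t * θ0) := by
      rw [sum_supported hCN _ (fun u hu => by rw [hz0 _ hu, zero_mul]), Finset.mul_sum]
      have e1 : ∀ h : Subgroup.centralizer (D : Set G),
          (Nat.card Ts : ℂ) * (zG ((Subgroup.inclusion hCN h : N) : G) * (ν i : N → ℂ) (Subgroup.inclusion hCN h)) =
            ∑ g : N, t * (blockCoeff c (h * h0⁻¹) * (irrTransport (α g) θ : Subgroup.centralizer (D : Set G) → ℂ) h) := by
        intro h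
        rw [show zG ((Subgroup.inclusion hCN h : N) : G) = t * blockCoeff c (h * h0⁻¹) from dif_pos h.2,
          mul_left_comm, hνC, Finset.mul_sum]
        exact Finset.sum_congr rfl fun g _ => by rw [irrTransport_apply, mul_assoc]
      rw [Finset.sum_congr rfl fun h _ => e1 h, Finset.sum_comm,
        Finset.sum_congr rfl (g := fun g : N => if g ∈ Ts then t * θ0 else 0), ← Finset.sum_filter,
        Finset.sum_const, nsmul_eq_mul, Nat.card_eq_fintype_card, Fintype.card_subtype]
      intro g _
      have e2 : ∑ h, blockCoeff c (h * h0⁻¹) * (irrTransport (α g) θ : Subgroup.centralizer (D : Set G) → ℂ) h =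
          (if irrTransport (α g) θ ∈ c then 1 else 0) *
            (irrTransport (α g) θ : Subgroup.centralizer (D : Set G) → ℂ) h0 := by
        rw [← lam_blockCoeff c (irrTransport (α g) θ),
          ← sum_mul_shift (irrTransport (α g) θ).2 (isClassFunction_blockCoeff c) h0]
        exact Fintype.sum_equiv (Equiv.mulRight h0⁻¹) _ _ fun h => by simp
      rw [← Finset.mul_sum, e2]
      by_cases hg : g ∈ Ts
      · rw [if_pos ((hiff g).1.mpr hg), if_pos hg, (hiff g).2 hg, one_mul]
      · rw [if_neg fun h => hg ((hiff g).1.mp h), if_neg hg, zero_mul, mul_zero]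
    rw [lam, h1, mul_left_cancel₀ hT0 h2, hdeg i]
    have h3 : (ν i : N → ℂ) 1 ≠ 0 := irr_one_ne_zero (ν i).2
    have h4 : θ0 ≠ 0 := fun h => hh0 (by simp only [θ0] at h; rw [h]; exact memLI_zero hP)
    have h5 : ((e * m : ℕ) : ℂ) ≠ 0 := Nat.cast_ne_zero.mpr fun h => (hp.dvd_mul.mp (h ▸ dvd_zero p)).elim he hm
    have h6 : (p : ℂ) ≠ 0 := Nat.cast_ne_zero.mpr hp.ne_zero
    simp only [t]
    field_simp
  -- the block
  let bN : N → ℂ := fun w => if (w : G) ∈ Subgroup.centralizer (D : Set G) then blockCoeff B (w : G) else 0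
  have hbR : ∀ w, MemLocalRing M (bN w) := fun w => by
    simp only [bN]
    split_ifs
    · exact memLR_blockCoeff hM hmax.1.2.1 _
    · exact memLR_zero hP
  have hbcl : IsClassFunction N bN := fun w g => by
    have hiffC : ((g * w * g⁻¹ : N) : G) ∈ Subgroup.centralizer (D : Set G) ↔
        (w : G) ∈ Subgroup.centralizer (D : Set G) :=
      ⟨fun h => by
        have := hCsn.conj_mem _ (show g * w * g⁻¹ ∈ Cs from h) g⁻¹
        rwa [show g⁻¹ * (g * w * g⁻¹) * g⁻¹⁻¹ = w by group] at this,
      fun h => hCsn.conj_mem w h g⟩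
    simp only [bN, hiffC]
    split_ifs
    · exact isClassFunction_blockCoeff B (w : G) (g : G)
    · rfl
  have hblam : ∀ i, red hP (lam (ν i : N → ℂ) bN) = 1 := by
    intro i
    have hind := BelowData.induced hM hmax hab (PrimeBlockLocal.self_below hM hmax)
    have hloc := (lam_blockCoeff_restrict hM hind hmax.1.2.1 hθ).1
    obtain ⟨χ, hχ⟩ := block_nonempty hP hmax.1.2.1
    have hcongr := induced_congr_fun hP (hind.2.2 θ hθ χ hχ) (isIntClassFun_blockCoeff hM hmax.1.2.1)
    rw [lam_blockCoeff, if_pos hχ] at hcongr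
    have e3 : lam (ν i : N → ℂ) bN = lam (θ : Subgroup.centralizer (D : Set G) → ℂ)
        (fun x => blockCoeff B (x : G)) := by
      have h1 : (Nat.card Ts : ℂ) * ∑ w : N, bN w * (ν i : N → ℂ) w = (Nat.card N : ℂ) *
          ∑ h : Subgroup.centralizer (D : Set G), blockCoeff B (h : G) *
            (θ : Subgroup.centralizer (D : Set G) → ℂ) h := by
        rw [sum_supported hCN _ (fun u hu => by simp [bN, hu]), Finset.mul_sum]
        have e1 : ∀ h : Subgroup.centralizer (D : Set G),
            (Nat.card Ts : ℂ) * (bN (Subgroup.inclusion hCN h) * (ν i : N → ℂ) (Subgroup.inclusion hCN h)) =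
              ∑ g : N, blockCoeff B (h : G) * (θ : Subgroup.centralizer (D : Set G) → ℂ) (α g h) := by
          intro h
          rw [show bN (Subgroup.inclusion hCN h) = blockCoeff B (h : G) from if_pos h.2, mul_left_comm, hνC,
            Finset.mul_sum]
        rw [Finset.sum_congr rfl fun h _ => e1 h, Finset.sum_comm, Nat.card_eq_fintype_card, ← nsmul_eq_mul,
          ← Finset.card_univ, ← Finset.sum_const]
        refine Finset.sum_congr rfl fun g _ => Fintype.sum_equiv (α g).toEquiv _ _ fun h => ?_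
        show _ = blockCoeff B ((α g h : Subgroup.centralizer (D : Set G)) : G) * _
        rw [hα, isClassFunction_blockCoeff B (h : G) (g : G)]
        rfl
      simp only [lam]
      rw [hdeg i, hcardT] at h1
      have h2 : (ν i : N → ℂ) 1 ≠ 0 := irr_one_ne_zero (ν i).2
      have h5 : ((e * m : ℕ) : ℂ) ≠ 0 := Nat.cast_ne_zero.mpr fun h => (hp.dvd_mul.mp (h ▸ dvd_zero p)).elim he hm
      have h6 : (p : ℂ) ≠ 0 := Nat.cast_ne_zero.mpr hp.ne_zero
      field_simp at h1 ⊢
      linear_combination h1
    rw [e3, ← red_one hP, red_eq_iff hP hloc (memLR_one hP)]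
    exact hcongr
  have hsubtriv : ∀ i, ∀ y : N, (y : G) ∈ D → PrimeNormalModules.subRep (hV i) y = 1 := fun i y hy => hVD i y hy
  refine ⟨V, hV, fun g => red hP (zG g), fun i => ⟨hsim i, hsubtriv i, fun g hg => ?_, fun v => ?_, fun v => ?_⟩, hsep⟩
  · by_contra hgC
    exact hg (by simp only [hz0 g hgC]; exact red_zero hP)
  · have h1 := hact i a hacl haR v
    rw [hlam i, red_one, one_smul] at h1
    refine Eq.trans ?_ h1
    simp only [a, TransferLine.cosetSum, red_sum hP _ _ (fun q _ => hzR _), Finset.sum_smul]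
    rw [Finset.sum_comm]
    refine Finset.sum_congr rfl fun q _ => ?_
    rw [map_sum, Finset.sum_subset (Finset.subset_univ _) (fun w _ hw => by
      have : (w : G) ∉ Subgroup.centralizer (D : Set G) := fun h => hw
        (Finset.mem_filter.mpr ⟨Finset.mem_univ _, h⟩)
      simp [hz0 _ this, red_zero])]
    refine Fintype.sum_equiv (MulAut.conj (q.out : N)).toEquiv _ _ fun w => ?_
    show _ = red hP (zG (((q.out : N)⁻¹ * (q.out * w * (q.out)⁻¹) * q.out : N) : G)) •
      PrimeNormalModules.subRep (hV i) (q.out * w * (q.out)⁻¹) v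
    rw [show (q.out : N)⁻¹ * (q.out * w * (q.out)⁻¹) * q.out = w by group, map_smul, map_mul, map_mul,
      Module.End.mul_apply, Module.End.mul_apply]
  · have h1 := hact i bN hbcl hbR v
    rw [hblam i, one_smul] at h1
    refine Eq.trans ?_ h1
    rw [Finset.sum_subset (Finset.subset_univ (TransferLine.centF D))
      (f := fun w => red hP (bN w) • PrimeNormalModules.subRep (hV i) w v) (fun w _ hw => by
      have : (w : G) ∉ Subgroup.centralizer (D : Set G) := fun h => hw
        (Finset.mem_filter.mpr ⟨Finset.mem_univ _, h⟩)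
      simp [bN, this, red_zero]) |>.symm]
    refine Finset.sum_congr rfl fun w hw => ?_
    rw [show bN w = blockCoeff B (w : G) from if_pos (Finset.mem_filter.mp hw).2]

open scoped Classical in
/-- Irreducible modules of the block carrying unlinked modules of the normalizer bound the rank from below. -/
theorem le_rank_of_family (hM : IsPModular p M) (hB : IsPBlock M B) (hD : Nat.card D = p) {e : ℕ}
    {W : Fin e → Type u} [∀ i, AddCommGroup (W i)] [∀ i, Module (Res (pmod_prime hM)) (W i)]
    [∀ i, FiniteDimensional (Res (pmod_prime hM)) (W i)]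
    (ρ : ∀ i, G →* Module.End (Res (pmod_prime hM)) (W i)) (hsim : ∀ i, SimpleRep (ρ i))
    (hA : ∀ i, ∀ a, (∑ g, red (pmod_prime hM) (blockCoeff B g) • ρ i g) a = a)
    {V : Fin e → Type u} [∀ i, AddCommGroup (V i)] [∀ i, Module (Res (pmod_prime hM)) (V i)]
    (ν : ∀ i, Subgroup.normalizer (D : Set G) →* Module.End (Res (pmod_prime hM)) (V i))
    (z : G → Res (pmod_prime hM))
    (hd : ∀ i, TransferLine.NormData D z (fun g => red (pmod_prime hM) (blockCoeff B g)) (ν i))
    (hcar : ∀ i, TransferLine.Carries D (ν i) (ρ i))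
    (hsep : ∀ i j, i ≠ j → ∀ f : V j →ₗ[Res (pmod_prime hM)] V i,
      (∀ n v, f (ν j n v) = ν i n (f v)) → f = 0) : e ≤ blockRank p B := by
  have hp := hM.1
  haveI := Fact.mk hp
  haveI : CharP (Res (pmod_prime hM)) p := charP_res (pmod_prime hM) hM
  have hhom : ∀ i j, i ≠ j → ∀ f, EquivMap (ρ i) (ρ j) f → f = 0 := by
    intro i j hij f hf
    by_contra h0
    obtain ⟨hinj, hsurj⟩ := bijective_of_equivMap (hsim i) (hsim j) hf h0
    obtain ⟨fj, hfj, hfixj, hnej⟩ := hcar j
    obtain ⟨fi, hfi, hfixi, hnei⟩ := hcar i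
    obtain ⟨g, hg, v, hv⟩ := TransferLine.exists_map D hp hD (hsim j) (hd j) hfj hfixj hnej (hd i)
      (f' := f ∘ₗ fi) (fun n v => by rw [LinearMap.comp_apply, hfi, hf]; rfl)
      (fun v y => by rw [LinearMap.comp_apply, ← hf, hfixi]) (by
        obtain ⟨v, hv⟩ := hnei
        refine ⟨v, ?_⟩
        rintro ⟨w, hw⟩
        obtain ⟨s, rfl⟩ := hsurj w
        refine hv ⟨s, hinj ?_⟩
        rw [LinearMap.comp_apply] at hw
        rw [← hw]
        simp only [trEnd, LinearMap.sum_apply, map_sum]
        exact Finset.sum_congr rfl fun y _ => hf _ _)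
    exact hv (LinearMap.congr_fun (hsep j i (Ne.symm hij) g hg) v)
  refine le_blockRank_of_traces hM (pmod_prime hM) B hB (fun j g => LinearMap.trace _ _ (ρ j g))
    (fun j g x => trace_conj_rep _ g x) (fun j g => trace_eq_preg hp _ g) (fun j y => ?_)
    (fun a ha j => trace_family_independent _ ρ hsim
      (fun j f hf => TransferLine.end_scalar (hsim j) hf) hhom (c := a) ha j)
  have h1 : (∑ g, red (pmod_prime hM) (blockCoeff B g) • ρ j g) = 1 := LinearMap.ext (hA j)
  calc ∑ g, red (pmod_prime hM) (blockCoeff B g) * LinearMap.trace _ (W j) (ρ j (g * y))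
      = LinearMap.trace _ _ ((∑ g, red (pmod_prime hM) (blockCoeff B g) • ρ j g) * ρ j y) := by
        simp only [Finset.sum_mul, map_sum, smul_mul_assoc, map_smul, smul_eq_mul, map_mul]
    _ = _ := by rw [h1, one_mul]

open scoped Classical in
/-- The modular rank of a block with defect group of order `p` is at least the inertial index. -/
theorem le_blockRank (hM : IsPModular p M) (hmax : IsMaximalBrauerPair p M B D c) (hD : Nat.card D = p) :
    (Subgroup.centralizer (D : Set G)).relIndex (pairStab (pmod_prime hM) hmax.1.1.2) ≤ blockRank p B := by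
  have hp := hM.1
  haveI := Fact.mk hp
  set hP := pmod_prime hM
  haveI : CharP (Res hP) p := charP_res hP hM
  have hB : IsPBlock M B := hmax.1.2.1
  obtain ⟨V, hV, z, hd, hsep⟩ := exists_norm_data hM hmax hD
  choose q hsim hqA hcar using fun i => TransferLine.exists_simple D hp hD (hd i)
    (fun g x => congrArg (red hP) (isClassFunction_blockCoeff B g x))
    (fun x => red_blockCoeff_idem hM hB hP x)
  exact le_rank_of_family hM hB hD (fun i => (q i).rep) hsim (fun i => hqA i)
    (fun i => PrimeNormalModules.subRep (hV i)) z hd hcar hsep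

end Cfsg.Agent.Char.PrimeDefectRank
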