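import Cfsg.Agent.Lib.Lead.BlockDegrees
import Cfsg.Agent.Lib.Solv.Coprime

/-!
Sylow subgroups of prime order: centraliser orders, crossing between two primes and the number of
elements of order divisible by the prime.
-/

set_option autoImplicit false
set_option linter.style.haveILetI false

universe u

namespace Cfsg.Agent.Char.PrimeSylowCount

open scoped Pointwise

variable {G : Type u} [Group G] [Finite G]

/-- The centraliser order of the Sylow `p`-subgroups. -/
noncomputable def centCard (p : ℕ) (P : Sylow p G) : ℕ :=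
  Nat.card (Subgroup.centralizer ((P : Subgroup G) : Set G))

theorem centCard_eq {p : ℕ} [Fact p.Prime] (P P' : Sylow p G) : centCard p P = centCard p P' := by
  obtain ⟨g, hg⟩ := MulAction.exists_smul_eq G P P'
  unfold centCard
  refine (Nat.card_congr ((MulEquiv.subgroupMap (MulAut.conj g)
    (Subgroup.centralizer ((P : Subgroup G) : Set G))).toEquiv)).trans ?_
  congr 1
  have : (Subgroup.centralizer ((P : Subgroup G) : Set G)).map (MulAut.conj g).toMonoidHom =
      Subgroup.centralizer ((P' : Subgroup G) : Set G) := by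
    ext x
    rw [← hg, Sylow.coe_subgroup_smul, Subgroup.mem_map, Subgroup.mem_centralizer_iff]
    constructor
    · rintro ⟨y, hy, rfl⟩ z hz
      rw [SetLike.mem_coe, Subgroup.mem_pointwise_smul_iff_inv_smul_mem] at hz
      have h := Subgroup.mem_centralizer_iff.1 hy _ hz
      simp only [MulAut.smul_def, MulEquiv.coe_toMonoidHom, MulAut.conj_apply,
        ← map_inv] at h ⊢
      calc z * (g * y * g⁻¹) = g * ((g⁻¹ * z * g⁻¹⁻¹) * y) * g⁻¹ := by group
        _ = g * (y * (g⁻¹ * z * g⁻¹⁻¹)) * g⁻¹ := by rw [h]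
        _ = g * y * g⁻¹ * z := by group
    · intro hx
      refine ⟨g⁻¹ * x * g, Subgroup.mem_centralizer_iff.2 fun z hz => ?_, by simp [mul_assoc]⟩
      have h := hx (g * z * g⁻¹) (by
        rw [SetLike.mem_coe, Subgroup.mem_pointwise_smul_iff_inv_smul_mem]
        simp only [MulAut.smul_def, ← map_inv, MulAut.conj_apply]
        rw [show g⁻¹ * (g * z * g⁻¹) * g⁻¹⁻¹ = z by group]
        exact hz)
      calc z * (g⁻¹ * x * g) = g⁻¹ * ((g * z * g⁻¹) * x) * g := by group
        _ = g⁻¹ * (x * (g * z * g⁻¹)) * g := by rw [h]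
        _ = g⁻¹ * x * g * z := by group
  exact congrArg (fun K : Subgroup G => K) this ▸ rfl

/-- A subgroup of prime order containing a Sylow subgroup of that order is equal to it. -/
theorem exists_sylow_eq {p : ℕ} [Fact p.Prime] (P : Sylow p G) (hP : Nat.card P = p) (y : G)
    (hy : orderOf y = p) : ∃ Q : Sylow p G, (Q : Subgroup G) = Subgroup.zpowers y := by
  have hpg : IsPGroup p (Subgroup.zpowers y) :=
    IsPGroup.of_card (n := 1) (by rw [Nat.card_zpowers, hy, pow_one])
  obtain ⟨Q, hQ⟩ := hpg.exists_le_sylow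
  refine ⟨Q, (Subgroup.eq_of_le_of_card_ge hQ ?_).symm⟩
  rw [Nat.card_zpowers, hy]
  exact le_of_eq ((Q.card_eq_multiplicity.trans P.card_eq_multiplicity.symm).trans hP)

/-- If `q` divides the centraliser order at `p` then `p` divides the centraliser order at `q`. -/
theorem cross {p q : ℕ} [Fact p.Prime] [Fact q.Prime] (P : Sylow p G) (Q : Sylow q G)
    (hP : Nat.card P = p) (hQ : Nat.card Q = q) (h : q ∣ centCard p P) : p ∣ centCard q Q := by
  obtain ⟨⟨y, hy⟩, hyo⟩ := exists_prime_orderOf_dvd_card' q h
  rw [Subgroup.orderOf_mk] at hyo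
  obtain ⟨Q', hQ'⟩ := exists_sylow_eq Q hQ y hyo
  rw [centCard_eq Q Q']
  obtain ⟨⟨x, hx⟩, hxo⟩ := exists_prime_orderOf_dvd_card' p
    (show p ∣ Nat.card (P : Subgroup G) by rw [show Nat.card (P : Subgroup G) = p from hP])
  rw [Subgroup.orderOf_mk] at hxo
  have hmem : x ∈ Subgroup.centralizer ((Q' : Subgroup G) : Set G) := by
    rw [hQ', Subgroup.mem_centralizer_iff]
    rintro _ ⟨k, rfl⟩
    exact (Commute.zpow_right (Subgroup.mem_centralizer_iff.1 hy x hx) k).eq.symm
  rw [← hxo]
  exact (Subgroup.orderOf_dvd_natCard _ hmem)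

/-- The elements of order divisible by `p`. -/
noncomputable def pSet (p : ℕ) (G : Type u) [Group G] [Finite G] : Finset G := by
  classical
  haveI := Fintype.ofFinite G
  exact Finset.univ.filter fun x => p ∣ orderOf x

theorem mem_pSet {p : ℕ} {x : G} : x ∈ pSet p G ↔ p ∣ orderOf x := by
  simp [pSet]

/-- In each centraliser there are at least `(p-1)k` elements of order divisible by `p`. -/
theorem pSet_ge {p k : ℕ} [hp : Fact p.Prime] (P : Sylow p G) (hP : Nat.card P = p)
    (hk : centCard p P = p * k) : Nat.card (Sylow p G) * ((p - 1) * k) ≤ (pSet p G).card := by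
  classical
  haveI := Fintype.ofFinite G
  let S : Sylow p G → Finset G := fun P' => (pSet p G).filter fun x =>
    x ∈ Subgroup.centralizer ((P' : Subgroup G) : Set G)
  have hcard' : ∀ P' : Sylow p G, Nat.card (P' : Subgroup G) = p := fun P' => by
    rw [P'.card_eq_multiplicity, ← P.card_eq_multiplicity, hP]
  have hge : ∀ P' : Sylow p G, (p - 1) * k ≤ (S P').card := by
    intro P'
    set C := Subgroup.centralizer ((P' : Subgroup G) : Set G) with hC
    have hPC : (P' : Subgroup G) ≤ C := by
      haveI : IsCyclic ↥(P' : Subgroup G) := isCyclic_of_prime_card (hcard' P')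
      intro a ha
      rw [hC, Subgroup.mem_centralizer_iff]
      intro b hb
      exact congrArg Subtype.val (IsCyclic.commutative.is_comm.comm
        (⟨b, hb⟩ : ↥(P' : Subgroup G)) ⟨a, ha⟩)
    have hCk : Nat.card C = p * k := by rw [← hk, centCard_eq P P']; rfl
    let f : {x : C // ¬ p ∣ orderOf (x : G)} → C ⧸ ((P' : Subgroup G).subgroupOf C) :=
      fun x => QuotientGroup.mk x.1
    have hf : Function.Injective f := by
      intro x x' hxx
      have hy : ((x.1 : G))⁻¹ * x'.1 ∈ (P' : Subgroup G) := by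
        have := QuotientGroup.eq.1 hxx
        simpa [Subgroup.mem_subgroupOf] using this
      set y := ((x.1 : G))⁻¹ * x'.1 with hydef
      have hx' : (x'.1 : G) = x.1 * y := by rw [hydef, mul_inv_cancel_left]
      have hc : Commute (x.1 : G) y := (Subgroup.mem_centralizer_iff.1 x.1.2 y hy).symm
      set j := orderOf (x.1 : G) * orderOf (x'.1 : G)
      have hj : y ^ j = 1 := by
        have h1 : (x'.1 : G) ^ j = 1 := orderOf_dvd_iff_pow_eq_one.1 (dvd_mul_left _ _)
        rw [hx', hc.mul_pow, orderOf_dvd_iff_pow_eq_one.1 (dvd_mul_right _ _), one_mul] at h1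
        exact h1
      have hyp : orderOf y ∣ p := by
        have := (P' : Subgroup G).orderOf_dvd_natCard hy
        rwa [hcard' P'] at this
      rcases (Nat.dvd_prime hp.out).1 hyp with h | h
      · rw [orderOf_eq_one_iff] at h
        exact Subtype.ext (Subtype.ext (by rw [hx', h, mul_one]))
      · have hpj : p ∣ j := h ▸ orderOf_dvd_iff_pow_eq_one.2 hj
        rcases hp.out.dvd_mul.1 hpj with h' | h'
        · exact absurd h' x.2
        · exact absurd h' x'.2
    have hle := Nat.card_le_card_of_injective f hf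
    have hidx : Nat.card (C ⧸ ((P' : Subgroup G).subgroupOf C)) = k := by
      have h := Subgroup.card_mul_index ((P' : Subgroup G).subgroupOf C)
      rw [Solv.card_subgroupOf hPC, hcard' P', hCk] at h
      exact Nat.eq_of_mul_eq_mul_left hp.out.pos h
    rw [hidx, Nat.card_eq_fintype_card, Fintype.card_subtype] at hle
    have hsplit := Finset.card_filter_add_card_filter_not (s := (Finset.univ : Finset C))
      (fun x : C => p ∣ orderOf (x : G))
    rw [Finset.card_univ, ← Nat.card_eq_fintype_card, hCk] at hsplit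
    have himg : (Finset.univ.filter fun x : C => p ∣ orderOf (x : G)).card ≤ (S P').card := by
      refine Finset.card_le_card_of_injOn (fun x : C => (x : G)) (fun x hx => ?_)
        (fun a _ b _ h => Subtype.ext h)
      simp only [Finset.coe_filter, Finset.mem_univ, true_and, Set.mem_setOf_eq] at hx
      simp only [S, Finset.coe_filter, Set.mem_setOf_eq, mem_pSet]
      exact ⟨hx, x.2⟩
    rw [Nat.sub_mul, one_mul]
    omega
  have hdisj : ((Finset.univ : Finset (Sylow p G)) : Set (Sylow p G)).PairwiseDisjoint S := by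
    intro P₁ _ P₂ _ hne
    rw [Function.onFun, Finset.disjoint_left]
    intro x hx1 hx2
    simp only [S, Finset.mem_filter, mem_pSet] at hx1 hx2
    apply hne
    -- both are the subgroup of order `p` of `⟨x⟩`
    set y := x ^ (orderOf x / p)
    have hy : orderOf y = p := orderOf_pow_orderOf_div (orderOf_pos x).ne' hx1.1
    have key : ∀ P₀ : Sylow p G, x ∈ Subgroup.centralizer ((P₀ : Subgroup G) : Set G) →
        y ∈ (P₀ : Subgroup G) := by
      intro P₀ hx
      have hyc : y ∈ Subgroup.centralizer ((P₀ : Subgroup G) : Set G) := pow_mem hx _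
      have hn : Subgroup.zpowers y ≤ Subgroup.normalizer ((P₀ : Subgroup G) : Set G) :=
        Subgroup.zpowers_le.2 (Subgroup.centralizer_le_normalizer _ hyc)
      have hpg : IsPGroup p (Subgroup.zpowers y) :=
        IsPGroup.of_card (n := 1) (by rw [Nat.card_zpowers, hy, pow_one])
      have hsup := hpg.to_sup_of_normal_right' P₀.isPGroup' hn
      have heq := P₀.is_maximal' hsup le_sup_right
      exact heq.le (Subgroup.mem_sup_left (Subgroup.mem_zpowers y))
    apply Sylow.ext
    have h1 : Subgroup.zpowers y = (P₁ : Subgroup G) := Subgroup.eq_of_le_of_card_ge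
      (Subgroup.zpowers_le.2 (key P₁ hx1.2)) (by rw [Nat.card_zpowers, hy, hcard' P₁])
    have h2 : Subgroup.zpowers y = (P₂ : Subgroup G) := Subgroup.eq_of_le_of_card_ge
      (Subgroup.zpowers_le.2 (key P₂ hx2.2)) (by rw [Nat.card_zpowers, hy, hcard' P₂])
    exact h1.symm.trans h2
  calc Nat.card (Sylow p G) * ((p - 1) * k)
      = ∑ _P : Sylow p G, (p - 1) * k := by simp [Nat.card_eq_fintype_card]
    _ ≤ ∑ P' : Sylow p G, (S P').card := Finset.sum_le_sum fun P' _ => hge P'
    _ = (Finset.univ.biUnion S).card := (Finset.card_biUnion hdisj).symm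
    _ ≤ _ := Finset.card_le_card (fun x hx => by
      obtain ⟨P', -, hx⟩ := Finset.mem_biUnion.1 hx
      exact (Finset.mem_filter.1 hx).1)

/-- No element has order divisible by two primes which do not cross. -/
theorem pSet_disjoint {p q : ℕ} [Fact p.Prime] [Fact q.Prime] (P : Sylow p G)
    (hP : Nat.card P = p) (hpq : p ≠ q) (h : ¬ q ∣ centCard p P) :
    Disjoint (pSet p G) (pSet q G) := by
  rw [Finset.disjoint_left]
  intro x hxp hxq
  rw [mem_pSet] at hxp hxq
  obtain ⟨P', hP'⟩ := exists_sylow_eq P hP (x ^ (orderOf x / p))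
    (orderOf_pow_orderOf_div (orderOf_pos x).ne' hxp)
  apply h
  rw [centCard_eq P P', ← orderOf_pow_orderOf_div (orderOf_pos x).ne' hxq]
  refine Subgroup.orderOf_dvd_natCard _ ?_
  rw [hP', Subgroup.mem_centralizer_iff]
  rintro _ ⟨j, rfl⟩
  exact ((Commute.refl x).pow_pow (orderOf x / p) (orderOf x / q)).zpow_left j

theorem count_three {p q r : ℕ} (h1 : Disjoint (pSet p G) (pSet q G))
    (h2 : Disjoint (pSet p G) (pSet r G)) (h3 : Disjoint (pSet q G) (pSet r G))
    (hp : p ≠ 1) (hq : q ≠ 1) (hr : r ≠ 1) :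
    (pSet p G).card + (pSet q G).card + (pSet r G).card < Nat.card G := by
  classical
  haveI := Fintype.ofFinite G
  rw [Nat.card_eq_fintype_card, ← Finset.card_union_of_disjoint h1,
    ← Finset.card_union_of_disjoint (Finset.disjoint_union_left.2 ⟨h2, h3⟩)]
  refine Finset.card_lt_univ_of_notMem (x := (1 : G)) ?_
  simp [mem_pSet, hp, hq, hr]

/-- The numerical data of a Sylow subgroup of prime order in a simple group. -/
theorem data [IsSimpleGroup G] {p m : ℕ} [Fact p.Prime] (hG : Nat.card G = p * m)
    (hm : ¬ p ∣ m) (hm1 : 1 < m) :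
    ∃ (P : Sylow p G) (n e k : ℕ), Nat.card P = p ∧ Nat.card (Sylow p G) = n ∧
      centCard p P = p * k ∧ n * e * k = m ∧ n % p = 1 ∧ n ≠ 1 ∧ e ∣ p - 1 ∧ e ≠ 1 ∧
      (Subgroup.centralizer ((P : Subgroup G) : Set G)).relIndex
        (Subgroup.normalizer ((P : Subgroup G) : Set G)) = e := by
  obtain ⟨P, e, hP, ⟨-, hn1, hn⟩, he, he1, he2, -⟩ := Lead.BlockDeg.sylow_data hG hm hm1
  have hp : p.Prime := Fact.out
  set C := Subgroup.centralizer ((P : Subgroup G) : Set G)
  set N := Subgroup.normalizer ((P : Subgroup G) : Set G)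
  have hPC : p ∣ Nat.card C := by
    have hle : (P : Subgroup G) ≤ C := by
      haveI : IsCyclic ↥(P : Subgroup G) := isCyclic_of_prime_card hP
      intro a ha
      rw [Subgroup.mem_centralizer_iff]
      intro b hb
      exact congrArg Subtype.val (IsCyclic.commutative.is_comm.comm
        (⟨b, hb⟩ : ↥(P : Subgroup G)) ⟨a, ha⟩)
    have := Subgroup.card_dvd_of_le hle
    rwa [show Nat.card (P : Subgroup G) = p from hP] at this
  obtain ⟨k, hk⟩ := hPC
  refine ⟨P, _, e, k, hP, rfl, hk, ?_, hn1, hn, he1, he2, he⟩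
  have hCN : C ≤ N := Subgroup.centralizer_le_normalizer _
  have h3 : Nat.card C * C.relIndex N = Nat.card N := by
    have := Subgroup.card_mul_index (C.subgroupOf N)
    rwa [Solv.card_subgroupOf hCN] at this
  have h4 := Small.SmallOrders.card_normalizer P
  rw [← h3, he, hk, hG] at h4
  refine Nat.eq_of_mul_eq_mul_left hp.pos ?_
  rw [← h4]
  ring

end Cfsg.Agent.Char.PrimeSylowCount
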