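import Cfsg.Agent.Lib.Char.FixedClass
import Cfsg.Agent.Lib.Char.PrincipalBlock
import Cfsg.Agent.Lib.Char.ResField
import Cfsg.Agent.Lib.Char.ModAlg
import Mathlib

/-!
# The principal block for a Sylow subgroup of prime order has rank at least the inertial index
-/

set_option autoImplicit false
set_option linter.unusedSectionVars false

namespace Cfsg.Agent.Char

open Cfsg Module
open scoped ComplexConjugate

universe u v

variable {G : Type u} [Group G] {p : ℕ}

theorem exists_primeSetup [Finite G] [Fact p.Prime] (P : Sylow p G) (hP : Nat.card P = p) :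
    ∃ K : Subgroup G,
      PrimeSetup (P : Subgroup G) K (Subgroup.normalizer ((P : Subgroup G) : Set G)) p := by
  have hp : p.Prime := Fact.out
  set N := Subgroup.normalizer ((P : Subgroup G) : Set G) with hN
  have hPN : (P : Subgroup G) ≤ N := Subgroup.le_normalizer
  haveI hnorm : ((P : Subgroup G).subgroupOf N).Normal := by
    refine ⟨fun x hx n => ?_⟩
    rw [Subgroup.mem_subgroupOf] at hx ⊢
    exact (Subgroup.mem_normalizer_iff.mp n.2 _).mp hx
  have hcard : Nat.card ((P : Subgroup G).subgroupOf N) = p :=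
    (Nat.card_congr (Subgroup.subgroupOfEquivOfLe hPN).toEquiv).trans hP
  have hidx : ¬ p ∣ ((P : Subgroup G).subgroupOf N).index := fun h =>
    P.not_dvd_index (h.trans (Subgroup.relIndex_dvd_index_of_le hPN))
  obtain ⟨K', hK'⟩ := Subgroup.exists_right_complement'_of_coprime
    (N := (P : Subgroup G).subgroupOf N) (by
      rw [hcard]; exact hp.coprime_iff_not_dvd.mpr hidx)
  have hK'card : Nat.card K' = ((P : Subgroup G).subgroupOf N).index := hK'.symm.index_eq_card.symm
  refine ⟨K'.map N.subtype, hp, hP, ?_, ?_, hPN, Subgroup.map_subtype_le _, ?_, ?_⟩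
  · rw [Subgroup.card_map_of_injective N.subtype_injective, hK'card]
    exact hidx
  · intro n y hy
    have hn : (n : G) ∈ N := Subgroup.map_subtype_le _ n.2
    have := (Subgroup.mem_normalizer_iff.mp (N.inv_mem hn) y).mp hy
    simpa using this
  · intro x hx
    obtain ⟨⟨a, b⟩, hab⟩ := hK'.2 (⟨x, hx⟩ : N)
    exact ⟨((a : N) : G), Subgroup.mem_subgroupOf.mp a.2, ((b : N) : G), ⟨b, b.2, rfl⟩,
      (congrArg Subtype.val hab).symm⟩
  · intro g hg
    classical
    -- a conjugate of `P` inside the normalizer is `P`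
    have hsub : ∀ y ∈ (P : Subgroup G), g⁻¹ * y * g ∈ (P : Subgroup G) := by
      intro y hy
      have hpg : IsPGroup p (Subgroup.zpowers (⟨g⁻¹ * y * g, hg y hy⟩ : N)) := by
        refine IsPGroup.of_card (n := if y = 1 then 0 else 1) ?_
        rw [Nat.card_zpowers, Subgroup.orderOf_mk,
          show g⁻¹ * y * g = MulAut.conj g⁻¹ y by simp, MulEquiv.orderOf_eq]
        split_ifs with h1
        · simp [h1]
        · rw [pow_one]
          refine orderOf_eq_prime ?_ h1
          have : orderOf (⟨y, hy⟩ : (P : Subgroup G)) ∣ p :=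
            (orderOf_dvd_natCard _).trans hP.dvd
          rw [Subgroup.orderOf_mk] at this
          exact orderOf_dvd_iff_pow_eq_one.mp this
      set S : Sylow p N := P.subtype hPN
      obtain ⟨R, hR⟩ := hpg.exists_le_sylow
      haveI : (S : Subgroup N).Normal := hnorm
      haveI := Sylow.unique_of_normal S ‹_›
      have hRS : R = S := Subsingleton.elim R S
      have := hR (Subgroup.mem_zpowers _)
      rw [hRS] at this
      exact this
    rw [← inv_mem_iff, hN, Subgroup.mem_normalizer_iff]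
    intro y
    refine ⟨fun hy => by simpa using hsub y hy, fun hy => ?_⟩
    let f : ↥(P : Subgroup G) → ↥(P : Subgroup G) := fun w => ⟨_, hsub (w : G) w.2⟩
    have hf : Function.Surjective f := Finite.injective_iff_surjective.mp fun a b e => by
      have := congrArg Subtype.val e
      simp only [f, mul_left_inj, mul_right_inj] at this
      exact Subtype.ext this
    obtain ⟨w, hw⟩ := hf ⟨_, hy⟩
    have := congrArg Subtype.val hw
    simp only [f, inv_inv, mul_left_inj, mul_right_inj] at this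
    rw [← this]
    exact w.2

variable {k : Type v} [Field k]

/-- The exponent character of the normalizer with values in a field of characteristic `p`. -/
theorem exists_exponent_hom [Finite G] [Fact p.Prime] [CharP k p] (P : Sylow p G)
    (hP : Nat.card P = p) :
    ∃ ω : ↥(Subgroup.normalizer ((P : Subgroup G) : Set G)) →* kˣ,
      ω.ker = (Subgroup.centralizer ((P : Subgroup G) : Set G)).subgroupOf
        (Subgroup.normalizer ((P : Subgroup G) : Set G)) := by
  haveI : IsCyclic ↥(P : Subgroup G) := isCyclic_of_prime_card hP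
  haveI : Fact (Nat.card ↥(P : Subgroup G)).Prime := ⟨by rw [hP]; exact Fact.out⟩
  haveI : CharP k (Nat.card ↥(P : Subgroup G)) := by rw [hP]; infer_instance
  let f : ZMod (Nat.card ↥(P : Subgroup G)) →+* k := ZMod.castHom (dvd_refl _) k
  refine ⟨((Units.map f.toMonoidHom).comp (IsCyclic.mulAutMulEquiv ↥(P : Subgroup G)).toMonoidHom).comp
    (P : Subgroup G).normalizerMonoidHom, ?_⟩
  rw [← Subgroup.normalizerMonoidHom_ker]
  ext n
  simp only [MonoidHom.mem_ker, MonoidHom.comp_apply]
  exact ((Units.map_injective (f := f.toMonoidHom) f.injective).comp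
    (IsCyclic.mulAutMulEquiv ↥(P : Subgroup G)).injective).eq_iff' (by simp)

section Induced

variable (N : Subgroup G) (c : ↥N →* k)

/-- The functions on the group transforming by `c` under `N`. -/
def indSpace : Submodule k (G → k) where
  carrier := {f | ∀ (g : G) (n : ↥N), f (g * n) = c n⁻¹ * f g}
  add_mem' ha hb := fun g n => by simp [ha g n, hb g n, mul_add]
  zero_mem' := fun g n => by simp
  smul_mem' r f hf := fun g n => by simp [hf g n, mul_left_comm]

/-- The induced representation. -/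
def indRep : G →* Module.End k (indSpace N c) where
  toFun x :=
    { toFun := fun f => ⟨fun g => (f : G → k) (x⁻¹ * g), fun g n => by
        simp only [← mul_assoc]; exact f.2 _ n⟩
      map_add' := fun _ _ => rfl
      map_smul' := fun _ _ => rfl }
  map_one' := LinearMap.ext fun f => Subtype.ext (funext fun g => by simp)
  map_mul' x y := LinearMap.ext fun f => Subtype.ext (funext fun g => by simp [mul_assoc])

theorem indRep_apply (x : G) (f : indSpace N c) (g : G) :
    ((indRep N c x f : indSpace N c) : G → k) g = (f : G → k) (x⁻¹ * g) := rfl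

open scoped Classical in
/-- The vector supported on `N`. -/
noncomputable def indVec : indSpace N c :=
  ⟨fun g => if h : g ∈ N then c (⟨g, h⟩⁻¹ : ↥N) else 0, fun g n => by
    dsimp only
    by_cases hg : g ∈ N
    · rw [dif_pos hg, dif_pos (N.mul_mem hg n.2), ← map_mul]
      congr 1
      exact Subtype.ext (by simp)
    · rw [dif_neg hg, dif_neg fun h => hg ((N.mul_mem_cancel_right n.2).mp h), mul_zero]⟩

theorem indVec_eig (n : ↥N) : indRep N c (n : G) (indVec N c) = c n • indVec N c := by
  classical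
  refine Subtype.ext (funext fun g => ?_)
  rw [indRep_apply]
  show (if h : _ then _ else _) = c n * (if h : _ then _ else _)
  by_cases hg : g ∈ N
  · rw [dif_pos (N.mul_mem (N.inv_mem n.2) hg), dif_pos hg,
      show (⟨(n : G)⁻¹ * g, N.mul_mem (N.inv_mem n.2) hg⟩ : ↥N)⁻¹ = (⟨g, hg⟩ : ↥N)⁻¹ * n from
        Subtype.ext (by simp), map_mul, mul_comm]
  · rw [dif_neg fun h => hg ((N.mul_mem_cancel_left (N.inv_mem n.2)).mp h), dif_neg hg, mul_zero]

theorem indVec_notMem_range [CharP k p] {P : Subgroup G} [Fintype ↥P] (hP : Nat.card ↥P = p)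
    (hPN : P ≤ N) (hc : ∀ y (hy : y ∈ P), c ⟨y, hPN hy⟩ = 1) :
    indVec N c ∉ LinearMap.range (trEnd (indRep N c) P) := by
  classical
  rintro ⟨t, ht⟩
  have h1 := congrArg (fun f : indSpace N c => (f : G → k) 1) ht
  simp only [trEnd, LinearMap.sum_apply, AddSubmonoidClass.coe_finset_sum, Finset.sum_apply,
    indRep_apply] at h1
  rw [Finset.sum_eq_card_nsmul (b := (t : G → k) 1) fun y _ => ?_, Finset.card_univ,
    ← Nat.card_eq_fintype_card, hP, nsmul_eq_mul, CharP.cast_eq_zero, zero_mul] at h1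
  · have h2 : ((indVec N c : indSpace N c) : G → k) 1 = 1 := by
      show (if h : _ then _ else _) = (1 : k)
      rw [dif_pos N.one_mem]
      exact map_one c ▸ congrArg c (Subtype.ext (by simp))
    rw [h2] at h1
    exact zero_ne_one h1
  · have := t.2 1 ⟨(y : G)⁻¹, hPN (P.inv_mem y.2)⟩
    rw [one_mul] at this
    rw [mul_one]
    refine this.trans ?_
    rw [show (⟨(y : G)⁻¹, hPN (P.inv_mem y.2)⟩ : ↥N)⁻¹ = ⟨(y : G), hPN y.2⟩ from
      Subtype.ext (inv_inv _), hc _ y.2, one_mul]

end Induced

section SubQuot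

variable {W : Type u} [AddCommGroup W] [Module k W] (ρ : G →* Module.End k W)

/-- An invariant pair of subspaces. -/
structure InvPair where
  top : Submodule k W
  bot : Submodule k W
  top_inv : InvSub ρ top
  bot_inv : InvSub ρ bot

variable {ρ}

/-- The representation on a section. -/
def InvPair.rep (q : InvPair ρ) :
    G →* Module.End k (↥q.top ⧸ q.bot.comap q.top.subtype) where
  toFun g := Submodule.mapQ _ _ ((ρ g).restrict fun x hx => q.top_inv g x hx)
    fun x hx => q.bot_inv g _ hx
  map_one' := LinearMap.ext fun z => by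
    obtain ⟨x, rfl⟩ := Submodule.Quotient.mk_surjective _ z
    show Submodule.Quotient.mk (⟨ρ 1 (x : W), q.top_inv 1 x x.2⟩ : ↥q.top) = Submodule.Quotient.mk x
    simp
  map_mul' g h := LinearMap.ext fun z => by
    obtain ⟨x, rfl⟩ := Submodule.Quotient.mk_surjective _ z
    show Submodule.Quotient.mk (⟨ρ (g * h) (x : W), q.top_inv _ x x.2⟩ : ↥q.top) =
      Submodule.Quotient.mk (⟨ρ g (ρ h (x : W)), q.top_inv g _ (q.top_inv h x x.2)⟩ : ↥q.top)
    simp

theorem InvPair.rep_mk (q : InvPair ρ) (g : G) (x : ↥q.top) :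
    q.rep g (Submodule.Quotient.mk x) =
      Submodule.Quotient.mk ⟨ρ g (x : W), q.top_inv g x x.2⟩ := rfl

theorem InvSub.trEnd_mem {P : Subgroup G} [Fintype ↥P] {U : Submodule k W} (hU : InvSub ρ U)
    {x : W} (hx : x ∈ U) : trEnd ρ P x ∈ U := by
  rw [trEnd, LinearMap.sum_apply]
  exact Submodule.sum_mem _ fun y _ => hU _ x hx

theorem InvSub.eigProj_mem {K : Subgroup G} [Fintype ↥K] {lam : ↥K →* k} {U : Submodule k W}
    (hU : InvSub ρ U) {x : W} (hx : x ∈ U) : eigProj ρ K lam x ∈ U := by
  rw [eigProj, LinearMap.smul_apply, LinearMap.sum_apply]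
  exact Submodule.smul_mem _ _ (Submodule.sum_mem _ fun n _ =>
    Submodule.smul_mem _ _ (hU _ x hx))

/-- An irreducible section carrying a non-trivial fixed class. -/
theorem PrimeSetup.exists_section [Finite G] [CharP k p] [FiniteDimensional k W]
    {P K N : Subgroup G} [Fintype ↥P] [Fintype ↥K] (hS : PrimeSetup P K N p) (lam : ↥K →* k)
    (U₀ : Submodule k W) (hU₀ : InvSub ρ U₀) {v : W} (hvU : v ∈ U₀) (hv : FixEig ρ P K lam v)
    (hvn : v ∉ LinearMap.range (trEnd ρ P)) :
    ∃ q : InvPair ρ, q.top ≤ U₀ ∧ SimpleRep q.rep ∧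
      ∃ x, FixEig q.rep P K lam x ∧ x ∉ LinearMap.range (trEnd q.rep P) := by
  classical
  let Good : Submodule k W → Prop := fun U => InvSub ρ U ∧ U ≤ U₀ ∧
    ∃ x ∈ U, FixEig ρ P K lam x ∧ x ∉ U.map (trEnd ρ P)
  have hGood : Good U₀ := ⟨hU₀, le_rfl, v, hvU, hv, fun hmem => hvn (by
    obtain ⟨t, -, ht⟩ := hmem; exact ⟨t, ht⟩)⟩
  obtain ⟨U, hU, hmin⟩ := IsWellFounded.wf.has_min {U | Good U} ⟨U₀, hGood⟩
    (r := ((· < ·) : Submodule k W → Submodule k W → Prop))
  obtain ⟨hUi, hUle, x, hxU, hx, hxn⟩ := hU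
  have hbot : InvSub ρ (⊥ : Submodule k W) := fun g y hy => by
    rw [Submodule.mem_bot] at hy ⊢; rw [hy, map_zero]
  have hxne : x ≠ 0 := fun e => hxn (e ▸ Submodule.zero_mem _)
  obtain ⟨U', hU', hmax⟩ := (IsWellFounded.wf (r := ((· > ·) : Submodule k W → Submodule k W → Prop))).has_min
    {V | InvSub ρ V ∧ V < U} ⟨⊥, hbot, bot_lt_iff_ne_bot.mpr fun e => hxne (by simpa [e] using hxU)⟩
  obtain ⟨hU'i, hU'lt⟩ := hU'
  refine ⟨⟨U, U', hUi, hU'i⟩, hUle, ?_, Submodule.Quotient.mk ⟨x, hxU⟩, ?_, ?_⟩
  · set q : InvPair ρ := ⟨U, U', hUi, hU'i⟩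
    refine ⟨Submodule.Quotient.nontrivial_iff.mpr fun e => ?_, fun V hV => ?_⟩
    · refine hU'lt.not_ge fun y hy => ?_
      have : (⟨y, hy⟩ : ↥U) ∈ (U'.comap U.subtype) := e ▸ Submodule.mem_top
      exact this
    · set V' : Submodule k W := (V.comap (Submodule.mkQ _)).map U.subtype with hV'
      have hle : U' ≤ V' := fun y hy =>
        ⟨⟨y, hU'lt.le hy⟩, by
          show Submodule.Quotient.mk _ ∈ V
          rw [(Submodule.Quotient.mk_eq_zero _).mpr (show (⟨y, hU'lt.le hy⟩ : ↥U) ∈ U'.comap U.subtype from hy)]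
          exact V.zero_mem, rfl⟩
      have hV'i : InvSub ρ V' := by
        rintro g _ ⟨y, hy, rfl⟩
        exact ⟨⟨ρ g (y : W), hUi g y y.2⟩, hV g _ hy, rfl⟩
      rcases eq_or_lt_of_le (show V' ≤ U from Submodule.map_subtype_le _ _) with e | hlt
      · refine Or.inr (eq_top_iff.mpr fun z _ => ?_)
        obtain ⟨y, rfl⟩ := Submodule.Quotient.mk_surjective _ z
        obtain ⟨y', hy', he⟩ := (e.symm ▸ y.2 : (y : W) ∈ V')
        rw [Subtype.ext he] at hy'
        exact hy'
      · rcases eq_or_lt_of_le hle with e | hlt'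
        · refine Or.inl (eq_bot_iff.mpr fun z hz => ?_)
          obtain ⟨y, rfl⟩ := Submodule.Quotient.mk_surjective _ z
          rw [Submodule.mem_bot, Submodule.Quotient.mk_eq_zero]
          show (y : W) ∈ U'
          rw [e]
          exact ⟨y, hz, rfl⟩
        · exact absurd hlt' (hmax V' ⟨hV'i, hlt⟩)
  · constructor
    · intro y
      rw [InvPair.rep_mk]
      exact congrArg _ (Subtype.ext (hx.1 y))
    · intro n
      rw [InvPair.rep_mk, ← Submodule.Quotient.mk_smul]
      exact congrArg _ (Subtype.ext (hx.2 n))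
  · rintro ⟨w, hw⟩
    obtain ⟨w, rfl⟩ := Submodule.Quotient.mk_surjective _ w
    rw [trEnd, LinearMap.sum_apply] at hw
    replace hw : Submodule.mkQ (U'.comap U.subtype)
        (∑ y : ↥P, (⟨ρ (y : G) (w : W), hUi _ _ w.2⟩ : ↥U)) =
        Submodule.mkQ (U'.comap U.subtype) ⟨x, hxU⟩ := by
      rw [map_sum]; exact hw
    rw [Submodule.mkQ_apply, Submodule.mkQ_apply, Submodule.Quotient.eq] at hw
    have hw' : trEnd ρ P (w : W) - x ∈ U' := by
      have := hw
      simp only [Submodule.mem_comap, Submodule.subtype_apply, AddSubgroupClass.coe_sub,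
        AddSubmonoidClass.coe_finset_sum] at this
      simpa [trEnd] using this
    set z := x - trEnd ρ P (eigProj ρ K lam (w : W)) with hz
    have hz' : z = eigProj ρ K lam (-(trEnd ρ P (w : W) - x)) := by
      rw [hz, neg_sub, map_sub, eigProj_of_eig hS.card_ne hx.2, eigProj_trEnd hS.norm]
    have hzfix : FixEig ρ P K lam z := ⟨fun y => by rw [hz, map_sub, hx.1, trEnd_fixed],
      fun n => hz' ▸ eigProj_eig lam n _⟩
    have hzU : z ∈ U' := hz' ▸ hU'i.eigProj_mem (U'.neg_mem hw')
    by_cases hzt : z ∈ U'.map (trEnd ρ P)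
    · obtain ⟨t, ht, he⟩ := hzt
      refine hxn ⟨t + eigProj ρ K lam (w : W), U.add_mem (hU'lt.le ht) (hUi.eigProj_mem w.2), ?_⟩
      rw [map_add, he, hz, sub_add_cancel]
    · exact hmin U' ⟨hU'i, hU'lt.le.trans hUle, z, hzU, hzfix, hzt⟩ hU'lt

end SubQuot

end Cfsg.Agent.Char
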