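import Cfsg.Agent.Lib.Char.SolvableDegreeDivisor
import Cfsg.Agent.Lib.Char.Gallagher
import Cfsg.Agent.Lib.Char.Coprime
import Cfsg.Agent.Lib.Char.Inflate
import Cfsg.Agent.Lib.Char.SylowNormalizes
import Cfsg.Agent.Lib.Char.CoprimeFixAverage
import Cfsg.Agent.Lib.Solv.Cores
import Cfsg.Agent.Lib.Solv.Engel

/-!
# The degree of a primitive character of a metanilpotent group
-/

set_option autoImplicit false
set_option linter.style.haveILetI false
set_option linter.unusedSectionVars false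
set_option maxHeartbeats 800000

namespace Cfsg.Agent.Char.Prim

open Cfsg Cfsg.Agent Cfsg.Agent.Char
open scoped Classical commutatorElement

universe u

variable {G : Type u} [Group G] [Fintype G]

/-- Not induced from a proper subgroup. -/
def IsPrimitive (χ : IrrCharacter G) : Prop :=
  ¬ ∃ H : Subgroup G, H ≠ ⊤ ∧ ∃ θ : ↥H → ℂ, IsCharacter ↥H θ ∧ indFun H θ = (χ : G → ℂ)

theorem primitive_deflate (K : Subgroup G) [K.Normal] [Fintype (G ⧸ K)] {χ : IrrCharacter G}
    {χ' : IrrCharacter (G ⧸ K)} (hχ : ∀ g : G, (χ' : G ⧸ K → ℂ) (g : G ⧸ K) = (χ : G → ℂ) g)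
    (hp : IsPrimitive χ) : IsPrimitive χ' := by
  rintro ⟨H, hH, θ, hθ, hind⟩
  refine hp ⟨H.comap (QuotientGroup.mk' K), fun h => hH ?_, fun x => θ ⟨(x : G), x.2⟩,
    isCharacter_comp ((QuotientGroup.mk' K).subgroupComap H) hθ, funext fun g => ?_⟩
  · rw [← Subgroup.map_comap_eq_self_of_surjective (QuotientGroup.mk'_surjective K) H, h,
      Subgroup.map_top_of_surjective _ (QuotientGroup.mk'_surjective K)]
  haveI := Fintype.ofFinite K
  have hext : ∀ y : G, extendByZero (H.comap (QuotientGroup.mk' K))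
      (fun x => θ ⟨(x : G), x.2⟩) y = extendByZero H θ (y : G ⧸ K) := by
    intro y
    by_cases hy : (y : G ⧸ K) ∈ H
    · rw [extendByZero_mem H θ hy, extendByZero_mem _ _ (show y ∈ H.comap (QuotientGroup.mk' K) from hy)]
    · rw [extendByZero_not_mem H θ hy,
        extendByZero_not_mem _ _ (show y ∉ H.comap (QuotientGroup.mk' K) from hy)]
  have hcard : Nat.card (H.comap (QuotientGroup.mk' K)) = Nat.card K * Nat.card H := by
    have h1 := (H.comap (QuotientGroup.mk' K)).card_mul_index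
    have h2 := H.card_mul_index
    have h3 := K.card_eq_card_quotient_mul_card_subgroup
    rw [Subgroup.index_comap_of_surjective _ (QuotientGroup.mk'_surjective K), h3, ← h2] at h1
    refine Nat.eq_of_mul_eq_mul_right (Nat.pos_of_ne_zero H.index_ne_zero_of_finite) ?_
    rw [h1]; ring
  rw [← hχ, ← hind]
  simp only [indFun, hext, hcard, QuotientGroup.mk_mul, QuotientGroup.mk_inv, Nat.cast_mul, mul_inv]
  rw [sum_comp_mk K (fun x : G ⧸ K => extendByZero H θ (x⁻¹ * (g : G ⧸ K) * x))]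
  have : (Nat.card K : ℂ) ≠ 0 := Nat.cast_ne_zero.2 Nat.card_pos.ne'
  field_simp

/-- A primitive character restricts homogeneously to normal subgroups. -/
theorem homogeneous {χ : IrrCharacter G} (hp : IsPrimitive χ) (N : Subgroup G) [N.Normal] [Fintype N]
    {θ : IrrCharacter N} (hθ : classInner (fun n : N => (χ : G → ℂ) n) (θ : N → ℂ) ≠ 0) :
    (∀ g : G, irrComp (MulAut.conjNormal g) θ = θ) ∧
      ∃ e : ℕ, ∀ n : N, (χ : G → ℂ) n = (e : ℂ) * (θ : N → ℂ) n := by
  have hinv : ∀ g : G, irrComp (MulAut.conjNormal g) θ = θ := by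
    let T : Subgroup G :=
      { carrier := {g | irrComp (MulAut.conjNormal g) θ = θ}
        one_mem' := irrComp_conj_one θ
        mul_mem' := fun {a b} ha hb => by
          show irrComp (MulAut.conjNormal (a * b)) θ = θ
          rw [← irrComp_conj_mul, show irrComp (MulAut.conjNormal a) θ = θ from ha]; exact hb
        inv_mem' := fun {a} ha => by
          show irrComp (MulAut.conjNormal a⁻¹) θ = θ
          conv_lhs => rw [← show irrComp (MulAut.conjNormal a) θ = θ from ha, irrComp_conj_mul,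
            mul_inv_cancel, irrComp_conj_one] }
    haveI := Fintype.ofFinite T
    have hNT : N ≤ T := fun m hm => Subtype.ext (funext fun a => by
      rw [irrComp_apply, show MulAut.conjNormal m a = ⟨m, hm⟩ * a * (⟨m, hm⟩ : N)⁻¹ from
        Subtype.ext (by simp [MulAut.conjNormal_apply])]
      exact isClassFunction_character (irr_isCharacter θ.2) a ⟨m, hm⟩)
    intro g
    by_contra hg
    obtain ⟨ψ, hψ, hψθ⟩ := exists_correspondent_in (hNT := hNT) χ hθ
    exact hp ⟨T, fun h => hg (h ▸ Subgroup.mem_top g : g ∈ T), _, irr_isCharacter ψ.2,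
      (clifford_ind (T := T) (hNT := hNT) (fun _ h => h) hψθ hψ).1.symm⟩
  refine ⟨hinv, ?_⟩
  obtain ⟨e, he⟩ := classInner_natCast (isCharacter_comp N.subtype (irr_isCharacter χ.2))
    (irr_isCharacter θ.2)
  have horb : cliffOrbit N θ = {θ} := Finset.eq_singleton_iff_unique_mem.2
    ⟨self_mem_cliffOrbit θ, fun ψ hψ => by
      obtain ⟨g, rfl⟩ := mem_cliffOrbit.1 hψ
      exact hinv g⟩
  refine ⟨e, fun n => ?_⟩
  have h := congrFun (clifford_restrict χ θ hθ) n
  rw [horb, Finset.sum_singleton, Pi.smul_apply, smul_eq_mul,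
    show (fun n : N => (χ : G → ℂ) n) = (χ : G → ℂ) ∘ N.subtype from rfl, he] at h
  exact h

/-- In a faithful primitive situation normal abelian subgroups are central. -/
theorem abelian_le_center {χ : IrrCharacter G} (hp : IsPrimitive χ)
    (hf : ∀ g : G, (χ : G → ℂ) g = (χ : G → ℂ) 1 → g = 1) (A : Subgroup G) [A.Normal]
    (hA : ∀ a ∈ A, ∀ b ∈ A, a * b = b * a) : A ≤ Subgroup.center G := by
  haveI := Fintype.ofFinite A
  obtain ⟨θ, hθ⟩ := exists_constituent (N := A) χ
  obtain ⟨hinv, e, he⟩ := homogeneous hp A hθ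
  intro a ha
  obtain ⟨l, hl⟩ := exists_hom_of_degree_one (irr_isCharacter θ.2)
    (forall_linear_iff_comm.1 (fun x y : A => Subtype.ext (hA x x.2 y y.2)) θ)
  refine Subgroup.mem_center_iff.2 fun g => ?_
  let c : A := MulAut.conjNormal g ⟨a, ha⟩ * (⟨a, ha⟩ : A)⁻¹
  have h1 : (θ : A → ℂ) (MulAut.conjNormal g ⟨a, ha⟩) = (θ : A → ℂ) ⟨a, ha⟩ := by
    conv_rhs => rw [← hinv g, irrComp_apply]
  simp only [hl] at h1
  have h2 : l c = 1 := by rw [map_mul, Units.ext h1, ← map_mul, mul_inv_cancel, map_one]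
  have h3 : (c : G) = 1 := hf _ (by
    rw [he c, show ((1 : G)) = ((1 : A) : G) from rfl, he 1]
    simp only [hl, h2, map_one])
  have h4 : g * a * g⁻¹ * a⁻¹ = 1 := by simpa [c, MulAut.conjNormal_apply] using h3
  exact mul_inv_eq_iff_eq_mul.1 (mul_inv_eq_one.1 h4)

theorem exists_central_of_normal {Q : Type u} [Group Q] [Group.IsNilpotent Q] (N : Subgroup Q)
    [hN : N.Normal] (h : N ≠ ⊥) : ∃ u ∈ N, u ≠ 1 ∧ u ∈ Subgroup.center Q := by
  obtain ⟨n, hn⟩ := Group.IsNilpotent.nilpotent (G := Q)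
  have key : ∀ k : ℕ, (∃ u ∈ N, u ≠ 1 ∧ u ∈ Subgroup.upperCentralSeries Q k) →
      ∃ u ∈ N, u ≠ 1 ∧ u ∈ Subgroup.center Q := by
    intro k
    induction k with
    | zero =>
      rintro ⟨u, -, hu1, hu⟩
      rw [Subgroup.upperCentralSeries_zero, Subgroup.mem_bot] at hu
      exact absurd hu hu1
    | succ k ih =>
      rintro ⟨u, huN, hu1, hu⟩
      by_cases hc : u ∈ Subgroup.center Q
      · exact ⟨u, huN, hu1, hc⟩
      obtain ⟨g, hg⟩ : ∃ g, g * u ≠ u * g := by
        by_contra hno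
        push Not at hno
        exact hc (Subgroup.mem_center_iff.2 hno)
      refine ih ⟨u * g * u⁻¹ * g⁻¹, ?_, fun e => hg ?_, Subgroup.mem_upperCentralSeries_succ_iff.1 hu g⟩
      · rw [mul_assoc, mul_assoc]
        exact N.mul_mem huN (by
          have := hN.conj_mem _ (N.inv_mem huN) g
          simpa [mul_assoc] using this)
      · exact (mul_inv_eq_iff_eq_mul.1 (mul_inv_eq_one.1 e)).symm
  obtain ⟨u, hu, hu1⟩ : ∃ u ∈ N, u ≠ 1 := by
    by_contra hno
    push Not at hno
    exact h ((Subgroup.eq_bot_iff_forall _).2 hno)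
  exact key n ⟨u, hu, hu1, hn ▸ Subgroup.mem_top u⟩

/-- A primitive character restricts irreducibly to a normal subgroup with nilpotent quotient. -/
theorem restrict_irr {χ : IrrCharacter G} (hp : IsPrimitive χ) (F : Subgroup G) [F.Normal]
    [Group.IsNilpotent (G ⧸ F)] :
    ∀ N : Subgroup G, N.Normal → F ≤ N → IsIrrCharacter ↥N (fun n : N => (χ : G → ℂ) n) →
      IsIrrCharacter ↥F (fun n : F => (χ : G → ℂ) n) := by
  intro N
  induction N using (wellFounded_lt (α := Subgroup G)).induction with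
  | _ N ih =>
  intro hN hFN hirr
  rcases eq_or_lt_of_le hFN with rfl | hlt
  · exact hirr
  haveI := hN
  -- a maximal normal subgroup below `N`
  obtain ⟨M, -, hM⟩ := Finite.exists_le_maximal
    (p := fun M : Subgroup G => M.Normal ∧ F ≤ M ∧ M < N) (a := F) ⟨inferInstance, le_rfl, hlt⟩
  obtain ⟨hMn, hFM, hMN⟩ := hM.1
  haveI := hMn
  haveI : Group.IsNilpotent (G ⧸ M) :=
    Group.nilpotent_of_surjective (QuotientGroup.map F M (MonoidHom.id G) hFM) (fun x => by
      obtain ⟨g, rfl⟩ := QuotientGroup.mk'_surjective M x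
      exact ⟨QuotientGroup.mk' F g, rfl⟩)
  haveI : (N.map (QuotientGroup.mk' M)).Normal := hN.map _ (QuotientGroup.mk'_surjective M)
  obtain ⟨a, haN, ha1, hac⟩ := exists_central_of_normal (N.map (QuotientGroup.mk' M)) (fun h => by
    rw [Subgroup.map_eq_bot_iff, QuotientGroup.ker_mk'] at h
    exact hMN.not_ge h)
  let M' := (Subgroup.zpowers a).comap (QuotientGroup.mk' M)
  haveI : (Subgroup.zpowers a).Normal := ⟨fun x hx g => by
    have hxc : x ∈ Subgroup.center (G ⧸ M) := Subgroup.zpowers_le.2 hac hx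
    rw [Subgroup.mem_center_iff.1 hxc g, mul_inv_cancel_right]
    exact hx⟩
  have hM'N : M' = N := by
    have hle : M' ≤ N := fun x hx => by
      obtain ⟨n, hn, hnx⟩ := (Subgroup.zpowers_le.2 haN) hx
      have h1 : n⁻¹ * x ∈ M := QuotientGroup.eq.1 hnx
      simpa using N.mul_mem hn (hMN.le h1)
    rcases eq_or_lt_of_le hle with h | h
    · exact h
    exfalso
    have h2 : M' ≤ M := hM.2 ⟨inferInstance, hFM.trans fun x hx => by
      show QuotientGroup.mk' M x ∈ Subgroup.zpowers a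
      rw [QuotientGroup.mk'_apply, (QuotientGroup.eq_one_iff x).2 hx]; exact one_mem _, h⟩ (fun x hx => by
      show QuotientGroup.mk' M x ∈ Subgroup.zpowers a
      rw [QuotientGroup.mk'_apply, (QuotientGroup.eq_one_iff x).2 hx]; exact one_mem _)
    obtain ⟨n, -, rfl⟩ := haN
    exact ha1 ((QuotientGroup.eq_one_iff n).2 (h2 (Subgroup.mem_zpowers _ : n ∈ M')))
  haveI := Fintype.ofFinite M
  haveI := Fintype.ofFinite N
  haveI := Fintype.ofFinite (M.subgroupOf N)
  obtain ⟨θ, hθ⟩ := exists_constituent (N := M) χ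
  obtain ⟨hinv, -⟩ := homogeneous hp M hθ
  obtain ⟨e, he⟩ : ∃ e : M.subgroupOf N ≃* M, ∀ n, ((e n : M) : G) = ((n : N) : G) :=
    ⟨Subgroup.subgroupOfEquivOfLe hMN.le, fun n => rfl⟩
  obtain ⟨θ', hθ'⟩ : ∃ θ' : IrrCharacter (M.subgroupOf N), ∀ n, (θ' : _ → ℂ) n = (θ : M → ℂ) (e n) :=
    ⟨irrTransport e θ, fun n => irrTransport_apply e θ n⟩
  have hinv' : ∀ (g : N) (n : M.subgroupOf N),
      (θ' : _ → ℂ) (MulAut.conjNormal g n) = (θ' : _ → ℂ) n := fun g n => by
    rw [hθ', hθ']
    conv_rhs => rw [← hinv (g : G), irrComp_apply]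
    refine congrArg _ (Subtype.ext ?_)
    rw [he]
    simp [he]
  have hcyc : IsCyclic (N ⧸ M.subgroupOf N) := by
    have hsub : Function.Injective
        (QuotientGroup.lift (M.subgroupOf N) ((QuotientGroup.mk' M).comp N.subtype)
          (fun n hn => (QuotientGroup.eq_one_iff (n : G)).2 hn)) := by
      rw [injective_iff_map_eq_one]
      intro x hx
      induction x using QuotientGroup.induction_on with | _ n =>
      exact (QuotientGroup.eq_one_iff n).2 ((QuotientGroup.eq_one_iff (n : G)).1 hx)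
    let f : N ⧸ M.subgroupOf N →* Subgroup.zpowers a :=
      (QuotientGroup.lift (M.subgroupOf N) ((QuotientGroup.mk' M).comp N.subtype)
          (fun n hn => (QuotientGroup.eq_one_iff (n : G)).2 hn)).codRestrict _ fun x => by
        induction x using QuotientGroup.induction_on with | _ n =>
        exact (hM'N.symm ▸ n.2 : (n : G) ∈ M')
    exact isCyclic_of_injective f fun x y h => hsub (congrArg Subtype.val h)
  obtain ⟨ξ, hξ, hξr⟩ := exists_extension_cyclic (M.subgroupOf N) hcyc θ'.2 hinv'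
  have hone := isIrrCharacter_one (G := M.subgroupOf N)
  have hprod : (fun _ => (1 : ℂ)) * (θ' : M.subgroupOf N → ℂ) = (θ' : _ → ℂ) :=
    funext fun n => one_mul _
  have hbij := gallagher (M.subgroupOf N) (fun _ => (1 : ℂ)) (θ' : _ → ℂ) hone (fun _ _ => rfl) hinv'
    (by rw [hprod]; exact θ'.2) (irr_isCharacter hξ) hξr
  have hin : classInner (indFun (M.subgroupOf N) (θ' : _ → ℂ)) (fun n : N => (χ : G → ℂ) n) ≠ 0 := by
    rw [frobenius (M.subgroupOf N) _ (isClassFunction_character (irr_isCharacter hirr)),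
      ← classInner_symm, ne_eq, map_eq_zero]
    refine fun h => hθ (Eq.trans ?_ h)
    simp only [classInner, Nat.card_congr e.toEquiv]
    congr 1
    refine (Fintype.sum_equiv e.toEquiv _ _ fun n => ?_).symm
    show _ = (χ : G → ℂ) (e n : G) * _
    rw [hθ', he]
    rfl
  rw [hprod] at hbij
  obtain ⟨β, ⟨hβ, hβc⟩, hβξ⟩ := hbij.surjOn (a := fun n : N => (χ : G → ℂ) n) ⟨hirr, hin⟩
  have hβ1 := (constituent_indFun_one_iff (M.subgroupOf N) hβ).1 hβc
  have hdeg : β 1 = 1 := by
    haveI := Fintype.ofFinite (N ⧸ M.subgroupOf N)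
    obtain ⟨β', hβ'⟩ := exists_deflate (M.subgroupOf N) hβ (fun n hn => hβ1 ⟨n, hn⟩)
    letI := IsCyclic.commGroup (α := N ⧸ M.subgroupOf N)
    rw [← hβ', QuotientGroup.mk_one]
    exact forall_linear_iff_comm.1 (fun x y => mul_comm x y) β'
  have hres : (fun n : M => (χ : G → ℂ) n) = (θ : M → ℂ) := funext fun n => by
    have h1 := congrFun hβξ ((e.symm n : M.subgroupOf N) : N)
    simp only [Pi.mul_apply] at h1
    rw [hβ1, hdeg, one_mul, hξr, hθ', e.apply_symm_apply] at h1
    rw [h1, ← he, e.apply_symm_apply]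
  exact ih M hMN hMn hFM (by rw [hres]; exact θ.2)

/-- The square of the degree against the index of a central subgroup. -/
theorem sq_deg_mul_card_le (χ : IrrCharacter G) (Z : Subgroup G) (hZ : Z ≤ Subgroup.center G) :
    deg (χ : G → ℂ) ^ 2 * Nat.card Z ≤ Nat.card G := by
  haveI := Fintype.ofFinite Z
  have h1 : ∑ g : G, ‖(χ : G → ℂ) g‖ ^ 2 = (Nat.card G : ℝ) := by
    have h := irr_self χ.2
    rw [classInner, inv_mul_eq_one₀ (Nat.cast_ne_zero.2 Nat.card_pos.ne')] at h
    have h2 := congrArg Complex.re h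
    rw [Complex.re_sum, Complex.natCast_re] at h2
    rw [h2]
    refine Finset.sum_congr rfl fun g _ => ?_
    rw [Complex.mul_conj, Complex.ofReal_re, Complex.normSq_eq_norm_sq]
  have h2 : ∀ z : Z, ‖(χ : G → ℂ) z‖ ^ 2 = ((deg (χ : G → ℂ) : ℕ) : ℝ) ^ 2 := fun z => by
    have := character_central_mul χ.2 (hZ z.2) 1
    rw [mul_one] at this
    rw [this, char_one_eq_deg (irr_isCharacter χ.2), Complex.norm_natCast]
  have h3 : ∑ z : Z, ‖(χ : G → ℂ) z‖ ^ 2 ≤ ∑ g : G, ‖(χ : G → ℂ) g‖ ^ 2 := by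
    rw [← Finset.sum_image (g := Subtype.val) (f := fun g : G => ‖(χ : G → ℂ) g‖ ^ 2)
      fun a _ b _ h => Subtype.ext h]
    exact Finset.sum_le_sum_of_subset_of_nonneg (Finset.subset_univ _) fun g _ _ => sq_nonneg _
  rw [Finset.sum_congr rfl fun z _ => h2 z, h1, Finset.sum_const, nsmul_eq_mul, Finset.card_univ,
    ← Nat.card_eq_fintype_card] at h3
  rw [mul_comm]
  exact_mod_cast h3

/-- The derived subgroup of a normal subgroup is central in it, when normal abelian ones are
central. -/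
theorem commutator_le_center {X : Type u} [Group X] (P : Subgroup X) [P.Normal] [Group.IsNilpotent P]
    (hab : ∀ A : Subgroup X, A.Normal → (∀ a ∈ A, ∀ b ∈ A, a * b = b * a) → A ≤ Subgroup.center X) :
    commutator P ≤ Subgroup.center P := by
  by_contra hne
  haveI : ((commutator P).map (QuotientGroup.mk' (Subgroup.center P))).Normal :=
    Subgroup.Normal.map inferInstance _ (QuotientGroup.mk'_surjective _)
  obtain ⟨c, hc, hc1, hcc⟩ := exists_central_of_normal
    ((commutator P).map (QuotientGroup.mk' (Subgroup.center P))) (fun h => hne (by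
      rw [Subgroup.map_eq_bot_iff, QuotientGroup.ker_mk'] at h; exact h))
  obtain ⟨u, hu, rfl⟩ := hc
  have hu2 : u ∈ (Subgroup.upperCentralSeries P 2) := by
    refine Subgroup.mem_upperCentralSeries_succ_iff.2 fun y => ?_
    rw [Subgroup.upperCentralSeries_one, ← QuotientGroup.eq_one_iff]
    have h := Subgroup.mem_center_iff.1 hcc (QuotientGroup.mk' _ y)
    rw [commutatorElement_def, QuotientGroup.mk_mul, QuotientGroup.mk_mul, QuotientGroup.mk_mul,
      QuotientGroup.mk_inv, QuotientGroup.mk_inv]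
    rw [mul_inv_eq_one, mul_inv_eq_iff_eq_mul]
    exact h.symm
  have hcomm : ∀ z ∈ Subgroup.upperCentralSeries P 2, ∀ d ∈ commutator P, z * d = d * z := by
    intro z hz d hd
    have hzc : ∀ y, z * y * z⁻¹ * y⁻¹ ∈ Subgroup.center P := fun y => by
      have := Subgroup.mem_upperCentralSeries_succ_iff.1 hz y
      rwa [Subgroup.upperCentralSeries_one] at this
    let φ : P →* Subgroup.center P :=
      { toFun := fun y => ⟨z * y * z⁻¹ * y⁻¹, hzc y⟩
        map_one' := Subtype.ext (by simp)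
        map_mul' := fun a b => Subtype.ext (by
          show z * (a * b) * z⁻¹ * (a * b)⁻¹ = (z * a * z⁻¹ * a⁻¹) * (z * b * z⁻¹ * b⁻¹)
          calc z * (a * b) * z⁻¹ * (a * b)⁻¹ = (z * a * z⁻¹) * (z * b * z⁻¹ * b⁻¹) * a⁻¹ := by group
            _ = (z * a * z⁻¹) * ((z * b * z⁻¹ * b⁻¹) * a⁻¹) := by group
            _ = (z * a * z⁻¹) * (a⁻¹ * (z * b * z⁻¹ * b⁻¹)) := by
              rw [Subgroup.mem_center_iff.1 (hzc b) a⁻¹]
            _ = _ := by group) }
    have hker : commutator P ≤ φ.ker := by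
      rw [commutator_def, Subgroup.commutator_le]
      intro a _ b _
      rw [MonoidHom.mem_ker, map_commutatorElement, commutatorElement_eq_one_iff_mul_comm]
      exact Subtype.ext (Subgroup.mem_center_iff.1 (φ b).2 (φ a))
    have h1 : z * d * z⁻¹ * d⁻¹ = 1 := congrArg Subtype.val (MonoidHom.mem_ker.1 (hker hd))
    exact mul_inv_eq_iff_eq_mul.1 (mul_inv_eq_one.1 h1)
  haveI : (commutator P ⊓ Subgroup.upperCentralSeries P 2).Characteristic :=
    Subgroup.characteristic_iff_map_eq.2 fun φ => by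
      rw [Subgroup.map_inf _ _ _ φ.injective, Subgroup.characteristic_iff_map_eq.1 inferInstance φ,
        Subgroup.characteristic_iff_map_eq.1 inferInstance φ]
  refine hc1 ((QuotientGroup.eq_one_iff u).2 (Subgroup.mem_center_iff.2 fun y => Subtype.ext ?_))
  have h := hab ((commutator P ⊓ Subgroup.upperCentralSeries P 2).map P.subtype)
    inferInstance (by
      rintro _ ⟨a, ha, rfl⟩ _ ⟨b, hb, rfl⟩
      exact congrArg Subtype.val (hcomm a ha.2 b hb.1)) ⟨u, ⟨hu, hu2⟩, rfl⟩
  exact Subgroup.mem_center_iff.1 h y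

set_option maxHeartbeats 2000000 in
/-- The `p`-part: one `p'`-element class meets the square of the degree. -/
theorem exists_element {p q : ℕ} [hp : Fact p.Prime] [hq : Fact q.Prime] (hpq : p ≠ q)
    (hpr : ∀ r, r.Prime → r ∣ Nat.card G → r = p ∨ r = q) {χ : IrrCharacter G} (hprim : IsPrimitive χ)
    (hf : ∀ g : G, (χ : G → ℂ) g = (χ : G → ℂ) 1 → g = 1) (F : Subgroup G) [F.Normal]
    (hFdef : F = fittingSubgroup G) [Group.IsNilpotent (G ⧸ F)] :
    ∃ x : G ⧸ F, (∃ k, orderOf x = q ^ k) ∧ ∀ g : G, ∀ i : ℕ, (g : G ⧸ F) ^ i = x →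
      p ^ (deg (χ : G → ℂ)).factorization p ∣ (Subgroup.centralizer ({g} : Set G)).index := by
  obtain ⟨P, hPdef⟩ : ∃ P, P = pCore p G := ⟨_, rfl⟩
  haveI : P.Normal := hPdef ▸ Solv.pCore_normal p
  have hPp : IsPGroup p P := hPdef ▸ Solv.pCore_isPGroup p
  haveI := hPp.isNilpotent
  haveI := Fintype.ofFinite P
  haveI := Fintype.ofFinite F
  have hab : ∀ A : Subgroup G, A.Normal → (∀ a ∈ A, ∀ b ∈ A, a * b = b * a) → A ≤ Subgroup.center G :=
    fun A hA h => haveI := hA; abelian_le_center hprim hf A h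
  -- the action on `P / Z(P)`
  let Z : Subgroup P := Subgroup.center P
  letI : CommGroup (P ⧸ Z) :=
    { (inferInstance : Group (P ⧸ Z)) with
      mul_comm := fun a b => by
        induction a using QuotientGroup.induction_on with | _ a =>
        induction b using QuotientGroup.induction_on with | _ b =>
        rw [← QuotientGroup.mk_mul, ← QuotientGroup.mk_mul, QuotientGroup.eq]
        refine commutator_le_center P hab ?_
        rw [show (a * b)⁻¹ * (b * a) = ⁅b⁻¹, a⁻¹⁆ by rw [commutatorElement_def]; group, commutator_def]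
        exact Subgroup.commutator_mem_commutator (Subgroup.mem_top _) (Subgroup.mem_top _) }
  let act : G →* MulAut (P ⧸ Z) :=
    { toFun := fun g => QuotientGroup.congr Z Z (MulAut.conjNormal g : P ≃* P)
        (Subgroup.characteristic_iff_map_eq.1 inferInstance _)
      map_one' := MulEquiv.ext fun v => by
        induction v using QuotientGroup.induction_on with | _ v =>
        show ((MulAut.conjNormal (1 : G) v : P) : P ⧸ Z) = v
        rw [map_one]; rfl
      map_mul' := fun a b => MulEquiv.ext fun v => by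
        induction v using QuotientGroup.induction_on with | _ v =>
        show ((MulAut.conjNormal (a * b) v : P) : P ⧸ Z) =
          ((MulAut.conjNormal a (MulAut.conjNormal b v) : P) : P ⧸ Z)
        rw [map_mul]; rfl }
  have hFnil : Group.IsNilpotent F := hFdef ▸ Solv.fittingSubgroup_nilpotent
  have hPF : P ≤ F := hFdef ▸ hPdef ▸ Solv.pCore_le_fitting p
  obtain ⟨R⟩ : Nonempty (Sylow p F) := inferInstance
  haveI : (R : Subgroup F).Normal :=
    Sylow.normal_of_normalizerCondition Group.normalizerCondition_of_isNilpotent R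
  haveI := R.characteristic_of_normal inferInstance
  have hRP : (R : Subgroup F).map F.subtype = P := by
    refine le_antisymm (hPdef ▸ Solv.normal_le_pCore (R.isPGroup'.map _)) fun x hx => ?_
    have h1 : P.subgroupOf F ≤ (R : Subgroup F) := by
      obtain ⟨R', hR'⟩ := IsPGroup.exists_le_sylow (hPp.comap_subtype (K := F))
      letI := Sylow.unique_of_normal R inferInstance
      exact (Subsingleton.elim R' R) ▸ hR'
    exact ⟨⟨x, hPF hx⟩, h1 hx, rfl⟩
  have hFact : F ≤ act.ker := by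
    intro x hx
    obtain ⟨i, m, hm, hkm⟩ := Nat.exists_eq_pow_mul_and_not_dvd (orderOf_pos (⟨x, hx⟩ : F)).ne' p hp.out.ne_one
    have hco : (p ^ i).Coprime m := (((Nat.Prime.coprime_iff_not_dvd hp.out).2 hm)).pow_left i
    have hmem1 : x ^ m ∈ act.ker := by
      have hxm : (⟨x, hx⟩ : F) ^ m ∈ (R : Subgroup F) := by
        have hzp : IsPGroup p (Subgroup.zpowers ((⟨x, hx⟩ : F) ^ m)) := by
          obtain ⟨j, -, hj⟩ := (Nat.dvd_prime_pow hp.out).1 (orderOf_dvd_of_pow_eq_one
            (show ((⟨x, hx⟩ : F) ^ m) ^ (p ^ i) = 1 by rw [← pow_mul, mul_comm, ← hkm, pow_orderOf_eq_one]))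
          exact IsPGroup.of_card (n := j) (by rw [Nat.card_zpowers, hj])
        obtain ⟨R', hR'⟩ := hzp.exists_le_sylow
        letI := Sylow.unique_of_normal R inferInstance
        exact (Subsingleton.elim R' R) ▸ hR' (Subgroup.mem_zpowers _)
      have hxP : x ^ m ∈ P := hRP ▸ ⟨_, hxm, rfl⟩
      refine MonoidHom.mem_ker.2 (MulEquiv.ext fun v => ?_)
      induction v using QuotientGroup.induction_on with | _ w =>
      show ((MulAut.conjNormal (x ^ m) w : P) : P ⧸ Z) = w
      rw [show MulAut.conjNormal (x ^ m) w = (⟨x ^ m, hxP⟩ : P) * w * (⟨x ^ m, hxP⟩ : P)⁻¹ from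
        Subtype.ext (by rw [MulAut.conjNormal_apply]; rfl), QuotientGroup.mk_mul, QuotientGroup.mk_mul,
        QuotientGroup.mk_inv, mul_comm _ (w : P ⧸ Z), mul_inv_cancel_right]
    have hmem2 : x ^ p ^ i ∈ act.ker := by
      refine MonoidHom.mem_ker.2 (MulEquiv.ext fun v => ?_)
      induction v using QuotientGroup.induction_on with | _ w =>
      show ((MulAut.conjNormal (x ^ p ^ i) w : P) : P ⧸ Z) = w
      have hwF : (w : G) ∈ F := hPF w.2
      have hc : Commute (⟨w, hwF⟩ : F) ((⟨x, hx⟩ : F) ^ p ^ i) := by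
        haveI := hFnil
        obtain ⟨j, hj⟩ := IsPGroup.iff_orderOf.1 hPp w
        refine Solv.commute_of_coprime_nilpotent (p := p) (k := j) (by
          rw [← Subgroup.orderOf_coe]; exact (Subgroup.orderOf_coe w).trans hj) ?_
        refine Nat.Coprime.coprime_dvd_left (orderOf_dvd_of_pow_eq_one (n := m) ?_)
          ((Nat.Prime.coprime_iff_not_dvd hp.out).2 hm).symm
        rw [← pow_mul, ← hkm, pow_orderOf_eq_one]
      have hc' : (w : G) * x ^ p ^ i = x ^ p ^ i * w := congrArg Subtype.val hc.eq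
      rw [show MulAut.conjNormal (x ^ p ^ i) w = w from Subtype.ext (by
        rw [MulAut.conjNormal_apply, ← hc', mul_inv_cancel_right])]
    obtain ⟨a, b, hab'⟩ := Int.isCoprime_iff_nat_coprime.2
      (show Nat.Coprime ((p ^ i : ℕ) : ℤ).natAbs (m : ℤ).natAbs from hco)
    rw [show x = (x ^ p ^ i) ^ a * (x ^ m) ^ b by
      rw [← zpow_natCast x (p ^ i), ← zpow_natCast x m, ← zpow_mul, ← zpow_mul, ← zpow_add,
        mul_comm _ a, mul_comm _ b, hab', zpow_one]]
    exact mul_mem (zpow_mem hmem2 a) (zpow_mem hmem1 b)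
  let fbar : G ⧸ F →* MulAut (P ⧸ Z) := QuotientGroup.lift F act hFact
  haveI := Fintype.ofFinite (G ⧸ F)
  obtain ⟨Aq⟩ : Nonempty (Sylow q (G ⧸ F)) := inferInstance
  obtain ⟨Ap⟩ : Nonempty (Sylow p (G ⧸ F)) := inferInstance
  haveI : (Aq : Subgroup (G ⧸ F)).Normal :=
    Sylow.normal_of_normalizerCondition Group.normalizerCondition_of_isNilpotent Aq
  haveI := Fintype.ofFinite (Aq : Subgroup (G ⧸ F))
  have htop : (Ap : Subgroup (G ⧸ F)) ⊔ (Aq : Subgroup (G ⧸ F)) = ⊤ := by
    refine Solv.eq_top_of_forall_sylow_le _ fun r hr => ?_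
    by_cases hd : r ∣ Nat.card G
    · rcases hpr r hr.out hd with rfl | rfl
      · exact ⟨Ap, le_sup_left⟩
      · exact ⟨Aq, le_sup_right⟩
    · obtain ⟨S⟩ : Nonempty (Sylow r (G ⧸ F)) := inferInstance
      refine ⟨S, fun s hs => ?_⟩
      obtain ⟨k, hk⟩ := IsPGroup.iff_orderOf.1 S.isPGroup' ⟨s, hs⟩
      rcases Nat.eq_zero_or_pos k with rfl | hk0
      · have h1 : (⟨s, hs⟩ : (S : Subgroup (G ⧸ F))) = 1 := orderOf_eq_one_iff.1 (hk.trans (pow_zero r))
        rw [show s = 1 from congrArg Subtype.val h1]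
        exact one_mem _
      · refine absurd ((dvd_pow_self r hk0.ne').trans ?_) hd
        rw [← hk, ← Subgroup.orderOf_coe, Subgroup.coe_mk]
        exact (orderOf_dvd_natCard s).trans (Subgroup.card_quotient_dvd_card F)
  -- no fixed points
  have hnofix : ∀ v : P ⧸ Z, (∀ a : (Aq : Subgroup (G ⧸ F)), fbar a v = v) → v = 1 := by
    let W : Subgroup (P ⧸ Z) :=
      { carrier := {v | ∀ a : (Aq : Subgroup (G ⧸ F)), fbar a v = v}
        one_mem' := fun a => map_one _
        mul_mem' := fun {v w} hv hw a => by rw [map_mul, hv a, hw a]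
        inv_mem' := fun {v} hv a => by rw [map_inv, hv a] }
    suffices hW : W = ⊥ by
      intro v hv
      exact Subgroup.mem_bot.1 (hW ▸ (hv : v ∈ W))
    by_contra hW
    haveI : Nontrivial W := (Subgroup.nontrivial_iff_ne_bot _).2 hW
    have hWp : IsPGroup p W := (hPp.to_quotient Z).to_subgroup W
    have hWinv : ∀ b : G ⧸ F, ∀ w ∈ W, fbar b w ∈ W := fun b w hw a => by
      have h1 : fbar a (fbar b w) = fbar b (fbar (b⁻¹ * a * b) w) := by
        rw [← MulAut.mul_apply, ← MulAut.mul_apply, ← map_mul, ← map_mul]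
        group
      rw [h1, hw ⟨_, by simpa using (inferInstance : (Aq : Subgroup (G ⧸ F)).Normal).conj_mem a a.2 b⁻¹⟩]
    letI : MulAction (Ap : Subgroup (G ⧸ F)) W :=
      { smul := fun b w => ⟨fbar b w, hWinv b w w.2⟩
        one_smul := fun w => Subtype.ext (by show fbar 1 w = w; rw [map_one]; rfl)
        mul_smul := fun b c w => Subtype.ext (by
          show fbar (b * c) w = fbar b (fbar c w); rw [map_mul]; rfl) }
    have h1 : (1 : W) ∈ MulAction.fixedPoints (Ap : Subgroup (G ⧸ F)) W := fun b =>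
      Subtype.ext (map_one (fbar b))
    have hdvd : p ∣ Nat.card W := by
      obtain ⟨k, hk⟩ := IsPGroup.iff_card.1 hWp
      rcases Nat.eq_zero_or_pos k with rfl | hk0
      · exact absurd (hk.trans (pow_zero p)) (Finite.one_lt_card_iff_nontrivial.2 inferInstance).ne'
      · rw [hk]; exact dvd_pow_self p hk0.ne'
    obtain ⟨w, hw, hw1⟩ := Ap.isPGroup'.exists_fixed_point_of_prime_dvd_card_of_fixed_point W hdvd h1
    obtain ⟨u, hu⟩ := QuotientGroup.mk_surjective (w : P ⧸ Z)
    have hall : ∀ b : G ⧸ F, fbar b w = w := by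
      intro b
      have hb : b ∈ (Ap : Subgroup (G ⧸ F)) ⊔ (Aq : Subgroup (G ⧸ F)) := htop ▸ Subgroup.mem_top b
      obtain ⟨c, hc, d, hd, rfl⟩ := Subgroup.mem_sup_of_normal_right.1 hb
      rw [map_mul, MulAut.mul_apply, w.2 ⟨d, hd⟩]
      exact congrArg Subtype.val (hw ⟨c, hc⟩)
    have hfixu : ∀ g : G, (MulAut.conjNormal g u)⁻¹ * u ∈ Z := fun g => by
      rw [← QuotientGroup.eq]
      have h3 := hall (g : G ⧸ F)
      rw [← hu] at h3
      exact h3
    have hgen : ∀ a ∈ insert (u : G) (Z.map P.subtype : Set G), ∀ b ∈ insert (u : G) (Z.map P.subtype : Set G),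
        a * b = b * a := by
      rintro a (rfl | ⟨a, ha, rfl⟩) b (rfl | ⟨b, hb, rfl⟩)
      · rfl
      · exact congrArg Subtype.val (Subgroup.mem_center_iff.1 hb u)
      · exact (congrArg Subtype.val (Subgroup.mem_center_iff.1 ha u)).symm
      · exact (congrArg Subtype.val (Subgroup.mem_center_iff.1 ha b)).symm
    haveI := Subgroup.isMulCommutative_closure hgen
    haveI hn : (Subgroup.closure (insert (u : G) (Z.map P.subtype : Set G))).Normal := by
      refine ⟨fun n hn g => ?_⟩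
      induction hn using Subgroup.closure_induction with
      | mem a ha =>
        rcases ha with rfl | ⟨a, ha, rfl⟩
        · have h4 := hfixu g
          have e : g * (u : G) * g⁻¹ = (u : G) * (((MulAut.conjNormal g u)⁻¹ * u : P) : G)⁻¹ := by
            simp [MulAut.conjNormal_apply]
          rw [e]
          exact mul_mem (Subgroup.subset_closure (Or.inl rfl))
            (inv_mem (Subgroup.subset_closure (Or.inr ⟨_, h4, rfl⟩)))
        · exact Subgroup.subset_closure (Or.inr ⟨MulAut.conjNormal g a,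
            (Subgroup.characteristic_iff_map_eq.1 (inferInstance : Z.Characteristic)
              (MulAut.conjNormal g : P ≃* P)).le ⟨a, ha, rfl⟩, rfl⟩)
      | one => rw [mul_one, mul_inv_cancel]; exact one_mem _
      | mul a b _ _ ha hb => rw [← conj_mul]; exact mul_mem ha hb
      | inv a _ ha => rw [← conj_inv]; exact inv_mem ha
    have huC : (u : G) ∈ Subgroup.center G :=
      hab _ hn (fun a ha b hb => congrArg Subtype.val (mul_comm' (⟨a, ha⟩ : Subgroup.closure _) ⟨b, hb⟩))
        (Subgroup.subset_closure (Or.inl rfl))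
    have huZ : u ∈ Z := Subgroup.mem_center_iff.2 fun y => Subtype.ext (Subgroup.mem_center_iff.1 huC y)
    refine hw1 (Subtype.ext ?_)
    rw [← hu, (QuotientGroup.eq_one_iff u).2 huZ]
    rfl
  haveI : Group.IsNilpotent (Aq : Subgroup (G ⧸ F)) := Aq.isPGroup'.isNilpotent
  have hco : (Nat.card (Aq : Subgroup (G ⧸ F))).Coprime (Nat.card (P ⧸ Z)) := by
    obtain ⟨i, hi⟩ := IsPGroup.iff_card.1 Aq.isPGroup'
    obtain ⟨j, hj⟩ := IsPGroup.iff_card.1 (hPp.to_quotient Z)
    rw [hi, hj]
    exact Nat.Coprime.pow _ _ ((Nat.coprime_primes hq.out hp.out).2 hpq.symm)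
  obtain ⟨a, ha⟩ := FixAverage.exists_small_fix (fbar.comp (Aq : Subgroup (G ⧸ F)).subtype) hco hnofix
  refine ⟨a, ?_, fun g i hgi => ?_⟩
  · obtain ⟨k, hk⟩ := IsPGroup.iff_orderOf.1 Aq.isPGroup' a
    exact ⟨k, by rw [Subgroup.orderOf_coe]; exact hk⟩
  -- the degree
  have hirrF : IsIrrCharacter ↥F (fun n : F => (χ : G → ℂ) n) := by
    refine restrict_irr hprim F ⊤ inferInstance le_top ?_
    haveI := Fintype.ofFinite (⊤ : Subgroup G)
    exact (irrTransport (Subgroup.topEquiv : (⊤ : Subgroup G) ≃* G) χ).2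
  haveI := Fintype.ofFinite (P.subgroupOf F)
  obtain ⟨ψ, hψ⟩ := exists_constituent (N := P.subgroupOf F) (⟨_, hirrF⟩ : IrrCharacter F)
  obtain ⟨η, hηdef⟩ : ∃ η : IrrCharacter F, ∀ n, (η : F → ℂ) n = (χ : G → ℂ) n := ⟨⟨_, hirrF⟩, fun _ => rfl⟩
  have hηdeg : deg (η : F → ℂ) = deg (χ : G → ℂ) := Nat.cast_injective (R := ℂ) (by
    rw [← char_one_eq_deg (irr_isCharacter η.2), ← char_one_eq_deg (irr_isCharacter χ.2), hηdef]
    rfl)
  have hψ' : classInner (fun n : P.subgroupOf F => (η : F → ℂ) n) (ψ : _ → ℂ) ≠ 0 := by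
    have : (fun n : P.subgroupOf F => (η : F → ℂ) n) = fun n : P.subgroupOf F => (χ : G → ℂ) (n : F) :=
      funext fun n => hηdef n
    rw [this]; exact hψ
  obtain ⟨hd1, hd2⟩ := Cfsg.Agent.S0887.result (P.subgroupOf F) (η : F → ℂ) η.2 (ψ : _ → ℂ) ψ.2 hψ' _ _
    (char_one_eq_deg (irr_isCharacter η.2)) (char_one_eq_deg (irr_isCharacter ψ.2))
  rw [hηdeg] at hd1 hd2
  have hPF' : P.subgroupOf F = (R : Subgroup F) := by
    rw [← hRP, Subgroup.subgroupOf, Subgroup.comap_map_eq_self_of_injective F.subtype_injective]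
  have hidxP : (P.subgroupOf F).index = (R : Subgroup F).index := by rw [hPF']
  have hnotp : ¬ p ∣ deg (χ : G → ℂ) / deg (ψ : ↥(P.subgroupOf F) → ℂ) := fun h =>
    R.not_dvd_index (by rw [← hidxP]; exact h.trans hd2)
  have hfac : p ^ (deg (χ : G → ℂ)).factorization p ≤ deg (ψ : ↥(P.subgroupOf F) → ℂ) := by
    refine Nat.le_of_dvd (deg_pos ψ.2) ?_
    have h1 : p ^ (deg (χ : G → ℂ)).factorization p ∣ deg (χ : G → ℂ) / deg (ψ : ↥(P.subgroupOf F) → ℂ) * deg (ψ : ↥(P.subgroupOf F) → ℂ) := by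
      rw [Nat.div_mul_cancel hd1]; exact Nat.ordProj_dvd _ _
    exact (Nat.Coprime.pow_left _ ((Nat.Prime.coprime_iff_not_dvd hp.out).2 hnotp)).dvd_of_dvd_mul_left h1
  -- the bound `ψ(1)^2 ≤ |P : Z(P)|`
  let eP : P.subgroupOf F ≃* P := Subgroup.subgroupOfEquivOfLe hPF
  have hsq : deg (ψ : ↥(P.subgroupOf F) → ℂ) ^ 2 ≤ Nat.card (P ⧸ Z) := by
    have h1 := sq_deg_mul_card_le ψ (Z.map eP.symm.toMonoidHom) (by
      rintro _ ⟨z, hz, rfl⟩
      refine Subgroup.mem_center_iff.2 fun y => ?_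
      apply eP.injective
      simp only [map_mul, MulEquiv.coe_toMonoidHom, MulEquiv.apply_symm_apply]
      exact Subgroup.mem_center_iff.1 hz (eP y))
    rw [Subgroup.card_map_of_injective eP.symm.injective, Nat.card_congr eP.toEquiv,
      Z.card_eq_card_quotient_mul_card_subgroup] at h1
    exact Nat.le_of_mul_le_mul_right h1 Nat.card_pos
  -- the centraliser of `g` in `P`
  obtain ⟨C, hC⟩ : ∃ C, C = (Subgroup.centralizer ({g} : Set G)).subgroupOf P := ⟨_, rfl⟩
  let fix := FixAverage.fixIn (fbar.comp (Aq : Subgroup (G ⧸ F)).subtype) ⊤ a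
  have hCle : C.map (QuotientGroup.mk' Z) ≤ fix := by
    rintro _ ⟨y, hy, rfl⟩
    refine ⟨Subgroup.mem_top _, ?_⟩
    have hy' : g * (y : G) = (y : G) * g := by
      rw [hC, SetLike.mem_coe, Subgroup.mem_subgroupOf, Subgroup.mem_centralizer_singleton_iff] at hy
      exact hy.symm
    have hgy : act g (y : P ⧸ Z) = y := by
      show ((MulAut.conjNormal g y : P) : P ⧸ Z) = y
      rw [show MulAut.conjNormal g y = y from Subtype.ext (by
        rw [MulAut.conjNormal_apply, hy', mul_inv_cancel_right])]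
    show fbar (a : G ⧸ F) (QuotientGroup.mk' Z y) = QuotientGroup.mk' Z y
    rw [← hgi, ← QuotientGroup.mk_pow]
    show act (g ^ i) (y : P ⧸ Z) = y
    clear hgi
    induction i with
    | zero => rw [pow_zero, map_one]; rfl
    | succ i IH => rw [pow_succ, map_mul, MulAut.mul_apply, hgy, IH]
  have hidx : Nat.card (P ⧸ Z) ≤ C.index * Nat.card fix := by
    have h2 : (C ⊔ Z).index * Nat.card ↥(C.map (QuotientGroup.mk' Z)) = Nat.card (P ⧸ Z) := by
      have h := (C.map (QuotientGroup.mk' Z)).index_mul_card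
      rwa [Subgroup.index_map, QuotientGroup.ker_mk', QuotientGroup.range_mk', Subgroup.index_top,
        mul_one] at h
    rw [← h2]
    exact Nat.mul_le_mul (Nat.le_of_dvd (Nat.pos_of_ne_zero Subgroup.index_ne_zero_of_finite)
      (Subgroup.index_dvd_of_le le_sup_left)) (Subgroup.card_le_of_le hCle)
  have hfinal : p ^ (deg (χ : G → ℂ)).factorization p ≤ C.index := by
    refine (Nat.pow_le_pow_iff_left two_ne_zero).1 ?_
    have h1 : Nat.card (P ⧸ Z) ^ 2 ≤ C.index ^ 2 * Nat.card (P ⧸ Z) :=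
      (Nat.pow_le_pow_left hidx 2).trans (by rw [mul_pow]; exact Nat.mul_le_mul_left _ ha)
    rw [pow_two (Nat.card (P ⧸ Z))] at h1
    exact ((Nat.pow_le_pow_left hfac 2).trans hsq).trans (Nat.le_of_mul_le_mul_right h1 Nat.card_pos)
  obtain ⟨k, hk⟩ := hPp.index C
  have hdv : p ^ (deg (χ : G → ℂ)).factorization p ∣ C.index := by
    rw [hk] at hfinal ⊢
    exact pow_dvd_pow p ((Nat.pow_le_pow_iff_right hp.out.one_lt).1 hfinal)
  refine hdv.trans ?_
  rw [hC]
  exact relIndex_dvd_index (Subgroup.centralizer ({g} : Set G)) P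

/-- The main theorem in the faithful case. -/
theorem deg_dvd_index {p q : ℕ} (hp : p.Prime) (hq : q.Prime) (hpq : p ≠ q)
    (hpr : ∀ r, r.Prime → r ∣ Nat.card G → r = p ∨ r = q) {χ : IrrCharacter G} (hprim : IsPrimitive χ)
    (hf : ∀ g : G, (χ : G → ℂ) g = (χ : G → ℂ) 1 → g = 1) (F : Subgroup G) [F.Normal]
    (hFdef : F = fittingSubgroup G) [Group.IsNilpotent (G ⧸ F)] :
    ∃ g : G, deg (χ : G → ℂ) ∣ (Subgroup.centralizer ({g} : Set G)).index := by
  haveI := Fact.mk hp
  haveI := Fact.mk hq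
  obtain ⟨x, ⟨k, hk⟩, hx⟩ := exists_element hpq hpr hprim hf F hFdef
  obtain ⟨y, ⟨l, hl⟩, hy⟩ := exists_element hpq.symm (fun r hr hd => (hpr r hr hd).symm) hprim hf F hFdef
  have hco : (orderOf x).Coprime (orderOf y) := by
    rw [hk, hl]; exact Nat.Coprime.pow _ _ ((Nat.coprime_primes hq hp).2 hpq.symm)
  have hxy : Commute x y := Solv.commute_of_coprime_nilpotent hk (by
    rw [hl]; exact (((Nat.coprime_primes hp hq).2 hpq).pow_left l))
  obtain ⟨g, hg⟩ := QuotientGroup.mk_surjective (x * y)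
  obtain ⟨i, hi⟩ := exists_pow_eq_self_of_coprime hco.symm
  obtain ⟨j, hj⟩ := exists_pow_eq_self_of_coprime hco
  have h1 := hx g (orderOf y * i) (by
    rw [hg, hxy.mul_pow, pow_mul, hi, pow_mul, pow_orderOf_eq_one, one_pow, mul_one])
  have h2 := hy g (orderOf x * j) (by
    rw [hg, hxy.mul_pow, pow_mul x, pow_orderOf_eq_one, one_pow, one_mul, pow_mul, hj])
  refine ⟨g, ?_⟩
  have hdG := deg_dvd_card χ.2
  refine (Nat.factorization_le_iff_dvd (deg_pos χ.2).ne' Subgroup.index_ne_zero_of_finite).1 fun r => ?_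
  by_cases hr : r.Prime
  swap
  · simp [Nat.factorization_eq_zero_of_not_prime _ hr]
  by_cases hd : r ∣ deg (χ : G → ℂ)
  · rcases hpr r hr (hd.trans hdG) with rfl | rfl
    · exact (hr.pow_dvd_iff_le_factorization Subgroup.index_ne_zero_of_finite).1 h1
    · exact (hr.pow_dvd_iff_le_factorization Subgroup.index_ne_zero_of_finite).1 h2
  · simp [Nat.factorization_eq_zero_of_not_dvd hd]

end Cfsg.Agent.Char.Prim
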