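import Cfsg.Agent.Lib.Char.FixSpaceHalf
import Cfsg.Agent.Lib.Char.PrimitiveDegree
import Cfsg.Agent.Lib.Char.FullyRamifiedInduced

/-!
# The `p`-part of a primitive degree against a class size
-/

set_option autoImplicit false
set_option linter.unusedSectionVars false
set_option linter.style.haveILetI false

namespace Cfsg.Agent.Char.Prim

open Cfsg Cfsg.Agent Cfsg.Agent.Char
open scoped Classical ComplexConjugate

universe u

section Ramify

variable {T : Type u} [Group T] [Fintype T] (N : Subgroup T) [N.Normal] [Fintype N]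
  {θ : IrrCharacter N} {ψ : IrrCharacter T} {e : ℕ}
  (he : ∀ n : N, (ψ : T → ℂ) n = (e : ℂ) * (θ : N → ℂ) n)

include he in
theorem sq_eq_index (hvan : ∀ x, x ∉ N → (ψ : T → ℂ) x = 0) : e ^ 2 = N.index := by
  have h1 := irr_self ψ.2
  have h2 := irr_self θ.2
  rw [classInner, inv_mul_eq_one₀ (Nat.cast_ne_zero.2 Nat.card_pos.ne')] at h1 h2
  have hs : ∑ g : T, (ψ : T → ℂ) g * conj ((ψ : T → ℂ) g) = (e : ℂ) ^ 2 * (Nat.card N : ℂ) := by
    rw [h2, Finset.mul_sum, ← Finset.sum_subset (Finset.subset_univ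
      ((Finset.univ : Finset N).map ⟨Subtype.val, Subtype.val_injective⟩)) fun x _ hx => by
        rw [hvan x fun hN => hx (Finset.mem_map.2 ⟨⟨x, hN⟩, Finset.mem_univ _, rfl⟩), zero_mul],
      Finset.sum_map]
    refine Finset.sum_congr rfl fun n _ => ?_
    show (ψ : T → ℂ) n * conj ((ψ : T → ℂ) n) = _
    rw [he, map_mul, map_natCast]
    ring
  rw [hs, ← N.card_mul_index] at h1
  push_cast at h1
  have hN : (Nat.card N : ℂ) ≠ 0 := Nat.cast_ne_zero.2 Nat.card_pos.ne'
  rw [mul_comm ((e : ℂ) ^ 2)] at h1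
  exact_mod_cast (mul_left_cancel₀ hN h1).symm

include he in
theorem eq_one_of_no_twist (hab : ∀ a b : T, a * b * a⁻¹ * b⁻¹ ∈ N)
    (htw : ∀ c : T →* ℂˣ, (∀ n ∈ N, c n = 1) →
      (∀ t, (c t : ℂ) * (ψ : T → ℂ) t = (ψ : T → ℂ) t) → c = 1) : e = 1 := by
  haveI : Fintype (T ⧸ N) := Fintype.ofFinite _
  have hq : ∀ a b : T ⧸ N, a * b = b * a := fun a b => by
    obtain ⟨x, rfl⟩ := QuotientGroup.mk_surjective a
    obtain ⟨y, rfl⟩ := QuotientGroup.mk_surjective b
    rw [← QuotientGroup.mk_mul, ← QuotientGroup.mk_mul, QuotientGroup.eq]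
    have := hab y⁻¹ x⁻¹
    simpa [mul_assoc] using this
  have hlin : ∀ l : IrrCharacter (T ⧸ N), (l : T ⧸ N → ℂ) 1 = 1 := forall_linear_iff_comm.mp hq
  set m := fun l : IrrCharacter (T ⧸ N) =>
    classInner (fun t : T => (ψ : T → ℂ) t * (l : T ⧸ N → ℂ) (QuotientGroup.mk t)) (ψ : T → ℂ)
    with hm
  have hsum : ∑ l, m l = (e : ℂ) ^ 2 := by
    simp only [hm, classInner]
    rw [← Finset.mul_sum, Finset.sum_comm]
    have hinner : ∀ t : T, ∑ l : IrrCharacter (T ⧸ N),
        (ψ : T → ℂ) t * (l : T ⧸ N → ℂ) (QuotientGroup.mk t) * conj ((ψ : T → ℂ) t) =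
        ((ψ : T → ℂ) t * conj ((ψ : T → ℂ) t)) *
          if t ∈ N then (Nat.card (T ⧸ N) : ℂ) else 0 := fun t => by
      have h := regular_sum (QuotientGroup.mk t : T ⧸ N)
      simp only [hlin, one_mul, QuotientGroup.eq_one_iff] at h
      rw [← h, Finset.mul_sum]
      exact Finset.sum_congr rfl fun l _ => by ring
    rw [Finset.sum_congr rfl fun t _ => hinner t]
    simp only [mul_ite, mul_zero]
    rw [← Finset.sum_filter, ← Finset.sum_subtype_eq_sum_filter]
    have hsub : (Finset.univ : Finset T).subtype (· ∈ N) = (Finset.univ : Finset N) :=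
      Finset.eq_univ_iff_forall.mpr fun x => by simp
    rw [hsub, Finset.sum_congr rfl (g := fun n : N =>
      ((e : ℂ) ^ 2 * (Nat.card (T ⧸ N) : ℂ)) * ((θ : N → ℂ) n * conj ((θ : N → ℂ) n))) fun n _ => by
        rw [he, map_mul, map_natCast]; ring, ← Finset.mul_sum]
    have h1 := irr_self θ.2
    rw [classInner, inv_mul_eq_one₀ (Nat.cast_ne_zero.mpr Nat.card_pos.ne')] at h1
    rw [← h1, Subgroup.card_eq_card_quotient_mul_card_subgroup N, Nat.cast_mul, mul_inv]
    have hN : (Nat.card N : ℂ) ≠ 0 := Nat.cast_ne_zero.mpr Nat.card_pos.ne'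
    have hQ : (Nat.card (T ⧸ N) : ℂ) ≠ 0 := Nat.cast_ne_zero.mpr Nat.card_pos.ne'
    field_simp
  have hone : IsIrrCharacter (T ⧸ N) (fun _ => (1 : ℂ)) := isIrrCharacter_one
  have hm1 : m ⟨_, hone⟩ = 1 := by
    simp only [hm, mul_one]
    exact irr_self ψ.2
  have hm0 : ∀ l : IrrCharacter (T ⧸ N), l ≠ ⟨_, hone⟩ → m l = 0 := by
    intro l hl
    obtain ⟨c, hc⟩ := exists_hom_of_degree_one (irr_isCharacter l.2) (hlin l)
    have hirr : IsIrrCharacter T
        (fun t : T => (ψ : T → ℂ) t * (l : T ⧸ N → ℂ) (QuotientGroup.mk t)) := by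
      refine isIrr_of_norm_one (isCharacter_mul (irr_isCharacter ψ.2)
        (isCharacter_comp (QuotientGroup.mk' N) (irr_isCharacter l.2))) ?_
      rw [← irr_self ψ.2]
      simp only [classInner]
      congr 1
      refine Finset.sum_congr rfl fun t _ => ?_
      have hn : ‖((c (QuotientGroup.mk t) : ℂˣ) : ℂ)‖ = 1 :=
        Complex.norm_eq_one_of_pow_eq_one (linear_pow_card c _) (orderOf_pos _).ne'
      rw [hc, map_mul, mul_mul_mul_comm, Complex.mul_conj', Complex.mul_conj', hn]
      simp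
    simp only [hm]
    rw [irr_orth hirr ψ.2, if_neg]
    intro heq
    have hc1 := htw (c.comp (QuotientGroup.mk' N)) (fun n hn => by
      rw [MonoidHom.comp_apply, QuotientGroup.mk'_apply, (QuotientGroup.eq_one_iff n).2 hn, map_one])
      fun t => by
        conv_rhs => rw [← congrFun heq t]
        rw [hc, mul_comm]
        rfl
    refine hl (Subtype.ext (funext fun x => ?_))
    obtain ⟨t, rfl⟩ := QuotientGroup.mk_surjective x
    rw [hc]
    show ((c.comp (QuotientGroup.mk' N)) t : ℂ) = 1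
    rw [hc1]
    simp
  rw [Finset.sum_eq_single _ (fun l _ hl => hm0 l hl) (by simp), hm1] at hsum
  have : e ^ 2 = 1 := by exact_mod_cast hsum.symm
  exact (pow_eq_one_iff.1 this).resolve_right two_ne_zero

end Ramify

variable {G : Type u} [Group G] [Fintype G]

theorem card_eq_inf_mul_map (L₀ X : Subgroup G) [L₀.Normal] :
    Nat.card X = Nat.card ↥(X ⊓ L₀) * Nat.card ↥(X.map (QuotientGroup.mk' L₀)) := by
  have h := ((QuotientGroup.mk' L₀).comp X.subtype).ker.card_mul_index
  rw [Subgroup.index_ker, MonoidHom.range_comp, Subgroup.range_subtype,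
    ← MonoidHom.comap_ker, QuotientGroup.ker_mk'] at h
  rw [← h, inf_comm, ← Subgroup.subgroupOf_map_subtype L₀ X,
    Subgroup.card_map_of_injective X.subtype_injective]
  rfl

theorem card_inf_mul_relIndex (C L : Subgroup G) :
    Nat.card ↥(C ⊓ L) * C.relIndex L = Nat.card L := by
  rw [← Subgroup.subgroupOf_map_subtype, Subgroup.card_map_of_injective L.subtype_injective]
  exact (C.subgroupOf L).card_mul_index

variable {p : ℕ} [hp : Fact p.Prime]

theorem sum_class_ppart (hsolv : Group.IsSolvable G) {χ : IrrCharacter G} (hprim : IsPrimitive χ)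
    (L : Subgroup G) : L.Normal → ∀ [Fintype L] (ψ : IrrCharacter L),
      classInner (fun n : L => (χ : G → ℂ) n) (ψ : L → ℂ) ≠ 0 →
      Fintype.card G * (deg (ψ : L → ℂ)).factorization p ≤
        ∑ g : G, ((Subgroup.centralizer ({g} : Set G)).relIndex L).factorization p := by
  induction L using (wellFounded_lt (α := Subgroup G)).induction with
  | _ L ih =>
  intro hLn _ ψ hψ
  haveI := hsolv
  haveI := hLn
  by_cases hbot : L = ⊥
  · have hd : deg (ψ : L → ℂ) = 1 := by
      have h1 := forall_linear_iff_comm.1 (fun x y : L => by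
        have hx : (x : G) = 1 := Subgroup.mem_bot.1 (hbot.le x.2)
        have hy : (y : G) = 1 := Subgroup.mem_bot.1 (hbot.le y.2)
        exact Subtype.ext (by simp [hx, hy])) ψ
      rw [char_one_eq_deg (irr_isCharacter ψ.2)] at h1
      exact_mod_cast h1
    simp [hd]
  -- a chief factor below `L`
  obtain ⟨L₀, -, hmax⟩ := Finite.exists_le_maximal
    (p := fun M : Subgroup G => M.Normal ∧ M < L) (a := ⊥)
    ⟨inferInstance, bot_lt_iff_ne_bot.2 hbot⟩
  obtain ⟨hL₀n, hlt⟩ := hmax.1
  haveI := hL₀n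
  let π := QuotientGroup.mk' L₀
  let Vs : Subgroup (G ⧸ L₀) := L.map π
  haveI hVn : Vs.Normal := hLn.map π (QuotientGroup.mk'_surjective L₀)
  have hVne : Vs ≠ ⊥ := fun h => hlt.not_ge (by
    rwa [Subgroup.map_eq_bot_iff, QuotientGroup.ker_mk'] at h)
  have hVmin : ∀ K : Subgroup (G ⧸ L₀), K.Normal → K ≤ Vs → K = ⊥ ∨ K = Vs := by
    intro K hK hKV
    have hge : L₀ ≤ K.comap π := fun x hx => by
      show π x ∈ K
      rw [QuotientGroup.mk'_apply, (QuotientGroup.eq_one_iff x).2 hx]
      exact one_mem K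
    have hle : K.comap π ≤ L := fun x hx => by
      obtain ⟨y, hy, hyx⟩ := hKV hx
      have hm : y⁻¹ * x ∈ L₀ := QuotientGroup.eq.1 hyx
      simpa using L.mul_mem hy (hlt.le hm)
    rcases eq_or_lt_of_le hle with h | h
    · right
      rw [← Subgroup.map_comap_eq_self_of_surjective (QuotientGroup.mk'_surjective L₀) K, h]
    · left
      have := hmax.2 ⟨hK.comap π, h⟩ hge
      rw [← Subgroup.map_comap_eq_self_of_surjective (QuotientGroup.mk'_surjective L₀) K,
        eq_bot_iff, Subgroup.map_le_iff_le_comap, MonoidHom.comap_bot, QuotientGroup.ker_mk']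
      exact this
  haveI : Group.IsSolvable Vs := inferInstance
  obtain ⟨hVab, r, hr, -, hVr⟩ := Solv.minimal_normal_elementaryAbelian Vs inferInstance hVne hVmin
  haveI := Fact.mk hr
  letI : CommGroup Vs :=
    { (inferInstance : Group Vs) with mul_comm := fun a b => hVab.is_comm.comm a b }
  let φ : G →* MulAut Vs := (MulAut.conjNormal : G ⧸ L₀ →* MulAut Vs).comp π
  have hirr : ∀ W : Subgroup Vs, (∀ g, ∀ v ∈ W, φ g v ∈ W) → W = ⊥ ∨ W = ⊤ := by
    intro W hW
    haveI : (W.map Vs.subtype).Normal := ⟨fun x hx q => by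
      obtain ⟨v, hv, rfl⟩ := hx
      obtain ⟨g, rfl⟩ := QuotientGroup.mk'_surjective L₀ q
      exact ⟨φ g v, hW g v hv, rfl⟩⟩
    rcases hVmin (W.map Vs.subtype) inferInstance (Subgroup.map_subtype_le _) with h | h
    · exact Or.inl ((Subgroup.map_eq_bot_iff_of_injective _ Vs.subtype_injective).1 h)
    · exact Or.inr (Subgroup.map_injective Vs.subtype_injective
        (h.trans (by rw [← MonoidHom.range_eq_map, Subgroup.range_subtype])))
  -- the ramification
  haveI : Fintype L₀ := Fintype.ofFinite _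
  haveI : Fintype (L₀.subgroupOf L) := Fintype.ofFinite _
  obtain ⟨θ, hθ⟩ := exists_constituent (N := L₀) χ
  obtain ⟨hψinv, eL, heL⟩ := homogeneous hprim L hψ
  obtain ⟨-, e₀, he₀⟩ := homogeneous hprim L₀ hθ
  have heLne : (eL : ℂ) ≠ 0 := by
    intro h0
    have h := heL 1
    rw [h0, zero_mul] at h
    exact irr_one_ne_zero χ.2 h
  let ι : L₀.subgroupOf L ≃* L₀ := Subgroup.subgroupOfEquivOfLe hlt.le
  let θ' : IrrCharacter (L₀.subgroupOf L) := ⟨_, isIrrCharacter_comp_equiv ι θ.2⟩
  have hres : ∀ n : L₀.subgroupOf L, (ψ : L → ℂ) n = ((e₀ : ℂ) / eL) * (θ' : _ → ℂ) n := by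
    intro n
    have h1 := heL (n : L)
    have h2 := he₀ (ι n)
    show _ = _ * (θ : L₀ → ℂ) (ι n)
    rw [div_mul_eq_mul_div, eq_div_iff heLne, mul_comm, ← h1, ← h2]
    rfl
  obtain ⟨e, he⟩ : ∃ e : ℕ, (e₀ : ℂ) / eL = e := by
    obtain ⟨e, he⟩ := classInner_natCast
      (isCharacter_comp (L₀.subgroupOf L).subtype (irr_isCharacter ψ.2)) (irr_isCharacter θ'.2)
    refine ⟨e, ?_⟩
    rw [← he, show ((ψ : L → ℂ) ∘ (L₀.subgroupOf L).subtype) =
      ((e₀ : ℂ) / eL) • (θ' : _ → ℂ) from funext hres, classInner_smul_left, irr_self θ'.2, mul_one]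
  rw [he] at hres
  have hdeg : deg (ψ : L → ℂ) = e * deg (θ : L₀ → ℂ) := by
    have h := hres 1
    rw [OneMemClass.coe_one, char_one_eq_deg (irr_isCharacter ψ.2),
      show (θ' : L₀.subgroupOf L → ℂ) 1 = (θ : L₀ → ℂ) 1 from congrArg (θ : L₀ → ℂ) (map_one ι),
      char_one_eq_deg (irr_isCharacter θ.2)] at h
    exact_mod_cast h
  have hene : e ≠ 0 := fun h => (deg_pos ψ.2).ne' (by rw [hdeg, h, zero_mul])
  have habL : ∀ a b : L, a * b * a⁻¹ * b⁻¹ ∈ L₀.subgroupOf L := fun a b => by
    rw [Subgroup.mem_subgroupOf, ← QuotientGroup.eq_one_iff]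
    have := congrArg Subtype.val (hVab.is_comm.comm (⟨π a, a, a.2, rfl⟩ : Vs) ⟨π b, b, b.2, rfl⟩)
    simp only [Subgroup.coe_mul, QuotientGroup.mk'_apply, π] at this
    simp only [Subgroup.coe_mul, Subgroup.coe_inv, QuotientGroup.mk_mul, QuotientGroup.mk_inv, this]
    group
  have hcase : e = 1 ∨ e ^ 2 = Nat.card Vs := by
    by_cases hvan : ∀ x : L, x ∉ L₀.subgroupOf L → (ψ : L → ℂ) x = 0
    · right
      rw [sq_eq_index (L₀.subgroupOf L) hres hvan]
      have h1 := card_inf_mul_relIndex L₀ L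
      rw [card_eq_inf_mul_map L₀ L, inf_comm] at h1
      exact Nat.eq_of_mul_eq_mul_left Nat.card_pos h1
    · left
      push Not at hvan
      obtain ⟨x, hx, hx0⟩ := hvan
      let Tw : (L →* ℂˣ) → Prop := fun c => (∀ n ∈ L₀.subgroupOf L, c n = 1) ∧
        ∀ t, (c t : ℂ) * (ψ : L → ℂ) t = (ψ : L → ℂ) t
      let R : Subgroup G :=
        { carrier := {g | ∃ hg : g ∈ L, ∀ c, Tw c → c ⟨g, hg⟩ = 1}
          one_mem' := ⟨one_mem L, fun c _ => map_one c⟩
          mul_mem' := fun {a b} ha hb => ⟨mul_mem ha.1 hb.1, fun c hc => by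
            rw [show (⟨a * b, mul_mem ha.1 hb.1⟩ : L) = ⟨a, ha.1⟩ * ⟨b, hb.1⟩ from rfl, map_mul,
              ha.2 c hc, hb.2 c hc, mul_one]⟩
          inv_mem' := fun {a} ha => ⟨inv_mem ha.1, fun c hc => by
            rw [show (⟨a⁻¹, inv_mem ha.1⟩ : L) = ⟨a, ha.1⟩⁻¹ from rfl, map_inv, ha.2 c hc, inv_one]⟩ }
      have hR : R.Normal := ⟨fun a ha g => ⟨hLn.conj_mem a ha.1 g, fun c hc => by
        have hψg : ∀ t : L, (ψ : L → ℂ) (MulAut.conjNormal g t) = (ψ : L → ℂ) t := fun t => by
          conv_rhs => rw [← hψinv g, irrComp_apply]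
        have h := ha.2 (c.comp (MulAut.conjNormal g : L ≃* L).toMonoidHom) ⟨fun n hn => ?_, fun t => ?_⟩
        · rw [MonoidHom.comp_apply] at h
          rw [← h]
          exact congrArg c (Subtype.ext rfl)
        · exact hc.1 _ (Subgroup.mem_subgroupOf.2 (hL₀n.conj_mem _ (Subgroup.mem_subgroupOf.1 hn) g))
        · conv_lhs => rw [← hψg t]
          rw [MonoidHom.comp_apply]
          exact (hc.2 _).trans (hψg t)⟩⟩
      have hL₀R : L₀ ≤ R := fun a ha =>
        ⟨hlt.le ha, fun c hc => hc.1 _ (Subgroup.mem_subgroupOf.2 ha)⟩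
      have hRL : R = L := by
        rcases eq_or_lt_of_le (show R ≤ L from fun a ha => ha.1) with h | h
        · exact h
        exfalso
        refine hx (Subgroup.mem_subgroupOf.2 (hmax.2 ⟨hR, h⟩ hL₀R ⟨x.2, fun c hc => Units.ext ?_⟩))
        exact mul_right_cancel₀ hx0 ((hc.2 x).trans (one_mul _).symm)
      refine eq_one_of_no_twist (L₀.subgroupOf L) hres habL fun c h1 h2 => MonoidHom.ext fun t => ?_
      obtain ⟨_, ht⟩ := (hRL.symm ▸ t.2 : (t : G) ∈ R)
      exact ht c ⟨h1, h2⟩
  -- the induction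
  have hIH := ih L₀ hlt hL₀n θ hθ
  let d := (Nat.card Vs).factorization p
  let c : G → ℕ := fun g => (Nat.card (FixAverage.fixIn φ ⊤ g)).factorization p
  have hcd : ∀ g, c g ≤ d := fun g =>
    (Nat.factorization_le_iff_dvd Nat.card_pos.ne' Nat.card_pos.ne').2
      (Subgroup.card_subgroup_dvd_card _) p
  have hstep : ∀ g : G, ((Subgroup.centralizer ({g} : Set G)).relIndex L₀).factorization p + d ≤
      ((Subgroup.centralizer ({g} : Set G)).relIndex L).factorization p + c g := by
    intro g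
    set C := Subgroup.centralizer ({g} : Set G)
    have himg : Nat.card ↥((C ⊓ L).map π) ∣ Nat.card (FixAverage.fixIn φ ⊤ g) := by
      rw [← Subgroup.card_map_of_injective (f := Vs.subtype) Vs.subtype_injective]
      refine Subgroup.card_dvd_of_le ?_
      rintro _ ⟨y, hy, rfl⟩
      refine ⟨⟨π y, y, hy.2, rfl⟩, ⟨Subgroup.mem_top _, Subtype.ext ?_⟩, rfl⟩
      show π g * π y * (π g)⁻¹ = π y
      rw [← map_mul, ← map_inv, ← map_mul,
        ← Subgroup.mem_centralizer_singleton_iff.1 hy.1, mul_inv_cancel_right]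
    have h1 := congrArg (fun n => Nat.factorization n p) (card_inf_mul_relIndex C L)
    have h2 := congrArg (fun n => Nat.factorization n p) (card_inf_mul_relIndex C L₀)
    have h3 := congrArg (fun n => Nat.factorization n p) (card_eq_inf_mul_map L₀ L)
    have h4 := congrArg (fun n => Nat.factorization n p) (card_eq_inf_mul_map L₀ (C ⊓ L))
    rw [show L ⊓ L₀ = L₀ from inf_eq_right.2 hlt.le] at h3
    rw [show C ⊓ L ⊓ L₀ = C ⊓ L₀ by rw [inf_assoc, inf_eq_right.2 hlt.le]] at h4
    have hr1 : C.relIndex L ≠ 0 := Subgroup.index_ne_zero_of_finite (H := C.subgroupOf L)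
    have hr2 : C.relIndex L₀ ≠ 0 := Subgroup.index_ne_zero_of_finite (H := C.subgroupOf L₀)
    simp only [Nat.factorization_mul Nat.card_pos.ne' hr1, Nat.factorization_mul Nat.card_pos.ne' hr2,
      Nat.factorization_mul Nat.card_pos.ne' Nat.card_pos.ne', Finsupp.add_apply] at h1 h2 h3 h4
    have h5 := (Nat.factorization_le_iff_dvd Nat.card_pos.ne' Nat.card_pos.ne').2 himg p
    show _ + (Nat.card ↥(L.map π)).factorization p ≤ _ + (Nat.card (FixAverage.fixIn φ ⊤ g)).factorization p
    simp only [π] at h5 ⊢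
    omega
  have hsum : Fintype.card G * (deg (θ : L₀ → ℂ)).factorization p + (Fintype.card G * d) ≤
      ∑ g : G, ((Subgroup.centralizer ({g} : Set G)).relIndex L).factorization p + ∑ g : G, c g := by
    rw [← Finset.sum_add_distrib]
    refine le_trans ?_ (Finset.sum_le_sum fun g _ => hstep g)
    rw [Finset.sum_add_distrib, Finset.sum_const, Finset.card_univ, smul_eq_mul]
    omega
  rw [hdeg, Nat.factorization_mul hene (deg_pos θ.2).ne', Finsupp.add_apply, mul_add]
  have hc0 : ∑ g : G, c g ≤ Fintype.card G * d := by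
    refine (Finset.sum_le_sum fun g _ => hcd g).trans ?_
    rw [Finset.sum_const, Finset.card_univ, smul_eq_mul]
  by_cases hev : e.factorization p = 0
  · rw [hev, mul_zero]
    omega
  -- fully ramified at `p`
  have he2 : e ^ 2 = Nat.card Vs := hcase.resolve_left fun h => hev (by simp [h])
  have hd : d = 2 * e.factorization p := by
    show (Nat.card Vs).factorization p = _
    rw [← he2, Nat.factorization_pow]
    rfl
  obtain ⟨k, hk⟩ := IsPGroup.iff_card.1 hVr
  have hrp : r = p := by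
    by_contra hne
    have h0 : d = 0 := by
      show (Nat.card Vs).factorization p = 0
      rw [hk, Nat.factorization_pow, hr.factorization]
      simp [Finsupp.single_apply, hne]
    omega
  subst hrp
  have hne : ∃ g v, φ g v ≠ v := by
    by_contra hno
    push Not at hno
    haveI : Nontrivial Vs := (Subgroup.nontrivial_iff_ne_bot _).2 hVne
    obtain ⟨v, hv⟩ := exists_ne (1 : Vs)
    obtain ⟨w, hw⟩ := exists_prime_orderOf_dvd_card' (G := Vs) r (by
      rw [hk]
      refine dvd_pow_self r fun hk0 => ?_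
      rw [hk0, pow_zero] at hk
      exact (Finite.one_lt_card (α := Vs)).ne' hk)
    rcases hirr (Subgroup.zpowers w) fun g u hu => by rw [hno g u]; exact hu with h | h
    · rw [Subgroup.zpowers_eq_bot.1 h, orderOf_one] at hw
      exact hr.ne_one hw.symm
    · have hcard : Nat.card Vs = r := by
        rw [← Subgroup.card_top (G := Vs), ← h, Nat.card_zpowers, hw]
      rw [← he2] at hcard
      exact Nat.Prime.not_prime_pow (x := e) le_rfl (hcard.symm ▸ hr)
  have havg := FixHalf.prod_sq_le_irreducible φ hVr hirr hne hsolv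
  have hfac := (Nat.factorization_le_iff_dvd (n := Nat.card Vs ^ Fintype.card G)
    (d := (∏ g : G, Nat.card (FixAverage.fixIn φ ⊤ g)) ^ 2)
    (pow_ne_zero _ (Finset.prod_ne_zero_iff.2 fun _ _ => Nat.card_pos.ne'))
    (pow_ne_zero _ Nat.card_pos.ne'))
  have hpp : ∀ g : G, Nat.card (FixAverage.fixIn φ ⊤ g) = r ^ c g := fun g => by
    obtain ⟨i, hi⟩ := IsPGroup.iff_card.1 (hVr.to_subgroup (FixAverage.fixIn φ ⊤ g))
    show _ = r ^ (Nat.card (FixAverage.fixIn φ ⊤ g)).factorization r
    rw [hi, Nat.factorization_pow, hr.factorization]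
    simp
  rw [Finset.prod_congr rfl fun g _ => hpp g, Finset.prod_pow_eq_pow_sum, ← pow_mul,
    show Nat.card Vs = r ^ d by
      show _ = r ^ (Nat.card Vs).factorization r
      rw [hk, Nat.factorization_pow, hr.factorization]
      simp, ← pow_mul, Nat.pow_le_pow_iff_right hr.one_lt] at havg
  rw [hd] at hsum havg
  have e1 : Fintype.card G * (2 * e.factorization r) = 2 * (Fintype.card G * e.factorization r) := by
    ring
  have e2 : 2 * e.factorization r * Fintype.card G = 2 * (Fintype.card G * e.factorization r) := by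
    ring
  omega

/-- Some class size has `p`-part at least that of the degree of a primitive character. -/
theorem exists_class_ppart (hsolv : Group.IsSolvable G) {χ : IrrCharacter G}
    (hprim : IsPrimitive χ) :
    ∃ g : G, (charDegree (χ : G → ℂ)).factorization p ≤
      ((Subgroup.centralizer ({g} : Set G)).index).factorization p := by
  haveI : Fintype (⊤ : Subgroup G) := Fintype.ofFinite _
  let ψ : IrrCharacter (⊤ : Subgroup G) :=
    ⟨_, isIrrCharacter_comp_equiv (Subgroup.topEquiv : (⊤ : Subgroup G) ≃* G) χ.2⟩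
  have h := sum_class_ppart (p := p) hsolv hprim ⊤ inferInstance ψ (by
    rw [show (fun n : (⊤ : Subgroup G) => (χ : G → ℂ) n) = (ψ : _ → ℂ) from rfl, irr_self ψ.2]
    exact one_ne_zero)
  simp only [Subgroup.relIndex_top_right] at h
  have hd : deg (ψ : (⊤ : Subgroup G) → ℂ) = deg (χ : G → ℂ) := rfl
  rw [hd, ← charDegree_eq_deg] at h
  by_contra hno
  push Not at hno
  have := Finset.sum_lt_sum_of_nonempty (Finset.univ_nonempty (α := G)) fun g _ => hno g
  rw [Finset.sum_const, Finset.card_univ, smul_eq_mul] at this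
  omega

end Cfsg.Agent.Char.Prim
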