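import Cfsg.Agent.Lib.Char.Diag
import Cfsg.Agent.Lib.Char.ProjRep
import Cfsg.Agent.Lib.Char.Basic
import Cfsg.Agent.Lib.Char.Central
import Cfsg.Agent.Lib.Char.BlockBasic
import Mathlib

/-!
# Primitive characters of degree two

The lines fixed by a non-central element are finitely many, each non-central element fixes two
of them, and counting orbits leaves the indices 12, 24 and 60 of the centre.
-/

set_option autoImplicit false
set_option linter.unusedSectionVars false
set_option linter.style.haveILetI false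

namespace Cfsg.Agent.Char.DegTwo

open Cfsg Cfsg.Agent.Char Module
open scoped ComplexConjugate

theorem three_orbits_sorted {N a b c x y z : ℕ} (ha : 2 ≤ a) (hab : a ≤ b) (hbc : b ≤ c)
    (hx : x * a = N) (hy : y * b = N) (hz : z * c = N) (hz3 : 3 ≤ z)
    (hsum : x + y + z = N + 2) : N = 12 ∨ N = 24 ∨ N = 60 := by
  rcases (show a = 2 ∨ 3 ≤ a by omega) with rfl | ha3
  · rcases (show b = 2 ∨ b = 3 ∨ 4 ≤ b by omega) with rfl | rfl | hb4
    · omega
    · rcases (show c = 3 ∨ c = 4 ∨ c = 5 ∨ 6 ≤ c by omega) with rfl | rfl | rfl | hc6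
      · omega
      · omega
      · omega
      · have := Nat.mul_le_mul_left z hc6
        omega
    · have := Nat.mul_le_mul_left y hb4
      have := Nat.mul_le_mul_left z (hb4.trans hbc)
      omega
  · have := Nat.mul_le_mul_left x ha3
    have := Nat.mul_le_mul_left y (ha3.trans hab)
    have := Nat.mul_le_mul_left z (ha3.trans (hab.trans hbc))
    omega

theorem three_orbits {N a b c x y z : ℕ} (ha : 2 ≤ a) (hb : 2 ≤ b) (hc : 2 ≤ c)
    (hx : x * a = N) (hy : y * b = N) (hz : z * c = N) (hx3 : 3 ≤ x) (hy3 : 3 ≤ y) (hz3 : 3 ≤ z)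
    (hsum : x + y + z = N + 2) : N = 12 ∨ N = 24 ∨ N = 60 := by
  rcases le_total a b with h1 | h1 <;> rcases le_total b c with h2 | h2 <;>
    rcases le_total a c with h3 | h3
  · exact three_orbits_sorted ha h1 h2 hx hy hz hz3 hsum
  · exact three_orbits_sorted ha h1 h2 hx hy hz hz3 hsum
  · exact three_orbits_sorted ha h3 h2 hx hz hy hy3 (by omega)
  · exact three_orbits_sorted hc h3 h1 hz hx hy hy3 (by omega)
  · exact three_orbits_sorted hb h1 h3 hy hx hz hz3 (by omega)
  · exact three_orbits_sorted hb h2 h3 hy hz hx hx3 (by omega)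
  · exact three_orbits_sorted hc h2 h1 hz hy hx hx3 (by omega)
  · exact three_orbits_sorted hc h2 h1 hz hy hx hx3 (by omega)

/-- Orbit counting for an action with two fixed points per element outside the kernel `Z`. -/
theorem pole_count {G : Type*} [Group G] [Fintype G] (Z : Subgroup G) (hZ : Z ≠ ⊤)
    {X : Type*} [Fintype X] [MulAction G X] (hker : ∀ g ∈ Z, ∀ x : X, g • x = x)
    (h2 : ∀ g : G, g ∉ Z → Nat.card (MulAction.fixedBy X g) = 2)
    (hstab : ∀ x : X, ∃ g : G, g ∉ Z ∧ g • x = x)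
    (hbig : ∀ x : X, 3 ≤ (MulAction.stabilizer G x).index) :
    Z.index = 12 ∨ Z.index = 24 ∨ Z.index = 60 := by
  classical
  set N := Z.index with hN
  have hN2 : 2 ≤ N := by
    have h1 : N ≠ 1 := fun h => hZ (Subgroup.index_eq_one.mp h)
    have h0 : N ≠ 0 := Subgroup.index_ne_zero_of_finite
    omega
  set Ω := Quotient (MulAction.orbitRel G X) with hΩ
  haveI : Fintype Ω := Fintype.ofFinite _
  set k := Fintype.card Ω with hk
  -- Burnside
  have hB := MulAction.sum_card_fixedBy_eq_card_orbits_mul_card_group G X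
  have hzc : (Finset.univ.filter (fun g : G => g ∈ Z)).card = Nat.card Z := by
    rw [Nat.card_eq_fintype_card, Fintype.card_subtype]
  have hG : Nat.card G = N * Nat.card Z := (Z.index_mul_card).symm
  have hcount : Nat.card Z * Fintype.card X + 2 * ((N - 1) * Nat.card Z) = k * (N * Nat.card Z) := by
    rw [← hG, Nat.card_eq_fintype_card (α := G), hk, ← hB,
      ← Finset.sum_filter_add_sum_filter_not Finset.univ (fun g : G => g ∈ Z)]
    congr 1
    · rw [Finset.sum_congr rfl (g := fun _ => Fintype.card X) fun g hg => ?_, Finset.sum_const,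
        smul_eq_mul, hzc]
      refine Fintype.card_congr (Equiv.subtypeUnivEquiv fun x => ?_)
      exact hker g (Finset.mem_filter.mp hg).2 x
    · rw [Finset.sum_congr rfl (g := fun _ => 2) fun g hg => ?_, Finset.sum_const, smul_eq_mul,
        Finset.filter_not, Finset.card_sdiff, Finset.inter_univ, hzc, Finset.card_univ,
        ← Nat.card_eq_fintype_card, hG]
      · rw [Nat.sub_one_mul]; ring
      · rw [← Nat.card_eq_fintype_card]
        exact h2 g (Finset.mem_filter.mp hg).2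
  have hzpos : 0 < Nat.card Z := Nat.card_pos
  have hX : Fintype.card X + 2 * (N - 1) = k * N := by
    refine Nat.eq_of_mul_eq_mul_left hzpos ?_
    rw [mul_add]
    linarith
  -- orbit sizes
  set s : Ω → ℕ := fun ω => (MulAction.stabilizer G ω.out).index with hs
  have hXs : Fintype.card X = ∑ ω, s ω := by
    rw [Fintype.card_congr (MulAction.selfEquivSigmaOrbits G X), Fintype.card_sigma]
    refine Finset.sum_congr rfl fun ω _ => ?_
    rw [← Nat.card_eq_fintype_card, hs]
    simp only [MulAction.index_stabilizer]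
    rw [Nat.card_coe_set_eq]
  have hr : ∀ ω, ∃ r, 2 ≤ r ∧ s ω * r = N := by
    intro ω
    have hle : Z ≤ MulAction.stabilizer G ω.out := fun g hg => hker g hg _
    refine ⟨Z.relIndex (MulAction.stabilizer G ω.out), ?_, ?_⟩
    · have h0 : Z.relIndex (MulAction.stabilizer G ω.out) ≠ 0 := Subgroup.index_ne_zero_of_finite
      have h1 : Z.relIndex (MulAction.stabilizer G ω.out) ≠ 1 := by
        intro h
        obtain ⟨g, hg, hfix⟩ := hstab ω.out
        exact hg (Subgroup.relIndex_eq_one.mp h hfix)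
      omega
    · rw [mul_comm]; exact Subgroup.relIndex_mul_index hle
  choose r hr2 hrN using hr
  have hs3 : ∀ ω, 3 ≤ s ω := fun ω => hbig _
  have hhalf : ∀ ω, 2 * s ω ≤ N := fun ω => by
    rw [← hrN ω, mul_comm 2]; exact Nat.mul_le_mul_left _ (hr2 ω)
  have hhalf' : 2 * Fintype.card X ≤ k * N := by
    rw [hXs, Finset.mul_sum, hk, ← Finset.card_univ, ← smul_eq_mul]
    exact Finset.sum_le_card_nsmul _ _ _ fun ω _ => hhalf ω
  have h3X : k * 3 ≤ Fintype.card X := by
    rw [hXs, hk, ← Finset.card_univ, ← smul_eq_mul]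
    exact Finset.card_nsmul_le_sum _ _ _ fun ω _ => hs3 ω
  have hk3 : k = 3 := by
    rcases (show k = 0 ∨ k = 1 ∨ k = 2 ∨ k = 3 ∨ 4 ≤ k by omega) with h | h | h | h | h
    · rw [h] at hX; omega
    · rw [h] at hX h3X; omega
    · rw [h] at hX h3X; omega
    · exact h
    · have : 4 * N ≤ k * N := Nat.mul_le_mul_right _ h
      omega
  set e : Ω ≃ Fin 3 := (Fintype.equivFin Ω).trans (finCongr (hk ▸ hk3)) with he
  have hsum : s (e.symm 0) + s (e.symm 1) + s (e.symm 2) = N + 2 := by
    have : ∑ ω, s ω = ∑ i : Fin 3, s (e.symm i) := Fintype.sum_equiv e _ _ fun ω => by simp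
    rw [Fin.sum_univ_three] at this
    rw [← this, ← hXs]
    rw [hk3] at hX
    omega
  exact three_orbits (hr2 _) (hr2 _) (hr2 _) (hrN (e.symm 0)) (hrN (e.symm 1)) (hrN (e.symm 2))
    (hs3 _) (hs3 _) (hs3 _) hsum

universe u

variable {G : Type u} [Group G] [Fintype G] {V : Type} [AddCommGroup V] [Module ℂ V]
  [FiniteDimensional ℂ V] (ρ : Representation ℂ G V)

/-- The translate of a line. -/
noncomputable def moveLine (g : G) (L : Submodule ℂ V) : Submodule ℂ V := L.map (ρ g)

theorem moveLine_mul (g h : G) (L : Submodule ℂ V) :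
    moveLine ρ (g * h) L = moveLine ρ g (moveLine ρ h L) := by
  rw [moveLine, moveLine, moveLine, map_mul, Module.End.mul_eq_comp, Submodule.map_comp]

theorem moveLine_one (L : Submodule ℂ V) : moveLine ρ 1 L = L := by
  rw [moveLine, map_one, Module.End.one_eq_id, Submodule.map_id]

theorem moveLine_inj (g : G) : Function.Injective (moveLine ρ g) := fun L L' h => by
  have := congrArg (moveLine ρ g⁻¹) h
  rwa [← moveLine_mul, ← moveLine_mul, inv_mul_cancel, moveLine_one, moveLine_one] at this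

theorem rep_ne_zero (g : G) {v : V} (hv : v ≠ 0) : ρ g v ≠ 0 := fun h => hv <| by
  have := congrArg (ρ g⁻¹) h
  rwa [map_zero, ← Module.End.mul_apply, ← map_mul, inv_mul_cancel, map_one] at this

theorem moveLine_span (g : G) (v : V) : moveLine ρ g (ℂ ∙ v) = ℂ ∙ ρ g v := by
  rw [moveLine, Submodule.map_span, Set.image_singleton]

/-- A fixed line is spanned by an eigenvector. -/
theorem exists_eigen_of_fixed {g : G} {v : V} (h : moveLine ρ g (ℂ ∙ v) = ℂ ∙ v) :
    ∃ c : ℂ, ρ g v = c • v := by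
  rw [moveLine_span] at h
  have : ρ g v ∈ ℂ ∙ v := h ▸ Submodule.mem_span_singleton_self _
  obtain ⟨c, hc⟩ := Submodule.mem_span_singleton.mp this
  exact ⟨c, hc.symm⟩

theorem fixed_of_eigen {g : G} {v : V} (hv : v ≠ 0) {c : ℂ} (h : ρ g v = c • v) :
    moveLine ρ g (ℂ ∙ v) = ℂ ∙ v := by
  have hc0 : IsUnit c := isUnit_iff_ne_zero.mpr fun e => rep_ne_zero ρ g hv (by rw [h, e, zero_smul])
  rw [moveLine_span, h, Submodule.span_singleton_smul_eq hc0 v]

/-- A non-scalar element of finite order of a plane fixes exactly two lines. -/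
theorem fixed_lines (hd : finrank ℂ V = 2) {g : G}
    (hg : ¬ ∃ c : ℂ, ρ g = c • LinearMap.id) :
    ∃ u w : V, u ≠ 0 ∧ w ≠ 0 ∧ (ℂ ∙ u) ≠ (ℂ ∙ w) ∧ moveLine ρ g (ℂ ∙ u) = ℂ ∙ u ∧
      moveLine ρ g (ℂ ∙ w) = ℂ ∙ w ∧
      ∀ v : V, v ≠ 0 → moveLine ρ g (ℂ ∙ v) = ℂ ∙ v → (ℂ ∙ v) = ℂ ∙ u ∨ (ℂ ∙ v) = ℂ ∙ w := by
  obtain ⟨b₀, μ₀, -, hb₀⟩ := exists_eigenbasis_of_pow_eq_one (ρ g) (orderOf g) (orderOf_pos g).ne'
    (by rw [← map_pow, pow_orderOf_eq_one, map_one])
  set b := b₀.reindex (finCongr hd) with hbdef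
  set μ : Fin 2 → ℂ := fun i => μ₀ ((finCongr hd).symm i) with hμ
  have hb : ∀ i, ρ g (b i) = μ i • b i := fun i => by
    rw [hbdef, Basis.reindex_apply]; exact hb₀ _
  have hne : μ 0 ≠ μ 1 := fun h => hg ⟨μ 0, b.ext fun i => by
    rw [hb, LinearMap.smul_apply, LinearMap.id_apply]
    fin_cases i
    · rfl
    · show μ 1 • b 1 = μ 0 • b 1
      rw [h]⟩
  refine ⟨b 0, b 1, b.ne_zero 0, b.ne_zero 1, fun h => ?_, fixed_of_eigen ρ (b.ne_zero 0) (hb 0),
    fixed_of_eigen ρ (b.ne_zero 1) (hb 1), fun v hv hfix => ?_⟩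
  · have : b 0 ∈ ℂ ∙ b 1 := h ▸ Submodule.mem_span_singleton_self _
    obtain ⟨c, hc⟩ := Submodule.mem_span_singleton.mp this
    have := congrArg (fun x => b.repr x 0) hc
    simp at this
  · obtain ⟨c, hc⟩ := exists_eigen_of_fixed ρ hfix
    have hcoord : ∀ i, (μ i - c) * b.repr v i = 0 := by
      intro i
      have h1 := congrArg (fun x => b.repr x i) hc
      have h2 : ρ g v = ∑ j, (b.repr v j * μ j) • b j := by
        conv_lhs => rw [← b.sum_repr v]
        rw [map_sum]
        exact Finset.sum_congr rfl fun j _ => by rw [map_smul, hb, smul_smul]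
      simp only [h2, b.repr_sum_self, map_smul, Finsupp.coe_smul, Pi.smul_apply, smul_eq_mul] at h1
      linear_combination h1
    have hv2 : v = b.repr v 0 • b 0 + b.repr v 1 • b 1 := by
      conv_lhs => rw [← b.sum_repr v]
      rw [Fin.sum_univ_two]
    rcases mul_eq_zero.mp (hcoord 0) with h0 | h0
    · have h1 : b.repr v 1 = 0 := (mul_eq_zero.mp (hcoord 1)).resolve_left fun h1 =>
        hne (by rw [sub_eq_zero.mp h0, sub_eq_zero.mp h1])
      rw [h1, zero_smul, add_zero] at hv2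
      refine Or.inl ?_
      have hc0 : IsUnit (b.repr v 0) := isUnit_iff_ne_zero.mpr fun e => hv (by rw [hv2, e, zero_smul])
      rw [hv2, Submodule.span_singleton_smul_eq hc0]
    · rw [h0, zero_smul, zero_add] at hv2
      refine Or.inr ?_
      have hc0 : IsUnit (b.repr v 1) := isUnit_iff_ne_zero.mpr fun e => hv (by rw [hv2, e, zero_smul])
      rw [hv2, Submodule.span_singleton_smul_eq hc0]

/-- **Primitive characters of degree two: the index of the centre is 12, 24 or 60.** -/
theorem index_center {χ : G → ℂ} (hirr : IsIrrCharacter G χ)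
    (hfaith : ∀ g : G, χ g = χ 1 → g = 1) (h2 : charDegree χ = 2)
    (hprim : ∀ H : Subgroup G, H ≠ ⊤ → ∀ θ : H → ℂ, IsCharacter H θ → χ ≠ indFun H θ) :
    (Subgroup.center G).index = 12 ∨ (Subgroup.center G).index = 24 ∨
      (Subgroup.center G).index = 60 := by
  classical
  obtain ⟨n, ρ, hρi, rfl⟩ := hirr
  haveI := hρi
  have hd : finrank ℂ (Fin n → ℂ) = 2 := by
    have h := char_one_eq_deg (isCharacter_character ρ)
    rw [← charDegree_eq_deg, h2, Representation.char_one] at h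
    exact_mod_cast h
  have hinj : ∀ g h : G, ρ g = ρ h → g = h := by
    intro g h e
    refine mul_inv_eq_one.mp (hfaith _ ?_)
    simp only [Representation.character]
    rw [show ρ (g * h⁻¹) = ρ 1 by rw [map_mul, e, ← map_mul, mul_inv_cancel]]
  have hscal : ∀ g : G, (∃ c : ℂ, ρ g = c • LinearMap.id) → g ∈ Subgroup.center G := by
    rintro g ⟨c, hc⟩
    refine Subgroup.mem_center_iff.mpr fun h => hinj _ _ ?_
    rw [map_mul, map_mul, hc]
    ext v
    simp
  have hcen : ∀ g ∈ Subgroup.center G, ∃ c : ℂ, ρ g = c • LinearMap.id := by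
    intro g hg
    refine schur_scalar ρ (ρ g) fun h => ?_
    rw [← Module.End.mul_eq_comp, ← Module.End.mul_eq_comp, ← map_mul, ← map_mul,
      Subgroup.mem_center_iff.mp hg h]
  have hnotscal : ∀ g : G, g ∉ Subgroup.center G → ¬ ∃ c : ℂ, ρ g = c • LinearMap.id :=
    fun g hg h => hg (hscal g h)
  -- no line is fixed by the whole group
  have hnofix : ∀ v : Fin n → ℂ, v ≠ 0 → ∃ g, moveLine ρ g (ℂ ∙ v) ≠ ℂ ∙ v := by
    intro v hv
    by_contra hall
    push Not at hall
    let S : Subrepresentation ρ :=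
      { toSubmodule := ℂ ∙ v
        apply_mem_toSubmodule := fun g w hw => by
          rw [← hall g]; exact Submodule.mem_map_of_mem hw }
    rcases eq_bot_or_eq_top S with h | h
    · have h1 : (ℂ ∙ v) = ⊥ := congrArg Subrepresentation.toSubmodule h
      exact hv (Submodule.span_singleton_eq_bot.mp h1)
    · have h1 : (ℂ ∙ v) = ⊤ := congrArg Subrepresentation.toSubmodule h
      have := finrank_span_singleton (K := ℂ) hv
      rw [h1, finrank_top, hd] at this
      omega
  have hne : Subgroup.center G ≠ ⊤ := by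
    intro h
    haveI : Nontrivial (Fin n → ℂ) := Module.nontrivial_of_finrank_pos (R := ℂ) (by omega)
    obtain ⟨v, hv⟩ := exists_ne (0 : Fin n → ℂ)
    obtain ⟨g, hg⟩ := hnofix v hv
    obtain ⟨c, hc⟩ := hcen g (h ▸ Subgroup.mem_top g)
    exact hg (fixed_of_eigen ρ hv (c := c) (by rw [hc]; simp))
  -- the poles
  let pole : Submodule ℂ (Fin n → ℂ) → Prop := fun L =>
    ∃ v : Fin n → ℂ, v ≠ 0 ∧ L = ℂ ∙ v ∧ ∃ g, g ∉ Subgroup.center G ∧ moveLine ρ g L = L
  let X := {L : Submodule ℂ (Fin n → ℂ) // pole L}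
  have hfin : Set.Finite {L : Submodule ℂ (Fin n → ℂ) | pole L} := by
    choose u w hu hw huw hfu hfw hall using fun g : {g : G // g ∉ Subgroup.center G} =>
      fixed_lines ρ hd (hnotscal g g.2)
    refine Set.Finite.subset (Set.finite_iUnion fun g : {g : G // g ∉ Subgroup.center G} =>
      Set.toFinite ({ℂ ∙ u g, ℂ ∙ w g} : Set (Submodule ℂ (Fin n → ℂ)))) ?_
    rintro L ⟨v, hv, rfl, g, hg, hfix⟩
    exact Set.mem_iUnion.mpr ⟨⟨g, hg⟩, hall ⟨g, hg⟩ v hv hfix⟩
  haveI : Finite X := hfin.to_subtype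
  haveI := Fintype.ofFinite X
  have hmove : ∀ (g : G) L, pole L → pole (moveLine ρ g L) := by
    rintro g L ⟨v, hv, rfl, a, ha, hfix⟩
    refine ⟨ρ g v, rep_ne_zero ρ g hv, moveLine_span ρ g v, g * a * g⁻¹, fun h => ha ?_, ?_⟩
    · have e : a = g⁻¹ * (g * a * g⁻¹) * g⁻¹⁻¹ := by group
      rw [e]; exact Subgroup.Normal.conj_mem inferInstance _ h g⁻¹
    · rw [← moveLine_mul, inv_mul_cancel_right, moveLine_mul, hfix]
  letI : MulAction G X :=
    { smul := fun g L => ⟨moveLine ρ g L.1, hmove g _ L.2⟩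
      one_smul := fun L => Subtype.ext (moveLine_one ρ L.1)
      mul_smul := fun g h L => Subtype.ext (moveLine_mul ρ g h L.1) }
  refine pole_count (Subgroup.center G) hne (X := X) (fun g hg L => ?_) (fun g hg => ?_)
    (fun L => ?_) (fun L => ?_)
  · obtain ⟨v, hv, hL, -⟩ := L.2
    obtain ⟨c, hc⟩ := hcen g hg
    refine Subtype.ext ?_
    show moveLine ρ g L.1 = L.1
    rw [hL]
    exact fixed_of_eigen ρ hv (c := c) (by rw [hc]; simp)
  · obtain ⟨u, w, hu, hw, huw, hfu, hfw, hall⟩ := fixed_lines ρ hd (hnotscal g hg)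
    rw [Nat.card_eq_two_iff]
    refine ⟨⟨⟨ℂ ∙ u, u, hu, rfl, g, hg, hfu⟩, Subtype.ext hfu⟩,
      ⟨⟨ℂ ∙ w, w, hw, rfl, g, hg, hfw⟩, Subtype.ext hfw⟩,
      fun e => huw (congrArg (fun t => (t.1.1)) e), ?_⟩
    refine Set.eq_univ_of_forall fun ⟨L, hL⟩ => ?_
    obtain ⟨v, hv, hLv, -⟩ := L.2
    have hfix : moveLine ρ g (ℂ ∙ v) = ℂ ∙ v := by rw [← hLv]; exact congrArg Subtype.val hL
    rcases hall v hv hfix with h | h
    · exact Or.inl (Subtype.ext (Subtype.ext (hLv.trans h)))
    · exact Or.inr (Subtype.ext (Subtype.ext (hLv.trans h)))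
  · obtain ⟨v, hv, hL, g, hg, hfix⟩ := L.2
    exact ⟨g, hg, Subtype.ext hfix⟩
  -- orbits have at least three lines
  obtain ⟨v, hv, hL, -⟩ := L.2
  set H := MulAction.stabilizer G L with hH
  have hmem : ∀ g, g ∈ H ↔ moveLine ρ g (ℂ ∙ v) = ℂ ∙ v := fun g => by
    rw [hH, MulAction.mem_stabilizer_iff, ← hL]
    exact ⟨congrArg Subtype.val, fun h => Subtype.ext h⟩
  have h0 : H.index ≠ 0 := Subgroup.index_ne_zero_of_finite
  have h1 : H.index ≠ 1 := fun h => by
    obtain ⟨g, hg⟩ := hnofix v hv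
    exact hg ((hmem g).mp (Subgroup.index_eq_one.mp h ▸ Subgroup.mem_top g))
  suffices h2' : H.index ≠ 2 by omega
  intro h2'
  haveI : H.Normal := Subgroup.normal_of_index_eq_two h2'
  haveI := Fintype.ofFinite H
  have hH1 : H ≠ ⊤ := fun h => h1 (by rw [h, Subgroup.index_top])
  have hev : ∀ h : H, ∃ c : ℂ, ρ h v = c • v := fun h => exists_eigen_of_fixed ρ ((hmem h).mp h.2)
  choose c hc using hev
  have hcu : ∀ {a b : ℂ}, a • v = b • v → a = b := fun {a b} h => smul_left_injective ℂ hv h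
  have hc1 : c 1 = 1 := hcu (by
    rw [← hc 1, one_smul, OneMemClass.coe_one, map_one, Module.End.one_apply])
  have hcm : ∀ a b : H, c (a * b) = c a * c b := fun a b => hcu (by
    rw [← hc (a * b), Subgroup.coe_mul, map_mul, Module.End.mul_apply, hc b, map_smul, hc a,
      smul_smul, mul_comm])
  have hc0 : ∀ a : H, c a ≠ 0 := fun a h => rep_ne_zero ρ (a : G) hv (by rw [hc a, h, zero_smul])
  let l : H →* ℂˣ :=
    { toFun := fun a => Units.mk0 (c a) (hc0 a)
      map_one' := Units.ext hc1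
      map_mul' := fun a b => Units.ext (hcm a b) }
  refine hprim H hH1 (fun a => (l a : ℂ)) (isCharacter_linear l) ?_
  funext x
  obtain ⟨g, hgH⟩ : ∃ g, g ∉ H := by
    by_contra hcon
    push Not at hcon
    exact hH1 ((Subgroup.eq_top_iff' H).mpr hcon)
  set w := ρ g v with hw
  have hwne : w ≠ 0 := rep_ne_zero ρ g hv
  have hvw : (ℂ ∙ w) ≠ ℂ ∙ v := fun h => hgH ((hmem g).mpr (by rw [moveLine_span]; exact h))
  have hli : LinearIndependent ℂ ![v, w] := by
    rw [LinearIndependent.pair_iff' hv]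
    intro a ha
    refine hvw ?_
    have hc0 : IsUnit a := isUnit_iff_ne_zero.mpr fun e => hwne (by rw [← ha, e, zero_smul])
    rw [← ha, Submodule.span_singleton_smul_eq hc0]
  set b := basisOfLinearIndependentOfCardEqFinrank hli (by rw [hd]; rfl) with hb
  have hb0 : b 0 = v := by simp [hb]
  have hb1 : b 1 = w := by simp [hb]
  have hmulH : ∀ a, a ∈ H ∨ a * g⁻¹ ∈ H := by
    intro a
    by_cases ha : a ∈ H
    · exact Or.inl ha
    · exact Or.inr ((Subgroup.mul_mem_iff_of_index_two h2').mpr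
        (iff_of_false ha fun h => hgH (by simpa using H.inv_mem h)))
  rw [indFun]
  have hsplit : ∀ f : G → ℂ, ∑ a : G, f a = ∑ a : H, f a + ∑ a : H, f ((a : G) * g) := by
    intro f
    rw [← Finset.sum_filter_add_sum_filter_not Finset.univ (fun a : G => a ∈ H)]
    congr 1
    · rw [Finset.sum_subtype (p := fun a : G => a ∈ H) _ (by simp)]
    · refine (Finset.sum_bij' (fun (a : H) _ => (a : G) * g)
        (fun a ha => (⟨a * g⁻¹, ((hmulH a).resolve_left (Finset.mem_filter.mp ha).2)⟩ : H))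
        (fun a _ => Finset.mem_filter.mpr ⟨Finset.mem_univ _, fun h => hgH ?_⟩)
        (fun _ _ => Finset.mem_univ _) (fun a _ => Subtype.ext (mul_inv_cancel_right (a : G) g))
        (fun a _ => inv_mul_cancel_right a g) (fun _ _ => rfl)).symm
      simpa using H.mul_mem (H.inv_mem a.2) h
  have hconjmem : ∀ a : G, a⁻¹ * x * a ∈ H ↔ x ∈ H := fun a => by
    constructor
    · intro h
      have := Subgroup.Normal.conj_mem inferInstance _ h a
      simpa [mul_assoc] using this
    · intro h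
      simpa using Subgroup.Normal.conj_mem inferInstance x h a⁻¹
  by_cases hx : x ∈ H
  · have hx' : g⁻¹ * x * g ∈ H := (hconjmem g).mpr hx
    have hbv : ∀ i, ρ x (b i) = (![c ⟨x, hx⟩, c ⟨_, hx'⟩] i) • b i := by
      intro i
      fin_cases i
      · show ρ x (b 0) = c ⟨x, hx⟩ • b 0
        rw [hb0]; exact hc ⟨x, hx⟩
      · show ρ x (b 1) = c ⟨_, hx'⟩ • b 1
        rw [hb1, hw, ← Module.End.mul_apply, ← map_mul,
          show x * g = g * (g⁻¹ * x * g) by group, map_mul, Module.End.mul_apply,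
          show ρ (g⁻¹ * x * g) v = c ⟨_, hx'⟩ • v from hc ⟨_, hx'⟩, map_smul]
    rw [Representation.character, trace_of_eigenbasis b (ρ x) _ hbv, Fin.sum_univ_two, hsplit]
    have hext : ∀ y (hy : y ∈ H),
        extendByZero H (fun a => (l a : ℂ)) y = c ⟨y, hy⟩ := fun y hy =>
      (Function.Injective.extend_apply Subtype.val_injective _ _ ⟨y, hy⟩)
    have e1 : ∀ a : H, extendByZero H (fun a => (l a : ℂ)) ((a : G)⁻¹ * x * (a : G)) =
        c ⟨x, hx⟩ := by
      intro a
      rw [hext _ ((hconjmem _).mpr hx), show (⟨(a : G)⁻¹ * x * (a : G), (hconjmem _).mpr hx⟩ : H) =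
        a⁻¹ * ⟨x, hx⟩ * a from rfl, hcm, hcm, mul_right_comm, ← hcm, inv_mul_cancel, hc1, one_mul]
    have e2 : ∀ a : H, extendByZero H (fun a => (l a : ℂ)) (((a : G) * g)⁻¹ * x * ((a : G) * g)) =
        c ⟨_, hx'⟩ := by
      intro a
      have ha : g⁻¹ * (a : G) * g ∈ H := by
        simpa using Subgroup.Normal.conj_mem inferInstance _ a.2 g⁻¹
      rw [hext _ ((hconjmem _).mpr hx), show
        (⟨((a : G) * g)⁻¹ * x * ((a : G) * g), (hconjmem _).mpr hx⟩ : H) =
        (⟨_, ha⟩ : H)⁻¹ * ⟨_, hx'⟩ * ⟨_, ha⟩ from Subtype.ext (by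
          show ((a : G) * g)⁻¹ * x * ((a : G) * g) =
            (g⁻¹ * (a : G) * g)⁻¹ * (g⁻¹ * x * g) * (g⁻¹ * (a : G) * g)
          group), hcm, hcm, mul_right_comm, ← hcm, inv_mul_cancel, hc1, one_mul]
    rw [Finset.sum_congr rfl (fun a _ => e1 a), Finset.sum_congr rfl (fun a _ => e2 a),
      Finset.sum_const, Finset.sum_const, Finset.card_univ, ← Nat.card_eq_fintype_card]
    have hne0 : (Nat.card H : ℂ) ≠ 0 := Nat.cast_ne_zero.mpr Nat.card_pos.ne'
    simp [nsmul_eq_mul]
    field_simp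
  · have hz : ∀ a : G, extendByZero H (fun a => (l a : ℂ)) (a⁻¹ * x * a) = 0 := fun a =>
      Function.extend_apply' _ _ _ (by
        rintro ⟨y, hy⟩
        exact hx ((hconjmem a).mp (hy ▸ y.2)))
    rw [Finset.sum_eq_zero fun a _ => hz a, mul_zero, Representation.character,
      LinearMap.trace_eq_matrix_trace ℂ b, Matrix.trace]
    refine Finset.sum_eq_zero fun i _ => ?_
    rw [Matrix.diag_apply, LinearMap.toMatrix_apply]
    have hx' : x * g ∈ H := (Subgroup.mul_mem_iff_of_index_two h2').mpr (iff_of_false hx hgH)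
    fin_cases i
    · show b.repr (ρ x (b 0)) 0 = 0
      have hxg : x * g⁻¹ ∈ H := (hmulH x).resolve_left hx
      have h' : g⁻¹ * (x * g⁻¹) * g ∈ H := by
        simpa using Subgroup.Normal.conj_mem inferInstance _ hxg g⁻¹
      have e : ρ x (b 0) = c ⟨_, h'⟩ • b 1 := by
        rw [hb0, hb1, hw, ← map_smul, ← show ρ (g⁻¹ * (x * g⁻¹) * g) v = c ⟨_, h'⟩ • v from
          hc ⟨_, h'⟩, ← Module.End.mul_apply, ← map_mul]
        congr 2
        group
      simp [e]
    · show b.repr (ρ x (b 1)) 1 = 0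
      have e : ρ x (b 1) = c ⟨_, hx'⟩ • b 0 := by
        rw [hb0, hb1, hw, ← Module.End.mul_apply, ← map_mul]
        exact hc ⟨_, hx'⟩
      simp [e]

end Cfsg.Agent.Char.DegTwo
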