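import Cfsg.Agent.Lib.Char.InvolutionsMod4
import Cfsg.Agent.Lib.Char.Contribution
import Cfsg.Agent.Lib.Char.ThirdMain
import Cfsg.Agent.Lib.Char.Unique
import Cfsg.Agent.Lib.Char.ProjRep
import Mathlib

/-!
# Extensions in the principal block over a normal subgroup supplemented by `C(P)`

The class sums of a normal subgroup `N` act by scalars in an extension of an irreducible character
of `N`.  On `C(P)` their ratio to the trivial ones is a linear character modulo the maximal ideal,
and dividing by its lift moves the extension into the principal block.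
-/

set_option autoImplicit false
set_option linter.unusedSectionVars false
set_option linter.style.haveILetI false

namespace Cfsg.Agent.Char.PrincExt

open Cfsg Cfsg.Agent Cfsg.Agent.Char Module
open scoped ComplexConjugate

universe u

variable {G : Type u} [Group G] [Fintype G] {M : Ideal AlgInt} {p : ℕ}

open scoped Classical in
/-- The orbit of an element under conjugation by `N`. -/
noncomputable def ncls (N : Subgroup G) (y : G) : Finset G :=
  Finset.univ.filter fun z => ∃ n ∈ N, n * y * n⁻¹ = z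

theorem mem_ncls {N : Subgroup G} {y z : G} : z ∈ ncls N y ↔ ∃ n ∈ N, n * y * n⁻¹ = z := by
  simp [ncls]

theorem self_mem_ncls (N : Subgroup G) (y : G) : y ∈ ncls N y :=
  mem_ncls.mpr ⟨1, one_mem N, by simp⟩

theorem ncls_eq_of_mem {N : Subgroup G} {y z : G} (h : z ∈ ncls N y) : ncls N z = ncls N y := by
  obtain ⟨n, hn, rfl⟩ := mem_ncls.mp h
  ext w
  simp only [mem_ncls]
  constructor
  · rintro ⟨k, hk, rfl⟩
    exact ⟨k * n, mul_mem hk hn, by group⟩
  · rintro ⟨k, hk, rfl⟩
    exact ⟨k * n⁻¹, mul_mem hk (inv_mem hn), by group⟩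

theorem conj_mem_ncls {N : Subgroup G} {y z : G} (h : z ∈ ncls N y) {n : G} (hn : n ∈ N) :
    n * z * n⁻¹ ∈ ncls N y := by
  rw [← ncls_eq_of_mem h]
  exact mem_ncls.mpr ⟨n, hn, rfl⟩

theorem card_ncls_conj (N : Subgroup G) [N.Normal] (g y : G) :
    (ncls N (g * y * g⁻¹)).card = (ncls N y).card := by
  refine Finset.card_bij' (fun z _ => g⁻¹ * z * g) (fun z _ => g * z * g⁻¹) ?_ ?_
    (fun z _ => by group) (fun z _ => by group)
  · intro z hz
    obtain ⟨n, hn, rfl⟩ := mem_ncls.mp hz
    exact mem_ncls.mpr ⟨g⁻¹ * n * g, by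
      simpa using (inferInstance : N.Normal).conj_mem n hn g⁻¹, by group⟩
  · intro z hz
    obtain ⟨n, hn, rfl⟩ := mem_ncls.mp hz
    exact mem_ncls.mpr ⟨g * n * g⁻¹, (inferInstance : N.Normal).conj_mem n hn g, by group⟩

/-- An element with full `p`-part in its `N`-centralizer has a class of size prime to `p`. -/
theorem not_dvd_card_ncls [Fact p.Prime] (N : Subgroup G) (P : Sylow p N) {c : G}
    (hc : ∀ u ∈ (P : Subgroup N), (u : G) * c = c * u) : ¬ p ∣ (ncls N c).card := by
  classical
  letI : MulAction N G := MulAction.compHom G (MulAut.conj.comp N.subtype)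
  have hsmul : ∀ (n : N) (x : G), n • x = (n : G) * x * (n : G)⁻¹ := fun n x => rfl
  have horb : (MulAction.orbit N c) = (ncls N c : Set G) := by
    ext z
    simp only [MulAction.mem_orbit_iff, Finset.mem_coe, mem_ncls, hsmul]
    exact ⟨fun ⟨n, h⟩ => ⟨n, n.2, h⟩, fun ⟨n, hn, h⟩ => ⟨⟨n, hn⟩, h⟩⟩
  have hidx := MulAction.index_stabilizer N c
  rw [horb, Set.ncard_coe_finset] at hidx
  rw [← hidx]
  intro h
  refine P.not_dvd_index (h.trans (Subgroup.index_dvd_of_le fun u hu => ?_))
  show u • c = c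
  rw [hsmul, hc u hu, mul_inv_cancel_right]

/-- The scalar by which the sum of an `N`-class acts. -/
noncomputable def sN (N : Subgroup G) (φ : G → ℂ) (y : G) : ℂ :=
  (∑ z ∈ ncls N y, φ z) / φ 1

theorem sN_eq (N : Subgroup G) {φ : G → ℂ} (hφ : IsClassFunction G φ) (y : G) :
    sN N φ y = ((ncls N y).card : ℂ) * φ y / φ 1 := by
  rw [sN, Finset.sum_congr rfl (g := fun _ => φ y) fun z hz => ?_, Finset.sum_const, nsmul_eq_mul]
  obtain ⟨n, -, rfl⟩ := mem_ncls.mp hz
  exact hφ y n

section Scalar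

variable (N : Subgroup G) [Fintype N] {n : ℕ} (ρ : Representation ℂ G (Fin n → ℂ))
  (hirr : IsIrrCharacter N (fun x : N => ρ.character x))

include hirr in
theorem sum_eq_sN (y : G) :
    (∑ z ∈ ncls N y, ρ z) = sN N ρ.character y • LinearMap.id := by
  classical
  set σ : Representation ℂ N (Fin n → ℂ) := ρ.comp N.subtype with hσ
  obtain ⟨m, τ, hτ, hch⟩ := hirr
  haveI : σ.IsIrreducible := by
    obtain ⟨e⟩ := equiv_of_character_eq τ σ (hch.trans rfl)
    exact isIrreducible_of_equiv e hτ
  set T : (Fin n → ℂ) →ₗ[ℂ] (Fin n → ℂ) := ∑ z ∈ ncls N y, ρ z with hT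
  obtain ⟨c, hc⟩ := schur_scalar σ T fun k => by
    show T ∘ₗ ρ (k : G) = ρ (k : G) ∘ₗ T
    rw [← Module.End.mul_eq_comp, ← Module.End.mul_eq_comp, hT, Finset.sum_mul, Finset.mul_sum]
    refine Finset.sum_bij' (fun z _ => (k : G)⁻¹ * z * k) (fun z _ => (k : G) * z * (k : G)⁻¹)
      (fun z hz => ?_) (fun z hz => conj_mem_ncls hz k.2) (fun z _ => by group)
      (fun z _ => by group) (fun z _ => ?_)
    · have := conj_mem_ncls hz (inv_mem k.2)
      simpa using this
    · rw [← map_mul, ← map_mul]; congr 1; group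
  have htr := congrArg (LinearMap.trace ℂ _) hc
  rw [hT, map_sum, map_smul, LinearMap.trace_id, smul_eq_mul] at htr
  have hne : (finrank ℂ (Fin n → ℂ) : ℂ) ≠ 0 := by
    intro h0
    refine irr_one_ne_zero (isIrrCharacter_character σ inferInstance) ?_
    rw [Representation.char_one, h0]
  rw [hc]
  congr 1
  rw [sN, Representation.char_one, eq_div_iff hne, ← htr]
  rfl

include hirr in
theorem sN_isIntegral (y : G) : IsIntegral ℤ (sN N ρ.character y) := by
  classical
  let F : MonoidAlgebra ℤ G →ₐ[ℤ] Module.End ℂ (Fin n → ℂ) := MonoidAlgebra.lift ℤ _ G ρ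
  have hint : IsIntegral ℤ (∑ z ∈ ncls N y, MonoidAlgebra.single z (1 : ℤ)) :=
    IsIntegral.of_finite ℤ _
  have h2 := hint.map F
  rw [map_sum] at h2
  simp only [F, MonoidAlgebra.lift_single, one_smul] at h2
  rw [sum_eq_sN N ρ hirr y, ← Module.End.one_eq_id, ← Algebra.algebraMap_eq_smul_one] at h2
  refine (isIntegral_algebraMap_iff ?_).mp h2
  have : Nontrivial (Fin n → ℂ) := by
    refine Module.nontrivial_of_finrank_pos (R := ℂ) (Nat.pos_of_ne_zero fun h0 => ?_)
    exact irr_one_ne_zero hirr (by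
      show ρ.character ((1 : N) : G) = 0
      rw [OneMemClass.coe_one, Representation.char_one, h0, Nat.cast_zero])
  exact (algebraMap ℂ (Module.End ℂ (Fin n → ℂ))).injective

variable [N.Normal]

include hirr in
/-- Products of classes landing in `N` have the central character of the principal block. -/
theorem triple (hM : IsPModular p M) {θ : IrrCharacter N}
    (hθ : ∀ x : N, ρ.character x = (θ : N → ℂ) x) (hθB : θ ∈ principalBlock M N) {a b c : G}
    (h : a * b * c ∈ N) :
    MemLocalIdeal M (sN N ρ.character a * sN N ρ.character b * sN N ρ.character c -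
      ((ncls N a).card * (ncls N b).card * (ncls N c).card : ℕ)) := by
  classical
  have hMp := pmod_prime hM
  set T := (ncls N a ×ˢ ncls N b ×ˢ ncls N c) with hT
  have hN : ∀ t ∈ T, t.1 * t.2.1 * t.2.2 ∈ N := by
    rintro ⟨x, y, z⟩ ht
    simp only [hT, Finset.mem_product] at ht
    obtain ⟨i, hi, rfl⟩ := mem_ncls.mp ht.1
    obtain ⟨j, hj, rfl⟩ := mem_ncls.mp ht.2.1
    obtain ⟨k, hk, rfl⟩ := mem_ncls.mp ht.2.2
    rw [← QuotientGroup.eq_one_iff] at h hi hj hk ⊢
    simpa [QuotientGroup.mk_mul, hi, hj, hk] using h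
  set F : N → ℂ := fun x => ((T.filter fun t => t.1 * t.2.1 * t.2.2 = (x : G)).card : ℂ) with hF
  have hFc : IsClassFunction N F := by
    intro x k
    simp only [hF, Nat.cast_inj]
    refine Finset.card_bij' (fun t _ => ((k : G)⁻¹ * t.1 * k, (k : G)⁻¹ * t.2.1 * k, (k : G)⁻¹ * t.2.2 * k))
      (fun t _ => ((k : G) * t.1 * (k : G)⁻¹, (k : G) * t.2.1 * (k : G)⁻¹, (k : G) * t.2.2 * (k : G)⁻¹))
      ?_ ?_ (fun t _ => by ext <;> simp [mul_assoc]) (fun t _ => by ext <;> simp [mul_assoc])
    · intro t ht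
      simp only [Finset.mem_filter, hT, Finset.mem_product] at ht ⊢
      refine ⟨⟨?_, ?_, ?_⟩, ?_⟩
      · simpa using conj_mem_ncls ht.1.1 (inv_mem k.2)
      · simpa using conj_mem_ncls ht.1.2.1 (inv_mem k.2)
      · simpa using conj_mem_ncls ht.1.2.2 (inv_mem k.2)
      · rw [show (k : G)⁻¹ * t.1 * k * ((k : G)⁻¹ * t.2.1 * k) * ((k : G)⁻¹ * t.2.2 * k) =
          (k : G)⁻¹ * (t.1 * t.2.1 * t.2.2) * k by group, ht.2]
        simp [mul_assoc]
    · intro t ht
      simp only [Finset.mem_filter, hT, Finset.mem_product] at ht ⊢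
      refine ⟨⟨conj_mem_ncls ht.1.1 k.2, conj_mem_ncls ht.1.2.1 k.2, conj_mem_ncls ht.1.2.2 k.2⟩, ?_⟩
      rw [show (k : G) * t.1 * (k : G)⁻¹ * ((k : G) * t.2.1 * (k : G)⁻¹) * ((k : G) * t.2.2 * (k : G)⁻¹) =
        (k : G) * (t.1 * t.2.1 * t.2.2) * (k : G)⁻¹ by group, ht.2]
      rfl
  have key : ∀ f : G → ℂ, ∑ t ∈ T, f (t.1 * t.2.1 * t.2.2) = ∑ x : N, F x * f x := by
    intro f
    rw [← Finset.sum_fiberwise_of_maps_to (t := Finset.univ.map (Function.Embedding.subtype _))
      (g := fun t => t.1 * t.2.1 * t.2.2) (fun t ht => Finset.mem_map.mpr ⟨⟨_, hN t ht⟩, Finset.mem_univ _, rfl⟩),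
      Finset.sum_map]
    refine Finset.sum_congr rfl fun x _ => ?_
    rw [Finset.sum_congr rfl (g := fun _ => f x) fun t ht => by rw [(Finset.mem_filter.mp ht).2]; rfl,
      Finset.sum_const, nsmul_eq_mul]
    rfl
  have h1 : sN N ρ.character a * sN N ρ.character b * sN N ρ.character c =
      lam (θ : N → ℂ) F := by
    have htr := congrArg (LinearMap.trace ℂ _)
      (congrArg₂ (· * ·) (congrArg₂ (· * ·) (sum_eq_sN N ρ hirr a) (sum_eq_sN N ρ hirr b))
        (sum_eq_sN N ρ hirr c))
    simp only [smul_mul_smul_comm, ← Module.End.one_eq_id, one_mul, map_smul, LinearMap.trace_one,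
      smul_eq_mul] at htr
    have hdeg : (θ : N → ℂ) 1 = (finrank ℂ (Fin n → ℂ) : ℂ) := by
      rw [← hθ, OneMemClass.coe_one, Representation.char_one]
    rw [lam, eq_div_iff (irr_one_ne_zero θ.2), hdeg, ← htr]
    simp only [Finset.sum_mul_sum, Finset.sum_mul, map_sum, ← map_mul]
    rw [show (∑ x : N, F x * (θ : N → ℂ) x) = ∑ x : N, F x * ρ.character x by simp only [hθ],
      ← key ρ.character, hT, Finset.sum_product]
    simp only [Finset.sum_product]
    refine Finset.sum_congr rfl fun x _ => ?_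
    simp only [Finset.mul_sum, Finset.sum_mul, map_sum, ← map_mul]
    first
      | rfl
      | (rw [Finset.sum_comm]; rfl)
  have h2 : lam (fun _ : N => (1 : ℂ)) F =
      (((ncls N a).card * (ncls N b).card * (ncls N c).card : ℕ) : ℂ) := by
    have := key (fun _ => 1)
    simp only [lam, div_one]
    rw [← this, hT]
    simp [mul_assoc]
  rw [h1, ← h2]
  exact lam_congr hMp θ.2 isIrrCharacter_one (sameBlock_symm hMp hθB) hFc
    (fun x => memLR_natCast hMp _)

end Scalar

/-- Roots of unity of order prime to `p` are separated by the ideal. -/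
theorem root_eq_of_congr (hM : IsPModular p M) {m : ℕ} (hm : ¬ p ∣ m) {z w : ℂ} (hz : z ^ m = 1)
    (hw : w ^ m = 1) (h : MemLocalIdeal M (z - w)) : z = w := by
  have hP := pmod_prime hM
  have hm0 : m ≠ 0 := fun e => hm (e ▸ dvd_zero p)
  have hw0 : w ≠ 0 := fun e => by rw [e, zero_pow hm0] at hw; exact zero_ne_one hw
  set u := z / w with hu
  have hum : u ^ m = 1 := by rw [hu, div_pow, hz, hw, div_one]
  by_contra hne
  have hu1 : u ≠ 1 := fun e => hne (by rw [hu, div_eq_one_iff_eq hw0] at e; exact e)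
  have hlr : ∀ x : ℂ, x ^ m = 1 → MemLocalRing M x := fun x hx =>
    memLocalRing_of_isIntegral hP.ne_top (root_of_unity_isIntegral hm0 hx)
  have h1 : MemLocalIdeal M (u - 1) := by
    rw [hu, show z / w - 1 = w⁻¹ * (z - w) by field_simp]
    exact memLI_mul_left hP (hlr _ (by rw [inv_pow, hw, inv_one])) h
  have hsum : ∑ i ∈ Finset.range m, u ^ i = 0 := by
    rw [geom_sum_eq hu1, hum, sub_self, zero_div]
  have h2 : MemLocalIdeal M ((∑ i ∈ Finset.range m, u ^ i) - (m : ℂ)) := by
    rw [show (m : ℂ) = ∑ i ∈ Finset.range m, (1 : ℂ) by simp, ← Finset.sum_sub_distrib]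
    refine memLI_sum hP _ _ fun i _ => ?_
    rw [← geom_sum_mul]
    exact memLI_mul_left hP (memLR_sum hP _ _ fun j _ => memLR_pow hP (hlr u hum) j) h1
  rw [hsum, zero_sub] at h2
  exact hm ((memLI_natCast_iff hM m).mp (by simpa using memLI_neg hP h2))

/-- A residue whose power is one lifts to a root of unity. -/
theorem exists_root_congr (hM : IsPModular p M) {q : ℂ} (hq : MemLocalRing M q) {d : ℕ} (hd : 0 < d)
    (h : MemLocalIdeal M (q ^ d - 1)) :
    ∃ z : ℂ, z ^ (d / p ^ d.factorization p) = 1 ∧ MemLocalIdeal M (q - z) := by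
  classical
  have hP := pmod_prime hM
  set a := d.factorization p
  set m := d / p ^ a with hm
  have hdm : p ^ a * m = d := Nat.ordProj_mul_ordCompl_eq_self d p
  have hm0 : m ≠ 0 := fun e => by rw [e, mul_zero] at hdm; omega
  -- strip the `p`-part
  have hqm : MemLocalIdeal M (q ^ m - 1) := by
    have hint : ∀ (k : ℕ), MemLocalIdeal M (q ^ (m * p ^ k) - 1) →
        MemLocalIdeal M (q ^ m - 1) := by
      intro k
      induction k with
      | zero => intro hk; simpa using hk
      | succ k ih =>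
        intro hk
        refine ih ?_
        have hx := memLR_pow hP hq (m * p ^ k)
        set x := q ^ (m * p ^ k) with hxdef
        rw [pow_succ, ← mul_assoc, pow_mul, ← hxdef] at hk
        refine memLI_pow_mem hP (memLR_sub hP hx (memLR_one hP)) p ?_
        obtain ⟨r, hr, e⟩ : ∃ r, MemLocalRing M r ∧ (x - 1) ^ p = (x ^ p + (-1) ^ p) + (p : ℂ) * r := by
          refine ⟨x * -1 * ∑ k ∈ Finset.Ioo 0 p, x ^ (k - 1) * (-1) ^ (p - k - 1) * ((p.choose k / p : ℕ) : ℂ),
            memLR_mul hP (memLR_mul hP hx (memLR_neg hP (memLR_one hP))) (memLR_sum hP _ _ fun i _ =>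
              memLR_mul hP (memLR_mul hP (memLR_pow hP hx _)
                (memLR_pow hP (memLR_neg hP (memLR_one hP)) _)) (memLR_natCast hP _)), ?_⟩
          rw [sub_eq_add_neg, add_pow_prime_eq hM.1]
          ring
        rw [e]
        refine memLI_add hP ?_ (memLI_mul_right hP (memLI_p hM) hr)
        rcases hM.1.eq_two_or_odd' with rfl | hodd
        · have := memLI_add hP hk (memLI_p hM)
          norm_num at this ⊢
          convert this using 1
          ring
        · rw [hodd.neg_one_pow, ← sub_eq_add_neg]; exact hk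
    refine hint a ?_
    rw [mul_comm, hdm]; exact h
  by_contra hno
  push Not at hno
  set R := Polynomial.nthRootsFinset m (1 : ℂ) with hR
  have hprod : q ^ m - 1 = ∏ z ∈ R, (q - z) := by
    have := congrArg (Polynomial.eval q)
      (Polynomial.X_pow_sub_one_eq_prod (Nat.pos_of_ne_zero hm0) (Complex.isPrimitiveRoot_exp m hm0))
    simpa [Polynomial.eval_prod, hR] using this
  rw [hprod] at hqm
  have hmem : ∀ z ∈ R, z ^ m = 1 := fun z hz =>
    (Polynomial.mem_nthRootsFinset (Nat.pos_of_ne_zero hm0) _).mp hz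
  have : ∀ S : Finset ℂ, S ⊆ R → ¬ MemLocalIdeal M (∏ z ∈ S, (q - z)) := by
    intro S hS
    induction S using Finset.induction_on with
    | empty => simpa using memLI_one_iff hP
    | insert z S hz ih =>
      rw [Finset.prod_insert hz]
      have hzR := hS (Finset.mem_insert_self z S)
      have hS' : S ⊆ R := fun w hw => hS (Finset.mem_insert_of_mem hw)
      intro hbad
      have hlr : ∀ w ∈ R, MemLocalRing M (q - w) := fun w hw => memLR_sub hP hq
        (memLocalRing_of_isIntegral hP.ne_top (root_of_unity_isIntegral hm0 (hmem w hw)))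
      rcases memLI_mul_mem hP (hlr z hzR) (memLR_prod hP _ _ fun w hw => hlr w (hS' hw)) hbad with h1 | h1
      · exact hno z (hmem z hzR) h1
      · exact ih hS' h1
  exact this R subset_rfl hqm

/-- **Extensions in the principal block.** -/
theorem exists_extension [Fact p.Prime] (hM : IsPModular p M) (N : Subgroup G) [N.Normal] [Fintype N]
    (P : Sylow p N)
    (hcov : N ⊔ Subgroup.centralizer (((P : Subgroup N).map N.subtype : Subgroup G) : Set G) = ⊤)
    (θ : IrrCharacter N) (hθB : θ ∈ principalBlock M N) (ψ : IrrCharacter G)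
    (hψ : ∀ x : N, (ψ : G → ℂ) x = (θ : N → ℂ) x) :
    ∃ χ : IrrCharacter G, χ ∈ principalBlock M G ∧ (∀ x : N, (χ : G → ℂ) x = (θ : N → ℂ) x) ∧
      ∀ J : Subgroup G, N ≤ J → ∃ ξ : IrrCharacter J, ξ ∈ principalBlock M J ∧
        ∀ y : J, (ξ : J → ℂ) y = (χ : G → ℂ) y := by
  classical
  have hP := pmod_prime hM
  have hp : p.Prime := Fact.out
  obtain ⟨ψf, n, ρ, hρi, rfl⟩ := ψ
  simp only at hψ
  have hirr : IsIrrCharacter N (fun x : N => ρ.character x) := by
    rw [show (fun x : N => ρ.character x) = (θ : N → ℂ) from funext hψ]; exact θ.2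
  set C := Subgroup.centralizer (((P : Subgroup N).map N.subtype : Subgroup G) : Set G) with hC
  have hcf := isClassFunction_character (isCharacter_character ρ)
  set q : G → ℂ := fun c => ρ.character c / ρ.character 1 with hq
  have hsq : ∀ c, sN N ρ.character c = ((ncls N c).card : ℂ) * q c := fun c => by
    rw [sN_eq N hcf, hq, mul_div_assoc]
  have hunit : ∀ c ∈ C, ¬ p ∣ (ncls N c).card := fun c hc =>
    not_dvd_card_ncls N P fun u hu => hc _ ⟨u, hu, rfl⟩
  have hqLR : ∀ c ∈ C, MemLocalRing M (q c) := by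
    intro c hc
    have hne : ((ncls N c).card : ℂ) ≠ 0 :=
      Nat.cast_ne_zero.mpr fun e => hunit c hc (e ▸ dvd_zero p)
    have h1 : q c = ((ncls N c).card : ℂ)⁻¹ * sN N ρ.character c := by
      rw [hsq, ← mul_assoc, inv_mul_cancel₀ hne, one_mul]
    rw [h1]
    exact memLR_mul hP (memLR_inv_natCast hM (hunit c hc))
      (memLocalRing_of_isIntegral hP.ne_top (sN_isIntegral N ρ hirr c))
  -- the basic congruence
  have key : ∀ c ∈ C, ∀ d ∈ C, ∀ e ∈ C, c * d * e ∈ N →
      MemLocalIdeal M (q c * q d * q e - 1) := by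
    intro c hc d hd e he h
    have h1 := triple N ρ hirr hM hψ hθB h
    rw [hsq, hsq, hsq] at h1
    set A := (ncls N c).card * (ncls N d).card * (ncls N e).card with hA
    have hAp : ¬ p ∣ A := fun hdvd => by
      rcases hp.dvd_mul.mp hdvd with h' | h'
      · rcases hp.dvd_mul.mp h' with h'' | h''
        exacts [hunit c hc h'', hunit d hd h'']
      · exact hunit e he h'
    have h2 := memLI_mul_left hP (memLR_inv_natCast hM hAp) h1
    have hA0 : (A : ℂ) ≠ 0 := Nat.cast_ne_zero.mpr fun e' => hAp (e' ▸ dvd_zero p)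
    have e3 : ((ncls N c).card : ℂ) * q c * (((ncls N d).card : ℂ) * q d) *
        (((ncls N e).card : ℂ) * q e) - (A : ℂ) = (A : ℂ) * (q c * q d * q e - 1) := by
      rw [hA]; push_cast; ring
    rw [e3, ← mul_assoc, inv_mul_cancel₀ hA0, one_mul] at h2
    exact h2
  have hq1 : q 1 = 1 := by
    rw [hq]; exact div_self (irr_one_ne_zero (isIrrCharacter_character ρ hρi))
  have key2 : ∀ c ∈ C, ∀ e ∈ C, c * e ∈ N → MemLocalIdeal M (q c * q e - 1) := by
    intro c hc e he h
    have := key c hc 1 (one_mem C) e he (by simpa using h)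
    rwa [hq1, mul_one] at this
  have hmul : ∀ c ∈ C, ∀ d ∈ C, MemLocalIdeal M (q c * q d - q (c * d)) := by
    intro c hc d hd
    have hcd := mul_mem hc hd
    have h1 := key c hc d hd _ (inv_mem hcd) (by rw [mul_inv_cancel]; exact one_mem N)
    have h2 := key2 _ hcd _ (inv_mem hcd) (by rw [mul_inv_cancel]; exact one_mem N)
    have h3 := memLI_sub hP (memLI_mul_left hP (hqLR _ hcd) h1)
      (memLI_mul_left hP (memLR_mul hP (hqLR c hc) (hqLR d hd)) h2)
    rw [show q (c * d) * (q c * q d * q (c * d)⁻¹ - 1) - q c * q d * (q (c * d) * q (c * d)⁻¹ - 1) =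
      q c * q d - q (c * d) by ring] at h3
    exact h3
  have hN1 : ∀ c ∈ C, c ∈ N → MemLocalIdeal M (q c - 1) := by
    intro c hc hcN
    have := key2 c hc 1 (one_mem C) (by rw [mul_one]; exact hcN)
    rwa [hq1, mul_one] at this
  -- lift to roots of unity
  set d := Nat.card G with hd
  have hpow : ∀ c ∈ C, ∀ k : ℕ, MemLocalIdeal M (q c ^ k - q (c ^ k)) := by
    intro c hc k
    induction k with
    | zero => rw [pow_zero, pow_zero, hq1, sub_self]; exact memLI_zero hP
    | succ k ih =>
      have h1 := memLI_mul_right hP ih (hqLR c hc)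
      have h2 := hmul _ (pow_mem hc k) c hc
      rw [pow_succ, pow_succ]
      have := memLI_add hP h1 h2
      rwa [show (q c ^ k - q (c ^ k)) * q c + (q (c ^ k) * q c - q (c ^ k * c)) =
        q c ^ k * q c - q (c ^ k * c) by ring] at this
  set m := d / p ^ d.factorization p with hm
  have hmp : ¬ p ∣ m := Nat.not_dvd_ordCompl hp Nat.card_pos.ne'
  have hroot : ∀ c : C, ∃ z : ℂ, z ^ m = 1 ∧ MemLocalIdeal M (q c - z) := fun c => by
    refine exists_root_congr hM (hqLR c c.2) Nat.card_pos ?_
    have := hpow c c.2 d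
    rwa [pow_card_eq_one', hq1] at this
  choose Z hZ hZq using hroot
  have hm0 : m ≠ 0 := fun e => hmp (e ▸ dvd_zero p)
  have hZmul : ∀ a b : C, Z (a * b) = Z a * Z b := by
    intro a b
    refine root_eq_of_congr hM hmp (hZ _) (by rw [mul_pow, hZ, hZ, one_mul]) ?_
    have h1 := hmul a a.2 b b.2
    have h2 := memLI_congr_mul hP (hqLR a a.2) (memLocalRing_of_isIntegral hP.ne_top
      (root_of_unity_isIntegral hm0 (hZ b))) (hZq a) (hZq b)
    have h3 := memLI_trans hP (memLI_symm hP h1) h2
    exact memLI_trans hP (memLI_symm hP (hZq (a * b))) h3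
  have hZone : ∀ a : C, (a : G) ∈ N → Z a = 1 := by
    intro a ha
    refine root_eq_of_congr hM hmp (hZ _) (one_pow m) ?_
    exact memLI_trans hP (memLI_symm hP (hZq a)) (hN1 a a.2 ha)
  have hZ0 : ∀ a : C, Z a ≠ 0 := fun a e => by
    have := hZ a; rw [e, zero_pow hm0] at this; exact zero_ne_one this
  -- the linear character of `G`
  have hgc : ∀ g : G, ∃ c : C, g * (c : G)⁻¹ ∈ N := by
    intro g
    have hg : g ∈ N ⊔ C := hcov ▸ Subgroup.mem_top g
    obtain ⟨x, hx, c, hc, rfl⟩ := Subgroup.mem_sup_of_normal_left.mp hg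
    exact ⟨⟨c, hc⟩, by simpa using hx⟩
  choose γ hγ using hgc
  have hwd : ∀ (g : G) (c : C), g * (c : G)⁻¹ ∈ N → Z (γ g) = Z c := by
    intro g c hc
    have h1 : Z (γ g * c⁻¹) = 1 := hZone _ (by
      have := N.mul_mem (N.inv_mem (hγ g)) hc
      simpa [mul_assoc] using this)
    have h2 := hZmul (γ g * c⁻¹) c
    rw [inv_mul_cancel_right, h1, one_mul] at h2
    exact h2
  let l : G →* ℂˣ :=
    { toFun := fun g => Units.mk0 (Z (γ g))⁻¹ (inv_ne_zero (hZ0 _))
      map_one' := Units.ext (by
        show (Z (γ 1))⁻¹ = 1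
        rw [hwd 1 1 (by simp), hZone 1 (by simp), inv_one])
      map_mul' := fun g h => Units.ext (by
        show (Z (γ (g * h)))⁻¹ = (Z (γ g))⁻¹ * (Z (γ h))⁻¹
        rw [← mul_inv, ← hZmul, hwd (g * h) (γ g * γ h)]
        rw [← QuotientGroup.eq_one_iff]
        have e1 := (QuotientGroup.eq_one_iff (N := N) _).mpr (hγ g)
        have e2 := (QuotientGroup.eq_one_iff (N := N) _).mpr (hγ h)
        simp only [QuotientGroup.mk_mul, QuotientGroup.mk_inv, mul_inv_eq_one] at e1 e2
        simp [QuotientGroup.mk_mul, e1, e2]) }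
  have hl : ∀ g, (l g : ℂ) = (Z (γ g))⁻¹ := fun g => rfl
  set χ : IrrCharacter G := twist l ⟨ρ.character, n, ρ, hρi, rfl⟩ with hχ
  have hχval : ∀ g, (χ : G → ℂ) g = (Z (γ g))⁻¹ * ρ.character g := fun g => rfl
  have hχN : ∀ x : N, (χ : G → ℂ) x = (θ : N → ℂ) x := by
    intro x
    rw [hχval, hwd (x : G) 1 (by simp), hZone 1 (by simp), inv_one, one_mul, hψ]
  -- congruence for each `N`-class
  have hcls : ∀ y : G, MemLocalIdeal M
      (((ncls N y).card : ℂ) * (χ : G → ℂ) y / (χ : G → ℂ) 1 - (ncls N y).card) := by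
    intro y
    set c := γ y with hcdef
    have hcl : MemLocalIdeal M (sN N ρ.character y - ((ncls N y).card : ℂ) * q c) := by
      have h1 := triple N ρ hirr hM hψ hθB (a := y) (b := 1) (c := (c : G)⁻¹) (by
        rw [mul_one]; exact hγ y)
      have hone : ncls N (1 : G) = {1} := by
        ext z; simp [mem_ncls]
        exact ⟨fun ⟨_, h⟩ => h.symm, fun h => ⟨⟨1, one_mem N⟩, h.symm⟩⟩
      rw [hsq 1, hone, Finset.card_singleton, hq1, Nat.cast_one, one_mul, mul_one, mul_one,
        hsq (c : G)⁻¹, Nat.cast_mul] at h1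
      have hci := inv_mem c.2
      set A := (ncls N (c : G)⁻¹).card with hA
      have hA0 : (A : ℂ) ≠ 0 := Nat.cast_ne_zero.mpr fun e => hunit _ hci (by rw [← hA, e]; exact dvd_zero p)
      have h2 := memLI_mul_left hP (memLR_inv_natCast hM (hunit _ hci)) h1
      rw [show (A : ℂ)⁻¹ * (sN N ρ.character y * ((A : ℂ) * q (c : G)⁻¹) - ((ncls N y).card : ℂ) * A) =
        sN N ρ.character y * q (c : G)⁻¹ - (ncls N y).card by field_simp] at h2
      have h3 := key2 _ c.2 _ hci (by rw [mul_inv_cancel]; exact one_mem N)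
      have h4 := memLI_sub hP (memLI_mul_left hP (hqLR _ c.2) h2)
        (memLI_mul_left hP (memLocalRing_of_isIntegral hP.ne_top (sN_isIntegral N ρ hirr y)) h3)
      rwa [show q c * (sN N ρ.character y * q (c : G)⁻¹ - ((ncls N y).card : ℂ)) -
        sN N ρ.character y * (q c * q (c : G)⁻¹ - 1) =
        sN N ρ.character y - ((ncls N y).card : ℂ) * q c by ring] at h4
    have hχ1 : (χ : G → ℂ) 1 = ρ.character 1 := by
      rw [hχval, hwd 1 1 (by simp), hZone 1 (by simp), inv_one, one_mul]
    rw [hχval, hχ1, show ((ncls N y).card : ℂ) * ((Z (γ y))⁻¹ * ρ.character y) / ρ.character 1 =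
      (Z (γ y))⁻¹ * sN N ρ.character y by rw [sN_eq N hcf]; ring]
    have hzi : MemLocalRing M (Z c)⁻¹ := memLocalRing_of_isIntegral hP.ne_top
      (root_of_unity_isIntegral hm0 (by rw [inv_pow, hZ, inv_one]))
    have h5 := memLI_trans hP hcl (memLI_mul_left hP (memLR_natCast hP _) (hZq c) |> fun h => by
      rwa [mul_sub] at h)
    have h6 := memLI_mul_left hP hzi h5
    rwa [mul_sub, ← mul_assoc, mul_comm (Z c)⁻¹ ((ncls N y).card : ℂ), mul_assoc,
      inv_mul_cancel₀ (hZ0 c), mul_one] at h6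
  -- hence the central characters of all intermediate groups
  have hblock : ∀ (J : Subgroup G), N ≤ J → ∀ ξ : J → ℂ, (∀ y : J, ξ y = (χ : G → ℂ) y) →
      IsClassFunction J ξ → SameBlock M (fun _ : J => (1 : ℂ)) ξ := by
    intro J hNJ ξ hξ hξc y
    haveI := Fintype.ofFinite J
    set S := Finset.univ.filter (fun z : J => IsConj y z) with hS
    have hScard : (Subgroup.centralizer ({y} : Set J)).index = S.card := by
      rw [← card_conjClass_eq_index, Nat.card_eq_fintype_card, Fintype.card_subtype]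
    -- the class splits into `N`-classes of equal size
    obtain ⟨k, hk⟩ : (ncls N (y : G)).card ∣ S.card := by
      rw [Finset.card_eq_sum_card_fiberwise (f := fun z : J => ncls N (z : G))
        (t := S.image fun z : J => ncls N (z : G)) (fun z hz => Finset.mem_image_of_mem _ hz)]
      refine Finset.dvd_sum fun K hK => ?_
      obtain ⟨z, hz, rfl⟩ := Finset.mem_image.mp hK
      have hcz : (ncls N (z : G)).card = (ncls N (y : G)).card := by
        obtain ⟨g, hg⟩ := isConj_iff.mp (Finset.mem_filter.mp hz).2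
        rw [← hg, Subgroup.coe_mul, Subgroup.coe_mul, Subgroup.coe_inv, card_ncls_conj]
      refine dvd_of_eq (hcz.symm.trans (Finset.card_bij' (fun w hw => (⟨w, ?_⟩ : J)) (fun w _ => (w : G))
        (fun w hw => ?_) (fun w hw => ?_) (fun _ _ => rfl) (fun _ _ => rfl)))
      · obtain ⟨x, hx, rfl⟩ := mem_ncls.mp hw
        exact J.mul_mem (J.mul_mem (hNJ hx) z.2) (J.inv_mem (hNJ hx))
      · obtain ⟨x, hx, rfl⟩ := mem_ncls.mp hw
        refine Finset.mem_filter.mpr ⟨Finset.mem_filter.mpr ⟨Finset.mem_univ _,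
          (Finset.mem_filter.mp hz).2.trans (isConj_iff.mpr ⟨⟨x, hNJ hx⟩, rfl⟩)⟩, ?_⟩
        exact ncls_eq_of_mem (mem_ncls.mpr ⟨x, hx, rfl⟩)
      · rw [← (Finset.mem_filter.mp hw).2]; exact self_mem_ncls N _
    have e1 : centralChar ξ y - centralChar (fun _ : J => (1 : ℂ)) y =
        (k : ℂ) * (((ncls N (y : G)).card : ℂ) * (χ : G → ℂ) (y : G) / (χ : G → ℂ) 1 -
          (ncls N (y : G)).card) := by
      rw [centralChar, centralChar, hScard, hk, hξ, hξ, OneMemClass.coe_one]
      push_cast
      ring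
    exact memLI_symm hP (e1 ▸ memLI_mul_left hP (memLR_natCast hP _) (hcls y))
  refine ⟨χ, ?_, hχN, fun J hNJ => ?_⟩
  · show SameBlock M (fun _ : G => (1 : ℂ)) (χ : G → ℂ)
    intro g
    have := hblock ⊤ le_top (fun y => (χ : G → ℂ) y) (fun _ => rfl)
      (fun a b => isClassFunction_character (irr_isCharacter χ.2) (a : G) (b : G)) ⟨g, trivial⟩
    have hidx : ∀ f : G → ℂ, centralChar (fun y : (⊤ : Subgroup G) => f y) ⟨g, trivial⟩ =
        centralChar f g := by
      intro f
      rw [centralChar, centralChar]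
      congr 3
      rw [← Subgroup.index_comap_of_surjective (Subgroup.centralizer ({g} : Set G))
        (f := (Subgroup.topEquiv : (⊤ : Subgroup G) ≃* G).toMonoidHom) Subgroup.topEquiv.surjective]
      congr 1
      ext z
      simp only [Subgroup.mem_comap, Subgroup.mem_centralizer_singleton_iff, Subtype.ext_iff]
      rfl
    rw [hidx (fun _ => 1), hidx] at this
    exact this
  · haveI := Fintype.ofFinite J
    have hc : IsCharacter J (fun y : J => (χ : G → ℂ) y) := isCharacter_comp J.subtype (irr_isCharacter χ.2)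
    have hξirr : IsIrrCharacter J (fun y : J => (χ : G → ℂ) y) := by
      obtain ⟨m', σ, hσ⟩ := hc
      rw [← hσ]
      refine isIrrCharacter_character σ ?_
      let ι : N →* J := Subgroup.inclusion hNJ
      let σN : Representation ℂ N (Fin m' → ℂ) := σ.comp ι
      have hr : σN.IsIrreducible := by
        obtain ⟨m'', τ, hτ, hch⟩ := θ.2
        obtain ⟨e⟩ := equiv_of_character_eq τ σN (by
          rw [hch]
          funext x
          exact (hχN x).symm.trans (congrFun hσ.symm (ι x)))
        exact isIrreducible_of_equiv e hτ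
      haveI := hr
      haveI : Nontrivial (Subrepresentation σ) := by
        refine ⟨⟨⊥, ⊤, fun hbt => ?_⟩⟩
        have h0 : (⊥ : Submodule ℂ (Fin m' → ℂ)) = ⊤ := congrArg Subrepresentation.toSubmodule hbt
        exact bot_ne_top (α := Subrepresentation σN) (Subrepresentation.toSubmodule_injective h0)
      refine ⟨fun S => ?_⟩
      let S' : Subrepresentation σN := ⟨S.toSubmodule, fun x v hv => S.apply_mem_toSubmodule (ι x) hv⟩
      rcases eq_bot_or_eq_top S' with hb | ht
      · exact Or.inl (Subrepresentation.toSubmodule_injective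
          (show S'.toSubmodule = ⊥ from congrArg Subrepresentation.toSubmodule hb))
      · exact Or.inr (Subrepresentation.toSubmodule_injective
          (show S'.toSubmodule = ⊤ from congrArg Subrepresentation.toSubmodule ht))
    exact ⟨⟨_, hξirr⟩, hblock J hNJ _ (fun _ => rfl) (isClassFunction_character hc), fun _ => rfl⟩

end Cfsg.Agent.Char.PrincExt
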