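import Cfsg.Agent.Lib.Char.ThompsonDegree
import Cfsg.Agent.Lib.Char.GaloisConj
import Cfsg.Agent.Lib.Char.CoverBlocks
import Cfsg.Agent.Lib.Char.Gallagher
import Cfsg.Agent.Lib.Fusion.Cores
import Cfsg.Agent.S0867
import Cfsg.Agent.S0887
import Mathlib

/-!
# Galois-fixed principal characters over a cyclic `p`-quotient
-/

set_option autoImplicit false
set_option linter.unusedSectionVars false
set_option linter.style.haveILetI false

namespace Cfsg.Agent.Char.PFixExt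

open Cfsg Cfsg.Agent Cfsg.Agent.Char
open scoped ComplexConjugate

universe u

variable {G : Type u} [Group G] [Fintype G] {p : ℕ} [Fact p.Prime]

theorem coprime_card {k : ℕ} (hk₁ : ∀ g : G, (∃ j : ℕ, orderOf g = p ^ j) → g ^ k = g ^ (1 + p))
    (hk₂ : ∀ g : G, Nat.Coprime (orderOf g) p → g ^ k = g) : k.Coprime (Nat.card G) := by
  have hp : p.Prime := Fact.out
  refine Nat.coprime_of_dvd fun q hq hqk hqG => ?_
  haveI := Fact.mk hq
  obtain ⟨g, hg⟩ := exists_prime_orderOf_dvd_card' q hqG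
  have h1 : g ^ k = 1 := orderOf_dvd_iff_pow_eq_one.mp (hg ▸ hqk)
  have hne : g ≠ 1 := fun e => hq.ne_one (by rw [← hg, e, orderOf_one])
  by_cases hqp : q = p
  · subst hqp
    rw [hk₁ g ⟨1, by rw [hg, pow_one]⟩, pow_add, pow_one, ← hg, pow_orderOf_eq_one, mul_one] at h1
    exact hne h1
  · exact hne ((hk₂ g (by rw [hg]; exact (Nat.coprime_primes hq hp).mpr hqp)).symm.trans h1)

theorem card_homs_kill (Q : Type*) [CommGroup Q] [Finite Q] [IsCyclic Q] (hp : p ∣ Nat.card Q) :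
    Nat.card {l : Q →* ℂˣ // l ^ p = 1} = p := by
  classical
  haveI : NeZero (Monoid.exponent Q : ℂ) := ⟨Nat.cast_ne_zero.mpr Monoid.exponent_ne_zero_of_finite⟩
  obtain ⟨e⟩ := CommGroup.monoidHom_mulEquiv_of_hasEnoughRootsOfUnity Q ℂ
  have h1 : Nat.card {l : Q →* ℂˣ // l ^ p = 1} = Nat.card (powMonoidHom p : Q →* Q).ker :=
    Nat.card_congr (e.toEquiv.subtypeEquiv fun l => by
      rw [MonoidHom.mem_ker, powMonoidHom_apply, MulEquiv.toEquiv_eq_coe, EquivLike.coe_coe,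
        ← map_pow, map_eq_one_iff _ e.injective])
  rw [h1, IsCyclic.card_powMonoidHom_ker, Nat.gcd_eq_right hp]

/-- An irreducible character of degree prime to `p` restricts irreducibly along a `p`-index. -/
theorem exists_restrict {N : Subgroup G} [N.Normal] [Fintype N] {j : ℕ} (hj : N.index = p ^ j)
    (χ : IrrCharacter G) (hχ : ¬ p ∣ charDegree (χ : G → ℂ)) :
    ∃ θ : IrrCharacter N, (∀ k : N, (χ : G → ℂ) k = (θ : N → ℂ) k) ∧
      charDegree (θ : N → ℂ) = charDegree (χ : G → ℂ) := by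
  have hp : p.Prime := Fact.out
  have hdeg : ∀ {H : Type u} [Group H] [Finite H] (χ : IrrCharacter H),
      (χ : H → ℂ) 1 = (charDegree (χ : H → ℂ) : ℂ) := fun χ => char_one_eq_deg (irr_isCharacter χ.2)
  have hrc := isCharacter_comp N.subtype (irr_isCharacter χ.2)
  obtain ⟨θ, hθ⟩ := exists_constituent (N := N) χ
  obtain ⟨⟨c, hc⟩, h2⟩ := Cfsg.Agent.S0887.result N (χ : G → ℂ) χ.2 (θ : N → ℂ) θ.2 hθ _ _
    (hdeg χ) (hdeg θ)
  have hθ0 : charDegree (θ : N → ℂ) ≠ 0 := fun h0 => irr_one_ne_zero θ.2 (by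
    rw [hdeg, h0, Nat.cast_zero])
  rw [hj, Nat.dvd_prime_pow hp] at h2
  obtain ⟨i, -, hi⟩ := h2
  rw [hc, Nat.mul_div_cancel_left _ (Nat.pos_of_ne_zero hθ0)] at hi
  have hd : charDegree (θ : N → ℂ) = charDegree (χ : G → ℂ) := by
    rcases Nat.eq_zero_or_pos i with rfl | hi0
    · rw [hc, hi, pow_zero, mul_one]
    · exact absurd (hc ▸ Dvd.dvd.mul_left (hi ▸ dvd_pow_self p hi0.ne') _) hχ
  refine ⟨θ, fun k => congrFun (eq_of_inner_ne_zero_of_deg hrc θ hθ ?_) k, hd⟩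
  show (χ : G → ℂ) 1 = _
  rw [hdeg, hdeg, hd]

theorem card_fixed {M : Ideal AlgInt} (hM : IsPModular p M) (P : Sylow p G) (N : Subgroup G)
    [hN : N.Normal] [Fintype N] (hNres : N = pResidual p G) (hcyc : IsCyclic (G ⧸ N)) (hnt : N ≠ ⊤)
    (k : ℕ) (hk₁ : ∀ g : G, (∃ j : ℕ, orderOf g = p ^ j) → g ^ k = g ^ (1 + p))
    (hk₂ : ∀ g : G, Nat.Coprime (orderOf g) p → g ^ k = g) :
    Nat.card {χ : IrrCharacter G // χ ∈ principalBlock M G ∧ ¬ p ∣ charDegree (χ : G → ℂ) ∧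
        ∀ g : G, (χ : G → ℂ) (g ^ k) = (χ : G → ℂ) g} =
      p * Nat.card {θ : IrrCharacter N // θ ∈ principalBlock M N ∧ ¬ p ∣ charDegree (θ : N → ℂ) ∧
        (∀ x ∈ (P : Subgroup G), ∀ n : N,
          (θ : N → ℂ) ⟨x * n * x⁻¹, hN.conj_mem n n.2 x⟩ = (θ : N → ℂ) n) ∧
        ∀ n : N, (θ : N → ℂ) (n ^ k) = (θ : N → ℂ) n} := by
  classical
  subst hNres
  set N := pResidual p G with hNdef
  have hp : p.Prime := Fact.out
  have hMp := pmod_prime hM
  have hk := coprime_card hk₁ hk₂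
  have hkN : k.Coprime (Nat.card N) := hk.coprime_dvd_right (Subgroup.card_subgroup_dvd_card N)
  haveI := hcyc
  letI : CommGroup (G ⧸ N) := IsCyclic.commGroup
  obtain ⟨j, hj⟩ : ∃ j, N.index = p ^ j :=
    IsPGroup.iff_card.1 (Fusion.isPGroup_quotient_pResidual (G := G) (p := p))
  have hcop : ∀ n : ℕ, ¬ p ∣ n → N.index.Coprime n := fun n hn => by
    rw [hj]
    exact (hp.coprime_iff_not_dvd.mpr hn).pow_left j
  have hNP : N ⊔ (P : Subgroup G) = ⊤ := Fusion.pResidual_sup_sylow P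
  have hpQ : p ∣ Nat.card (G ⧸ N) := by
    rw [← Subgroup.index_eq_card, hj]
    exact dvd_pow_self p fun h0 => hnt (Subgroup.index_eq_one.mp (by rw [hj, h0, pow_zero]))
  set one : IrrCharacter G := ⟨fun _ => 1, isIrrCharacter_one⟩
  set oneN : IrrCharacter N := ⟨fun _ => 1, isIrrCharacter_one⟩
  have hone : classInner (fun n : N => (one : G → ℂ) n) (oneN : N → ℂ) ≠ 0 := by
    rw [show (fun n : N => (one : G → ℂ) n) = (oneN : N → ℂ) from rfl, irr_self oneN.2]
    exact one_ne_zero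
  have hres0 : ∀ (χ : IrrCharacter G) (θ : IrrCharacter N),
      (∀ n : N, (χ : G → ℂ) n = (θ : N → ℂ) n) →
      classInner (fun n : N => (χ : G → ℂ) n) (θ : N → ℂ) ≠ 0 := fun χ θ h => by
    rw [show (fun n : N => (χ : G → ℂ) n) = (θ : N → ℂ) from funext h, irr_self θ.2]
    exact one_ne_zero
  have hprin : ∀ (χ : IrrCharacter G) (θ : IrrCharacter N),
      (∀ n : N, (χ : G → ℂ) n = (θ : N → ℂ) n) →
      (χ ∈ principalBlock M G ↔ θ ∈ principalBlock M N) := by
    intro χ θ h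
    constructor
    · intro hχ
      obtain ⟨g, hg⟩ := mem_orbU_of_sameBlock hM (χ := one) (χ' := χ) hχ hone (hres0 χ θ h)
      have hfix : irrComp (MulAut.conjNormal g) θ = θ := Subtype.ext (funext fun n => by
        rw [irrComp_apply, ← h, ← h, MulAut.conjNormal_apply]
        exact isClassFunction_character (irr_isCharacter χ.2) _ _)
      rw [hfix] at hg
      exact hg
    · intro hθ
      exact sameBlock_of_pIndex hM hj (χ := one) (χ' := χ) (θ := oneN) (θ' := θ) hθ hone (hres0 χ θ h)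
  have hinvG : ∀ θ : IrrCharacter N, (∀ x ∈ (P : Subgroup G), ∀ n : N,
      (θ : N → ℂ) ⟨x * n * x⁻¹, hN.conj_mem n n.2 x⟩ = (θ : N → ℂ) n) →
      ∀ (g : G) (n : N), (θ : N → ℂ) (MulAut.conjNormal g n) = (θ : N → ℂ) n := fun θ h =>
    (mem_fixed_iff N hNP θ).mp fun a => Subtype.ext (funext fun n => by
      rw [irrComp_apply]
      exact (congrArg _ (Subtype.ext (MulAut.conjNormal_apply _ _))).trans
        (h _ (inv_mem a.2) n))
  have hdeg : ∀ {H : Type u} [Group H] [Finite H] (χ : IrrCharacter H),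
      (χ : H → ℂ) 1 = (charDegree (χ : H → ℂ) : ℂ) := fun χ => char_one_eq_deg (irr_isCharacter χ.2)
  set S := {θ : IrrCharacter N // θ ∈ principalBlock M N ∧ ¬ p ∣ charDegree (θ : N → ℂ) ∧
    (∀ x ∈ (P : Subgroup G), ∀ n : N,
      (θ : N → ℂ) ⟨x * n * x⁻¹, hN.conj_mem n n.2 x⟩ = (θ : N → ℂ) n) ∧
    ∀ n : N, (θ : N → ℂ) (n ^ k) = (θ : N → ℂ) n}
  -- the canonical extension
  have hext : ∀ θ : S, ∃ χ : IrrCharacter G, (∀ n : N, (χ : G → ℂ) n = (θ.1 : N → ℂ) n) ∧
      ∀ g : G, (χ : G → ℂ) (g ^ k) = (χ : G → ℂ) g := by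
    intro θ
    obtain ⟨θ, hθp, hθd, hθP, hθk⟩ := θ
    have hinv := hinvG θ hθP
    have ho := detOrder_not_dvd θ hinv
    obtain ⟨χ, ⟨hχ, hχN, hχo⟩, huniq⟩ := Cfsg.Agent.S0867.result N (θ : N → ℂ) θ.2
      (fun g n => (congrArg _ (Subtype.ext (MulAut.conjNormal_apply g n).symm)).trans (hinv g n))
      (charDegree (θ : N → ℂ)) (hdeg θ) ((hcop _ ho).mul_right (hcop _ hθd))
    refine ⟨⟨χ, hχ⟩, hχN, fun g => ?_⟩
    refine congrFun (huniq (fun g => χ (g ^ k)) (isIrrCharacter_pow hχ hk) (fun n => ?_) ?_) g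
    · rw [← Subgroup.coe_pow, hχN]
      exact hθk n
    · refine (hcop _ ho).coprime_dvd_right ?_
      rw [← hχo, detOrder, detOrder, detChar_pow (irr_isCharacter hχ) hk]
      show orderOf (detChar χ ^ k) ∣ orderOf (detChar χ)
      exact orderOf_dvd_of_pow_eq_one (by
        rw [← pow_mul, mul_comm, pow_mul, pow_orderOf_eq_one, one_pow])
  choose E hE hEk using hext
  let π := QuotientGroup.mk' N
  have hlin : ∀ l : G ⧸ N →* ℂˣ, ∀ n : N, ((l (π (n : G)) : ℂˣ) : ℂ) = 1 := fun l n => by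
    rw [show π (n : G) = 1 from (QuotientGroup.eq_one_iff _).mpr n.2, map_one, Units.val_one]
  have hgal : ∀ θ : S, Set.BijOn (fun β : G → ℂ => β * (E θ : G → ℂ))
      {β : G → ℂ | IsIrrCharacter G β ∧ classInner (indFun N (fun _ => 1)) β ≠ 0}
      {ψ : G → ℂ | IsIrrCharacter G ψ ∧
        classInner (indFun N ((fun _ => 1) * (θ.1 : N → ℂ))) ψ ≠ 0} := fun θ =>
    gallagher N (fun _ => 1) _ isIrrCharacter_one (fun _ _ => rfl) (hinvG θ.1 θ.2.2.2.1)
      (by rw [show (fun _ : N => (1 : ℂ)) * (θ.1 : N → ℂ) = (θ.1 : N → ℂ) from funext fun n => one_mul _]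
          exact θ.1.2) (irr_isCharacter (E θ).2) (hE θ)
  have hlmem : ∀ l : G ⧸ N →* ℂˣ, (fun g => ((l.comp π) g : ℂ)) ∈
      {β : G → ℂ | IsIrrCharacter G β ∧ classInner (indFun N (fun _ => 1)) β ≠ 0} := fun l =>
    ⟨isIrrCharacter_linear (l.comp π),
      (constituent_indFun_one_iff N (isIrrCharacter_linear (l.comp π))).mpr fun n => by
        show ((l (π n) : ℂˣ) : ℂ) = ((l (π 1) : ℂˣ) : ℂ)
        rw [hlin, map_one, map_one, Units.val_one]⟩
  let T := {l : G ⧸ N →* ℂˣ // l ^ p = 1}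
  have hpk : ∀ l : T, ∀ g : G, ((l.1 (π g)) ^ k : ℂˣ) = l.1 (π g) := by
    intro l g
    have hg : g ∈ ((N ⊔ (P : Subgroup G) : Subgroup G) : Set G) := by rw [hNP]; trivial
    rw [Subgroup.normal_mul] at hg
    obtain ⟨n, hn, x, hx, rfl⟩ := hg
    rw [show π (n * x) = π x by
      rw [map_mul, show π n = 1 from (QuotientGroup.eq_one_iff _).mpr hn, one_mul],
      ← map_pow, ← map_pow]
    obtain ⟨i, hi⟩ := IsPGroup.iff_orderOf.mp P.isPGroup' ⟨x, hx⟩
    rw [hk₁ x ⟨i, by rw [← Subgroup.orderOf_mk x hx]; exact hi⟩, pow_add, pow_one, map_mul,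
      map_mul, map_pow, map_pow, ← MonoidHom.pow_apply, l.2, MonoidHom.one_apply, mul_one]
  let F : S × T → {χ : IrrCharacter G // χ ∈ principalBlock M G ∧ ¬ p ∣ charDegree (χ : G → ℂ) ∧
      ∀ g : G, (χ : G → ℂ) (g ^ k) = (χ : G → ℂ) g} := fun a =>
    ⟨⟨_, ((hgal a.1).mapsTo (hlmem a.2.1)).1⟩, by
      have hN' : ∀ n : N, ((a.2.1.comp π) (n : G) : ℂ) * (E a.1 : G → ℂ) n = (a.1.1 : N → ℂ) n :=
        fun n => by rw [show ((a.2.1.comp π) (n : G) : ℂ) = 1 from hlin _ n, one_mul, hE]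
      refine ⟨(hprin _ a.1.1 hN').mpr a.1.2.1, ?_, fun g => ?_⟩
      · have h1 := hN' 1
        rw [OneMemClass.coe_one] at h1
        have h2 : charDegree (fun g => ((a.2.1.comp π) g : ℂ) * (E a.1 : G → ℂ) g) =
            charDegree (a.1.1 : N → ℂ) := by simp only [charDegree, h1]
        exact fun h => a.1.2.2.1 (h2 ▸ h)
      · show ((a.2.1.comp π) (g ^ k) : ℂ) * (E a.1 : G → ℂ) (g ^ k) = _
        rw [map_pow, hEk, MonoidHom.comp_apply, hpk]
        rfl⟩
  have hF : Function.Bijective F := by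
    constructor
    · rintro ⟨θ, l⟩ ⟨θ', l'⟩ h
      have h' : (fun g => ((l.1.comp π) g : ℂ)) * (E θ : G → ℂ) =
          (fun g => ((l'.1.comp π) g : ℂ)) * (E θ' : G → ℂ) :=
        congrArg (fun χ => ((χ : {χ : IrrCharacter G // _}).1 : G → ℂ)) h
      have hθ : θ = θ' := Subtype.ext (Subtype.ext (funext fun n => by
        have h1 := congrFun h' (n : G)
        rwa [Pi.mul_apply, Pi.mul_apply, show ((l.1.comp π) (n : G) : ℂ) = 1 from hlin _ n,
          show ((l'.1.comp π) (n : G) : ℂ) = 1 from hlin _ n, one_mul, one_mul, hE, hE] at h1))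
      subst hθ
      have h2 := (hgal θ).injOn (hlmem l.1) (hlmem l'.1) h'
      refine Prod.ext rfl (Subtype.ext (MonoidHom.ext fun x => ?_))
      obtain ⟨g, rfl⟩ := QuotientGroup.mk_surjective x
      exact Units.ext (congrFun h2 g)
    · rintro ⟨χ, hχB, hχd, hχk⟩
      obtain ⟨θ, hθ, hθdeg⟩ := exists_restrict hj χ hχd
      have hθP : ∀ x ∈ (P : Subgroup G), ∀ n : N,
          (θ : N → ℂ) ⟨x * n * x⁻¹, hN.conj_mem n n.2 x⟩ = (θ : N → ℂ) n := fun x _ n => by
        rw [← hθ, ← hθ]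
        exact isClassFunction_character (irr_isCharacter χ.2) _ _
      let θS : S := ⟨θ, (hprin χ θ hθ).mp hχB, hθdeg ▸ hχd, hθP, fun n => by
        rw [← hθ, ← hθ, Subgroup.coe_pow]; exact hχk _⟩
      have hmem : (χ : G → ℂ) ∈ {ψ : G → ℂ | IsIrrCharacter G ψ ∧
          classInner (indFun N ((fun _ => 1) * (θS.1 : N → ℂ))) ψ ≠ 0} := by
        refine ⟨χ.2, ?_⟩
        rw [show (fun _ : N => (1 : ℂ)) * (θS.1 : N → ℂ) = (θ : N → ℂ) from funext fun n => one_mul _,
          frobenius N _ (isClassFunction_character (irr_isCharacter χ.2)),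
          show (fun n : N => (χ : G → ℂ) n) = (θ : N → ℂ) from funext hθ, irr_self θ.2]
        exact one_ne_zero
      obtain ⟨β, ⟨hβ, hβ1⟩, hβE⟩ := (hgal θS).surjOn hmem
      have hβE' : ∀ g, β g * (E θS : G → ℂ) g = (χ : G → ℂ) g := congrFun hβE
      have hE0 : (E θS : G → ℂ) 1 ≠ 0 := irr_one_ne_zero (E θS).2
      have hb1 : β 1 = 1 := by
        have h1 := hβE' 1
        rw [show (χ : G → ℂ) 1 = (E θS : G → ℂ) 1 by
          rw [← OneMemClass.coe_one N, hθ]; exact (hE θS 1).symm] at h1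
        exact mul_eq_right₀ hE0 |>.mp h1
      obtain ⟨l, rfl⟩ := exists_hom_of_degree_one (irr_isCharacter hβ) hb1
      have hker : N ≤ l.ker := fun n hn => Units.ext (by
        have h1 := (constituent_indFun_one_iff N hβ).mp hβ1 ⟨n, hn⟩
        simpa using h1)
      let lb : G ⧸ N →* ℂˣ := QuotientGroup.lift N l hker
      have hlb : lb ^ p = 1 := by
        refine MonoidHom.ext fun x => ?_
        obtain ⟨g, rfl⟩ := QuotientGroup.mk_surjective x
        have hg : g ∈ ((N ⊔ (P : Subgroup G) : Subgroup G) : Set G) := by rw [hNP]; trivial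
        rw [Subgroup.normal_mul] at hg
        obtain ⟨n, hn, x, hx, rfl⟩ := hg
        show l (n * x) ^ p = 1
        rw [map_mul, show l n = 1 from hker hn, one_mul]
        obtain ⟨i, hi⟩ := IsPGroup.iff_orderOf.mp P.isPGroup' ⟨x, hx⟩
        have hxk := hk₁ x ⟨i, by rw [← Subgroup.orderOf_mk x hx]; exact hi⟩
        have h2 : l (x ^ k) = l x := by
          have h1 := (hgal θS).injOn (hlmem (lb ^ k)) (hlmem lb) (funext fun g => by
            show (((lb ^ k) (π g) : ℂˣ) : ℂ) * (E θS : G → ℂ) g =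
              ((lb (π g) : ℂˣ) : ℂ) * (E θS : G → ℂ) g
            rw [MonoidHom.pow_apply, ← map_pow, ← map_pow, ← hEk θS g]
            exact (hβE' (g ^ k)).trans ((hχk g).trans ((hβE' g).symm.trans (by rw [hEk]; rfl))))
          have h1' := Units.ext (congrFun h1 x)
          simp only [MonoidHom.comp_apply, MonoidHom.pow_apply] at h1'
          rw [map_pow]
          exact h1'
        rw [hxk, pow_add, pow_one, map_mul, mul_eq_left, map_pow] at h2
        exact h2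
      refine ⟨(θS, ⟨lb, hlb⟩), Subtype.ext (Subtype.ext ?_)⟩
      exact hβE
  rw [← Nat.card_eq_of_bijective F hF, Nat.card_prod, card_homs_kill (G ⧸ N) hpQ, mul_comm]

end Cfsg.Agent.Char.PFixExt
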