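import Cfsg.Agent.Lib.Char.ThirdMain
import Cfsg.Agent.Lib.Char.Green
import Cfsg.Agent.Lib.Char.PrincipalBlock
import Cfsg.Agent.Lib.Char.Induction
import Cfsg.Agent.Lib.Char.Inflate
import Cfsg.Agent.Lib.Fusion.NPC
import Cfsg.Agent.Lib.Fusion.Cores
import Mathlib

/-!
# Principal block characters of degree prime to `p` over an extendible character

The sum of the principal idempotent over a normal subgroup is a unit: reduce to the centralizer of
a Sylow subgroup with the third main theorem.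
-/

set_option autoImplicit false
set_option linter.unusedSectionVars false
set_option linter.style.haveILetI false

namespace Cfsg.Agent.Char.OverExt

open Cfsg Cfsg.Agent Cfsg.Agent.Char
open scoped ComplexConjugate

universe u

variable {G : Type u} [Group G] [Fintype G] {M : Ideal AlgInt} {p : ℕ} [Fact p.Prime]

/-- A character trivial on a normal subgroup of `p'`-index of the centralizer of a Sylow subgroup
is principal only if it is trivial. -/
theorem trivial_of_principal_centralizer (hM : IsPModular p M) (P : Sylow p G)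
    [Fintype (Subgroup.centralizer ((P : Subgroup G) : Set G))]
    (D : Subgroup (Subgroup.centralizer ((P : Subgroup G) : Set G)))
    (hD : (P : Subgroup G).subgroupOf (Subgroup.centralizer ((P : Subgroup G) : Set G)) ≤ D)
    {ξ : IrrCharacter (Subgroup.centralizer ((P : Subgroup G) : Set G))}
    (hξ : ξ ∈ principalBlock M (Subgroup.centralizer ((P : Subgroup G) : Set G)))
    (hDξ : ∀ d ∈ D, (ξ : Subgroup.centralizer ((P : Subgroup G) : Set G) → ℂ) d =
      (ξ : Subgroup.centralizer ((P : Subgroup G) : Set G) → ℂ) 1) :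
    (ξ : Subgroup.centralizer ((P : Subgroup G) : Set G) → ℂ) = fun _ => 1 := by
  classical
  have hp : p.Prime := Fact.out
  obtain ⟨S⟩ := (inferInstance : Nonempty (Sylow p (Subgroup.centralizer ((P : Subgroup G) : Set G))))
  have hSP : ∀ s ∈ (S : Subgroup (Subgroup.centralizer ((P : Subgroup G) : Set G))), s ∈ (P : Subgroup G).subgroupOf (Subgroup.centralizer ((P : Subgroup G) : Set G)) := fun s hs => by
    refine mem_sylow_of_commute P ?_ s.2
    have h2 := (S.isPGroup'.to_le (Subgroup.zpowers_le.mpr hs)).map (Subgroup.centralizer ((P : Subgroup G) : Set G)).subtype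
    rwa [MonoidHom.map_zpowers] at h2
  have hn : HasNormalPComplement p (Subgroup.centralizer ((P : Subgroup G) : Set G)) := by
    refine Fusion.hnpc_of_normalizer_le_centralizer S fun c _ => ?_
    exact Subgroup.mem_centralizer_iff.mpr fun s hs => Subtype.ext (c.2 _ (hSP s hs))
  have hco := Fusion.hnpc_iff.1 hn
  haveI : (pResidual p (Subgroup.centralizer ((P : Subgroup G) : Set G))).Normal := inferInstance
  have hK := principal_trivial_on hM (pResidual p (Subgroup.centralizer ((P : Subgroup G) : Set G)))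
    ((hp.coprime_iff_not_dvd).mp hco.symm) hξ
  have hall : ∀ c : (Subgroup.centralizer ((P : Subgroup G) : Set G)), c ∈ blockKerSub ({ξ} : Set (IrrCharacter (Subgroup.centralizer ((P : Subgroup G) : Set G)))) := by
    intro c
    have hle : pResidual p (Subgroup.centralizer ((P : Subgroup G) : Set G)) ⊔ (S : Subgroup (Subgroup.centralizer ((P : Subgroup G) : Set G))) ≤ blockKerSub ({ξ} : Set (IrrCharacter (Subgroup.centralizer ((P : Subgroup G) : Set G)))) := by
      refine sup_le (fun k hk φ hφ => ?_) (fun s hs φ hφ => ?_)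
      · rw [Set.mem_singleton_iff.mp hφ]; exact hK k hk
      · rw [Set.mem_singleton_iff.mp hφ]; exact hDξ s (hD (hSP s hs))
    have htop : pResidual p (Subgroup.centralizer ((P : Subgroup G) : Set G)) ⊔ (S : Subgroup (Subgroup.centralizer ((P : Subgroup G) : Set G))) = ⊤ := by
      refine Subgroup.index_eq_one.mp ?_
      obtain ⟨k, hk⟩ := (Fusion.isPGroup_quotient_pResidual (p := p) (G := (Subgroup.centralizer ((P : Subgroup G) : Set G)))).exists_card_eq
      rw [← Subgroup.index_eq_card] at hk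
      have h1 : (pResidual p (Subgroup.centralizer ((P : Subgroup G) : Set G)) ⊔ (S : Subgroup (Subgroup.centralizer ((P : Subgroup G) : Set G)))).index ∣ p ^ k :=
        hk ▸ Subgroup.index_dvd_of_le le_sup_left
      have h2 : ¬ p ∣ (pResidual p (Subgroup.centralizer ((P : Subgroup G) : Set G)) ⊔ (S : Subgroup (Subgroup.centralizer ((P : Subgroup G) : Set G)))).index := fun h =>
        S.not_dvd_index (h.trans (Subgroup.index_dvd_of_le le_sup_right))
      obtain ⟨i, -, hi⟩ := (Nat.dvd_prime_pow hp).mp h1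
      rcases i with _ | i
      · simpa using hi
      · exact absurd (hi ▸ dvd_pow_self p i.succ_ne_zero) h2
    exact hle (htop ▸ Subgroup.mem_top c)
  have hval : ∀ c, (ξ : (Subgroup.centralizer ((P : Subgroup G) : Set G)) → ℂ) c = (ξ : (Subgroup.centralizer ((P : Subgroup G) : Set G)) → ℂ) 1 := fun c => hall c ξ rfl
  have h1 := irr_self ξ.2
  rw [classInner] at h1
  simp only [hval, conj_char_one (irr_isCharacter ξ.2), Finset.sum_const, Finset.card_univ,
    ← Nat.card_eq_fintype_card, nsmul_eq_mul] at h1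
  rw [← mul_assoc, inv_mul_cancel₀ (Nat.cast_ne_zero.mpr Nat.card_pos.ne'), one_mul,
    char_one_eq_deg (irr_isCharacter ξ.2), ← Nat.cast_mul, Nat.cast_eq_one] at h1
  funext g
  rw [hval, char_one_eq_deg (irr_isCharacter ξ.2), (_root_.mul_eq_one.mp h1).1, Nat.cast_one]

/-- The principal idempotent summed over a normal subgroup is a unit. -/
theorem not_memLI_sum_principal (hM : IsPModular p M) (P : Sylow p G) (N : Subgroup G) [N.Normal]
    [Fintype N] : ¬ MemLocalIdeal M (∑ n : N, blockCoeff (principalBlock M G) (n : G)) := by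
  classical
  have hMp := pmod_prime hM
  have hp : p.Prime := Fact.out
  set e := blockCoeff (principalBlock M G) with he
  have hI := isIntClassFun_blockCoeff hM (isPBlock_principalBlock (G := G) M)
  set C := Subgroup.centralizer ((P : Subgroup G) : Set G) with hC
  haveI := Fintype.ofFinite C
  set J := N ⊔ (P : Subgroup G) with hJ
  -- reduce to the centralizer
  set F : G → ℂ := fun x => if x ∈ J then e x else 0 with hF
  have hJN : ∀ x, x ∈ J → ¬ p ∣ orderOf x → x ∈ N := by
    intro x hx hreg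
    obtain ⟨n, hn, u, hu, rfl⟩ := Subgroup.mem_sup_of_normal_left.mp hx
    obtain ⟨k, hk⟩ := P.isPGroup' ⟨u, hu⟩
    have hk' : u ^ p ^ k = 1 := by simpa using congrArg Subtype.val hk
    have h1 : ((n * u : G) : G ⧸ N) ^ orderOf (n * u) = 1 := by
      rw [← QuotientGroup.mk_pow, pow_orderOf_eq_one, QuotientGroup.mk_one]
    have h2 : ((n * u : G) : G ⧸ N) ^ p ^ k = 1 := by
      rw [QuotientGroup.mk_mul, (QuotientGroup.eq_one_iff n).mpr hn, one_mul,
        ← QuotientGroup.mk_pow, hk', QuotientGroup.mk_one]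
    have h3 := pow_gcd_eq_one.mpr ⟨h1, h2⟩
    rwa [Nat.Coprime.gcd_eq_one (((hp.coprime_iff_not_dvd).mpr hreg).symm.pow_right k), pow_one,
      QuotientGroup.eq_one_iff] at h3
  have hFv : ∀ x, F x = if x ∈ N then e x else 0 := by
    intro x
    by_cases hx : x ∈ N
    · rw [if_pos hx]; exact if_pos (Subgroup.mem_sup_left hx : x ∈ J)
    · rw [if_neg hx, hF]
      simp only
      split_ifs with hxJ
      · exact blockCoeff_eq_zero_of_singular hM (isPBlock_principalBlock M)
          (by by_contra h; exact hx (hJN x hxJ h))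
      · rfl
  have hsumN : ∑ n : N, e (n : G) = ∑ x : G, F x := by
    simp only [hFv, ← Finset.sum_filter]
    exact (Finset.sum_subtype (p := fun x : G => x ∈ N) _ (by simp) e).symm
  have hcongr := sum_centralizer_congr hM P.isPGroup' F
    (fun x => by rw [hFv]; split_ifs; exacts [hI.2 x, memLR_zero hMp])
    (fun u _ x => by
      rw [hFv, hFv, show e (u * x * u⁻¹) = e x from hI.1 x u]
      have hiff : u * x * u⁻¹ ∈ N ↔ x ∈ N :=
        ⟨fun h => by simpa [mul_assoc] using (inferInstance : N.Normal).conj_mem _ h u⁻¹,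
          fun h => (inferInstance : N.Normal).conj_mem x h u⟩
      simp only [hiff])
  set D : Subgroup C := J.subgroupOf C with hD
  haveI := Fintype.ofFinite D
  have hPD : (P : Subgroup G).subgroupOf C ≤ D := fun x hx => Subgroup.mem_sup_right hx
  haveI : D.Normal := ⟨fun d hd c => by
    obtain ⟨n, hn, u, hu, hnu⟩ := Subgroup.mem_sup_of_normal_left.mp (show (d : G) ∈ J from hd)
    show (c : G) * d * (c : G)⁻¹ ∈ J
    rw [← hnu, show (c : G) * (n * u) * (c : G)⁻¹ =
      ((c : G) * n * (c : G)⁻¹) * ((c : G) * u * (c : G)⁻¹) by group]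
    refine mul_mem (Subgroup.mem_sup_left (Subgroup.Normal.conj_mem inferInstance n hn _))
      (Subgroup.mem_sup_right ?_)
    rw [show (c : G) * u = u * c from (c.2 u hu).symm, mul_inv_cancel_right]
    exact hu⟩
  -- the index is prime to p
  have hidx : ¬ p ∣ D.index := by
    obtain ⟨S⟩ := (inferInstance : Nonempty (Sylow p C))
    intro h
    refine S.not_dvd_index (h.trans (Subgroup.index_dvd_of_le fun s hs => hPD ?_))
    refine mem_sylow_of_commute P ?_ s.2
    have h2 := (S.isPGroup'.to_le (Subgroup.zpowers_le.mpr hs)).map C.subtype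
    rwa [MonoidHom.map_zpowers] at h2
  haveI := Fintype.ofFinite (C ⧸ D)
  set T := Finset.univ.filter fun ξ : IrrCharacter C => ∀ d ∈ D, (ξ : C → ℂ) d = (ξ : C → ℂ) 1
  have hreg : ∀ x : C, ∑ ξ ∈ T, (ξ : C → ℂ) 1 * (ξ : C → ℂ) x =
      if x ∈ D then (D.index : ℂ) else 0 := by
    intro x
    have e1 : ∑ ξ ∈ T, (ξ : C → ℂ) 1 * (ξ : C → ℂ) x =
        ∑ ψ : IrrCharacter (C ⧸ D), (ψ : C ⧸ D → ℂ) (x : C ⧸ D) * conj ((ψ : C ⧸ D → ℂ) 1) := by
      rw [Finset.sum_subtype (p := fun ξ : IrrCharacter C => ∀ d ∈ D, (ξ : C → ℂ) d = (ξ : C → ℂ) 1)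
        T (by simp [T])]
      refine (Fintype.sum_equiv (inflateEquiv D) _ _ fun ψ => ?_).symm
      rw [conj_char_one (irr_isCharacter ψ.2), inflateEquiv_apply, inflateEquiv_apply,
        QuotientGroup.mk_one, mul_comm]
    rw [e1, second_orth]
    by_cases hx : x ∈ D
    · have hcl : Nat.card {y : C ⧸ D // IsConj 1 y} = 1 := by
        rw [Nat.card_eq_one_iff_unique]
        exact ⟨⟨fun a b => Subtype.ext
          ((isConj_one_right.mp a.2).trans (isConj_one_right.mp b.2).symm)⟩, ⟨⟨1, IsConj.refl 1⟩⟩⟩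
      rw [if_pos hx, if_pos, hcl, Nat.cast_one, div_one, ← Subgroup.index_eq_card]
      rw [(QuotientGroup.eq_one_iff x).mpr hx]
    · rw [if_neg hx, if_neg]
      exact fun h => hx ((QuotientGroup.eq_one_iff x).mp (isConj_one_left.mp h))
  have hexp : (D.index : ℂ) * ∑ x : G with x ∈ C, F x =
      ∑ ξ ∈ T, (ξ : C → ℂ) 1 ^ 2 * brLam (P : Subgroup G) C (ξ : C → ℂ) e := by
    have hbr : ∀ x : C, brRes (P : Subgroup G) C e x = e (x : G) := fun x => by
      rw [brRes, if_pos x.2]
    have h2 : ∀ ξ : IrrCharacter C, (ξ : C → ℂ) 1 ^ 2 * brLam (P : Subgroup G) C (ξ : C → ℂ) e =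
        ∑ x : C, e (x : G) * ((ξ : C → ℂ) 1 * (ξ : C → ℂ) x) := by
      intro ξ
      rw [brLam, lam, sq, mul_assoc, mul_div_cancel₀ _ (irr_one_ne_zero ξ.2), Finset.mul_sum]
      refine Finset.sum_congr rfl fun x _ => ?_
      rw [hbr]; ring
    rw [Finset.sum_congr rfl fun ξ _ => h2 ξ, Finset.sum_comm, Finset.mul_sum,
      Finset.sum_subtype (p := fun x : G => x ∈ C) _ (by simp)]
    refine Finset.sum_congr rfl fun x _ => ?_
    rw [← Finset.mul_sum, hreg]
    simp only [hF, hD, Subgroup.mem_subgroupOf]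
    split_ifs <;> ring
  -- evaluate modulo the ideal
  set one : IrrCharacter C := ⟨fun _ => 1, isIrrCharacter_one⟩ with hone
  have honeT : one ∈ T := by simp [T, hone]
  have hξv : ∀ ξ ∈ T, ξ ≠ one → MemLocalIdeal M (brLam (P : Subgroup G) C (ξ : C → ℂ) e) := by
    intro ξ hξ hne
    have hnp : ξ ∉ principalBlock M C := fun h => hne (Subtype.ext
      (trivial_of_principal_centralizer hM P D hPD h (Finset.mem_filter.mp hξ).2))
    obtain ⟨B, hB, hone', hΦ⟩ := (isCentralHom_brLam hM P.isPGroup' le_rfl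
      (Subgroup.centralizer_le_normalizer _) ξ).exists_block hM
    obtain ⟨χ, hχ⟩ := block_nonempty hMp hB
    have h2 := hΦ χ hχ _ hI
    rw [lam_blockCoeff] at h2
    have h3 : ¬ MemLocalIdeal M (brLam (P : Subgroup G) C (ξ : C → ℂ) e - 1) := fun h =>
      hnp ((third_main_brauer hM P.isPGroup' ξ).mp h)
    by_cases hmem : χ ∈ principalBlock M G
    · rw [if_pos hmem] at h2; exact absurd h2 h3
    · rw [if_neg hmem, sub_zero] at h2; exact h2
  have hone1 : MemLocalIdeal M (brLam (P : Subgroup G) C (one : C → ℂ) e - 1) :=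
    (third_main_brauer hM P.isPGroup' one).mpr (self_mem_blockOf hMp one)
  intro hbad
  rw [hsumN] at hbad
  have h4 : MemLocalIdeal M (∑ x : G with x ∈ C, F x) := by
    have := memLI_sub hMp hbad hcongr
    rwa [sub_sub_cancel] at this
  have h5 : MemLocalIdeal M ((D.index : ℂ) * ∑ x : G with x ∈ C, F x) :=
    memLI_mul_left hMp (memLR_natCast hMp _) h4
  rw [hexp, ← Finset.add_sum_erase _ _ honeT] at h5
  have h6 : MemLocalIdeal M (∑ ξ ∈ T.erase one,
      (ξ : C → ℂ) 1 ^ 2 * brLam (P : Subgroup G) C (ξ : C → ℂ) e) :=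
    memLI_sum hMp _ _ fun ξ hξ => memLI_mul_left hMp (by
      rw [sq]
      exact (locRing hMp).mul_mem (memLR_char hMp (irr_isCharacter ξ.2) 1)
        (memLR_char hMp (irr_isCharacter ξ.2) 1))
      (hξv ξ (Finset.mem_of_mem_erase hξ) (Finset.ne_of_mem_erase hξ))
  have h7 := memLI_sub hMp (memLI_sub hMp h5 h6) hone1
  simp only [hone, one_pow, one_mul] at h7
  refine memLI_one_iff hMp ?_
  simpa using h7

/-- **A principal character of degree prime to `p` over an extendible one.** -/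
theorem exists_over (hM : IsPModular p M) (N : Subgroup G) [N.Normal] [Fintype N] (P : Sylow p G)
    (θ : IrrCharacter N) (hθ : θ ∈ principalBlock M N) (hdeg : ¬ p ∣ charDegree (θ : N → ℂ))
    (η : IrrCharacter ↥(N ⊔ (P : Subgroup G)))
    (hη : ∀ n : N, (η : ↥(N ⊔ (P : Subgroup G)) → ℂ) (Subgroup.inclusion le_sup_left n) =
      (θ : N → ℂ) n) :
    ∃ χ : IrrCharacter G, χ ∈ principalBlock M G ∧ ¬ p ∣ charDegree (χ : G → ℂ) ∧
      classInner (fun n : N => (χ : G → ℂ) n) (θ : N → ℂ) ≠ 0 := by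
  classical
  have hMp := pmod_prime hM
  have hp : p.Prime := Fact.out
  haveI := Fintype.ofFinite ↥(N ⊔ (P : Subgroup G))
  set B := Finset.univ.filter (fun χ : IrrCharacter G => χ ∈ principalBlock M G) with hB
  choose a ha using fun χ : IrrCharacter G => classInner_natCast (irr_isCharacter η.2)
    (isCharacter_comp (N ⊔ (P : Subgroup G)).subtype (irr_isCharacter χ.2))
  have ha' : ∀ χ : IrrCharacter G,
      classInner (η : ↥(N ⊔ (P : Subgroup G)) → ℂ) (fun h : ↥(N ⊔ (P : Subgroup G)) => (χ : G → ℂ) h) = a χ := ha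
  have hJN : ∀ x, x ∈ (N ⊔ (P : Subgroup G)) → ¬ p ∣ orderOf x → x ∈ N := by
    intro x hx hreg
    obtain ⟨n, hn, u, hu, rfl⟩ := Subgroup.mem_sup_of_normal_left.mp hx
    obtain ⟨k, hk⟩ := P.isPGroup' ⟨u, hu⟩
    have hk' : u ^ p ^ k = 1 := by simpa using congrArg Subtype.val hk
    have h1 : ((n * u : G) : G ⧸ N) ^ orderOf (n * u) = 1 := by
      rw [← QuotientGroup.mk_pow, pow_orderOf_eq_one, QuotientGroup.mk_one]
    have h2 : ((n * u : G) : G ⧸ N) ^ p ^ k = 1 := by
      rw [QuotientGroup.mk_mul, (QuotientGroup.eq_one_iff n).mpr hn, one_mul,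
        ← QuotientGroup.mk_pow, hk', QuotientGroup.mk_one]
    have h3 := pow_gcd_eq_one.mpr ⟨h1, h2⟩
    rwa [Nat.Coprime.gcd_eq_one (((hp.coprime_iff_not_dvd).mpr hreg).symm.pow_right k), pow_one,
      QuotientGroup.eq_one_iff] at h3
  set e := blockCoeff (principalBlock M G) with he
  have hI := isIntClassFun_blockCoeff hM (isPBlock_principalBlock (G := G) M)
  -- the degree of the principal part of the induced character
  have hkey : ((∑ χ ∈ B, a χ * deg (χ : G → ℂ) : ℕ) : ℂ) =
      ((N ⊔ (P : Subgroup G)).index : ℂ) * ((θ : N → ℂ) 1 * lam (θ : N → ℂ) (fun n : N => e n)) := by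
    have h1 : ∀ h : ↥(N ⊔ (P : Subgroup G)), (Nat.card G : ℂ) * e (h : G) =
        ∑ χ ∈ B, (χ : G → ℂ) 1 * conj ((χ : G → ℂ) h) := by
      intro h
      rw [he, blockCoeff_eq, Finset.sum_apply, Finset.mul_sum]
      refine Finset.sum_congr rfl fun χ _ => ?_
      rw [idem, ← mul_assoc, mul_inv_cancel₀ (Nat.cast_ne_zero.mpr Nat.card_pos.ne'), one_mul]
    have h2 : ((∑ χ ∈ B, a χ * deg (χ : G → ℂ) : ℕ) : ℂ) =
        ((N ⊔ (P : Subgroup G)).index : ℂ) * ∑ h : ↥(N ⊔ (P : Subgroup G)), e (h : G) * (η : ↥(N ⊔ (P : Subgroup G)) → ℂ) h := by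
      rw [Nat.cast_sum]
      have h3 : ∀ h : ↥(N ⊔ (P : Subgroup G)), ((N ⊔ (P : Subgroup G)).index : ℂ) * (e (h : G) * (η : ↥(N ⊔ (P : Subgroup G)) → ℂ) h) =
          ∑ χ ∈ B, (Nat.card ↥(N ⊔ (P : Subgroup G)) : ℂ)⁻¹ * ((η : ↥(N ⊔ (P : Subgroup G)) → ℂ) h * conj ((χ : G → ℂ) h)) * (χ : G → ℂ) 1 := by
        intro h
        have hJ0 : (Nat.card ↥(N ⊔ (P : Subgroup G)) : ℂ) ≠ 0 := Nat.cast_ne_zero.mpr Nat.card_pos.ne'
        have hG : (Nat.card G : ℂ) = Nat.card ↥(N ⊔ (P : Subgroup G)) * (N ⊔ (P : Subgroup G)).index := by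
          rw [← Nat.cast_mul, Subgroup.card_mul_index]
        have := h1 h
        rw [hG] at this
        calc ((N ⊔ (P : Subgroup G)).index : ℂ) * (e (h : G) * (η : ↥(N ⊔ (P : Subgroup G)) → ℂ) h)
            = (Nat.card ↥(N ⊔ (P : Subgroup G)) : ℂ)⁻¹ * ((Nat.card ↥(N ⊔ (P : Subgroup G)) * (N ⊔ (P : Subgroup G)).index) * e (h : G)) * (η : ↥(N ⊔ (P : Subgroup G)) → ℂ) h := by
              field_simp
          _ = _ := by
              rw [this, Finset.mul_sum, Finset.sum_mul]
              exact Finset.sum_congr rfl fun χ _ => by ring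
      rw [Finset.mul_sum, Finset.sum_congr rfl fun h _ => h3 h, Finset.sum_comm]
      refine Finset.sum_congr rfl fun χ _ => ?_
      rw [Nat.cast_mul, ← ha' χ, classInner, ← char_one_eq_deg (irr_isCharacter χ.2),
        ← Finset.sum_mul, Finset.mul_sum]
    rw [h2, lam, mul_div_cancel₀ _ (irr_one_ne_zero θ.2)]
    congr 1
    rw [← Finset.sum_filter_add_sum_filter_not Finset.univ (fun h : ↥(N ⊔ (P : Subgroup G)) => (h : G) ∈ N),
      Finset.sum_eq_zero (s := Finset.univ.filter fun h : ↥(N ⊔ (P : Subgroup G)) => ¬ (h : G) ∈ N), add_zero]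
    · refine (Finset.sum_bij' (fun (n : N) _ => Subgroup.inclusion (le_sup_left : N ≤ (N ⊔ (P : Subgroup G))) n)
        (fun h hh => (⟨(h : G), (Finset.mem_filter.mp hh).2⟩ : N))
        (fun n _ => Finset.mem_filter.mpr ⟨Finset.mem_univ _, n.2⟩)
        (fun _ _ => Finset.mem_univ _) (fun n _ => rfl) (fun h _ => rfl) (fun n _ => ?_)).symm
      rw [hη n]; rfl
    · intro h hh
      rw [he, blockCoeff_eq_zero_of_singular hM (isPBlock_principalBlock M)
        (by by_contra hr; exact (Finset.mem_filter.mp hh).2 (hJN _ h.2 hr)), zero_mul]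
  have hunit : ¬ MemLocalIdeal M ((∑ χ ∈ B, a χ * deg (χ : G → ℂ) : ℕ) : ℂ) := by
    rw [hkey]
    have hcf : IsClassFunction N (fun n : N => e n) := fun x k => by
      simpa using hI.1 (x : G) (k : G)
    have h1 := lam_congr hMp θ.2 isIrrCharacter_one (sameBlock_symm hMp hθ) hcf (fun n => hI.2 _)
    have hl : lam (fun _ : N => (1 : ℂ)) (fun n : N => e n) = ∑ n : N, e (n : G) := by
      simp [lam]
    rw [hl] at h1
    rw [char_one_eq_deg (irr_isCharacter θ.2), ← mul_assoc, ← Nat.cast_mul]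
    intro hbad
    have hnd : ¬ p ∣ (N ⊔ (P : Subgroup G)).index * deg (θ : N → ℂ) := fun hd => (hp.dvd_mul.mp hd).elim
      (fun hd => P.not_dvd_index (hd.trans (Subgroup.index_dvd_of_le le_sup_right))) hdeg
    have h2 : MemLocalIdeal M (lam (θ : N → ℂ) (fun n : N => e n)) := by
      have := memLI_mul_left hMp (memLR_inv_natCast hM hnd) hbad
      rwa [← mul_assoc, inv_mul_cancel₀ (Nat.cast_ne_zero.mpr fun h0 => hnd (by rw [h0]; exact dvd_zero p)),
        one_mul] at this
    exact not_memLI_sum_principal hM P N (memLI_congr hMp (memLI_symm hMp h1) h2)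
  have hnd : ¬ p ∣ ∑ χ ∈ B, a χ * deg (χ : G → ℂ) := fun h => hunit ((memLI_natCast_iff hM _).mpr h)
  obtain ⟨χ, hχB, hχ⟩ : ∃ χ ∈ B, ¬ p ∣ a χ * deg (χ : G → ℂ) := by
    by_contra hno
    push Not at hno
    exact hnd (Finset.dvd_sum hno)
  refine ⟨χ, (Finset.mem_filter.mp hχB).2, fun h => hχ (dvd_mul_of_dvd_right h _), ?_⟩
  -- η is a constituent of the restriction to (N ⊔ (P : Subgroup G)), so θ of the restriction to N
  have haχ : a χ ≠ 0 := fun h => hχ (by rw [h, zero_mul]; exact dvd_zero p)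
  set φ : ↥(N ⊔ (P : Subgroup G)) → ℂ := fun h => (χ : G → ℂ) h with hφ
  have hφc : IsCharacter ↥(N ⊔ (P : Subgroup G)) φ := isCharacter_comp (N ⊔ (P : Subgroup G)).subtype (irr_isCharacter χ.2)
  set i : N →* ↥(N ⊔ (P : Subgroup G)) := Subgroup.inclusion (le_sup_left : N ≤ (N ⊔ (P : Subgroup G))) with hi
  choose b hb using fun ζ : IrrCharacter ↥(N ⊔ (P : Subgroup G)) => classInner_natCast hφc (irr_isCharacter ζ.2)
  choose c hc using fun ζ : IrrCharacter ↥(N ⊔ (P : Subgroup G)) =>
    classInner_natCast (isCharacter_comp i (irr_isCharacter ζ.2)) (irr_isCharacter θ.2)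
  have hsum : classInner (fun n : N => (χ : G → ℂ) n) (θ : N → ℂ) =
      ((∑ ζ : IrrCharacter ↥(N ⊔ (P : Subgroup G)), b ζ * c ζ : ℕ) : ℂ) := by
    have e : (fun n : N => (χ : G → ℂ) n) = ∑ ζ : IrrCharacter ↥(N ⊔ (P : Subgroup G)),
        classInner φ (ζ : ↥(N ⊔ (P : Subgroup G)) → ℂ) • (fun n : N => (ζ : ↥(N ⊔ (P : Subgroup G)) → ℂ) (i n)) := by
      funext n
      have := congrFun (char_expansion hφc) (i n)
      simpa [Finset.sum_apply, hφ, hi] using this
    rw [e, classInner_sum_left, Nat.cast_sum]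
    refine Finset.sum_congr rfl fun ζ _ => ?_
    rw [classInner_smul_left, hb ζ,
      show classInner (fun n : N => (ζ : ↥(N ⊔ (P : Subgroup G)) → ℂ) (i n)) (θ : N → ℂ) = c ζ from hc ζ]
    push_cast
    rfl
  rw [hsum, Nat.cast_ne_zero]
  intro h0
  rcases Nat.mul_eq_zero.mp (Finset.sum_eq_zero_iff.mp h0 η (Finset.mem_univ _)) with h | h
  · refine haχ ?_
    have h1 : classInner φ (η : ↥(N ⊔ (P : Subgroup G)) → ℂ) = 0 := by rw [hb η, h, Nat.cast_zero]
    have h2 := congrArg conj h1
    rw [classInner_symm, map_zero] at h2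
    rw [ha' χ] at h2
    exact_mod_cast h2
  · have h1 : classInner (fun n : N => (η : ↥(N ⊔ (P : Subgroup G)) → ℂ) (i n)) (θ : N → ℂ) = 0 := by
      rw [show classInner (fun n : N => (η : ↥(N ⊔ (P : Subgroup G)) → ℂ) (i n)) (θ : N → ℂ) = c η from hc η, h,
        Nat.cast_zero]
    rw [show (fun n : N => (η : ↥(N ⊔ (P : Subgroup G)) → ℂ) (i n)) = (θ : N → ℂ) from funext hη, irr_self θ.2] at h1
    exact one_ne_zero h1

end Cfsg.Agent.Char.OverExt
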