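import Cfsg.Agent.Lib.Char.BlockCountBound
import Cfsg.Agent.Lib.Char.SubsectionForm
import Cfsg.Agent.Lib.Char.ThirdMain
import Cfsg.Agent.Lib.Char.Induced

/-!
# The principal block against a small centralizer of a `p`-element

If the `p`-part of `|C(x)|` is at most `p ^ 2` for a `p`-element `x`, then the principal block has at most
`p ^ 2` characters of degree prime to `p`.
-/

set_option autoImplicit false
set_option linter.unusedSectionVars false
set_option linter.style.haveILetI false

open Cfsg

namespace Cfsg.Agent.Char.PrincipalSmall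

universe u

variable {G : Type u} [Group G] [Fintype G] {M : Ideal AlgInt} {p : ℕ}

theorem dmin_principal (hM : IsPModular p M) : dmin p (principalBlock M G) = 0 := by
  have hP := pmod_prime hM
  refine Nat.le_zero.mp (le_trans (dmin_le (χ := (⟨fun _ => 1, isIrrCharacter_one⟩ : IrrCharacter G))
    ((eq_principal_iff hM (isPBlock_blockOf M _) (self_mem_blockOf hP _)).mp rfl)) ?_)
  simp [dexp, deg]

open scoped Classical in
theorem card_le (hM : IsPModular p M) {x : G} (hx : ∃ k : ℕ, orderOf x = p ^ k)
    (hC : (Nat.card (Subgroup.centralizer ({x} : Set G))).factorization p ≤ 2) :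
    Nat.card {χ : IrrCharacter G // χ ∈ principalBlock M G ∧ ¬ p ∣ charDegree (χ : G → ℂ)} ≤ p ^ 2 := by
  have hP := pmod_prime hM
  have hp := hM.1
  haveI := Fact.mk hp
  have hB := isPBlock_principalBlock (G := G) M
  have hd : blockDefect p (principalBlock M G) = (Nat.card G).factorization p := by
    show _ - dmin p (principalBlock M G) = _
    rw [dmin_principal hM, Nat.sub_zero]
  refine le_trans (Nat.card_le_card_of_injective
    (β := {χ : IrrCharacter G // χ ∈ principalBlock M G ∧ blockHeight p (principalBlock M G) (χ : G → ℂ) = 0})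
    (fun χ => ⟨χ.1, χ.2.1, by
      show _ - dmin p (principalBlock M G) = 0
      rw [Nat.factorization_eq_zero_of_not_dvd χ.2.2, Nat.zero_sub]⟩)
    fun a b h => Subtype.ext (Subtype.mk.inj h)) ?_
  obtain ⟨a, ha⟩ := hx
  rcases Nat.eq_zero_or_pos a with rfl | ha1
  · rw [pow_zero, orderOf_eq_one_iff] at ha
    subst ha
    have htop : Subgroup.centralizer ({(1 : G)} : Set G) = ⊤ := by
      ext g; simp [Subgroup.mem_centralizer_singleton_iff]
    rw [htop, Subgroup.card_top, ← hd] at hC
    refine le_trans (le_trans (Nat.card_le_card_of_injective (β := principalBlock M G) (fun χ => ⟨χ.1, χ.2.1⟩)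
      fun a b h => Subtype.ext (Subtype.mk.inj h)) (CentralClass.card_le_kBound hM _ _ hB rfl)) ?_
    rw [CentralClass.kBound, if_pos hC]
    exact Nat.pow_le_pow_right hp.pos hC
  set H := Subgroup.centralizer ({x} : Set G) with hH
  haveI : Fintype H := Fintype.ofFinite _
  have hxH : x ∈ H := Subgroup.mem_centralizer_singleton_iff.mpr rfl
  have he := isPBlock_principalBlock (G := H) M
  set e := principalBlock M H with hedef
  obtain ⟨B', hB'⟩ := inducedBlockDefined_of_local hM (P := Subgroup.zpowers x) (H := H)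
    (isPGroup_of_ppower hp ⟨a, ha⟩) (Subgroup.zpowers_le.mpr hxH) (le_of_eq centralizer_zpowers_eq)
    (le_trans (le_of_eq (centralizer_zpowers_eq (x := x)).symm) (Subgroup.centralizer_le_normalizer _)) he
  obtain rfl := (third_main hM hB').mpr rfl
  have hde : blockDefect p e ≤ 2 := (Nat.sub_le _ _).trans hC
  set xc : H := ⟨x, hxH⟩ with hxc
  have hcent : ∀ c : H, xc * c = c * xc := fun c => Subtype.ext (cent_mul_comm c)
  have hxco : orderOf xc = p ^ a := by rw [hxc, Subgroup.orderOf_mk, ha]
  set Z := Subgroup.zpowers xc with hZ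
  haveI : Z.Normal := ⟨fun w hw g => by
    obtain ⟨n, rfl⟩ := hw
    have hc : Commute g (xc ^ n) := Commute.zpow_right (hcent g).symm n
    rw [hc.eq, mul_inv_cancel_right]
    exact Subgroup.zpow_mem_zpowers _ _⟩
  have hZp : IsPGroup p Z := IsPGroup.of_card (n := a) (by rw [hZ, Nat.card_zpowers, hxco])
  obtain ⟨Db, hDb⟩ := exists_isDefectGroup hM he
  have hZD : Z ≤ Db := pCore_le_defectGroup hM he hDb Z hZp
  haveI : Fintype (H ⧸ Z) := Fintype.ofFinite _
  obtain ⟨Bb, hBb, hsub, hdef⟩ := exists_quotient_block_defect hM hZp he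
  set r := blockDefect p Bb with hr
  have har : blockDefect p e = a + r := by
    have h1 := card_defectGroup hM hBb (hdef Db hDb)
    have h2 := Cfsg.Agent.Solv.card_map_mk'_mul_card_inf Z Db
    rw [inf_eq_left.mpr hZD, h1, card_defectGroup hM he hDb, show Nat.card Z = orderOf xc from
      Nat.card_zpowers xc, hxco, ← hr, ← pow_add] at h2
    have := Nat.pow_right_injective hp.two_le h2
    omega
  rcases (by omega : r = 0 ∨ r = 1) with h0 | h1
  · obtain ⟨ω, hω⟩ : ∃ ω : ℂ, IsPrimitiveRoot ω (p ^ a) :=
      ⟨_, Complex.isPrimitiveRoot_exp _ (pow_ne_zero a hp.ne_zero)⟩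
    obtain ⟨j, hj, hz⟩ := MajorSub.exists_expo (x := x) (p := p) (k := a) ha hω
    have hl : blockRank p e = 1 := (SubForm.rank_eq hM he hcent hxco hω hj hz hZ har hBb hsub rfl).trans
      ((defect_zero_iff_rank hM hBb).1.mp h0).2
    have h := card_height_zero_sq_le hM ⟨a, ha⟩ hB'
    rw [hl, mul_one, har, h0, add_zero, mul_comm, pow_mul] at h
    exact ((Nat.pow_le_pow_iff_left two_ne_zero).mp h).trans (Nat.pow_le_pow_right hp.pos (by omega))
  · have h := CentralClass.card_heightZero_le_pow hM ha ha1 hB' (h1 ▸ har)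
    rw [Nat.card_eq_fintype_card, Fintype.card_subtype]
    exact h.trans (Nat.pow_le_pow_right hp.pos (by omega))

end Cfsg.Agent.Char.PrincipalSmall
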