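import Cfsg.Agent.Lib.Char.KerPPrime
import Cfsg.Agent.Lib.Char.OneBlock
import Cfsg.Agent.Lib.Char.PrincipalInflate
import Cfsg.Agent.Lib.Solv.PSolvHall
import Cfsg.Agent.Lib.Fusion.TransferSplit
import Mathlib

/-!
# Principal blocks for two primes with the same characters of prime-to-`p` degree
-/

set_option autoImplicit false
set_option linter.unusedSectionVars false
set_option linter.style.haveILetI false

namespace Cfsg.Agent.Char.TwoPrimes

open Cfsg Cfsg.Agent Cfsg.Agent.Char

universe u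

variable {X : Type u} [Group X] [Finite X] {p : ℕ} [Fact p.Prime]

/-- The kernel of the characters of degree prime to `p` meets a Sylow subgroup in the Frattini
subgroup. -/
theorem kerPPrime_inf_le_commutator (P : Sylow p X) :
    kerPPrime p X ⊓ (P : Subgroup X) ≤ ⁅(P : Subgroup X), (P : Subgroup X)⁆ := by
  classical
  haveI := Fintype.ofFinite X
  haveI := Fintype.ofFinite (P : Subgroup X)
  have hp : p.Prime := Fact.out
  rintro x ⟨hxK, hxP⟩
  have hx : (⟨x, hxP⟩ : P) ∈ commutator P := by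
    refine mem_commutator_of_forall_linear fun l => Units.ext ?_
    let η : IrrCharacter P := ⟨fun u => (l u : ℂ), isIrrCharacter_linear l⟩
    obtain ⟨χ, hχ, hcon⟩ := exists_pPrime_over hp (P : Subgroup X) η P.not_dvd_index
      (by rw [show charDegree (η : P → ℂ) = 1 by simp [η, charDegree]]; exact hp.not_dvd_one)
    have h := constituent_eq_at_ker
      (isCharacter_comp (P : Subgroup X).subtype (irr_isCharacter χ.2)) (ψ := η) hcon
      (x := ⟨x, hxP⟩) (hxK χ hχ)
    simpa [η] using h
  have hmap : (commutator P).map (P : Subgroup X).subtype =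
      ⁅(P : Subgroup X), (P : Subgroup X)⁆ := by
    rw [commutator_def, Subgroup.map_commutator, ← MonoidHom.range_eq_map,
      Subgroup.range_subtype]
  rw [← hmap]
  exact ⟨⟨x, hxP⟩, hx, rfl⟩

/-- If `O_{p'} = 1`, a normal subgroup of order prime to `p` modulo the kernel of the characters
of degree prime to `p` lies in that kernel. -/
theorem le_of_relIndex_coprime (h0 : pPrimeCore p X = ⊥) {A W : Subgroup X} [A.Normal] [W.Normal]
    (hA : A ≤ kerPPrime p X) (hAW : A ≤ W) (hco : (A.relIndex W).Coprime p) :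
    IsPGroup p W ∧ W = A ∧ (W = ⊤ → Subsingleton X) := by
  classical
  obtain ⟨P⟩ : Nonempty (Sylow p X) := inferInstance
  have hWA : W ⊓ (P : Subgroup X) ≤ A := by
    intro x hx
    haveI : (A.subgroupOf W).Normal := inferInstance
    obtain ⟨k, hk⟩ := P.isPGroup' ⟨x, hx.2⟩
    have hk' : x ^ p ^ k = 1 := by simpa using congrArg Subtype.val hk
    have h1 : ((⟨x, hx.1⟩ : W) : W ⧸ A.subgroupOf W) ^ A.relIndex W = 1 :=
      pow_card_eq_one' (G := W ⧸ A.subgroupOf W)
    have h2 : ((⟨x, hx.1⟩ : W) : W ⧸ A.subgroupOf W) ^ p ^ k = 1 := by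
      rw [← QuotientGroup.mk_pow, show (⟨x, hx.1⟩ : W) ^ p ^ k = 1 from Subtype.ext hk',
        QuotientGroup.mk_one]
    have h3 := pow_gcd_eq_one.mpr ⟨h1, h2⟩
    rwa [Nat.Coprime.gcd_eq_one (hco.pow_right k), pow_one, QuotientGroup.eq_one_iff,
      Subgroup.mem_subgroupOf] at h3
  have hle : W ⊓ (P : Subgroup X) ≤ ⁅(P : Subgroup X), (P : Subgroup X)⁆ := fun x hx =>
    kerPPrime_inf_le_commutator P ⟨hA (hWA hx), hx.2⟩
  have hmap : (commutator P).map (P : Subgroup X).subtype =
      ⁅(P : Subgroup X), (P : Subgroup X)⁆ := by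
    rw [commutator_def, Subgroup.map_commutator, ← MonoidHom.range_eq_map,
      Subgroup.range_subtype]
  haveI : Group.IsNilpotent P := P.isPGroup'.isNilpotent
  have hn : HasNormalPComplement p W := by
    refine Fusion.hnpc_normal_of_frattini _ P (hle.trans ?_)
    rw [← hmap]
    exact Subgroup.map_mono (Solv.commutator_le_frattini_pgroup P.isPGroup')
  have hres : pResidual p W = ⊥ := by
    have : (pResidual p W).map W.subtype = ⊥ := by
      haveI : ((pResidual p W).map W.subtype).Normal :=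
        ConjAct.normal_of_characteristic_of_normal
      refine eq_bot_iff.2 (h0 ▸ Fusion.le_pPrimeCore ?_)
      rw [Subgroup.card_map_of_injective W.subtype_injective]
      exact Fusion.hnpc_iff.1 hn
    rwa [Subgroup.map_eq_bot_iff_of_injective _ W.subtype_injective] at this
  have hWp : IsPGroup p W := (Fusion.isPGroup_quotient_pResidual (p := p) (G := W)).of_equiv
    ((QuotientGroup.quotientMulEquivOfEq hres).trans QuotientGroup.quotientBot)
  refine ⟨hWp, ?_, fun hT => ?_⟩
  · obtain ⟨n, hn⟩ := IsPGroup.iff_card.mp hWp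
    have hd : A.relIndex W ∣ p ^ n := hn ▸ Subgroup.relIndex_dvd_card _ _
    exact le_antisymm (Subgroup.relIndex_eq_one.mp
      (Nat.Coprime.eq_one_of_dvd (hco.pow_right n) hd)) hAW
  · subst hT
    have hPtop : (P : Subgroup X) = ⊤ := (P.is_maximal' hWp le_top).symm
    have hcomm : commutator P = ⊤ := by
      refine eq_top_iff.mpr fun u _ => ?_
      have := hle ⟨Subgroup.mem_top (u : X), u.2⟩
      rw [← hmap] at this
      obtain ⟨v, hv, e⟩ := this
      exact (Subtype.val_injective e : v = u) ▸ hv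
    haveI : Subsingleton P := by
      refine (not_nontrivial_iff_subsingleton).mp fun hnt => ?_
      exact (Group.IsSolvable.commutator_lt_top_of_nontrivial P).ne hcomm
    refine ⟨fun a b => ?_⟩
    have : ∀ c : X, c ∈ (P : Subgroup X) := fun c => hPtop ▸ Subgroup.mem_top c
    exact congrArg Subtype.val (Subsingleton.elim (⟨a, this a⟩ : P) ⟨b, this b⟩)

variable {G : Type u} [Group G] [Fintype G]

/-- One step: modulo `N = O_{p'} ⊔ Q` there is no normal `p'`-subgroup, and `N` is proper. -/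
theorem core_step (hsolv : IsPSolvable p G) (hdiv : p ∣ Nat.card G) {M : Ideal AlgInt}
    (hM : IsPModular p M) (Q : Subgroup G) [Q.Normal]
    (h : ∀ χ : IrrCharacter G, χ ∈ principalBlock M G → ¬ p ∣ charDegree (χ : G → ℂ) →
      ∀ g ∈ Q, (χ : G → ℂ) g = (χ : G → ℂ) 1) :
    pPrimeCore p G ⊔ Q ≠ ⊤ ∧
      ∀ W : Subgroup G, W.Normal → pPrimeCore p G ⊔ Q ≤ W →
        ((pPrimeCore p G ⊔ Q).relIndex W).Coprime p → W = pPrimeCore p G ⊔ Q := by
  classical
  have hp : p.Prime := Fact.out
  haveI := Solv.pPrimeCore_normal (G := G) p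
  set R := pPrimeCore p G with hR
  have hRco : (Nat.card R).Coprime p := Fusion.card_pPrimeCore_coprime p G
  have hRp : ¬ p ∣ Nat.card R := (hp.coprime_iff_not_dvd).mp hRco.symm
  haveI := Fintype.ofFinite (G ⧸ R)
  set π := QuotientGroup.mk' R with hπ
  have hπs : Function.Surjective π := QuotientGroup.mk'_surjective R
  have h0 : pPrimeCore p (G ⧸ R) = ⊥ := Fusion.pPrimeCore_quotient_eq_bot
  have hX : IsPSolvable p (G ⧸ R) := Solv.isPSolvable_map hp hsolv π hπs
  haveI : (Q.map π).Normal := Subgroup.Normal.map inferInstance π hπs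
  have hQ : Q.map π ≤ kerPPrime p (G ⧸ R) := by
    rintro _ ⟨g, hg, rfl⟩ ψ hψ
    have hmem : (inflateEquiv R ψ).1 ∈ principalBlock M G := by
      rw [inflate_mem_principal_iff hM R hRp]
      exact sameBlock_of_constrained hM (centralizer_pCore_le_of_pSolvable hX h0)
        ⟨_, isIrrCharacter_one⟩ ψ
    exact h _ hmem hψ g hg
  have hmapN : (R ⊔ Q).map π = Q.map π := by
    rw [Subgroup.map_sup, show R.map π = ⊥ by
      rw [hπ, Subgroup.map_eq_bot_iff, QuotientGroup.ker_mk'], bot_sup_eq]
  have key : ∀ W : Subgroup G, W.Normal → R ⊔ Q ≤ W → ((R ⊔ Q).relIndex W).Coprime p →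
      W = R ⊔ Q ∧ (W = ⊤ → Subsingleton (G ⧸ R)) := by
    intro W hW hle hco
    haveI := hW
    haveI : (W.map π).Normal := Subgroup.Normal.map inferInstance π hπs
    have hker : π.ker ≤ R ⊔ Q := by rw [hπ, QuotientGroup.ker_mk']; exact le_sup_left
    obtain ⟨-, he, htop⟩ := le_of_relIndex_coprime h0 hQ
      (hmapN ▸ Subgroup.map_mono hle : Q.map π ≤ W.map π)
      (by
        rw [← hmapN, Subgroup.relIndex_map_map, sup_eq_left.mpr hker,
          sup_eq_left.mpr (hker.trans hle)]
        exact hco)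
    refine ⟨?_, fun hT => htop (by rw [hT, Subgroup.map_top_of_surjective π hπs])⟩
    rw [← Subgroup.comap_map_eq_self (hker.trans hle), he, ← hmapN,
      Subgroup.comap_map_eq_self hker]
  refine ⟨fun hT => ?_, fun W hW hle hco => (key W hW hle hco).1⟩
  have hsub := (key ⊤ inferInstance le_top (by rw [hT, Subgroup.relIndex_self]; exact p.coprime_one_left)).2 rfl
  have : R = ⊤ := (Subgroup.eq_top_iff' R).mpr fun g =>
    (QuotientGroup.eq_one_iff g).mp (Subsingleton.elim _ _)
  exact hRp (by rw [this, Subgroup.card_top]; exact hdiv)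

/-- **Two primes with the same principal characters of prime-to-`p` degree are equal.** -/
theorem eq_of_principal_eq {q : ℕ} [Fact q.Prime] (hp : p ∣ Nat.card G) (hq : q ∣ Nat.card G)
    (hps : IsPSolvable p G) (hqs : IsPSolvable q G) {Mp Mq : Ideal AlgInt}
    (hMp : IsPModular p Mp) (hMq : IsPModular q Mq)
    (h : ∀ χ : IrrCharacter G, (χ ∈ principalBlock Mp G ∧ ¬ p ∣ charDegree (χ : G → ℂ)) ↔
      (χ ∈ principalBlock Mq G ∧ ¬ q ∣ charDegree (χ : G → ℂ))) : p = q := by
  classical
  by_contra hne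
  have hpp : p.Prime := Fact.out
  have hqq : q.Prime := Fact.out
  haveI := Solv.pPrimeCore_normal (G := G) p
  haveI := Solv.pPrimeCore_normal (G := G) q
  have hqd : ¬ q ∣ Nat.card (pPrimeCore q G) :=
    (hqq.coprime_iff_not_dvd).mp (Fusion.card_pPrimeCore_coprime q G).symm
  have hpd : ¬ p ∣ Nat.card (pPrimeCore p G) :=
    (hpp.coprime_iff_not_dvd).mp (Fusion.card_pPrimeCore_coprime p G).symm
  obtain ⟨hne1, h1⟩ := core_step hps hp hMp (pPrimeCore q G) fun χ hχ hd g hg =>
    principal_trivial_on hMq _ hqd ((h χ).mp ⟨hχ, hd⟩).1 g hg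
  obtain ⟨-, h2⟩ := core_step hqs hq hMq (pPrimeCore p G) fun χ hχ hd g hg =>
    principal_trivial_on hMp _ hpd ((h χ).mpr ⟨hχ, hd⟩).1 g hg
  rw [sup_comm (pPrimeCore q G)] at h2
  set N := pPrimeCore p G ⊔ pPrimeCore q G with hN
  set π := QuotientGroup.mk' N with hπ
  have hlift : ∀ r : ℕ, (∀ W : Subgroup G, W.Normal → N ≤ W → (N.relIndex W).Coprime r → W = N) →
      pPrimeCore r (G ⧸ N) = ⊥ := by
    intro r hr
    haveI := Solv.pPrimeCore_normal (G := G ⧸ N) r
    set W := (pPrimeCore r (G ⧸ N)).comap π with hW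
    have hle : N ≤ W := by
      rw [hW, hπ]
      refine le_trans (le_of_eq (QuotientGroup.ker_mk' N).symm) ?_
      exact MonoidHom.ker_le_comap _ _
    have hWN := hr W inferInstance hle (by
      have e := Subgroup.relIndex_ker (f := π) (K := W)
      rw [hπ, QuotientGroup.ker_mk'] at e
      rw [e, hW, Subgroup.map_comap_eq_self_of_surjective (QuotientGroup.mk'_surjective N)]
      exact Fusion.card_pPrimeCore_coprime r (G ⧸ N))
    rw [← Subgroup.map_comap_eq_self_of_surjective (QuotientGroup.mk'_surjective N)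
      (pPrimeCore r (G ⧸ N)), ← hπ, ← hW, hWN, hπ, Subgroup.map_eq_bot_iff,
      QuotientGroup.ker_mk']
  have hY0 := hlift p h1
  have hY0' := hlift q h2
  have hY : IsPSolvable p (G ⧸ N) :=
    Solv.isPSolvable_map hpp hps π (QuotientGroup.mk'_surjective N)
  have hcore : pCore p (G ⧸ N) = ⊥ := by
    haveI : (pCore p (G ⧸ N)).Normal := Solv.pCore_normal p
    refine eq_bot_iff.2 (hY0' ▸ Fusion.le_pPrimeCore ?_)
    obtain ⟨n, hn⟩ := IsPGroup.iff_card.mp (Fusion.isPGroup_pCore p (G ⧸ N))
    rw [hn]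
    exact ((Nat.coprime_primes hpp hqq).mpr hne).pow_left n
  have hc := centralizer_pCore_le_of_pSolvable hY hY0
  rw [hcore] at hc
  refine hne1 ((Subgroup.eq_top_iff' N).mpr fun g => (QuotientGroup.eq_one_iff g).mp ?_)
  refine Subgroup.mem_bot.mp (hc (Subgroup.mem_centralizer_iff.mpr fun y hy => ?_))
  rw [Subgroup.coe_bot, Set.mem_singleton_iff] at hy
  rw [hy, one_mul, mul_one]

end Cfsg.Agent.Char.TwoPrimes
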