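import Cfsg.Agent.Lib.Char.Q8Columns
import Cfsg.Agent.Lib.Char.PermLemma
import Cfsg.Agent.Lib.Char.BrauerChar

/-!
# The local characters: quaternion Sylow subgroups with central involution
-/

set_option autoImplicit false
set_option linter.unusedSectionVars false
set_option linter.style.haveILetI false

namespace Cfsg.Agent.Char

open Cfsg
open scoped ComplexConjugate

universe u

theorem sq_mem_center {G : Type u} [Group G] {x : G} (hc : ∀ g : G, x * x * g = g * (x * x)) :
    x * x ∈ Subgroup.center G := Subgroup.mem_center_iff.mpr fun g => (hc g).symm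

variable {C : Type u} [Group C] [Fintype C] {M : Ideal AlgInt} {x : C}

/-- Half the local projective virtual character attached to one of the four characters. -/
noncomputable def q8zeta (x : C) (ψ : IrrCharacter C) : C → ℂ :=
  fun g => 1 + (q8u x ψ : ℂ) * (ψ : C → ℂ) g

/-- The three nontrivial ones of the four. -/
noncomputable def q8three (M : Ideal AlgInt) (x : C) : Finset (IrrCharacter C) := by
  classical
  exact (q8four M x).erase irrOne

theorem mem_q8three {ψ : IrrCharacter C} :
    ψ ∈ q8three M x ↔ ψ ≠ irrOne ∧ ψ ∈ q8four M x := by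
  classical
  simp [q8three]

theorem Q8Fus.orderOf_sq_odd (h : Q8Fus x) {g : C} (hc : ∀ g : C, x * x * g = g * (x * x))
    (hg : ¬ 2 ∣ orderOf g) : IsPPart 2 (x * x * g) (x * x) :=
  ⟨g, rfl, hc g, ⟨1, by rw [h.orderOf_sq, pow_one]⟩, hg⟩

/-- The three kinds of elements. -/
theorem Q8Fus.elem_cases (h : Q8Fus x) (hc : ∀ g : C, x * x * g = g * (x * x)) (g : C) :
    ¬ 2 ∣ orderOf g ∨ ¬ 2 ∣ orderOf (x * x * g) ∨
      (2 ∣ orderOf g ∧ 2 ∣ orderOf (x * x * g) ∧
        ∃ c w : C, c * g * c⁻¹ = x * w ∧ Commute x w ∧ ¬ 2 ∣ orderOf w) := by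
  by_cases hg : 2 ∣ orderOf g
  swap
  · exact Or.inl hg
  by_cases htg : 2 ∣ orderOf (x * x * g)
  swap
  · exact Or.inr (Or.inl htg)
  refine Or.inr (Or.inr ⟨hg, htg, ?_⟩)
  obtain ⟨z, hz⟩ := exists_isPPart Nat.prime_two g
  obtain ⟨w, hw, hzw, hk, hwo⟩ := id hz
  have ht2 : x * x * (x * x) = 1 := by
    rw [← pow_two]
    exact orderOf_dvd_iff_pow_eq_one.mp h.orderOf_sq.dvd
  rcases h.two_element hk with rfl | e | e
  · rw [one_mul] at hw
    exact absurd (hw ▸ hg) hwo
  · obtain ⟨c, hcz⟩ := isConj_iff.mp e.symm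
    rw [← hc c, mul_inv_cancel_right] at hcz
    rw [← hw, ← hcz, ← mul_assoc, ht2, one_mul] at htg
    exact absurd htg hwo
  · obtain ⟨c, hcz⟩ := isConj_iff.mp e
    refine ⟨c, c * w * c⁻¹, ?_, ?_, ?_⟩
    · rw [← hw, ← hcz]; group
    · rw [← hcz]
      simpa [MulAut.conj_apply] using hzw.map (MulAut.conj c)
    · rwa [← MulAut.conj_apply, MulEquiv.orderOf_eq]

theorem Q8Fus.char_on_rest (h : Q8Fus x) (hM : IsPModular 2 M) (χ : IrrCharacter C)
    (hχ : χ ∈ principalBlock M C) {g : C}
    (hg : ∃ c w : C, c * g * c⁻¹ = x * w ∧ Commute x w ∧ ¬ 2 ∣ orderOf w) :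
    (χ : C → ℂ) g = (χ : C → ℂ) x := by
  obtain ⟨c, w, hcw, hxw, hw⟩ := hg
  rw [← isClassFunction_character (irr_isCharacter χ.2) g c, hcw]
  exact h.section_const hM χ hχ hxw hw

/-- The inner product in three sections. -/
theorem Q8Fus.inner_split (h : Q8Fus x) (hc : ∀ g : C, x * x * g = g * (x * x))
    (φ θ : C → ℂ) (a : ℂ)
    (ha : ∀ g : C, 2 ∣ orderOf g → 2 ∣ orderOf (x * x * g) →
      (∃ c w : C, c * g * c⁻¹ = x * w ∧ Commute x w ∧ ¬ 2 ∣ orderOf w) → φ g * conj (θ g) = a) :
    ∃ m : ℕ, classInner φ θ = einner 2 φ θ +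
      einner 2 (fun g => φ (x * x * g)) (fun g => θ (x * x * g)) +
        a * ((Nat.card C : ℂ)⁻¹ * m) ∧
      m = (Finset.univ.filter fun g : C => 2 ∣ orderOf g ∧ 2 ∣ orderOf (x * x * g)).card := by
  classical
  refine ⟨_, ?_, rfl⟩
  have ht2 : x * x * (x * x) = 1 := by
    rw [← pow_two]
    exact orderOf_dvd_iff_pow_eq_one.mp h.orderOf_sq.dvd
  have hexcl : ∀ g : C, ¬ 2 ∣ orderOf g → 2 ∣ orderOf (x * x * g) := by
    intro g hg
    have hco : (orderOf (x * x)).Coprime (orderOf g) := by
      rw [h.orderOf_sq]; exact Nat.prime_two.coprime_iff_not_dvd.mpr hg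
    rw [Commute.orderOf_mul_eq_mul_orderOf_of_coprime (hc g) hco, h.orderOf_sq]
    exact dvd_mul_right 2 _
  have e : ∑ g : C with ¬ 2 ∣ orderOf (x * x * g), φ g * conj (θ g) =
      ∑ g : C with ¬ 2 ∣ orderOf g, φ (x * x * g) * conj (θ (x * x * g)) := by
    rw [Finset.sum_filter, Finset.sum_filter]
    refine Fintype.sum_equiv (Equiv.mulLeft (x * x)) _ _ fun g => ?_
    simp only [Equiv.coe_mulLeft, ← mul_assoc (x * x) (x * x), ht2, one_mul]
  rw [einner_eq_sum, einner_eq_sum, ← e, classInner, ← mul_add, mul_comm a, mul_assoc, ← mul_add]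
  congr 1
  rw [← Finset.sum_filter_add_sum_filter_not (s := Finset.univ) (p := fun g : C => ¬ 2 ∣ orderOf g),
    add_assoc]
  congr 1
  rw [← Finset.sum_filter_add_sum_filter_not
    (s := Finset.univ.filter fun g : C => ¬ ¬ 2 ∣ orderOf g)
    (p := fun g : C => ¬ 2 ∣ orderOf (x * x * g)), Finset.filter_filter, Finset.filter_filter]
  congr 1
  · refine Finset.sum_congr (Finset.ext fun g => ?_) fun _ _ => rfl
    simp only [Finset.mem_filter, Finset.mem_univ, true_and, not_not]
    exact ⟨fun ⟨_, h2⟩ => h2, fun h2 => ⟨by_contra fun h1 => h2 (hexcl g h1), h2⟩⟩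
  · simp only [not_not]
    rw [Finset.sum_congr rfl (g := fun _ => a) fun g hg => ?_, Finset.sum_const, nsmul_eq_mul]
    simp only [Finset.mem_filter, Finset.mem_univ, true_and] at hg
    rcases h.elem_cases hc g with h1 | h1 | ⟨-, -, h1⟩
    · exact absurd hg.1 h1
    · exact absurd hg.2 h1
    · exact ha g hg.1 hg.2 h1

theorem Q8Fus.four_sq_x (h : Q8Fus x) (hM : IsPModular 2 M) {ψ : IrrCharacter C}
    (hψ : ψ ∈ q8four M x) : (q8u x ψ : ℂ) * (q8u x ψ : ℂ) = 1 := by
  exact_mod_cast (h.four_sq hM).1 ψ hψ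

/-- The four are trivial at the central involution. -/
theorem Q8Fus.four_central (h : Q8Fus x) (hc : ∀ g : C, x * x * g = g * (x * x))
    {ψ : IrrCharacter C} (hψ : ψ ∈ q8four M x) (g : C) :
    (ψ : C → ℂ) (x * x * g) = (ψ : C → ℂ) g := by
  have hz := sq_mem_center hc
  have hne : (ψ : C → ℂ) x ≠ 0 := by
    rw [← h.q8u_spec]
    exact Int.cast_ne_zero.mpr (mem_q8four.mp hψ).2
  have h3 : (ψ : C → ℂ) (x * x * x) = (ψ : C → ℂ) x := by
    have e : x * x * x = x⁻¹ := eq_inv_of_mul_eq_one_left (by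
      rw [mul_assoc, ← pow_two]
      exact orderOf_dvd_iff_pow_eq_one.mp h.orderOf_sq.dvd)
    obtain ⟨c, hcx⟩ := isConj_iff.mp h.isConj_inv
    rw [e, ← isClassFunction_character (irr_isCharacter ψ.2) x⁻¹ c, hcx]
  rw [char_central_mul ψ.2 hz] at h3 ⊢
  rw [mul_eq_right₀ hne] at h3
  rw [h3, one_mul]

open scoped Classical in
theorem Q8Fus.four_regular_sum (h : Q8Fus x) (hM : IsPModular 2 M) {g : C}
    (hg : ¬ 2 ∣ orderOf g) : ∑ ψ ∈ q8four M x, (q8u x ψ : ℂ) * (ψ : C → ℂ) g = 0 :=
  h.col_four hM (z := 1) ⟨g, one_mul g, Commute.one_left g, ⟨0, by simp⟩, hg⟩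
    (fun hh => by
      have := h.ord
      rw [isConj_one_right.mp hh, orderOf_one] at this
      omega)

theorem Q8Fus.four_inner_aux (h : Q8Fus x) (hM : IsPModular 2 M)
    (hc : ∀ g : C, x * x * g = g * (x * x)) {ψ ψ' : IrrCharacter C} (hψ : ψ ∈ q8four M x)
    (hψ' : ψ' ∈ q8four M x) [Decidable (ψ = ψ')] :
    (if ψ = ψ' then (1 : ℂ) else 0) = 2 * einner 2 (ψ : C → ℂ) (ψ' : C → ℂ) +
      (q8u x ψ : ℂ) * (q8u x ψ' : ℂ) * ((Nat.card C : ℂ)⁻¹ *
        ((Finset.univ.filter fun g : C => 2 ∣ orderOf g ∧ 2 ∣ orderOf (x * x * g)).card : ℂ)) := by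
  classical
  obtain ⟨m, hm, hm'⟩ := h.inner_split hc (ψ : C → ℂ) (ψ' : C → ℂ)
    ((q8u x ψ : ℂ) * (q8u x ψ' : ℂ)) (fun g _ _ hg => by
      rw [h.char_on_rest hM ψ (mem_q8four.mp hψ).1 hg, h.char_on_rest hM ψ' (mem_q8four.mp hψ').1 hg,
        ← h.q8u_spec, ← h.q8u_spec, map_intCast])
  simp only [h.four_central hc hψ, h.four_central hc hψ'] at hm
  rw [← hm', two_mul, ← hm, irr_orth ψ.2 ψ'.2]
  exact if_congr ⟨fun e => congrArg Subtype.val e, fun e => Subtype.ext e⟩ rfl rfl

/-- The `x`-section is a quarter of the group. -/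
theorem Q8Fus.rest_card (h : Q8Fus x) (hM : IsPModular 2 M)
    (hc : ∀ g : C, x * x * g = g * (x * x)) : (Nat.card C : ℂ)⁻¹ *
      ((Finset.univ.filter fun g : C => 2 ∣ orderOf g ∧ 2 ∣ orderOf (x * x * g)).card : ℂ) = 1 / 4 := by
  classical
  have h1 := h.irrOne_mem_four hM
  set μ := (Nat.card C : ℂ)⁻¹ *
    ((Finset.univ.filter fun g : C => 2 ∣ orderOf g ∧ 2 ∣ orderOf (x * x * g)).card : ℂ)
  have hsum : ∑ ψ ∈ q8four M x, (q8u x ψ : ℂ) * einner 2 ((irrOne : IrrCharacter C) : C → ℂ) (ψ : C → ℂ) = 0 := by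
    simp only [einner_eq_sum, Finset.mul_sum]
    rw [Finset.sum_comm]
    refine Finset.sum_eq_zero fun g hg => ?_
    have e := congrArg conj (h.four_regular_sum hM (Finset.mem_filter.mp hg).2)
    rw [map_zero, map_sum] at e
    calc _ = ((Nat.card C : ℂ)⁻¹ * ((irrOne : IrrCharacter C) : C → ℂ) g) *
          ∑ ψ ∈ q8four M x, conj ((q8u x ψ : ℂ) * (ψ : C → ℂ) g) := by
          rw [Finset.mul_sum]
          exact Finset.sum_congr rfl fun ψ _ => by rw [map_mul, map_intCast]; ring
      _ = 0 := by rw [e, mul_zero]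
  have key : ∀ ψ ∈ q8four M x, (q8u x ψ : ℂ) *
      einner 2 ((irrOne : IrrCharacter C) : C → ℂ) (ψ : C → ℂ) =
      ((if irrOne = ψ then 1 else 0) - μ) / 2 := by
    intro ψ hψ
    have e := h.four_inner_aux hM hc h1 hψ
    rw [h.q8u_one, Int.cast_one, one_mul] at e
    have hu := h.four_sq_x hM hψ
    split_ifs with he
    · subst he
      rw [if_pos rfl, h.q8u_one] at e
      rw [h.q8u_one]
      push_cast at e ⊢
      linear_combination (-1 / 2 : ℂ) * e
    · rw [if_neg he] at e
      linear_combination (-(q8u x ψ : ℂ) / 2) * e - (μ / 2) * hu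
  rw [Finset.sum_congr rfl key, ← Finset.sum_div, Finset.sum_sub_distrib, Finset.sum_ite_eq,
    if_pos h1, Finset.sum_const, (h.four_sq hM).2, div_eq_zero_iff] at hsum
  have := hsum.resolve_right two_ne_zero
  simp only [nsmul_eq_mul, Nat.cast_ofNat] at this
  linear_combination (-1 / 4 : ℂ) * this

theorem Q8Fus.four_inner (h : Q8Fus x) (hM : IsPModular 2 M)
    (hc : ∀ g : C, x * x * g = g * (x * x)) {ψ ψ' : IrrCharacter C} (hψ : ψ ∈ q8four M x)
    (hψ' : ψ' ∈ q8four M x) [Decidable (ψ = ψ')] :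
    einner 2 (ψ : C → ℂ) (ψ' : C → ℂ) =
      ((if ψ = ψ' then (1 : ℂ) else 0) - (q8u x ψ : ℂ) * (q8u x ψ' : ℂ) / 4) / 2 := by
  rw [h.four_inner_aux hM hc hψ hψ', h.rest_card hM hc]
  ring

theorem q8zeta_eq (ψ : IrrCharacter C) :
    q8zeta x ψ = ((irrOne : IrrCharacter C) : C → ℂ) + (q8u x ψ : ℂ) • (ψ : C → ℂ) := by
  funext g
  simp [q8zeta, irrOne_apply]

theorem einner_add_left (a b c : C → ℂ) :
    einner 2 (a + b) c = einner 2 a c + einner 2 b c := by
  simp only [einner, add_mul, classInner_add_left]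

theorem einner_add_right (a b c : C → ℂ) :
    einner 2 a (b + c) = einner 2 a b + einner 2 a c := by
  simp only [einner, classInner_add_right]

theorem einner_smul_left (r : ℂ) (a c : C → ℂ) : einner 2 (r • a) c = r * einner 2 a c := by
  simp only [einner, smul_mul_assoc, classInner_smul_left]

theorem einner_smul_right (r : ℂ) (a c : C → ℂ) : einner 2 a (r • c) = conj r * einner 2 a c := by
  simp only [einner, classInner_smul_right]

theorem Q8Fus.zeta_inner (h : Q8Fus x) (hM : IsPModular 2 M)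
    (hc : ∀ g : C, x * x * g = g * (x * x)) {i j : IrrCharacter C} (hi : i ∈ q8three M x)
    (hj : j ∈ q8three M x) [Decidable (i = j)] :
    einner 2 (q8zeta x i) (q8zeta x j) = if i = j then 1 / 2 else 0 := by
  classical
  obtain ⟨hi1, hi⟩ := mem_q8three.mp hi
  obtain ⟨hj1, hj⟩ := mem_q8three.mp hj
  have h1 := h.irrOne_mem_four hM
  rw [q8zeta_eq, q8zeta_eq]
  simp only [einner_add_left, einner_add_right, einner_smul_left, einner_smul_right, map_intCast,
    h.four_inner hM hc h1 h1, h.four_inner hM hc h1 hj, h.four_inner hM hc hi h1,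
    h.four_inner hM hc hi hj, if_neg hi1, if_neg hj1.symm, if_pos trivial, h.q8u_one, Int.cast_one]
  have hu := h.four_sq_x hM hi
  have hv := h.four_sq_x hM hj
  by_cases hij : i = j
  · subst hij
    simp only [if_pos]
    linear_combination (1 / 2 - 1 / 8 * ((q8u x i : ℂ) * q8u x i + 1) - 1 / 4) * hu
  · simp only [if_neg hij]
    linear_combination (-(q8u x j : ℂ) * q8u x j / 8 - 1 / 8) * hu + (-1 / 4 : ℂ) * hv

theorem Q8Fus.zeta_sum (h : Q8Fus x) (hM : IsPModular 2 M) {g : C} (hg : ¬ 2 ∣ orderOf g) :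
    ∑ j ∈ q8three M x, q8zeta x j g = 2 := by
  classical
  have h1 := h.irrOne_mem_four hM
  have hs := h.four_regular_sum hM hg
  rw [← Finset.add_sum_erase _ _ h1, h.q8u_one, irrOne_apply, Int.cast_one, one_mul] at hs
  have hcard : (q8three M x).card = 3 := by
    have : q8three M x = (q8four M x).erase irrOne := by
      ext ψ; simp [mem_q8three]
    rw [this, Finset.card_erase_of_mem h1, (h.four_sq hM).2]
  have e : q8three M x = (q8four M x).erase irrOne := by ext ψ; simp [mem_q8three]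
  simp only [q8zeta, Finset.sum_add_distrib, Finset.sum_const, hcard, nsmul_eq_mul, mul_one]
  rw [e]
  push_cast
  linear_combination hs

theorem Q8Fus.zeta_central (h : Q8Fus x) (hc : ∀ g : C, x * x * g = g * (x * x))
    {j : IrrCharacter C} (hj : j ∈ q8three M x) (g : C) :
    q8zeta x j (x * x * g) = q8zeta x j g := by
  rw [q8zeta, q8zeta, h.four_central hc (mem_q8three.mp hj).2]

theorem Q8Fus.zeta_rest (h : Q8Fus x) (hM : IsPModular 2 M) {j : IrrCharacter C}
    (hj : j ∈ q8three M x) {g : C}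
    (hg : ∃ c w : C, c * g * c⁻¹ = x * w ∧ Commute x w ∧ ¬ 2 ∣ orderOf w) :
    q8zeta x j g = 2 := by
  have hj' := (mem_q8three.mp hj).2
  rw [q8zeta, h.char_on_rest hM j (mem_q8four.mp hj').1 hg, ← h.q8u_spec, h.four_sq_x hM hj']
  norm_num

/-- The twisted local function. -/
noncomputable def q8eps (x : C) (ψ : IrrCharacter C) : C → ℂ := fun g =>
  if ¬ 2 ∣ orderOf g then q8zeta x ψ g
  else if ¬ 2 ∣ orderOf (x * x * g) then -q8zeta x ψ (x * x * g) else 0

theorem q8eps_class (hc : ∀ g : C, x * x * g = g * (x * x)) (ψ : IrrCharacter C) :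
    IsClassFunction C (q8eps x ψ) := by
  intro a k
  have e1 : x * x * (k * a * k⁻¹) = k * (x * x * a) * k⁻¹ := by
    rw [← mul_assoc, ← mul_assoc, hc k]; group
  have hcf : ∀ b : C, q8zeta x ψ (k * b * k⁻¹) = q8zeta x ψ b := fun b => by
    simp only [q8zeta, isClassFunction_character (irr_isCharacter ψ.2) b k]
  simp only [q8eps, e1, hcf]
  simp only [← MulAut.conj_apply, MulEquiv.orderOf_eq]

theorem Q8Fus.zeta_half (h : Q8Fus x) (hM : IsPModular 2 M)
    (hc : ∀ g : C, x * x * g = g * (x * x)) {j : IrrCharacter C} (hj : j ∈ q8three M x) {y s : C}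
    (hy : orderOf y = 4) (hys : Commute y s) (hs : ¬ 2 ∣ orderOf s) :
    MemLocalRing M (q8zeta x j s / 2) := by
  have hP := pmod_prime hM
  obtain ⟨hj1, hjf⟩ := mem_q8three.mp hj
  obtain ⟨c, hcy⟩ := isConj_iff.mp (h.fus y hy)
  have hval : (j : C → ℂ) (y * s) = (j : C → ℂ) x := by
    rw [← isClassFunction_character (irr_isCharacter j.2) (y * s) c,
      show c * (y * s) * c⁻¹ = c * y * c⁻¹ * (c * s * c⁻¹) by group, hcy]
    refine h.section_const hM j (mem_q8four.mp hjf).1 ?_ ?_
    · rw [← hcy]; simpa [MulAut.conj_apply] using hys.map (MulAut.conj c)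
    · rwa [← MulAut.conj_apply, MulEquiv.orderOf_eq]
  -- pass to the quotient by `x²`
  set Z := Subgroup.zpowers (x * x) with hZ
  haveI : Z.Normal := ⟨fun a ha g => by
    obtain ⟨k, rfl⟩ := Subgroup.mem_zpowers_iff.mp ha
    rw [← (Commute.zpow_left (hc g) k).eq, mul_inv_cancel_right]
    exact ha⟩
  have hker : ∀ a ∈ Z, (j : C → ℂ) a = (j : C → ℂ) 1 := by
    intro a ha
    obtain ⟨k, rfl⟩ := Subgroup.mem_zpowers_iff.mp ha
    rw [← zpow_mod_orderOf, h.orderOf_sq]
    push_cast
    rcases Int.emod_two_eq_zero_or_one k with e | e <;> rw [e]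
    · rw [zpow_zero]
    · rw [zpow_one, ← h.four_central hc hjf 1, mul_one]
  obtain ⟨j', hj'⟩ := exists_deflate Z j.2 hker
  set a : C ⧸ Z := QuotientGroup.mk y
  set b : C ⧸ Z := QuotientGroup.mk s
  have ha : a * a = 1 := by
    rw [← QuotientGroup.mk_mul, QuotientGroup.eq_one_iff, h.sq_eq_of_commute hy (hc y)]
    exact Subgroup.mem_zpowers _
  have hab : Commute a b := hys.map (QuotientGroup.mk' Z)
  have hb : Odd (orderOf b) :=
    Odd.of_dvd_nat (Nat.odd_iff.mpr (Nat.two_dvd_ne_zero.mp hs)) (orderOf_map_dvd (QuotientGroup.mk' Z) s)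
  obtain ⟨z, hz, hze⟩ := char_sub_even (irr_isCharacter j'.2) ha hab hb
  rw [← QuotientGroup.mk_mul, hj', hj', hval, ← h.q8u_spec] at hze
  have e : q8zeta x j s / 2 = 1 + (q8u x j : ℂ) * z := by
    rw [q8zeta]
    linear_combination (q8u x j / 2 : ℂ) * hze + (1 / 2 : ℂ) * h.four_sq_x hM hjf
  rw [e]
  exact memLR_add hP (memLR_one hP)
    (memLR_mul hP (memLR_intCast hP _) (memLocalRing_of_isIntegral hP.ne_top hz))

/-- The local computation on an elementary subgroup. -/
theorem Q8Fus.eps_cosetFun (h : Q8Fus x) (hM : IsPModular 2 M)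
    (hc : ∀ g : C, x * x * g = g * (x * x)) {j : IrrCharacter C} (hj : j ∈ q8three M x) {s : C}
    (hs : ¬ 2 ∣ orderOf s) {P : Subgroup C} (hP : P ≤ Subgroup.centralizer ({s} : Set C))
    (hPl : IsPGroup 2 P) [Fintype (elemSub s P)] :
    IntComb M ((fun e : elemSub s P => q8eps x j e) * cosetFun s P (elemSub s P)) := by
  classical
  have hMp := pmod_prime hM
  set s' : (elemSub s P) := ⟨s, self_mem_elemSub s P⟩ with hs'
  have hPE : P ≤ (elemSub s P) := le_sup_right
  have ht2 : x * x * (x * x) = 1 := by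
    rw [← pow_two]
    exact orderOf_dvd_iff_pow_eq_one.mp h.orderOf_sq.dvd
  refine ⟨fun a k => by
    simp only [Pi.mul_apply, isClassFunction_cosetFun hP a k]
    congr 1
    exact q8eps_class hc j (a : C) (k : C), fun η => ?_⟩
  have hcen : s' ∈ Subgroup.center (elemSub s P) := Subgroup.mem_center_iff.mpr fun v => by
    obtain ⟨c, hc', w, hw, hv⟩ := elemSub_mem hP v.2
    obtain ⟨i, rfl⟩ := Subgroup.mem_zpowers_iff.mp hc'
    refine Subtype.ext ?_
    show (v : C) * s = s * v
    rw [hv]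
    exact (((Commute.refl s).zpow_right i).mul_right (commute_of_le_centralizer hP hw)).eq.symm
  -- support of the product
  have hsupp : ∀ v : (elemSub s P), ((fun e : (elemSub s P) => q8eps x j e) * cosetFun s P (elemSub s P)) v ≠ 0 →
      (v : C) = s ∨ ((v : C) = x * x * s ∧ x * x ∈ P) := by
    intro v hv
    rw [Pi.mul_apply] at hv
    obtain ⟨he, hcs⟩ := mul_ne_zero_iff.mp hv
    simp only [cosetFun] at hcs
    obtain ⟨w, hw, hvw⟩ : ∃ w ∈ P, (v : C) = s * w := by
      by_contra hne
      exact hcs (if_neg hne)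
    have hwk : ∃ k, orderOf w = 2 ^ k := by
      obtain ⟨k, hk⟩ := IsPGroup.iff_orderOf.mp hPl ⟨w, hw⟩
      exact ⟨k, by rwa [Subgroup.orderOf_mk] at hk⟩
    have hsw := commute_of_le_centralizer hP hw
    have hpp : IsPPart 2 (v : C) w := ⟨s, by rw [hvw, hsw.eq], hsw.symm, hwk, hs⟩
    by_cases h1 : ¬ 2 ∣ orderOf (v : C)
    · left
      have := isPPart_unique Nat.prime_two hpp
        ⟨(v : C), one_mul _, Commute.one_left _, ⟨0, by simp⟩, h1⟩
      rw [hvw, this, mul_one]
    · simp only [q8eps, if_neg h1] at he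
      by_cases h2 : ¬ 2 ∣ orderOf (x * x * (v : C))
      · right
        have := isPPart_unique Nat.prime_two hpp
          ⟨x * x * (v : C), by rw [← mul_assoc, ht2, one_mul], hc _, ⟨1, by rw [h.orderOf_sq, pow_one]⟩, h2⟩
        rw [this] at hvw hw
        exact ⟨by rw [hvw, hc s], hw⟩
      · rw [if_neg h2] at he
        exact absurd rfl he
  have hval1 : ((fun e : (elemSub s P) => q8eps x j e) * cosetFun s P (elemSub s P)) s' = q8zeta x j s * orderOf s := by
    rw [Pi.mul_apply, cosetFun, if_pos ⟨1, P.one_mem, by simp [hs']⟩]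
    show q8eps x j s * _ = _
    rw [q8eps, if_pos hs]
  have hω : MemLocalRing M (conj ((η : (elemSub s P) → ℂ) s')) := conj_char_memLR hMp (irr_isCharacter η.2) s'
  have hcard : (Nat.card (elemSub s P) : ℂ) = (orderOf s : ℂ) * (Nat.card P : ℂ) := by
    rw [← Nat.cast_mul, card_elemSub hM.1 hs hP hPl]
  have hs0 : (orderOf s : ℂ) ≠ 0 := Nat.cast_ne_zero.mpr (orderOf_pos s).ne'
  have hP0 : (Nat.card P : ℂ) ≠ 0 := Nat.cast_ne_zero.mpr Nat.card_pos.ne'
  have hzLR : MemLocalRing M (q8zeta x j s) := by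
    rw [q8zeta]
    exact memLR_add hMp (memLR_one hMp)
      (memLR_mul hMp (memLR_intCast hMp _) (memLR_char hMp (irr_isCharacter j.2) s))
  by_cases htP : x * x ∈ P
  swap
  · have hP1 : Nat.card P = 1 := by
      refine Subgroup.card_eq_one.mpr ((Subgroup.eq_bot_iff_forall _).mpr fun w hw => ?_)
      by_contra hw1
      obtain ⟨k, hk⟩ := IsPGroup.iff_orderOf.mp hPl ⟨w, hw⟩
      rw [Subgroup.orderOf_mk] at hk
      rcases h.two_element ⟨k, hk⟩ with e | e | e
      · exact hw1 e
      · obtain ⟨c, hcw⟩ := isConj_iff.mp e.symm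
        rw [← hc c, mul_inv_cancel_right] at hcw
        exact htP (hcw ▸ hw)
      · obtain ⟨c, hcw⟩ := isConj_iff.mp e
        have : w * w = x * x := h.sq_eq_of_commute
          (by rw [← h.ord, ← hcw, ← MulAut.conj_apply, MulEquiv.orderOf_eq]) (hc w)
        exact htP (this ▸ mul_mem hw hw)
    rw [classInner, Finset.sum_eq_single s']
    · rw [hval1, hcard, hP1, Nat.cast_one, mul_one,
        show (orderOf s : ℂ)⁻¹ * (q8zeta x j s * orderOf s * conj ((η : (elemSub s P) → ℂ) s')) =
          q8zeta x j s * conj ((η : (elemSub s P) → ℂ) s') by field_simp]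
      exact memLR_mul hMp hzLR hω
    · intro v _ hv
      rw [mul_eq_zero]
      left
      by_contra hne
      rcases hsupp v hne with e | ⟨-, e⟩
      · exact hv (Subtype.ext e)
      · exact htP e
    · exact fun h' => absurd (Finset.mem_univ _) h'
  set t' : (elemSub s P) := ⟨x * x, hPE htP⟩ with ht'
  have hne : t' * s' ≠ s' := fun e => by
    have := congrArg Subtype.val (mul_eq_right.mp e)
    have h2 := h.orderOf_sq
    simp only [ht', Subgroup.coe_one] at this
    rw [this, orderOf_one] at h2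
    omega
  have hval2 : ((fun e : (elemSub s P) => q8eps x j e) * cosetFun s P (elemSub s P)) (t' * s') =
      -(q8zeta x j s * orderOf s) := by
    rw [Pi.mul_apply, cosetFun, if_pos ⟨x * x, htP, by simp [ht', hs', hc s]⟩]
    show q8eps x j (x * x * s) * _ = _
    have h2 : 2 ∣ orderOf (x * x * s) := by
      have hco : (orderOf (x * x)).Coprime (orderOf s) := by
        rw [h.orderOf_sq]; exact Nat.prime_two.coprime_iff_not_dvd.mpr hs
      rw [Commute.orderOf_mul_eq_mul_orderOf_of_coprime (hc s) hco, h.orderOf_sq]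
      exact dvd_mul_right 2 _
    rw [q8eps, if_neg (not_not.mpr h2), ← mul_assoc, ht2, one_mul, if_pos hs]
    ring
  have htcen : t' ∈ Subgroup.center (elemSub s P) :=
    Subgroup.mem_center_iff.mpr fun v => Subtype.ext (hc (v : C)).symm
  set σ := (η : (elemSub s P) → ℂ) t' / (η : (elemSub s P) → ℂ) 1 with hσdef
  have hts : (η : (elemSub s P) → ℂ) (t' * s') = σ * (η : (elemSub s P) → ℂ) s' := char_central_mul η.2 htcen s'
  have hσ : σ = 1 ∨ σ = -1 := by
    have h1 := char_central_mul η.2 htcen t'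
    rw [show t' * t' = 1 from Subtype.ext ht2] at h1
    have h1' := irr_one_ne_zero η.2
    refine sq_eq_one_iff.mp ?_
    rw [hσdef]
    field_simp at h1 ⊢
    linear_combination -h1
  have hinner : classInner ((fun e : (elemSub s P) => q8eps x j e) * cosetFun s P (elemSub s P)) (η : (elemSub s P) → ℂ) =
      (Nat.card P : ℂ)⁻¹ * (q8zeta x j s * (1 - conj σ) * conj ((η : (elemSub s P) → ℂ) s')) := by
    rw [classInner, Finset.sum_eq_add s' (t' * s') hne.symm]
    · rw [hval1, hval2, hts, hcard, map_mul, mul_inv]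
      field_simp
      ring
    · intro v _ hv
      rw [mul_eq_zero]
      left
      by_contra hne'
      rcases hsupp v hne' with e | ⟨e, -⟩
      · exact hv.1 (Subtype.ext e)
      · exact hv.2 (Subtype.ext e)
    · exact fun h' => absurd (Finset.mem_univ _) h'
    · exact fun h' => absurd (Finset.mem_univ _) h'
  rw [hinner]
  rcases hσ with e | e <;> rw [e]
  · simp only [map_one, sub_self, mul_zero, zero_mul]
    exact memLR_zero hMp
  rw [map_neg, map_one, sub_neg_eq_add]
  have hdvd := h.card_dvd hPl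
  have h2le : 2 ∣ Nat.card P := by
    rw [← h.orderOf_sq]; exact Subgroup.orderOf_dvd_natCard P htP
  obtain ⟨i, hi, hcardP⟩ := (Nat.dvd_prime_pow Nat.prime_two).mp (show Nat.card P ∣ 2 ^ 3 from hdvd)
  interval_cases i
  · rw [hcardP] at h2le; norm_num at h2le
  · rw [hcardP]
    push_cast
    rw [show (2 : ℂ)⁻¹ * (q8zeta x j s * (1 + 1) * conj ((η : (elemSub s P) → ℂ) s')) =
      q8zeta x j s * conj ((η : (elemSub s P) → ℂ) s') by ring]
    exact memLR_mul hMp hzLR hω
  · obtain ⟨y, hy, hy4⟩ := h.exists_order_four hPl (by rw [hcardP]; norm_num)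
    rw [hcardP]
    push_cast
    rw [show (4 : ℂ)⁻¹ * (q8zeta x j s * (1 + 1) * conj ((η : (elemSub s P) → ℂ) s')) =
      q8zeta x j s / 2 * conj ((η : (elemSub s P) → ℂ) s') by ring]
    exact memLR_mul hMp (h.zeta_half hM hc hj hy4 (commute_of_le_centralizer hP hy).symm hs) hω
  · obtain ⟨y, hy, hy4⟩ := h.exists_order_four hPl (by rw [hcardP]; norm_num)
    obtain ⟨a, ha, b, hb, hab⟩ := h.exists_commutator hPl hcardP
      (fun v _ => Subgroup.mem_centralizer_singleton_iff.mpr (hc v).symm)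
    obtain ⟨d, hd⟩ := charOne_eq_natCast (irr_isCharacter η.2)
    have heven : ∃ d' : ℕ, d = 2 * d' := by
      obtain ⟨dd, ρ, hρ, hη⟩ := η.2
      have hdd : d = dd := by
        rw [← hη, Representation.char_one, Module.finrank_fin_fun] at hd
        exact_mod_cast hd.symm
      subst hdd
      have hz : ρ t' = -(1 : Module.End ℂ (Fin d → ℂ)) := by
        haveI := hρ
        have hsc : ρ t' = omega ρ.character t' • LinearMap.id := by
          rw [← classSum_eq_omega ρ t', Finset.sum_eq_single t']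
          · intro w hw hne'
            obtain ⟨c, hc'⟩ := isConj_iff.mp (show IsConj t' w by simpa using hw)
            exact absurd (by rw [← hc', Subgroup.mem_center_iff.mp htcen c, mul_inv_cancel_right]) hne'
          · intro h'
            refine absurd ?_ h'
            simp only [Finset.mem_filter, Finset.mem_univ, true_and]
            exact IsConj.refl _
        have htr : ρ.character t' = omega ρ.character t' * d := by
          simp only [Representation.character]
          conv_lhs => rw [hsc]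
          rw [map_smul, LinearMap.trace_id, Module.finrank_fin_fun, smul_eq_mul]
        have hd0 : (d : ℂ) ≠ 0 := hd ▸ irr_one_ne_zero η.2
        have hω' : omega ρ.character t' = -1 := by
          rw [hσdef, hd, ← hη, htr, mul_div_cancel_right₀ _ hd0] at e
          exact e
        rw [hsc, hω', ← Module.End.one_eq_id]
        ext v
        simp
      have hdet : LinearMap.det (ρ t') = 1 := by
        have e' : t' = ⟨a, hPE ha⟩ * ⟨b, hPE hb⟩ * (⟨a, hPE ha⟩ : (elemSub s P))⁻¹ * (⟨b, hPE hb⟩ : (elemSub s P))⁻¹ :=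
          Subtype.ext hab.symm
        let D := (LinearMap.det : Module.End ℂ (Fin d → ℂ) →* ℂ).comp ρ
        show D t' = 1
        rw [e', map_mul, map_mul, map_mul,
          show ∀ p q r w : ℂ, p * q * r * w = p * r * (q * w) from fun p q r w => by ring,
          ← map_mul, ← map_mul, mul_inv_cancel, mul_inv_cancel, map_one, one_mul]
      rw [hz, show -(1 : Module.End ℂ (Fin d → ℂ)) = (-1 : ℂ) • 1 from LinearMap.ext fun v => by simp,
        LinearMap.det_smul, Module.finrank_fin_fun, map_one, mul_one] at hdet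
      rcases Nat.even_or_odd' d with ⟨d', hd' | hd'⟩
      · exact ⟨d', hd'⟩
      · rw [hd', pow_succ, pow_mul, neg_one_sq, one_pow, one_mul] at hdet
        norm_num at hdet
    obtain ⟨d', rfl⟩ := heven
    have hωs : MemLocalRing M (conj ((η : (elemSub s P) → ℂ) s' / (η : (elemSub s P) → ℂ) 1)) := by
      refine memLocalRing_of_isIntegral hMp.ne_top (map_isIntegral_int (starRingEnd ℂ) ?_)
      have h1 := omega_isIntegral η.2 s'
      have hone : Nat.card {g : (elemSub s P) // IsConj s' g} = 1 := by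
        refine Nat.card_eq_one_iff_unique.mpr ⟨⟨fun u v => Subtype.ext ?_⟩, ⟨⟨s', IsConj.refl _⟩⟩⟩
        obtain ⟨c, hc1⟩ := isConj_iff.mp u.2
        obtain ⟨c', hc2⟩ := isConj_iff.mp v.2
        rw [← hc1, ← hc2, Subgroup.mem_center_iff.mp hcen c, Subgroup.mem_center_iff.mp hcen c',
          mul_inv_cancel_right, mul_inv_cancel_right]
      rw [omega, hone, Nat.cast_one, one_mul] at h1
      exact h1
    rw [hcardP]
    rw [show (((2 ^ 3 : ℕ)) : ℂ)⁻¹ * (q8zeta x j s * (1 + 1) * conj ((η : (elemSub s P) → ℂ) s')) =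
      q8zeta x j s / 2 * ((d' : ℂ) * conj ((η : (elemSub s P) → ℂ) s' / (η : (elemSub s P) → ℂ) 1)) by
      rw [hd, map_div₀, map_natCast]
      have hd0 : ((2 * d' : ℕ) : ℂ) ≠ 0 := hd ▸ irr_one_ne_zero η.2
      push_cast at hd0 ⊢
      have : (d' : ℂ) ≠ 0 := fun h0 => hd0 (by rw [h0, mul_zero])
      field_simp
      ring]
    exact memLR_mul hMp (h.zeta_half hM hc hj hy4 (commute_of_le_centralizer hP hy).symm hs)
      (memLR_mul hMp (memLR_natCast hMp _) hωs)

/-- The twisted function is a local-integral combination of characters. -/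
theorem Q8Fus.eps_intComb (h : Q8Fus x) (hM : IsPModular 2 M)
    (hc : ∀ g : C, x * x * g = g * (x * x)) {j : IrrCharacter C} (hj : j ∈ q8three M x) :
    IntComb M (q8eps x j) := by
  classical
  have hP := pmod_prime hM
  have hθ := q8eps_class hc j
  have hzLR : ∀ g, MemLocalRing M (q8zeta x j g) := fun g => by
    rw [q8zeta]
    exact memLR_add hP (memLR_one hP)
      (memLR_mul hP (memLR_intCast hP _) (memLR_char hP (irr_isCharacter j.2) g))
  have hval : ∀ g, MemLocalRing M (q8eps x j g) := fun g => by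
    rw [q8eps]
    split_ifs <;>
      first | exact hzLR _ | exact memLR_neg hP (hzLR _) | exact memLR_zero hP
  have hsec : ∀ s : C, ¬ 2 ∣ orderOf s → IntComb M (q8eps x j * secInd 2 s) := by
    intro s hs
    obtain ⟨P, N, hPC, hPl, happ⟩ := secInd_approx hM hs
    have := Fintype.ofFinite (elemSub s P)
    set φ := cosetFun s P (elemSub s P)
    set f := indFun (elemSub s P) φ with hf
    have hθf : IntComb M (q8eps x j * f) := by
      rw [hf, indFun_mul_restrict _ _ hθ]
      exact intComb_ind hP _ (h.eps_cosetFun hM hc hj hs hPC hPl)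
    have hpow : IntComb M (q8eps x j * f ^ (N + 1)) := by
      rw [pow_succ', ← mul_assoc]
      exact intComb_mul hP hθf (intComb_pow hP (intComb_ind hP _ (intComb_cosetFun hM hs hPC hPl)) N)
    have herr : IntComb M (q8eps x j * f ^ (N + 1) - q8eps x j * secInd 2 s) := by
      refine intComb_of_dvd hM (fun a k => ?_) fun g => ?_
      · simp only [Pi.sub_apply, Pi.mul_apply, hθ a k, isClassFunction_secInd hM.1 s a k]
        have := hpow.1 a k
        simp only [Pi.mul_apply, hθ a k] at this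
        rw [this]
      · obtain ⟨y, hy, e⟩ := happ g
        refine ⟨q8eps x j g * y, memLR_mul hP (hval g) hy, ?_⟩
        simp only [Pi.sub_apply, Pi.mul_apply, Pi.pow_apply]
        rw [← mul_sub, e]; ring
    have := intComb_sub hP hpow herr
    rwa [sub_sub_cancel] at this
  have := Fintype.ofFinite (ConjClasses C)
  obtain ⟨rep, hrep⟩ := exists_preg_expansion (G := C) hM.1
  have h1 := hrep (fun _ => 1) (fun _ _ => rfl)
  have e : q8eps x j = ∑ c : ConjClasses C,
      if ¬ 2 ∣ orderOf (rep c) then q8eps x j * secInd 2 (rep c) else 0 := by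
    funext g
    have := congrFun h1 g
    rw [Finset.sum_apply] at this ⊢
    calc q8eps x j g = q8eps x j g * 1 := (mul_one _).symm
      _ = _ := by
        rw [this, Finset.mul_sum]
        refine Finset.sum_congr rfl fun c _ => ?_
        split_ifs <;> simp
  rw [e]
  refine intComb_sum hP _ _ fun c _ => ?_
  split_ifs with h'
  · exact intComb_zero hP
  · exact hsec _ h'

/-- Integrality and parity of the twisted pairing. -/
theorem Q8Fus.pairing_int (h : Q8Fus x) (hM : IsPModular 2 M)
    (hc : ∀ g : C, x * x * g = g * (x * x)) {j : IrrCharacter C} (hj : j ∈ q8three M x)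
    {φ : C → ℂ} (hφ : IsCharacter C φ) (u : ℤ)
    (hu : ∀ g : C, (∃ c w : C, c * g * c⁻¹ = x * w ∧ Commute x w ∧ ¬ 2 ∣ orderOf w) → φ g = u) :
    ∃ r : ℤ, 4 * einner 2 (fun g => φ (x * x * g)) (q8zeta x j) = r ∧ (2 : ℤ) ∣ r - u := by
  classical
  have hP := pmod_prime hM
  have h1 := h.irrOne_mem_four hM
  obtain ⟨hj1, hjf⟩ := mem_q8three.mp hj
  have hzt : (fun g => q8zeta x j (x * x * g)) = q8zeta x j := funext fun g => h.zeta_central hc hj g
  obtain ⟨n0, hn0⟩ := classInner_natCast hφ (irr_isCharacter (irrOne : IrrCharacter C).2)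
  obtain ⟨n1, hn1⟩ := classInner_natCast hφ (irr_isCharacter j.2)
  obtain ⟨z0, hz0⟩ := exists_int_pow_mul_einner Nat.prime_two hφ (irr_isCharacter (irrOne : IrrCharacter C).2)
  obtain ⟨z1, hz1⟩ := exists_int_pow_mul_einner Nat.prime_two hφ (irr_isCharacter j.2)
  set k := (Nat.card C).factorization 2
  set Ec := einner 2 φ (q8zeta x j) with hEc
  set W := einner 2 (fun g => φ (x * x * g)) (q8zeta x j) with hW
  have hE : (2 : ℂ) ^ k * Ec = ((z0 + q8u x j * z1 : ℤ) : ℂ) := by
    rw [hEc, q8zeta_eq, einner_add_right, einner_smul_right, map_intCast]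
    push_cast at hz0 hz1 ⊢
    linear_combination hz0 + (q8u x j : ℂ) * hz1
  have hPn : classInner φ (q8zeta x j) = ((n0 + q8u x j * n1 : ℤ) : ℂ) := by
    rw [q8zeta_eq, classInner_add_right, classInner_smul_right, map_intCast, hn0, hn1]
    push_cast
    ring
  obtain ⟨m, hm, hmc⟩ := h.inner_split hc φ (q8zeta x j) (2 * (u : ℂ)) (fun g _ _ hg => by
    rw [hu g hg, h.zeta_rest hM hj hg, map_ofNat, mul_comm])
  rw [hzt, hmc, h.rest_card hM hc, hPn] at hm
  -- the twisted product
  obtain ⟨m', hm', -⟩ := h.inner_split hc φ (q8eps x j) 0 (fun g hg htg _ => by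
    rw [q8eps, if_neg (not_not.mpr hg), if_neg (not_not.mpr htg), map_zero, mul_zero])
  have hX : MemLocalRing M (conj (classInner φ (q8eps x j))) := by
    rw [classInner_symm]
    exact intComb_inner hP (h.eps_intComb hM hc hj) hφ
  have he1 : einner 2 φ (q8eps x j) = Ec := by
    rw [hEc, einner_eq_sum, einner_eq_sum]
    congr 1
    exact Finset.sum_congr rfl fun g hg => by rw [q8eps, if_pos (Finset.mem_filter.mp hg).2]
  have ht2 : x * x * (x * x) = 1 := by
    rw [← pow_two]
    exact orderOf_dvd_iff_pow_eq_one.mp h.orderOf_sq.dvd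
  have he2 : einner 2 (fun g => φ (x * x * g)) (fun g => q8eps x j (x * x * g)) = -W := by
    rw [hW, einner_eq_sum, einner_eq_sum, ← mul_neg, ← Finset.sum_neg_distrib]
    congr 1
    refine Finset.sum_congr rfl fun g hg => ?_
    have hg' := (Finset.mem_filter.mp hg).2
    have h2 : 2 ∣ orderOf (x * x * g) := by
      have hco : (orderOf (x * x)).Coprime (orderOf g) := by
        rw [h.orderOf_sq]; exact Nat.prime_two.coprime_iff_not_dvd.mpr hg'
      rw [Commute.orderOf_mul_eq_mul_orderOf_of_coprime (hc g) hco, h.orderOf_sq]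
      exact dvd_mul_right 2 _
    rw [q8eps, if_neg (not_not.mpr h2), ← mul_assoc, ht2, one_mul, if_pos hg', map_neg, mul_neg]
  rw [he1, he2, zero_mul, add_zero] at hm'
  -- a rational which is two-locally integral
  set q : ℚ := 2 * ((z0 + q8u x j * z1 : ℤ) : ℚ) / 2 ^ k + (u : ℚ) / 2 with hq
  have h2k : (2 : ℂ) ^ k ≠ 0 := pow_ne_zero _ two_ne_zero
  have hEq : Ec = ((z0 + q8u x j * z1 : ℤ) : ℂ) / 2 ^ k := by
    rw [← hE, mul_div_cancel_left₀ _ h2k]
  have hqc : (q : ℂ) = 2 * Ec + (u : ℂ) / 2 := by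
    rw [hEq, hq]; push_cast; ring
  have hWr : W = ((n0 + q8u x j * n1 : ℤ) : ℂ) - Ec - (u : ℂ) / 2 := by linear_combination -hm
  have hXeq : classInner φ (q8eps x j) = 2 * Ec + (u : ℂ) / 2 - ((n0 + q8u x j * n1 : ℤ) : ℂ) := by
    rw [hm', hWr]; ring
  have hqLR : MemLocalRing M (q : ℂ) := by
    have e : conj (classInner φ (q8eps x j)) + ((n0 + q8u x j * n1 : ℤ) : ℂ) = (q : ℂ) := by
      rw [hXeq, ← hqc, map_sub, map_intCast, map_ratCast]; ring
    rw [← e]
    exact memLR_add hP hX (memLR_intCast hP _)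
  have hden := rat_den_not_dvd hM hqLR
  have hdvd : q.den ∣ 2 ^ (k + 1) := by
    have e : q = ((4 * (z0 + q8u x j * z1) + u * 2 ^ k : ℤ) : ℚ) / ((2 ^ (k + 1) : ℕ) : ℤ) := by
      rw [hq]
      push_cast
      field_simp
      ring
    rw [e]
    have hh := Rat.den_dvd (4 * (z0 + q8u x j * z1) + u * 2 ^ k) ((2 ^ (k + 1) : ℕ) : ℤ)
    rw [Rat.divInt_eq_div] at hh
    exact_mod_cast hh
  have hint : q.den = 1 := by
    refine Nat.eq_one_of_dvd_coprimes ?_ dvd_rfl hdvd
    exact Nat.Coprime.pow_right _ (Nat.coprime_comm.mp (Nat.prime_two.coprime_iff_not_dvd.mpr hden))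
  refine ⟨4 * (n0 + q8u x j * n1) - 2 * q.num - u, ?_, ?_⟩
  · have hnum : (q.num : ℂ) = (q : ℂ) := by
      exact_mod_cast Rat.coe_int_num_of_den_eq_one hint
    push_cast
    rw [hnum, hqc, hWr]
    push_cast
    ring
  · exact ⟨2 * (n0 + q8u x j * n1) - q.num - u, by ring⟩

/-- The twisted pairing of a member of the block. -/
theorem Q8Fus.block_pairing (h : Q8Fus x) (hM : IsPModular 2 M)
    (hc : ∀ g : C, x * x * g = g * (x * x)) {j : IrrCharacter C} (hj : j ∈ q8three M x)
    (ξ : IrrCharacter C) (hξ : ξ ∈ principalBlock M C) :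
    ∃ r : ℤ, 4 * ((ξ : C → ℂ) (x * x) / (ξ : C → ℂ) 1 * einner 2 (ξ : C → ℂ) (q8zeta x j)) = r ∧
      (2 : ℤ) ∣ r - q8u x ξ := by
  obtain ⟨r, hr, hr2⟩ := h.pairing_int hM hc hj (irr_isCharacter ξ.2) (q8u x ξ)
    (fun g hg => by rw [h.char_on_rest hM ξ hξ hg, h.q8u_spec])
  refine ⟨r, ?_, hr2⟩
  rw [← hr, ← einner_smul_left]
  congr 2
  funext g
  rw [Pi.smul_apply, smul_eq_mul, char_central_mul ξ.2 (sq_mem_center hc)]

/-- The regular parts of the principal block lie in the span of the local functions. -/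
theorem Q8Fus.span_regular (h : Q8Fus x) (hM : IsPModular 2 M)
    (hc : ∀ g : C, x * x * g = g * (x * x)) (ξ : IrrCharacter C) (hξ : ξ ∈ principalBlock M C)
    {g : C} (hg : ¬ 2 ∣ orderOf g) :
    (ξ : C → ℂ) g = ∑ i ∈ q8three M x, 2 * einner 2 (ξ : C → ℂ) (q8zeta x i) * q8zeta x i g := by
  classical
  let D : IrrCharacter C → C → ℂ := fun ξ =>
    (ξ : C → ℂ) - ∑ i ∈ q8three M x, (2 * einner 2 (ξ : C → ℂ) (q8zeta x i)) • q8zeta x i
  suffices hD : einner 2 (D ξ) (D ξ) = 0 by
    rw [einner_eq] at hD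
    have := congrFun (classInner_self_eq_zero hD) g
    rw [Pi.mul_apply, regInd_of_reg hg, mul_one] at this
    simp only [D, Pi.sub_apply, Finset.sum_apply, Pi.smul_apply, smul_eq_mul, Pi.zero_apply,
      sub_eq_zero] at this
    exact this
  have hEreal : ∀ (η : IrrCharacter C), ∀ i ∈ q8three M x,
      conj (einner 2 (η : C → ℂ) (q8zeta x i)) = einner 2 (η : C → ℂ) (q8zeta x i) := by
    intro η i _
    obtain ⟨a, ha⟩ := einner_rat Nat.prime_two (irr_isCharacter η.2) (irr_isCharacter (irrOne : IrrCharacter C).2)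
    obtain ⟨b, hb⟩ := einner_rat Nat.prime_two (irr_isCharacter η.2) (irr_isCharacter i.2)
    rw [q8zeta_eq, einner_add_right, einner_smul_right, ha, hb]
    simp
  have hDD : ∀ η : IrrCharacter C, einner 2 (D η) (D η) = einner 2 (η : C → ℂ) (η : C → ℂ) -
      2 * ∑ i ∈ q8three M x, einner 2 (η : C → ℂ) (q8zeta x i) * einner 2 (η : C → ℂ) (q8zeta x i) := by
    intro η
    have hsub : ∀ a b c : C → ℂ, einner 2 (a - b) c = einner 2 a c - einner 2 b c := fun a b c => by
      simp only [einner, sub_mul, classInner_sub_left]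
    have hsub' : ∀ a b c : C → ℂ, einner 2 a (b - c) = einner 2 a b - einner 2 a c := fun a b c => by
      simp only [einner, classInner_sub_right]
    have hsum : ∀ (f : IrrCharacter C → C → ℂ) (c : C → ℂ), einner 2 (∑ i ∈ q8three M x, f i) c =
        ∑ i ∈ q8three M x, einner 2 (f i) c := fun f c => by
      simp only [einner, Finset.sum_mul, classInner_sum_left]
    have hsum' : ∀ (f : IrrCharacter C → C → ℂ) (a : C → ℂ), einner 2 a (∑ i ∈ q8three M x, f i) =
        ∑ i ∈ q8three M x, einner 2 a (f i) := fun f a => by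
      simp only [einner, classInner_sum_right]
    have hproj : ∀ i ∈ q8three M x, einner 2 (D η) (q8zeta x i) = 0 := by
      intro i hi
      simp only [D, hsub, hsum, einner_smul_left]
      rw [Finset.sum_eq_single i]
      · rw [h.zeta_inner hM hc hi hi, if_pos rfl]; ring
      · intro l hl hli
        rw [h.zeta_inner hM hc hl hi, if_neg hli, mul_zero]
      · exact fun hn => absurd hi hn
    have e : einner 2 (D η) (D η) = einner 2 (D η) (η : C → ℂ) := by
      conv_lhs => arg 3; rw [show D η = (η : C → ℂ) -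
        ∑ i ∈ q8three M x, (2 * einner 2 (η : C → ℂ) (q8zeta x i)) • q8zeta x i from rfl]
      rw [hsub', hsum', Finset.sum_eq_zero (fun i hi => by rw [einner_smul_right, hproj i hi, mul_zero]),
        sub_zero]
    rw [e]
    simp only [D, hsub, hsum, einner_smul_left]
    rw [Finset.mul_sum]
    congr 1
    refine Finset.sum_congr rfl fun i hi => ?_
    have : einner 2 (q8zeta x i) (η : C → ℂ) = einner 2 (η : C → ℂ) (q8zeta x i) := by
      rw [← einner_conj, hEreal η i hi]
    rw [this]; ring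
  have hfour : ∀ η ∈ q8four M x, einner 2 (D η) (D η) = 0 := by
    intro η hη
    rw [hDD, h.four_inner hM hc hη hη, if_pos rfl, h.four_sq_x hM hη]
    have hval : ∀ i ∈ q8three M x, einner 2 (η : C → ℂ) (q8zeta x i) *
        einner 2 (η : C → ℂ) (q8zeta x i) = 1 / 16 := by
      intro i hi
      obtain ⟨hi1, hif⟩ := mem_q8three.mp hi
      rw [q8zeta_eq, einner_add_right, einner_smul_right, map_intCast,
        h.four_inner hM hc hη (h.irrOne_mem_four hM), h.four_inner hM hc hη hif, h.q8u_one]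
      have hu := h.four_sq_x hM hη
      have hv := h.four_sq_x hM hif
      push_cast
      by_cases e1 : η = irrOne
      · subst e1
        rw [if_pos rfl, if_neg hi1.symm, h.q8u_one]
        push_cast
        linear_combination ((q8u x i : ℂ) * q8u x i / 64 + 1 / 64 - 3 / 32) * hv
      · rw [if_neg e1]
        by_cases e2 : η = i
        · subst e2
          rw [if_pos rfl]
          linear_combination (((q8u x η : ℂ) * q8u x η) * ((q8u x η : ℂ) * q8u x η) / 64 -
            5 * ((q8u x η : ℂ) * q8u x η) / 64 + 4 / 64) * hu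
        · rw [if_neg e2]
          linear_combination ((q8u x i : ℂ) * q8u x i + 1) ^ 2 / 64 * hu +
            ((q8u x i : ℂ) * q8u x i + 3) / 64 * hv
    rw [Finset.sum_congr rfl hval]
    rw [Finset.sum_const]
    have hcard : (q8three M x).card = 3 := by
      have : q8three M x = (q8four M x).erase irrOne := by
        ext ψ; simp [mem_q8three]
      rw [this, Finset.card_erase_of_mem (h.irrOne_mem_four hM), (h.four_sq hM).2]
    rw [hcard]
    norm_num
  -- the set of characters seen by the local functions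
  set A : Set (IrrCharacter C) := {η | η ∈ q8four M x ∨
    ∃ i ∈ q8three M x, einner 2 (η : C → ℂ) (q8zeta x i) ≠ 0} with hA
  have hD0 : ∀ η ∈ A, η ∈ principalBlock M C → einner 2 (D η) (D η) = 0 := by
    rintro η (hη | ⟨i, hi, hne⟩) hηB
    · exact hfour η hη
    by_cases hη4 : η ∈ q8four M x
    · exact hfour η hη4
    have hu0 : q8u x η = 0 := by
      by_contra hh
      exact hη4 (mem_q8four.mpr ⟨hηB, hh⟩)
    obtain ⟨r, hr, hr2⟩ := h.block_pairing hM hc hi η hηB
    rw [hu0, sub_zero] at hr2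
    set σ := (η : C → ℂ) (x * x) / (η : C → ℂ) 1
    have hσ : σ * σ = 1 := by
      have h1 := char_central_mul η.2 (sq_mem_center hc) (x * x)
      rw [show x * x * (x * x) = 1 from by
        rw [← pow_two]; exact orderOf_dvd_iff_pow_eq_one.mp h.orderOf_sq.dvd] at h1
      have h1' := irr_one_ne_zero η.2
      simp only [σ]
      field_simp at h1 ⊢
      linear_combination -h1
    -- the norm
    obtain ⟨m, hm, hmc⟩ := h.inner_split hc (η : C → ℂ) (η : C → ℂ) 0 (fun g _ _ hg => by
      rw [h.char_on_rest hM η hηB hg, ← h.q8u_spec, hu0, Int.cast_zero, zero_mul])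
    have hσr : conj σ = σ := by
      rcases sq_eq_one_iff.mp (show σ ^ 2 = 1 by rw [pow_two, hσ]) with e | e <;> rw [e] <;> simp
    have het : einner 2 (fun g => (η : C → ℂ) (x * x * g)) (fun g => (η : C → ℂ) (x * x * g)) =
        einner 2 (η : C → ℂ) (η : C → ℂ) := by
      rw [show (fun g => (η : C → ℂ) (x * x * g)) = σ • (η : C → ℂ) from funext fun g => by
        rw [Pi.smul_apply, smul_eq_mul, char_central_mul η.2 (sq_mem_center hc)]]
      rw [einner_smul_left, einner_smul_right, hσr, ← mul_assoc, hσ, one_mul]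
    rw [irr_self η.2, het, zero_mul, add_zero] at hm
    -- compare
    have hrne : r ≠ 0 := by
      intro hr0
      rw [hr0, Int.cast_zero] at hr
      have hσ0 : σ ≠ 0 := fun e => by rw [e, mul_zero] at hσ; exact zero_ne_one hσ
      simp [hσ0, hne] at hr
    have hr4 : 4 ≤ r * r := by
      obtain ⟨l, rfl⟩ := hr2
      have : l ≠ 0 := fun e => hrne (by rw [e]; rfl)
      have : 0 < l * l := mul_self_pos.mpr this
      nlinarith
    have hreal : ∀ l ∈ q8three M x, einner 2 (η : C → ℂ) (q8zeta x l) =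
        (((einner 2 (η : C → ℂ) (q8zeta x l)).re : ℝ) : ℂ) := fun l hl =>
      (Complex.conj_eq_iff_re.mp (hEreal η l hl)).symm
    set e : IrrCharacter C → ℝ := fun l => (einner 2 (η : C → ℂ) (q8zeta x l)).re
    have hdd : einner 2 (D η) (D η) = ((1 / 2 - 2 * ∑ l ∈ q8three M x, e l * e l : ℝ) : ℂ) := by
      rw [hDD, show einner 2 (η : C → ℂ) (η : C → ℂ) = 1 / 2 by linear_combination (-1 / 2 : ℂ) * hm,
        Finset.sum_congr rfl fun l hl => by rw [hreal l hl]]
      push_cast
      rfl
    have hei : e i * e i * 16 = ((r * r : ℤ) : ℝ) := by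
      have h16 : einner 2 (η : C → ℂ) (q8zeta x i) * einner 2 (η : C → ℂ) (q8zeta x i) * 16 =
          ((r * r : ℤ) : ℂ) := by
        push_cast
        rw [← hr]
        linear_combination (-16 * (einner 2 (η : C → ℂ) (q8zeta x i)) ^ 2) * hσ
      rw [hreal i hi] at h16
      exact_mod_cast h16
    have hge : 1 / 2 ≤ 2 * ∑ l ∈ q8three M x, e l * e l := by
      have h1 := Finset.single_le_sum (f := fun l => e l * e l) (fun l _ => mul_self_nonneg _) hi
      have h2 : (4 : ℝ) ≤ ((r * r : ℤ) : ℝ) := by exact_mod_cast hr4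
      linarith
    have hnn : 0 ≤ (einner 2 (D η) (D η)).re := by
      rw [einner_eq, classInner_self_re, Complex.ofReal_re]
      positivity
    rw [hdd] at hnn ⊢
    rw [Complex.ofReal_re] at hnn
    rw [show (1 / 2 - 2 * ∑ l ∈ q8three M x, e l * e l : ℝ) = 0 by linarith]
    simp
  have hBA : ξ ∈ A := by
    have hclosed : ∀ η ∈ A, ∀ θ ∉ A, einner 2 (η : C → ℂ) (θ : C → ℂ) = 0 := by
      intro η hη θ hθ
      by_cases hs : SameBlock M ((irrOne : IrrCharacter C) : C → ℂ) (η : C → ℂ)
      · have h0 := hD0 η hη hs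
        rw [einner_eq] at h0
        have hz := classInner_self_eq_zero h0
        have hexp : (η : C → ℂ) * regInd 2 =
            (∑ i ∈ q8three M x, (2 * einner 2 (η : C → ℂ) (q8zeta x i)) • q8zeta x i) * regInd 2 := by
          rw [← sub_eq_zero, ← sub_mul]
          exact hz
        rw [einner, hexp, Finset.sum_mul, classInner_sum_left]
        refine Finset.sum_eq_zero fun i hi => ?_
        rw [smul_mul_assoc, classInner_smul_left, ← einner, mul_eq_zero]
        right
        rw [← einner_conj, map_eq_zero]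
        by_contra hne
        exact hθ (Or.inr ⟨i, hi, hne⟩)
      · exfalso
        rcases hη with hη | ⟨i, hi, hne⟩
        · exact hs (mem_q8four.mp hη).1
        · refine hne ?_
          have hP := pmod_prime hM
          have hi' := (mem_q8four.mp (mem_q8three.mp hi).2).1
          rw [q8zeta_eq, einner_add_right, einner_smul_right,
            einner_eq_zero_of_not_sameBlock hM η irrOne (fun hh => hs (sameBlock_symm hP hh)),
            einner_eq_zero_of_not_sameBlock hM η i
              (fun hh => hs (sameBlock_trans hP hi' (sameBlock_symm hP hh)))]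
          simp
    exact mem_of_linked_closed hM hclosed (Or.inl (h.irrOne_mem_four hM)) hξ
  exact hD0 ξ hBA hξ

end Cfsg.Agent.Char
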