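import Cfsg.Agent.Lib.Char.MajorSubsection
import Cfsg.Agent.Lib.Char.CyclotomicPairs

/-!
# A major subsection of rank at most two

For a major subsection `(x, e)` with `l(e) ≤ 2` the block has at most `p ^ d` characters: either the form of `wI`
on `e` takes no value one, and every character has average contribution at least two, or it splits off a rank
one part.
-/

set_option autoImplicit false
set_option linter.unusedSectionVars false

open Cfsg Polynomial
open scoped ComplexConjugate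

namespace Cfsg.Agent.Char.RankTwo

universe u

section Forms

variable {H : Type u} [Group H] [Fintype H] {M : Ideal AlgInt} {p : ℕ} {e : Set (IrrCharacter H)}

/-- An integral combination of powers. -/
noncomputable def lf (e : Set (IrrCharacter H)) (J : IrrCharacter H → ℕ) (A : IrrCharacter H → ℤ) (μ : ℂ) : ℂ :=
  ∑ η ∈ bset e, (A η : ℂ) * μ ^ J η

/-- The polynomial of `lf A * conj (lf B)`. -/
noncomputable def sesq (N : ℕ) (e : Set (IrrCharacter H)) (J : IrrCharacter H → ℕ) (A B : IrrCharacter H → ℤ) :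
    ℤ[X] :=
  ∑ η ∈ bset e, ∑ φ ∈ bset e, C (A η * B φ) * X ^ (J η + (N - J φ))

theorem aeval_sesq {N : ℕ} (hN : 0 < N) {J : IrrCharacter H → ℕ} (hJ : ∀ η, J η < N) {μ : ℂ} (hμ : μ ^ N = 1)
    (A B : IrrCharacter H → ℤ) : aeval μ (sesq N e J A B) = lf e J A μ * conj (lf e J B μ) := by
  have hμ0 : μ ≠ 0 := fun h => by rw [h, zero_pow hN.ne'] at hμ; exact zero_ne_one hμ
  have hcj : conj μ = μ⁻¹ := (Complex.inv_eq_conj (Complex.norm_eq_one_of_pow_eq_one hμ hN.ne')).symm
  simp only [sesq, lf, map_sum, map_mul, aeval_C, map_pow, aeval_X, map_intCast, hcj, Finset.sum_mul_sum,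
    eq_intCast, Int.cast_mul]
  refine Finset.sum_congr rfl fun η _ => Finset.sum_congr rfl fun φ _ => ?_
  rw [pow_add, pow_sub₀ _ hμ0 (hJ φ).le, hμ, one_mul, inv_pow]
  ring

/-- `wI` is a multiple of a projection. -/
theorem sum_wI_mul (hM : IsPModular p M) (he : IsPBlock M e) {η φ : IrrCharacter H} (hη : η ∈ e) :
    ∑ θ ∈ bset e, wI p e η θ * wI p e θ φ = (p : ℤ) ^ blockDefect p e * wI p e η φ := by
  classical
  have hP := pmod_prime hM
  apply Int.cast_injective (α := ℂ)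
  push_cast
  rw [Finset.sum_congr rfl (g := fun θ : IrrCharacter H => (p : ℂ) ^ blockDefect p e * (p : ℂ) ^ blockDefect p e *
    (einner p (η : H → ℂ) (θ : H → ℂ) * einner p (θ : H → ℂ) (φ : H → ℂ))) fun θ hθ => by
      rw [wI_cast_eq hM he hη, wI_cast_eq hM he (mem_bset.mp hθ)]; ring,
    ← Finset.mul_sum, wI_cast_eq hM he hη, ← sum_einner_mul η φ,
    Finset.sum_subset (Finset.subset_univ (bset e)) fun θ _ hθ => by
      rw [einner_eq_zero_of_not_sameBlock hM η θ
        (fun h => hθ (mem_bset.mpr ((mem_block_iff hP he hη θ).mpr h))), zero_mul]]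
  ring

variable (p e) in
/-- The image of `v` under `wI`. -/
noncomputable def imW (v : IrrCharacter H → ℤ) (θ : IrrCharacter H) : ℤ := ∑ η ∈ bset e, wI p e θ η * v η

variable (p e) in
/-- The form of `wI`. -/
noncomputable def formW (v v' : IrrCharacter H → ℤ) : ℤ := ∑ θ ∈ bset e, v θ * imW p e v' θ

theorem formW_comm (hM : IsPModular p M) (v v' : IrrCharacter H → ℤ) : formW p e v v' = formW p e v' v := by
  simp only [formW, imW, Finset.mul_sum]
  rw [Finset.sum_comm]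
  exact Finset.sum_congr rfl fun θ _ => Finset.sum_congr rfl fun η _ => by rw [wI_symm hM η θ]; ring

theorem sum_imW_mul (hM : IsPModular p M) (he : IsPBlock M e) (v v' : IrrCharacter H → ℤ) :
    ∑ θ ∈ bset e, imW p e v θ * imW p e v' θ = (p : ℤ) ^ blockDefect p e * formW p e v v' := by
  simp only [formW, imW, Finset.sum_mul_sum]
  simp only [Finset.mul_sum]
  rw [Finset.sum_comm]
  refine Finset.sum_congr rfl fun η hη => ?_
  rw [Finset.sum_comm]
  refine Finset.sum_congr rfl fun φ _ => ?_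
  rw [show (p : ℤ) ^ blockDefect p e * (v η * (wI p e η φ * v' φ)) =
    ((p : ℤ) ^ blockDefect p e * wI p e η φ) * (v η * v' φ) by ring, ← sum_wI_mul hM he (mem_bset.mp hη),
    Finset.sum_mul]
  exact Finset.sum_congr rfl fun θ _ => by rw [wI_symm hM θ η]; ring

end Forms

variable {G : Type u} [Group G] [Fintype G] {M : Ideal AlgInt} {p k : ℕ} {x : G}
  [Fintype (Subgroup.centralizer ({x} : Set G))]
  {B : Set (IrrCharacter G)} {e : Set (IrrCharacter (Subgroup.centralizer ({x} : Set G)))}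

open scoped Classical in
/-- The vectors `W a_χ` have Gram matrix `p ^ d • W`. -/
theorem sum_lf_mul_conj (hM : IsPModular p M) (hx : ∃ k : ℕ, orderOf x = p ^ k)
    (hind : IsInducedBlock M (Subgroup.centralizer ({x} : Set G)) e B) {N : ℕ} (hN : 0 < N) {ω : ℂ}
    (hω : ω ^ N = 1) {J : IrrCharacter (Subgroup.centralizer ({x} : Set G)) → ℕ}
    (hz : ∀ (η : IrrCharacter (Subgroup.centralizer ({x} : Set G))) (c : Subgroup.centralizer ({x} : Set G)),
      (η : Subgroup.centralizer ({x} : Set G) → ℂ) (⟨x, Subgroup.mem_centralizer_singleton_iff.mpr rfl⟩ * c) =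
        ω ^ J η * (η : Subgroup.centralizer ({x} : Set G) → ℂ) c)
    {θ θ' : IrrCharacter (Subgroup.centralizer ({x} : Set G))} (hθ : θ ∈ e) (hθ' : θ' ∈ e) :
    ∑ χ : IrrCharacter G with χ ∈ B,
        lf e J (fun η => wI p e θ η * (mRes x χ η : ℤ)) ω * conj (lf e J (fun η => wI p e θ' η * (mRes x χ η : ℤ)) ω) =
      (p : ℂ) ^ blockDefect p e * (wI p e θ θ' : ℂ) := by
  have he := hind.1
  set R := Finset.univ.filter fun s : Subgroup.centralizer ({x} : Set G) => ¬ p ∣ orderOf s with hR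
  set c : ℂ := (p : ℂ) ^ blockDefect p e * (Nat.card (Subgroup.centralizer ({x} : Set G)) : ℂ)⁻¹ with hc
  have hlf : ∀ (χ : IrrCharacter G) (φ : IrrCharacter (Subgroup.centralizer ({x} : Set G))),
      lf e J (fun η => wI p e φ η * (mRes x χ η : ℤ)) ω =
        c * ∑ s ∈ R, MajorSub.locFun e (fun η => ω ^ J η) χ s *
          conj ((φ : Subgroup.centralizer ({x} : Set G) → ℂ) s) := by
    intro χ φ
    simp only [lf, MajorSub.locFun, Finset.sum_mul, Finset.mul_sum]
    conv_rhs => rw [Finset.sum_comm]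
    refine Finset.sum_congr (by ext; simp [mem_bset]) fun η hη => ?_
    rw [Int.cast_mul, wI_comm_cast hM e φ η,
      wI_cast_eq hM he (Finset.mem_filter.mp hη).2 φ, MajorSub.einner_eq_avg, hc]
    simp only [Finset.mul_sum, Finset.sum_mul, Int.cast_natCast]
    exact Finset.sum_congr rfl fun s _ => by ring
  have hloc : ∀ s ∈ R, ∀ t ∈ R,
      ∑ χ : IrrCharacter G with χ ∈ B, MajorSub.locFun e (fun η => ω ^ J η) χ s *
          conj (MajorSub.locFun e (fun η => ω ^ J η) χ t) =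
        ∑ η : IrrCharacter (Subgroup.centralizer ({x} : Set G)) with η ∈ e,
          (η : Subgroup.centralizer ({x} : Set G) → ℂ) s * conj ((η : Subgroup.centralizer ({x} : Set G) → ℂ) t) := by
    intro s hs t ht
    simp only [← MajorSub.blockPart_secFun_eq hz, mul_comm _ (conj _)]
    exact sum_local_part_mul hM hx hind (Finset.mem_filter.mp hs).2 (Finset.mem_filter.mp ht).2
  have hw : ∀ η φ : IrrCharacter (Subgroup.centralizer ({x} : Set G)), η ∈ e → (wI p e η φ : ℂ) =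
      c * ∑ s ∈ R, (η : Subgroup.centralizer ({x} : Set G) → ℂ) s *
        conj ((φ : Subgroup.centralizer ({x} : Set G) → ℂ) s) := fun η φ hη => by
    rw [wI_cast_eq hM he hη, MajorSub.einner_eq_avg, hc, mul_assoc]
  have hcc : conj c = c := by simp [hc]
  rw [← Int.cast_natCast, ← Int.cast_pow, ← Int.cast_mul, ← sum_wI_mul hM he (φ := θ') hθ, Int.cast_sum]
  simp only [hlf, map_mul, hcc, map_sum, Complex.conj_conj, mul_mul_mul_comm c _ c]
  rw [← Finset.mul_sum]
  simp only [Finset.sum_mul_sum]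
  rw [Finset.sum_comm, bset, Finset.mul_sum]
  have e1 : ∀ η ∈ Finset.univ.filter (fun η : IrrCharacter (Subgroup.centralizer ({x} : Set G)) => η ∈ e),
      ((wI p e θ η * wI p e η θ' : ℤ) : ℂ) = c * c * ∑ s ∈ R, ∑ t ∈ R,
        ((η : Subgroup.centralizer ({x} : Set G) → ℂ) s * conj ((θ : Subgroup.centralizer ({x} : Set G) → ℂ) s)) *
        ((θ' : Subgroup.centralizer ({x} : Set G) → ℂ) t * conj ((η : Subgroup.centralizer ({x} : Set G) → ℂ) t)) := by
    intro η hη
    rw [Int.cast_mul, wI_comm_cast hM e θ η, wI_comm_cast hM e η θ', hw η θ (Finset.mem_filter.mp hη).2,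
      hw θ' η hθ', ← Finset.sum_mul_sum]
    ring
  rw [Finset.sum_congr rfl e1, ← Finset.mul_sum, ← Finset.mul_sum]
  congr 1
  conv_rhs => rw [Finset.sum_comm]
  refine Finset.sum_congr rfl fun s hs => ?_
  rw [Finset.sum_comm]
  conv_rhs => rw [Finset.sum_comm]
  refine Finset.sum_congr rfl fun t ht => ?_
  have h := congrArg (fun z => conj ((θ : Subgroup.centralizer ({x} : Set G) → ℂ) s) *
    (θ' : Subgroup.centralizer ({x} : Set G) → ℂ) t * z) (hloc s hs t ht)
  simp only [Finset.mul_sum] at h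
  exact (Finset.sum_congr rfl fun χ _ => by ring).trans (h.trans (Finset.sum_congr rfl fun η _ => by ring))

open scoped Classical in
set_option maxHeartbeats 6000000 in
/-- A major subsection of rank at most two bounds the block by `p ^ d`. -/
theorem card_le_pow (hM : IsPModular p M) (hk : orderOf x = p ^ k)
    (hind : IsInducedBlock M (Subgroup.centralizer ({x} : Set G)) e B)
    (hd : blockDefect p e = blockDefect p B) (hl : blockRank p e ≤ 2) :
    (bset B).card ≤ p ^ blockDefect p B := by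
  have hP := pmod_prime hM
  have hp := hM.1
  have he := hind.1
  set m := p ^ k with hm
  have hm0 : 0 < m := pow_pos hp.pos k
  set N := p * m with hNdef
  have hN0 : 0 < N := Nat.mul_pos hp.pos hm0
  have hNk : N = p ^ (k + 1) := by rw [hNdef, hm, pow_succ']
  obtain ⟨ω, hω⟩ : ∃ ω : ℂ, IsPrimitiveRoot ω N := ⟨_, Complex.isPrimitiveRoot_exp _ hN0.ne'⟩
  obtain ⟨j, hj, hzj⟩ := MajorSub.exists_expo hk (ω := ω ^ p) (hω.pow hN0 hNdef)
  set J := fun η => p * j η with hJdef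
  have hJ : ∀ η, J η < N := fun η => Nat.mul_lt_mul_of_pos_left (hj η) hp.pos
  have hz : ∀ (η : IrrCharacter (Subgroup.centralizer ({x} : Set G))) (c : Subgroup.centralizer ({x} : Set G)), (η : Subgroup.centralizer ({x} : Set G) → ℂ)
      (⟨x, Subgroup.mem_centralizer_singleton_iff.mpr rfl⟩ * c) =
        ω ^ J η * (η : Subgroup.centralizer ({x} : Set G) → ℂ) c := fun η c => by
    rw [hzj, hJdef, pow_mul]
  have hzk : ∀ η, (ω ^ J η) ^ p ^ k = 1 := fun η => by
    rw [← pow_mul, show J η * p ^ k = N * j η by rw [hJdef, hNdef, hm]; ring, pow_mul, hω.pow_eq_one, one_pow]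
  set q : ℕ := p ^ blockDefect p e with hq
  have hq0 : 0 < q := pow_pos hp.pos _
  have hqR : (0 : ℝ) < q := by exact_mod_cast hq0
  set U := (Finset.range N).filter (fun u => ¬ p ∣ u) with hU
  have hU1 : 1 ∈ U := Finset.mem_filter.mpr
    ⟨Finset.mem_range.mpr (lt_of_lt_of_le hp.one_lt (Nat.le_mul_of_pos_right p hm0)), hp.not_dvd_one⟩
  have hUcard : (0 : ℝ) < U.card := by exact_mod_cast Finset.card_pos.mpr ⟨1, hU1⟩
  have hμN : ∀ u : ℕ, (ω ^ u) ^ N = 1 := fun u => by rw [← pow_mul, mul_comm, pow_mul, hω.pow_eq_one, one_pow]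
  have hω' : IsPrimitiveRoot ω (p ^ (k + 1)) := hNk ▸ hω
  have htrans : ∀ {T : ℤ[X]}, aeval ω T = 0 → ∀ u ∈ U, aeval (ω ^ u) T = 0 := fun h u hu =>
    CycInt.root_pow hω' hp h ((hp.coprime_iff_not_dvd.mpr (Finset.mem_filter.mp hu).2).symm.pow_right _)
  -- the vectors
  set FA := fun (χ : IrrCharacter G) (θ η : IrrCharacter (Subgroup.centralizer ({x} : Set G))) =>
    wI p e θ η * (mRes x χ η : ℤ) with hFA
  set V := fun (χ : IrrCharacter G) (μ : ℂ) θ => lf e J (FA χ θ) μ with hV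
  have hkey1 : ∀ (χ ψ : IrrCharacter G) (μ : ℂ), μ ^ N = 1 →
      (q : ℂ) * ctr p e (fun η => μ ^ J η) χ ψ = ∑ θ ∈ bset e, V χ μ θ * conj (V ψ μ θ) := by
    intro χ ψ μ hμ
    have hcj : conj μ = μ⁻¹ :=
      (Complex.inv_eq_conj (Complex.norm_eq_one_of_pow_eq_one hμ hN0.ne')).symm
    simp only [hV, lf, hFA, map_sum, map_mul, Int.cast_mul, map_intCast, map_pow, hcj, inv_pow,
      Int.cast_natCast, map_natCast, Finset.sum_mul_sum]
    rw [Finset.sum_comm, ctr, Finset.mul_sum]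
    refine Finset.sum_congr (by ext; simp [mem_bset]) fun η hη => ?_
    rw [Finset.sum_comm, Finset.mul_sum]
    refine Finset.sum_congr (by ext; simp [mem_bset]) fun φ _ => ?_
    have h1 := sum_wI_mul hM he (φ := φ) (mem_bset.mp hη)
    have h2 := congrArg (fun t : ℤ => (t : ℂ) * ((mRes x χ η : ℂ) * (mRes x ψ φ : ℂ) *
      (μ ^ J η * (μ ^ J φ)⁻¹))) h1
    simp only [Int.cast_sum, Int.cast_mul, Int.cast_pow, Int.cast_natCast, Finset.sum_mul] at h2
    refine Eq.trans ?_ (h2.symm.trans (Finset.sum_congr rfl fun θ _ => ?_))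
    · rw [hq]; push_cast; ring
    · rw [wI_symm hM η θ]; ring
  have hnsq : ∀ (χ : IrrCharacter G) (μ : ℂ), μ ^ N = 1 → (q : ℂ) * ctr p e (fun η => μ ^ J η) χ χ =
      ((∑ θ ∈ bset e, Complex.normSq (V χ μ θ) : ℝ) : ℂ) := fun χ μ hμ => by
    rw [hkey1 χ χ μ hμ]; push_cast
    exact Finset.sum_congr rfl fun θ _ => Complex.mul_conj _
  -- the Gram matrix on every conjugate
  have hgram : ∀ u ∈ U, ∀ v v' : IrrCharacter (Subgroup.centralizer ({x} : Set G)) → ℤ,
      ∑ χ : IrrCharacter G with χ ∈ B,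
        (∑ θ ∈ bset e, (v θ : ℂ) * V χ (ω ^ u) θ) * conj (∑ θ ∈ bset e, (v' θ : ℂ) * V χ (ω ^ u) θ) =
      (q : ℂ) * (formW p e v v' : ℂ) := by
    intro u hu v v'
    have h1 : ∀ θ ∈ bset e, ∀ θ' ∈ bset e,
        ∑ χ : IrrCharacter G with χ ∈ B, V χ (ω ^ u) θ * conj (V χ (ω ^ u) θ') = (q : ℂ) * (wI p e θ θ' : ℂ) := by
      intro θ hθ θ' hθ'
      have h0 : aeval ω (∑ χ : IrrCharacter G with χ ∈ B, sesq N e J (FA χ θ) (FA χ θ') -
          C ((q : ℤ) * wI p e θ θ')) = 0 := by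
        simp only [map_sub, map_sum, aeval_C, aeval_sesq hN0 hJ hω.pow_eq_one, hFA]
        rw [sum_lf_mul_conj hM ⟨k, hk⟩ hind hN0 hω.pow_eq_one hz (mem_bset.mp hθ) (mem_bset.mp hθ'), sub_eq_zero]
        simp [hq]
      have h2 := htrans h0 u hu
      simp only [map_sub, map_sum, aeval_C, aeval_sesq hN0 hJ (hμN u), sub_eq_zero] at h2
      simp only [hV]
      rw [h2]
      simp
    simp only [map_sum, map_mul, map_intCast, Finset.sum_mul_sum]
    simp only [formW, imW, Finset.mul_sum, Int.cast_sum, Int.cast_mul]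
    rw [Finset.sum_comm]
    refine Finset.sum_congr rfl fun θ hθ => ?_
    rw [Finset.sum_comm]
    refine Finset.sum_congr rfl fun θ' hθ' => ?_
    have h2 := congrArg (fun z : ℂ => (v θ : ℂ) * (v' θ' : ℂ) * z) (h1 θ hθ θ' hθ')
    simp only [Finset.mul_sum] at h2
    exact (Finset.sum_congr rfl fun χ _ => by ring).trans (h2.trans (by ring))
  -- totals
  set T := fun χ : IrrCharacter G => ∑ u ∈ U, ∑ θ ∈ bset e, Complex.normSq (V χ (ω ^ u) θ) with hT
  set S := Finset.univ.filter fun χ : IrrCharacter G => χ ∈ B with hS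
  have htot : ∑ χ ∈ S, T χ = (U.card : ℝ) * ((q : ℝ) * ((q : ℝ) * (blockRank p e : ℝ))) := by
    rw [Finset.sum_comm, ← nsmul_eq_mul, ← Finset.sum_const]
    refine Finset.sum_congr rfl fun u hu => ?_
    apply Complex.ofReal_injective
    rw [Finset.sum_comm]
    push_cast
    have h1 : ∀ θ ∈ bset e, ∑ χ ∈ S, (Complex.normSq (V χ (ω ^ u) θ) : ℂ) = (q : ℂ) * (wI p e θ θ : ℂ) := by
      intro θ hθ
      have h2 := hgram u hu (Pi.single θ 1) (Pi.single θ 1)
      have e1 : ∀ f : IrrCharacter (Subgroup.centralizer ({x} : Set G)) → ℂ,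
          ∑ φ ∈ bset e, ((Pi.single θ (1 : ℤ) : _ → ℤ) φ : ℂ) * f φ = f θ := fun f => by
        rw [Finset.sum_eq_single_of_mem θ hθ fun φ _ hφ => by rw [Pi.single_eq_of_ne hφ, Int.cast_zero, zero_mul],
          Pi.single_eq_same, Int.cast_one, one_mul]
      simp only [e1, Complex.mul_conj] at h2
      rw [h2, formW, Finset.sum_eq_single_of_mem θ hθ fun φ _ hφ => by rw [Pi.single_eq_of_ne hφ, zero_mul],
        Pi.single_eq_same, one_mul, imW,
        Finset.sum_eq_single_of_mem θ hθ fun φ _ hφ => by rw [Pi.single_eq_of_ne hφ, mul_zero],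
        Pi.single_eq_same, mul_one]
    rw [Finset.sum_congr rfl h1, ← Finset.mul_sum, ← Int.cast_sum, ← pow_mul_blockRank hM he, hq]
    push_cast
    ring
  obtain ⟨χ0, hχ0, h00⟩ := exists_height_zero (p := p) (block_nonempty hP hind.2.1)
  have hc0 : ∀ χ ∈ B, ctr p e (fun η => ω ^ J η) χ χ0 ≠ 0 := by
    intro χ hχ h0
    obtain ⟨w, -, hw, hwiff⟩ := MajorSub.major_unit hz hzk hM hk hind hd hχ hχ0
    rw [h0, eq_comm, mul_eq_zero, or_iff_right (pow_ne_zero _ (Nat.cast_ne_zero.mpr hp.ne_zero))] at hw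
    exact hwiff.mp (hw ▸ memLI_zero hP) h00
  have hVne : ∀ χ ∈ B, ∃ θ ∈ bset e, V χ ω θ ≠ 0 := by
    intro χ hχ
    by_contra hno
    push Not at hno
    have h := hkey1 χ χ0 ω hω.pow_eq_one
    rw [Finset.sum_eq_zero fun θ hθ => by rw [hno θ hθ, zero_mul], mul_eq_zero,
      or_iff_right (Nat.cast_ne_zero.mpr hq0.ne')] at h
    exact hc0 χ hχ h
  -- positive heights
  have hheight : ∀ χ ∈ B, (U.card : ℝ) * ((q : ℝ) * (p : ℝ) ^ blockHeight p B (χ : G → ℂ)) ≤ T χ := by
    intro χ hχ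
    haveI : NeZero (p ^ (k + 1)) := ⟨pow_ne_zero _ hp.ne_zero⟩
    set h := blockHeight p B (χ : G → ℂ) with hh
    obtain ⟨w, hwR, hw, -⟩ := MajorSub.major_unit hz hzk hM hk hind hd hχ hχ
    set P := MajorSub.pol p N e J χ χ with hPdef
    set R := P %ₘ cyclotomic (p ^ (k + 1)) ℤ with hR
    have hR1 : aeval ω R = ctr p e (fun η => ω ^ J η) χ χ := by
      have := CycInt.aeval_red hω' hp P (u := 1) (Nat.coprime_one_left _)
      rw [pow_one] at this
      rw [hR, this, hPdef, MajorSub.aeval_pol hJ hω.pow_eq_one]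
    obtain ⟨R', hR'⟩ := CycInt.dvd_of_local hω' hM (CycInt.natDegree_red_lt hω' hp P) hwR (hR1.trans hw)
    have hp0 : (0 : ℝ) < (p : ℝ) ^ h := pow_pos (by exact_mod_cast hp.pos) h
    set r := fun u : (ZMod (p ^ (k + 1)))ˣ =>
      (∑ θ ∈ bset e, Complex.normSq (V χ (ω ^ (u : ZMod (p ^ (k + 1))).val) θ)) / ((q : ℝ) * (p : ℝ) ^ h) with hr
    have hval : ∀ u : (ZMod (p ^ (k + 1)))ˣ, aeval (ω ^ (u : ZMod (p ^ (k + 1))).val) R' = (r u : ℂ) := by
      intro u
      have h1 := CycInt.aeval_red hω' hp P (ZMod.val_coe_unit_coprime u)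
      rw [hR', map_mul, aeval_C, hPdef, MajorSub.aeval_pol hJ (hμN _)] at h1
      have h2 := congrArg (fun c : ℂ => (q : ℂ) * c) h1
      rw [hnsq χ _ (hμN _)] at h2
      rw [hr]
      push_cast at h2 ⊢
      rw [eq_div_iff (mul_ne_zero (Nat.cast_ne_zero.mpr hq0.ne') (pow_ne_zero _ (Nat.cast_ne_zero.mpr hp.ne_zero)))]
      rw [← h2]
      simp only [eq_intCast, Int.cast_pow, Int.cast_natCast, map_pow, map_natCast, hh]
      ring
    have hne : aeval ω R' ≠ 0 := by
      intro h0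
      obtain ⟨θ, hθ, hθne⟩ := hVne χ hχ
      have h1 : (q : ℂ) * ctr p e (fun η => ω ^ J η) χ χ = 0 := by
        rw [← hR1, hR, hR', map_mul, h0, mul_zero, mul_zero]
      rw [hnsq χ ω hω.pow_eq_one, Complex.ofReal_eq_zero,
        Finset.sum_eq_zero_iff_of_nonneg fun _ _ => Complex.normSq_nonneg _] at h1
      exact hθne (Complex.normSq_eq_zero.mp (h1 θ hθ))
    have h3 := CycInt.totient_le_sum_re hω' hp hne r
      (fun u => div_nonneg (Finset.sum_nonneg fun _ _ => Complex.normSq_nonneg _) (by positivity)) hval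
    have hcard : (Fintype.card (ZMod (p ^ (k + 1)))ˣ : ℝ) = (U.card : ℝ) := by
      have := CycInt.sum_units_eq hω' hp (by omega) fun _ => (1 : ℝ)
      rw [hU, hNk]
      simpa using this
    have hsum : ∑ u, r u = T χ / ((q : ℝ) * (p : ℝ) ^ h) := by
      rw [hr, ← Finset.sum_div, CycInt.sum_units_eq hω' hp (by omega)
        (fun n => ∑ θ ∈ bset e, Complex.normSq (V χ (ω ^ n) θ)), hT, hU, hNk]
    rw [hcard, hsum, le_div_iff₀ (by positivity)] at h3
    exact h3
  -- averages of the parts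
  have hy : ∀ (A : IrrCharacter (Subgroup.centralizer ({x} : Set G)) → ℤ) (μ : ℂ), lf e J A μ =
      ∑ s ∈ Finset.range N, ((∑ η ∈ (bset e).filter (fun η => J η = s), A η : ℤ) : ℂ) * μ ^ s := by
    intro A μ
    rw [lf, ← Finset.sum_fiberwise_of_maps_to (t := Finset.range N) (g := J)
      fun η _ => Finset.mem_range.mpr (hJ η)]
    refine Finset.sum_congr rfl fun s _ => ?_
    rw [Int.cast_sum, Finset.sum_mul]
    exact Finset.sum_congr rfl fun η hη => by rw [(Finset.mem_filter.mp hη).2]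
  have havg : ∀ (A : IrrCharacter (Subgroup.centralizer ({x} : Set G)) →
      IrrCharacter (Subgroup.centralizer ({x} : Set G)) → ℤ) (χ : IrrCharacter G) (L : ℝ)
      (P : Finset (IrrCharacter (Subgroup.centralizer ({x} : Set G)))),
      (∀ d : IrrCharacter (Subgroup.centralizer ({x} : Set G)) → ℤ, (∃ θ ∈ P, ∑ η ∈ bset e, A θ η * d η ≠ 0) → L ≤ ∑ θ ∈ P, ((∑ η ∈ bset e, A θ η * d η : ℤ) : ℝ) ^ 2) →
      (∃ θ ∈ P, lf e J (fun η => A θ η * (mRes x χ η : ℤ)) ω ≠ 0) →
      (U.card : ℝ) * L ≤ ∑ u ∈ U, ∑ θ ∈ P, Complex.normSq (lf e J (fun η => A θ η * (mRes x χ η : ℤ)) (ω ^ u)) := by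
    intro A χ L P hL hne
    set y := fun θ (s : ℕ) => ∑ η ∈ (bset e).filter (fun η => J η = s), A θ η * (mRes x χ η : ℤ) with hydef
    have h := CycPairs.card_mul_le hp hm0 hω P y (L := L) (fun s s' _ _ hex => ?_) (by
      obtain ⟨θ, hθ, h⟩ := hne
      exact ⟨θ, hθ, by rwa [hy] at h⟩)
    · simp only [hy]
      exact h
    set d := fun η => (if J η = s then (mRes x χ η : ℤ) else 0) - (if J η = s' then (mRes x χ η : ℤ) else 0)
      with hddef
    have hyd : ∀ θ, ∑ η ∈ bset e, A θ η * d η = y θ s - y θ s' := fun θ => by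
      simp only [hydef, hddef, mul_sub, Finset.sum_sub_distrib, mul_ite, mul_zero, ← Finset.sum_filter]
    have h' := hL d (by
      obtain ⟨θ, hθ, hne'⟩ := hex
      exact ⟨θ, hθ, by rw [hyd]; exact sub_ne_zero.mpr hne'⟩)
    simp only [hyd] at h'
    push_cast at h'
    exact h'
  -- the form on the image
  have hpos : ∀ d, (∃ θ ∈ bset e, imW p e d θ ≠ 0) → 0 < formW p e d d := by
    intro d hex
    have h1 : 0 < ∑ θ ∈ bset e, imW p e d θ * imW p e d θ := by
      refine Finset.sum_pos' (fun θ _ => mul_self_nonneg _) ?_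
      obtain ⟨θ, hθ, hne⟩ := hex
      exact ⟨θ, hθ, mul_self_pos.mpr hne⟩
    rw [sum_imW_mul hM he] at h1
    exact pos_of_mul_pos_right h1 (pow_nonneg (Int.natCast_nonneg p) _)
  have hsq : ∀ d, ∑ θ ∈ bset e, ((imW p e d θ : ℤ) : ℝ) ^ 2 = (q : ℝ) * (formW p e d d : ℝ) := by
    intro d
    have h := congrArg (Int.cast : ℤ → ℝ) (sum_imW_mul hM he d d)
    push_cast at h
    simp only [sq] at h ⊢
    rw [hq]; push_cast
    exact h
  have hcardB : (bset B).card = S.card := rfl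
  rw [hcardB, ← hd]
  suffices hmain : (S.card : ℝ) ≤ (q : ℝ) by exact_mod_cast hmain
  have hfinish : (∀ χ ∈ S, blockHeight p B (χ : G → ℂ) = 0 → (U.card : ℝ) * (2 * (q : ℝ)) ≤ T χ) →
      (S.card : ℝ) ≤ (q : ℝ) := by
    intro h
    have h1 : (S.card : ℝ) * ((U.card : ℝ) * (2 * (q : ℝ))) ≤ ∑ χ ∈ S, T χ := by
      rw [← nsmul_eq_mul, ← Finset.sum_const]
      refine Finset.sum_le_sum fun χ hχ => ?_
      by_cases h0 : blockHeight p B (χ : G → ℂ) = 0
      · exact h χ hχ h0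
      · refine le_trans (mul_le_mul_of_nonneg_left ?_ hUcard.le) (hheight χ (Finset.mem_filter.mp hχ).2)
        rw [mul_comm (2 : ℝ)]
        refine mul_le_mul_of_nonneg_left ?_ hqR.le
        exact le_trans (by exact_mod_cast hp.two_le) (le_self_pow₀ (by exact_mod_cast hp.one_le) h0)
    rw [htot] at h1
    have hl' : (blockRank p e : ℝ) ≤ 2 := by exact_mod_cast hl
    have h2 : (S.card : ℝ) * ((U.card : ℝ) * (2 * (q : ℝ))) ≤ (q : ℝ) * ((U.card : ℝ) * (2 * (q : ℝ))) := by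
      refine h1.trans ?_
      calc (U.card : ℝ) * ((q : ℝ) * ((q : ℝ) * (blockRank p e : ℝ)))
          ≤ (U.card : ℝ) * ((q : ℝ) * ((q : ℝ) * 2)) := by gcongr
        _ = _ := by ring
    exact le_of_mul_le_mul_right h2 (by positivity)
  by_cases hone : ∃ v, formW p e v v = 1
  swap
  · refine hfinish fun χ hχ _ => ?_
    have := havg (wI p e) χ (2 * (q : ℝ)) (bset e) (fun d hex => ?_) (hVne χ (Finset.mem_filter.mp hχ).2)
    · exact this
    show 2 * (q : ℝ) ≤ ∑ θ ∈ bset e, ((imW p e d θ : ℤ) : ℝ) ^ 2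
    rw [hsq, mul_comm]
    refine mul_le_mul_of_nonneg_left ?_ hqR.le
    have h1 := hpos d hex
    have h2 : formW p e d d ≠ 1 := fun h => hone ⟨d, h⟩
    exact_mod_cast (show (2 : ℤ) ≤ formW p e d d by omega)
  obtain ⟨v, hv⟩ := hone
  set w := imW p e v with hwdef
  set V1 := fun (χ : IrrCharacter G) (μ : ℂ) => lf e J (fun η => w η * (mRes x χ η : ℤ)) μ with hV1
  set A2 := fun θ η => wI p e θ η - w θ * w η with hA2
  set V2 := fun (χ : IrrCharacter G) (μ : ℂ) θ => lf e J (fun η => A2 θ η * (mRes x χ η : ℤ)) μ with hV2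
  have hV1eq : ∀ χ μ, ∑ θ ∈ bset e, (v θ : ℂ) * V χ μ θ = V1 χ μ := by
    intro χ μ
    simp only [hV, hV1, lf, hFA, hwdef, imW, Finset.mul_sum, Int.cast_mul, Int.cast_sum, Finset.sum_mul]
    rw [Finset.sum_comm]
    exact Finset.sum_congr rfl fun η _ => Finset.sum_congr rfl fun θ _ => by rw [wI_symm hM η θ]; ring
  have hwV : ∀ χ μ, ∑ θ ∈ bset e, (w θ : ℂ) * V χ μ θ = (q : ℂ) * V1 χ μ := by
    intro χ μ
    simp only [hV, hV1, lf, hFA, Finset.mul_sum]
    rw [Finset.sum_comm]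
    refine Finset.sum_congr rfl fun η hη => ?_
    have h1 : ∑ θ ∈ bset e, w θ * wI p e θ η = (q : ℤ) * w η := by
      simp only [hwdef, imW, Finset.sum_mul, Finset.mul_sum, hq, Nat.cast_pow]
      rw [Finset.sum_comm]
      refine Finset.sum_congr rfl fun φ _ => ?_
      rw [← mul_assoc, ← sum_wI_mul hM he (mem_bset.mp hη) (φ := φ), Finset.sum_mul]
      exact Finset.sum_congr rfl fun θ _ => by rw [wI_symm hM θ η]; ring
    have h2 := congrArg (fun t : ℤ => (t : ℂ) * ((mRes x χ η : ℂ) * μ ^ J η)) h1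
    simp only [Int.cast_sum, Int.cast_mul, Int.cast_natCast, Finset.sum_mul] at h2
    exact (Finset.sum_congr rfl fun θ _ => by push_cast; ring).trans (h2.trans (by push_cast; ring))
  have hww : ∑ θ ∈ bset e, (w θ : ℂ) * (w θ : ℂ) = (q : ℂ) := by
    have h := congrArg (Int.cast : ℤ → ℂ) (sum_imW_mul hM he v v)
    rw [hv] at h
    push_cast at h
    rw [hwdef, hq]
    push_cast
    simpa using h
  have hV2eq : ∀ χ μ θ, V2 χ μ θ = V χ μ θ - (w θ : ℂ) * V1 χ μ := by
    intro χ μ θ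
    simp only [hV, hV1, hV2, lf, hFA, hA2, Finset.mul_sum, ← Finset.sum_sub_distrib]
    exact Finset.sum_congr rfl fun η _ => by push_cast; ring
  have hsplit : ∀ χ ψ μ, ∑ θ ∈ bset e, V2 χ μ θ * conj (V2 ψ μ θ) =
      ∑ θ ∈ bset e, V χ μ θ * conj (V ψ μ θ) - (q : ℂ) * (V1 χ μ * conj (V1 ψ μ)) := by
    intro χ ψ μ
    simp only [hV2eq, map_sub, map_mul, map_intCast]
    rw [Finset.sum_congr rfl (g := fun θ => V χ μ θ * conj (V ψ μ θ) - conj (V1 ψ μ) * ((w θ : ℂ) * V χ μ θ) -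
      V1 χ μ * conj ((w θ : ℂ) * V ψ μ θ) + V1 χ μ * conj (V1 ψ μ) * ((w θ : ℂ) * (w θ : ℂ))) fun θ _ => by
        simp only [map_mul, map_intCast]; ring]
    rw [Finset.sum_add_distrib, Finset.sum_sub_distrib, Finset.sum_sub_distrib, ← Finset.mul_sum, ← Finset.mul_sum,
      ← Finset.mul_sum, hwV, ← map_sum, hwV, hww, map_mul, map_natCast]
    ring
  have htotN : ∑ χ ∈ S, ∑ u ∈ U, Complex.normSq (V1 χ (ω ^ u)) = (U.card : ℝ) * (q : ℝ) := by
    rw [Finset.sum_comm, ← nsmul_eq_mul, ← Finset.sum_const]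
    refine Finset.sum_congr rfl fun u hu => ?_
    apply Complex.ofReal_injective
    have h := hgram u hu v v
    simp only [hV1eq, hv, Complex.mul_conj] at h
    push_cast
    simpa using h
  have hT2 : ∀ χ, ∑ u ∈ U, ∑ θ ∈ bset e, Complex.normSq (V2 χ (ω ^ u) θ) =
      T χ - (q : ℝ) * ∑ u ∈ U, Complex.normSq (V1 χ (ω ^ u)) := by
    intro χ
    rw [Finset.mul_sum, ← Finset.sum_sub_distrib]
    refine Finset.sum_congr rfl fun u _ => ?_
    apply Complex.ofReal_injective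
    have h := hsplit χ χ (ω ^ u)
    simp only [Complex.mul_conj] at h
    push_cast
    exact h
  have hlow1 : ∀ χ, V1 χ ω ≠ 0 → (U.card : ℝ) ≤ ∑ u ∈ U, Complex.normSq (V1 χ (ω ^ u)) := by
    intro χ hne
    obtain ⟨θ0, hθ0⟩ := block_nonempty hP he
    have h := havg (fun _ η => w η) χ 1 {θ0} (fun d hex => ?_) ⟨θ0, Finset.mem_singleton_self _, hne⟩
    · simpa using h
    simp only [Finset.sum_singleton]
    obtain ⟨θ, -, hne'⟩ := hex
    have h1 : (1 : ℤ) ≤ (∑ η ∈ bset e, w η * d η) ^ 2 :=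
      Int.one_le_abs (pow_ne_zero 2 hne') |>.trans (le_of_eq (abs_sq _))
    exact_mod_cast h1
  have hlow2 : ∀ χ, (∃ θ ∈ bset e, V2 χ ω θ ≠ 0) →
      (U.card : ℝ) * (q : ℝ) ≤ ∑ u ∈ U, ∑ θ ∈ bset e, Complex.normSq (V2 χ (ω ^ u) θ) := by
    intro χ hne
    refine havg A2 χ q (bset e) (fun d hex => ?_) hne
    set b := ∑ η ∈ bset e, w η * d η with hb
    have hΔ : ∀ θ, ∑ η ∈ bset e, A2 θ η * d η = imW p e d θ - w θ * b := fun θ => by
      simp only [hA2, imW, hb, Finset.mul_sum, sub_mul, Finset.sum_sub_distrib]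
      congr 1
      exact Finset.sum_congr rfl fun η _ => by ring
    have hb' : b = formW p e d v := by
      simp only [hb, formW, hwdef]
      exact Finset.sum_congr rfl fun η _ => mul_comm _ _
    have h1 : ∑ θ ∈ bset e, (imW p e d θ - w θ * b) ^ 2 = (q : ℤ) * (formW p e d d - b ^ 2) := by
      have e1 := sum_imW_mul hM he d d
      have e2 := sum_imW_mul hM he d v
      have e3 := sum_imW_mul hM he v v
      rw [hv, mul_one] at e3
      rw [← hb'] at e2
      rw [Finset.sum_congr rfl (g := fun θ => imW p e d θ * imW p e d θ - 2 * b * (imW p e d θ * imW p e v θ) +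
        b ^ 2 * (imW p e v θ * imW p e v θ)) fun θ _ => by rw [hwdef]; ring, Finset.sum_add_distrib,
        Finset.sum_sub_distrib, ← Finset.mul_sum, ← Finset.mul_sum, e1, e2, e3, hq, Nat.cast_pow]
      ring
    have h2 : 0 < ∑ θ ∈ bset e, (imW p e d θ - w θ * b) ^ 2 := by
      obtain ⟨θ, hθ, hne'⟩ := hex
      rw [hΔ] at hne'
      exact Finset.sum_pos' (fun θ _ => sq_nonneg _) ⟨θ, hθ, sq_pos_iff.mpr hne'⟩
    rw [h1] at h2
    have h3 : (q : ℤ) ≤ ∑ θ ∈ bset e, (∑ η ∈ bset e, A2 θ η * d η) ^ 2 := by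
      simp only [hΔ]
      rw [h1]
      exact le_mul_of_one_le_right (Int.natCast_nonneg _) (pos_of_mul_pos_right h2 (Int.natCast_nonneg _))
    have h4 : ((q : ℤ) : ℝ) ≤ ((∑ θ ∈ bset e, (∑ η ∈ bset e, A2 θ η * d η) ^ 2 : ℤ) : ℝ) := Int.cast_le.mpr h3
    push_cast at h4 ⊢
    exact h4
  by_cases hI : ∃ χ ∈ S, blockHeight p B (χ : G → ℂ) = 0 ∧ (V1 χ ω = 0 ∨ ∀ θ ∈ bset e, V2 χ ω θ = 0)
  · obtain ⟨χ1, hχ1, h10, hcase⟩ := hI
    have hc1 : ∀ χ ∈ B, ctr p e (fun η => ω ^ J η) χ χ1 ≠ 0 := by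
      intro χ hχ h0
      obtain ⟨w', -, hw', hwiff⟩ := MajorSub.major_unit hz hzk hM hk hind hd hχ (Finset.mem_filter.mp hχ1).2
      rw [h0, eq_comm, mul_eq_zero, or_iff_right (pow_ne_zero _ (Nat.cast_ne_zero.mpr hp.ne_zero))] at hw'
      exact hwiff.mp (hw' ▸ memLI_zero hP) h10
    have hnz : ∀ χ ∈ B, (V1 χ1 ω = 0 → ∃ θ ∈ bset e, V2 χ ω θ ≠ 0) ∧
        ((∀ θ ∈ bset e, V2 χ1 ω θ = 0) → V1 χ ω ≠ 0) := by
      intro χ hχ
      have h := hkey1 χ χ1 ω hω.pow_eq_one
      have hs := hsplit χ χ1 ω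
      rw [← h] at hs
      refine ⟨fun h1 => ?_, fun h2 h1 => ?_⟩
      · by_contra hno
        push Not at hno
        rw [Finset.sum_eq_zero fun θ hθ => by rw [hno θ hθ, zero_mul], h1, map_zero, mul_zero, mul_zero,
          sub_zero] at hs
        exact hc1 χ hχ ((mul_eq_zero.mp hs.symm).resolve_left (Nat.cast_ne_zero.mpr hq0.ne'))
      · rw [Finset.sum_eq_zero fun θ hθ => by rw [h2 θ hθ, map_zero, mul_zero], h1, zero_mul, mul_zero,
          sub_zero] at hs
        exact hc1 χ hχ ((mul_eq_zero.mp hs.symm).resolve_left (Nat.cast_ne_zero.mpr hq0.ne'))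
    rcases hcase with h1 | h2
    · have hle : (S.card : ℝ) * ((U.card : ℝ) * (q : ℝ)) ≤
          ∑ χ ∈ S, ∑ u ∈ U, ∑ θ ∈ bset e, Complex.normSq (V2 χ (ω ^ u) θ) := by
        rw [← nsmul_eq_mul, ← Finset.sum_const]
        exact Finset.sum_le_sum fun χ hχ => hlow2 χ ((hnz χ (Finset.mem_filter.mp hχ).2).1 h1)
      rw [Finset.sum_congr rfl fun χ _ => hT2 χ, Finset.sum_sub_distrib, ← Finset.mul_sum, htot, htotN] at hle
      have hl' : (blockRank p e : ℝ) ≤ 2 := by exact_mod_cast hl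
      refine le_of_mul_le_mul_right (hle.trans ?_) (mul_pos hUcard hqR)
      have h5 := mul_le_mul_of_nonneg_left hl' (mul_nonneg hUcard.le (mul_nonneg hqR.le hqR.le))
      linarith
    · have hle : (S.card : ℝ) * (U.card : ℝ) ≤ ∑ χ ∈ S, ∑ u ∈ U, Complex.normSq (V1 χ (ω ^ u)) := by
        rw [← nsmul_eq_mul, ← Finset.sum_const]
        exact Finset.sum_le_sum fun χ hχ => hlow1 χ ((hnz χ (Finset.mem_filter.mp hχ).2).2 h2)
      rw [htotN, mul_comm (U.card : ℝ)] at hle
      exact le_of_mul_le_mul_right hle hUcard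
  · push Not at hI
    refine hfinish fun χ hχ h0 => ?_
    obtain ⟨h1, h2⟩ := hI χ hχ h0
    have a1 := mul_le_mul_of_nonneg_left (hlow1 χ h1) hqR.le
    have a2 := hlow2 χ h2
    rw [hT2] at a2
    linarith

end Cfsg.Agent.Char.RankTwo
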