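import Cfsg.Agent.Lib.Char.QuatSylow
import Cfsg.Agent.Lib.Char.CyclicTI

/-!
# The centralizer and normalizer of the derived group of a quaternion Sylow 2-subgroup
-/

set_option autoImplicit false
set_option linter.unusedSectionVars false
set_option linter.style.haveILetI false

namespace Cfsg.Agent.Char

open Cfsg

universe u

variable {G : Type u} [Group G] [Finite G] (S : Sylow 2 G) {n : ℕ}
  (e : (S : Subgroup G) ≃* QuaternionGroup (2 ^ (n + 2)))

/-- The derived group of the Sylow subgroup. -/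
def qD : Subgroup G := Subgroup.zpowers (qgen S e ^ 2)

/-- Its centralizer. -/
def qC : Subgroup G := Subgroup.centralizer (qD S e : Set G)

/-- Its normalizer. -/
def qH : Subgroup G := Subgroup.normalizer (qD S e : Set G)

theorem orderOf_qgen_sq : orderOf (qgen S e ^ 2) = 2 ^ (n + 2) := by
  rw [orderOf_pow_of_dvd two_ne_zero, orderOf_qgen, pow_succ, Nat.mul_div_cancel _ two_pos]
  rw [orderOf_qgen]; exact dvd_pow_self 2 (by omega)

theorem card_qD : Nat.card (qD S e) = 2 ^ (n + 2) := by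
  rw [qD, Nat.card_zpowers, orderOf_qgen_sq]

theorem sylow_le_qH : (S : Subgroup G) ≤ qH S e := by
  intro g hg
  have hD : qD S e ≤ (S : Subgroup G) := by
    rw [qD, Subgroup.zpowers_le]
    exact Subgroup.pow_mem _ (qel_mem S e _) _
  have hconj : ∀ h ∈ (S : Subgroup G), ∀ w ∈ qD S e, h * w * h⁻¹ ∈ qD S e := by
    intro h hh w hw
    obtain ⟨k, rfl⟩ := Subgroup.mem_zpowers_iff.mp hw
    rcases mem_zpowers_qgen_or S e hh with h1 | h1
    · obtain ⟨j, rfl⟩ := Subgroup.mem_zpowers_iff.mp h1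
      rw [((((Commute.refl (qgen S e)).pow_right 2).zpow_right k).zpow_left j).eq,
        mul_inv_cancel_right]
      exact hw
    · rw [← conj_zpow, ← conj_pow, h1, inv_pow, inv_zpow]
      exact (qD S e).inv_mem hw
  rw [qH, Subgroup.mem_normalizer_iff]
  intro w
  refine ⟨hconj g hg w, fun hw => ?_⟩
  have := hconj g⁻¹ ((S : Subgroup G).inv_mem hg) _ hw
  simpa [mul_assoc] using this

theorem qC_le_qH : qC S e ≤ qH S e := Subgroup.centralizer_le_normalizer _

theorem inf_qC : (S : Subgroup G) ⊓ qC S e = Subgroup.zpowers (qgen S e) :=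
  centralizer_inf_sylow S e

theorem conj_mem_qC {g c : G} (hg : g ∈ qH S e) (hc : c ∈ qC S e) : g * c * g⁻¹ ∈ qC S e := by
  rw [qC, Subgroup.mem_centralizer_iff]
  intro w hw
  have hw' : g⁻¹ * w * g ∈ qD S e := by
    have := (Subgroup.mem_normalizer_iff.mp ((qH S e).inv_mem hg) w).mp hw
    simpa using this
  have := Subgroup.mem_centralizer_iff.mp hc _ hw'
  calc w * (g * c * g⁻¹) = g * (g⁻¹ * w * g * c) * g⁻¹ := by group
    _ = g * (c * (g⁻¹ * w * g)) * g⁻¹ := by rw [this]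
    _ = g * c * g⁻¹ * w := by group

theorem pow_mem_qC {h : G} (hh : h ∈ qH S e) : h ^ 2 ^ (n + 1) ∈ qC S e := by
  set d := qgen S e ^ 2 with hd
  have hmem : h * d * h⁻¹ ∈ qD S e :=
    (Subgroup.mem_normalizer_iff.mp hh d).mp (Subgroup.mem_zpowers d)
  obtain ⟨u, -, hu⟩ : ∃ u < 2 ^ (n + 2), d ^ u = h * d * h⁻¹ := by
    obtain ⟨k, hk⟩ := Subgroup.mem_zpowers_iff.mp hmem
    rw [← zpow_mod_orderOf, orderOf_qgen_sq] at hk
    refine ⟨(k % ((2 ^ (n + 2) : ℕ) : ℤ)).toNat, ?_, ?_⟩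
    · have := Int.emod_lt_of_pos k (b := ((2 ^ (n + 2) : ℕ) : ℤ)) (by positivity)
      omega
    · rw [← zpow_natCast, Int.toNat_of_nonneg (Int.emod_nonneg _ (by positivity))]
      exact hk
  have hcop : u.Coprime (2 ^ (n + 2)) := by
    have ho : orderOf (d ^ u) = 2 ^ (n + 2) := by
      rw [hu, ← orderOf_qgen_sq S e]
      exact orderOf_injective (MulAut.conj h).toMonoidHom (MulAut.conj h).injective d
    rw [orderOf_pow, orderOf_qgen_sq] at ho
    rw [Nat.coprime_comm, Nat.Coprime]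
    exact (Nat.div_eq_self.mp ho).resolve_left (by positivity)
  have hiter : ∀ j : ℕ, h ^ j * d * (h ^ j)⁻¹ = d ^ (u ^ j) := by
    intro j
    induction j with
    | zero => simp
    | succ j ih =>
      rw [pow_succ', show h * h ^ j * d * (h * h ^ j)⁻¹ = h * (h ^ j * d * (h ^ j)⁻¹) * h⁻¹ by group,
        ih, ← conj_pow, ← hu, ← pow_mul, pow_succ']
  have hfix : h ^ 2 ^ (n + 1) * d * (h ^ 2 ^ (n + 1))⁻¹ = d := by
    rw [hiter]
    have h1 : u ^ 2 ^ (n + 1) ≡ 1 [MOD 2 ^ (n + 2)] := by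
      have := Nat.ModEq.pow_totient hcop
      rwa [Nat.totient_prime_pow_succ Nat.prime_two, show (2 - 1 : ℕ) = 1 from rfl, mul_one] at this
    rw [← orderOf_qgen_sq S e, ← hd] at h1
    rw [← pow_mod_orderOf, h1, pow_mod_orderOf, pow_one]
  rw [qC, Subgroup.mem_centralizer_iff]
  intro w hw
  obtain ⟨k, rfl⟩ := Subgroup.mem_zpowers_iff.mp hw
  exact (Commute.zpow_left (show Commute d (h ^ 2 ^ (n + 1)) from
    (mul_inv_eq_iff_eq_mul.mp hfix).symm) k).eq

theorem mem_qC_of_odd {h : G} (hh : h ∈ qH S e) (hodd : Odd (orderOf h)) : h ∈ qC S e := by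
  obtain ⟨m, hm⟩ := exists_pow_eq_self_of_coprime
    (x := h) (n := 2 ^ (n + 1)) (Nat.Coprime.pow_left _ (Nat.coprime_two_left.mpr hodd))
  rw [← hm]
  exact Subgroup.pow_mem _ (pow_mem_qC S e hh) _

theorem odd_relIndex_qgen : Odd ((Subgroup.zpowers (qgen S e)).relIndex (qC S e)) := by
  haveI hn : ((qC S e).subgroupOf (qH S e)).Normal :=
    ⟨fun c hc g => Subgroup.mem_subgroupOf.mpr (by
      simpa using conj_mem_qC S e g.2 (Subgroup.mem_subgroupOf.mp hc))⟩
  set C' := (qC S e).subgroupOf (qH S e)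
  set S' := (S : Subgroup G).subgroupOf (qH S e)
  have h1 : S'.relIndex C' = (Subgroup.zpowers (qgen S e)).relIndex (qC S e) := by
    rw [← Subgroup.inf_relIndex_right S' C', ← inf_qC, Subgroup.inf_relIndex_right,
      Subgroup.inf_relIndex_right, Subgroup.relIndex_subgroupOf (qC_le_qH S e)]
  have h2 : S'.relIndex C' ∣ S'.index := by
    have hle : S' ≤ S' ⊔ C' := le_sup_left
    have hle' : C' ≤ S' ⊔ C' := le_sup_right
    have a1 := Subgroup.relIndex_mul_relIndex (⊥ : Subgroup _) S' (S' ⊔ C') bot_le hle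
    have a2 := Subgroup.relIndex_mul_relIndex (⊥ : Subgroup _) C' (S' ⊔ C') bot_le hle'
    have a3 := Subgroup.relIndex_mul_relIndex (⊥ : Subgroup _) (S' ⊓ C') S' bot_le inf_le_left
    have a4 := Subgroup.relIndex_mul_relIndex (⊥ : Subgroup _) (S' ⊓ C') C' bot_le inf_le_right
    simp only [Subgroup.relIndex_bot_left, Subgroup.inf_relIndex_right,
      Subgroup.inf_relIndex_left, Subgroup.relIndex_sup_right] at a1 a2 a3 a4
    have e : S'.relIndex (S' ⊔ C') = S'.relIndex C' := by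
      have hpos : 0 < Nat.card S' := Nat.card_pos
      apply Nat.eq_of_mul_eq_mul_left hpos
      rw [a1, ← a2, ← a4, ← a3]; ring
    rw [← e]
    exact ⟨(S' ⊔ C').index, (Subgroup.relIndex_mul_index hle).symm⟩
  have h3 : S'.index ∣ (S : Subgroup G).index := Subgroup.relIndex_dvd_index_of_le (sylow_le_qH S e)
  rw [← h1]
  exact Odd.of_dvd_nat (Nat.odd_iff.mpr (Nat.two_dvd_ne_zero.mp S.not_dvd_index)) (h2.trans h3)

/-- A Sylow `2`-subgroup of the centralizer. -/
noncomputable def qP : Sylow 2 (qC S e) :=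
  IsPGroup.toSylow (P := (Subgroup.zpowers (qgen S e)).subgroupOf (qC S e))
    ((S.2.to_le (by rw [← inf_qC S e]; exact inf_le_left :
      Subgroup.zpowers (qgen S e) ≤ (S : Subgroup G))).comap_of_injective _
        (qC S e).subtype_injective)
    (fun h => Nat.not_even_iff_odd.mpr (odd_relIndex_qgen S e) (even_iff_two_dvd.mpr h))

theorem coe_qP : (qP S e : Subgroup (qC S e)) =
    (Subgroup.zpowers (qgen S e)).subgroupOf (qC S e) := IsPGroup.toSylow_coe _ _

theorem qgen_mem_qC : qgen S e ∈ qC S e :=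
  ((inf_qC S e).ge (Subgroup.mem_zpowers _)).2

theorem mem_qP {c : qC S e} : c ∈ (qP S e : Subgroup (qC S e)) ↔
    (c : G) ∈ Subgroup.zpowers (qgen S e) := by
  rw [coe_qP]; exact Subgroup.mem_subgroupOf

theorem qP_isCyclic : IsCyclic (qP S e : Subgroup (qC S e)) := by
  rw [coe_qP]
  have h : Subgroup.zpowers (qgen S e) ≤ qC S e := by
    rw [Subgroup.zpowers_le]; exact qgen_mem_qC S e
  exact isCyclic_of_surjective _ (Subgroup.subgroupOfEquivOfLe h).symm.surjective

theorem minFac_qC : (Nat.card (qC S e)).minFac = 2 := by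
  refine (Nat.minFac_eq_two_iff _).mpr ?_
  have h := Subgroup.orderOf_dvd_natCard (qC S e) (qgen_mem_qC S e)
  rw [orderOf_qgen] at h
  exact (dvd_pow_self 2 (by omega)).trans h

/-- The transfer onto the cyclic Sylow subgroup. -/
noncomputable def qf : qC S e →* (qP S e : Subgroup (qC S e)) :=
  MonoidHom.transferSylow (qP S e)
    ((qP_isCyclic S e).normalizer_le_centralizer (minFac_qC S e))

theorem qf_compl : (qf S e).ker.IsComplement' (qP S e : Subgroup (qC S e)) :=
  MonoidHom.ker_transferSylow_isComplement' _ _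

theorem qf_ker_iff {c : qC S e} : c ∈ (qf S e).ker ↔ Odd (orderOf c) := by
  constructor
  · intro h
    refine Odd.of_dvd_nat ?_ (Subgroup.orderOf_dvd_natCard _ h)
    have h1 := (qf_compl S e).card_mul_card
    have h2 := (qP S e : Subgroup (qC S e)).index_mul_card
    rw [← h2] at h1
    rw [Nat.eq_of_mul_eq_mul_right Nat.card_pos h1]
    exact Nat.odd_iff.mpr (Nat.two_dvd_ne_zero.mp (qP S e).not_dvd_index)
  · intro h
    rw [MonoidHom.mem_ker, ← orderOf_eq_one_iff]
    obtain ⟨k, hk⟩ := IsPGroup.iff_orderOf.mp (qP S e).2 (qf S e c)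
    have h2 := Odd.of_dvd_nat h (orderOf_map_dvd (qf S e) c)
    rw [hk] at h2 ⊢
    rcases k with _ | k
    · rfl
    · exact absurd h2 (by simp [Nat.odd_pow_iff])

/-- The odd part of the centralizer. -/
noncomputable def qK : Subgroup G := (qf S e).ker.map (qC S e).subtype

theorem mem_qK {g : G} : g ∈ qK S e ↔ g ∈ qC S e ∧ Odd (orderOf g) := by
  constructor
  · rintro ⟨c, hc, rfl⟩
    exact ⟨c.2, by rw [Subgroup.coe_subtype, Subgroup.orderOf_coe]; exact (qf_ker_iff S e).mp hc⟩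
  · rintro ⟨hg, ho⟩
    exact ⟨⟨g, hg⟩, (qf_ker_iff S e).mpr (by rwa [← Subgroup.orderOf_coe]), rfl⟩

theorem odd_card_qK : Odd (Nat.card (qK S e)) := by
  rw [← Nat.not_even_iff_odd, even_iff_two_dvd]
  intro h
  obtain ⟨g, hg⟩ := exists_prime_orderOf_dvd_card' 2 h
  have := ((mem_qK S e).mp g.2).2
  rw [Subgroup.orderOf_coe, hg] at this
  exact absurd this (by decide)

theorem qK_sup_inf : qK S e ⊔ ((S : Subgroup G) ⊓ qC S e) = qC S e := by
  have h := congrArg (Subgroup.map (qC S e).subtype) (qf_compl S e).sup_eq_top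
  have hmap : (qP S e : Subgroup (qC S e)).map (qC S e).subtype = Subgroup.zpowers (qgen S e) := by
    rw [coe_qP, Subgroup.subgroupOf_map_subtype,
      inf_of_le_left (by rw [Subgroup.zpowers_le]; exact qgen_mem_qC S e)]
  rwa [Subgroup.map_sup, hmap, ← MonoidHom.range_eq_map, Subgroup.range_subtype,
    ← inf_qC S e] at h

theorem sup_sylow : qC S e ⊔ (S : Subgroup G) = qH S e := by
  refine le_antisymm (sup_le (qC_le_qH S e) (sylow_le_qH S e)) ?_
  set T := qC S e ⊔ (S : Subgroup G)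
  have hT : T ≤ qH S e := sup_le (qC_le_qH S e) (sylow_le_qH S e)
  intro h hh
  -- split `h` into its two parts
  haveI hn : ((qC S e).subgroupOf (qH S e)).Normal :=
    ⟨fun c hc g => Subgroup.mem_subgroupOf.mpr (by
      simpa using conj_mem_qC S e g.2 (Subgroup.mem_subgroupOf.mp hc))⟩
  set C' := (qC S e).subgroupOf (qH S e)
  set T' := T.subgroupOf (qH S e)
  have hCT : C' ≤ T' := fun c hc => Subgroup.mem_subgroupOf.mpr
    (Subgroup.mem_sup_left (Subgroup.mem_subgroupOf.mp hc))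
  have hQ : IsPGroup 2 (qH S e ⧸ C') := by
    intro q
    obtain ⟨x, rfl⟩ := QuotientGroup.mk_surjective q
    exact ⟨n + 1, by
      rw [← QuotientGroup.mk_pow, QuotientGroup.eq_one_iff, Subgroup.mem_subgroupOf,
        Subgroup.coe_pow]
      exact pow_mem_qC S e x.2⟩
  have h1 : T'.index ∣ C'.index := Subgroup.index_dvd_of_le hCT
  obtain ⟨k, hk⟩ := IsPGroup.iff_card.mp hQ
  rw [← Subgroup.index_eq_card] at hk
  obtain ⟨j, -, hj⟩ := (Nat.dvd_prime_pow Nat.prime_two).mp (hk ▸ h1)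
  have h2 : T'.index ∣ (S : Subgroup G).index :=
    (Subgroup.relIndex_dvd_of_le_left _ (le_sup_right : (S : Subgroup G) ≤ T)).trans
      (Subgroup.relIndex_dvd_index_of_le (sylow_le_qH S e))
  have hj0 : j = 0 := by
    by_contra h0
    exact S.not_dvd_index ((hj ▸ dvd_pow_self 2 h0).trans h2)
  rw [hj0, pow_zero, Subgroup.index_eq_one, Subgroup.subgroupOf_eq_top] at hj
  exact hj hh

theorem sup_qK_sylow : qK S e ⊔ (S : Subgroup G) = qH S e := by
  rw [← sup_sylow S e]
  conv_rhs => rw [← qK_sup_inf S e, sup_assoc, sup_eq_right.mpr (inf_le_left :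
    (S : Subgroup G) ⊓ qC S e ≤ (S : Subgroup G))]

/-- An element of the Sylow subgroup inverting the generator. -/
def qb : G := qel S e (QuaternionGroup.xa 0)

theorem qb_mem : qb S e ∈ qH S e := sylow_le_qH S e (qel_mem S e _)

theorem qb_conj : qb S e * qgen S e * (qb S e)⁻¹ = (qgen S e)⁻¹ := qel_inverts S e 0

theorem qb_not_mem : qb S e ∉ qC S e := fun h => by
  have hc := Subgroup.mem_centralizer_iff.mp h _ (Subgroup.mem_zpowers (qgen S e ^ 2))
  have h2 : qb S e * qgen S e ^ 2 * (qb S e)⁻¹ = (qgen S e ^ 2)⁻¹ := by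
    rw [← conj_pow, qb_conj, inv_pow]
  rw [← hc, mul_inv_cancel_right] at h2
  exact sq_inv_ne S e h2.symm

theorem mem_qH_cases {h : G} (hh : h ∈ qH S e) :
    h ∈ qC S e ∨ h * qb S e ∈ qC S e := by
  rw [← sup_sylow S e] at hh
  obtain ⟨c, hc, s, hs, rfl⟩ : ∃ c ∈ qC S e, ∃ s ∈ (S : Subgroup G), c * s = h := by
    have hn : (S : Subgroup G) ≤ Subgroup.normalizer (qC S e : Set G) := by
      intro s hs
      rw [Subgroup.mem_normalizer_iff]
      intro w
      refine ⟨conj_mem_qC S e (sylow_le_qH S e hs), fun hw => ?_⟩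
      have := conj_mem_qC S e ((qH S e).inv_mem (sylow_le_qH S e hs)) hw
      simpa [mul_assoc] using this
    rw [← SetLike.mem_coe, Subgroup.coe_mul_of_right_le_normalizer_left _ _ hn] at hh
    exact hh
  obtain ⟨x, rfl⟩ := qel_surj S e hs
  rcases x with i | i
  · refine Or.inl ((qC S e).mul_mem hc ?_)
    rw [quat_a_eq_pow, qel_pow]
    exact Subgroup.pow_mem _ (qgen_mem_qC S e) _
  · refine Or.inr ?_
    rw [mul_assoc]
    refine (qC S e).mul_mem hc ?_
    rw [qb, ← qel_mul, QuaternionGroup.xa_mul_xa, quat_a_eq_pow, qel_pow]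
    exact Subgroup.pow_mem _ (qgen_mem_qC S e) _

theorem le_zpowers_of_dvd {y : G} (hy : y ∈ qC S e) (hd : 2 ^ (n + 2) ∣ orderOf y) :
    qD S e ≤ Subgroup.zpowers y := by
  set m := orderOf y / 2 ^ (n + 2) with hm
  have hpos : 0 < orderOf y := orderOf_pos y
  have ho : orderOf (y ^ m) = 2 ^ (n + 2) := orderOf_pow_orderOf_div hpos.ne' hd
  set y' : qC S e := ⟨y ^ m, Subgroup.pow_mem _ hy _⟩
  set d' : qC S e := ⟨qgen S e ^ 2, Subgroup.pow_mem _ (qgen_mem_qC S e) _⟩
  have hinj : ∀ w : qC S e, w ^ 2 ^ (n + 2) = 1 → qf S e w = 1 → w = 1 := by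
    intro w hw h1
    have ho := (qf_ker_iff S e).mp ((MonoidHom.mem_ker).mpr h1)
    have hd2 := orderOf_dvd_of_pow_eq_one hw
    obtain ⟨j, -, hj⟩ := (Nat.dvd_prime_pow Nat.prime_two).mp hd2
    rcases j with _ | j
    · exact orderOf_eq_one_iff.mp (by simpa using hj)
    · rw [hj] at ho; exact absurd ho (by simp [Nat.odd_pow_iff])
  have hoy : orderOf y' = 2 ^ (n + 2) := by rw [← Subgroup.orderOf_coe]; exact ho
  have hod : orderOf d' = 2 ^ (n + 2) := by rw [← Subgroup.orderOf_coe]; exact orderOf_qgen_sq S e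
  have hof : ∀ w : qC S e, orderOf w = 2 ^ (n + 2) → orderOf (qf S e w) = 2 ^ (n + 2) := by
    intro w hw
    refine Nat.dvd_antisymm ((orderOf_map_dvd _ w).trans hw.dvd) ?_
    rw [← hw]
    refine orderOf_dvd_of_pow_eq_one (hinj _ ?_ (by rw [map_pow, pow_orderOf_eq_one]))
    rw [← pow_mul, mul_comm, pow_mul, ← hw, pow_orderOf_eq_one, one_pow]
  haveI := qP_isCyclic S e
  have hmem : qf S e d' ∈ Subgroup.zpowers (qf S e y') :=
    mem_of_pow_card (W := ⊤) le_top (isCyclic_of_surjective _ Subgroup.topEquiv.symm.surjective)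
      (Subgroup.mem_top _) (by rw [Nat.card_zpowers, hof _ hoy, ← hof _ hod, pow_orderOf_eq_one])
  obtain ⟨j, hj⟩ := Subgroup.mem_zpowers_iff.mp hmem
  have hcomm : Commute d' (y' ^ j) := Subtype.ext (by
    rw [Subgroup.coe_mul, Subgroup.coe_mul]
    exact Subgroup.mem_centralizer_iff.mp (y' ^ j).2 _ (Subgroup.mem_zpowers _))
  have h1 : d' * (y' ^ j)⁻¹ = 1 := hinj _ (by
    rw [hcomm.inv_right.mul_pow, inv_pow, ← hod, pow_orderOf_eq_one, one_mul, inv_eq_one, hod,
      ← zpow_natCast, ← zpow_mul, mul_comm, zpow_mul, zpow_natCast, ← hoy, pow_orderOf_eq_one,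
      one_zpow]) (by rw [map_mul, map_inv, map_zpow, hj, mul_inv_cancel])
  rw [qD, Subgroup.zpowers_le]
  have h2 := congrArg Subtype.val (mul_inv_eq_one.mp h1)
  rw [Subgroup.coe_zpow] at h2
  show (d' : G) ∈ _
  rw [h2]
  exact Subgroup.zpow_mem _ (Subgroup.pow_mem _ (Subgroup.mem_zpowers y) _) _

theorem mem_qH_of_conj {g y : G} (hy : y ∈ qC S e) (hd : 2 ^ (n + 2) ∣ orderOf y)
    (hgy : g * y * g⁻¹ ∈ qC S e) : g ∈ qH S e := by
  have hd' : 2 ^ (n + 2) ∣ orderOf (g * y * g⁻¹) :=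
    hd.trans (orderOf_injective (MulAut.conj g).toMonoidHom (MulAut.conj g).injective y).symm.dvd
  have h1 := le_zpowers_of_dvd S e hy hd
  have h2 := le_zpowers_of_dvd S e hgy hd'
  have h3 : ∀ w ∈ qD S e, g * w * g⁻¹ ∈ qD S e := by
    intro w hw
    have hgw : g * w * g⁻¹ ∈ Subgroup.zpowers (g * y * g⁻¹) := by
      obtain ⟨k, rfl⟩ := Subgroup.mem_zpowers_iff.mp (h1 hw)
      rw [← conj_zpow]; exact Subgroup.zpow_mem _ (Subgroup.mem_zpowers _) _
    have hp : (g * w * g⁻¹) ^ 2 ^ (n + 2) = 1 := by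
      have := pow_card_eq_one' (x := (⟨w, hw⟩ : qD S e))
      rw [card_qD] at this
      rw [conj_pow, show w ^ 2 ^ (n + 2) = 1 from congrArg Subtype.val this, mul_one,
        mul_inv_cancel]
    exact mem_of_pow_card h2 (Subgroup.isCyclic_zpowers _) hgw (by rw [card_qD]; exact hp)
  refine Subgroup.mem_normalizer_fintype (fun w hw => h3 w hw)

end Cfsg.Agent.Char
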