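import Mathlib.GroupTheory.SpecificGroups.Quaternion
import Mathlib.GroupTheory.Transfer
import Cfsg.Agent.Lib.Char.Basic
import Cfsg.Agent.Lib.Fusion.Cores

/-!
# A generalised quaternion Sylow 2-subgroup of order at least sixteen
-/

set_option autoImplicit false
set_option linter.unusedSectionVars false
set_option linter.style.haveILetI false

namespace Cfsg.Agent.Char

open Cfsg QuaternionGroup

universe u

theorem quat_a_pow {N : ℕ} (i : ZMod (2 * N)) (k : ℕ) :
    (a i : QuaternionGroup N) ^ k = a ((k : ZMod (2 * N)) * i) := by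
  induction k with
  | zero => simp
  | succ k ih => rw [pow_succ, ih, a_mul_a]; push_cast; ring_nf

theorem quat_inv_a {N : ℕ} (i : ZMod (2 * N)) : (a i : QuaternionGroup N)⁻¹ = a (-i) :=
  inv_eq_of_mul_eq_one_right (by rw [a_mul_a, add_neg_cancel]; rfl)

theorem quat_inv_xa {N : ℕ} (i : ZMod (2 * N)) :
    (xa i : QuaternionGroup N)⁻¹ = xa ((N : ZMod (2 * N)) + i) :=
  inv_eq_of_mul_eq_one_right (by
    have h2 : (2 * N : ZMod (2 * N)) = 0 := by exact_mod_cast ZMod.natCast_self (2 * N)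
    rw [xa_mul_xa, show (N : ZMod (2 * N)) + (N + i) - i = 2 * N by ring, h2]; rfl)

theorem quat_a_eq_pow {N : ℕ} [NeZero N] (i : ZMod (2 * N)) :
    (a i : QuaternionGroup N) = a 1 ^ i.val := by
  rw [a_one_pow, ZMod.natCast_zmod_val]

section

variable {G : Type u} [Group G] [Finite G] (S : Sylow 2 G) {n : ℕ}
  (e : (S : Subgroup G) ≃* QuaternionGroup (2 ^ (n + 2)))

/-- An element of the Sylow subgroup by its quaternion name. -/
def qel (x : QuaternionGroup (2 ^ (n + 2))) : G := ((e.symm x : (S : Subgroup G)) : G)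

theorem qel_mem (x : QuaternionGroup (2 ^ (n + 2))) : qel S e x ∈ (S : Subgroup G) := (e.symm x).2

theorem qel_mul (x y : QuaternionGroup (2 ^ (n + 2))) : qel S e (x * y) = qel S e x * qel S e y := by
  simp [qel]

theorem qel_inv (x : QuaternionGroup (2 ^ (n + 2))) : qel S e x⁻¹ = (qel S e x)⁻¹ := by simp [qel]

theorem qel_one : qel S e 1 = 1 := by simp [qel]

theorem qel_pow (x : QuaternionGroup (2 ^ (n + 2))) (k : ℕ) :
    qel S e (x ^ k) = qel S e x ^ k := by simp [qel]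

theorem qel_inj {x y : QuaternionGroup (2 ^ (n + 2))} (h : qel S e x = qel S e y) : x = y :=
  e.symm.injective (Subtype.ext h)

theorem qel_surj {g : G} (hg : g ∈ (S : Subgroup G)) : ∃ x, qel S e x = g :=
  ⟨e ⟨g, hg⟩, by simp [qel]⟩

theorem orderOf_qel (x : QuaternionGroup (2 ^ (n + 2))) : orderOf (qel S e x) = orderOf x := by
  rw [qel, Subgroup.orderOf_coe, MulEquiv.orderOf_eq]

/-- The generator of the large cyclic subgroup. -/
def qgen : G := qel S e (a 1)

theorem orderOf_qgen : orderOf (qgen S e) = 2 ^ (n + 3) := by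
  rw [qgen, orderOf_qel, orderOf_a_one]; ring

theorem derived_eq : ⁅(S : Subgroup G), (S : Subgroup G)⁆ = Subgroup.zpowers (qgen S e ^ 2) := by
  have key : ∀ i : ZMod (2 * 2 ^ (n + 2)),
      qel S e (a (2 * i)) ∈ Subgroup.zpowers (qgen S e ^ 2) := by
    intro i
    rw [show (a (2 * i) : QuaternionGroup (2 ^ (n + 2))) = (a 1 ^ 2) ^ i.val by
      rw [← pow_mul, a_one_pow, Nat.cast_mul, ZMod.natCast_zmod_val]; norm_num, qel_pow, qel_pow]
    exact Subgroup.pow_mem _ (Subgroup.mem_zpowers _) _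
  apply le_antisymm
  · rw [Subgroup.commutator_le]
    intro g hg h hh
    obtain ⟨x, rfl⟩ := qel_surj S e hg
    obtain ⟨y, rfl⟩ := qel_surj S e hh
    rw [commutatorElement_def, ← qel_mul, ← qel_inv, ← qel_mul, ← qel_inv, ← qel_mul]
    have hN : (2 : ZMod (2 * 2 ^ (n + 2))) * ((2 ^ (n + 1) : ℕ) : ZMod (2 * 2 ^ (n + 2))) =
        ((2 ^ (n + 2) : ℕ) : ZMod (2 * 2 ^ (n + 2))) := by
      push_cast; ring
    have h2 : (2 * 2 ^ (n + 2) : ZMod (2 * 2 ^ (n + 2))) = 0 := by
      exact_mod_cast ZMod.natCast_self (2 * 2 ^ (n + 2))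
    rcases x with i | i <;> rcases y with j | j
    · convert key 0 using 2
      simp [a_mul_a, quat_inv_a]
    · convert key i using 2
      simp [a_mul_a, a_mul_xa, xa_mul_a, xa_mul_xa, quat_inv_a, quat_inv_xa]; linear_combination h2
    · convert key (-j) using 2
      simp [a_mul_a, a_mul_xa, xa_mul_a, xa_mul_xa, quat_inv_a, quat_inv_xa]; linear_combination h2
    · convert key (j - i) using 2
      simp [a_mul_a, a_mul_xa, xa_mul_a, xa_mul_xa, quat_inv_a, quat_inv_xa]; linear_combination h2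
  · rw [Subgroup.zpowers_le, qgen, ← qel_pow]
    have : (a 1 : QuaternionGroup (2 ^ (n + 2))) ^ 2 = a 1 * xa 0 * (a 1)⁻¹ * (xa 0)⁻¹ := by
      rw [pow_two]
      simp [a_mul_a, a_mul_xa, xa_mul_a, xa_mul_xa, quat_inv_a, quat_inv_xa]
      have h2 : (2 * 2 ^ (n + 2) : ZMod (2 * 2 ^ (n + 2))) = 0 := by
        exact_mod_cast ZMod.natCast_self (2 * 2 ^ (n + 2))
      linear_combination -h2
    rw [this, qel_mul, qel_mul, qel_mul, qel_inv, qel_inv, ← commutatorElement_def]
    exact Subgroup.commutator_mem_commutator (qel_mem S e _) (qel_mem S e _)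

theorem qel_inverts (i : ZMod (2 * 2 ^ (n + 2))) :
    qel S e (xa i) * qgen S e * (qel S e (xa i))⁻¹ = (qgen S e)⁻¹ := by
  rw [qgen, ← qel_inv, ← qel_mul, ← qel_mul, ← qel_inv]
  congr 1
  simp [a_mul_a, a_mul_xa, xa_mul_a, xa_mul_xa, quat_inv_a, quat_inv_xa]
  have h2 : (2 * 2 ^ (n + 2) : ZMod (2 * 2 ^ (n + 2))) = 0 := by
    exact_mod_cast ZMod.natCast_self (2 * 2 ^ (n + 2))
  linear_combination h2

theorem mem_zpowers_qgen_or {g : G} (hg : g ∈ (S : Subgroup G)) :
    g ∈ Subgroup.zpowers (qgen S e) ∨ g * qgen S e * g⁻¹ = (qgen S e)⁻¹ := by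
  obtain ⟨x, rfl⟩ := qel_surj S e hg
  rcases x with i | i
  · left
    rw [quat_a_eq_pow, qel_pow]
    exact Subgroup.pow_mem _ (Subgroup.mem_zpowers _) _
  · exact Or.inr (qel_inverts S e i)

theorem sq_inv_ne : (qgen S e ^ 2)⁻¹ ≠ qgen S e ^ 2 := fun h => by
  have h4 : qgen S e ^ 4 = 1 := by
    rw [show 4 = 2 + 2 from rfl, pow_add]
    nth_rewrite 1 [← h]
    exact inv_mul_cancel _
  have := Nat.le_of_dvd (by norm_num) (orderOf_dvd_of_pow_eq_one h4)
  rw [orderOf_qgen] at this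
  have : 2 ^ 3 ≤ 2 ^ (n + 3) := Nat.pow_le_pow_right two_pos (by omega)
  omega

theorem centralizer_inf_sylow : (S : Subgroup G) ⊓
    Subgroup.centralizer (Subgroup.zpowers (qgen S e ^ 2) : Set G) =
    Subgroup.zpowers (qgen S e) := by
  apply le_antisymm
  · rintro g ⟨hgS, hgC⟩
    rcases mem_zpowers_qgen_or S e hgS with h | h
    · exact h
    exfalso
    have hc := Subgroup.mem_centralizer_iff.mp hgC _ (Subgroup.mem_zpowers (qgen S e ^ 2))
    have h2 : g * qgen S e ^ 2 * g⁻¹ = (qgen S e ^ 2)⁻¹ := by rw [← conj_pow, h, inv_pow]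
    rw [← hc, mul_inv_cancel_right] at h2
    exact sq_inv_ne S e h2.symm
  · rw [Subgroup.zpowers_le]
    refine ⟨qel_mem S e _, Subgroup.mem_centralizer_iff.mpr ?_⟩
    rintro _ ⟨k, rfl⟩
    exact ((Commute.refl (qgen S e)).pow_left 2).zpow_left k

end

end Cfsg.Agent.Char
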