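import Cfsg.Agent.S4492
import Cfsg.Agent.S4652
import Cfsg.Agent.Lib.Char.SubsectionOrbits
import Cfsg.Agent.Lib.Char.NilpotentAbelian
import Cfsg.Agent.Lib.Char.FongReynolds
import Cfsg.Agent.Lib.Char.RankOne
import Cfsg.Agent.Lib.Char.PSolvHeight
import Cfsg.Agent.Lib.Char.OneBlock
import Cfsg.Agent.Lib.Fusion.NPC
import Mathlib.GroupTheory.FixedPointFree

/-!
# Blocks with one character more than the rank have elementary abelian defect groups

The nonidentity elements of the defect group are then conjugate and have local rank one. For the principal block this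
makes a Sylow subgroup inverted by an involution; for `p`-solvable groups one reduces to the stabilizer of a character
of the `p'`-core.
-/

set_option autoImplicit false
set_option linter.style.haveILetI false
set_option linter.unusedSectionVars false

open Cfsg Module
open scoped Classical

namespace Cfsg.Agent.Char.RankGapOne

universe u

variable {p : ℕ} [hp : Fact p.Prime]

section Local

variable {G : Type u} [Group G] [Fintype G] {M : Ideal AlgInt} {B : Set (IrrCharacter G)}

theorem exists_pelt_pow {D : Subgroup G} (hD : IsPGroup p D) {z : G} (hz : z ∈ D) :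
    ∃ k : ℕ, orderOf z = p ^ k := by
  obtain ⟨k, hk⟩ := IsPGroup.iff_orderOf.mp hD ⟨z, hz⟩
  exact ⟨k, by rwa [Subgroup.orderOf_mk] at hk⟩

/-- The rank of the blocks of the centralizer of `x` inducing into `B`. -/
noncomputable def localRank (p : ℕ) (M : Ideal AlgInt) (B : Set (IrrCharacter G)) (x : G) : ℕ :=
  ∑ᶠ b ∈ {b : Set (IrrCharacter ↥(Subgroup.centralizer ({x} : Set G))) |
    IsInducedBlock M (Subgroup.centralizer ({x} : Set G)) b B}, blockRank p b

/-- A pair on a cyclic group gives local rank. -/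
theorem rank_le_localRank {z : G}
    {f : Set (IrrCharacter ↥(Subgroup.centralizer (Subgroup.zpowers z : Set G)))}
    (hf : IsInducedBlock M (Subgroup.centralizer (Subgroup.zpowers z : Set G)) f B) :
    blockRank p f ≤ localRank p M B z := by
  haveI := Fintype.ofFinite (Subgroup.centralizer ({z} : Set G))
  haveI := Fintype.ofFinite (Subgroup.centralizer (Subgroup.zpowers z : Set G))
  obtain ⟨f', -, -, hr, -, -, hi⟩ := NilpotentAbelian.exists_same (B := B) (p := p)
    (centralizer_zpowers_eq (x := z)) f hf.1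
  rw [← hr, localRank, finsum_mem_eq_finite_toFinset_sum _ (Set.toFinite _)]
  exact Finset.single_le_sum (f := fun b => blockRank p b) (fun b _ => Nat.zero_le _)
    ((Set.toFinite _).mem_toFinset.mpr (hi hf))

/-- The local ranks at nonidentity representatives add up to `k(B) - l(B)`. -/
theorem localRank_le (hM : IsPModular p M) (hB : IsPBlock M B) (Y : Finset G)
    (hY : ∀ y ∈ Y, y ≠ 1 ∧ ∃ k : ℕ, orderOf y = p ^ k)
    (hYc : ∀ y ∈ Y, ∀ y' ∈ Y, IsConj y y' → y = y') :
    blockRank p B + ∑ y ∈ Y, localRank p M B y ≤ Nat.card B := by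
  set r : G → G := fun g =>
    if h : ∃ y ∈ Y, IsConj g y then h.choose else Quotient.out (ConjClasses.mk g) with hr
  have hrc : ∀ g, IsConj g (r g) := by
    intro g
    simp only [hr]
    split_ifs with h
    · exact h.choose_spec.2
    · exact ConjClasses.mk_eq_mk_iff_isConj.mp (Quotient.out_eq (ConjClasses.mk g)).symm
  have hrr : ∀ g g', IsConj g g' → r g = r g' := by
    intro g g' hgg
    simp only [hr]
    by_cases h : ∃ y ∈ Y, IsConj g y
    · have h' : ∃ y ∈ Y, IsConj g' y := h.imp fun y hy => ⟨hy.1, hgg.symm.trans hy.2⟩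
      rw [dif_pos h, dif_pos h']
      exact hYc _ h.choose_spec.1 _ h'.choose_spec.1
        ((h.choose_spec.2.symm.trans hgg).trans h'.choose_spec.2)
    · have h' : ¬ ∃ y ∈ Y, IsConj g' y := fun h' => h (h'.imp fun y hy => ⟨hy.1, hgg.trans hy.2⟩)
      rw [dif_neg h, dif_neg h', ConjClasses.mk_eq_mk_iff_isConj.mpr hgg]
  set X := (Finset.univ.filter fun g : G => ∃ k : ℕ, orderOf g = p ^ k).image r with hXdef
  have hX : ∀ x ∈ X, ∃ k : ℕ, orderOf x = p ^ k := by
    intro x hx
    obtain ⟨z, hz, rfl⟩ := Finset.mem_image.mp hx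
    obtain ⟨c, hc⟩ := isConj_iff.mp (hrc z)
    obtain ⟨k, hk⟩ := (Finset.mem_filter.mp hz).2
    exact ⟨k, by rw [← hc, ← MulAut.conj_apply, MulEquiv.orderOf_eq, hk]⟩
  have hXrep : ∀ g : G, (∃ k : ℕ, orderOf g = p ^ k) → ∃! x, x ∈ X ∧ IsConj g x := by
    intro g hg
    refine ⟨r g, ⟨Finset.mem_image_of_mem r (Finset.mem_filter.mpr ⟨Finset.mem_univ _, hg⟩), hrc g⟩, ?_⟩
    rintro x ⟨hx, hgx⟩
    obtain ⟨z, -, rfl⟩ := Finset.mem_image.mp hx
    exact hrr _ _ ((hrc z).trans hgx.symm)
  obtain ⟨x1, ⟨hx1, hx1c⟩, -⟩ := hXrep 1 ⟨0, by simp⟩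
  obtain rfl : x1 = 1 := isConj_one_right.mp hx1c
  have hYX : Y ⊆ X.erase 1 := by
    intro y hy
    refine Finset.mem_erase.mpr ⟨(hY y hy).1,
      Finset.mem_image.mpr ⟨y, Finset.mem_filter.mpr ⟨Finset.mem_univ _, (hY y hy).2⟩, ?_⟩⟩
    have h : ∃ y' ∈ Y, IsConj y y' := ⟨y, hy, IsConj.refl y⟩
    simp only [hr]
    rw [dif_pos h]
    exact (hYc _ hy _ h.choose_spec.1 h.choose_spec.2).symm
  have h1 : localRank p M B 1 = blockRank p B := SubsectionOrbits.rank_at_one hM hB
  calc blockRank p B + ∑ y ∈ Y, localRank p M B y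
      ≤ localRank p M B 1 + ∑ x ∈ X.erase 1, localRank p M B x := by
        rw [h1]
        exact Nat.add_le_add_left (Finset.sum_le_sum_of_subset hYX) _
    _ = ∑ x ∈ X, localRank p M B x := Finset.add_sum_erase _ _ hx1
    _ = Nat.card B := (card_eq_sum_blockRank hM hB X hX hXrep).symm

/-- Every nonidentity element of a defect group has positive local rank. -/
theorem one_le_localRank (hM : IsPModular p M) (hB : IsPBlock M B) {D : Subgroup G}
    (hD : IsDefectGroup p M B D) {z : G} (hz : z ∈ D) : 1 ≤ localRank p M B z := by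
  obtain ⟨f, hf⟩ := exists_pair_of_le_defect hM hB hD (Subgroup.zpowers_le.mpr hz)
  have hi := CentralPairs.induced_of_pair hM (fun w hw => by
    refine Subgroup.mem_centralizer_iff.mpr fun v hv => ?_
    obtain ⟨i, rfl⟩ := Subgroup.mem_zpowers_iff.mp hw
    obtain ⟨j, rfl⟩ := Subgroup.mem_zpowers_iff.mp hv
    exact ((Commute.refl z).zpow_zpow j i).eq) hf
  haveI := Fintype.ofFinite (Subgroup.centralizer (Subgroup.zpowers z : Set G))
  exact (NilpotentAbelian.one_le_blockRank hM hi.1).trans (rank_le_localRank hi)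

theorem isPGroup_defect {D : Subgroup G} (hD : IsDefectGroup p M B D) : IsPGroup p D := by
  obtain ⟨g, -, P, rfl⟩ := hD
  exact P.isPGroup'.map _

/-- `k - l = 1`: the nonidentity elements of a defect group are conjugate. -/
theorem conj_of_gap (hM : IsPModular p M) (hB : IsPBlock M B) {D : Subgroup G}
    (hD : IsDefectGroup p M B D) (hk : Nat.card B = blockRank p B + 1) {z z' : G} (hz : z ∈ D)
    (hz1 : z ≠ 1) (hz' : z' ∈ D) (hz'1 : z' ≠ 1) : IsConj z z' := by
  by_contra hn
  have hne : z ≠ z' := fun h => hn (h ▸ IsConj.refl z)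
  have hDp := isPGroup_defect hD
  have h := localRank_le hM hB {z, z'} (fun y hy => by
      rcases Finset.mem_insert.mp hy with rfl | hy
      · exact ⟨hz1, exists_pelt_pow hDp hz⟩
      · rw [Finset.mem_singleton] at hy; subst hy
        exact ⟨hz'1, exists_pelt_pow hDp hz'⟩) (fun y hy y' hy' hc => by
      simp only [Finset.mem_insert, Finset.mem_singleton] at hy hy'
      rcases hy with rfl | rfl <;> rcases hy' with rfl | rfl
      exacts [rfl, absurd hc hn, absurd hc.symm hn, rfl])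
  rw [Finset.sum_pair hne] at h
  have h1 := one_le_localRank hM hB hD hz
  have h2 := one_le_localRank hM hB hD hz'
  omega

/-- `k - l = 1`: the exponent is `p`. -/
theorem pow_eq_one_of_conj {D : Subgroup G} (hDp : IsPGroup p D)
    (hc : ∀ z ∈ D, z ≠ 1 → ∀ z' ∈ D, z' ≠ 1 → IsConj z z') {z : G} (hz : z ∈ D) : z ^ p = 1 := by
  by_contra h
  have hz1 : z ≠ 1 := fun e => h (by rw [e, one_pow])
  obtain ⟨k, hk⟩ := exists_pelt_pow hDp hz
  rcases k with _ | _ | k
  · rw [pow_zero, orderOf_eq_one_iff] at hk; exact hz1 hk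
  · exact h (by rw [show p = orderOf z by rw [hk, pow_one], pow_orderOf_eq_one])
  · obtain ⟨c, hc'⟩ := isConj_iff.mp (hc z hz hz1 _ (D.pow_mem hz p) h)
    have h2 : orderOf (z ^ p) = orderOf z := by rw [← hc', ← MulAut.conj_apply, MulEquiv.orderOf_eq]
    rw [orderOf_pow_of_dvd hp.out.ne_zero (hk ▸ dvd_pow_self p (by omega)), hk] at h2
    exact absurd h2 (Nat.div_lt_self (pow_pos hp.out.pos _) hp.out.one_lt).ne

end Local

section Principal

variable {G : Type u} [Group G] [Fintype G] {M : Ideal AlgInt}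

/-- In the principal block with gap one the centralizers of nonidentity Sylow elements have normal `p`-complements. -/
theorem hnpc_centralizer (hM : IsPModular p M)
    (hk : Nat.card (principalBlock M G) = blockRank p (principalBlock M G) + 1) {z : G}
    (hz1 : z ≠ 1) (hzp : ∃ k : ℕ, orderOf z = p ^ k) :
    HasNormalPComplement p (Subgroup.centralizer (Subgroup.zpowers z : Set G)) := by
  haveI := Fintype.ofFinite (Subgroup.centralizer (Subgroup.zpowers z : Set G))
  rw [← blockRank_principal_eq_one_iff hM]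
  have hQ : IsPGroup p (Subgroup.zpowers z) := isPGroup_of_ppower hp.out hzp
  have hi := CentralPairs.induced_of_pair hM (fun w hw => by
    refine Subgroup.mem_centralizer_iff.mpr fun v hv => ?_
    obtain ⟨i, rfl⟩ := Subgroup.mem_zpowers_iff.mp hw
    obtain ⟨j, rfl⟩ := Subgroup.mem_zpowers_iff.mp hv
    exact ((Commute.refl z).zpow_zpow j i).eq) (brauerPairOf_principal hM hQ)
  have h := localRank_le hM (isPBlock_principalBlock M) {z} (fun y hy => by
    rw [Finset.mem_singleton] at hy; exact hy ▸ ⟨hz1, hzp⟩) (fun y hy y' hy' _ => by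
    rw [Finset.mem_singleton] at hy hy'; rw [hy, hy'])
  rw [Finset.sum_singleton] at h
  have h1 := rank_le_localRank (p := p) hi
  have h2 := NilpotentAbelian.one_le_blockRank hM hi.1
  omega

/-- A `p'`-element centralizing a nontrivial `z` in `P` and normalizing `Q ∋ z` centralizes `Q`. -/
theorem centralizes_of_centralizes
    (hN : ∀ z : G, z ≠ 1 → (∃ k : ℕ, orderOf z = p ^ k) →
      HasNormalPComplement p (Subgroup.centralizer (Subgroup.zpowers z : Set G)))
    {Q : Subgroup G} (hQ : IsPGroup p Q) {z g : G} (hz1 : z ≠ 1) (hzp : ∃ k : ℕ, orderOf z = p ^ k)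
    (hQz : ∀ q ∈ Q, q * z = z * q) (hgz : g * z = z * g) (hg : g ∈ Subgroup.normalizer (Q : Set G))
    (hgp : (orderOf g).Coprime p) : ∀ q ∈ Q, g * q = q * g := by
  intro q hq
  set C := Subgroup.centralizer (Subgroup.zpowers z : Set G) with hC
  have hmem : ∀ x : G, x * z = z * x → x ∈ C := fun x hx => by
    refine Subgroup.mem_centralizer_iff.mpr fun v hv => ?_
    obtain ⟨j, rfl⟩ := Subgroup.mem_zpowers_iff.mp hv
    exact ((show Commute x z from hx).zpow_right j).symm.eq
  have h := Fusion.hnpc_centralize (hN z hz1 hzp) (Q := Q.subgroupOf C)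
    (hQ.comap_of_injective _ C.subtype_injective) (g := ⟨g, hmem g hgz⟩)
    (Subgroup.mem_normalizer_iff.mpr fun y => Subgroup.mem_normalizer_iff.mp hg y)
    (by rwa [← Subgroup.orderOf_coe])
  exact (congrArg Subtype.val (Subgroup.mem_centralizer_iff.mp h ⟨q, hmem q (hQz q hq)⟩
    (Subgroup.mem_subgroupOf.mpr hq))).symm

/-- All nonidentity `p`-elements conjugate with `p`-nilpotent centralizers: the Sylow subgroup is abelian. -/
theorem abelian_of_conj (P : Sylow p G)
    (hc : ∀ z ∈ (P : Subgroup G), z ≠ 1 → ∀ z' ∈ (P : Subgroup G), z' ≠ 1 → IsConj z z')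
    (hN : ∀ z : G, z ≠ 1 → (∃ k : ℕ, orderOf z = p ^ k) →
      HasNormalPComplement p (Subgroup.centralizer (Subgroup.zpowers z : Set G))) :
    ∀ a ∈ (P : Subgroup G), ∀ b ∈ (P : Subgroup G), a * b = b * a := by
  have hexp : ∀ a ∈ (P : Subgroup G), a ^ p = 1 := fun a ha => pow_eq_one_of_conj P.isPGroup' hc ha
  rcases eq_or_ne p 2 with rfl | hp2
  · intro a ha b hb
    have hinv : ∀ c ∈ (P : Subgroup G), c⁻¹ = c := fun c hc => by
      rw [inv_eq_iff_mul_eq_one, ← sq]; exact hexp c hc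
    rw [← hinv _ (mul_mem ha hb), mul_inv_rev, hinv a ha, hinv b hb]
  by_cases hbot : (P : Subgroup G) = ⊥
  · intro a ha b hb
    rw [hbot, Subgroup.mem_bot] at ha hb
    rw [ha, hb]
  haveI : Nontrivial (P : Subgroup G) := (Subgroup.nontrivial_iff_ne_bot _).mpr hbot
  haveI := P.isPGroup'.center_nontrivial
  obtain ⟨⟨⟨z, hz⟩, hzc⟩, hz0⟩ := exists_ne (1 : Subgroup.center (P : Subgroup G))
  have hz1 : z ≠ 1 := fun h => hz0 (Subtype.ext (Subtype.ext h))
  have hzP : ∀ q ∈ (P : Subgroup G), q * z = z * q := fun q hq =>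
    congrArg Subtype.val (Subgroup.mem_center_iff.mp hzc ⟨q, hq⟩)
  have hzC : z ∈ Subgroup.centralizer ((P : Subgroup G) : Set G) :=
    Subgroup.mem_centralizer_iff.mpr hzP
  have hzinv : z⁻¹ ≠ z := fun h => by
    have h2 : z ^ 2 = 1 := by rw [sq]; nth_rw 1 [← h]; exact inv_mul_cancel z
    have ho : orderOf z = p := orderOf_eq_prime (hexp z hz) hz1
    have := Nat.le_of_dvd two_pos (ho ▸ orderOf_dvd_of_pow_eq_one h2)
    have := hp.out.two_le
    omega
  -- an element of the normalizer inverting `z`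
  obtain ⟨c, hcz⟩ := isConj_iff.mp
    (hc z hz hz1 z⁻¹ (inv_mem hz) (inv_ne_one.mpr hz1))
  obtain ⟨n, hn, hne⟩ := P.conj_eq_normalizer_conj_of_mem_centralizer z c⁻¹ hzC (by
    rw [inv_inv, hcz]; exact inv_mem hzC)
  rw [inv_inv, hcz] at hne
  -- its two-part
  obtain ⟨e, m, hm, hord⟩ := Nat.exists_eq_two_pow_mul_odd (orderOf_pos n).ne'
  set g := n ^ m with hg
  have hgord : orderOf g = 2 ^ e := by
    rw [hg, orderOf_pow_of_dvd hm.pos.ne' (hord ▸ dvd_mul_left m _), hord, Nat.mul_div_cancel _ hm.pos]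
  have hgN : g ∈ Subgroup.normalizer ((P : Subgroup G) : Set G) := pow_mem hn m
  have hflip : ∀ j : ℕ, n ^ j * z * (n ^ j)⁻¹ = if Even j then z else z⁻¹ := by
    intro j
    induction j with
    | zero => simp
    | succ j ih =>
      have h1 : n * z * n⁻¹ = z⁻¹ := by
        have h2 : n * z⁻¹ * n⁻¹ = z := by rw [hne]; group
        calc n * z * n⁻¹ = (n * z⁻¹ * n⁻¹)⁻¹ := by group
          _ = z⁻¹ := by rw [h2]
      have h1' : n * z⁻¹ * n⁻¹ = z := by rw [hne]; group
      rw [pow_succ', show n * n ^ j * z * (n * n ^ j)⁻¹ = n * (n ^ j * z * (n ^ j)⁻¹) * n⁻¹ by group, ih]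
      by_cases hj : Even j
      · rw [if_pos hj, if_neg (by simp [Nat.even_add_one, hj]), h1]
      · rw [if_neg hj, if_pos (by simp [Nat.even_add_one, hj]), h1']
  have hgz : g * z * g⁻¹ = z⁻¹ := by
    rw [hg, hflip, if_neg (Nat.not_even_iff_odd.mpr hm)]
  have hgp : ∀ j, (orderOf (g ^ j)).Coprime p := fun j => by
    refine Nat.Coprime.coprime_dvd_left (orderOf_pow_dvd (x := g) j) ?_
    rw [hgord]
    exact Nat.Coprime.pow_left e ((Nat.coprime_primes Nat.prime_two hp.out).mpr (Ne.symm hp2))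
  have hzp : ∀ x ∈ (P : Subgroup G), ∃ k : ℕ, orderOf x = p ^ k := fun x hx =>
    exists_pelt_pow P.isPGroup' hx
  have hg2z : g ^ 2 * z = z * g ^ 2 := by
    have h1 : g ^ 2 * z * (g ^ 2)⁻¹ = z := by
      rw [hg, ← pow_mul, hflip, if_pos ⟨m, by ring⟩]
    exact mul_inv_eq_iff_eq_mul.mp h1
  have hg2 : ∀ q ∈ (P : Subgroup G), g ^ 2 * q = q * g ^ 2 :=
    centralizes_of_centralizes hN P.isPGroup' hz1 (hzp z hz) hzP hg2z (pow_mem hgN 2) (hgp 2)
  let φ : (P : Subgroup G) →* (P : Subgroup G) :=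
    (MulAut.conj g).toMonoidHom.comp (P : Subgroup G).subtype |>.codRestrict _ fun r =>
      (Subgroup.mem_normalizer_iff.mp hgN r).mp r.2
  have hfpf : MonoidHom.FixedPointFree φ := by
    intro r hr
    by_contra hr1
    have hr1' : (r : G) ≠ 1 := fun h => hr1 (Subtype.ext h)
    have h1 : g * r * g⁻¹ = r := congrArg Subtype.val hr
    have h1' : g * (r : G) = r * g := mul_inv_eq_iff_eq_mul.mp h1
    set Q := (P : Subgroup G) ⊓ Subgroup.centralizer ({(r : G)} : Set G) with hQ
    have hgQ : g ∈ Subgroup.normalizer (Q : Set G) := by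
      refine Subgroup.mem_normalizer_iff.mpr fun y => ?_
      have hcent : g ∈ Subgroup.centralizer ({(r : G)} : Set G) :=
        Subgroup.mem_centralizer_singleton_iff.mpr h1'
      rw [Subgroup.mem_inf, Subgroup.mem_inf]
      refine and_congr (Subgroup.mem_normalizer_iff.mp hgN y) ⟨fun hy => ?_, fun hy => ?_⟩
      · exact mul_mem (mul_mem hcent hy) (inv_mem hcent)
      · have := mul_mem (mul_mem (inv_mem hcent) hy) hcent
        simpa [mul_assoc] using this
    have hzQ : z ∈ Q := ⟨hz, Subgroup.mem_centralizer_singleton_iff.mpr (hzP r r.2).symm⟩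
    have h2 := centralizes_of_centralizes hN (Q := Q) (P.isPGroup'.to_le inf_le_left) hr1'
      (hzp r r.2) (fun q hq => Subgroup.mem_centralizer_singleton_iff.mp hq.2) h1' hgQ
      (by simpa using hgp 1) z hzQ
    rw [h2, mul_inv_cancel_right] at hgz
    exact hzinv hgz.symm
  have hinvo : Function.Involutive φ := fun r => Subtype.ext (by
    show g * (g * (r : G) * g⁻¹) * g⁻¹ = r
    rw [show g * (g * (r : G) * g⁻¹) * g⁻¹ = g ^ 2 * r * (g ^ 2)⁻¹ by rw [sq]; group, hg2 r r.2,
      mul_inv_cancel_right])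
  have hinv : ∀ x ∈ (P : Subgroup G), g * x * g⁻¹ = x⁻¹ := fun x hx =>
    congrArg Subtype.val (congrFun (hfpf.coe_eq_inv_of_involutive hinvo) ⟨x, hx⟩)
  intro a ha b hb
  have h := hinv _ (mul_mem ha hb)
  rw [← conj_mul, hinv a ha, hinv b hb, mul_inv_rev] at h
  exact inv_injective (by rw [mul_inv_rev, mul_inv_rev]; exact h.symm)

/-- The principal case. -/
theorem principal_case (hM : IsPModular p M) {D : Subgroup G}
    (hD : IsDefectGroup p M (principalBlock M G) D)
    (hk : Nat.card (principalBlock M G) = blockRank p (principalBlock M G) + 1) :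
    IsElementaryAbelian p D := by
  obtain ⟨P, rfl⟩ := (S4652.result p M hM D).mp hD
  have hB := isPBlock_principalBlock (G := G) M
  have hc : ∀ z ∈ (P : Subgroup G), z ≠ 1 → ∀ z' ∈ (P : Subgroup G), z' ≠ 1 → IsConj z z' :=
    fun z hz hz1 z' hz' hz'1 => conj_of_gap hM hB hD hk hz hz1 hz' hz'1
  have hab := abelian_of_conj P hc fun z hz1 hzp => hnpc_centralizer hM hk hz1 hzp
  exact ⟨⟨⟨fun a b => Subtype.ext (hab a a.2 b b.2)⟩⟩,
    fun a ha => pow_eq_one_of_conj P.isPGroup' hc ha⟩

end Principal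

section PSolvable

variable {G : Type u} [Group G] [Fintype G]

/-- A `p`-solvable group with all nonidentity Sylow elements conjugate has elementary Sylow subgroups. -/
theorem elementary_of_psolvable (hsolv : IsPSolvable p G) (P : Sylow p G)
    (hc : ∀ z ∈ (P : Subgroup G), z ≠ 1 → ∀ z' ∈ (P : Subgroup G), z' ≠ 1 → IsConj z z') :
    IsElementaryAbelian p (P : Subgroup G) := by
  have hN : (Nat.card (pPrimeCore p G)).Coprime p := Fusion.card_pPrimeCore_coprime p G
  set π := QuotientGroup.mk' (pPrimeCore p G) with hπ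
  have hs := Solv.isPSolvable_map hp.out hsolv π (QuotientGroup.mk'_surjective _)
  have hCV := centralizer_pCore_le_of_pSolvable hs Fusion.pPrimeCore_quotient_eq_bot
  set V := pCore p (G ⧸ pPrimeCore p G) with hV
  haveI : V.Normal := Solv.pCore_normal p
  set W := (Subgroup.center V).map V.subtype with hW
  haveI : W.Normal := inferInstance
  let P' : Sylow p (G ⧸ pPrimeCore p G) := P.mapSurjective (QuotientGroup.mk'_surjective _)
  have hP' : (P' : Subgroup (G ⧸ pPrimeCore p G)) = (P : Subgroup G).map π := rfl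
  have hVP : V ≤ (P : Subgroup G).map π := hP' ▸ Fusion.pCore_le_sylIn (Fusion.sylIn_top P')
  have hinj : ∀ a ∈ (P : Subgroup G), π a = 1 → a = 1 := fun a ha h => by
    have hmem : a ∈ pPrimeCore p G ⊓ (P : Subgroup G) :=
      Subgroup.mem_inf.mpr ⟨(QuotientGroup.eq_one_iff a).mp h, ha⟩
    rwa [Fusion.coprime_inf_pGroup hN P.isPGroup', Subgroup.mem_bot] at hmem
  have hcommW : ∀ a ∈ W, ∀ b ∈ W, a * b = b * a := by
    rintro _ ⟨a, ha, rfl⟩ _ ⟨b, -, rfl⟩
    exact (congrArg Subtype.val (Subgroup.mem_center_iff.mp ha b)).symm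
  have hPW : ∀ a ∈ (P : Subgroup G), π a ∈ W := by
    intro a ha
    by_cases ha1 : a = 1
    · rw [ha1, map_one]; exact one_mem _
    have hVne : V ≠ ⊥ := fun h => ha1 (hinj a ha (by
      have h1 : π a ∈ Subgroup.centralizer (V : Set (G ⧸ pPrimeCore p G)) :=
        Subgroup.mem_centralizer_iff.mpr fun v hv => by
          rw [h, SetLike.mem_coe, Subgroup.mem_bot] at hv
          rw [hv, one_mul, mul_one]
      have h2 := hCV h1
      rwa [h, Subgroup.mem_bot] at h2))
    haveI : Nontrivial V := (Subgroup.nontrivial_iff_ne_bot _).mpr hVne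
    haveI := (Fusion.isPGroup_pCore p (G ⧸ pPrimeCore p G)).center_nontrivial
    obtain ⟨w, hw⟩ := exists_ne (1 : Subgroup.center V)
    obtain ⟨w₀, hw₀, hw₀e⟩ := hVP (w : V).2
    have hw₀1 : w₀ ≠ 1 := fun h => hw (Subtype.ext (Subtype.ext (by
      rw [← hw₀e, h, map_one]; rfl)))
    obtain ⟨g, hg⟩ := isConj_iff.mp (hc w₀ hw₀ hw₀1 a ha ha1)
    rw [← hg, map_mul, map_mul, map_inv, show π w₀ = ((w : V) : G ⧸ pPrimeCore p G) from hw₀e]
    exact (inferInstance : W.Normal).conj_mem _ ⟨w, w.2, rfl⟩ _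
  refine ⟨⟨⟨fun a b => Subtype.ext ?_⟩⟩, fun a ha => pow_eq_one_of_conj P.isPGroup' hc ha⟩
  have h1 := hinj ((a : G) * b * (a : G)⁻¹ * (b : G)⁻¹)
    (mul_mem (mul_mem (mul_mem a.2 b.2) (inv_mem a.2)) (inv_mem b.2)) (by
      rw [map_mul, map_mul, map_mul, map_inv, map_inv, hcommW _ (hPW a a.2) _ (hPW b b.2),
        mul_inv_cancel_right, mul_inv_cancel])
  rw [mul_inv_eq_one, mul_inv_eq_iff_eq_mul] at h1
  exact h1

variable {N : Subgroup G} [N.Normal] {T : Subgroup G} [Fintype T]

omit [Fintype T] in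
/-- Induction commutes with taking regular parts. -/
theorem indFun_pRegularPart (f : T → ℂ) :
    indFun T (pRegularPart p f) = pRegularPart p (indFun T f) := by
  funext g
  have key : ∀ x : G, extendByZero T (pRegularPart p f) (x⁻¹ * g * x) =
      if IsPRegular p g then extendByZero T f (x⁻¹ * g * x) else 0 := by
    intro x
    by_cases hx : x⁻¹ * g * x ∈ T
    · have ho : orderOf (⟨_, hx⟩ : T) = orderOf g := by
        rw [Subgroup.orderOf_mk, show x⁻¹ * g * x = MulAut.conj x⁻¹ g by simp]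
        exact MulEquiv.orderOf_eq _ _
      rw [extendByZero_mem T _ hx, extendByZero_mem T _ hx]
      simp only [pRegularPart, IsPRegular, ho]
      by_cases hd : p ∣ orderOf g <;> simp [hd]
    · rw [extendByZero_not_mem T _ hx, extendByZero_not_mem T _ hx, ite_self]
  simp only [pRegularPart, indFun]
  rw [Finset.sum_congr rfl fun x _ => key x]
  split_ifs with h <;> simp

omit [Fintype T] in
theorem blockSpan_le_charSpan {H : Type u} [Group H] [Fintype H] {M : Ideal AlgInt} (hM : IsPModular p M)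
    {b : Set (IrrCharacter H)} (hb : IsPBlock M b) : blockSpan p b ≤ charSpan b := by
  intro v hv
  have h := blockPart_blockSpan hM hb hb hv
  rw [if_pos rfl] at h
  rw [← h]
  exact blockPart_mem_charSpan b v

/-- Induction between corresponding blocks keeps `k` and `l`. -/
theorem card_rank_of_bij {M : Ideal AlgInt} (hM : IsPModular p M) {B' : Set (IrrCharacter T)}
    {B : Set (IrrCharacter G)} (hB' : IsPBlock M B')
    (hto : ∀ ψ ∈ B', ∃ χ ∈ B, (χ : G → ℂ) = indFun T (ψ : T → ℂ))
    (hfrom : ∀ χ ∈ B, ∃ ψ ∈ B', (χ : G → ℂ) = indFun T (ψ : T → ℂ))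
    (hinj : ∀ ψ ∈ B', ∀ φ ∈ B', indFun T (ψ : T → ℂ) = indFun T (φ : T → ℂ) → ψ = φ) :
    Nat.card B' = Nat.card B ∧ blockRank p B' = blockRank p B := by
  let L : (T → ℂ) →ₗ[ℂ] (G → ℂ) :=
    { toFun := indFun T
      map_add' := indFun_add T
      map_smul' := indFun_smul T }
  choose e he1 he2 using hto
  have hcard : Nat.card B' = Nat.card B := by
    refine Nat.card_congr (Equiv.ofBijective (fun ψ : B' => (⟨e ψ ψ.2, he1 ψ ψ.2⟩ : B)) ⟨?_, ?_⟩)
    · rintro ⟨ψ, hψ⟩ ⟨φ, hφ⟩ h
      refine Subtype.ext (hinj ψ hψ φ hφ ?_)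
      rw [← he2 ψ hψ, ← he2 φ hφ]
      exact congrArg (fun x : B => ((x : IrrCharacter G) : G → ℂ)) h
    · rintro ⟨χ, hχ⟩
      obtain ⟨ψ, hψ, hχψ⟩ := hfrom χ hχ
      exact ⟨⟨ψ, hψ⟩, Subtype.ext (Subtype.ext ((he2 ψ hψ).trans hχψ.symm))⟩
  have himg : (blockSpan p B').map L = blockSpan p B := by
    rw [blockSpan, blockSpan, Submodule.map_span, Set.image_image]
    congr 1
    ext v
    constructor
    · rintro ⟨ψ, hψ, rfl⟩
      exact ⟨e ψ hψ, he1 ψ hψ, by
        dsimp only
        rw [he2 ψ hψ, ← indFun_pRegularPart]; rfl⟩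
    · rintro ⟨χ, hχ, rfl⟩
      obtain ⟨ψ, hψ, hχψ⟩ := hfrom χ hχ
      exact ⟨ψ, hψ, by
        dsimp only
        rw [hχψ, ← indFun_pRegularPart]; rfl⟩
  have himgc : (charSpan B').map L = charSpan B := by
    rw [charSpan, charSpan, Submodule.map_span, Set.image_image]
    congr 1
    ext v
    constructor
    · rintro ⟨ψ, hψ, rfl⟩
      exact ⟨e ψ hψ, he1 ψ hψ, he2 ψ hψ⟩
    · rintro ⟨χ, hχ, rfl⟩
      obtain ⟨ψ, hψ, hχψ⟩ := hfrom χ hχ
      exact ⟨ψ, hψ, hχψ.symm⟩
  have hLinj : Function.Injective (L.domRestrict (charSpan B')) := by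
    rw [← LinearMap.ker_eq_bot, ← Submodule.finrank_eq_zero]
    have h1 := LinearMap.finrank_range_add_finrank_ker (L.domRestrict (charSpan B'))
    rw [LinearMap.range_domRestrict, himgc, finrank_charSpan, finrank_charSpan, hcard] at h1
    omega
  refine ⟨hcard, ?_⟩
  show finrank ℂ (blockSpan p B') = finrank ℂ (blockSpan p B)
  rw [← himg, ← LinearMap.range_domRestrict]
  refine (LinearMap.finrank_range_of_inj fun v w h => ?_).symm
  have h2 : (⟨(v : T → ℂ), blockSpan_le_charSpan hM hB' v.2⟩ : charSpan B') =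
      ⟨(w : T → ℂ), blockSpan_le_charSpan hM hB' w.2⟩ := hLinj h
  exact Subtype.ext (congrArg (fun x : charSpan B' => (x : T → ℂ)) h2)

set_option maxHeartbeats 1000000 in
theorem psolvable_case {M : Ideal AlgInt} (hM : IsPModular p M) :
    ∀ (n : ℕ) {G : Type u} [Group G] [Fintype G], Nat.card G = n → IsPSolvable p G →
      ∀ {B : Set (IrrCharacter G)}, IsPBlock M B → ∀ {D : Subgroup G}, IsDefectGroup p M B D →
        Nat.card B = blockRank p B + 1 → IsElementaryAbelian p D := by
  intro n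
  induction n using Nat.strong_induction_on with
  | _ n ih =>
  intro G _ _ hn hsolv B hB D hD hk
  have hPm := pmod_prime hM
  obtain ⟨χ, hχ⟩ := block_nonempty hPm hB
  haveI : Fintype (pPrimeCore p G) := Fintype.ofFinite _
  have hNp : ¬ p ∣ Nat.card (pPrimeCore p G) :=
    hp.out.coprime_iff_not_dvd.mp (Fusion.card_pPrimeCore_coprime p G).symm
  obtain ⟨θ, hθ⟩ := exists_constituent (N := pPrimeCore p G) χ
  obtain ⟨T, -, -, hNT, -, -, -, hT, -, -⟩ := exists_correspondent χ.2 (pPrimeCore p G) θ hθ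
  haveI : Fintype T := Fintype.ofFinite _
  by_cases htop : T = ⊤
  · have hinv : ∀ g : G, irrComp (MulAut.conjNormal g) θ = θ :=
      fun g => (hT g).mp (htop ▸ Subgroup.mem_top g)
    obtain ⟨B', hB', hmem, -, hall⟩ := S4492.result p M hM hsolv (pPrimeCore p G) rfl θ (fun g m => by
      have h := congrFun (congrArg Subtype.val (hinv g)) m
      rw [irrComp_apply] at h
      exact (congrArg _ (Subtype.ext rfl)).trans h)
    obtain rfl : B = B' := block_disjoint hPm hB hB' hχ ((hmem χ).mpr hθ)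
    obtain ⟨P, rfl⟩ := hall D hD
    exact elementary_of_psolvable hsolv P fun z hz hz1 z' hz' hz'1 =>
      conj_of_gap hM hB hD hk hz hz1 hz' hz'1
  · set b : Set (IrrCharacter (pPrimeCore p G)) := blockOf M (θ : pPrimeCore p G → ℂ) with hb'
    have hb : IsPBlock M b := isPBlock_blockOf M θ
    have hbs : b = {θ} := by
      refine (singleton_iff_dexp hM θ).mpr (le_antisymm (dexp_le θ.2) ?_)
      rw [Nat.factorization_eq_zero_of_not_dvd hNp]
      exact Nat.zero_le _
    have hst : IsStabilizer (pPrimeCore p G) b T := fun g => by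
      rw [hT g, hbs]
      simp
    have hθb : θ ∈ b := self_mem_blockOf hPm θ
    obtain ⟨B', hB', hcov, hind⟩ := fong_reynolds_surjective hM hst hb hNT hB ⟨χ, hχ, θ, hθb, hθ⟩
    obtain ⟨hdef, -⟩ := fong_reynolds_defect hM hst hb hB' hcov hind
    obtain ⟨C, hC, hto, hfrom, -⟩ := fong_reynolds hM hst hb hB' hcov
    obtain rfl := induced_unique hPm hC hind
    have hmul : ∀ {η : IrrCharacter G} {ψ : IrrCharacter T}, (η : G → ℂ) = indFun T (ψ : T → ℂ) →
        classInner (fun t : T => (η : G → ℂ) t) (ψ : T → ℂ) ≠ 0 := by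
      intro η ψ he h0
      have h1 := frobenius T (ψ : T → ℂ) (isClassFunction_character (irr_isCharacter η.2))
      rw [← he, irr_self η.2, ← classInner_symm, h0, map_zero] at h1
      exact one_ne_zero h1
    obtain ⟨hcard, hrank⟩ := card_rank_of_bij hM hB' hto hfrom fun ψ hψ φ hφ he => by
      obtain ⟨η, -, hη⟩ := hto ψ hψ
      obtain ⟨θ₁, hθ₁b, hθ₁⟩ := hst.all_over hM hb hB' hcov hψ
      obtain ⟨θ₂, hθ₂b, hθ₂⟩ := hst.all_over hM hb hB' hcov hφ
      exact (hst.eq_of_over hPm hb hθ₁b hθ₂b hθ₁ hθ₂ (hmul hη) (hmul (hη.trans he))).symm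
    obtain ⟨D', hD'⟩ := exists_isDefectGroup hM hB'
    obtain ⟨t, rfl⟩ := defect_groups_conj hM hC.2.1 (hdef D' hD') hD
    have hlt : Nat.card T < n := hn ▸ lt_of_le_of_ne (Subgroup.card_le_card_group T)
      (fun h => htop (Subgroup.eq_top_of_card_eq T h))
    obtain ⟨hc, he⟩ := ih _ hlt rfl (isPSolvable_subgroup hp.out hsolv T) hB' hD' (by
      rw [hcard, hrank, hk])
    constructor
    · exact ⟨⟨fun a b => by
        obtain ⟨_, _, ⟨a', ha', rfl⟩, rfl⟩ := a
        obtain ⟨_, _, ⟨b', hb', rfl⟩, rfl⟩ := b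
        refine Subtype.ext ?_
        simp only [Subgroup.coe_mul, MulEquiv.coe_toMonoidHom, Subgroup.coe_subtype]
        rw [← map_mul, ← map_mul, ← Subgroup.coe_mul, ← Subgroup.coe_mul,
          show a' * b' = b' * a' from congrArg Subtype.val (hc.is_comm.comm ⟨a', ha'⟩ ⟨b', hb'⟩)]⟩⟩
    · rintro _ ⟨_, ⟨a', ha', rfl⟩, rfl⟩
      rw [← map_pow, ← map_pow, he a' ha', map_one, map_one]

end PSolvable

end Cfsg.Agent.Char.RankGapOne
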