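import Cfsg.Agent.Lib.Char.QuotientBlocks
import Cfsg.Agent.Lib.Char.SectionCount
import Cfsg.Agent.Lib.Char.BlockInter

/-!
# Block rank and centralized normal `p`-subgroups
-/

set_option autoImplicit false
set_option linter.unusedSectionVars false
set_option linter.style.haveILetI false

namespace Cfsg.Agent.Char

open Cfsg
open scoped ComplexConjugate

universe u

variable {G : Type u} [Group G] [Fintype G] {M : Ideal AlgInt} {p : ℕ}
  (Q : Subgroup G) [Q.Normal] [Fintype (G ⧸ Q)]

theorem regular_mem_centralizer (hp : p.Prime) (hQ : IsPGroup p Q)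
    (hsup : Q ⊔ Subgroup.centralizer (Q : Set G) = ⊤) {g : G} (hg : ¬ p ∣ orderOf g) :
    g ∈ Subgroup.centralizer (Q : Set G) := by
  set C := Subgroup.centralizer (Q : Set G)
  have : C.Normal := inferInstance
  obtain ⟨q, hq, c, hc, rfl⟩ : ∃ q ∈ Q, ∃ c ∈ C, q * c = g :=
    Subgroup.mem_sup_of_normal_right.mp (hsup ▸ Subgroup.mem_top g)
  refine (QuotientGroup.eq_one_iff _).mp ?_
  have e : (QuotientGroup.mk (q * c) : G ⧸ C) = QuotientGroup.mk q := by
    rw [QuotientGroup.mk_mul, (QuotientGroup.eq_one_iff c).mpr hc, mul_one]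
  haveI := Fact.mk hp
  obtain ⟨k, hk⟩ := (IsPGroup.iff_orderOf.mp hQ) ⟨q, hq⟩
  rw [Subgroup.orderOf_mk] at hk
  rw [← orderOf_eq_one_iff]
  refine Nat.eq_one_of_dvd_coprimes (Nat.Coprime.pow_left k (hp.coprime_iff_not_dvd.mpr hg)) ?_
    (orderOf_map_dvd (QuotientGroup.mk' C) (q * c))
  rw [← hk, e]
  exact orderOf_map_dvd (QuotientGroup.mk' C) q

theorem inflChar_mem_principal_iff (hM : IsPModular p M) (hQ : IsPGroup p Q)
    (hsup : Q ⊔ Subgroup.centralizer (Q : Set G) = ⊤) (ψ : IrrCharacter (G ⧸ Q)) :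
    inflChar Q ψ ∈ principalBlock M G ↔ ψ ∈ principalBlock M (G ⧸ Q) := by
  have hP := pmod_prime hM
  have e1 : inflChar Q (⟨fun _ => 1, isIrrCharacter_one⟩ : IrrCharacter (G ⧸ Q)) =
      (⟨fun _ => 1, isIrrCharacter_one⟩ : IrrCharacter G) := rfl
  constructor
  · intro h
    have h' : SameBlock M
        (inflChar Q (⟨fun _ => 1, isIrrCharacter_one⟩ : IrrCharacter (G ⧸ Q)) : G → ℂ)
        (inflChar Q ψ : G → ℂ) := by rw [e1]; exact h
    exact sameBlock_of_inflate hM (fun g hg => Or.inl (by
      rw [clsRatio_eq_one hM.1 hQ hg (regular_mem_centralizer Q hM.1 hQ hsup hg)]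
      exact hM.1.not_dvd_one)) h'
  · intro h
    have h' := sameBlock_inflate (N := Q) hP
      (χ := (⟨fun _ => 1, isIrrCharacter_one⟩ : IrrCharacter (G ⧸ Q))) (ψ := ψ) h
    rw [e1] at h'
    exact h'

/-- Transport of functions on regular elements from the quotient. -/
noncomputable def regPull (p : ℕ) : (G ⧸ Q → ℂ) →ₗ[ℂ] (G → ℂ) where
  toFun f g := regInd p g * f (QuotientGroup.mk g)
  map_add' a b := by funext g; simp [mul_add]
  map_smul' r a := by funext g; simp [mul_left_comm]

theorem regPull_pRegularPart (ψ : IrrCharacter (G ⧸ Q)) :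
    regPull Q p (pRegularPart p (ψ : G ⧸ Q → ℂ)) =
      pRegularPart p (inflChar Q ψ : G → ℂ) := by
  funext g
  rw [pRegularPart_eq_mul, pRegularPart_eq_mul]
  simp only [regPull, LinearMap.coe_mk, AddHom.coe_mk, Pi.mul_apply]
  by_cases hg : p ∣ orderOf g
  · rw [regInd_of_sing hg]; simp
  · rw [regInd_of_reg hg, regInd_of_reg (x := (QuotientGroup.mk g : G ⧸ Q))
      fun h => hg (h.trans (orderOf_map_dvd (QuotientGroup.mk' Q) g))]
    simp [inflChar]

open scoped Classical in
theorem blockSpan_principal_eq (hM : IsPModular p M) (hQ : IsPGroup p Q)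
    (hsup : Q ⊔ Subgroup.centralizer (Q : Set G) = ⊤) :
    blockSpan p (principalBlock M G) =
      (blockSpan p (principalBlock M (G ⧸ Q))).map (regPull Q p) := by
  have hP := pmod_prime hM
  have hp := hM.1
  refine le_antisymm (Submodule.span_le.mpr ?_) ((Submodule.map_span_le _ _ _).mpr ?_)
  · rintro _ ⟨θ, hθ, rfl⟩
    set F : G ⧸ Q → ℂ := fun q => if h : ¬ p ∣ orderOf q then
      (θ : G → ℂ) (exists_regular_lift hp h).choose else 0 with hF
    have huniq : ∀ {g g' : G}, ¬ p ∣ orderOf g → ¬ p ∣ orderOf g' →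
        (QuotientGroup.mk g : G ⧸ Q) = QuotientGroup.mk g' → g = g' := by
      intro g g' hg hg' h
      have hm : g⁻¹ * g' ∈ Q := QuotientGroup.eq.mp h
      have hc : Commute g (g⁻¹ * g') := (Subgroup.mem_centralizer_iff.mp
        (regular_mem_centralizer Q hp hQ hsup hg) _ hm).symm
      haveI := Fact.mk hp
      obtain ⟨k, hk⟩ := (IsPGroup.iff_orderOf.mp hQ) ⟨_, hm⟩
      rw [Subgroup.orderOf_mk] at hk
      have hcop : (orderOf g).Coprime (orderOf (g⁻¹ * g')) := by
        rw [hk]; exact ((hp.coprime_iff_not_dvd.mpr hg).pow_left k).symm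
      have h2 := hc.orderOf_mul_eq_mul_orderOf_of_coprime hcop
      rw [mul_inv_cancel_left] at h2
      refine inv_mul_eq_one.mp (orderOf_eq_one_iff.mp ?_)
      rw [hk]
      rcases Nat.eq_zero_or_pos k with h0 | h0
      · rw [h0, pow_zero]
      · exact absurd (h2 ▸ (hk ▸ dvd_pow_self p h0.ne').mul_left _) hg'
    have hFv : ∀ g : G, ¬ p ∣ orderOf g → F (QuotientGroup.mk g) = (θ : G → ℂ) g := by
      intro g hg
      have hq : ¬ p ∣ orderOf (QuotientGroup.mk g : G ⧸ Q) :=
        fun h => hg (h.trans (orderOf_map_dvd (QuotientGroup.mk' Q) g))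
      obtain ⟨h1, h2⟩ := (exists_regular_lift hp hq).choose_spec
      simp only [hF, dif_pos hq]
      rw [huniq h1 hg h2]
    have hFc : IsClassFunction (G ⧸ Q) F := by
      intro a k
      obtain ⟨k', rfl⟩ := QuotientGroup.mk_surjective k
      have ho : orderOf (QuotientGroup.mk k' * a * (QuotientGroup.mk k' : G ⧸ Q)⁻¹) = orderOf a := by
        rw [← MulAut.conj_apply, MulEquiv.orderOf_eq]
      by_cases ha : p ∣ orderOf a
      · simp only [hF, ho, ha, not_true, dite_false]
      · obtain ⟨g, hg, rfl⟩ := exists_regular_lift hp ha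
        have ho' : orderOf (k' * g * k'⁻¹) = orderOf g := by
          rw [← MulAut.conj_apply, MulEquiv.orderOf_eq]
        rw [← QuotientGroup.mk_mul, ← QuotientGroup.mk_inv, ← QuotientGroup.mk_mul,
          hFv g hg, hFv _ (ho'.symm ▸ hg)]
        exact isClassFunction_character (irr_isCharacter θ.2) g k'
    have hexp : pRegularPart p (θ : G → ℂ) = ∑ ψ : IrrCharacter (G ⧸ Q),
        classInner F (ψ : G ⧸ Q → ℂ) • pRegularPart p (inflChar Q ψ : G → ℂ) := by
      funext g
      rw [Finset.sum_apply]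
      simp only [pRegularPart_eq_mul, Pi.smul_apply, Pi.mul_apply, smul_eq_mul, ← mul_assoc]
      rw [← Finset.sum_mul]
      by_cases hg : p ∣ orderOf g
      · rw [regInd_of_sing hg, mul_zero, mul_zero]
      · have h := congrFun (classFun_expansion hFc) (QuotientGroup.mk g)
        rw [Finset.sum_apply] at h
        rw [← hFv g hg, h]
        rfl
    have hproj : blockPart (principalBlock M G) (pRegularPart p (θ : G → ℂ)) =
        pRegularPart p (θ : G → ℂ) := by
      rw [blockPart_blockSpan hM (isPBlock_principalBlock M) (isPBlock_principalBlock M)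
        (Submodule.subset_span ⟨θ, hθ, rfl⟩), if_pos rfl]
    show pRegularPart p (θ : G → ℂ) ∈ _
    rw [← hproj, hexp, ← blockPartL_apply, map_sum]
    refine Submodule.sum_mem _ fun ψ _ => ?_
    rw [map_smul, blockPartL_apply]
    refine Submodule.smul_mem _ _ ?_
    rw [blockPart_blockSpan hM (isPBlock_blockOf M (inflChar Q ψ)) (isPBlock_principalBlock M)
      (Submodule.subset_span ⟨_, self_mem_blockOf hP _, rfl⟩)]
    split_ifs with h
    · show pRegularPart p (inflChar Q ψ : G → ℂ) ∈ _
      rw [← regPull_pRegularPart]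
      exact Submodule.mem_map_of_mem (Submodule.subset_span ⟨ψ,
        (inflChar_mem_principal_iff Q hM hQ hsup ψ).mp (h.symm ▸ self_mem_blockOf hP _), rfl⟩)
    · exact Submodule.zero_mem _
  · rintro _ ⟨ψ, hψ, rfl⟩
    rw [regPull_pRegularPart]
    exact Submodule.subset_span ⟨_, (inflChar_mem_principal_iff Q hM hQ hsup ψ).mpr hψ, rfl⟩

theorem blockRank_principal_quotient (hM : IsPModular p M) (hQ : IsPGroup p Q)
    (hsup : Q ⊔ Subgroup.centralizer (Q : Set G) = ⊤) :
    blockRank p (principalBlock M G) = blockRank p (principalBlock M (G ⧸ Q)) := by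
  classical
  show Module.finrank ℂ (blockSpan p (principalBlock M G)) =
    Module.finrank ℂ (blockSpan p (principalBlock M (G ⧸ Q)))
  rw [blockSpan_principal_eq Q hM hQ hsup]
  let r := (regPull Q p).domRestrict (blockSpan p (principalBlock M (G ⧸ Q)))
  have hinj : Function.Injective r := by
    rw [← LinearMap.ker_eq_bot, Submodule.eq_bot_iff]
    rintro ⟨v, hv⟩ h
    rw [LinearMap.mem_ker] at h
    refine Subtype.ext (funext fun q => ?_)
    show v q = 0
    by_cases hq : p ∣ orderOf q
    · have hsupp : blockSpan p (principalBlock M (G ⧸ Q)) ≤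
          LinearMap.ker (LinearMap.proj q : (G ⧸ Q → ℂ) →ₗ[ℂ] ℂ) := Submodule.span_le.mpr (by
        rintro _ ⟨ψ, -, rfl⟩
        rw [SetLike.mem_coe, LinearMap.mem_ker]
        simp [pRegularPart_eq_mul, regInd_of_sing hq])
      exact hsupp hv
    · obtain ⟨g, hg, rfl⟩ := exists_regular_lift hM.1 hq
      have h2 := congrFun h g
      simpa [r, regPull, regInd_of_reg hg] using h2
  have hr : (blockSpan p (principalBlock M (G ⧸ Q))).map (regPull Q p) = LinearMap.range r :=
    (LinearMap.range_domRestrict _ _).symm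
  rw [hr, LinearMap.finrank_range_of_inj hinj]

end Cfsg.Agent.Char
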