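import Cfsg.Agent.Lib.Char.MajorAverage
import Cfsg.Agent.Lib.Char.SubsectionForm
import Cfsg.Agent.Lib.Char.CyclicBlockForm
import Cfsg.Agent.Lib.Char.CentralPairs

/-!
# Blocks with abelian defect group of rank at most three

A subsection at an element of largest order leaves a block whose defect group has smaller rank, so
`k(B) ≤ p ^ d` in rank two and `k(B) ≤ p ^ (2 d - a)` in rank three, where `p ^ a` is the exponent.
-/

set_option autoImplicit false
set_option linter.unusedSectionVars false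
set_option linter.style.haveILetI false

open Cfsg

namespace Cfsg.Agent.Char.RankDefect

universe u

theorem isCyclic_of_rank_le_one {A : Type*} [Group A] [Finite A] (h : Group.rank A ≤ 1) : IsCyclic A := by
  obtain ⟨S, hS, htop⟩ := Group.rank_spec A
  rw [isCyclic_iff_exists_zpowers_eq_top]
  rcases S.eq_empty_or_nonempty with rfl | ⟨g, hg⟩
  · exact ⟨1, by rw [Subgroup.zpowers_one_eq_bot, ← htop, Finset.coe_empty, Subgroup.closure_empty]⟩
  · refine ⟨g, ?_⟩
    rw [← htop, Subgroup.zpowers_eq_closure,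
      show S = {g} from Finset.eq_singleton_iff_unique_mem.mpr ⟨hg, fun y hy =>
        Finset.card_le_one.mp (by omega) y hy g hg⟩, Finset.coe_singleton]

/-- A surjection killing an element of largest order lowers the rank of an abelian `p`-group. -/
theorem rank_lt {A B : Type*} [CommGroup A] [Finite A] [Group B] [Finite B] {p : ℕ} (hp : p.Prime)
    (hA : IsPGroup p A) {x : A} (hx : x ≠ 1) (hmax : ∀ y : A, orderOf y ∣ orderOf x) (f : A →* B)
    (hf : Function.Surjective f) (hfx : f x = 1) : Group.rank B < Group.rank A := by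
  classical
  haveI := Fact.mk hp
  obtain ⟨S, hS, htop⟩ := Group.rank_spec A
  have hsub : Submonoid.closure (S : Set A) = ⊤ := by
    rw [← Subgroup.closure_toSubmonoid_of_finite, htop]
    rfl
  obtain ⟨n, -, hn⟩ := Submonoid.mem_closure_finset.mp (hsub ▸ Submonoid.mem_top x)
  have hex : ∃ g ∈ S, ¬ p ∣ n g := by
    by_contra h
    push Not at h
    choose! c hc using h
    set y := ∏ g ∈ S, g ^ c g with hy
    have hxy : x = y ^ p := by
      rw [← hn, hy, ← Finset.prod_pow]
      exact Finset.prod_congr rfl fun g hg => by rw [← pow_mul, mul_comm, ← hc g hg]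
    obtain ⟨i, -, hi⟩ := (Nat.dvd_prime_pow hp).mp (show orderOf x ∣ p ^ _ from
      orderOf_dvd_of_pow_eq_one (hA x).choose_spec)
    obtain ⟨k, rfl⟩ : ∃ k, i = k + 1 := ⟨i - 1, by
      have : i ≠ 0 := fun h0 => hx (orderOf_eq_one_iff.mp (by rw [hi, h0, pow_zero]))
      omega⟩
    have h1 : x ^ p ^ k = 1 := by
      rw [hxy, ← pow_mul, ← pow_succ']
      exact orderOf_dvd_iff_pow_eq_one.mp (hi ▸ hmax y)
    have h2 := orderOf_dvd_of_pow_eq_one h1
    rw [hi, Nat.pow_dvd_pow_iff_le_right hp.one_lt] at h2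
    omega
  obtain ⟨g, hg, hgn⟩ := hex
  set T := Subgroup.closure (((S.erase g).image f : Finset B) : Set B) with hT
  have hmem : ∀ a ∈ S.erase g, f a ∈ T := fun a ha =>
    Subgroup.subset_closure (Finset.mem_coe.mpr (Finset.mem_image_of_mem f ha))
  have hgT : f g ∈ T := by
    have h1 : f g ^ n g ∈ T := by
      have h2 : g ^ n g * ∏ a ∈ S.erase g, a ^ n a ∈ T.comap f := by
        rw [Finset.mul_prod_erase S (fun a => a ^ n a) hg, hn, Subgroup.mem_comap, hfx]
        exact Subgroup.one_mem _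
      have h3 : ∏ a ∈ S.erase g, a ^ n a ∈ T.comap f :=
        Subgroup.prod_mem (T.comap f) fun a ha =>
          Subgroup.pow_mem (T.comap f) (Subgroup.mem_comap.mpr (hmem a ha)) _
      rw [← map_pow]
      exact (Subgroup.mul_mem_cancel_right (T.comap f) h3).mp h2
    obtain ⟨i, hi⟩ := hA g
    have hco : (n g).Coprime (orderOf (f g)) :=
      Nat.Coprime.coprime_dvd_right ((orderOf_map_dvd f g).trans (orderOf_dvd_of_pow_eq_one hi))
        (Nat.Coprime.pow_right i ((hp.coprime_iff_not_dvd.mpr hgn).symm))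
    obtain ⟨m, hm⟩ := exists_pow_eq_self_of_coprime hco
    rw [← hm]
    exact Subgroup.pow_mem _ h1 m
  have htop' : T = ⊤ := by
    rw [← top_le_iff, ← MonoidHom.range_eq_top.mpr hf, MonoidHom.range_eq_map, ← htop, MonoidHom.map_closure,
      Subgroup.closure_le]
    rintro _ ⟨a, ha, rfl⟩
    by_cases h : a = g
    · exact h ▸ hgT
    · exact hmem a (Finset.mem_erase.mpr ⟨h, ha⟩)
  calc Group.rank B ≤ ((S.erase g).image f).card := Group.rank_le htop'
    _ ≤ (S.erase g).card := Finset.card_image_le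
    _ < S.card := Finset.card_erase_lt_of_mem hg
    _ = Group.rank A := hS

variable {G : Type u} [Group G] [Fintype G] {M : Ideal AlgInt} {p d : ℕ}

theorem blockRank_pos (hM : IsPModular p M) {B : Set (IrrCharacter G)} (hB : IsPBlock M B) :
    0 < blockRank p B := by
  rcases Nat.eq_zero_or_pos (blockRank p B) with h | h
  · exfalso
    have hs := pow_mul_blockRank hM hB
    rw [h, Nat.cast_zero, mul_zero] at hs
    obtain ⟨η, hη⟩ := block_nonempty (pmod_prime hM) hB
    have := Finset.single_le_sum (f := fun θ => wI p B θ θ)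
      (fun θ hθ => (wI_self_pos hM hB (mem_bset.mp hθ)).le) (mem_bset.mpr hη)
    have := wI_self_pos hM hB hη
    omega
  · exact h

/-- The least square of a nonzero image vector is at least `L` times the scale. -/
def ImageBound (M : Ideal AlgInt) (p r L : ℕ) (B : Set (IrrCharacter G)) : Prop :=
  ∀ (y : IrrCharacter G → ℤ) (v : IrrCharacter G → ℂ), (∀ χ ∈ bset B, MemLocalRing M (v χ)) →
    (∀ θ ∈ bset B, (y θ : ℂ) = ∑ χ ∈ bset B, (wI p B θ χ : ℂ) * v χ) → (∃ θ ∈ bset B, y θ ≠ 0) →
      (p : ℤ) ^ r * (L : ℤ) ≤ ∑ θ ∈ bset B, y θ ^ 2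

theorem imageBound_one (hM : IsPModular p M) {B : Set (IrrCharacter G)} (hB : IsPBlock M B) {r : ℕ}
    (hd : blockDefect p B = r) : ImageBound M p r 1 B := by
  intro y v hv hy hne
  have hP := pmod_prime hM
  have hpos : 0 < ∑ θ ∈ bset B, y θ ^ 2 := by
    obtain ⟨θ, hθ, h⟩ := hne
    exact Finset.sum_pos' (fun i _ => sq_nonneg _) ⟨θ, hθ, sq_pos_of_ne_zero h⟩
  have hWy : ∀ χ ∈ bset B, ∑ θ ∈ bset B, (y θ : ℂ) * (wI p B θ χ : ℂ) = (p : ℂ) ^ r * (y χ : ℂ) := by
    intro χ hχ
    rw [Finset.sum_congr rfl fun θ hθ => by rw [hy θ hθ, Finset.sum_mul], Finset.sum_comm, hy χ hχ, Finset.mul_sum]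
    refine Finset.sum_congr rfl fun k hk => ?_
    have h := congrArg (fun t : ℤ => (t : ℂ) * v k)
      (CyclicForm.wI_sq hM hB (mem_bset.mp hχ) (mem_bset.mp hk))
    simp only [hd, Int.cast_sum, Int.cast_mul, Int.cast_pow, Int.cast_natCast, Finset.sum_mul] at h
    exact (Finset.sum_congr rfl fun θ _ => by rw [wI_symm hM θ χ]; ring).trans (h.trans (by ring))
  rw [Nat.cast_one, mul_one]
  refine Int.le_of_dvd hpos (LocalSpan.dvd_of_memLR hM r ?_)
  have h2 : ((∑ θ ∈ bset B, y θ ^ 2 : ℤ) : ℂ) / (p : ℂ) ^ r = ∑ χ ∈ bset B, (y χ : ℂ) * v χ := by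
    rw [div_eq_iff (pow_ne_zero _ (Nat.cast_ne_zero.mpr hM.1.ne_zero)), Int.cast_sum, Finset.sum_mul,
      Finset.sum_congr rfl (g := fun θ => ∑ χ ∈ bset B, (y θ : ℂ) * ((wI p B θ χ : ℂ) * v χ)) (fun θ hθ => by
        rw [← Finset.mul_sum, ← hy θ hθ]; push_cast; ring), Finset.sum_comm]
    refine Finset.sum_congr rfl fun χ hχ => ?_
    rw [Finset.sum_congr rfl (g := fun θ => (y θ : ℂ) * (wI p B θ χ : ℂ) * v χ) (fun θ _ => by ring),
      ← Finset.sum_mul, hWy χ hχ]
    ring
  rw [h2]
  exact memLR_sum hP _ _ fun χ hχ => memLR_mul hP (memLR_intCast hP _) (hv χ hχ)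

open scoped Classical in
/-- The subsection at an element of largest order. -/
theorem exists_step (hM : IsPModular p M) {B : Set (IrrCharacter G)} (hB : IsPBlock M B) {D : Subgroup G}
    (hBD : IsDefectGroup p M B D) (hab : ∀ x ∈ D, ∀ y ∈ D, x * y = y * x) (hd : blockDefect p B = d)
    (hd0 : 1 ≤ d) :
    ∃ (a r : ℕ) (K : Type u) (_ : Group K) (_ : Fintype K) (Bb : Set (IrrCharacter K)) (E : Subgroup K),
      IsPBlock M Bb ∧ IsDefectGroup p M Bb E ∧ (∀ x ∈ E, ∀ y ∈ E, x * y = y * x) ∧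
        Group.rank E < Group.rank D ∧ blockDefect p Bb = r ∧ a + r = d ∧ d ≤ a * Group.rank D ∧
          (r = 0 → IsCyclic D) ∧
            ∀ L, ImageBound M p r L Bb → Nat.card B * L ≤ p ^ d * blockRank p Bb := by
  have hp := hM.1
  haveI := Fact.mk hp
  have hP := pmod_prime hM
  have hcD : Nat.card D = p ^ d := hd ▸ card_defectGroup hM hB hBD
  letI : CommGroup D := { (inferInstance : Group D) with mul_comm := fun x y => Subtype.ext (hab x x.2 y y.2) }
  have hDp : IsPGroup p D := IsPGroup.of_card hcD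
  obtain ⟨⟨x, hxD⟩, hxmax⟩ := Monoid.exists_orderOf_eq_exponent (G := D) Monoid.ExponentExists.of_finite
  rw [Subgroup.orderOf_mk] at hxmax
  obtain ⟨a, -, hxo⟩ := (Nat.dvd_prime_pow hp).mp (show orderOf x ∣ p ^ d from by
    rw [← hcD, ← Subgroup.orderOf_mk x hxD]; exact orderOf_dvd_natCard _)
  have hexp : ∀ y ∈ D, orderOf y ∣ p ^ a := fun y hy => by
    rw [← hxo, hxmax, ← Subgroup.orderOf_mk y hy]
    exact Monoid.order_dvd_exponent _
  have hrk : d ≤ a * Group.rank D := by
    have h := card_dvd_exponent_pow_rank D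
    rw [hcD, ← hxmax, hxo, ← pow_mul] at h
    exact (Nat.pow_dvd_pow_iff_le_right hp.one_lt).mp h
  have ha : 1 ≤ a := by
    rcases Nat.eq_zero_or_pos a with h | h
    · rw [h, Nat.zero_mul] at hrk; omega
    · exact h
  -- the subsection
  obtain ⟨c, hmax⟩ := CyclicForm.exists_pair hM hB hBD hab
  obtain ⟨f, -, -, hfind, hfd⟩ := CentralPairs.exists_below hM hmax hxD fun y hy => hab y hy x hxD
  set H := Subgroup.centralizer ({x} : Set G) with hH
  obtain ⟨e, he, hed, -, heind⟩ := CentralPairs.exists_same (B := B) (p := p) (M := M)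
    (show Subgroup.centralizer (Subgroup.zpowers x : Set G) = H from centralizer_zpowers_eq) f hfind.1
  have hind := heind hfind
  haveI : Fintype H := Fintype.ofFinite _
  have hxH : x ∈ H := Subgroup.mem_centralizer_singleton_iff.mpr rfl
  set xc : H := ⟨x, hxH⟩ with hxc
  have hcent : ∀ c : H, xc * c = c * xc := fun c => Subtype.ext (cent_mul_comm c)
  have hxco : orderOf xc = p ^ a := by rw [hxc, Subgroup.orderOf_mk, hxo]
  obtain ⟨Db, hDb⟩ := exists_isDefectGroup hM he
  obtain ⟨E, hE, hle⟩ := induced_defect_le hM hind hDb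
  obtain ⟨g, hg⟩ := defect_groups_conj hM hB hBD hE
  have hed' : blockDefect p e = d := hed.trans (hfd.trans hd)
  have hmap : Db.map H.subtype = E := Subgroup.eq_of_le_of_card_ge hle (by
    rw [Subgroup.card_map_of_injective H.subtype_injective, card_defectGroup hM he hDb,
      card_defectGroup hM hB hE, hed', hd])
  set φ : D ≃* Db := ((D.equivMapOfInjective (MulAut.conj g).toMonoidHom (MulEquiv.injective _)).trans
    (MulEquiv.subgroupCongr (hg.symm.trans hmap.symm))).trans
      (Db.equivMapOfInjective H.subtype H.subtype_injective).symm with hφ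
  letI : CommGroup Db := { (inferInstance : Group Db) with
    mul_comm := fun u w => by
      obtain ⟨u, rfl⟩ := φ.surjective u
      obtain ⟨w, rfl⟩ := φ.surjective w
      rw [← map_mul, ← map_mul, mul_comm u w] }
  set Z := Subgroup.zpowers xc with hZ
  haveI : Z.Normal := ⟨fun w hw g => by
    obtain ⟨n, rfl⟩ := hw
    have hc : Commute g (xc ^ n) := Commute.zpow_right (hcent g).symm n
    rw [hc.eq, mul_inv_cancel_right]
    exact Subgroup.zpow_mem_zpowers _ _⟩
  have hZp : IsPGroup p Z := IsPGroup.of_card (n := a) (by rw [hZ, Nat.card_zpowers, hxco])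
  have hZD : Z ≤ Db := pCore_le_defectGroup hM he hDb Z hZp
  haveI : Fintype (H ⧸ Z) := Fintype.ofFinite _
  obtain ⟨Bb, hBb, hsub, hdef⟩ := exists_quotient_block_defect hM hZp he
  set r := blockDefect p Bb with hr
  have har : a + r = d := by
    have h1 := card_defectGroup hM hBb (hdef Db hDb)
    have h2 := Cfsg.Agent.Solv.card_map_mk'_mul_card_inf Z Db
    rw [inf_eq_left.mpr hZD, h1, card_defectGroup hM he hDb, hed', show Nat.card Z = orderOf xc from
      Nat.card_zpowers xc, hxco, ← hr, ← pow_add] at h2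
    have := Nat.pow_right_injective hp.two_le h2
    omega
  refine ⟨a, r, H ⧸ Z, inferInstance, inferInstance, Bb, Db.map (QuotientGroup.mk' Z), hBb, hdef Db hDb,
    ?_, ?_, rfl, har, hrk, fun h0 => ?_, fun L hL => ?_⟩
  · rintro _ ⟨u, hu, rfl⟩ _ ⟨w, hw, rfl⟩
    rw [← map_mul, ← map_mul, show u * w = w * u from congrArg Subtype.val (mul_comm (⟨u, hu⟩ : Db) ⟨w, hw⟩)]
  · rw [Group.rank_congr φ]
    have hxDb : xc ∈ Db := hZD (Subgroup.mem_zpowers xc)
    refine rank_lt hp (hDp.of_equiv φ) (x := ⟨xc, hxDb⟩) (fun h => ?_) (fun w => ?_)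
      ((QuotientGroup.mk' Z).subgroupMap Db) (MonoidHom.subgroupMap_surjective _ _) (Subtype.ext ?_)
    · have := congrArg (fun w : Db => orderOf (w : H)) h
      simp only [OneMemClass.coe_one, orderOf_one, hxco] at this
      exact absurd (Nat.pow_eq_one.mp this) (by have := hp.two_le; omega)
    · obtain ⟨w, rfl⟩ := φ.surjective w
      rw [MulEquiv.orderOf_eq, ← Subgroup.orderOf_coe, ← Subgroup.orderOf_coe (⟨xc, hxDb⟩ : Db)]
      show _ ∣ orderOf xc
      rw [hxco]
      exact hexp _ w.2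
    · exact (QuotientGroup.eq_one_iff xc).mpr (Subgroup.mem_zpowers xc)
  · have hda : d = a := by omega
    exact isCyclic_of_orderOf_eq_card (⟨x, hxD⟩ : D) (by rw [Subgroup.orderOf_mk, hxo, hcD, hda])
  obtain ⟨ω, hω⟩ : ∃ ω : ℂ, IsPrimitiveRoot ω (p ^ a) :=
    ⟨_, Complex.isPrimitiveRoot_exp _ (pow_ne_zero a hp.ne_zero)⟩
  obtain ⟨j, hj, hz⟩ := MajorSub.exists_expo (x := x) (p := p) (k := a) hxo hω
  have hdr : blockDefect p e = a + r := hed'.trans har.symm
  have hrank := SubForm.rank_eq hM he hcent hxco hω hj hz hZ hdr hBb hsub rfl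
  have h := CentralClass.card_mul_le (L := L) hM hxo ha hind hdr (hed'.trans hd.symm) hω hj hz fun y m hy hne => by
    obtain ⟨v, hv, hyv⟩ := SubForm.local_image hM he hcent hxco hω hj hz hZ hdr hBb hsub rfl y m hy
    rw [SubForm.cls_eq_image hM he hcent hxco hω hj hz hZ hBb hsub] at hne ⊢
    rw [Finset.sum_image SubForm.inflChar_injective.injOn]
    refine hL (fun θ => y (inflChar Z θ)) v hv hyv ?_
    obtain ⟨θ, hθ, hne⟩ := hne
    obtain ⟨θ', hθ', rfl⟩ := Finset.mem_image.mp hθ
    exact ⟨θ', hθ', hne⟩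
  rw [har, hrank] at h
  rw [CentralClass.natCard_eq_bset]
  exact h

/-- `k(B) ≤ p ^ d` for abelian defect groups on two generators. -/
theorem card_le_pow {G : Type u} [Group G] [Fintype G] (hM : IsPModular p M) {B : Set (IrrCharacter G)}
    (hB : IsPBlock M B) {D : Subgroup G}
    (hBD : IsDefectGroup p M B D) (hab : ∀ x ∈ D, ∀ y ∈ D, x * y = y * x) (hrk : Group.rank D ≤ 2) :
    Nat.card B ≤ p ^ blockDefect p B := by
  by_cases hcyc : IsCyclic D
  · exact CyclicForm.card_le hM hB hBD hcyc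
  rcases Nat.eq_zero_or_pos (blockDefect p B) with h0 | h0
  · rw [h0, ((defect_zero_iff_rank hM hB).1.mp h0).1, pow_zero]
  obtain ⟨a, r, K, _, _, Bb, E, hBb, hE, -, hlt, hr, -, -, hcy, hbound⟩ := exists_step hM hB hBD hab rfl h0
  have hEc : IsCyclic E := isCyclic_of_rank_le_one (by omega)
  have hr1 : 1 ≤ r := Nat.pos_of_ne_zero fun h => hcyc (hcy h)
  exact Nat.le_of_mul_le_mul_right
    (hbound _ fun y v hv hy hne => CyclicForm.le_image hM hBb hE hEc hr hr1 y v hv hy hne)
    (blockRank_pos hM hBb)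

/-- `k(B) ^ 3 ≤ p ^ (5 d)` for abelian defect groups on three generators. -/
theorem card_pow_three_le (hM : IsPModular p M) {B : Set (IrrCharacter G)} (hB : IsPBlock M B) {D : Subgroup G}
    (hBD : IsDefectGroup p M B D) (hab : ∀ x ∈ D, ∀ y ∈ D, x * y = y * x) (hrk : Group.rank D ≤ 3) :
    Nat.card B ^ 3 ≤ p ^ (5 * blockDefect p B) := by
  rcases Nat.eq_zero_or_pos (blockDefect p B) with h0 | h0
  · rw [h0, ((defect_zero_iff_rank hM hB).1.mp h0).1]
    simp
  obtain ⟨a, r, K, _, _, Bb, E, hBb, hE, hEab, hlt, hr, har, hda, -, hbound⟩ := exists_step hM hB hBD hab rfl h0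
  have h1 := hbound 1 (imageBound_one hM hBb hr)
  rw [mul_one] at h1
  have h2 : blockRank p Bb ≤ p ^ r :=
    blockRank_le_card.trans (hr ▸ card_le_pow hM hBb hE hEab (by omega))
  have h3 : blockDefect p B ≤ a * 3 := hda.trans (Nat.mul_le_mul_left a hrk)
  calc Nat.card B ^ 3 ≤ (p ^ blockDefect p B * p ^ r) ^ 3 :=
        Nat.pow_le_pow_left (h1.trans (Nat.mul_le_mul_left _ h2)) 3
    _ ≤ p ^ (5 * blockDefect p B) := by
        rw [← pow_add, ← pow_mul]
        exact Nat.pow_le_pow_right hM.1.pos (by omega)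

end Cfsg.Agent.Char.RankDefect
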