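import Cfsg.Agent.Lib.Char.SylowMatrix
import Cfsg.Agent.Lib.Char.OddCentralizerDefectZero
import Cfsg.Agent.Lib.Char.GaloisConj

/-!
# A real class and the fixed characters of even degree, for an abelian Sylow two-subgroup

The number of pairs in a real class of odd order elements differing by an element of a commutative Sylow two-subgroup
is an odd multiple of the two-part of the class length. So some character that is invariant under a given involutory
Galois action has odd central character at the class, and its degree is even.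
-/

set_option autoImplicit false
set_option linter.unusedSectionVars false
set_option maxHeartbeats 1000000

namespace Cfsg.Agent.Char.RealClassFixed

open Cfsg Cfsg.Agent.Char.OddCent
open scoped Classical

universe u v

/-- An invariant weight, supported where the stabilizers are small, has a sum divisible by a large power of two. -/
theorem dvd_sum_weight {H : Type u} [Group H] [Finite H] {α : Type v} [Fintype α] [MulAction H α] {A n : ℕ}
    (hH : Nat.card H = 2 ^ A) (g : α → ℕ) (hg : ∀ (h : H) a, g (h • a) = g a)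
    (hst : ∀ a, g a ≠ 0 → Nat.card (MulAction.stabilizer H a) * 2 ^ n ≤ 2 ^ A) : 2 ^ n ∣ ∑ a, g a := by
  rw [← Finset.sum_fiberwise Finset.univ (fun a => (Quotient.mk (MulAction.orbitRel H α) a)) g]
  refine Finset.dvd_sum fun q _ => ?_
  induction q using Quotient.inductionOn with
  | h a =>
    have hfib : (Finset.univ.filter fun b => Quotient.mk (MulAction.orbitRel H α) b = Quotient.mk _ a) =
        (MulAction.orbit H a).toFinset := by
      ext b
      simp only [Finset.mem_filter, Finset.mem_univ, true_and, Set.mem_toFinset, Quotient.eq,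
        MulAction.orbitRel_apply]
    rw [hfib, Finset.sum_congr rfl (g := fun _ => g a) fun b hb => by
      obtain ⟨h, rfl⟩ := Set.mem_toFinset.1 hb
      exact hg h a, Finset.sum_const, smul_eq_mul]
    by_cases h0 : g a = 0
    · simp [h0]
    refine Dvd.dvd.mul_right ?_ _
    rw [Set.toFinset_card, ← Nat.card_eq_fintype_card]
    have hmul : Nat.card (MulAction.orbit H a) * Nat.card (MulAction.stabilizer H a) = 2 ^ A := by
      rw [← hH, ← Nat.card_prod]
      exact Nat.card_congr (MulAction.orbitProdStabilizerEquivGroup H a)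
    obtain ⟨j, -, hj⟩ := (Nat.dvd_prime_pow Nat.prime_two).1 (Dvd.intro _ hmul)
    rw [hj] at hmul ⊢
    refine Nat.pow_dvd_pow 2 ((Nat.pow_le_pow_iff_right (by norm_num : 1 < 2)).1 ?_)
    refine le_of_mul_le_mul_left (a := Nat.card (MulAction.stabilizer H a)) ?_ Nat.card_pos
    calc Nat.card (MulAction.stabilizer H a) * 2 ^ n ≤ 2 ^ A := hst a h0
      _ = Nat.card (MulAction.stabilizer H a) * 2 ^ j := by rw [mul_comm, hmul]

variable {G : Type u} [Group G] (P : Subgroup G)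

/-- Conjugation together with inversion. -/
@[reducible] def invAction : MulAction (P × ℤˣ) G where
  smul h u := (h.1 : G) * u ^ ((h.2 : ℤ)) * (h.1 : G)⁻¹
  one_smul u := by
    change ((1 : P) : G) * u ^ (((1 : ℤˣ)) : ℤ) * ((1 : P) : G)⁻¹ = u
    simp
  mul_smul a b u := by
    change ((a.1 * b.1 : P) : G) * u ^ (((a.2 * b.2 : ℤˣ)) : ℤ) * ((a.1 * b.1 : P) : G)⁻¹ =
      (a.1 : G) * ((b.1 : G) * u ^ ((b.2 : ℤ)) * (b.1 : G)⁻¹) ^ ((a.2 : ℤ)) * (a.1 : G)⁻¹
    rw [conj_zpow, ← zpow_mul, Units.val_mul, mul_comm (a.2 : ℤ), Subgroup.coe_mul, mul_inv_rev]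
    group

/-- The swap of a pair, for the negative unit. -/
def tw (ε : ℤˣ) (a : G × G) : G × G := if ε = 1 then a else a.swap

theorem tw_mul (ε η : ℤˣ) (a : G × G) : tw (ε * η) a = tw ε (tw η a) := by
  rcases Int.units_eq_one_or ε with rfl | rfl <;> rcases Int.units_eq_one_or η with rfl | rfl <;>
    simp [tw]

/-- Conjugation of pairs together with the swap. -/
instance pairAction : MulAction (P × ℤˣ) (G × G) where
  smul h a := ((h.1 : G) * (tw h.2 a).1 * (h.1 : G)⁻¹, (h.1 : G) * (tw h.2 a).2 * (h.1 : G)⁻¹)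
  one_smul a := by
    change (((1 : P) : G) * (tw 1 a).1 * ((1 : P) : G)⁻¹, ((1 : P) : G) * (tw 1 a).2 * ((1 : P) : G)⁻¹) = a
    simp [tw]
  mul_smul x y a := by
    change (((x.1 * y.1 : P) : G) * (tw (x.2 * y.2) a).1 * ((x.1 * y.1 : P) : G)⁻¹,
        ((x.1 * y.1 : P) : G) * (tw (x.2 * y.2) a).2 * ((x.1 * y.1 : P) : G)⁻¹) =
      ((x.1 : G) * (tw x.2 ((y.1 : G) * (tw y.2 a).1 * (y.1 : G)⁻¹, (y.1 : G) * (tw y.2 a).2 * (y.1 : G)⁻¹)).1 *
        (x.1 : G)⁻¹,
       (x.1 : G) * (tw x.2 ((y.1 : G) * (tw y.2 a).1 * (y.1 : G)⁻¹, (y.1 : G) * (tw y.2 a).2 * (y.1 : G)⁻¹)).2 *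
        (x.1 : G)⁻¹)
    rw [tw_mul, Subgroup.coe_mul]
    rcases Int.units_eq_one_or x.2 with e | e <;> simp [e, tw, mul_assoc]

/-- The number of elements of the subgroup fixing an element. -/
noncomputable def fixCard (u : G) : ℕ := Nat.card {r : P // (r : G) * u * (r : G)⁻¹ = u}

variable {P} [Fintype G]

theorem fixCard_conj (hab : ∀ a ∈ P, ∀ b ∈ P, a * b = b * a) (r : P) (u : G) :
    fixCard P ((r : G) * u * (r : G)⁻¹) = fixCard P u := by
  refine Nat.card_congr (Equiv.subtypeEquivRight fun s => ?_)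
  rw [show (s : G) * ((r : G) * u * (r : G)⁻¹) * (s : G)⁻¹ =
    ((s : G) * (r : G)) * u * ((s : G) * (r : G))⁻¹ by group, hab _ s.2 _ r.2]
  constructor
  · intro h
    have h2 : (r : G) * ((s : G) * u * (s : G)⁻¹) * (r : G)⁻¹ = (r : G) * u * (r : G)⁻¹ := by
      rw [← h]; group
    exact mul_left_cancel (mul_right_cancel h2)
  · intro h
    rw [mul_inv_rev, show (r : G) * (s : G) * u * ((s : G)⁻¹ * (r : G)⁻¹) =
      (r : G) * ((s : G) * u * (s : G)⁻¹) * (r : G)⁻¹ by group, h]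

theorem fixCard_inv (u : G) : fixCard P u⁻¹ = fixCard P u := by
  refine Nat.card_congr (Equiv.subtypeEquivRight fun r => ?_)
  rw [← inv_inj]
  simp [mul_assoc]

theorem fixCard_dvd (u : G) : fixCard P u ∣ Nat.card (Subgroup.centralizer ({u} : Set G)) := by
  have e : fixCard P u = Nat.card (P ⊓ Subgroup.centralizer ({u} : Set G) : Subgroup G) := Nat.card_congr
    { toFun := fun r => ⟨(r.1 : G), r.1.2, Subgroup.mem_centralizer_singleton_iff.2 (mul_inv_eq_iff_eq_mul.1 r.2)⟩
      invFun := fun r => ⟨⟨(r : G), r.2.1⟩,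
        mul_inv_eq_iff_eq_mul.2 (Subgroup.mem_centralizer_singleton_iff.1 r.2.2)⟩
      left_inv := fun _ => rfl
      right_inv := fun _ => rfl }
  exact e ▸ Subgroup.card_dvd_of_le inf_le_right

theorem fixCard_dvd_card (u : G) : fixCard P u ∣ Nat.card P := by
  let S : Subgroup P :=
    { carrier := {r : P | (r : G) * u * (r : G)⁻¹ = u}
      one_mem' := by simp
      mul_mem' := fun {a b} ha hb => by
        simp only [Set.mem_setOf_eq, Subgroup.coe_mul, mul_inv_rev] at ha hb ⊢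
        rw [show (a : G) * b * u * ((b : G)⁻¹ * (a : G)⁻¹) = (a : G) * ((b : G) * u * (b : G)⁻¹) * (a : G)⁻¹ by group,
          hb, ha]
      inv_mem' := fun {a} ha => by
        simp only [Set.mem_setOf_eq, Subgroup.coe_inv, inv_inv] at ha ⊢
        nth_rewrite 1 [← ha]
        group }
  exact Subgroup.card_subgroup_dvd_card S

section count

variable {y : G} {a d : ℕ}

/-- A stabilizer without the negative unit is small. -/
theorem card_stab_le {α : Type v} [MulAction (P × ℤˣ) α] (b : α) (f : P → Prop) (m : ℕ)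
    (h1 : ∀ r : P, ((r, (1 : ℤˣ)) : P × ℤˣ) • b = b → f r) (hm : Nat.card {r : P // f r} ≤ m)
    (hneg : ¬ ∃ r : P, ((r, (-1 : ℤˣ)) : P × ℤˣ) • b = b) :
    Nat.card (MulAction.stabilizer (P × ℤˣ) b) ≤ m := by
  have hone : ∀ s : MulAction.stabilizer (P × ℤˣ) b, (s : P × ℤˣ).2 = 1 := fun s => by
    rcases Int.units_eq_one_or (s : P × ℤˣ).2 with e | e
    · exact e
    · exact absurd ⟨(s : P × ℤˣ).1, by rw [← e]; exact s.2⟩ hneg
  refine le_trans ?_ hm
  refine Nat.card_le_card_of_injective (fun s => ⟨(s : P × ℤˣ).1, h1 _ (by rw [← hone s]; exact s.2)⟩)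
    fun s t hst => ?_
  exact Subtype.ext (Prod.ext (congrArg Subtype.val hst) ((hone s).trans (hone t).symm))

/-- A stabilizer is at most twice its positive part. -/
theorem card_stab_le_two {α : Type v} [MulAction (P × ℤˣ) α] (b : α) (f : P → Prop) (m : ℕ)
    (h1 : ∀ r : P, ((r, (1 : ℤˣ)) : P × ℤˣ) • b = b → f r) (hm : Nat.card {r : P // f r} ≤ m) :
    Nat.card (MulAction.stabilizer (P × ℤˣ) b) ≤ 2 * m := by
  set S := MulAction.stabilizer (P × ℤˣ) b
  set φ : S →* ℤˣ := (MonoidHom.snd P ℤˣ).comp S.subtype with hφ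
  rw [← φ.ker.card_mul_index, mul_comm]
  refine Nat.mul_le_mul ?_ ?_
  · rw [Subgroup.index_ker]
    exact (Nat.card_le_card_of_injective _ Subtype.val_injective).trans
      (by simp [Nat.card_eq_fintype_card])
  · have hone : ∀ s : φ.ker, ((s : S) : P × ℤˣ).2 = 1 := fun s => s.2
    refine le_trans ?_ hm
    refine Nat.card_le_card_of_injective
      (fun s => ⟨((s : S) : P × ℤˣ).1, h1 _ (by rw [← hone s]; exact (s : S).2)⟩) fun s t hst => ?_
    exact Subtype.ext (Subtype.ext (Prod.ext (congrArg Subtype.val hst) ((hone s).trans (hone t).symm)))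

/-- The pair count of a real class of elements of odd order is an odd multiple of the two-part of the class length. -/
theorem not_dvd_pairCount (hP : Nat.card P = 2 ^ a) (hab : ∀ x ∈ P, ∀ z ∈ P, x * z = z * x)
    (hy : Odd (orderOf y)) (hreal : IsConj y y⁻¹)
    (hd : (Nat.card (Subgroup.centralizer ({y} : Set G))).factorization 2 = d) (hda : d < a)
    {k : ℕ} (hk : Odd k) (hK : Nat.card {g : G // IsConj y g} = 2 ^ (a - d) * k) :
    ¬ 2 ^ (a - d + 1) ∣ pairCount P y y := by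
  set n := a - d with hn
  have hA : Nat.card (P × ℤˣ) = 2 ^ (a + 1) := by
    rw [Nat.card_prod, hP, pow_succ]; simp [Nat.card_eq_fintype_card]
  have hnd : 2 ^ d * 2 ^ (n + 1) = 2 ^ (a + 1) := by rw [← pow_add]; congr 1; omega
  have hfix : ∀ u, IsConj y u → fixCard P u ∣ 2 ^ d := fun u hu => by
    obtain ⟨j, -, hj⟩ := (Nat.dvd_prime_pow Nat.prime_two).1 (hP ▸ fixCard_dvd_card (P := P) u)
    obtain ⟨c, hc⟩ := isConj_iff.1 hu
    have hC : Nat.card (Subgroup.centralizer ({u} : Set G)) = Nat.card (Subgroup.centralizer ({y} : Set G)) := by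
      have e1 := card_conjClass_mul_centralizer y
      have e2 := card_conjClass_mul_centralizer u
      have e3 : Nat.card {x : G // IsConj u x} = Nat.card {x : G // IsConj y x} :=
        Nat.card_congr (Equiv.subtypeEquivRight fun x => ⟨fun h => hu.trans h, fun h => hu.symm.trans h⟩)
      rw [e3] at e2
      exact Nat.eq_of_mul_eq_mul_left (Nat.pos_of_ne_zero (card_conjClass_ne_zero y)) (e2.trans e1.symm)
    rw [hj]
    refine Nat.pow_dvd_pow 2 ?_
    rw [← hd, ← hC]
    exact (Nat.prime_two.pow_dvd_iff_le_factorization Nat.card_pos.ne').1 (hj ▸ fixCard_dvd u)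
  have hodd : ∀ u, IsConj y u → Odd (orderOf u) := fun u hu => by
    obtain ⟨c, rfl⟩ := isConj_iff.1 hu
    rwa [show c * y * c⁻¹ = MulAut.conj c y from rfl, MulEquiv.orderOf_eq]
  have hcls : ∀ (r : P) (u : G), IsConj y ((r : G) * u * (r : G)⁻¹) ↔ IsConj y u := fun r u =>
    ⟨fun h => h.trans (isConj_iff.2 ⟨(r : G)⁻¹, by group⟩), fun h => h.trans (isConj_iff.2 ⟨(r : G), rfl⟩)⟩
  have hcinv : ∀ u, IsConj y u⁻¹ ↔ IsConj y u := fun u => by
    constructor
    · intro h
      have h2 := hreal.trans (show IsConj y⁻¹ u from ?_)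
      · exact h2
      · obtain ⟨c, hc⟩ := isConj_iff.1 h
        exact isConj_iff.2 ⟨c, by rw [← inv_inv u, ← hc]; group⟩
    · intro h
      refine hreal.trans ?_
      obtain ⟨c, hc⟩ := isConj_iff.1 h
      exact isConj_iff.2 ⟨c, by rw [← hc]; group⟩
  -- the three sets
  let inT : G × G → Prop := fun p => IsConj y p.1 ∧ IsConj y p.2 ∧ p.2 * p.1⁻¹ ∈ P
  let inU : G → Prop := fun u => IsConj y u ∧ fixCard P u = 2 ^ d
  let good : G → Prop := fun u => ∀ x ∈ P, u * x * u⁻¹ ∈ P → x * u * x⁻¹ = u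
  let inD : G × G → Prop := fun p => inT p ∧ inU p.1 ∧ ∃ r : P, (r : G) * p.1 * (r : G)⁻¹ = p.2
  have hTdec : (Finset.univ.filter inT).card = (∑ p : G × G, if inT p ∧ ¬ inD p then 1 else 0) +
      ∑ p : G × G, (if inD p then 1 else 0) := by
    rw [Finset.card_filter, ← Finset.sum_add_distrib]
    refine Finset.sum_congr rfl fun p _ => ?_
    by_cases h1 : inD p
    · rw [if_pos h1, if_pos h1.1, if_neg (fun h => h.2 h1)]
    · by_cases h2 : inT p
      · rw [if_pos h2, if_neg h1, if_pos ⟨h2, h1⟩]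
      · rw [if_neg h2, if_neg h1, if_neg fun h => h2 h.1]
  -- pairs off the diagonal orbits
  have hTconj : ∀ (r : P) (p : G × G), inT p →
      inT ((r : G) * p.1 * (r : G)⁻¹, (r : G) * p.2 * (r : G)⁻¹) := fun r p hp => by
    refine ⟨(hcls r _).2 hp.1, (hcls r _).2 hp.2.1, ?_⟩
    show (r : G) * p.2 * (r : G)⁻¹ * ((r : G) * p.1 * (r : G)⁻¹)⁻¹ ∈ P
    rw [show (r : G) * p.2 * (r : G)⁻¹ * ((r : G) * p.1 * (r : G)⁻¹)⁻¹ =
      (r : G) * (p.2 * p.1⁻¹) * (r : G)⁻¹ by group]
    exact P.mul_mem (P.mul_mem r.2 hp.2.2) (P.inv_mem r.2)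
  have hTswap : ∀ p : G × G, inT p → inT p.swap := fun p hp =>
    ⟨hp.2.1, hp.1, by
      show p.1 * p.2⁻¹ ∈ P
      rw [show p.1 * p.2⁻¹ = (p.2 * p.1⁻¹)⁻¹ by group]
      exact P.inv_mem hp.2.2⟩
  have hTinv : ∀ (h : P × ℤˣ) (p : G × G), inT p → inT (h • p) := fun h p hp => by
    change inT ((h.1 : G) * (tw h.2 p).1 * (h.1 : G)⁻¹, (h.1 : G) * (tw h.2 p).2 * (h.1 : G)⁻¹)
    refine hTconj h.1 _ ?_
    rcases Int.units_eq_one_or h.2 with e | e
    · simpa [tw, e] using hp
    · simpa [tw, e] using hTswap p hp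
  have hDinv : ∀ (h : P × ℤˣ) (p : G × G), inD p → inD (h • p) := fun h p hp => by
    obtain ⟨hT, hU, s, hs⟩ := hp
    refine ⟨hTinv h p hT, ?_⟩
    change inU ((h.1 : G) * (tw h.2 p).1 * (h.1 : G)⁻¹) ∧ ∃ r : P,
      (r : G) * ((h.1 : G) * (tw h.2 p).1 * (h.1 : G)⁻¹) * (r : G)⁻¹ = (h.1 : G) * (tw h.2 p).2 * (h.1 : G)⁻¹
    have key : ∀ u v : G, inU u → ∀ t : P, (t : G) * u * (t : G)⁻¹ = v →
        inU ((h.1 : G) * u * (h.1 : G)⁻¹) ∧ ∃ r : P,
          (r : G) * ((h.1 : G) * u * (h.1 : G)⁻¹) * (r : G)⁻¹ = (h.1 : G) * v * (h.1 : G)⁻¹ := by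
      intro u v hu t ht
      refine ⟨⟨(hcls _ _).2 hu.1, by rw [fixCard_conj hab]; exact hu.2⟩, t, ?_⟩
      rw [show (t : G) * ((h.1 : G) * u * (h.1 : G)⁻¹) * (t : G)⁻¹ =
        ((t : G) * h.1) * u * ((t : G) * h.1)⁻¹ by group, hab _ t.2 _ h.1.2, ← ht]
      group
    rcases Int.units_eq_one_or h.2 with e | e
    · simpa [tw, e] using key _ _ hU s hs
    · simp only [tw, e, show ((-1 : ℤˣ) = 1) = False by simp, if_false, Prod.fst_swap, Prod.snd_swap]
      refine key p.2 p.1 ⟨hT.2.1, by rw [← hs, fixCard_conj hab]; exact hU.2⟩ s⁻¹ ?_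
      rw [← hs, Subgroup.coe_inv]
      group
  have hoff : 2 ^ (n + 1) ∣ ∑ p : G × G, if inT p ∧ ¬ inD p then 1 else 0 := by
    refine dvd_sum_weight hA _ (fun h p => ?_) fun p hp => ?_
    · have e : (inT (h • p) ∧ ¬ inD (h • p)) ↔ (inT p ∧ ¬ inD p) := by
        have hback : ∀ q : G × G, h⁻¹ • h • q = q := fun q => inv_smul_smul h q
        exact ⟨fun hq => ⟨hback p ▸ hTinv h⁻¹ _ hq.1, fun hq' => hq.2 (hDinv h p hq')⟩,
          fun hq => ⟨hTinv h p hq.1, fun hq' => hq.2 (hback p ▸ hDinv h⁻¹ _ hq')⟩⟩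
      simp only [e]
    · have hpT : inT p ∧ ¬ inD p := by
        by_contra h
        simp [h] at hp
      have h1 : ∀ r : P, ((r, (1 : ℤˣ)) : P × ℤˣ) • p = p → (r : G) * p.1 * (r : G)⁻¹ = p.1 := fun r hr => by
        change ((r : G) * (tw 1 p).1 * (r : G)⁻¹, _) = p at hr
        simpa [tw] using congrArg Prod.fst hr
      have hle : fixCard P p.1 ≤ 2 ^ d := Nat.le_of_dvd (by positivity) (hfix _ hpT.1.1)
      refine le_of_le_of_eq (Nat.mul_le_mul_right _ ?_) hnd
      by_cases hneg : ∃ r : P, ((r, (-1 : ℤˣ)) : P × ℤˣ) • p = p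
      · obtain ⟨r, hr⟩ := hneg
        change (_, (r : G) * (tw (-1) p).2 * (r : G)⁻¹) = p at hr
        have hr2 : (r : G) * p.1 * (r : G)⁻¹ = p.2 := by simpa [tw] using congrArg Prod.snd hr
        have hlt : fixCard P p.1 ≠ 2 ^ d := fun e => hpT.2 ⟨hpT.1, ⟨hpT.1.1, e⟩, r, hr2⟩
        obtain ⟨j, hj1, hj⟩ := (Nat.dvd_prime_pow Nat.prime_two).1 (hfix _ hpT.1.1)
        have hjd : j < d := lt_of_le_of_ne hj1 fun e => hlt (e ▸ hj)
        refine (card_stab_le_two p _ (2 ^ j) h1 hj.le).trans ?_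
        rw [← pow_succ']
        exact Nat.pow_le_pow_right (by norm_num) hjd
      · exact card_stab_le p _ (2 ^ d) h1 hle hneg
  -- the diagonal orbits
  have hdiag : ∑ p : G × G, (if inD p then 1 else 0) =
      ∑ u : G, if inU u then (Finset.univ.filter fun v => inD (u, v)).card else 0 := by
    rw [Fintype.sum_prod_type]
    refine Finset.sum_congr rfl fun u _ => ?_
    by_cases h : inU u
    · rw [if_pos h, Finset.card_filter]
    · rw [if_neg h]
      exact Finset.sum_eq_zero fun v _ => if_neg fun h' => h h'.2.1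
  set w : G → ℕ := fun u => if inU u then (Finset.univ.filter fun v => inD (u, v)).card else 0 with hw
  have hwgood : ∀ u, inU u → good u → w u = 1 := fun u hu hg => by
    rw [hw]; simp only [if_pos hu]
    rw [Finset.card_eq_one]
    refine ⟨u, Finset.ext fun v => ?_⟩
    simp only [Finset.mem_filter, Finset.mem_univ, true_and, Finset.mem_singleton]
    constructor
    · rintro ⟨⟨-, -, hv⟩, -, r, hr⟩
      dsimp only at hv hr
      rw [← hr] at hv ⊢
      refine hg r r.2 ?_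
      rw [show (r : G) * u * (r : G)⁻¹ * u⁻¹ = (r : G) * (u * (r : G) * u⁻¹)⁻¹ by group] at hv
      have := P.mul_mem (P.inv_mem r.2) hv
      rw [← mul_assoc, inv_mul_cancel, one_mul] at this
      exact inv_mem_iff.1 this
    · rintro rfl
      exact ⟨⟨hu.1, hu.1, by simp [P.one_mem]⟩, hu, 1, by simp⟩
  have hweven : ∀ u, inU u → ¬ good u → Even (w u) := fun u hu hg => by
    rw [hw]; simp only [if_pos hu]
    set I : Subgroup P := (P.comap (MulAut.conj u).toMonoidHom).subgroupOf P with hI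
    letI : MulAction I G := MulAction.compHom G ((MulAut.conj (G := G)).comp (P.subtype.comp I.subtype))
    have hmem : ∀ r : P, r ∈ I ↔ u * (r : G) * u⁻¹ ∈ P := fun r => by
      simp [hI, Subgroup.mem_subgroupOf, Subgroup.mem_comap]
    have horb : (Finset.univ.filter fun v => inD (u, v)) = (MulAction.orbit I u).toFinset := by
      ext v
      simp only [Finset.mem_filter, Finset.mem_univ, true_and, Set.mem_toFinset, MulAction.mem_orbit_iff]
      constructor
      · rintro ⟨⟨-, -, hv⟩, -, r, hr⟩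
        dsimp only at hv hr
        rw [← hr, show (r : G) * u * (r : G)⁻¹ * u⁻¹ = (r : G) * (u * (r : G) * u⁻¹)⁻¹ by group] at hv
        have := P.mul_mem (P.inv_mem r.2) hv
        rw [← mul_assoc, inv_mul_cancel, one_mul] at this
        exact ⟨⟨r, (hmem r).2 (inv_mem_iff.1 this)⟩, hr⟩
      · rintro ⟨⟨r, hrI⟩, hr⟩
        change (r : G) * u * (r : G)⁻¹ = v at hr
        refine ⟨⟨hu.1, hr ▸ (hcls r u).2 hu.1, ?_⟩, hu, r, hr⟩
        show v * u⁻¹ ∈ P
        rw [← hr, show (r : G) * u * (r : G)⁻¹ * u⁻¹ = (r : G) * (u * (r : G) * u⁻¹)⁻¹ by group]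
        exact P.mul_mem r.2 (P.inv_mem ((hmem r).1 hrI))
    rw [horb, Set.toFinset_card, ← Nat.card_eq_fintype_card]
    have hmul : Nat.card (MulAction.orbit I u) * Nat.card (MulAction.stabilizer I u) = Nat.card I := by
      rw [← Nat.card_prod]
      exact Nat.card_congr (MulAction.orbitProdStabilizerEquivGroup I u)
    have hdvd : Nat.card (MulAction.orbit I u) ∣ 2 ^ a :=
      (Dvd.intro _ hmul).trans (hP ▸ Subgroup.card_subgroup_dvd_card I)
    obtain ⟨j, -, hj⟩ := (Nat.dvd_prime_pow Nat.prime_two).1 hdvd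
    rw [hj, Nat.even_pow]
    refine ⟨even_two, fun hj0 => hg fun x hx hxu => ?_⟩
    rw [hj0, pow_zero] at hj
    have hsub := (Nat.card_eq_one_iff_unique.1 hj).1
    have h2 := congrArg Subtype.val (Subsingleton.elim
      (⟨_, MulAction.mem_orbit u (⟨⟨x, hx⟩, (hmem _).2 hxu⟩ : I)⟩ : MulAction.orbit I u)
      ⟨u, MulAction.mem_orbit_self u⟩)
    exact h2
  have hconjU : ∀ (r : P) (u : G), inU ((r : G) * u * (r : G)⁻¹) ↔ inU u := fun r u => by
    simp only [inU, fixCard_conj hab, hcls]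
  have hconjgood : ∀ (r : P) (u : G), good u → good ((r : G) * u * (r : G)⁻¹) := fun r u hg x hx hxu => by
    have e : (r : G) * u * (r : G)⁻¹ * x * ((r : G) * u * (r : G)⁻¹)⁻¹ = (r : G) * (u * x * u⁻¹) * (r : G)⁻¹ := by
      calc _ = (r : G) * u * ((r : G)⁻¹ * x) * (r : G) * u⁻¹ * (r : G)⁻¹ := by group
        _ = (r : G) * u * (x * (r : G)⁻¹) * (r : G) * u⁻¹ * (r : G)⁻¹ := by rw [hab _ (P.inv_mem r.2) _ hx]
        _ = _ := by group
    rw [e] at hxu
    have h1 : u * x * u⁻¹ ∈ P := by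
      have := P.mul_mem (P.mul_mem (P.inv_mem r.2) hxu) r.2
      rwa [show (r : G)⁻¹ * ((r : G) * (u * x * u⁻¹) * (r : G)⁻¹) * (r : G) = u * x * u⁻¹ by group] at this
    calc x * ((r : G) * u * (r : G)⁻¹) * x⁻¹ = (x * r) * u * (x * r)⁻¹ := by group
      _ = ((r : G) * x) * u * ((r : G) * x)⁻¹ := by rw [hab _ hx _ r.2]
      _ = (r : G) * (x * u * x⁻¹) * (r : G)⁻¹ := by group
      _ = _ := by rw [hg x hx h1]
  have hinvgood : ∀ u : G, good u → good u⁻¹ := fun u hg x hx hxu => by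
    rw [inv_inv] at hxu
    have h2 := hg (u⁻¹ * x * u) hxu (by rw [show u * (u⁻¹ * x * u) * u⁻¹ = x by group]; exact hx)
    have h3 : x * u * x⁻¹ = u :=
      calc x * u * x⁻¹ = u * (u⁻¹ * x * u * u * (u⁻¹ * x * u)⁻¹) * u⁻¹ := by group
        _ = u := by rw [h2]; group
    calc x * u⁻¹ * x⁻¹ = (x * u * x⁻¹)⁻¹ := by group
      _ = _ := by rw [h3]
  -- the bad elements
  set bad : G → ℕ := fun u => if inU u ∧ ¬ good u then 1 else 0 with hbad
  letI : MulAction (P × ℤˣ) G := invAction P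
  have hsmul1 : ∀ (r : P) (u : G), ((r, (1 : ℤˣ)) : P × ℤˣ) • u = (r : G) * u * (r : G)⁻¹ := fun r u => by
    change (r : G) * u ^ (((1 : ℤˣ)) : ℤ) * (r : G)⁻¹ = _
    simp
  have hsmul2 : ∀ (r : P) (u : G), ((r, (-1 : ℤˣ)) : P × ℤˣ) • u = (r : G) * u⁻¹ * (r : G)⁻¹ := fun r u => by
    change (r : G) * u ^ (((-1 : ℤˣ)) : ℤ) * (r : G)⁻¹ = _
    simp
  have hbadinv : ∀ (h : P × ℤˣ) u, inU u ∧ ¬ good u → inU (h • u) ∧ ¬ good (h • u) := fun h u hu => by
    obtain ⟨r, ε⟩ := h
    rcases Int.units_eq_one_or ε with rfl | rfl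
    · rw [hsmul1]
      refine ⟨(hconjU r u).2 hu.1, fun hg => hu.2 ?_⟩
      have := hconjgood r⁻¹ _ hg
      simpa [mul_assoc] using this
    · rw [hsmul2]
      refine ⟨(hconjU r _).2 ⟨(hcinv u).2 hu.1.1, by rw [fixCard_inv]; exact hu.1.2⟩, fun hg => hu.2 ?_⟩
      have := hconjgood r⁻¹ _ hg
      rw [show ((r⁻¹ : P) : G) * ((r : G) * u⁻¹ * (r : G)⁻¹) * ((r⁻¹ : P) : G)⁻¹ = u⁻¹ by
        rw [Subgroup.coe_inv]; group] at this
      simpa using hinvgood _ this
  have hbaddvd : 2 ^ (n + 1) ∣ ∑ u, bad u := by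
    refine dvd_sum_weight hA bad (fun h u => ?_) fun u hu => ?_
    · have e : (inU (h • u) ∧ ¬ good (h • u)) ↔ (inU u ∧ ¬ good u) :=
        ⟨fun hq => by simpa only [inv_smul_smul] using hbadinv h⁻¹ _ hq, hbadinv h u⟩
      simp only [hbad, e]
    · have hu' : inU u ∧ ¬ good u := by by_contra h; exact hu (if_neg h)
      refine le_of_le_of_eq (Nat.mul_le_mul_right _ ?_) hnd
      refine card_stab_le (P := P) u (fun r : P => (r : G) * u * (r : G)⁻¹ = u) (2 ^ d)
        (fun r hr => by rw [← hsmul1]; exact hr) hu'.1.2.le ?_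
      rintro ⟨r, hr⟩
      rw [hsmul2] at hr
      refine hu'.2 fun x hx hxu => ?_
      have hinv : (r : G)⁻¹ * u * (r : G) = u⁻¹ := by
        nth_rewrite 1 [← hr]; group
      have e : u⁻¹ * x * u = u * x * u⁻¹ :=
        calc u⁻¹ * x * u = ((r : G)⁻¹ * u * (r : G)) * x * ((r : G)⁻¹ * u * (r : G))⁻¹ := by rw [hinv]; group
          _ = (r : G)⁻¹ * u * ((r : G) * x) * (r : G)⁻¹ * u⁻¹ * (r : G) := by group
          _ = (r : G)⁻¹ * u * (x * (r : G)) * (r : G)⁻¹ * u⁻¹ * (r : G) := by rw [hab _ r.2 _ hx]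
          _ = (r : G)⁻¹ * ((u * x * u⁻¹) * (r : G)) := by group
          _ = (r : G)⁻¹ * ((r : G) * (u * x * u⁻¹)) := by rw [hab _ hxu _ r.2]
          _ = _ := by group
      have h2 : Commute (u ^ 2) x := by
        show u ^ 2 * x = x * u ^ 2
        calc u ^ 2 * x = u * (u * x * u⁻¹) * u := by rw [sq]; group
          _ = u * (u⁻¹ * x * u) * u := by rw [e]
          _ = x * u ^ 2 := by rw [sq]; group
      obtain ⟨j, hj⟩ := hodd u hu'.1.1
      have h3 : Commute u x := by
        have h4 : (u ^ 2) ^ (j + 1) = u := by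
          rw [← pow_mul, show 2 * (j + 1) = orderOf u + 1 by omega, pow_succ, pow_orderOf_eq_one, one_mul]
        exact h4 ▸ h2.pow_left (j + 1)
      rw [← h3.eq, mul_inv_cancel_right]
  -- the weights of the bad elements
  have hwdec : ∀ u, w u + bad u = (if inU u then 1 else 0) + 2 * ((w u / 2) * bad u) := fun u => by
    by_cases hu : inU u
    · by_cases hg : good u
      · simp [hbad, hu, hg, hwgood u hu hg]
      · obtain ⟨c, hc⟩ := hweven u hu hg
        simp [hbad, hu, hg, hc]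
        omega
    · simp [hbad, hu, hw]
  have hP1 : ∀ (g : G → ℕ), (∀ (r : P) u, g ((r : G) * u * (r : G)⁻¹) = g u) → ∀ m : ℕ,
      (∀ u, g u ≠ 0 → fixCard P u * 2 ^ m ≤ 2 ^ a) → 2 ^ m ∣ ∑ u, g u := by
    intro g hg m hst
    letI : MulAction P G := MulAction.compHom G ((MulAut.conj (G := G)).comp P.subtype)
    refine dvd_sum_weight hP g hg fun u hu => ?_
    exact hst u hu
  have hwconj : ∀ (r : P) u, w ((r : G) * u * (r : G)⁻¹) = w u := fun r u => by
    simp only [hw, hconjU]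
    by_cases hu : inU u
    · rw [if_pos hu, if_pos hu]
      refine Finset.card_bij (fun v _ => (r : G)⁻¹ * v * (r : G)) (fun v hv => ?_)
        (fun v _ v' _ e => mul_left_cancel (mul_right_cancel e)) fun v hv => ⟨(r : G) * v * (r : G)⁻¹, ?_, by group⟩
      · simp only [Finset.mem_filter, Finset.mem_univ, true_and] at hv ⊢
        have := hDinv ((r⁻¹, 1) : P × ℤˣ) _ hv
        change inD (((r⁻¹ : P) : G) * (tw 1 _).1 * ((r⁻¹ : P) : G)⁻¹,
          ((r⁻¹ : P) : G) * (tw 1 _).2 * ((r⁻¹ : P) : G)⁻¹) at this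
        simpa [tw, mul_assoc] using this
      · simp only [Finset.mem_filter, Finset.mem_univ, true_and] at hv ⊢
        have := hDinv ((r, 1) : P × ℤˣ) _ hv
        change inD ((r : G) * (tw 1 (u, v)).1 * (r : G)⁻¹, (r : G) * (tw 1 (u, v)).2 * (r : G)⁻¹) at this
        simpa [tw] using this
    · rw [if_neg hu, if_neg hu]
  have hnd' : 2 ^ d * 2 ^ n = 2 ^ a := by rw [← pow_add]; congr 1; omega
  have hhalf : 2 ^ n ∣ ∑ u, (w u / 2) * bad u := by
    refine hP1 _ (fun r u => ?_) n fun u hu => ?_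
    · have e : (inU ((r : G) * u * (r : G)⁻¹) ∧ ¬ good ((r : G) * u * (r : G)⁻¹)) ↔ (inU u ∧ ¬ good u) := by
        rw [← hsmul1]
        exact ⟨fun hq => by simpa only [inv_smul_smul] using hbadinv ((r, 1) : P × ℤˣ)⁻¹ _ hq, hbadinv _ u⟩
      simp only [hwconj, hbad, e]
    · have : inU u := by
        by_contra h
        refine hu ?_
        simp only [hbad]
        rw [if_neg fun h' => h h'.1, mul_zero]
      rw [this.2, hnd']
  have hrest : 2 ^ (n + 1) ∣ ∑ u, if IsConj y u ∧ ¬ inU u then 1 else 0 := by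
    refine hP1 _ (fun r u => by simp only [hcls, hconjU]) (n + 1) fun u hu => ?_
    have hu' : IsConj y u ∧ ¬ inU u := by by_contra h; exact hu (if_neg h)
    obtain ⟨j, hj1, hj⟩ := (Nat.dvd_prime_pow Nat.prime_two).1 (hfix u hu'.1)
    have : j < d := lt_of_le_of_ne hj1 fun e => hu'.2 ⟨hu'.1, e ▸ hj⟩
    rw [hj, ← pow_add]
    exact Nat.pow_le_pow_right (by norm_num) (by omega)
  have hKsum : (∑ u, if IsConj y u ∧ ¬ inU u then 1 else 0) + (∑ u, if inU u then 1 else 0) = 2 ^ n * k := by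
    rw [← hK, Nat.card_eq_fintype_card, Fintype.card_subtype, Finset.card_filter, ← Finset.sum_add_distrib]
    refine Finset.sum_congr rfl fun u _ => ?_
    by_cases h1 : inU u
    · rw [if_pos h1, if_pos h1.1, if_neg (fun h => h.2 h1)]
    · by_cases h2 : IsConj y u
      · rw [if_pos h2, if_neg h1, if_pos ⟨h2, h1⟩]
      · rw [if_neg h2, if_neg h1, if_neg fun h => h2 h.1]
  have hwsum : (∑ u, w u) + ∑ u, bad u = (∑ u, if inU u then 1 else 0) + 2 * ∑ u, (w u / 2) * bad u := by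
    rw [Finset.mul_sum, ← Finset.sum_add_distrib, ← Finset.sum_add_distrib]
    refine Finset.sum_congr rfl fun u _ => ?_
    exact hwdec u
  intro hdvd
  rw [pairCount, Nat.card_eq_fintype_card, Fintype.card_subtype] at hdvd
  rw [hTdec, hdiag] at hdvd
  have h1 : 2 ^ (n + 1) ∣ 2 * ∑ u, (w u / 2) * bad u := by
    rw [pow_succ']; exact mul_dvd_mul_left 2 hhalf
  have h2 : 2 ^ (n + 1) ∣ ∑ u, w u := (Nat.dvd_add_iff_right hoff).2 hdvd
  have h3 : 2 ^ (n + 1) ∣ ∑ u, if inU u then 1 else 0 :=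
    (Nat.dvd_add_iff_left h1).2 (hwsum ▸ Nat.dvd_add h2 hbaddvd)
  have h4 : 2 ^ (n + 1) ∣ 2 ^ n * k := hKsum ▸ Nat.dvd_add hrest h3
  rw [pow_succ] at h4
  have := Nat.dvd_of_mul_dvd_mul_left (by positivity) h4
  exact hk.not_two_dvd_nat this

end count

/-- The sum of an invariant function under an involution is even, if the fixed terms are. -/
theorem sum_two {ι : Type v} [Fintype ι] (σ : ι → ι) (hσ : Function.Involutive σ) (f : ι → ℂ)
    (hf : ∀ i, f (σ i) = f i) (hint : ∀ i, IsIntegral ℤ (f i))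
    (hfix : ∀ i, σ i = i → ∃ w, IsIntegral ℤ w ∧ f i = 2 * w) :
    ∃ w, IsIntegral ℤ w ∧ ∑ i, f i = 2 * w := by
  classical
  have h : ∀ i, ∃ w, IsIntegral ℤ w ∧ (σ i = i → f i = 2 * w) := fun i => by
    by_cases hi : σ i = i
    · obtain ⟨w, hw, e⟩ := hfix i hi
      exact ⟨w, hw, fun _ => e⟩
    · exact ⟨0, isIntegral_zero, fun e => absurd e hi⟩
  choose g hgint hg using h
  let e := Fintype.equivFin ι
  refine ⟨∑ i, (if σ i = i then g i else if e i < e (σ i) then f i else 0),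
    IsIntegral.sum _ fun i _ => by split_ifs; exacts [hgint i, hint i, isIntegral_zero], ?_⟩
  set lo : ι → ℂ := fun i => if e i < e (σ i) then f i else 0 with hlo
  set fx : ι → ℂ := fun i => if σ i = i then g i else 0 with hfx
  have hdec : ∀ i, f i = 2 * fx i + lo i + lo (σ i) := fun i => by
    simp only [hlo, hfx, hσ i, hf]
    rcases lt_trichotomy (e i) (e (σ i)) with h1 | h1 | h1
    · have hne : σ i ≠ i := fun h => h1.ne (by rw [h])
      rw [if_neg hne, if_pos h1, if_neg (lt_asymm h1)]; ring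
    · have he : σ i = i := (e.injective h1).symm
      rw [if_pos he, if_neg (by rw [he]; exact lt_irrefl _), if_neg (by rw [he]; exact lt_irrefl _), hg i he]
      ring
    · have hne : σ i ≠ i := fun h => h1.ne (by rw [h])
      rw [if_neg hne, if_neg (lt_asymm h1), if_pos h1]; ring
  have hsplit : ∀ i, (if σ i = i then g i else if e i < e (σ i) then f i else 0) = fx i + lo i := fun i => by
    simp only [hlo, hfx]
    by_cases hi : σ i = i
    · rw [if_pos hi, if_pos hi, if_neg (by rw [hi]; exact lt_irrefl _), add_zero]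
    · rw [if_neg hi, if_neg hi, zero_add]
  have hcomp : ∑ i, lo (σ i) = ∑ i, lo i := Function.Bijective.sum_comp hσ.bijective lo
  rw [Finset.sum_congr rfl fun i _ => hdec i, Finset.sum_add_distrib, Finset.sum_add_distrib, hcomp,
    ← Finset.mul_sum, Finset.sum_congr rfl fun i _ => hsplit i, Finset.sum_add_distrib]
  ring

/-- An involutory Galois action trivial on two-elements and inverting a real element of odd order, not centralised by
a Sylow two-subgroup, fixes a character of even degree, if that subgroup is commutative. -/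
theorem exists_fixed_even (S : Sylow 2 G) (hab : ∀ x ∈ (S : Subgroup G), ∀ z ∈ (S : Subgroup G), x * z = z * x)
    {k : ℕ} (hk : k.Coprime (Nat.card G)) (hk2 : ∀ g : G, (g ^ k) ^ k = g)
    (hkS : ∀ x ∈ (S : Subgroup G), x ^ k = x) {y : G} (hy : Odd (orderOf y)) (hyk : y ^ k = y⁻¹)
    (hreal : IsConj y y⁻¹)
    (hlt : (Nat.card (Subgroup.centralizer ({y} : Set G))).factorization 2 < (Nat.card G).factorization 2) :
    ∃ χ : IrrCharacter G, Even (charDegree (χ : G → ℂ)) ∧ ∀ g : G, (χ : G → ℂ) (g ^ k) = (χ : G → ℂ) g := by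
  haveI : Fact (Nat.Prime 2) := ⟨Nat.prime_two⟩
  by_contra hcon
  push Not at hcon
  obtain ⟨kK, c0, g', hkK, -, -, -, hK, -, -, -⟩ :=
    blockCount_data Nat.prime_two S (x := y) (d := (Nat.card (Subgroup.centralizer ({y} : Set G))).factorization 2) rfl
  have hkKo : Odd kK := Nat.odd_iff.2 (by omega)
  have hnot := not_dvd_pairCount (P := (S : Subgroup G)) (y := y) S.card_eq_multiplicity hab hy hreal rfl hlt hkKo hK
  set n := (Nat.card G).factorization 2 - (Nat.card (Subgroup.centralizer ({y} : Set G))).factorization 2 with hn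
  obtain ⟨c, hc, -, hcount⟩ := pairCount_pow Nat.prime_two S (x := y) rfl y
  set K := Nat.card {g : G // IsConj y g} with hKdef
  let σ : IrrCharacter G → IrrCharacter G := fun χ =>
    ⟨fun g => (χ : G → ℂ) (g ^ k), isIrrCharacter_pow χ.2 hk⟩
  have hσ : Function.Involutive σ := fun χ => Subtype.ext (funext fun g => by
    show (χ : G → ℂ) ((g ^ k) ^ k) = _
    rw [hk2])
  obtain ⟨t, ht⟩ := isConj_iff.1 hreal
  have hyreal : ∀ χ : IrrCharacter G, (χ : G → ℂ) y⁻¹ = (χ : G → ℂ) y := fun χ => by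
    rw [← ht]; exact isClassFunction_character (irr_isCharacter χ.2) _ _
  have hσy : ∀ χ, ((σ χ : IrrCharacter G) : G → ℂ) y = (χ : G → ℂ) y := fun χ => by
    show (χ : G → ℂ) (y ^ k) = _
    rw [hyk, hyreal]
  have hσ1 : ∀ χ, ((σ χ : IrrCharacter G) : G → ℂ) 1 = (χ : G → ℂ) 1 := fun χ => by
    show (χ : G → ℂ) (1 ^ k) = _
    rw [one_pow]
  have hσm : ∀ χ, subMult (S : Subgroup G) ((σ χ : IrrCharacter G) : G → ℂ) =
      subMult (S : Subgroup G) (χ : G → ℂ) := fun χ => by
    unfold subMult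
    congr 1
    refine finsum_congr fun u => ?_
    show (χ : G → ℂ) ((u : G) ^ k) = _
    rw [hkS _ u.2]
  set f : IrrCharacter G → ℂ := fun χ =>
    omega (χ : G → ℂ) y * (χ : G → ℂ) y⁻¹ * subMult (S : Subgroup G) (χ : G → ℂ) with hf
  have hm : ∀ χ : IrrCharacter G, IsIntegral ℤ (subMult (S : Subgroup G) (χ : G → ℂ)) := fun χ => by
    obtain ⟨m, hm⟩ := subMult_natCast (S : Subgroup G) (irr_isCharacter χ.2)
    rw [hm]; exact isIntegral_natCast_aux m
  have hint : ∀ χ, IsIntegral ℤ (f χ) := fun χ =>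
    ((omega_isIntegral χ.2 y).mul (char_isIntegral (irr_isCharacter χ.2) _)).mul (hm χ)
  obtain ⟨w, hw, hsum⟩ := sum_two σ hσ f (fun χ => by
      simp only [hf, omega, hσy, hσ1, hσm, hyreal]) hint (fun χ hχ => by
    have hodd : Odd (charDegree (χ : G → ℂ)) := by
      by_contra h
      obtain ⟨g, hg⟩ := hcon χ (Nat.not_odd_iff_even.1 h)
      exact hg (congrFun (congrArg Subtype.val hχ) g)
    obtain ⟨j, hj⟩ := hodd
    have hn1 : 1 ≤ n := by omega
    refine ⟨((2 ^ (n - 1) * kK : ℕ) : ℂ) * (χ : G → ℂ) y * (χ : G → ℂ) y⁻¹ * subMult (S : Subgroup G) (χ : G → ℂ) -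
      f χ * (j : ℂ), ?_, ?_⟩
    · exact (((isIntegral_natCast_aux _).mul (char_isIntegral (irr_isCharacter χ.2) _)).mul
        (char_isIntegral (irr_isCharacter χ.2) _) |>.mul (hm χ)).sub ((hint χ).mul (isIntegral_natCast_aux _))
    have hd1 : (χ : G → ℂ) 1 = ((2 * j + 1 : ℕ) : ℂ) := by
      rw [← hj, char_one_eq_deg (irr_isCharacter χ.2), charDegree_eq_deg]
    have homega : omega (χ : G → ℂ) y * ((2 * j + 1 : ℕ) : ℂ) = (K : ℂ) * (χ : G → ℂ) y := by
      rw [omega, ← hd1, div_mul_cancel₀ _ (irr_one_ne_zero χ.2)]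
    have hK2 : (K : ℂ) = 2 * ((2 ^ (n - 1) * kK : ℕ) : ℂ) := by
      rw [hK, show (2 : ℂ) = ((2 : ℕ) : ℂ) by norm_num, ← Nat.cast_mul, ← mul_assoc, ← pow_succ',
        Nat.sub_add_cancel hn1]
    simp only [hf]
    push_cast at homega hK2 ⊢
    linear_combination ((χ : G → ℂ) y⁻¹ * subMult (S : Subgroup G) (χ : G → ℂ)) * homega +
      ((χ : G → ℂ) y * (χ : G → ℂ) y⁻¹ * subMult (S : Subgroup G) (χ : G → ℂ)) * hK2)
  refine hnot ?_
  have hdvd : 2 ^ (n + 1) ∣ pairCount (S : Subgroup G) y y * c := by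
    refine dvd_of_eq_mul (w := w) (by positivity) hw ?_
    have hs : pairSum (S : Subgroup G) y y = 2 * w := by rw [pairSum, ← hsum]
    rw [hs] at hcount
    push_cast at hcount ⊢
    rw [hcount, pow_succ]
    ring
  exact ((Nat.coprime_pow_left_iff (by omega) 2 c).2
    ((Nat.prime_two.coprime_iff_not_dvd).2 hc)).dvd_of_dvd_mul_right hdvd

end Cfsg.Agent.Char.RealClassFixed
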