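import Cfsg.Agent.S0165
import Cfsg.Agent.Lib.Char.LinearTwist
import Cfsg.Agent.Lib.Char.LinearExt
import Cfsg.Agent.Lib.Char.Gallagher
import Cfsg.Agent.Lib.Char.ExtensionPIndex
import Cfsg.Agent.Lib.Char.Unique
import Mathlib

/-!
# A character of indicator one over a character of 2-defect zero

The fixed space of a Sylow 2-subgroup has odd dimension. Its determinant singles out one extension
to the inertia group, and a skew form restricts to a nondegenerate form on a self-adjoint
projection, so it cannot have odd rank.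
-/

set_option autoImplicit false
set_option linter.unusedSectionVars false
set_option linter.style.haveILetI false

namespace Cfsg.Agent.Char.RealZero

open Cfsg Cfsg.Agent.Char Module
open scoped ComplexConjugate Matrix

universe u

/-! ### Lists of roots of unity -/

theorem count_eq {n m : ℕ} (hn : n ≠ 0) (ν : Fin m → ℂ) (hν : ∀ i, ν i ^ n = 1) {z : ℂ}
    (hz : z ^ n = 1) :
    ((Finset.univ.filter fun i => ν i = z).card : ℂ) =
      (n : ℂ)⁻¹ * ∑ k ∈ Finset.range n, conj z ^ k * ∑ i, ν i ^ k := by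
  classical
  have hzc : conj z = z⁻¹ := (Complex.inv_eq_conj (Complex.norm_eq_one_of_pow_eq_one hz hn)).symm
  have hz0 : z ≠ 0 := fun h => by simp [h, zero_pow hn] at hz
  have hinner : ∀ i, ∑ k ∈ Finset.range n, (conj z * ν i) ^ k =
      if ν i = z then (n : ℂ) else 0 := by
    intro i
    split_ifs with h
    · rw [h, hzc, inv_mul_cancel₀ hz0]
      simp
    · have hne : conj z * ν i ≠ 1 := fun h1 => h (by
        rw [hzc] at h1
        exact ((inv_mul_eq_one₀ hz0).mp h1).symm)
      rw [geom_sum_eq hne, mul_pow, ← map_pow, hz, hν, map_one, mul_one, sub_self, zero_div]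
  rw [Finset.sum_congr rfl fun k _ => show conj z ^ k * ∑ i, ν i ^ k = ∑ i, (conj z * ν i) ^ k by
    rw [Finset.mul_sum]; exact Finset.sum_congr rfl fun i _ => by rw [mul_pow],
    Finset.sum_comm, Finset.sum_congr rfl fun i _ => hinner i, Finset.sum_ite, Finset.sum_const_zero,
    add_zero, Finset.sum_const, nsmul_eq_mul, mul_left_comm,
    inv_mul_cancel₀ (Nat.cast_ne_zero.mpr hn), mul_one]

theorem count_congr {n m m' : ℕ} (hn : n ≠ 0) (ν : Fin m → ℂ) (ν' : Fin m' → ℂ)
    (hν : ∀ i, ν i ^ n = 1) (hν' : ∀ i, ν' i ^ n = 1) (h : ∀ k, ∑ i, ν i ^ k = ∑ i, ν' i ^ k)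
    (z : ℂ) :
    (Finset.univ.filter fun i => ν i = z).card = (Finset.univ.filter fun i => ν' i = z).card := by
  classical
  by_cases hz : z ^ n = 1
  · exact Nat.cast_injective (R := ℂ) (by rw [count_eq hn ν hν hz, count_eq hn ν' hν' hz]; simp only [h])
  · rw [Finset.filter_false_of_mem, Finset.filter_false_of_mem]
    · simp
    · intro i _ hi
      exact hz (hi ▸ hν' i)
    · intro i _ hi
      exact hz (hi ▸ hν i)

theorem prod_congr_sums {n m m' : ℕ} (hn : n ≠ 0) (ν : Fin m → ℂ) (ν' : Fin m' → ℂ)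
    (hν : ∀ i, ν i ^ n = 1) (hν' : ∀ i, ν' i ^ n = 1) (h : ∀ k, ∑ i, ν i ^ k = ∑ i, ν' i ^ k) :
    ∏ i, ν i = ∏ i, ν' i := by
  classical
  set S := Finset.univ.image ν ∪ Finset.univ.image ν' with hS
  rw [← Finset.prod_fiberwise_of_maps_to (t := S) (g := ν) (fun i _ => by simp [hS]) ν,
    ← Finset.prod_fiberwise_of_maps_to (t := S) (g := ν') (fun i _ => by simp [hS]) ν']
  refine Finset.prod_congr rfl fun z _ => ?_
  rw [Finset.prod_congr rfl (fun i hi => (Finset.mem_filter.mp hi).2),
    Finset.prod_congr rfl (fun i hi => (Finset.mem_filter.mp hi).2), Finset.prod_const,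
    Finset.prod_const, count_congr hn ν ν' hν hν' h z]

/-- An odd number of roots of unity with real power sums and product one contains one an odd
number of times. -/
theorem odd_count_one {n m : ℕ} (hn : n ≠ 0) (hm : Odd m) (ν : Fin m → ℂ) (hν : ∀ i, ν i ^ n = 1)
    (hreal : ∀ k, conj (∑ i, ν i ^ k) = ∑ i, ν i ^ k) (hprod : ∏ i, ν i = 1) :
    Odd (Finset.univ.filter fun i => ν i = 1).card := by
  classical
  let c : ℂ → ℕ := fun z => (Finset.univ.filter fun i => ν i = z).card
  have hc : ∀ z, c (conj z) = c z := by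
    intro z
    have h := count_congr hn ν (fun i => conj (ν i)) hν
      (fun i => by rw [← map_pow, hν, map_one])
      (fun k => by rw [← hreal k, map_sum]; simp) (conj z)
    exact h.trans (congrArg Finset.card (Finset.filter_congr fun i _ =>
      (starRingEnd ℂ).injective.eq_iff))
  set S := (Finset.univ.image ν ∪ Finset.univ.image fun i => conj (ν i)).filter
    (fun z => z ≠ 1 ∧ z ≠ -1) with hS
  have hSmem : ∀ z ∈ S, conj z ∈ S ∧ conj z ≠ z := by
    intro z hz
    simp only [hS, Finset.mem_filter, Finset.mem_union, Finset.mem_image, Finset.mem_univ,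
      true_and] at hz ⊢
    obtain ⟨hmem, h1, h2⟩ := hz
    refine ⟨⟨?_, fun h => h1 ?_, fun h => h2 ?_⟩, fun h => ?_⟩
    · rcases hmem with ⟨i, rfl⟩ | ⟨i, rfl⟩
      · exact Or.inr ⟨i, rfl⟩
      · exact Or.inl ⟨i, (Complex.conj_conj _).symm⟩
    · have := congrArg conj h; simpa using this
    · have := congrArg conj h; simpa using this
    · have hz1 : z ^ n = 1 := by
        rcases hmem with ⟨i, rfl⟩ | ⟨i, rfl⟩
        · exact hν i
        · rw [← map_pow, hν, map_one]
      have hsq : z * conj z = 1 := by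
        rw [Complex.mul_conj, Complex.normSq_eq_norm_sq,
          Complex.norm_eq_one_of_pow_eq_one hz1 hn]
        simp
      rw [h] at hsq
      rcases mul_self_eq_one_iff.mp hsq with h' | h'
      · exact h1 h'
      · exact h2 h'
  set U := insert (1 : ℂ) (insert (-1 : ℂ) S) with hU
  have h1U : (1 : ℂ) ∉ insert (-1 : ℂ) S := by
    simp [hS]
    norm_num
  have h2U : (-1 : ℂ) ∉ S := by simp [hS]
  have hmaps : ∀ i ∈ (Finset.univ : Finset (Fin m)), ν i ∈ U := by
    intro i _
    simp only [hU, hS, Finset.mem_insert, Finset.mem_filter, Finset.mem_union, Finset.mem_image,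
      Finset.mem_univ, true_and]
    tauto
  have hp : ∏ z ∈ U, z ^ c z = 1 := by
    rw [← hprod, ← Finset.prod_fiberwise_of_maps_to hmaps ν]
    refine Finset.prod_congr rfl fun z _ => ?_
    rw [Finset.prod_congr rfl (fun i hi => (Finset.mem_filter.mp hi).2), Finset.prod_const]
  have hsum : m = ∑ z ∈ U, c z := by
    have h := Finset.card_eq_sum_card_fiberwise (f := ν) hmaps
    simpa [c] using h
  have hpS : ∏ z ∈ S, z ^ c z = 1 := by
    refine Finset.prod_involution (fun z _ => conj z) (fun z hz => ?_)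
      (fun z hz _ => (hSmem z hz).2) (fun z hz => (hSmem z hz).1)
      (fun z _ => Complex.conj_conj z)
    rw [hc, ← mul_pow]
    have hz1 : z ^ n = 1 := by
      simp only [hS, Finset.mem_filter, Finset.mem_union, Finset.mem_image, Finset.mem_univ,
        true_and] at hz
      rcases hz.1 with ⟨i, rfl⟩ | ⟨i, rfl⟩
      · exact hν i
      · rw [← map_pow, hν, map_one]
    rw [Complex.mul_conj, Complex.normSq_eq_norm_sq, Complex.norm_eq_one_of_pow_eq_one hz1 hn]
    simp
  have hsS : ∑ z ∈ S, (c z : ZMod 2) = 0 := by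
    refine Finset.sum_involution (fun z _ => conj z) (fun z _ => ?_)
      (fun z hz _ => (hSmem z hz).2) (fun z hz => (hSmem z hz).1)
      (fun z _ => Complex.conj_conj z)
    rw [hc]
    exact CharTwo.add_self_eq_zero _
  rw [hU, Finset.prod_insert h1U, Finset.prod_insert h2U, hpS, one_pow, one_mul, mul_one] at hp
  have hev : Even (c (-1)) := by
    by_contra hodd
    rw [(Nat.not_even_iff_odd.mp hodd).neg_one_pow] at hp
    norm_num at hp
  have hm2 : (m : ZMod 2) = (c 1 : ZMod 2) := by
    rw [hsum, hU, Nat.cast_sum, Finset.sum_insert h1U, Finset.sum_insert h2U, hsS, add_zero,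
      ZMod.natCast_eq_zero_iff_even.mpr hev, add_zero]
  rw [← ZMod.natCast_eq_one_iff_odd]
  exact hm2.symm.trans (ZMod.natCast_eq_one_iff_odd.mpr hm)

/-- The determinant of a character by the eigenvalues. -/
theorem exists_eig {E : Type u} [Group E] [Finite E] {r : E → ℂ} (hr : IsCharacter E r) {m : ℕ}
    (hm : r 1 = (m : ℂ)) (e : E) :
    ∃ ν : Fin m → ℂ, (∀ i, ν i ^ Nat.card E = 1) ∧ (∀ k : ℕ, r (e ^ k) = ∑ i, ν i ^ k) ∧
      detChar r e = ∏ i, ν i := by
  classical
  obtain ⟨d, ρ, hρ⟩ := hr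
  have hd : d = m := by
    have := char_one_eq_dim ρ hρ
    rw [hm] at this
    exact_mod_cast this.symm
  subst hd
  obtain ⟨ν, hν, htr, hdet⟩ := exists_eigenvalues ρ e
  obtain ⟨w, hw⟩ := orderOf_dvd_natCard e
  let σ : Fin d ≃ Fin (finrank ℂ (Fin d → ℂ)) := finCongr (Module.finrank_fin_fun ℂ).symm
  refine ⟨fun i => ν (σ i), fun i => by rw [hw, pow_mul, hν, one_pow], fun k => ?_, ?_⟩
  · rw [← hρ, htr]
    exact (σ.sum_comp fun i => ν i ^ k).symm
  · rw [detChar_eq ρ hρ]
    show LinearMap.det (ρ e) = _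
    rw [← pow_one e, hdet]
    simp only [pow_one]
    exact (σ.prod_comp ν).symm

/-! ### The averaged character and the normalized extension -/

section Extension

variable {G : Type u} [Group G] [Fintype G] (N : Subgroup G) [N.Normal] [Fintype N]

theorem isCharacter_cosetAvg {f : G → ℂ} (hf : IsCharacter G f) :
    IsCharacter G (cosetAvg N f) := by
  classical
  obtain ⟨k, hk⟩ := exists_decomposition hf
  have hz : ∀ β : IrrCharacter G, ¬ (∀ n : N, (β : G → ℂ) n = (β : G → ℂ) 1) →
      cosetAvg N (β : G → ℂ) = 0 := by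
    intro β hβ
    refine coset_ext N (cosetAvg_class N (isClassFunction_character (irr_isCharacter β.2)))
      (fun _ _ => rfl) (fun n g => cosetAvg_mul N _ n g) (fun _ _ => rfl) fun γ hγ hγN => ?_
    rw [classInner_cosetAvg N _ γ (trivial_mul N hγ hγN)]
    have h := irr_orth β.2 hγ
    rw [if_neg (fun h' => hβ (by rw [show (β : G → ℂ) = γ from h']; exact hγN))] at h
    rw [h]
    simp [classInner]
  have ht : ∀ β : IrrCharacter G, (∀ n : N, (β : G → ℂ) n = (β : G → ℂ) 1) →
      cosetAvg N (β : G → ℂ) = (β : G → ℂ) := fun β hβ => funext fun g => by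
    simp only [cosetAvg, trivial_mul N β.2 hβ, Finset.sum_const, Finset.card_univ, nsmul_eq_mul]
    rw [← Nat.card_eq_fintype_card, ← mul_assoc,
      inv_mul_cancel₀ (Nat.cast_ne_zero.2 Nat.card_pos.ne'), one_mul]
  have e : cosetAvg N f = ∑ β : IrrCharacter G, k β • cosetAvg N (β : G → ℂ) := funext fun g => by
    simp only [cosetAvg, hk, Finset.sum_apply, Pi.smul_apply, nsmul_eq_mul, Finset.mul_sum]
    rw [Finset.sum_comm]
    refine Finset.sum_congr rfl fun β _ => ?_
    simp only [cosetAvg, Pi.mul_apply, Pi.natCast_apply, Finset.mul_sum]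
    exact Finset.sum_congr rfl fun n _ => by ring
  rw [e]
  refine isCharacter_sum _ _ fun β _ => ?_
  by_cases hβ : ∀ n : N, (β : G → ℂ) n = (β : G → ℂ) 1
  · rw [ht β hβ]; exact isCharacter_nsmul (irr_isCharacter β.2) _
  · rw [hz β hβ, smul_zero]; exact isCharacter_zero

variable (E : Subgroup G) [Fintype E] [Fintype (N.subgroupOf E)]

/-- The character of `E` on the fixed space of `E ⊓ N`. -/
noncomputable def fixChar (f : G → ℂ) : E → ℂ := cosetAvg (N.subgroupOf E) (fun e : E => f e)

/-- The determinant on the fixed space is trivial. -/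
def IsGood (f : G → ℂ) : Prop := ∀ e : E, detChar (fixChar N E f) e = 1

theorem isCharacter_fixChar {f : G → ℂ} (hf : IsCharacter G f) :
    IsCharacter E (fixChar N E f) :=
  isCharacter_cosetAvg _ (isCharacter_comp E.subtype hf)

variable {θ : N → ℂ} {m : ℕ}

theorem fixChar_one {f : G → ℂ} (hext : ∀ n : N, f n = θ n)
    (hm : classInner (fun x : N.subgroupOf E => θ ⟨((x : E) : G), x.2⟩) (fun _ => 1) = (m : ℂ)) :
    fixChar N E f 1 = (m : ℂ) := by
  rw [← hm]
  simp only [fixChar, cosetAvg, classInner, mul_one, map_one]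
  congr 1
  exact Finset.sum_congr rfl fun x _ => hext ⟨((x : E) : G), x.2⟩

theorem fixChar_twist (lam : G →* ℂˣ) (hlam : ∀ n : N, lam n = 1) (f : G → ℂ) (e : E) :
    fixChar N E (fun g => (lam g : ℂ) * f g) e = (lam e : ℂ) * fixChar N E f e := by
  simp only [fixChar, cosetAvg, Finset.mul_sum]
  refine Finset.sum_congr rfl fun x _ => ?_
  have hx : lam ((x : E) : G) = 1 := hlam ⟨((x : E) : G), x.2⟩
  rw [Subgroup.coe_mul, map_mul, hx, one_mul]
  ring

theorem det_twist (lam : G →* ℂˣ) (hlam : ∀ n : N, lam n = 1) {f : G → ℂ} (hf : IsCharacter G f)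
    (hext : ∀ n : N, f n = θ n)
    (hm : classInner (fun x : N.subgroupOf E => θ ⟨((x : E) : G), x.2⟩) (fun _ => 1) = (m : ℂ))
    (e : E) :
    detChar (fixChar N E (fun g => (lam g : ℂ) * f g)) e =
      (lam e : ℂ) ^ m * detChar (fixChar N E f) e := by
  classical
  have hf' : IsCharacter G (fun g => (lam g : ℂ) * f g) := isCharacter_mul (isCharacter_linear lam) hf
  obtain ⟨ν, hν, hsν, hdν⟩ := exists_eig (isCharacter_fixChar N E hf) (fixChar_one N E hext hm) e
  obtain ⟨ν', hν', hsν', hdν'⟩ := exists_eig (isCharacter_fixChar N E hf')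
    (fixChar_one N E (θ := θ) (f := fun g => (lam g : ℂ) * f g) (fun n => by
      simp [hlam n, hext n]) hm) e
  have hl : (lam e : ℂ) ^ Nat.card E = 1 := by
    rw [← Units.val_pow_eq_pow_val, ← map_pow, ← SubgroupClass.coe_pow, pow_card_eq_one',
      OneMemClass.coe_one, map_one, Units.val_one]
  rw [hdν', prod_congr_sums (n := Nat.card E) Nat.card_pos.ne' ν' (fun i => (lam e : ℂ) * ν i) hν'
    (fun i => by rw [mul_pow, hl, hν, one_mul]) (fun k => by
      rw [← hsν' k, fixChar_twist N E lam hlam, hsν k, Finset.mul_sum, SubgroupClass.coe_pow,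
        map_pow, Units.val_pow_eq_pow_val]
      exact Finset.sum_congr rfl fun i _ => (mul_pow _ _ _).symm),
    Finset.prod_mul_distrib, Finset.prod_const, Finset.card_univ, Fintype.card_fin, hdν]

variable (hE : IsPGroup 2 E) (htop : E ⊔ N = ⊤) (hθ : IsIrrCharacter N θ)
  (hinv : ∀ (g : G) (n : N), θ (MulAut.conjNormal g n) = θ n) (hmodd : Odd m)
  (hm : classInner (fun x : N.subgroupOf E => θ ⟨((x : E) : G), x.2⟩) (fun _ => 1) = (m : ℂ))
include hE htop hθ hinv hmodd hm

theorem exists_good (hind : ∃ k : ℕ, N.index = 2 ^ k) :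
    ∃ χ : G → ℂ, IsIrrCharacter G χ ∧ (∀ n : N, χ n = θ n) ∧ IsGood N E χ := by
  classical
  have h2 : ¬ 2 ∣ m := fun h => Nat.not_even_iff_odd.mpr hmodd (even_iff_two_dvd.mpr h)
  obtain ⟨χ, hχ, hext⟩ := ExtPIndex.exists_extension E (1 : E →* ℂˣ) hind htop hθ hinv h2
    (by simpa using hm)
  have hr := isCharacter_fixChar N E (irr_isCharacter hχ)
  have hr1 := fixChar_one N E hext hm
  obtain ⟨d, ρ, hρ⟩ := id hr
  set μ := detHom ρ with hμdef
  have hμ : ∀ e, (μ e : ℂ) = detChar (fixChar N E χ) e := fun e => by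
    rw [detChar_eq_hom ρ hρ]
  have hμP : N.subgroupOf E ≤ μ.ker := by
    intro x hx
    rw [MonoidHom.mem_ker, ← Units.val_inj, Units.val_one, hμ]
    obtain ⟨ν, hν, hsν, hdν⟩ := exists_eig hr hr1 x
    rw [hdν, prod_congr_sums (n := Nat.card E) Nat.card_pos.ne' ν (fun _ : Fin m => (1 : ℂ)) hν
      (fun _ => one_pow _) (fun k => by
        rw [← hsν k]
        have hk : x ^ k ∈ N.subgroupOf E := pow_mem hx k
        rw [show x ^ k = (((⟨x ^ k, hk⟩ : N.subgroupOf E) : E)) * 1 by rw [mul_one], fixChar,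
          cosetAvg_mul, ← fixChar, hr1]
        simp), Finset.prod_const_one]
  let ι : E →* G ⧸ N := (QuotientGroup.mk' N).comp E.subtype
  have hι : Function.Surjective ι := by
    intro y
    obtain ⟨g, rfl⟩ := QuotientGroup.mk'_surjective N y
    have hg : g ∈ E ⊔ N := htop ▸ Subgroup.mem_top g
    obtain ⟨e, he, n, hn, rfl⟩ := Subgroup.mem_sup_of_normal_right.mp hg
    refine ⟨⟨e, he⟩, ?_⟩
    show QuotientGroup.mk' N e = QuotientGroup.mk' N (e * n)
    rw [map_mul, show QuotientGroup.mk' N n = 1 from (QuotientGroup.eq_one_iff n).mpr hn, mul_one]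
  have hker : ι.ker ≤ μ.ker := fun x hx => hμP (by
    rw [Subgroup.mem_subgroupOf]
    exact (QuotientGroup.eq_one_iff (x : G)).mp hx)
  set μ' := ι.liftOfSurjective hι ⟨μ, hker⟩ with hμ'
  have hμι : ∀ e, μ' (ι e) = μ e := fun e => MonoidHom.liftOfRightInverse_comp_apply _ _ _ _ e
  set a : ℤ := Nat.gcdA m (Nat.card E) with ha
  set b : ℤ := Nat.gcdB m (Nat.card E) with hb
  have hbez : (1 : ℤ) = m * a + (Nat.card E : ℤ) * b := by
    obtain ⟨j, hj⟩ := IsPGroup.iff_card.mp hE
    have hg : Nat.gcd m (Nat.card E) = 1 := by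
      rw [hj]
      exact ((Nat.prime_two.coprime_iff_not_dvd.mpr h2).pow_left j).symm
    have := Nat.gcd_eq_gcd_ab m (Nat.card E)
    rw [hg] at this
    exact_mod_cast this
  let lam : G →* ℂˣ :=
    { toFun := fun g => μ' (QuotientGroup.mk' N g) ^ (-a)
      map_one' := by simp
      map_mul' := fun x y => by rw [map_mul, map_mul, mul_zpow] }
  have hlamN : ∀ n : N, lam n = 1 := fun n => by
    show μ' (QuotientGroup.mk' N (n : G)) ^ (-a) = 1
    rw [show QuotientGroup.mk' N (n : G) = 1 from (QuotientGroup.eq_one_iff _).mpr n.2, map_one,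
      one_zpow]
  refine ⟨fun g => (lam g : ℂ) * χ g, isIrr_linear_mul hχ lam, fun n => by simp [hlamN n, hext n],
    fun e => ?_⟩
  rw [det_twist N E lam hlamN (irr_isCharacter hχ) hext hm e, ← hμ, ← Units.val_pow_eq_pow_val,
    ← Units.val_mul, ← Units.val_one, Units.val_inj]
  have hle : lam e = μ e ^ (-a) := by
    show μ' (ι e) ^ (-a) = _
    rw [hμι]
  rw [hle, ← zpow_natCast, ← zpow_mul, ← zpow_add_one,
    show -a * (m : ℤ) + 1 = (Nat.card E : ℤ) * b by linarith [hbez], zpow_mul, zpow_natCast,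
    ← map_pow, pow_card_eq_one', map_one, one_zpow]

theorem good_unique {χ χ' : G → ℂ} (hχ : IsIrrCharacter G χ) (hχ' : IsIrrCharacter G χ')
    (hext : ∀ n : N, χ n = θ n) (hext' : ∀ n : N, χ' n = θ n)
    (hg : IsGood N E χ) (hg' : IsGood N E χ') : χ' = χ := by
  classical
  have hone : (fun _ : N => (1 : ℂ)) * θ = θ := funext fun n => one_mul _
  have hbij := gallagher N (fun _ : N => (1 : ℂ)) θ (isIrrCharacter_one (G := N)) (fun _ _ => rfl)
    hinv (by rw [hone]; exact hθ) (irr_isCharacter hχ) hext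
  have hmem : χ' ∈ {ψ : G → ℂ | IsIrrCharacter G ψ ∧
      classInner (indFun N ((fun _ : N => (1 : ℂ)) * θ)) ψ ≠ 0} := by
    refine ⟨hχ', ?_⟩
    rw [hone, frobenius N _ (isClassFunction_character (irr_isCharacter hχ')),
      show (fun n : N => χ' n) = θ from funext hext', irr_self hθ]
    exact one_ne_zero
  obtain ⟨β, ⟨hβ, hβ0⟩, hβe⟩ := hbij.2.2 hmem
  have hβN := (constituent_indFun_one_iff N hβ).mp hβ0
  have hθ1 : θ 1 ≠ 0 := irr_one_ne_zero hθ
  have h1 : χ 1 = θ 1 := hext 1
  have h1' : χ' 1 = θ 1 := hext' 1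
  have hβ1 : β 1 = 1 := by
    have := congrFun hβe 1
    simp only [Pi.mul_apply, h1, h1'] at this
    exact mul_right_cancel₀ hθ1 (this.trans (one_mul _).symm)
  obtain ⟨lam, hlam⟩ := exists_hom_of_degree_one (irr_isCharacter hβ) hβ1
  have hlamN : ∀ n : N, lam n = 1 := fun n => by
    rw [← Units.val_inj, Units.val_one]
    first
      | rw [← hlam, hβN n, hβ1]
      | rw [hlam, hβN n, hβ1]
      | simpa [hlam, hβ1] using hβN n
  have hE1 : ∀ e : E, lam e = 1 := by
    intro e
    have hd := det_twist N E lam hlamN (irr_isCharacter hχ) hext hm e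
    have hfun : (fun g => (lam g : ℂ) * χ g) = χ' := by
      rw [← hβe]
      funext g
      simp [Pi.mul_apply, hlam]
    rw [hfun, hg' e, hg e, mul_one, ← Units.val_pow_eq_pow_val, ← Units.val_one, Units.val_inj] at hd
    obtain ⟨j, hj⟩ := IsPGroup.iff_card.mp hE
    have hc : lam e ^ (2 ^ j) = 1 := by
      rw [← hj, ← map_pow, ← SubgroupClass.coe_pow, pow_card_eq_one', OneMemClass.coe_one, map_one]
    have h2 : ¬ 2 ∣ m := fun h => Nat.not_even_iff_odd.mpr hmodd (even_iff_two_dvd.mpr h)
    have := pow_gcd_eq_one.mpr ⟨hd.symm, hc⟩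
    rwa [((Nat.prime_two.coprime_iff_not_dvd.mpr h2).pow_left j).symm, pow_one] at this
  have hall : ∀ g : G, lam g = 1 := by
    intro g
    obtain ⟨e, he, n, hn, rfl⟩ := Subgroup.mem_sup_of_normal_right.mp
      (show g ∈ E ⊔ N from htop ▸ Subgroup.mem_top g)
    rw [map_mul, hE1 ⟨e, he⟩, one_mul]
    exact hlamN ⟨n, hn⟩
  rw [← hβe]
  funext g
  simp [Pi.mul_apply, hlam, hall g]

end Extension

/-! ### Forms -/

section Form

variable {G : Type u} [Group G] [Fintype G]

theorem false_of_skew {n α : ℕ} {M Pr : Matrix (Fin n) (Fin n) ℂ} (hM : M.det ≠ 0)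
    (hskew : Mᵀ = -M) (hidem : Pr * Pr = Pr) (hsa : Pr * M = M * Prᵀ) (hα : Odd α)
    (htr : Pr.trace = (α : ℂ)) : False := by
  classical
  set f := Matrix.toLin' Pr with hf
  have hproj : LinearMap.IsProj (LinearMap.range f) f :=
    ⟨fun x => LinearMap.mem_range_self f x, fun x hx => by
      obtain ⟨y, rfl⟩ := hx
      rw [hf, Matrix.toLin'_apply, Matrix.toLin'_apply, Matrix.mulVec_mulVec, hidem]⟩
  have hrk : finrank ℂ (LinearMap.range f) = α := by
    have h := hproj.trace
    rw [LinearMap.trace_eq_matrix_trace ℂ (Pi.basisFun ℂ (Fin n)),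
      LinearMap.toMatrix_eq_toMatrix', hf, LinearMap.toMatrix'_toLin', htr] at h
    exact_mod_cast h.symm
  let b := Module.finBasisOfFinrankEq ℂ (LinearMap.range f) hrk
  let iL : (Fin α → ℂ) →ₗ[ℂ] (Fin n → ℂ) :=
    (LinearMap.range f).subtype ∘ₗ b.equivFun.symm.toLinearMap
  let jL : (Fin n → ℂ) →ₗ[ℂ] (Fin α → ℂ) := b.equivFun.toLinearMap ∘ₗ f.rangeRestrict
  have hfr : ∀ x : LinearMap.range f, f.rangeRestrict (x : Fin n → ℂ) = x := fun x =>
    Subtype.ext (hproj.map_id _ x.2)
  have hji : jL ∘ₗ iL = LinearMap.id := LinearMap.ext fun v => by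
    show b.equivFun (f.rangeRestrict ((b.equivFun.symm v : LinearMap.range f) : Fin n → ℂ)) = v
    rw [hfr, LinearEquiv.apply_symm_apply]
  have hij : iL ∘ₗ jL = f := LinearMap.ext fun v => by
    simp [iL, jL]
  set I := LinearMap.toMatrix' iL with hI
  set J := LinearMap.toMatrix' jL with hJ
  have hJI : J * I = 1 := by rw [hI, hJ, ← LinearMap.toMatrix'_comp, hji, LinearMap.toMatrix'_id]
  have hIJ : I * J = Pr := by
    rw [hI, hJ, ← LinearMap.toMatrix'_comp, hij, hf, LinearMap.toMatrix'_toLin']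
  set S := J * M * Jᵀ with hS
  have hST : Sᵀ = -S := by
    rw [hS, Matrix.transpose_mul, Matrix.transpose_mul, Matrix.transpose_transpose, hskew,
      Matrix.neg_mul, Matrix.mul_neg, Matrix.mul_assoc]
  have hS0 : S.det = 0 := by
    have h := congrArg Matrix.det hST
    rw [Matrix.det_transpose, Matrix.det_neg, Fintype.card_fin, hα.neg_one_pow, neg_one_mul] at h
    linear_combination h / 2
  have hinv : S * (Iᵀ * M⁻¹ * I) = 1 := by
    calc S * (Iᵀ * M⁻¹ * I) = J * (M * (Jᵀ * Iᵀ)) * (M⁻¹ * I) := by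
          simp only [hS, Matrix.mul_assoc]
      _ = J * (Pr * M) * (M⁻¹ * I) := by rw [← Matrix.transpose_mul, hIJ, hsa]
      _ = J * Pr * ((M * M⁻¹) * I) := by simp only [Matrix.mul_assoc]
      _ = J * Pr * I := by rw [Matrix.mul_nonsing_inv _ (isUnit_iff_ne_zero.mpr hM), Matrix.one_mul]
      _ = J * I * (J * I) := by rw [← hIJ]; simp only [Matrix.mul_assoc]
      _ = 1 := by rw [hJI, Matrix.one_mul]
  have h := congrArg Matrix.det hinv
  rw [Matrix.det_mul, hS0, zero_mul, Matrix.det_one] at h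
  exact zero_ne_one h

/-- An irreducible real character which contains a real linear character of `P⟨q⟩` an odd number
of times has indicator one. -/
theorem indicator_one_of_odd {χ : G → ℂ} (hχ : IsIrrCharacter G χ) (hreal : ∀ g, (χ g).im = 0)
    (P : Subgroup G) [Fintype P] (q : G) (hq : ∀ x, x ∈ P ↔ q * x * q⁻¹ ∈ P) {k : ℕ} (hk : k ≠ 0)
    (hqk : q ^ k = 1) {s : ℂ} (hs : s = 1 ∨ s = -1) (hsk : s ^ k = 1) {α : ℕ} (hα : Odd α)
    (hsum : ∑ x : P, ∑ j ∈ Finset.range k, s ^ j * χ (x * q ^ j) =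
      (Nat.card P : ℂ) * (k : ℂ) * (α : ℂ)) :
    indicator2 χ = 1 := by
  classical
  obtain ⟨n, ρ, hρ, rfl⟩ := id hχ
  set A := repMat ρ with hA
  rcases indicator_core A (repMat_trace ρ) hχ with ⟨hn, -, -⟩ | ⟨-, c, hc, hν, ⟨M, hM0, hM⟩, hall⟩
  · exact absurd hreal hn
  rcases hc with rfl | rfl
  · exact hν
  exfalso
  have hskew : Mᵀ = -M := by rw [hall M hM, neg_one_smul]
  let S : Subrepresentation ρ := ⟨LinearMap.range (Matrix.toLin' M), fun g v hv => by
    obtain ⟨w, rfl⟩ := hv
    refine ⟨(A g⁻¹)ᵀ *ᵥ w, ?_⟩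
    rw [Matrix.toLin'_apply, Matrix.toLin'_apply]
    rw [show ρ g (M *ᵥ w) = A g *ᵥ (M *ᵥ w) from (LinearMap.toMatrix'_mulVec _ _).symm,
      Matrix.mulVec_mulVec, Matrix.mulVec_mulVec]
    congr 1
    conv_lhs => rw [← hM g]
    rw [Matrix.mul_assoc, ← Matrix.transpose_mul, ← map_mul, inv_mul_cancel, map_one,
      Matrix.transpose_one, Matrix.mul_one]⟩
  have hdet : M.det ≠ 0 := by
    rw [← isUnit_iff_ne_zero, ← Matrix.isUnit_iff_isUnit_det, ← Matrix.mulVec_surjective_iff_isUnit]
    show Function.Surjective (Matrix.toLin' M)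
    rw [← LinearMap.range_eq_top]
    rcases hρ.eq_bot_or_eq_top S with hb | ht
    · exfalso
      apply hM0
      have hb' : LinearMap.range (Matrix.toLin' M) = ⊥ := congrArg Subrepresentation.toSubmodule hb
      rw [LinearMap.range_eq_bot] at hb'
      simpa using hb'
    · exact congrArg Subrepresentation.toSubmodule ht
  set E1 := ∑ x : P, A (x : G) with hE1
  set B := s • A q with hB
  set E2 := ∑ j ∈ Finset.range k, B ^ j with hE2
  have hcP : (Nat.card P : ℂ) ≠ 0 := Nat.cast_ne_zero.mpr Nat.card_pos.ne'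
  have hck : (k : ℂ) ≠ 0 := Nat.cast_ne_zero.mpr hk
  have hx1 : ∀ y : P, E1 * A (y : G) = E1 := fun y => by
    rw [hE1, Finset.sum_mul]
    exact Fintype.sum_equiv (Equiv.mulRight y) _ _ fun x => (map_mul A _ _).symm
  have hy1 : ∀ y : P, A (y : G) * E1 = E1 := fun y => by
    rw [hE1, Finset.mul_sum]
    exact Fintype.sum_equiv (Equiv.mulLeft y) _ _ fun x => (map_mul A _ _).symm
  have h11 : E1 * E1 = (Nat.card P : ℂ) • E1 := by
    conv_lhs => arg 2; rw [hE1]
    rw [Finset.mul_sum, Finset.sum_congr rfl fun y _ => hx1 y, Finset.sum_const, Finset.card_univ,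
      ← Nat.card_eq_fintype_card, Nat.cast_smul_eq_nsmul]
  have hBk : B ^ k = 1 := by rw [hB, smul_pow, hsk, ← map_pow, hqk, map_one, one_smul]
  have hBE : B * E2 = E2 := by
    have h := mul_geom_sum B k
    rw [hBk, sub_self, sub_mul, one_mul, sub_eq_zero] at h
    exact h
  have hEB : E2 * B = E2 := by
    have h := geom_sum_mul B k
    rw [hBk, sub_self, mul_sub, mul_one, sub_eq_zero] at h
    exact h
  have hBjE : ∀ j, B ^ j * E2 = E2 := fun j => by
    induction j with
    | zero => rw [pow_zero, one_mul]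
    | succ j ih => rw [pow_succ, mul_assoc, hBE, ih]
  have hEBj : ∀ j, E2 * B ^ j = E2 := fun j => by
    induction j with
    | zero => rw [pow_zero, mul_one]
    | succ j ih => rw [pow_succ, ← mul_assoc, ih, hEB]
  have h22 : E2 * E2 = (k : ℂ) • E2 := by
    conv_lhs => arg 2; rw [hE2]
    rw [Finset.mul_sum, Finset.sum_congr rfl fun j _ => hEBj j, Finset.sum_const,
      Finset.card_range, Nat.cast_smul_eq_nsmul]
  have hss : s * s = 1 := by rcases hs with rfl | rfl <;> norm_num
  have hBM : ∀ j, B ^ j * M * (B ^ j)ᵀ = M := fun j => by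
    rw [hB, smul_pow, Matrix.transpose_smul, Matrix.smul_mul, Matrix.smul_mul, Matrix.mul_smul,
      smul_smul, ← mul_pow, hss, one_pow, one_smul, ← map_pow, hM]
  have sa : ∀ {ι : Type u} (T : Finset ι) (C : ι → Matrix (Fin n) (Fin n) ℂ),
      T.Nonempty → (∀ i ∈ T, (∑ j ∈ T, C j) * C i = ∑ j ∈ T, C j) → (∀ i ∈ T, C i * (∑ j ∈ T, C j) = ∑ j ∈ T, C j) →
      (∀ i ∈ T, C i * M * (C i)ᵀ = M) → (∑ j ∈ T, C j) * M = M * (∑ j ∈ T, C j)ᵀ := by
    intro ι T C hT hr hl hi
    set E0 := ∑ j ∈ T, C j with hE0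
    have e1 : E0 * M * E0ᵀ = (T.card : ℂ) • (E0 * M) := by
      calc E0 * M * E0ᵀ = ∑ i ∈ T, E0 * C i * M * (C i)ᵀ := by
            conv_lhs => arg 2; rw [hE0]
            rw [Matrix.transpose_sum, Finset.mul_sum]
            exact Finset.sum_congr rfl fun i hi' => by rw [hr i hi']
        _ = ∑ i ∈ T, E0 * M := Finset.sum_congr rfl fun i hi' => by
            rw [Matrix.mul_assoc E0, Matrix.mul_assoc E0, hi i hi']
        _ = _ := by rw [Finset.sum_const, Nat.cast_smul_eq_nsmul]
    have e2 : E0 * M * E0ᵀ = (T.card : ℂ) • (M * E0ᵀ) := by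
      calc E0 * M * E0ᵀ = ∑ i ∈ T, C i * M * (E0 * C i)ᵀ := by
            conv_lhs => arg 1; arg 1; rw [hE0]
            rw [Finset.sum_mul, Finset.sum_mul]
            exact Finset.sum_congr rfl fun i hi' => by rw [hr i hi']
        _ = ∑ i ∈ T, M * E0ᵀ := Finset.sum_congr rfl fun i hi' => by
            rw [Matrix.transpose_mul, ← Matrix.mul_assoc, hi i hi']
        _ = _ := by rw [Finset.sum_const, Nat.cast_smul_eq_nsmul]
    exact smul_right_injective _ (Nat.cast_ne_zero.mpr hT.card_pos.ne' : (T.card : ℂ) ≠ 0)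
      (e1.symm.trans e2)
  have hsa1 : E1 * M = M * E1ᵀ := sa (Finset.univ : Finset P) (fun x : P => A (x : G))
    Finset.univ_nonempty (fun i _ => hx1 i) (fun i _ => hy1 i) (fun i _ => hM _)
  have hsa2 : E2 * M = M * E2ᵀ := by
    have h := sa (ι := ULift.{u} ℕ) ((Finset.range k).map Equiv.ulift.symm.toEmbedding)
      (fun j => B ^ j.down) (by simpa using hk)
      (fun i _ => by rw [Finset.sum_map]; exact hEBj _)
      (fun i _ => by rw [Finset.sum_map]; exact hBjE _) (fun i _ => hBM _)
    rw [Finset.sum_map] at h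
    exact h
  have hcomm1 : Commute (A q) E1 := by
    show A q * E1 = E1 * A q
    rw [hE1, Finset.mul_sum, Finset.sum_mul]
    refine Fintype.sum_equiv
      { toFun := fun x : P => (⟨q * x * q⁻¹, (hq x).mp x.2⟩ : P)
        invFun := fun x : P => (⟨q⁻¹ * x * q, (hq _).mpr (by simp [mul_assoc])⟩ : P)
        left_inv := fun x => Subtype.ext (by simp [mul_assoc])
        right_inv := fun x => Subtype.ext (by simp [mul_assoc]) } _ _ fun x => ?_
    simp only [Equiv.coe_fn_mk, ← map_mul]
    congr 1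
    group
  have hcomm : Commute E2 E1 := by
    rw [hE2]
    refine Commute.sum_left _ _ _ fun j _ => ?_
    exact (hcomm1.smul_left s).pow_left j
  set Pr := ((Nat.card P : ℂ) * k)⁻¹ • (E1 * E2) with hPr
  have hid : Pr * Pr = Pr := by
    rw [hPr, Matrix.smul_mul, Matrix.mul_smul, smul_smul, Matrix.mul_assoc, ← Matrix.mul_assoc E2,
      hcomm.eq, Matrix.mul_assoc E1 E2, ← Matrix.mul_assoc E1, h11, h22, Matrix.smul_mul,
      Matrix.mul_smul, smul_smul, smul_smul]
    congr 1
    field_simp
  have hsa : Pr * M = M * Prᵀ := by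
    rw [hPr, Matrix.transpose_smul, Matrix.smul_mul, Matrix.mul_smul, Matrix.transpose_mul,
      Matrix.mul_assoc, hsa2, ← Matrix.mul_assoc, hsa1, Matrix.mul_assoc, ← Matrix.transpose_mul,
      hcomm.eq, Matrix.transpose_mul]
  refine false_of_skew hdet hskew hid hsa hα ?_
  rw [hPr, Matrix.trace_smul, hE1, hE2, Finset.sum_mul, Matrix.trace_sum,
    Finset.sum_congr rfl (g := fun x : P => ∑ j ∈ Finset.range k, s ^ j * ρ.character ((x : G) * q ^ j))
      fun x _ => by
        rw [Finset.mul_sum, Matrix.trace_sum]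
        refine Finset.sum_congr rfl fun j _ => ?_
        rw [hB, smul_pow, Matrix.mul_smul, Matrix.trace_smul, ← map_pow, ← map_mul, repMat_trace,
          smul_eq_mul],
    hsum, smul_eq_mul]
  field_simp

variable (N : Subgroup G) [N.Normal] [Fintype N]

/-- An orthogonal induced character keeps indicator one. -/
theorem indicator_induced (I : Subgroup G) [Fintype I] (hNI : N ≤ I) {ψ : I → ℂ}
    (hψ : IsIrrCharacter I ψ) (hone : indicator2 ψ = 1) (hirr : IsIrrCharacter G (indFun I ψ))
    (horth : ∀ g : G, g ∉ I → ∑ n : N, ψ (Subgroup.inclusion hNI n) *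
      ψ (Subgroup.inclusion hNI (MulAut.conjNormal g n)) = 0) :
    indicator2 (indFun I ψ) = 1 := by
  classical
  set χ₀ : IrrCharacter G := ⟨_, hirr⟩ with hχ₀
  have hψreal : ∀ t : I, (ψ t).im = 0 := indicator_real hψ (by rw [hone]; exact one_ne_zero)
  have hψconj : ∀ t : I, conj (ψ t) = ψ t := fun t => Complex.conj_eq_iff_im.mpr (hψreal t)
  have hin : ∀ χ : IrrCharacter G, classInner (fun t : I => (χ : G → ℂ) t) ψ =
      if χ = χ₀ then 1 else 0 := fun χ => by
    rw [← frobenius_right I ψ (isClassFunction_character (irr_isCharacter χ.2))]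
    exact irrC_orth χ χ₀
  have hsum : ∑ χ : IrrCharacter G, indicator2 (χ : G → ℂ) *
      classInner (fun t : I => (χ : G → ℂ) t) ψ = indicator2 (indFun I ψ) := by
    simp only [hin, mul_ite, mul_one, mul_zero, Finset.sum_ite_eq', Finset.mem_univ, if_true]
    rfl
  have hsplit : ∑ χ : IrrCharacter G, indicator2 (χ : G → ℂ) *
      classInner (fun t : I => (χ : G → ℂ) t) ψ =
      (Nat.card I : ℂ)⁻¹ * ∑ g : G, if h : g * g ∈ I then ψ ⟨g * g, h⟩ else 0 := by
    simp only [classInner, Finset.mul_sum, ← mul_assoc]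
    rw [Finset.sum_comm]
    simp only [mul_comm (indicator2 _) (Nat.card I : ℂ)⁻¹, mul_assoc, ← Finset.mul_sum]
    congr 1
    rw [← Finset.sum_fiberwise Finset.univ (fun g : G => g * g)
      (fun g : G => if h : g * g ∈ I then ψ ⟨g * g, h⟩ else 0)]
    rw [← Finset.sum_subset (Finset.subset_univ (Finset.univ.filter (· ∈ I))) fun a _ ha =>
      Finset.sum_eq_zero fun g hg => by
        rw [dif_neg]
        rw [(Finset.mem_filter.mp hg).2]
        simpa using ha, Finset.sum_subtype (p := (· ∈ I)) _ (fun g => by simp)]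
    refine Finset.sum_congr rfl fun t _ => Eq.symm ?_
    rw [Finset.sum_congr rfl (g := fun _ => ψ t) fun g hg => by
        have e := (Finset.mem_filter.mp hg).2
        rw [dif_pos (by rw [e]; exact t.2)]
        exact congrArg ψ (Subtype.ext e),
      Finset.sum_const, nsmul_eq_mul, ← sum_indicator_mul (t : G), hψconj, Finset.sum_mul]
    exact Finset.sum_congr rfl fun χ _ => by ring
  obtain ⟨d, ρ, hρirr, hρ⟩ := id hψ
  have hzero : ∀ g : G, g ∉ I → (hg2 : g * g ∈ I) →
      ∑ n : N, ψ (Subgroup.inclusion hNI n * Subgroup.inclusion hNI (MulAut.conjNormal g n) *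
        ⟨g * g, hg2⟩) = 0 := by
    intro g hgI hg2
    set A : N →* Matrix (Fin d) (Fin d) ℂ := (repMat ρ).comp (Subgroup.inclusion hNI) with hA
    set B : N →* Matrix (Fin d) (Fin d) ℂ :=
      A.comp (MulAut.conjNormal g : MulAut N).toMonoidHom with hB
    have hAB : ∑ n : N, (A n).trace * (B n).trace = 0 := by
      rw [← horth g hgI]
      refine Finset.sum_congr rfl fun n _ => ?_
      simp only [hA, hB, MonoidHom.comp_apply, repMat_trace, hρ]
      rfl
    rw [← sum_trace_mul_eq_zero A B hAB (repMat ρ ⟨g * g, hg2⟩)]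
    refine Finset.sum_congr rfl fun n _ => ?_
    rw [hB, MonoidHom.comp_apply, hA, MonoidHom.comp_apply, MonoidHom.comp_apply]
    simp only [← map_mul]
    rw [repMat_trace, hρ, map_mul, map_mul]
    rfl
  set f : G → ℂ := fun g => if h : g * g ∈ I then ψ ⟨g * g, h⟩ else 0 with hf
  have hout : ∑ g ∈ Finset.univ.filter (· ∉ I), f g = 0 := by
    have hN0 : (Nat.card N : ℂ) ≠ 0 := Nat.cast_ne_zero.mpr Nat.card_pos.ne'
    refine (mul_eq_zero.mp ?_).resolve_left hN0
    have hshift : ∀ n : N, ∑ g ∈ Finset.univ.filter (· ∉ I), f g =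
        ∑ g ∈ Finset.univ.filter (· ∉ I), f ((n : G) * g) := fun n => by
      refine (Finset.sum_equiv (Equiv.mulLeft (n : G)) (fun g => ?_) fun g _ => rfl).symm
      simp only [Finset.mem_filter, Finset.mem_univ, true_and, Equiv.coe_mulLeft,
        Subgroup.mul_mem_cancel_left I (hNI n.2)]
    rw [Nat.card_eq_fintype_card, ← nsmul_eq_mul, ← Finset.card_univ, ← Finset.sum_const,
      Finset.sum_congr rfl fun n _ => hshift n, Finset.sum_comm]
    refine Finset.sum_eq_zero fun g hg => ?_
    have hgI := (Finset.mem_filter.mp hg).2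
    have e : ∀ n : N, (n : G) * g * ((n : G) * g) =
        (n : G) * ((MulAut.conjNormal g n : N) : G) * (g * g) := fun n => by
      rw [MulAut.conjNormal_apply]; group
    by_cases hg2 : g * g ∈ I
    · rw [← hzero g hgI hg2]
      refine Finset.sum_congr rfl fun n _ => ?_
      have hm : (n : G) * g * ((n : G) * g) ∈ I := by
        rw [e]; exact mul_mem (mul_mem (hNI n.2) (hNI (MulAut.conjNormal g n).2)) hg2
      simp only [hf]
      rw [dif_pos hm]
      exact congrArg ψ (Subtype.ext (e n))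
    · refine Finset.sum_eq_zero fun n _ => ?_
      simp only [hf]
      rw [dif_neg]
      rw [e, Subgroup.mul_mem_cancel_left I (mul_mem (hNI n.2) (hNI (MulAut.conjNormal g n).2))]
      exact hg2
  rw [← hsum, hsplit, ← Finset.sum_filter_add_sum_filter_not Finset.univ (· ∈ I), hout, add_zero,
    Finset.sum_subtype (p := (· ∈ I)) _ (fun g => by simp), ← hone]
  refine congrArg ((Nat.card I : ℂ)⁻¹ * ·) (Finset.sum_congr rfl fun t _ => ?_)
  show (if h : (t : G) * t ∈ I then ψ ⟨(t : G) * t, h⟩ else 0) = _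
  rw [dif_pos (mul_mem t.2 t.2)]
  rfl

/-- A character which induces irreducibly is irreducible. -/
theorem irr_of_indFun_irr (I : Subgroup G) [Fintype I] {ψ : I → ℂ} (hψ : IsCharacter I ψ)
    (hirr : IsIrrCharacter G (indFun I ψ)) : IsIrrCharacter I ψ := by
  classical
  have hres : IsCharacter I (fun t : I => indFun I ψ t) :=
    isCharacter_comp I.subtype (irr_isCharacter hirr)
  obtain ⟨k, hk⟩ := exists_decomposition hψ
  have h1 : classInner ψ (fun t : I => indFun I ψ t) = 1 := by
    rw [← frobenius I ψ (isClassFunction_character (irr_isCharacter hirr)), irr_self hirr]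
  have hlo : ∀ β : IrrCharacter I, ∃ w : ℕ, k β ≤ w ∧
      classInner (β : I → ℂ) (fun t : I => indFun I ψ t) = (w : ℂ) := by
    intro β
    obtain ⟨w, hw⟩ := classInner_natCast (irr_isCharacter β.2) hres
    refine ⟨w, ?_, hw⟩
    rw [← frobenius I (β : I → ℂ) (isClassFunction_character (irr_isCharacter hirr))] at hw
    have hsplit : indFun I ψ = ∑ γ : IrrCharacter I, k γ • indFun I (γ : I → ℂ) := by
      funext g
      have hext : ∀ y : G, extendByZero I ψ y =
          ∑ γ : IrrCharacter I, (k γ : ℂ) * extendByZero I (γ : I → ℂ) y := by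
        intro y
        by_cases hy : y ∈ I
        · simp only [extendByZero_mem I _ hy]
          rw [hk]
          simp
        · simp [extendByZero_not_mem I _ hy]
      simp only [indFun, hext, Finset.sum_apply, Pi.smul_apply, nsmul_eq_mul, Finset.mul_sum,
        Pi.mul_apply, Pi.natCast_apply]
      rw [Finset.sum_comm]
      exact Finset.sum_congr rfl fun x _ => Finset.sum_congr rfl fun y _ => by ring
    rw [hsplit, classInner_sum_right, Finset.sum_congr rfl fun γ _ => by
      rw [← Nat.cast_smul_eq_nsmul ℂ, classInner_smul_right, Complex.conj_natCast]] at hw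
    obtain ⟨z, hz⟩ := classInner_natCast
      (isCharacter_indFun I (irr_isCharacter β.2)) (isCharacter_indFun I (irr_isCharacter β.2))
    choose v hv using fun γ : IrrCharacter I => classInner_natCast
      (isCharacter_indFun I (irr_isCharacter β.2)) (isCharacter_indFun I (irr_isCharacter γ.2))
    simp only [hv] at hw
    have hw' : ∑ γ : IrrCharacter I, k γ * v γ = w := by exact_mod_cast hw
    have hpos : 1 ≤ v β := by
      rw [Nat.one_le_iff_ne_zero]
      intro h0
      have h := hv β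
      rw [h0, Nat.cast_zero] at h
      have h' := congrFun (classInner_self_eq_zero h) 1
      rw [indFun_one, Pi.zero_apply, mul_eq_zero] at h'
      exact h'.elim (Nat.cast_ne_zero.mpr Subgroup.index_ne_zero_of_finite) (irr_one_ne_zero β.2)
    exact le_trans (Nat.le_mul_of_pos_right _ hpos) (hw' ▸ Finset.single_le_sum
      (f := fun γ => k γ * v γ) (fun _ _ => Nat.zero_le _) (Finset.mem_univ β))
  choose w hkw hw using hlo
  have hs : ∑ β : IrrCharacter I, k β * w β = 1 := by
    have h := h1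
    conv_lhs at h => arg 1; rw [hk]
    rw [classInner_sum_left, Finset.sum_congr rfl fun β _ => by
      rw [← Nat.cast_smul_eq_nsmul ℂ, classInner_smul_left, hw β]] at h
    exact_mod_cast h
  refine isIrr_of_norm_one hψ ?_
  have hn : classInner ψ ψ = ((∑ β : IrrCharacter I, k β * k β : ℕ) : ℂ) := by
    conv_lhs => arg 2; rw [hk]
    rw [classInner_sum_right, Nat.cast_sum]
    refine Finset.sum_congr rfl fun β _ => ?_
    rw [← Nat.cast_smul_eq_nsmul ℂ, classInner_smul_right, Complex.conj_natCast,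
      decomposition_coeff k hk, Nat.cast_mul]
  have hle : ∑ β : IrrCharacter I, k β * k β ≤ 1 :=
    hs ▸ Finset.sum_le_sum fun β _ => Nat.mul_le_mul_left _ (hkw β)
  have hne : ∑ β : IrrCharacter I, k β * k β ≠ 0 := fun h0 => by
    have : ∀ β, k β = 0 := fun β => by
      have := (Finset.sum_eq_zero_iff.mp h0) β (Finset.mem_univ β)
      exact mul_self_eq_zero.mp this
    simp [this] at hs
  rw [hn, show ∑ β : IrrCharacter I, k β * k β = 1 by omega, Nat.cast_one]

end Form

/-! ### The theorem -/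

section Main

variable {G : Type u} [Group G] [Fintype G] (N : Subgroup G) [N.Normal] [Fintype N]

/-- The inertia group. -/
def inertia (φ : N → ℂ) : Subgroup G where
  carrier := {g | ∀ k : N, φ (MulAut.conjNormal g k) = φ k}
  one_mem' k := by simp
  mul_mem' {a b} ha hb k := by rw [map_mul, MulAut.mul_apply, ha, hb]
  inv_mem' {a} ha k := by
    have h := ha (MulAut.conjNormal a⁻¹ k)
    rwa [← MulAut.mul_apply, ← map_mul, mul_inv_cancel, map_one, MulAut.one_apply, eq_comm] at h

/-- The stabilizer of a character and its conjugate. -/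
def pairStab (φ : N → ℂ) : Subgroup G where
  carrier := {g | (∀ k : N, φ (MulAut.conjNormal g k) = φ k) ∨
    ∀ k : N, φ (MulAut.conjNormal g k) = conj (φ k)}
  one_mem' := Or.inl fun k => by simp
  mul_mem' {a b} ha hb := by
    rcases ha with ha | ha <;> rcases hb with hb | hb
    · exact Or.inl fun k => by rw [map_mul, MulAut.mul_apply, ha, hb]
    · exact Or.inr fun k => by rw [map_mul, MulAut.mul_apply, ha, hb]
    · exact Or.inr fun k => by rw [map_mul, MulAut.mul_apply, ha, hb]
    · exact Or.inl fun k => by rw [map_mul, MulAut.mul_apply, ha, hb, Complex.conj_conj]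
  inv_mem' {a} ha := by
    rcases ha with ha | ha
    · exact Or.inl fun k => by
        have h := ha (MulAut.conjNormal a⁻¹ k)
        rwa [← MulAut.mul_apply, ← map_mul, mul_inv_cancel, map_one, MulAut.one_apply, eq_comm] at h
    · exact Or.inr fun k => by
        have h := ha (MulAut.conjNormal a⁻¹ k)
        rw [← MulAut.mul_apply, ← map_mul, mul_inv_cancel, map_one, MulAut.one_apply] at h
        rw [h, Complex.conj_conj]

theorem sum_range_two (f : ℕ → ℂ) (k : ℕ) :
    ∑ j ∈ Finset.range (2 * k), f j = ∑ i ∈ Finset.range k, (f (2 * i) + f (2 * i + 1)) := by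
  induction k with
  | zero => simp
  | succ k ih =>
    rw [show 2 * (k + 1) = 2 * k + 1 + 1 by ring, Finset.sum_range_succ, Finset.sum_range_succ,
      Finset.sum_range_succ, ih, add_assoc]

theorem exists_real_over (h2 : ∃ k : ℕ, N.index = 2 ^ k) (φ : IrrCharacter N)
    (hdef : 2 ^ (Nat.card N).factorization 2 ∣ deg (φ : N → ℂ)) {g : G}
    (hg : ∀ k : N, (φ : N → ℂ) (MulAut.conjNormal g k) = conj ((φ : N → ℂ) k)) :
    ∃ χ : IrrCharacter G, indicator2 (χ : G → ℂ) = 1 ∧
      classInner (fun n : N => (χ : G → ℂ) n) (φ : N → ℂ) = 1 := by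
  classical
  have hφc := irr_isCharacter φ.2
  have hvan : ∀ x : N, 2 ∣ orderOf x → (φ : N → ℂ) x = 0 := by
    intro x hx
    obtain ⟨d, ρ, hρ, hρc⟩ := φ.2
    haveI := hρ
    rw [← hρc]
    refine Cfsg.Agent.S0165.result ρ 2 ((Nat.card N).factorization 2) Nat.prime_two
      (Nat.ordProj_dvd _ _) (Nat.pow_succ_factorization_not_dvd Nat.card_pos.ne' Nat.prime_two)
      ?_ x hx
    have h1 := char_one_eq_deg hφc
    rw [← hρc, Representation.char_one] at h1
    rw [Nat.cast_injective (R := ℂ) h1, hρc]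
    exact hdef
  -- a Sylow subgroup
  obtain ⟨k2, hk2⟩ := h2
  let Q : Sylow 2 G := default
  have hQN : (Q : Subgroup G) ⊔ N = ⊤ := by
    rw [← Subgroup.index_eq_one]
    have ha : ((Q : Subgroup G) ⊔ N).index ∣ (Q : Subgroup G).index :=
      Subgroup.index_dvd_of_le le_sup_left
    have hb : ((Q : Subgroup G) ⊔ N).index ∣ N.index := Subgroup.index_dvd_of_le le_sup_right
    haveI : Fact (Nat.Prime 2) := ⟨Nat.prime_two⟩
    exact Nat.eq_one_of_dvd_coprimes
      ((Nat.prime_two.coprime_iff_not_dvd.mpr Q.not_dvd_index).pow_left k2) (hk2 ▸ hb) ha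
  set v := (Nat.card N).factorization 2 with hv
  haveI : Fact (Nat.Prime 2) := ⟨Nat.prime_two⟩
  have hQNcard : Nat.card ↥(N.subgroupOf (Q : Subgroup G)) = 2 ^ v := by
    have hrel : (N.subgroupOf (Q : Subgroup G)).index = N.index := by
      show N.relIndex (Q : Subgroup G) = N.index
      rw [← Subgroup.relIndex_sup_right, hQN, Subgroup.relIndex_top_right]
    obtain ⟨a, ha⟩ := IsPGroup.iff_card.mp (Q.isPGroup'.to_subgroup (N.subgroupOf (Q : Subgroup G)))
    have h := (N.subgroupOf (Q : Subgroup G)).card_mul_index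
    rw [hrel, hk2, ha, ← pow_add, Q.card_eq_multiplicity, ← N.card_mul_index, hk2,
      Nat.factorization_mul Nat.card_pos.ne' (pow_ne_zero _ two_ne_zero), Finsupp.add_apply,
      Nat.prime_two.factorization_pow, Finsupp.single_eq_same] at h
    have := Nat.pow_right_injective le_rfl h
    rw [ha]
    congr 1
    omega
  obtain ⟨m, hm⟩ := hdef
  have hmodd : Odd m := by
    rw [← Nat.not_even_iff_odd, even_iff_two_dvd]
    rintro ⟨w, rfl⟩
    have hd := (deg_dvd_card φ.2)
    rw [hm, ← mul_assoc, ← pow_succ] at hd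
    exact Nat.pow_succ_factorization_not_dvd Nat.card_pos.ne' Nat.prime_two
      ((dvd_mul_right _ _).trans hd)
  -- the twisting element in the Sylow subgroup
  set T := inertia N (φ : N → ℂ) with hT
  obtain ⟨q₀, hq₀Q, hq₀⟩ : ∃ q : G, q ∈ (Q : Subgroup G) ∧
      ∀ k : N, (φ : N → ℂ) (MulAut.conjNormal q k) = conj ((φ : N → ℂ) k) := by
    obtain ⟨q, hq, n, hn, rfl⟩ := Subgroup.mem_sup_of_normal_right.mp
      (show g ∈ (Q : Subgroup G) ⊔ N from hQN ▸ Subgroup.mem_top g)
    refine ⟨q, hq, fun k => ?_⟩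
    have h := hg (MulAut.conjNormal n⁻¹ k)
    rw [← MulAut.mul_apply, ← map_mul, mul_assoc, mul_inv_cancel, mul_one] at h
    rw [h]
    congr 1
    have hc := isClassFunction_character hφc k (⟨n, hn⟩⁻¹ : N)
    rw [← hc]
    congr 1
  obtain ⟨q, hqQ, hq, hq1⟩ : ∃ q : G, q ∈ (Q : Subgroup G) ∧
      (∀ k : N, (φ : N → ℂ) (MulAut.conjNormal q k) = conj ((φ : N → ℂ) k)) ∧
      (q ∈ T → q = 1) := by
    by_cases h : q₀ ∈ T
    · exact ⟨1, one_mem _, fun k => by rw [map_one, MulAut.one_apply, ← hq₀ k, h k], fun _ => rfl⟩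
    · exact ⟨q₀, hq₀Q, hq₀, fun h' => absurd h' h⟩
  have hqT : ∀ t : G, t ∈ T → q * t * q⁻¹ ∈ T := by
    intro t ht k
    rw [map_mul, map_mul, MulAut.mul_apply, MulAut.mul_apply, hq, ht, ← hq, ← MulAut.mul_apply,
      ← map_mul, mul_inv_cancel, map_one, MulAut.one_apply]
  have hqT' : ∀ t : G, t ∈ T → q⁻¹ * t * q ∈ T := by
    intro t ht k
    have e : ∀ j : N, (φ : N → ℂ) (MulAut.conjNormal q⁻¹ j) = conj ((φ : N → ℂ) j) := fun j => by
      have h := hq (MulAut.conjNormal q⁻¹ j)
      rw [← MulAut.mul_apply, ← map_mul, mul_inv_cancel, map_one, MulAut.one_apply] at h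
      rw [h, Complex.conj_conj]
    rw [map_mul, map_mul, MulAut.mul_apply, MulAut.mul_apply, e, ht, hq, Complex.conj_conj]
  have hq2 : q * q ∈ T := fun k => by
    rw [map_mul, MulAut.mul_apply, hq, hq, Complex.conj_conj]
  have hNT : N ≤ T := fun x hx k => by
    have hc := isClassFunction_character hφc k (⟨x, hx⟩ : N)
    rw [← hc]
    congr 1
  -- the extension
  haveI := Fintype.ofFinite ↥T
  set N' := N.subgroupOf T with hN'
  haveI := Fintype.ofFinite ↥N'
  haveI : N'.Normal := Subgroup.Normal.comap inferInstance _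
  set E := ((Q : Subgroup G) ⊓ T).subgroupOf T with hE
  haveI := Fintype.ofFinite ↥E
  haveI := Fintype.ofFinite ↥(N'.subgroupOf E)
  let eN : N' ≃* N := Subgroup.subgroupOfEquivOfLe hNT
  let θ : N' → ℂ := fun x => (φ : N → ℂ) (eN x)
  have hθ : IsIrrCharacter N' θ := isIrrCharacter_comp_equiv eN φ.2
  have hinv : ∀ (t : T) (n : N'), θ (MulAut.conjNormal t n) = θ n := by
    intro t n
    have h := t.2 (eN n)
    refine Eq.trans (congrArg (φ : N → ℂ) (Subtype.ext ?_)) h
    rfl
  have hEp : IsPGroup 2 E :=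
    (Q.isPGroup'.to_le inf_le_left).of_equiv (Subgroup.subgroupOfEquivOfLe inf_le_right).symm
  have htop : E ⊔ N' = ⊤ := by
    rw [eq_top_iff]
    rintro ⟨t, ht⟩ -
    obtain ⟨a, ha, n, hn, rfl⟩ := Subgroup.mem_sup_of_normal_right.mp
      (show t ∈ (Q : Subgroup G) ⊔ N from hQN ▸ Subgroup.mem_top t)
    have haT : a ∈ T := (Subgroup.mul_mem_cancel_right T (hNT hn)).mp ht
    exact Subgroup.mem_sup_of_normal_right.mpr
      ⟨⟨a, haT⟩, ⟨ha, haT⟩, ⟨n, hNT hn⟩, hn, rfl⟩
  have hPcard : Nat.card ↥(N'.subgroupOf E) = 2 ^ v := by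
    rw [← hQNcard]
    exact Nat.card_congr
      { toFun := fun x => ⟨⟨(((x : E) : T) : G), (x : E).2.1⟩, x.2⟩
        invFun := fun y => ⟨⟨⟨((y : (Q : Subgroup G)) : G), hNT y.2⟩,
          ⟨(y : (Q : Subgroup G)).2, hNT y.2⟩⟩, y.2⟩
        left_inv := fun x => rfl
        right_inv := fun y => rfl }
  have hPone : ∀ x : N'.subgroupOf E, θ ⟨((x : E) : T), x.2⟩ =
      if x = 1 then (deg (φ : N → ℂ) : ℂ) else 0 := by
    intro x
    split_ifs with h
    · subst h
      show (φ : N → ℂ) (eN 1) = _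
      rw [map_one]
      exact char_one_eq_deg hφc
    · refine hvan _ ?_
      obtain ⟨a, ha⟩ := IsPGroup.iff_orderOf.mp (hEp.to_subgroup (N'.subgroupOf E)) x
      have ho : orderOf (eN ⟨((x : E) : T), x.2⟩) = orderOf x := by
        rw [← orderOf_injective N.subtype N.subtype_injective,
          ← orderOf_injective (N'.subgroupOf E).subtype (Subgroup.subtype_injective _),
          ← orderOf_injective E.subtype E.subtype_injective,
          ← orderOf_injective T.subtype T.subtype_injective]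
        rfl
      rw [ho, ha]
      rcases a with _ | a
      · rw [pow_zero, orderOf_eq_one_iff] at ha
        exact absurd ha h
      · exact dvd_pow_self 2 a.succ_ne_zero
  have hmE : classInner (fun x : N'.subgroupOf E => θ ⟨((x : E) : T), x.2⟩) (fun _ => 1) =
      (m : ℂ) := by
    simp only [classInner, map_one, mul_one, hPone, Finset.sum_ite_eq', Finset.mem_univ, if_true]
    rw [hm, hPcard]
    push_cast
    field_simp
  obtain ⟨ψ, hψ, hψext, hψgood⟩ := exists_good N' E hEp htop hθ hinv hmodd hmE (by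
    obtain ⟨a, -, ha⟩ := (Nat.dvd_prime_pow Nat.prime_two).mp
      (hk2 ▸ Subgroup.relIndex_dvd_index_of_normal N T : N.relIndex T ∣ 2 ^ k2)
    exact ⟨a, ha⟩)
  -- the twisting automorphism
  let cq : T ≃* T :=
    { toFun := fun t => ⟨q * t * q⁻¹, hqT t t.2⟩
      invFun := fun t => ⟨q⁻¹ * t * q, hqT' t t.2⟩
      left_inv := fun t => Subtype.ext (by simp [mul_assoc])
      right_inv := fun t => Subtype.ext (by simp [mul_assoc])
      map_mul' := fun a b => Subtype.ext (by simp [mul_assoc]) }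
  have hQq : ∀ a : G, a ∈ (Q : Subgroup G) ↔ q * a * q⁻¹ ∈ (Q : Subgroup G) := fun a => by
    rw [Subgroup.mul_mem_cancel_right _ (inv_mem hqQ), Subgroup.mul_mem_cancel_left _ hqQ]
  have hcE : ∀ e : E, cq (e : T) ∈ E := fun e => ⟨(hQq _).mp e.2.1, hqT _ (e : T).2⟩
  have hcE' : ∀ e : E, cq.symm (e : T) ∈ E := fun e =>
    ⟨(hQq _).mpr (by
      show q * (q⁻¹ * ((e : T) : G) * q) * q⁻¹ ∈ (Q : Subgroup G)
      rw [show q * (q⁻¹ * ((e : T) : G) * q) * q⁻¹ = ((e : T) : G) by group]
      exact e.2.1), hqT' _ (e : T).2⟩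
  have hNq : ∀ x : T, x ∈ N' ↔ cq x ∈ N' := fun x => by
    simp only [hN', Subgroup.mem_subgroupOf]
    constructor
    · intro h
      exact (inferInstance : N.Normal).conj_mem _ h q
    · intro h
      have := (inferInstance : N.Normal).conj_mem _ h q⁻¹
      simpa [cq, mul_assoc] using this
  let σE : E →* E := (cq.toMonoidHom.comp E.subtype).codRestrict E hcE
  set ψ' : T → ℂ := fun t => conj (ψ (cq t)) with hψ'
  have hψ'irr : IsIrrCharacter T ψ' :=
    (irrConj (⟨_, isIrrCharacter_comp_equiv cq hψ⟩ : IrrCharacter T)).2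
  have hψ'ext : ∀ n : N', ψ' n = θ n := by
    intro n
    rw [hψ']
    show conj (ψ ((⟨cq n, (hNq n).mp n.2⟩ : N') : T)) = θ n
    rw [hψext]
    show conj ((φ : N → ℂ) _) = _
    rw [show eN (⟨cq n, (hNq n).mp n.2⟩ : N') = MulAut.conjNormal q (eN n) from Subtype.ext rfl,
      hq, Complex.conj_conj]
  have hfix : ∀ e : E, fixChar N' E ψ' e = conj (fixChar N' E ψ (σE e)) := by
    intro e
    simp only [fixChar, cosetAvg, map_mul, map_inv₀, Complex.conj_natCast, map_sum]
    congr 1
    refine Fintype.sum_equiv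
      { toFun := fun x : N'.subgroupOf E =>
          (⟨σE (x : E), (hNq _).mp x.2⟩ : N'.subgroupOf E)
        invFun := fun x : N'.subgroupOf E =>
          (⟨⟨cq.symm ((x : E) : T), hcE' _⟩, (hNq _).mpr (by
            show cq (cq.symm ((x : E) : T)) ∈ N'
            rw [MulEquiv.apply_symm_apply]; exact x.2)⟩ : N'.subgroupOf E)
        left_inv := fun x => Subtype.ext (Subtype.ext (cq.symm_apply_apply _))
        right_inv := fun x => Subtype.ext (Subtype.ext (cq.apply_symm_apply _)) } _ _ fun x => ?_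
    show conj (ψ (cq (((x : E) * e : E) : T))) = _
    congr 2
    rw [Subgroup.coe_mul, map_mul]
    rfl
  have hgood' : IsGood N' E ψ' := by
    intro e
    obtain ⟨ν, hν, hsν, hdν⟩ := exists_eig (isCharacter_fixChar N' E (irr_isCharacter hψ'irr))
      (fixChar_one N' E hψ'ext hmE) e
    obtain ⟨ν', hν', hsν', hdν'⟩ := exists_eig (isCharacter_fixChar N' E (irr_isCharacter hψ))
      (fixChar_one N' E hψext hmE) (σE e)
    rw [hdν, prod_congr_sums (n := Nat.card E) Nat.card_pos.ne' ν (fun i => conj (ν' i)) hν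
      (fun i => by rw [← map_pow, hν', map_one]) (fun k => by
        rw [← hsν k, hfix, map_pow, hsν' k, map_sum]
        simp), ← map_prod, ← hdν', hψgood, map_one]
  have hψq : ∀ t : T, ψ (cq t) = conj (ψ t) := by
    intro t
    have h := congrFun (good_unique N' E hEp htop hθ hinv hmodd hmE hψ hψ'irr hψext hψ'ext
      hψgood hgood') t
    rw [hψ'] at h
    simp only at h
    rw [← h, Complex.conj_conj]
  have hψqi : ∀ t : T, ψ (cq.symm t) = conj (ψ t) := fun t => by
    have h := hψq (cq.symm t)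
    rw [MulEquiv.apply_symm_apply] at h
    rw [h, Complex.conj_conj]
  -- induced to `G`
  have hI : ∀ x : G, x ∈ T ↔ irrComp (MulAut.conjNormal x) φ = φ := fun x =>
    ⟨fun h => Subtype.ext (funext h), fun h k => congrFun (congrArg Subtype.val h) k⟩
  have hψextN : ∀ n : N, ψ (Subgroup.inclusion hNT n) = (φ : N → ℂ) n := fun n => by
    rw [show (Subgroup.inclusion hNT n : T) = ((eN.symm n : N') : T) from rfl, hψext]
    exact congrArg (φ : N → ℂ) (eN.apply_symm_apply n)
  obtain ⟨hΨ, -, -, -⟩ := indFun_ext_facts N hNT hI hψ hψextN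
  -- the intermediate group
  set H := pairStab N (φ : N → ℂ) with hH
  haveI := Fintype.ofFinite ↥H
  have hTH : T ≤ H := fun x hx => Or.inl hx
  have hqH : q ∈ H := Or.inr hq
  have hHdec : ∀ x : G, x ∈ H → x ∈ T ∨ x * q⁻¹ ∈ T := by
    rintro x (hx | hx)
    · exact Or.inl hx
    · refine Or.inr fun k => ?_
      rw [map_mul, MulAut.mul_apply, hx, ← hq, ← MulAut.mul_apply, ← map_mul, mul_inv_cancel,
        map_one, MulAut.one_apply]
  haveI := Fintype.ofFinite ↥(T.subgroupOf H)
  set ψH : T.subgroupOf H → ℂ :=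
    fun x => ψ ⟨((x : H) : G), Subgroup.mem_subgroupOf.mp x.2⟩ with hψH
  have hψHc : IsCharacter ↥(T.subgroupOf H) ψH :=
    isCharacter_comp (Subgroup.subgroupOfEquivOfLe hTH).toMonoidHom (irr_isCharacter hψ)
  set χ := indFun (T.subgroupOf H) ψH with hχ
  have htr : indFun H χ = indFun T ψ := indFun_trans T H hTH ψ
  have hχirr : IsIrrCharacter H χ :=
    irr_of_indFun_irr H (isCharacter_indFun _ hψHc) (htr ▸ hΨ)
  -- values
  have hcardT : (Nat.card ↥(T.subgroupOf H) : ℂ) = (Nat.card T : ℂ) := by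
    rw [Nat.card_congr (Subgroup.subgroupOfEquivOfLe hTH).toEquiv]
  have hTn : ∀ (x : G), x ∈ H → ∀ t : G, (x⁻¹ * t * x ∈ T ↔ t ∈ T) := by
    intro x hx t
    rcases hHdec x hx with h | h
    · rw [Subgroup.mul_mem_cancel_right T h, Subgroup.mul_mem_cancel_left T (inv_mem h)]
    · have e : x⁻¹ * t * x = q⁻¹ * ((x * q⁻¹)⁻¹ * t * (x * q⁻¹)) * q := by group
      constructor
      · intro hh
        rw [e] at hh
        have h2 := hqT _ hh
        have h3 : (x * q⁻¹)⁻¹ * t * (x * q⁻¹) ∈ T := by simpa [mul_assoc] using h2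
        rwa [Subgroup.mul_mem_cancel_right T h, Subgroup.mul_mem_cancel_left T (inv_mem h)] at h3
      · intro ht
        rw [e]
        exact hqT' _ (mul_mem (mul_mem (inv_mem h) ht) h)
  have hχout : ∀ y : H, (y : G) ∉ T → χ y = 0 := by
    intro y hy
    simp only [hχ, indFun]
    rw [Finset.sum_eq_zero, mul_zero]
    intro x _
    refine extendByZero_not_mem _ _ fun h => hy ?_
    exact (hTn x x.2 y).mp h
  have hψcl := isClassFunction_character (irr_isCharacter hψ)
  have hχin : ∀ (y : H) (hy : (y : G) ∈ T),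
      χ y = if q ∈ T then ψ ⟨y, hy⟩ else ψ ⟨y, hy⟩ + conj (ψ ⟨y, hy⟩) := by
    intro y hy
    have hterm : ∀ x : H, extendByZero (T.subgroupOf H) ψH (x⁻¹ * y * x) =
        if (x : G) ∈ T then ψ ⟨y, hy⟩ else conj (ψ ⟨y, hy⟩) := by
      intro x
      have hm : (x : G)⁻¹ * y * x ∈ T := (hTn x x.2 y).mpr hy
      rw [extendByZero_mem _ _ (show x⁻¹ * y * x ∈ T.subgroupOf H from hm)]
      show ψ ⟨(x : G)⁻¹ * y * x, hm⟩ = _
      split_ifs with hx
      · rw [← hψcl ⟨y, hy⟩ (⟨(x : G), hx⟩ : T)⁻¹]
        congr 1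
        exact Subtype.ext (by simp)
      · have hxq := (hHdec x x.2).resolve_left hx
        rw [← hψcl ⟨y, hy⟩ (⟨_, hxq⟩ : T)⁻¹, ← hψqi]
        congr 1
        exact Subtype.ext (by simp [cq, mul_assoc])
    simp only [hχ, indFun, hterm, hcardT]
    rw [Finset.sum_ite, Finset.sum_const, Finset.sum_const]
    have hin : (Finset.univ.filter fun x : H => (x : G) ∈ T).card = Nat.card T := by
      rw [← Fintype.card_subtype, ← Nat.card_eq_fintype_card]
      exact Nat.card_congr (Subgroup.subgroupOfEquivOfLe hTH).toEquiv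
    rw [hin]
    have hT0 : (Nat.card T : ℂ) ≠ 0 := Nat.cast_ne_zero.mpr Nat.card_pos.ne'
    split_ifs with hqt
    · rw [Finset.filter_false_of_mem]
      · simp only [Finset.card_empty, zero_smul, add_zero, nsmul_eq_mul]
        field_simp
      · intro x _ hx
        rcases hHdec x x.2 with h | h
        · exact hx h
        · exact hx ((Subgroup.mul_mem_cancel_right T (inv_mem hqt)).mp h)
    · have hout : (Finset.univ.filter fun x : H => ¬ (x : G) ∈ T).card = Nat.card T := by
        rw [← hin]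
        refine Finset.card_bij (fun x _ => x * (⟨q, hqH⟩ : H)⁻¹) ?_
          (fun _ _ _ _ h => mul_right_cancel h) ?_
        · intro x hx
          simp only [Finset.mem_filter, Finset.mem_univ, true_and] at hx ⊢
          exact (hHdec x x.2).resolve_left hx
        · intro x hx
          simp only [Finset.mem_filter, Finset.mem_univ, true_and] at hx ⊢
          refine ⟨x * ⟨q, hqH⟩, fun h => hqt ((Subgroup.mul_mem_cancel_left T hx).mp h), by simp⟩
      rw [hout, nsmul_eq_mul, nsmul_eq_mul]
      field_simp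
  have hχreal : ∀ y : H, conj (χ y) = χ y := by
    intro y
    by_cases hy : (y : G) ∈ T
    · rw [hχin y hy]
      split_ifs with hqt
      · have h1 := hq1 hqt
        rw [← hψq]
        congr 1
        exact Subtype.ext (by simp [cq, h1])
      · rw [map_add, Complex.conj_conj, add_comm]
    · rw [hχout y hy, map_zero]
  -- the multiplicity
  let P : Subgroup H := ((Q : Subgroup G) ⊓ N).subgroupOf H
  haveI := Fintype.ofFinite ↥P
  have hPT : ∀ x : P, ((x : H) : G) ∈ T := fun x => hNT x.2.2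
  have hPnorm : ∀ x : H, x ∈ P ↔ (⟨q, hqH⟩ : H) * x * (⟨q, hqH⟩ : H)⁻¹ ∈ P := by
    intro x
    show (x : G) ∈ (Q : Subgroup G) ⊓ N ↔ q * (x : G) * q⁻¹ ∈ (Q : Subgroup G) ⊓ N
    simp only [Subgroup.mem_inf, ← hQq]
    refine and_congr_right fun _ => ⟨fun h => (inferInstance : N.Normal).conj_mem _ h q, fun h => ?_⟩
    have := (inferInstance : N.Normal).conj_mem _ h q⁻¹
    simpa [mul_assoc] using this
  have hsumP : ∀ e : E, ∀ he : (((e : T) : G)) ∈ H,
      ∑ x : P, ψ ⟨((x : H) : G) * ((e : T) : G), mul_mem (hPT x) (e : T).2⟩ =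
        (Nat.card P : ℂ) * fixChar N' E ψ e := by
    intro e _
    let eP : P ≃ N'.subgroupOf E :=
      { toFun := fun x => ⟨⟨⟨((x : H) : G), hPT x⟩, ⟨x.2.1, hPT x⟩⟩, x.2.2⟩
        invFun := fun y => ⟨⟨(((y : E) : T) : G), hTH ((y : E) : T).2⟩, ⟨(y : E).2.1, y.2⟩⟩
        left_inv := fun x => rfl
        right_inv := fun y => rfl }
    simp only [fixChar, cosetAvg]
    rw [Nat.card_congr eP, ← mul_assoc, mul_inv_cancel₀ (Nat.cast_ne_zero.mpr Nat.card_pos.ne'),
      one_mul]
    exact Fintype.sum_equiv eP _ _ fun x => congrArg ψ (Subtype.ext rfl)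
  have hr1 := fixChar_one N' E hψext hmE
  have hone : indicator2 χ = 1 := by
    by_cases hqt : q ∈ T
    · refine indicator_one_of_odd hχirr (fun y => Complex.conj_eq_iff_im.mp (hχreal y)) P 1
        (fun x => by simp) one_ne_zero (one_pow 1) (Or.inl rfl) (one_pow 1) hmodd ?_
      simp only [Finset.sum_range_one, pow_zero, mul_one, one_mul, Nat.cast_one]
      rw [← hr1, ← hsumP 1 (one_mem H)]
      refine Finset.sum_congr rfl fun x _ => ?_
      rw [hχin _ (hPT x), if_pos hqt]
      congr 1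
      exact Subtype.ext (by simp)
    · obtain ⟨a, ha⟩ := IsPGroup.iff_orderOf.mp Q.isPGroup' ⟨q, hqQ⟩
      rw [Subgroup.orderOf_mk] at ha
      have ha0 : a ≠ 0 := by
        rintro rfl
        rw [pow_zero, orderOf_eq_one_iff] at ha
        exact hqt (ha ▸ one_mem T)
      obtain ⟨a', rfl⟩ := Nat.exists_eq_succ_of_ne_zero ha0
      let e₁ : E := ⟨⟨q * q, hq2⟩, ⟨mul_mem hqQ hqQ, hq2⟩⟩
      obtain ⟨ν, hν, hsν, hdν⟩ := exists_eig
        (isCharacter_fixChar N' E (irr_isCharacter hψ)) hr1 e₁
      have hσ : σE e₁ = e₁ := Subtype.ext (Subtype.ext (by simp [σE, cq, e₁, mul_assoc]))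
      have hrc : ∀ e : E, fixChar N' E ψ e = conj (fixChar N' E ψ (σE e)) := fun e => by
        rw [← hfix]
        have : ψ' = ψ := good_unique N' E hEp htop hθ hinv hmodd hmE hψ hψ'irr hψext hψ'ext
          hψgood hgood'
        rw [this]
      have hreal : ∀ k, conj (∑ i, ν i ^ k) = ∑ i, ν i ^ k := fun k => by
        have h := hrc (e₁ ^ k)
        rw [map_pow, hσ] at h
        rw [← hsν k]
        exact h.symm
      have hodd := odd_count_one (n := Nat.card E) Nat.card_pos.ne' hmodd ν hν hreal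
        (hdν.symm.trans (hψgood e₁))
      refine indicator_one_of_odd hχirr (fun y => Complex.conj_eq_iff_im.mp (hχreal y)) P ⟨q, hqH⟩
        hPnorm (k := 2 * 2 ^ a') (by positivity) ?_ (Or.inr rfl) (by rw [pow_mul]; norm_num)
        hodd ?_
      · refine Subtype.ext ?_
        rw [SubgroupClass.coe_pow, OneMemClass.coe_one]
        show q ^ (2 * 2 ^ a') = 1
        rw [← pow_orderOf_eq_one q, ha]
        congr 1
        rw [Nat.succ_eq_add_one]
        ring
      · have hpow : ∀ i : ℕ, q ^ (2 * i) = ((((e₁ ^ i : E)) : T) : G) := fun i => by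
          rw [pow_mul, sq]
          simp [e₁]
        have hval : ∀ (x : P) (i : ℕ),
            χ ((x : H) * (⟨q, hqH⟩ : H) ^ (2 * i)) =
              ψ ⟨((x : H) : G) * (((e₁ ^ i : E) : T) : G),
                mul_mem (hPT x) ((e₁ ^ i : E) : T).2⟩ +
              conj (ψ ⟨((x : H) : G) * (((e₁ ^ i : E) : T) : G),
                mul_mem (hPT x) ((e₁ ^ i : E) : T).2⟩) := by
          intro x i
          have hmem : (((x : H) * (⟨q, hqH⟩ : H) ^ (2 * i) : H) : G) ∈ T := by
            show ((x : H) : G) * q ^ (2 * i) ∈ T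
            rw [hpow]
            exact mul_mem (hPT x) ((e₁ ^ i : E) : T).2
          rw [hχin _ hmem, if_neg hqt]
          have e : (⟨_, hmem⟩ : T) = ⟨((x : H) : G) * (((e₁ ^ i : E) : T) : G),
              mul_mem (hPT x) ((e₁ ^ i : E) : T).2⟩ :=
            Subtype.ext (by show ((x : H) : G) * q ^ (2 * i) = _; rw [hpow])
          rw [e]
        have hoddpow : ∀ (x : P) (i : ℕ), χ ((x : H) * (⟨q, hqH⟩ : H) ^ (2 * i + 1)) = 0 := by
          intro x i
          refine hχout _ fun h => hqt ?_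
          have h' : ((x : H) : G) * q ^ (2 * i + 1) ∈ T := h
          rw [pow_succ, hpow, ← mul_assoc, Subgroup.mul_mem_cancel_left T
            (mul_mem (hPT x) ((e₁ ^ i : E) : T).2)] at h'
          exact h'
        have hlen : ∀ i, (ν i) ^ (2 ^ a') = 1 := by
          intro i
          have he : e₁ ^ (2 ^ a') = 1 := Subtype.ext (Subtype.ext (by
            rw [← hpow, OneMemClass.coe_one, OneMemClass.coe_one, ← pow_orderOf_eq_one q, ha]
            congr 1
            rw [Nat.succ_eq_add_one]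
            ring))
          by_contra hne
          have hc := count_congr (n := Nat.card E) Nat.card_pos.ne' (fun i => ν i ^ (2 ^ a'))
            (fun _ : Fin m => (1 : ℂ))
            (fun i => by rw [← pow_mul, mul_comm, pow_mul, hν, one_pow]) (fun _ => one_pow _)
            (fun k => by
              have h := hsν (2 ^ a' * k)
              rw [pow_mul, he, one_pow, hr1] at h
              simp only [← pow_mul, one_pow, ← h]
              simp) (ν i ^ (2 ^ a'))
          have : (Finset.univ.filter fun j : Fin m => (1 : ℂ) = ν i ^ (2 ^ a')).card = 0 := by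
            simp [Ne.symm hne]
          rw [this, Finset.card_eq_zero] at hc
          exact (Finset.eq_empty_iff_forall_notMem.mp hc i) (by simp)
        rw [Finset.sum_comm, sum_range_two]
        simp only [hoddpow, hval, mul_zero, Finset.sum_const_zero, add_zero]
        simp only [show ∀ i : ℕ, (-1 : ℂ) ^ (2 * i) = 1 from fun i => by rw [pow_mul, neg_one_sq,
          one_pow], one_mul, Finset.sum_add_distrib]
        rw [show ∀ (f : ℕ → P → ℂ), (∑ i ∈ Finset.range (2 ^ a'), ∑ x : P, conj (f i x)) =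
            conj (∑ i ∈ Finset.range (2 ^ a'), ∑ x : P, f i x) from fun f => by simp [map_sum]]
        have hS : ∑ i ∈ Finset.range (2 ^ a'), ∑ x : P,
            ψ ⟨((x : H) : G) * (((e₁ ^ i : E) : T) : G), mul_mem (hPT x) ((e₁ ^ i : E) : T).2⟩ =
            (Nat.card P : ℂ) * ((2 ^ a' : ℕ) : ℂ) *
              ((Finset.univ.filter fun i => ν i = 1).card : ℂ) := by
          rw [Finset.sum_congr rfl fun i _ => (hsumP (e₁ ^ i) (hTH ((e₁ ^ i : E) : T).2)).trans
            (by rw [hsν i]), ← Finset.mul_sum,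
            count_eq (n := 2 ^ a') (by positivity) ν hlen (one_pow _)]
          simp only [map_one, one_pow, one_mul]
          push_cast
          field_simp
        rw [hS, map_mul, map_mul, Complex.conj_natCast, Complex.conj_natCast, Complex.conj_natCast]
        push_cast
        ring
  -- up to `G`
  refine ⟨⟨indFun T ψ, hΨ⟩, ?_, ?_⟩
  · show indicator2 (indFun T ψ) = 1
    rw [← htr]
    refine indicator_induced N H (hNT.trans hTH) hχirr hone (htr ▸ hΨ) fun x hx => ?_
    have hor : ∀ (α β : IrrCharacter N), irrComp (MulAut.conjNormal x) β ≠ irrConj α →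
        ∑ n : N, (α : N → ℂ) n * (β : N → ℂ) (MulAut.conjNormal x n) = 0 := by
      intro α β hne
      have h := irrC_orth (irrComp (MulAut.conjNormal x) β) (irrConj α)
      rw [if_neg hne, classInner, mul_eq_zero] at h
      rw [← h.resolve_left (inv_ne_zero (Nat.cast_ne_zero.mpr Nat.card_pos.ne'))]
      refine Finset.sum_congr rfl fun n _ => ?_
      rw [irrComp_apply, irrConj_apply, Complex.conj_conj, mul_comm]
    have hne1 : irrComp (MulAut.conjNormal x) φ ≠ φ := fun h => hx (hTH ((hI x).mpr h))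
    have hne2 : irrComp (MulAut.conjNormal x) φ ≠ irrConj φ := fun h => hx (Or.inr fun k => by
      have := congrFun (congrArg Subtype.val h) k
      simpa [irrComp_apply, irrConj_apply] using this)
    have hc : ∀ β : IrrCharacter N,
        irrComp (MulAut.conjNormal x) (irrConj β) = irrConj (irrComp (MulAut.conjNormal x) β) :=
      fun β => Subtype.ext (funext fun n => by simp [irrComp_apply, irrConj_apply])
    have hcc : ∀ β : IrrCharacter N, irrConj (irrConj β) = β :=
      fun β => Subtype.ext (funext fun n => by simp [irrConj_apply])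
    have hval : ∀ n : N, χ (Subgroup.inclusion (hNT.trans hTH) n) =
        if q ∈ T then (φ : N → ℂ) n else (φ : N → ℂ) n + (irrConj φ : N → ℂ) n := fun n => by
      rw [hχin _ (hNT n.2), irrConj_apply]
      simp only [← hψextN]
      rfl
    simp only [hval]
    split_ifs
    · exact hor φ φ hne2
    · simp only [add_mul, mul_add, Finset.sum_add_distrib]
      rw [hor φ φ hne2, hor φ (irrConj φ) (fun h => hne1 ?_),
        hor (irrConj φ) φ (by rw [hcc]; exact hne1),
        hor (irrConj φ) (irrConj φ) (fun h => hne2 ?_)]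
      · simp
      · rw [hc, hcc] at h
        rw [← hcc (irrComp (MulAut.conjNormal x) φ), h]
      · rw [hc] at h
        rw [← hcc (irrComp (MulAut.conjNormal x) φ), h, hcc]
  · show classInner (fun n : N => indFun T ψ n) (φ : N → ℂ) = 1
    have he : ∀ (n : N) (y : G), extendByZero T ψ (y⁻¹ * (n : G) * y) =
        (irrComp (MulAut.conjNormal y⁻¹) φ : N → ℂ) n := fun n y => by
      have hmem : y⁻¹ * (n : G) * y = ((MulAut.conjNormal y⁻¹ n : N) : G) := by
        rw [MulAut.conjNormal_apply, inv_inv]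
      rw [hmem, extendByZero_mem T ψ (hNT (MulAut.conjNormal y⁻¹ n).2), irrComp_apply, ← hψextN]
      rfl
    have hfun : (fun n : N => indFun T ψ n) = (Nat.card T : ℂ)⁻¹ •
        ∑ y : G, (irrComp (MulAut.conjNormal y⁻¹) φ : N → ℂ) := funext fun n => by
      simp only [indFun, he, Pi.smul_apply, Finset.sum_apply, smul_eq_mul]
    rw [hfun, classInner_smul_left, classInner_sum_left,
      Finset.sum_congr rfl fun y _ => irrC_orth _ φ, Finset.sum_boole,
      show (Finset.univ.filter fun y : G => irrComp (MulAut.conjNormal y⁻¹) φ = φ).card =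
        Nat.card T from ?_]
    · exact inv_mul_cancel₀ (Nat.cast_ne_zero.mpr Nat.card_pos.ne')
    · rw [Nat.card_eq_fintype_card, ← Finset.card_univ]
      refine Finset.card_bij'
        (fun y hy => (⟨y, inv_mem_iff.mp ((hI y⁻¹).mpr (Finset.mem_filter.mp hy).2)⟩ : T))
        (fun t _ => (t : G)) (fun _ _ => Finset.mem_univ _) ?_ (fun _ _ => rfl) (fun _ _ => rfl)
      intro t _
      exact Finset.mem_filter.mpr ⟨Finset.mem_univ _, (hI _).mp (inv_mem t.2)⟩

end Main

end Cfsg.Agent.Char.RealZero
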