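import Cfsg.Agent.Lib.Char.Coprime
import Cfsg.Agent.Lib.Char.GaloisConj
import Cfsg.Agent.Lib.Char.FongReynolds
import Cfsg.Agent.Lib.Char.GlaubermanOver
import Cfsg.Agent.Lib.Char.KerPPrime
import Cfsg.Agent.Lib.Char.SylowNormalizes
import Cfsg.Agent.Lib.Char.Zeros

/-!
# Elementary abelianization of a Sylow 2-subgroup from a normal subgroup
-/

set_option autoImplicit false
set_option linter.unusedSectionVars false
set_option linter.style.haveILetI false

namespace Cfsg.Agent.Char

open Cfsg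
open scoped ComplexConjugate

universe u

variable {G : Type u} [Group G] [Fintype G]

open scoped Classical in
theorem odd_filter_of_sum {ι : Type*} [Fintype ι] (w : ι → ℕ) (h : Odd (∑ i, w i)) :
    Odd (Finset.univ.filter fun i => Odd (w i)).card := by
  have := (Finset.odd_sum_iff_odd_card_odd (s := Finset.univ) w).mp h
  convert this

/-- An involution of a set of odd size fixes a point. -/
theorem exists_fixed_of_involution {α : Type*} [Fintype α] (f : α → α) (hf : ∀ a, f (f a) = a)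
    (hodd : Odd (Fintype.card α)) : Odd (Nat.card {a : α // f a = a}) := by
  classical
  have h := Equiv.Perm.card_fixedPoints_modEq (α := α) (f := (f : Function.End α)) (p := 2) (n := 1)
    (hp := ⟨Nat.prime_two⟩) (funext fun a => hf a)
  rw [Nat.card_eq_fintype_card]
  have e : Fintype.card (Function.fixedPoints f) = Fintype.card {a : α // f a = a} :=
    Fintype.card_congr (Equiv.subtypeEquivRight fun a => Iff.rfl)
  rw [Nat.odd_iff] at hodd ⊢
  rw [← e]
  rw [Nat.ModEq] at h
  rw [← h]; exact hodd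

theorem exists_pow_inverting (n : ℕ) (hn : n ≠ 0) :
    ∃ k : ℕ, k.Coprime n ∧ Odd k ∧ (∀ m, m ∣ n → Odd m → k ≡ 1 [MOD m]) ∧
      ∀ a, 2 ^ a ∣ n → 2 ^ a ∣ k + 1 := by
  set A := 2 * ordProj[2] n with hA
  set B := ordCompl[2] n with hB
  have hcop : A.Coprime B := Nat.Coprime.mul_left (Nat.coprime_ordCompl Nat.prime_two hn)
    ((Nat.coprime_ordCompl Nat.prime_two hn).pow_left _)
  have hA0 : 2 ≤ A := by
    have : 0 < ordProj[2] n := Nat.ordProj_pos n 2
    rw [hA]; omega
  obtain ⟨k, hk1, hk2⟩ := Nat.chineseRemainder hcop (A - 1) 1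
  have hkA : A ∣ k + 1 := by
    have h1 : k + 1 ≡ A - 1 + 1 [MOD A] := hk1.add_right 1
    rw [Nat.sub_add_cancel (by omega)] at h1
    exact Nat.modEq_zero_iff_dvd.mp (h1.trans (Nat.modEq_zero_iff_dvd.mpr dvd_rfl))
  have hodd : Odd k := by
    rw [Nat.odd_iff]
    have : 2 ∣ k + 1 := (dvd_mul_right 2 _).trans hkA
    omega
  have hB1 : k.Coprime B := Nat.coprime_of_mul_modEq_one 1 (by rw [mul_one]; exact hk2)
  refine ⟨k, ?_, hodd, fun m hm hmo => hk2.of_dvd ?_, fun a ha => ?_⟩
  · rw [← Nat.ordProj_mul_ordCompl_eq_self n 2]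
    exact ((Nat.coprime_two_right.mpr hodd).pow_right _).mul_right hB1
  · refine (Nat.Coprime.dvd_of_dvd_mul_left ?_ (by rw [Nat.ordProj_mul_ordCompl_eq_self]; exact hm))
    exact (Nat.coprime_two_right.mpr hmo).pow_right _
  · refine ((Nat.pow_dvd_pow 2 ?_).trans (dvd_mul_left _ 2)).trans hkA
    exact (Nat.prime_two.pow_dvd_iff_le_factorization hn).mp ha

open scoped Classical in
theorem exists_linear_fixed (N : Subgroup G) [N.Normal] [Fintype N] (P : Subgroup G)
    (hPp : IsPGroup 2 P) (hPi : ¬ 2 ∣ P.index)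
    (hidx : ∃ a, N.index = 2 ^ a) (hab : Odd (Nat.card (Abelianization N)))
    (lam : P →* ℂˣ)
    (hlam : ∀ x : P, (x : G) ∈ N → lam x ^ 2 = 1) :
    ∃ lam' : P →* ℂˣ, (∀ x, lam' x ^ 2 = 1) ∧
      ∀ x : P, (x : G) ∈ N → lam' x = lam x := by
  haveI : Fact (Nat.Prime 2) := ⟨Nat.prime_two⟩
  haveI := Fintype.ofFinite P
  set R := P.subgroupOf N with hR
  haveI := Fintype.ofFinite R
  set μ₀ : R →* ℂˣ :=
    { toFun := fun r => lam ⟨((r : N) : G), r.2⟩
      map_one' := map_one lam
      map_mul' := fun a b => map_mul lam ⟨((a : N) : G), a.2⟩ ⟨((b : N) : G), b.2⟩ } with hμ₀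
  set μ : R → ℂ := fun r => (μ₀ r : ℂ) with hμ
  have hμ2 : ∀ r : R, μ₀ r ^ 2 = 1 := fun r => hlam ⟨((r : N) : G), r.2⟩ (r : N).2
  set F : N → ℂ := indFun R μ with hF
  have hFc : IsCharacter N F := isCharacter_indFun R (isCharacter_linear μ₀)
  obtain ⟨c, hc⟩ := exists_decomposition hFc
  have hcc := decomposition_coeff c hc
  have hRodd : Odd R.index := by
    rw [← Nat.not_even_iff_odd, even_iff_two_dvd]
    exact fun h => hPi (h.trans (relIndex_dvd_index P N))
  -- odd total
  have htot : Odd (∑ θ : IrrCharacter N, c θ * deg (θ : N → ℂ)) := by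
    have h := congrFun hc 1
    rw [hF, indFun_one, show μ 1 = 1 by simp [hμ], mul_one, Finset.sum_apply] at h
    simp only [Pi.smul_apply, nsmul_eq_mul] at h
    rw [Finset.sum_congr rfl fun θ _ => by rw [char_one_eq_deg (irr_isCharacter θ.2), ← Nat.cast_mul],
      ← Nat.cast_sum, Nat.cast_inj] at h
    rwa [← h]
  obtain ⟨k, hk, hkodd, hk1, hk2⟩ := exists_pow_inverting (Nat.card G) Nat.card_pos.ne'
  have hkN : k.Coprime (Nat.card N) := hk.coprime_dvd_right (Subgroup.card_subgroup_dvd_card N)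
  have hkk : ∀ g : G, (g ^ k) ^ k = g := fun g => by
    rw [← pow_mul]
    conv_rhs => rw [← pow_one g]
    rw [pow_eq_pow_iff_modEq]
    refine Nat.ModEq.of_dvd (orderOf_dvd_natCard g) ?_
    rw [← Nat.ordProj_mul_ordCompl_eq_self (Nat.card G) 2,
      ← Nat.modEq_and_modEq_iff_modEq_mul
        ((Nat.coprime_ordCompl Nat.prime_two Nat.card_pos.ne').pow_left _)]
    constructor
    · have h1 := hk2 _ (Nat.ordProj_dvd (Nat.card G) 2)
      have h2 : (((k * k : ℕ) : ℤ)) ≡ ((1 : ℕ) : ℤ) [ZMOD ((ordProj[2] (Nat.card G) : ℕ) : ℤ)] := by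
        obtain ⟨t, ht⟩ := h1
        have ht' : (k : ℤ) + 1 = ((ordProj[2] (Nat.card G) : ℕ) : ℤ) * t := by exact_mod_cast ht
        refine (Int.modEq_iff_dvd.mpr ⟨-((t : ℤ) * (k - 1)), ?_⟩)
        push_cast at ht' ⊢
        linear_combination (1 - (k : ℤ)) * ht'
      exact Int.natCast_modEq_iff.mp h2
    · have h1 := hk1 _ (Nat.ordCompl_dvd (Nat.card G) 2) (by
        rw [← Nat.not_even_iff_odd, even_iff_two_dvd]
        exact Nat.not_dvd_ordCompl Nat.prime_two Nat.card_pos.ne')
      simpa using h1.mul h1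
  -- the Galois involution and the conjugation action on characters of `N`
  set σ : IrrCharacter N → IrrCharacter N := fun θ =>
    ⟨_, isIrrCharacter_pow θ.2 hkN⟩ with hσ
  have hσσ : ∀ θ, σ (σ θ) = θ := fun θ => Subtype.ext (funext fun n => by
    show (θ : N → ℂ) ((n ^ k) ^ k) = _
    exact congrArg _ (Subtype.ext (by simp [hkk])))
  have hFk : ∀ n : N, F (n ^ k) = F n := fun n => by
    simp only [hF, indFun]
    congr 1
    refine Finset.sum_congr rfl fun y _ => ?_
    have e : y⁻¹ * n ^ k * y = (y⁻¹ * n * y) ^ k := by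
      have := (MulAut.conj y⁻¹).toMonoidHom.map_pow n k
      simpa [MulAut.conj_apply] using this
    rw [e]
    by_cases hm : y⁻¹ * n * y ∈ R
    · rw [extendByZero_mem R μ (R.pow_mem hm k), extendByZero_mem R μ hm]
      show (μ₀ ⟨_, R.pow_mem hm k⟩ : ℂ) = μ₀ ⟨_, hm⟩
      rw [show (⟨(y⁻¹ * n * y) ^ k, R.pow_mem hm k⟩ : R) = ⟨_, hm⟩ ^ k from rfl, map_pow]
      obtain ⟨t, rfl⟩ := hkodd
      rw [pow_succ, pow_mul, hμ2, one_pow, one_mul]
    · rw [extendByZero_not_mem R μ hm, extendByZero_not_mem R μ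
        (fun h => hm ((pow_coprime_mem_iff R hkN _).mp h))]
  have hFconj : ∀ (x : P) (n : N), F (MulAut.conjNormal (x : G) n) = F n := fun x n => by
    simp only [hF, indFun]
    congr 1
    refine (Fintype.sum_equiv (MulAut.conjNormal (x : G) : MulAut N).toEquiv _ _ fun y => ?_).symm
    show _ = extendByZero R μ ((MulAut.conjNormal (x : G) y)⁻¹ * MulAut.conjNormal (x : G) n *
      MulAut.conjNormal (x : G) y)
    rw [← map_inv, ← map_mul, ← map_mul]
    set m := y⁻¹ * n * y
    have hiff : (MulAut.conjNormal (x : G) m : N) ∈ R ↔ m ∈ R := by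
      simp only [hR, Subgroup.mem_subgroupOf, MulAut.conjNormal_apply]
      rw [Subgroup.mul_mem_cancel_right P (P.inv_mem x.2), Subgroup.mul_mem_cancel_left P x.2]
    by_cases hm : m ∈ R
    · rw [extendByZero_mem R μ hm, extendByZero_mem R μ (hiff.mpr hm)]
      have hmG : (m : G) ∈ P := hm
      have hxG : ((MulAut.conjNormal (x : G) m : N) : G) ∈ P := hiff.mpr hm
      show (lam (⟨(m : G), hmG⟩ : P) : ℂ) =
        lam (⟨((MulAut.conjNormal (x : G) m : N) : G), hxG⟩ : P)
      have e : (⟨((MulAut.conjNormal (x : G) m : N) : G), hxG⟩ : P) = x * ⟨(m : G), hmG⟩ * x⁻¹ :=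
        Subtype.ext (MulAut.conjNormal_apply _ _)
      rw [e, map_mul, map_mul, map_inv, mul_comm (lam x), mul_inv_cancel_right]
    · rw [extendByZero_not_mem R μ hm, extendByZero_not_mem R μ fun h => hm (hiff.mp h)]
  have hcσ : ∀ θ, c (σ θ) = c θ := fun θ => by
    have h1 := hcc (σ θ)
    have h2 : classInner F (σ θ : N → ℂ) = classInner F (θ : N → ℂ) := by
      simp only [classInner]
      congr 1
      exact Fintype.sum_equiv (powCoprime hkN.symm) _ _ fun n => by
        show F n * conj ((θ : N → ℂ) (n ^ k)) = F (n ^ k) * conj ((θ : N → ℂ) (n ^ k))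
        rw [hFk]
    rw [h2, hcc θ] at h1
    exact_mod_cast h1.symm
  have hcP : ∀ (x : P) (θ : IrrCharacter N), c (irrComp (MulAut.conjNormal (x : G)) θ) = c θ := fun x θ => by
    have h1 := hcc (irrComp (MulAut.conjNormal (x : G)) θ)
    have h2 : classInner F (irrComp (MulAut.conjNormal (x : G)) θ : N → ℂ) =
        classInner F (θ : N → ℂ) := by
      simp only [classInner]
      congr 1
      exact Fintype.sum_equiv (MulAut.conjNormal (x : G) : MulAut N).toEquiv _ _ fun n => by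
        rw [irrComp_apply]
        show F n * _ = F (MulAut.conjNormal (x : G) n) * _
        rw [hFconj]
        rfl
    rw [h2, hcc θ] at h1
    exact_mod_cast h1.symm
  have hdσ : ∀ θ, deg (σ θ : N → ℂ) = deg (θ : N → ℂ) := fun θ => by simp [hσ, deg]
  have hdP : ∀ (x : G) (θ : IrrCharacter N), deg (irrComp (MulAut.conjNormal x) θ : N → ℂ) = deg (θ : N → ℂ) :=
    fun x θ => by simp only [deg, irrComp_apply, map_one]
  let W := {θ : IrrCharacter N // Odd (c θ * deg (θ : N → ℂ))}
  have hWodd : Odd (Fintype.card W) := by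
    rw [Fintype.card_subtype]; exact odd_filter_of_sum _ htot
  have hfix1 := exists_fixed_of_involution
    (fun w : W => (⟨σ w.1, by rw [hcσ, hdσ]; exact w.2⟩ : W))
    (fun w => Subtype.ext (hσσ w.1)) hWodd
  let W₀ := {θ : IrrCharacter N // Odd (c θ * deg (θ : N → ℂ)) ∧ σ θ = θ}
  have hW₀ : Odd (Nat.card W₀) := by
    have e : W₀ ≃ {w : W // (⟨σ w.1, by rw [hcσ, hdσ]; exact w.2⟩ : W) = w} :=
      { toFun := fun w => ⟨⟨w.1, w.2.1⟩, Subtype.ext w.2.2⟩
        invFun := fun w => ⟨w.1.1, w.1.2, congrArg Subtype.val w.2⟩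
        left_inv := fun w => rfl
        right_inv := fun w => rfl }
    rw [Nat.card_congr e]; exact hfix1
  have hcomm : ∀ (x : G) (θ : IrrCharacter N), σ θ = θ →
      σ (irrComp (MulAut.conjNormal x) θ) = irrComp (MulAut.conjNormal x) θ := fun x θ h => by
    refine Subtype.ext (funext fun n => ?_)
    show (irrComp (MulAut.conjNormal x) θ : N → ℂ) (n ^ k) = _
    rw [irrComp_apply, irrComp_apply, map_pow]
    exact congrFun (congrArg Subtype.val h) _
  letI : MulAction P W₀ :=
    { smul := fun x w => ⟨irrComp (MulAut.conjNormal ((x : G)⁻¹)) w.1,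
        by rw [hdP]; exact (hcP x⁻¹ w.1).symm ▸ w.2.1, hcomm _ _ w.2.2⟩
      one_smul := fun w => Subtype.ext (Subtype.ext (funext fun n => by
        show (irrComp (MulAut.conjNormal (((1 : P) : G))⁻¹) w.1 : N → ℂ) n = _
        rw [irrComp_apply]; simp))
      mul_smul := fun a b w => Subtype.ext (Subtype.ext (funext fun n => by
        show (irrComp (MulAut.conjNormal (((a * b : P) : G))⁻¹) w.1 : N → ℂ) n =
          (irrComp (MulAut.conjNormal ((a : G))⁻¹) (irrComp (MulAut.conjNormal ((b : G))⁻¹) w.1) :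
            N → ℂ) n
        simp only [irrComp_apply, Subgroup.coe_mul, mul_inv_rev, map_mul, MulAut.mul_apply])) }
  obtain ⟨⟨θ, hθodd, hθσ⟩, hθP⟩ := hPp.nonempty_fixed_point_of_prime_not_dvd_card W₀
    (fun h => Nat.not_even_iff_odd.mpr hW₀ (even_iff_two_dvd.mpr h))
  have hθd : Odd (deg (θ : N → ℂ)) := (Nat.odd_mul.mp hθodd).2
  have hθc : Odd (c θ) := (Nat.odd_mul.mp hθodd).1
  have hθk : ∀ n : N, (θ : N → ℂ) (n ^ k) = (θ : N → ℂ) n := fun n =>
    congrFun (congrArg Subtype.val hθσ) n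
  have hθinv : ∀ (g : G) (n : N), (θ : N → ℂ) (MulAut.conjNormal g n) = (θ : N → ℂ) n := by
    have htop : N ⊔ P = ⊤ := by
      rw [← Subgroup.index_eq_one]
      obtain ⟨a, ha⟩ := hidx
      refine Nat.eq_one_of_dvd_coprimes
        (((Nat.prime_two.coprime_iff_not_dvd).mpr hPi).pow_left a) ?_
        (Subgroup.index_dvd_of_le le_sup_right)
      exact ha ▸ Subgroup.index_dvd_of_le le_sup_left
    intro g n
    have hg : g ∈ ((N ⊔ P : Subgroup G) : Set G) := htop ▸ Subgroup.mem_top g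
    rw [Subgroup.normal_mul] at hg
    obtain ⟨a, ha, x, hx, rfl⟩ := hg
    rw [map_mul, MulAut.mul_apply]
    set m := MulAut.conjNormal x n
    have e : (MulAut.conjNormal a m : N) = (⟨a, ha⟩ : N) * m * (⟨a, ha⟩ : N)⁻¹ :=
      Subtype.ext (by simp [MulAut.conjNormal_apply])
    rw [e, isClassFunction_character (irr_isCharacter θ.2)]
    have h := congrArg Subtype.val (hθP (⟨x, hx⟩⁻¹ : P))
    have h' : (irrComp (MulAut.conjNormal (((⟨x, hx⟩⁻¹ : P) : G))⁻¹) θ : N → ℂ) n = (θ : N → ℂ) n :=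
      congrFun (congrArg Subtype.val h) n
    rwa [irrComp_apply, InvMemClass.coe_inv, inv_inv] at h'
  -- the extension of odd determinantal order
  obtain ⟨d, ρ, hρ⟩ := irr_isCharacter θ.2
  have hdet : ∀ n : N, (detHom ρ n : ℂ) = detChar (θ : N → ℂ) n := fun n => by
    rw [detChar_eq_hom ρ hρ]
  have hdetinv : ∀ (g : G) (n : N), detHom ρ (MulAut.conjNormal g n) = detHom ρ n := fun g n =>
    Units.ext (by rw [hdet, hdet, detChar_conj_inv N (irr_isCharacter θ.2) hθinv])
  have hodet : Odd (orderOf (detHom ρ)) := hab.of_dvd_nat (orderOf_dvd_of_pow_eq_one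
    (MonoidHom.ext fun n => by
      rw [MonoidHom.pow_apply, MonoidHom.one_apply, ← Abelianization.lift_apply_of (detHom ρ) n,
        ← map_pow, pow_card_eq_one', map_one]))
  have hcopdet : N.index.Coprime (orderOf (detHom ρ)) := by
    obtain ⟨a, ha⟩ := hidx
    rw [ha]; exact ((Nat.coprime_two_left.mpr hodet).pow_left a)
  have hcopd : N.index.Coprime (deg (θ : N → ℂ)) := by
    obtain ⟨a, ha⟩ := hidx
    rw [ha]; exact ((Nat.coprime_two_left.mpr hθd).pow_left a)
  obtain ⟨ν, hν, hνo⟩ := exists_linear_extension_coprime N (detHom ρ) hdetinv hcopdet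
  have hθ1 := char_one_eq_deg (irr_isCharacter θ.2)
  have hνθ : ∀ n : N, (ν (n : G) : ℂ) = detChar (θ : N → ℂ) n := fun n => by rw [hν, hdet]
  obtain ⟨η₀, hη₀, hη₀e⟩ := exists_extension_of_det_extension N θ.2 hθinv _ hθ1 hcopd ν hνθ
  obtain ⟨η, ⟨hη, hηe, hηdet⟩, huniq⟩ :=
    existsUnique_extension_det N θ.2 _ hθ1 hcopd hη₀ hη₀e ν hνθ
  have hηk : ∀ g : G, η (g ^ k) = η g := by
    have h := huniq (fun g => η (g ^ k)) ⟨isIrrCharacter_pow hη hk, fun n => by
      show η ((n : G) ^ k) = _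
      rw [← Subgroup.coe_pow, hηe, hθk], by
      rw [detChar_pow (irr_isCharacter hη) hk, hηdet]
      funext g
      rw [← Units.val_pow_eq_pow_val, ← MonoidHom.pow_apply]
      congr 2
      conv_rhs => rw [← pow_one ν]
      rw [pow_eq_pow_iff_modEq]
      have hd : orderOf ν ∣ Nat.card G := orderOf_dvd_of_pow_eq_one (MonoidHom.ext fun g => by
        rw [MonoidHom.pow_apply, MonoidHom.one_apply, ← map_pow, pow_card_eq_one', map_one])
      exact hk1 _ hd (hνo ▸ hodet)⟩
    exact fun g => congrFun h g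
  -- on the Sylow subgroup
  set Q := N.subgroupOf P with hQ
  haveI : Q.Normal := Subgroup.Normal.comap inferInstance _
  haveI := Fintype.ofFinite Q
  let e : R ≃* Q :=
    { toFun := fun r => ⟨⟨((r : N) : G), r.2⟩, (r : N).2⟩
      invFun := fun q => ⟨⟨((q : P) : G), q.2⟩, (q : P).2⟩
      left_inv := fun r => rfl
      right_inv := fun q => rfl
      map_mul' := fun a b => rfl }
  set μP : IrrCharacter Q := ⟨fun q => (lam (q : P) : ℂ),
    isIrrCharacter_linear (lam.comp Q.subtype)⟩ with hμP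
  obtain ⟨m, hm⟩ := exists_decomposition (isCharacter_comp P.subtype (irr_isCharacter hη))
  have hmc := decomposition_coeff m hm
  choose d' hd' using fun ξ : IrrCharacter P => classInner_natCast
    (isCharacter_comp Q.subtype (irr_isCharacter ξ.2)) (irr_isCharacter μP.2)
  have hsumd : ∑ ξ : IrrCharacter P, m ξ * d' ξ = c θ := by
    have h1 : classInner (fun q : Q => η ((q : P) : G)) (μP : Q → ℂ) =
        ((∑ ξ : IrrCharacter P, m ξ * d' ξ : ℕ) : ℂ) := by
      rw [show (fun q : Q => η ((q : P) : G)) =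
          ∑ ξ : IrrCharacter P, (m ξ : ℂ) • ((ξ : P → ℂ) ∘ Q.subtype) from funext fun q => by
        have := congrFun hm (q : P)
        simp only [Finset.sum_apply, Pi.smul_apply, nsmul_eq_mul, smul_eq_mul] at this ⊢
        exact this, classInner_sum_left]
      push_cast
      exact Finset.sum_congr rfl fun ξ _ => by rw [classInner_smul_left, hd']
    have h2 : classInner (fun q : Q => η ((q : P) : G)) (μP : Q → ℂ) = (c θ : ℂ) := by
      rw [← hcc θ, hF, frobenius R μ (isClassFunction_character (irr_isCharacter θ.2))]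
      obtain ⟨z, hz⟩ := classInner_natCast (isCharacter_comp R.subtype (irr_isCharacter θ.2))
        (isCharacter_linear μ₀)
      rw [← classInner_symm (fun r : R => (θ : N → ℂ) r) μ,
        show classInner (fun r : R => (θ : N → ℂ) r) μ = (z : ℂ) from hz, map_natCast,
        ← show classInner (fun r : R => (θ : N → ℂ) r) μ = (z : ℂ) from hz]
      simp only [classInner, Nat.card_congr e.toEquiv]
      congr 1
      refine (Fintype.sum_equiv e.toEquiv _ _ fun r => ?_).symm
      show (θ : N → ℂ) (r : N) * conj (μ r) = η (((r : N) : G)) * conj (lam ⟨((r : N) : G), r.2⟩ : ℂ)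
      rw [hηe]
      rfl
    exact_mod_cast h1.symm.trans h2
  let T := {ξ : IrrCharacter P // Odd (m ξ * d' ξ)}
  have hTodd : Odd (Fintype.card T) := by
    rw [Fintype.card_subtype]; exact odd_filter_of_sum _ (hsumd ▸ hθc)
  have hkP : k.Coprime (Nat.card P) := hk.coprime_dvd_right (Subgroup.card_subgroup_dvd_card P)
  set τ : IrrCharacter P → IrrCharacter P := fun ξ => ⟨_, isIrrCharacter_pow ξ.2 hkP⟩ with hτ
  have hmτ : ∀ ξ, m (τ ξ) = m ξ := fun ξ => by
    have h1 := hmc (τ ξ)
    have h2 : classInner (η ∘ P.subtype) (τ ξ : P → ℂ) = classInner (η ∘ P.subtype) (ξ : P → ℂ) := by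
      simp only [classInner]
      congr 1
      exact Fintype.sum_equiv (powCoprime hkP.symm) _ _ fun x => by
        show η (x : G) * conj ((ξ : P → ℂ) (x ^ k)) = η ((x ^ k : P) : G) * conj ((ξ : P → ℂ) (x ^ k))
        rw [Subgroup.coe_pow, hηk]
    rw [h2, hmc ξ] at h1
    exact_mod_cast h1.symm
  have hdτ : ∀ ξ, d' (τ ξ) = d' ξ := fun ξ => by
    have h1 := hd' (τ ξ)
    have hkQ : k.Coprime (Nat.card Q) := hkP.coprime_dvd_right (Subgroup.card_subgroup_dvd_card Q)
    have h2 : classInner ((τ ξ : P → ℂ) ∘ Q.subtype) (μP : Q → ℂ) =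
        classInner ((ξ : P → ℂ) ∘ Q.subtype) (μP : Q → ℂ) := by
      simp only [classInner]
      congr 1
      exact Fintype.sum_equiv (powCoprime hkQ.symm) _ _ fun q => by
        show (ξ : P → ℂ) ((q : P) ^ k) * conj (lam (q : P) : ℂ) =
          (ξ : P → ℂ) ((q : P) ^ k) * conj (lam ((q : P) ^ k) : ℂ)
        rw [map_pow]
        congr 3
        obtain ⟨t, rfl⟩ := hkodd
        rw [pow_succ, pow_mul, hlam (q : P) q.2, one_pow, one_mul]
    rw [h2, hd' ξ] at h1
    exact_mod_cast h1.symm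
  have hinvk : ∀ x : P, x ^ k = x⁻¹ := fun x => by
    refine eq_inv_of_mul_eq_one_left ?_
    rw [← pow_succ, ← orderOf_dvd_iff_pow_eq_one]
    obtain ⟨a, ha⟩ := IsPGroup.iff_orderOf.mp hPp x
    rw [ha]
    exact hk2 a (by rw [← ha, ← Subgroup.orderOf_coe]; exact orderOf_dvd_natCard _)
  have hττ : ∀ ξ, τ (τ ξ) = ξ := fun ξ => Subtype.ext (funext fun x => by
    show (ξ : P → ℂ) ((x ^ k) ^ k) = _
    rw [hinvk, hinvk, inv_inv])
  have hTfix := exists_fixed_of_involution
    (fun w : T => (⟨τ w.1, by rw [hmτ, hdτ]; exact w.2⟩ : T))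
    (fun w => Subtype.ext (hττ w.1)) hTodd
  obtain ⟨⟨⟨ξ, hξodd⟩, hξτ⟩⟩ := (Nat.card_pos_iff.mp hTfix.pos).1
  have hξd : Odd (d' ξ) := (Nat.odd_mul.mp hξodd).2
  have hne : classInner (fun q : Q => (ξ : P → ℂ) q) (μP : Q → ℂ) ≠ 0 := by
    rw [show classInner (fun q : Q => (ξ : P → ℂ) q) (μP : Q → ℂ) = (d' ξ : ℂ) from hd' ξ,
      Nat.cast_ne_zero]
    exact fun h0 => by rw [h0] at hξd; exact absurd hξd (by decide)
  have horb : cliffOrbit Q μP = {μP} := by
    ext ψ
    rw [Finset.mem_singleton, mem_cliffOrbit]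
    refine ⟨?_, fun h => ⟨1, by rw [h]; exact irrComp_conj_one _⟩⟩
    rintro ⟨x, rfl⟩
    refine Subtype.ext (funext fun q => ?_)
    rw [irrComp_apply]
    show (lam ((MulAut.conjNormal x q : Q) : P) : ℂ) = lam (q : P)
    rw [MulAut.conjNormal_apply, map_mul, map_mul, map_inv, mul_comm (lam x), mul_inv_cancel_right]
  have hres : ∀ q : Q, (ξ : P → ℂ) q = (d' ξ : ℂ) * (lam (q : P) : ℂ) := fun q => by
    have h := congrFun (clifford_restrict ξ μP hne) q
    rw [horb, Finset.sum_singleton,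
      show classInner (fun q : Q => (ξ : P → ℂ) q) (μP : Q → ℂ) = (d' ξ : ℂ) from hd' ξ] at h
    exact h
  have hξ1 : deg (ξ : P → ℂ) = 1 := by
    have h1 := hres 1
    simp only [OneMemClass.coe_one, map_one, Units.val_one, mul_one,
      char_one_eq_deg (irr_isCharacter ξ.2), Nat.cast_inj] at h1
    obtain ⟨a, ha⟩ := hPp.exists_card_eq
    obtain ⟨i, -, hi⟩ := (Nat.dvd_prime_pow Nat.prime_two).mp (ha ▸ deg_dvd_card ξ.2)
    rcases Nat.eq_zero_or_pos i with rfl | hi0
    · simpa using hi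
    · exfalso
      rw [← h1, hi] at hξd
      exact Nat.not_even_iff_odd.mpr hξd ((Nat.even_pow' hi0.ne').mpr even_two)
  obtain ⟨lam', hlam'⟩ := exists_hom_of_degree_one (irr_isCharacter ξ.2) (by
    rw [char_one_eq_deg (irr_isCharacter ξ.2), hξ1, Nat.cast_one])
  have hd1 : d' ξ = 1 := by
    have h1 := hres 1
    simp only [OneMemClass.coe_one, map_one, Units.val_one, mul_one,
      char_one_eq_deg (irr_isCharacter ξ.2), Nat.cast_inj, hξ1] at h1
    exact h1.symm
  refine ⟨lam', fun x => ?_, fun x hx => Units.ext ?_⟩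
  · have h := congrFun (congrArg Subtype.val (congrArg Subtype.val hξτ)) x
    change (ξ : P → ℂ) (x ^ k) = (ξ : P → ℂ) x at h
    rw [hinvk, hlam', Units.val_inj, map_inv, inv_eq_iff_mul_eq_one] at h
    rw [pow_two, h]
  · have h := hres ⟨x, hx⟩
    rw [hd1, Nat.cast_one, one_mul, hlam'] at h
    exact h

end Cfsg.Agent.Char
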