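import Cfsg.Agent.Lib.Char.FongDefs
import Cfsg.Agent.Lib.Char.RealClass
import Cfsg.Agent.Lib.Char.Inflate
import Cfsg.Agent.Lib.Char.SylowAbElementary
import Cfsg.Agent.Lib.Solv.Cores
import Cfsg.Agent.Lib.Solv.PGroupPhi

/-!
# Odd degree characters and linear characters of a Sylow two-subgroup
-/

open scoped ComplexConjugate
open Cfsg Module

set_option autoImplicit false
set_option linter.style.haveILetI false
set_option linter.unusedSectionVars false

namespace Cfsg.Agent.Char.RealOdd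

universe u

variable {G : Type u} [Group G] [Fintype G]

/-- A linear character of `P` occurs in the restriction. -/
def Con (P : Subgroup G) (χ : G → ℂ) (l : P →* ℂˣ) : Prop :=
  Fong.Over P (fun x : P => (l x : ℂ)) χ

/-- Values are real. -/
def RealFun {X : Type*} (f : X → ℂ) : Prop := ∀ x, (f x).im = 0

/-- A linear character with values `±1`. -/
def RealLin {X : Type*} [Group X] (l : X →* ℂˣ) : Prop := ∀ x, l x ^ 2 = 1

theorem realLin_conj {X : Type*} [Group X] {l : X →* ℂˣ} (h : RealLin l) (x : X) :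
    conj (l x : ℂ) = (l x : ℂ) := by
  have h2 : (l x : ℂ) ^ 2 = 1 := by rw [← Units.val_pow_eq_pow_val, h x, Units.val_one]
  rcases sq_eq_one_iff.mp h2 with e | e <;> rw [e] <;> simp

theorem realFun_conj {X : Type*} {f : X → ℂ} (h : RealFun f) (x : X) : conj (f x) = f x :=
  Complex.conj_eq_iff_im.2 (h x)

theorem irr_at_one_eq_deg (χ : IrrCharacter G) : (χ : G → ℂ) 1 = (charDegree (χ : G → ℂ) : ℂ) :=
  char_one_eq_deg (irr_isCharacter χ.2)

theorem con_iff (P : Subgroup G) [Fintype P] (χ : G → ℂ) (l : P →* ℂˣ) :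
    Con P χ l ↔ classInner (fun x : P => χ x) (fun x : P => (l x : ℂ)) ≠ 0 := Fong.over_iff P _ χ

theorem odd_of_irr_linear_constituent {A : Type u} [Group A] [Fintype A] (hA : IsPGroup 2 A)
    (ξ : IrrCharacter A) (h : Odd (deg (ξ : A → ℂ))) : ∃ l : A →* ℂˣ, (ξ : A → ℂ) = fun x => (l x : ℂ) := by
  haveI : Fact (Nat.Prime 2) := ⟨Nat.prime_two⟩
  obtain ⟨a, ha⟩ := hA.exists_card_eq
  obtain ⟨i, -, hi⟩ := (Nat.dvd_prime_pow Nat.prime_two).mp (ha ▸ deg_dvd_card ξ.2)
  rcases Nat.eq_zero_or_pos i with rfl | hi0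
  · exact exists_hom_of_degree_one (irr_isCharacter ξ.2)
      (by rw [char_one_eq_deg (irr_isCharacter ξ.2), hi, pow_zero, Nat.cast_one])
  · exfalso
    rw [hi] at h
    exact Nat.not_even_iff_odd.mpr h ((Nat.even_pow' hi0.ne').mpr even_two)

/-- A character of odd degree has a constituent of odd degree, fixed by conjugation if it is real. -/
theorem exists_odd_constituent {A : Type u} [Group A] [Fintype A] {F : A → ℂ} (hF : IsCharacter A F)
    (n : ℕ) (hn : F 1 = n) (hodd : Odd n) :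
    (∃ φ : IrrCharacter A, classInner F (φ : A → ℂ) ≠ 0 ∧ Odd (deg (φ : A → ℂ))) ∧
      (RealFun F → ∃ φ : IrrCharacter A,
        classInner F (φ : A → ℂ) ≠ 0 ∧ Odd (deg (φ : A → ℂ)) ∧ RealFun (φ : A → ℂ)) := by
  classical
  obtain ⟨c, hc⟩ := exists_decomposition hF
  have hcc := decomposition_coeff c hc
  have htot : Odd (∑ φ : IrrCharacter A, c φ * deg (φ : A → ℂ)) := by
    have h := congrFun hc 1
    rw [hn, Finset.sum_apply] at h
    simp only [Pi.smul_apply, nsmul_eq_mul] at h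
    rw [Finset.sum_congr rfl fun θ _ => by rw [char_one_eq_deg (irr_isCharacter θ.2), ← Nat.cast_mul],
      ← Nat.cast_sum, Nat.cast_inj] at h
    rwa [← h]
  have hodd' := odd_filter_of_sum _ htot
  let W := {φ : IrrCharacter A // Odd (c φ * deg (φ : A → ℂ))}
  have hW : Odd (Fintype.card W) := by rw [Fintype.card_subtype]; exact hodd'
  have hcne : ∀ φ : IrrCharacter A, Odd (c φ * deg (φ : A → ℂ)) →
      classInner F (φ : A → ℂ) ≠ 0 ∧ Odd (deg (φ : A → ℂ)) := fun φ h => by
    refine ⟨?_, (Nat.odd_mul.mp h).2⟩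
    rw [hcc, Nat.cast_ne_zero]
    intro h0
    rw [h0, zero_mul] at h
    exact absurd h (by decide)
  constructor
  · obtain ⟨φ, hφ⟩ := (Fintype.card_pos_iff.mp hW.pos).some
    exact ⟨φ, hcne φ hφ⟩
  · intro hreal
    have hcconj : ∀ φ, c (irrConj φ) = c φ := by
      intro φ
      have h1 : classInner F (irrConj φ : A → ℂ) = conj (classInner F (φ : A → ℂ)) := by
        simp only [classInner, map_mul, map_inv₀, map_natCast, map_sum, irrConj_apply]
        congr 1
        exact Finset.sum_congr rfl fun x _ => by rw [realFun_conj hreal x]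
      rw [hcc, hcc, map_natCast] at h1
      exact_mod_cast h1
    have hdconj : ∀ φ : IrrCharacter A, deg (irrConj φ : A → ℂ) = deg (φ : A → ℂ) := fun φ => by
      simp [deg, irrConj_apply]
    have hfix := exists_fixed_of_involution
      (fun w : W => (⟨irrConj w.1, by rw [hcconj, hdconj]; exact w.2⟩ : W))
      (fun w => Subtype.ext (irrConj_irrConj w.1)) hW
    obtain ⟨⟨⟨φ, hφ⟩, hφc⟩⟩ := (Nat.card_pos_iff.mp hfix.pos).1
    exact ⟨φ, (hcne φ hφ).1, (hcne φ hφ).2, (irrConj_eq_iff φ).1 (congrArg Subtype.val hφc)⟩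

theorem exists_con_of_odd (P : Subgroup G) (hP : IsPGroup 2 P) (χ : IrrCharacter G)
    (hodd : Odd (charDegree (χ : G → ℂ))) :
    (∃ l : P →* ℂˣ, Con P (χ : G → ℂ) l) ∧
      (RealFun (χ : G → ℂ) → ∃ l : P →* ℂˣ, RealLin l ∧ Con P (χ : G → ℂ) l) := by
  classical
  haveI := Fintype.ofFinite P
  obtain ⟨h1, h2⟩ := exists_odd_constituent (isCharacter_comp P.subtype (irr_isCharacter χ.2))
    (charDegree (χ : G → ℂ)) (irr_at_one_eq_deg χ) hodd
  constructor
  · obtain ⟨φ, hφ, hφo⟩ := h1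
    obtain ⟨l, hl⟩ := odd_of_irr_linear_constituent hP φ hφo
    exact ⟨l, (con_iff P _ l).2 (hl ▸ hφ)⟩
  · intro hr
    obtain ⟨φ, hφ, hφo, hφr⟩ := h2 fun x => hr (x : G)
    obtain ⟨l, hl⟩ := odd_of_irr_linear_constituent hP φ hφo
    refine ⟨l, fun x => ?_, (con_iff P _ l).2 (hl ▸ hφ)⟩
    have hc := realFun_conj hφr x
    rw [hl] at hc
    have h2 := char_inv (isCharacter_linear l) x
    rw [hc, Units.val_inj, map_inv, inv_eq_iff_mul_eq_one] at h2
    rw [pow_two, h2]

theorem exists_char_of_lin (P : Subgroup G) (hPi : ¬ 2 ∣ P.index) (l : P →* ℂˣ) :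
    (∃ χ : IrrCharacter G, Odd (charDegree (χ : G → ℂ)) ∧ Con P (χ : G → ℂ) l) ∧
      (RealLin l → ∃ χ : IrrCharacter G,
        Odd (charDegree (χ : G → ℂ)) ∧ RealFun (χ : G → ℂ) ∧ Con P (χ : G → ℂ) l) := by
  classical
  haveI := Fintype.ofFinite P
  have h1 : indFun P (fun x => (l x : ℂ)) 1 = ((P.index : ℕ) : ℂ) := by
    rw [indFun_one, map_one, Units.val_one, mul_one]
  have hodd : Odd P.index := Nat.not_even_iff_odd.mp fun h => hPi (even_iff_two_dvd.mp h)
  obtain ⟨ha, hb⟩ := exists_odd_constituent (isCharacter_indFun P (isCharacter_linear l)) _ h1 hodd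
  have hcon : ∀ φ : IrrCharacter G, classInner (indFun P (fun x => (l x : ℂ))) (φ : G → ℂ) ≠ 0 →
      Con P (φ : G → ℂ) l := by
    intro φ hφ
    rw [con_iff, ← classInner_symm, ← frobenius P _ (isClassFunction_character (irr_isCharacter φ.2))]
    intro h0
    exact hφ (by simpa using h0)
  constructor
  · obtain ⟨φ, hφ, hφo⟩ := ha
    exact ⟨φ, hφo, hcon φ hφ⟩
  · intro hl
    obtain ⟨φ, hφ, hφo, hφr⟩ := hb fun g => Complex.conj_eq_iff_im.1 (by
      simp only [indFun, map_mul, map_inv₀, map_natCast, map_sum]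
      congr 1
      refine Finset.sum_congr rfl fun x _ => ?_
      by_cases hx : x⁻¹ * g * x ∈ P
      · rw [extendByZero_mem P _ hx]; exact realLin_conj hl _
      · rw [extendByZero_not_mem P _ hx, map_zero])
    exact ⟨φ, hφo, hφr, hcon φ hφ⟩

/-- The translate of a linear character by a normalising element. -/
noncomputable def shiftLin (P : Subgroup G) (n : G) (hn : n ∈ Subgroup.normalizer (P : Set G))
    (l : P →* ℂˣ) : P →* ℂˣ where
  toFun x := l ⟨n * (x : G) * n⁻¹, (Subgroup.mem_normalizer_iff.1 hn _).1 x.2⟩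
  map_one' := by
    rw [← map_one l]; exact congrArg l (Subtype.ext (by simp))
  map_mul' x y := by
    rw [← map_mul]; exact congrArg l (Subtype.ext (by simp [mul_assoc]))

theorem shiftLin_real {P : Subgroup G} {n : G} {hn : n ∈ Subgroup.normalizer (P : Set G)}
    {l : P →* ℂˣ} (h : RealLin l) : RealLin (shiftLin P n hn l) := fun _ => h _

theorem con_shift (P : Subgroup G) {χ : G → ℂ} (hχ : IsClassFunction G χ) {n : G}
    (hn : n ∈ Subgroup.normalizer (P : Set G)) {l l' : P →* ℂˣ}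
    (h : ∀ (x : P), l' x = shiftLin P n hn l x) : Con P χ l ↔ Con P χ l' := by
  haveI := Fintype.ofFinite P
  have key : ∑ x : G, Fong.zext P (fun x : P => (l' x : ℂ)) x * χ x =
      ∑ x : G, Fong.zext P (fun x : P => (l x : ℂ)) x * χ x := by
    refine Fintype.sum_equiv (MulAut.conj n).toEquiv _ _ fun x => ?_
    show _ = Fong.zext P (fun x : P => (l x : ℂ)) (n * x * n⁻¹) * χ (n * x * n⁻¹)
    rw [hχ]
    congr 1
    by_cases hx : x ∈ P
    · rw [Fong.zext_mem P _ hx, Fong.zext_mem P _ ((Subgroup.mem_normalizer_iff.1 hn x).1 hx), h]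
      rfl
    · rw [Fong.zext_not_mem P _ hx,
        Fong.zext_not_mem P _ (fun h' => hx ((Subgroup.mem_normalizer_iff.1 hn x).2 h'))]
  unfold Con Fong.Over
  rw [key]

end Cfsg.Agent.Char.RealOdd
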