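import Cfsg.Agent.Lib.Char.RealOddTools
import Cfsg.Agent.Lib.Char.LinearExt

/-!
# The case of a normal subgroup of odd order
-/

open scoped ComplexConjugate
open Cfsg Module

set_option autoImplicit false
set_option linter.style.haveILetI false
set_option linter.unusedSectionVars false

namespace Cfsg.Agent.Char.RealOdd

universe u

variable {G : Type u} [Group G] [Fintype G]

theorem self_norm_quot (K : Subgroup G) [K.Normal] [Fintype K] [Fintype (G ⧸ K)]
    (ih : MainProp (G ⧸ K)) (P : Subgroup G) (hP : IsPGroup 2 P) (hPi : ¬ 2 ∣ P.index)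
    (hall : ∀ χ : IrrCharacter G, Odd (charDegree (χ : G → ℂ)) → RealFun (χ : G → ℂ))
    (n : G) (hn : n ∈ Subgroup.normalizer (P : Set G)) : n ∈ P ⊔ K := by
  obtain ⟨h1, h2⟩ := img_hyps K P hP hPi
  have hN : Subgroup.normalizer (img K P : Set (G ⧸ K)) = img K P := by
    refine ih.self_norm _ h1 h2 fun χ hχ q => ?_
    obtain ⟨g, rfl⟩ := QuotientGroup.mk_surjective q
    exact hall ⟨_, isIrr_inflate K χ.2⟩ (by
      simpa [charDegree, QuotientGroup.mk_one] using hχ) g
  have hq : QuotientGroup.mk n ∈ img K P := by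
    rw [← hN]
    refine mem_normalizer_of_forall ?_
    rintro _ ⟨x, hx, rfl⟩
    exact ⟨n * x * n⁻¹, (Subgroup.mem_normalizer_iff.1 hn x).1 hx, by simp⟩
  obtain ⟨x, hx, hxn⟩ := hq
  rw [show n = x * (x⁻¹ * n) by group]
  exact Subgroup.mul_mem_sup hx ((QuotientGroup.eq (s := K)).1 hxn)

theorem inf_eq_bot_of_odd (V P : Subgroup G) (hV : ¬ 2 ∣ Nat.card V) (hP : IsPGroup 2 P) :
    V ⊓ P = ⊥ := by
  haveI : Fact (Nat.Prime 2) := ⟨Nat.prime_two⟩
  obtain ⟨k, hk⟩ := hP.exists_card_eq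
  refine Solv.coprime_inf ?_
  rw [hk]
  exact Nat.Coprime.pow_right _ ((Nat.Prime.coprime_iff_not_dvd Nat.prime_two).2 hV).symm

/-- If every character of odd degree is real then the fixed points are trivial. -/
theorem centralizer_trivial (V : Subgroup G) [V.Normal] [Fintype V] (hab : ∀ a b : V, a * b = b * a)
    (hV : ¬ 2 ∣ Nat.card V) (P : Subgroup G) (hP : IsPGroup 2 P) (hPi : ¬ 2 ∣ P.index)
    (hall : ∀ χ : IrrCharacter G, Odd (charDegree (χ : G → ℂ)) → RealFun (χ : G → ℂ)) :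
    V ⊓ Subgroup.centralizer (P : Set G) = ⊥ := by
  classical
  haveI : Fact (Nat.Prime 2) := ⟨Nat.prime_two⟩
  rw [invariant_irr_iff V hV P hP]
  intro θ hθ
  obtain ⟨c, hc⟩ := exists_hom_of_degree_one (irr_isCharacter θ.2) (forall_linear_iff_comm.mp hab θ)
  set L := V ⊔ P with hL
  let Z : Subgroup L := V.subgroupOf L
  let cZ : Z →* ℂˣ := c.comp (Subgroup.subgroupOfEquivOfLe (le_sup_left : V ≤ L)).toMonoidHom
  have hLI : L ≤ Fong.inert V θ := by
    refine sup_le (Fong.le_inert V θ) fun x hx => Subtype.ext (funext fun w => ?_)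
    rw [irrComp_apply]
    exact hθ ⟨x, hx⟩ w
  have hinv : ∀ (h : L) (z : Z), cZ (MulAut.conjNormal h z) = cZ z := fun h z => by
    refine Units.ext ?_
    have e := congrFun (congrArg Subtype.val (hLI h.2)) ⟨((z : L) : G), z.2⟩
    rw [irrComp_apply, hc] at e
    exact e
  have hcop : Z.index.Coprime (orderOf cZ) := by
    obtain ⟨k, hk⟩ := hP.exists_card_eq
    have hi : Z.index ∣ 2 ^ k := by
      rw [← hk, show Z.index = V.relIndex L from rfl, hL, sup_comm, Subgroup.relIndex_sup_right]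
      exact Subgroup.relIndex_dvd_card _ _
    have ho : orderOf cZ ∣ Nat.card Z := orderOf_dvd_of_pow_eq_one (MonoidHom.ext fun z => by
      rw [MonoidHom.pow_apply, MonoidHom.one_apply, ← map_pow, pow_card_eq_one', map_one])
    have hZ : Nat.card Z = Nat.card V :=
      Nat.card_congr (Subgroup.subgroupOfEquivOfLe (le_sup_left : V ≤ L)).toEquiv
    exact Nat.Coprime.coprime_dvd_left hi (Nat.Coprime.coprime_dvd_right (hZ ▸ ho)
      (Nat.Coprime.pow_left k ((Nat.Prime.coprime_iff_not_dvd Nat.prime_two).2 hV)))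
  obtain ⟨μ, hμ, -⟩ := exists_linear_extension_coprime Z cZ hinv hcop
  have hLi : ¬ 2 ∣ L.index := fun h => hPi (h.trans (Subgroup.index_dvd_of_le le_sup_right))
  obtain ⟨χ, hχo, hχc⟩ := (exists_char_of_lin L hLi μ).1
  have htriv := trivial_on_odd V hab hV P hP χ hχo (Or.inl (hall χ hχo))
  intro w
  have h1 := lin_trivial_of_con V L χ htriv hχc ⟨(w : G), (le_sup_left : V ≤ L) w.2⟩ w.2
  rw [show μ ⟨(w : G), _⟩ = cZ ⟨⟨(w : G), (le_sup_left : V ≤ L) w.2⟩, w.2⟩ from hμ ⟨_, _⟩] at h1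
  rw [hc]
  show (c w : ℂ) = 1
  rw [show c w = cZ ⟨⟨(w : G), (le_sup_left : V ≤ L) w.2⟩, w.2⟩ from rfl, h1, Units.val_one]

theorem case_one (V : Subgroup G) [V.Normal] [Fintype V] [Fintype (G ⧸ V)]
    (hab : ∀ a b : V, a * b = b * a) (hV : ¬ 2 ∣ Nat.card V) (ih : MainProp (G ⧸ V)) : MainProp G := by
  have hcent : ∀ P : Subgroup G, IsPGroup 2 P → Subgroup.normalizer (P : Set G) = P →
      V ⊓ Subgroup.centralizer (P : Set G) = ⊥ := fun P hP hN => by
    rw [eq_bot_iff, ← inf_eq_bot_of_odd V P hV hP]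
    refine inf_le_inf_left V fun v hv => hN.le (mem_normalizer_of_forall fun x hx => ?_)
    rwa [← Subgroup.mem_centralizer_iff.1 hv x hx, mul_inv_cancel_right]
  refine ⟨?_, ?_, ?_⟩
  · intro P hP hPi χ χ' ho ho' l hc hc' hgood
    refine uniq_quot V ih P hP hPi χ χ' ?_ ?_ ho ho' l hc hc' hgood
    · exact trivial_on_odd V hab hV P hP χ ho (hgood.imp (fun h => h.1) (hcent P hP))
    · exact trivial_on_odd V hab hV P hP χ' ho' (hgood.imp (fun h => h.2.1) (hcent P hP))
  · intro P hP hPi χ ho l l' hc hc' hgood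
    exact orbit_quot V ih P hP hPi χ
      (trivial_on_odd V hab hV P hP χ ho (hgood.imp (fun h => h.1) (hcent P hP))) ho l l' hc hc' hgood
  · intro P hP hPi hall
    refine le_antisymm (fun n hn => ?_) Subgroup.le_normalizer
    obtain ⟨x, hx, k, hk, rfl⟩ :=
      Subgroup.mem_sup_of_normal_right.1 (self_norm_quot V ih P hP hPi hall n hn)
    have hkN : k ∈ Subgroup.normalizer (P : Set G) :=
      (mul_mem_cancel_left (H := Subgroup.normalizer (P : Set G)) (Subgroup.le_normalizer hx)).1 hn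
    have hk1 : k ∈ V ⊓ Subgroup.centralizer (P : Set G) := by
      refine ⟨hk, Subgroup.mem_centralizer_iff.2 fun y hy => ?_⟩
      have h1 : k * y * k⁻¹ * y⁻¹ ∈ V ⊓ P := by
        refine ⟨?_, mul_mem ((Subgroup.mem_normalizer_iff.1 hkN y).1 hy) (P.inv_mem hy)⟩
        rw [mul_assoc, mul_assoc]
        exact mul_mem hk (by simpa [mul_assoc] using ‹V.Normal›.conj_mem _ (inv_mem hk) y)
      rw [inf_eq_bot_of_odd V P hV hP, Subgroup.mem_bot, mul_inv_eq_one, mul_inv_eq_iff_eq_mul] at h1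
      exact h1.symm
    rw [centralizer_trivial V hab hV P hP hPi hall, Subgroup.mem_bot] at hk1
    rwa [hk1, mul_one]

end Cfsg.Agent.Char.RealOdd
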