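import Cfsg.Agent.Lib.Char.RealOddCaseOne
import Cfsg.Agent.Lib.Solv.Cores

/-!
# The case of a self centralising two-core
-/

open scoped ComplexConjugate
open Cfsg Module

set_option autoImplicit false
set_option linter.style.haveILetI false
set_option linter.unusedSectionVars false

namespace Cfsg.Agent.Char.RealOdd

universe u

variable {G : Type u} [Group G] [Fintype G]

/-- The induction hypothesis. -/
def Below (G : Type u) [Group G] : Prop :=
  ∀ (H : Type u) [Group H] [Fintype H], Nat.card H < Nat.card G → Group.IsSolvable H → MainProp H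

/-- The restriction of a linear character as an irreducible character. -/
noncomputable def resLin (Q : Subgroup G) [Fintype Q] {P : Subgroup G} (hQP : Q ≤ P) (l : P →* ℂˣ) :
    IrrCharacter Q :=
  ⟨_, isIrrCharacter_linear (l.comp (Subgroup.inclusion hQP))⟩

variable (Q : Subgroup G) [Q.Normal] [Fintype Q] {P : Subgroup G} (hQP : Q ≤ P)

theorem resLin_apply (l : P →* ℂˣ) (q : Q) :
    (resLin Q hQP l : Q → ℂ) q = (l ⟨(q : G), hQP q.2⟩ : ℂ) := rfl

theorem le_inert_resLin (l : P →* ℂˣ) : P ≤ Fong.inert Q (resLin Q hQP l) := fun x hx =>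
  Subtype.ext (funext fun q => by
    rw [irrComp_apply, resLin_apply, resLin_apply]
    congr 1
    have e : (⟨((MulAut.conjNormal x q : Q) : G), hQP (MulAut.conjNormal x q).2⟩ : P) =
        ⟨x, hx⟩ * ⟨(q : G), hQP q.2⟩ * (⟨x, hx⟩ : P)⁻¹ := Subtype.ext (MulAut.conjNormal_apply x q)
    rw [e, map_mul, map_mul, map_inv, mul_comm (l ⟨x, hx⟩), mul_inv_cancel_right])

theorem over_resLin {χ : G → ℂ} (hχ : IsCharacter G χ) {l : P →* ℂˣ} (h : Con P χ l) :
    classInner (fun q : Q => χ q) (resLin Q hQP l : Q → ℂ) ≠ 0 :=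
  constituent_of_con P hχ h Q.subtype (Subgroup.inclusion hQP) fun _ => rfl

theorem trivial_on_ker (l : P →* ℂˣ) (hT : Fong.inert Q (resLin Q hQP l) = ⊤) (χ : IrrCharacter G)
    (hc : Con P (χ : G → ℂ) l) :
    ∀ k ∈ (l.comp (Subgroup.inclusion hQP)).ker.map Q.subtype, (χ : G → ℂ) k = (χ : G → ℂ) 1 := by
  have hinv : ∀ (g : G) (q : Q), (resLin Q hQP l : Q → ℂ) (MulAut.conjNormal g q) =
      (resLin Q hQP l : Q → ℂ) q := fun g q => by
    have h : g ∈ Fong.inert Q (resLin Q hQP l) := hT ▸ Subgroup.mem_top g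
    exact (irrComp_apply _ _ q).symm.trans (congrFun (congrArg Subtype.val h) q)
  obtain ⟨e, -, he⟩ := Fong.restrict_eq_mul Q _ hinv χ (over_resLin Q hQP (irr_isCharacter χ.2) hc)
  rintro _ ⟨k, hk, rfl⟩
  have h1 : (χ : G → ℂ) ((k : Q) : G) = (e : ℂ) * (resLin Q hQP l : Q → ℂ) k := he k
  have h2 : (χ : G → ℂ) (((1 : Q) : G)) = (e : ℂ) * (resLin Q hQP l : Q → ℂ) 1 := he 1
  rw [OneMemClass.coe_one] at h2
  show (χ : G → ℂ) (k : G) = _
  rw [h1, h2]
  show (e : ℂ) * ((l.comp (Subgroup.inclusion hQP)) k : ℂ) =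
    (e : ℂ) * ((l.comp (Subgroup.inclusion hQP)) 1 : ℂ)
  rw [MonoidHom.mem_ker.1 hk, map_one]

theorem ker_cases (hC : Subgroup.centralizer (Q : Set G) ≤ Q) (l : P →* ℂˣ)
    (hT : Fong.inert Q (resLin Q hQP l) = ⊤) :
    P = ⊤ ∨ (((l.comp (Subgroup.inclusion hQP)).ker.map Q.subtype).Normal ∧
      (l.comp (Subgroup.inclusion hQP)).ker.map Q.subtype ≠ ⊥) := by
  have hinv : ∀ (g : G) (q : Q), (l.comp (Subgroup.inclusion hQP)) (MulAut.conjNormal g q) =
      (l.comp (Subgroup.inclusion hQP)) q := fun g q => by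
    have h : g ∈ Fong.inert Q (resLin Q hQP l) := hT ▸ Subgroup.mem_top g
    exact Units.ext ((irrComp_apply _ _ q).symm.trans (congrFun (congrArg Subtype.val h) q))
  by_cases hK : (l.comp (Subgroup.inclusion hQP)).ker.map Q.subtype = ⊥
  · left
    have hinj : Function.Injective (l.comp (Subgroup.inclusion hQP)) := (MonoidHom.ker_eq_bot_iff _).1
      ((Subgroup.map_eq_bot_iff_of_injective _ Q.subtype_injective).1 hK)
    refine eq_top_iff.2 fun g _ => hQP (hC (Subgroup.mem_centralizer_iff.2 fun q hq => ?_))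
    have e := congrArg Subtype.val (hinj (hinv g ⟨q, hq⟩))
    rw [MulAut.conjNormal_apply] at e
    exact (mul_inv_eq_iff_eq_mul.1 e).symm
  · refine Or.inr ⟨⟨fun k hk g => ?_⟩, hK⟩
    obtain ⟨a, ha, rfl⟩ := hk
    exact ⟨MulAut.conjNormal g a, by
      show _ ∈ MonoidHom.ker _
      rw [MonoidHom.mem_ker, hinv, MonoidHom.mem_ker.1 ha], MulAut.conjNormal_apply g a⟩

/-- The correspondent over a linear character. -/
theorem exists_corr (T : Subgroup G) [Fintype T] (hQT : Q ≤ T) (hPT : P ≤ T) (θ : IrrCharacter Q)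
    (hI : ∀ g : G, irrComp (MulAut.conjNormal g) θ = θ → g ∈ T) (χ : IrrCharacter G) (l : P →* ℂˣ)
    (hθ : resLin Q hQP l = θ) (hc : Con P (χ : G → ℂ) l) :
    ∃ ψ : IrrCharacter T, (χ : G → ℂ) = indFun T (ψ : T → ℂ) ∧
      classInner (fun t : T => (χ : G → ℂ) t) (ψ : T → ℂ) ≠ 0 ∧
      classInner (resN T hQT (ψ : T → ℂ)) (θ : Q → ℂ) ≠ 0 ∧
      Con (P.subgroupOf T) (ψ : T → ℂ) (l.comp (Subgroup.subgroupOfEquivOfLe hPT).toMonoidHom) ∧
      (Odd (charDegree (χ : G → ℂ)) → Odd (charDegree (ψ : T → ℂ))) ∧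
      (RealFun (χ : G → ℂ) → RealLin l → RealFun (ψ : T → ℂ)) := by
  subst hθ
  obtain ⟨ψ, hm, hψc⟩ := exists_constituent_over' (P.subgroupOf T)
    (isCharacter_comp T.subtype (irr_isCharacter χ.2))
    ((con_subgroupOf T P hPT (χ : G → ℂ) l).2 hc)
  have hover : classInner (resN T hQT (ψ : T → ℂ)) (resLin Q hQP l : Q → ℂ) ≠ 0 :=
    constituent_of_con (P.subgroupOf T) (irr_isCharacter ψ.2)
      (l := l.comp (Subgroup.subgroupOfEquivOfLe hPT).toMonoidHom) hψc (Subgroup.inclusion hQT)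
      ((Subgroup.inclusion hQT).codRestrict _ fun q => Subgroup.mem_subgroupOf.2 (hQP q.2))
      fun _ => rfl
  obtain ⟨hind, -, huniq⟩ := clifford_ind hI hover hm
  refine ⟨ψ, hind, hm, hover, hψc, fun ho => ?_, fun hr hl => ?_⟩
  · have h1 := congrFun hind 1
    rw [indFun_one, irr_at_one_eq_deg, irr_at_one_eq_deg, ← Nat.cast_mul, Nat.cast_inj] at h1
    rw [h1] at ho
    exact (Nat.odd_mul.1 ho).2
  · refine (irrConj_eq_iff ψ).1 (huniq (irrConj ψ) ?_ ?_)
    · have e : classInner (resN T hQT (irrConj ψ : T → ℂ)) (resLin Q hQP l : Q → ℂ) =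
          conj (classInner (resN T hQT (ψ : T → ℂ)) (resLin Q hQP l : Q → ℂ)) := by
        simp only [classInner, map_mul, map_inv₀, map_natCast, map_sum, resN, irrConj_apply]
        congr 1
        refine Finset.sum_congr rfl fun q _ => ?_
        rw [resLin_apply, realLin_conj hl, realLin_conj hl]
      rw [e, _root_.map_ne_zero]
      exact hover
    · have e : classInner (fun t : T => (χ : G → ℂ) t) (irrConj ψ : T → ℂ) =
          conj (classInner (fun t : T => (χ : G → ℂ) t) (ψ : T → ℂ)) := by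
        simp only [classInner, map_mul, map_inv₀, map_natCast, map_sum, irrConj_apply]
        congr 1
        exact Finset.sum_congr rfl fun t _ => by rw [realFun_conj hr]
      rw [e, _root_.map_ne_zero]
      exact hm

omit [Fintype G] in
theorem subgroupOf_facts [Finite G] (T : Subgroup G) (hPT : P ≤ T) (hP : IsPGroup 2 P)
    (hPi : ¬ 2 ∣ P.index) : IsPGroup 2 (P.subgroupOf T) ∧ ¬ 2 ∣ (P.subgroupOf T).index :=
  ⟨hP.of_equiv (Subgroup.subgroupOfEquivOfLe hPT).symm, fun h => hPi (h.trans (by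
    rw [← Subgroup.relIndex_mul_index hPT]; exact dvd_mul_right _ _))⟩

theorem subgroupOf_self_norm (T : Subgroup G) (hPT : P ≤ T)
    (hN : Subgroup.normalizer (P : Set G) = P) :
    Subgroup.normalizer (P.subgroupOf T : Set T) = P.subgroupOf T := by
  refine le_antisymm (fun n hn => Subgroup.mem_subgroupOf.2 (hN.le
    (mem_normalizer_of_forall fun x hx => ?_))) Subgroup.le_normalizer
  exact Subgroup.mem_subgroupOf.1
    ((Subgroup.mem_normalizer_iff.1 hn ⟨x, hPT hx⟩).1 (Subgroup.mem_subgroupOf.2 hx))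

theorem card_lt_of_ne_top {T : Subgroup G} (hT : T ≠ ⊤) : Nat.card T < Nat.card G :=
  lt_of_le_of_ne (Nat.le_of_dvd Nat.card_pos (Subgroup.card_subgroup_dvd_card T))
    fun h => hT (Subgroup.eq_top_of_card_eq T h)

theorem card_quot_lt {K : Subgroup G} (hK : K ≠ ⊥) : Nat.card (G ⧸ K) < Nat.card G := by
  rw [Subgroup.card_eq_card_quotient_mul_card_subgroup K]
  refine lt_mul_of_one_lt_right Nat.card_pos (lt_of_le_of_ne Nat.card_pos fun h => hK ?_)
  exact Subgroup.eq_bot_of_card_eq K h.symm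

theorem uniq_two (hC : Subgroup.centralizer (Q : Set G) ≤ Q) (hs : Group.IsSolvable G) (ih : Below G)
    (hP : IsPGroup 2 P) (hPi : ¬ 2 ∣ P.index) (χ χ' : IrrCharacter G)
    (ho : Odd (charDegree (χ : G → ℂ))) (ho' : Odd (charDegree (χ' : G → ℂ))) (l : P →* ℂˣ)
    (hc : Con P (χ : G → ℂ) l) (hc' : Con P (χ' : G → ℂ) l)
    (hgood : (RealFun (χ : G → ℂ) ∧ RealFun (χ' : G → ℂ) ∧ RealLin l) ∨
      Subgroup.normalizer (P : Set G) = P) (hQP : Q ≤ P) : χ = χ' := by
  classical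
  by_cases hT : Fong.inert Q (resLin Q hQP l) = ⊤
  · rcases ker_cases Q hQP hC l hT with h | ⟨hn, hb⟩
    · exact top_uniq h χ χ' hc hc'
    · haveI := hn
      haveI := Fintype.ofFinite ((l.comp (Subgroup.inclusion hQP)).ker.map Q.subtype)
      haveI := Fintype.ofFinite (G ⧸ (l.comp (Subgroup.inclusion hQP)).ker.map Q.subtype)
      exact uniq_quot _ (ih _ (card_quot_lt hb) inferInstance) P hP hPi χ χ'
        (trivial_on_ker Q hQP l hT χ hc) (trivial_on_ker Q hQP l hT χ' hc') ho ho' l hc hc' hgood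
  · obtain ⟨T, hTeq⟩ : ∃ T, T = Fong.inert Q (resLin Q hQP l) := ⟨_, rfl⟩
    have hPT : P ≤ T := hTeq ▸ le_inert_resLin Q hQP l
    haveI := Fintype.ofFinite T
    have hI : ∀ g : G, irrComp (MulAut.conjNormal g) (resLin Q hQP l) = resLin Q hQP l → g ∈ T :=
      fun g hg => hTeq ▸ hg
    obtain ⟨ψ, hψ, -, -, hψc, hψo, hψr⟩ := exists_corr Q hQP T (hQP.trans hPT) hPT _ hI χ l rfl hc
    obtain ⟨φ, hφ, -, -, hφc, hφo, hφr⟩ := exists_corr Q hQP T (hQP.trans hPT) hPT _ hI χ' l rfl hc'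
    obtain ⟨h1, h2⟩ := subgroupOf_facts T hPT hP hPi
    have e : ψ = φ := (ih T (card_lt_of_ne_top (hTeq ▸ hT)) inferInstance).uniq _ h1 h2 ψ φ (hψo ho)
      (hφo ho') _ hψc hφc (hgood.imp
        (fun h => ⟨hψr h.1 h.2.2, hφr h.2.1 h.2.2, fun x => h.2.2 _⟩) (subgroupOf_self_norm T hPT))
    exact Subtype.ext (by rw [hψ, hφ, e])

theorem orbit_same (hC : Subgroup.centralizer (Q : Set G) ≤ Q) (hs : Group.IsSolvable G) (ih : Below G)
    (hP : IsPGroup 2 P) (hPi : ¬ 2 ∣ P.index) (χ : IrrCharacter G)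
    (ho : Odd (charDegree (χ : G → ℂ))) (l l' : P →* ℂˣ) (hQP : Q ≤ P)
    (heq : resLin Q hQP l = resLin Q hQP l') (hc : Con P (χ : G → ℂ) l) (hc' : Con P (χ : G → ℂ) l')
    (hgood : (RealFun (χ : G → ℂ) ∧ RealLin l ∧ RealLin l') ∨ Subgroup.normalizer (P : Set G) = P) :
    ∃ (n : G) (hn : n ∈ Subgroup.normalizer (P : Set G)), ∀ x : P, l' x = shiftLin P n hn l x := by
  classical
  by_cases hT : Fong.inert Q (resLin Q hQP l) = ⊤
  · rcases ker_cases Q hQP hC l hT with h | ⟨hn, hb⟩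
    · refine ⟨1, one_mem _, fun x => ?_⟩
      rw [top_orbit h χ hc hc']
      exact congrArg l (Subtype.ext (by simp))
    · haveI := hn
      haveI := Fintype.ofFinite ((l.comp (Subgroup.inclusion hQP)).ker.map Q.subtype)
      haveI := Fintype.ofFinite (G ⧸ (l.comp (Subgroup.inclusion hQP)).ker.map Q.subtype)
      exact orbit_quot _ (ih _ (card_quot_lt hb) inferInstance) P hP hPi χ
        (trivial_on_ker Q hQP l hT χ hc) ho l l' hc hc' hgood
  · obtain ⟨T, hTeq⟩ : ∃ T, T = Fong.inert Q (resLin Q hQP l) := ⟨_, rfl⟩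
    have hPT : P ≤ T := hTeq ▸ le_inert_resLin Q hQP l
    haveI := Fintype.ofFinite T
    have hI : ∀ g : G, irrComp (MulAut.conjNormal g) (resLin Q hQP l) = resLin Q hQP l → g ∈ T :=
      fun g hg => hTeq ▸ hg
    obtain ⟨ψ, -, hψm, hψθ, hψc, hψo, hψr⟩ := exists_corr Q hQP T (hQP.trans hPT) hPT _ hI χ l rfl hc
    obtain ⟨φ, -, hφm, hφθ, hφc, -, -⟩ :=
      exists_corr Q hQP T (hQP.trans hPT) hPT _ hI χ l' heq.symm hc'
    have e : φ = ψ := (clifford_ind hI hψθ hψm).2.2 φ hφθ hφm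
    rw [e] at hφc
    obtain ⟨h1, h2⟩ := subgroupOf_facts T hPT hP hPi
    obtain ⟨n, hn, hnn⟩ := (ih T (card_lt_of_ne_top (hTeq ▸ hT)) inferInstance).orbit _ h1 h2 ψ
      (hψo ho) _ _ hψc hφc (hgood.imp
        (fun h => ⟨hψr h.1 h.2.1, fun x => h.2.1 _, fun x => h.2.2 _⟩) (subgroupOf_self_norm T hPT))
    refine ⟨(n : G), mem_normalizer_of_forall fun x hx => Subgroup.mem_subgroupOf.1
      ((Subgroup.mem_normalizer_iff.1 hn ⟨x, hPT hx⟩).1 (Subgroup.mem_subgroupOf.2 hx)), fun x => ?_⟩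
    exact hnn ⟨⟨(x : G), hPT x.2⟩, Subgroup.mem_subgroupOf.2 x.2⟩

theorem orbit_two (hC : Subgroup.centralizer (Q : Set G) ≤ Q) (hs : Group.IsSolvable G) (ih : Below G)
    (hP : IsPGroup 2 P) (hPi : ¬ 2 ∣ P.index) (χ : IrrCharacter G)
    (ho : Odd (charDegree (χ : G → ℂ))) (l l' : P →* ℂˣ)
    (hc : Con P (χ : G → ℂ) l) (hc' : Con P (χ : G → ℂ) l')
    (hgood : (RealFun (χ : G → ℂ) ∧ RealLin l ∧ RealLin l') ∨ Subgroup.normalizer (P : Set G) = P)
    (hQP : Q ≤ P) :
    ∃ (n : G) (hn : n ∈ Subgroup.normalizer (P : Set G)), ∀ x : P, l' x = shiftLin P n hn l x := by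
  classical
  obtain ⟨g, hg⟩ := mem_cliffOrbit.1 (mem_cliffOrbit_of_constituent
    (over_resLin Q hQP (irr_isCharacter χ.2) hc) (over_resLin Q hQP (irr_isCharacter χ.2) hc'))
  have hgP : ∀ x ∈ P, g * x * g⁻¹ ∈ Fong.inert Q (resLin Q hQP l) := fun x hx => by
    have h1 : irrComp (MulAut.conjNormal x) (resLin Q hQP l') = resLin Q hQP l' :=
      le_inert_resLin Q hQP l' hx
    rw [Fong.mem_inert]
    calc irrComp (MulAut.conjNormal (g * x * g⁻¹)) (resLin Q hQP l)
        = irrComp (MulAut.conjNormal g⁻¹) (irrComp (MulAut.conjNormal x)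
            (irrComp (MulAut.conjNormal g) (resLin Q hQP l))) := by
          rw [Fong.irrComp_mul, Fong.irrComp_mul, mul_assoc]
      _ = irrComp (MulAut.conjNormal g⁻¹) (irrComp (MulAut.conjNormal g) (resLin Q hQP l)) := by
          rw [hg, h1]
      _ = resLin Q hQP l := by rw [Fong.irrComp_mul, mul_inv_cancel, Fong.irrComp_one]
  obtain ⟨t, ht, hn⟩ := exists_normalizer_mul _ P (le_inert_resLin Q hQP l) hP hPi g hgP
  have e : resLin Q hQP (shiftLin P (t * g) hn l) = resLin Q hQP l' := by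
    have e1 : irrComp (MulAut.conjNormal (t * g)) (resLin Q hQP l) = resLin Q hQP l' := by
      rw [← Fong.irrComp_mul, Fong.mem_inert.1 ht, hg]
    rw [← e1]
    refine Subtype.ext (funext fun q => ?_)
    rw [irrComp_apply, resLin_apply, resLin_apply]
    exact congrArg Units.val (congrArg l (Subtype.ext (MulAut.conjNormal_apply (t * g) q).symm))
  obtain ⟨n, hn2, hnn⟩ := orbit_same Q hC hs ih hP hPi χ ho _ l' hQP e
    ((con_shift P (isClassFunction_character (irr_isCharacter χ.2)) hn fun _ => rfl).1 hc) hc'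
    (hgood.imp_left fun h => ⟨h.1, shiftLin_real h.2.1, h.2.2⟩)
  refine ⟨t * g * n, mul_mem hn hn2, fun x => (hnn x).trans ?_⟩
  exact congrArg l (Subtype.ext (by simp [mul_assoc]))

end Cfsg.Agent.Char.RealOdd
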