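import Cfsg.Agent.Lib.Char.RealOddMain
import Cfsg.Agent.Lib.Solv.PGroupPhi

/-!
# Counting real characters of odd degree
-/

open scoped ComplexConjugate
open Cfsg Module

set_option autoImplicit false
set_option linter.style.haveILetI false
set_option linter.unusedSectionVars false

namespace Cfsg.Agent.Char.RealOdd

universe u

variable {G : Type u} [Group G] [Fintype G]

theorem con_irrConj (P : Subgroup G) (χ : IrrCharacter G) {l : P →* ℂˣ} (hl : RealLin l)
    (h : Con P (χ : G → ℂ) l) : Con P (irrConj χ : G → ℂ) l := by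
  haveI := Fintype.ofFinite P
  rw [con_iff] at h ⊢
  have e : classInner (fun x : P => (irrConj χ : G → ℂ) x) (fun x : P => (l x : ℂ)) =
      conj (classInner (fun x : P => (χ : G → ℂ) x) (fun x : P => (l x : ℂ))) := by
    simp only [classInner, map_mul, map_inv₀, map_natCast, map_sum, irrConj_apply]
    congr 1
    exact Finset.sum_congr rfl fun x _ => by rw [realLin_conj hl, realLin_conj hl]
  rw [e, _root_.map_ne_zero]
  exact h

theorem mem_normalizer_subgroupOf {P T : Subgroup G} (hPT : P ≤ T) {n : T} :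
    n ∈ Subgroup.normalizer (P.subgroupOf T : Set T) ↔ (n : G) ∈ Subgroup.normalizer (P : Set G) := by
  haveI := Fintype.ofFinite T
  constructor
  · intro hn
    refine mem_normalizer_of_forall fun x hx => ?_
    exact Subgroup.mem_subgroupOf.1
      ((Subgroup.mem_normalizer_iff.1 hn ⟨x, hPT hx⟩).1 (Subgroup.mem_subgroupOf.2 hx))
  · intro hn
    refine mem_normalizer_of_forall fun x hx => Subgroup.mem_subgroupOf.2 ?_
    exact (Subgroup.mem_normalizer_iff.1 hn (x : G)).1 (Subgroup.mem_subgroupOf.1 hx)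

theorem card_eq (hs : Group.IsSolvable G) (P : Subgroup G) (hP : IsPGroup 2 P) (hPi : ¬ 2 ∣ P.index) :
    Nat.card {χ : IrrCharacter G // RealFun (χ : G → ℂ) ∧ Odd (charDegree (χ : G → ℂ))} =
      Nat.card {ψ : IrrCharacter (Subgroup.normalizer (P : Set G)) //
        RealFun (ψ : Subgroup.normalizer (P : Set G) → ℂ) ∧
          Odd (charDegree (ψ : Subgroup.normalizer (P : Set G) → ℂ))} := by
  classical
  have hG := mainProp G hs
  have hNs : Group.IsSolvable (Subgroup.normalizer (P : Set G)) := inferInstance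
  haveI := Fintype.ofFinite (Subgroup.normalizer (P : Set G))
  have hN := mainProp (Subgroup.normalizer (P : Set G)) hNs
  have hPN : P ≤ Subgroup.normalizer (P : Set G) := Subgroup.le_normalizer
  obtain ⟨hP', hPi'⟩ := subgroupOf_facts (Subgroup.normalizer (P : Set G)) hPN hP hPi
  choose l hlr hlc using fun χ : {χ : IrrCharacter G // RealFun (χ : G → ℂ) ∧
    Odd (charDegree (χ : G → ℂ))} => (exists_con_of_odd P hP χ.1 χ.2.2).2 χ.2.1
  let e := Subgroup.subgroupOfEquivOfLe hPN
  have hlr' : ∀ χ, RealLin ((l χ).comp e.toMonoidHom) := fun χ x => hlr χ _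
  choose ψ hψo hψr hψc using fun χ => (exists_char_of_lin _ hPi' ((l χ).comp e.toMonoidHom)).2 (hlr' χ)
  refine Nat.card_eq_of_bijective (fun χ => ⟨ψ χ, hψr χ, hψo χ⟩) ⟨?_, ?_⟩
  · intro a b hab
    have heq : ψ a = ψ b := congrArg Subtype.val hab
    obtain ⟨n, hn, hnn⟩ := hN.orbit _ hP' hPi' (ψ a) (hψo a) _ _ (hψc a) (heq ▸ hψc b)
      (Or.inl ⟨hψr a, hlr' a, hlr' b⟩)
    have h2 : Con P (a.1 : G → ℂ) (l b) :=
      (con_shift P (isClassFunction_character (irr_isCharacter a.1.2))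
        ((mem_normalizer_subgroupOf hPN).1 hn) fun x => hnn (e.symm x)).1 (hlc a)
    exact Subtype.ext (hG.uniq P hP hPi a.1 b.1 a.2.2 b.2.2 (l b) h2 (hlc b)
      (Or.inl ⟨a.2.1, b.2.1, hlr b⟩))
  · rintro ⟨φ, hφr, hφo⟩
    obtain ⟨m, hmr, hmc⟩ := (exists_con_of_odd _ hP' φ hφo).2 hφr
    have hm' : RealLin (m.comp e.symm.toMonoidHom) := fun x => hmr _
    obtain ⟨χ, hχo, hχr, hχc⟩ := (exists_char_of_lin P hPi (m.comp e.symm.toMonoidHom)).2 hm'
    refine ⟨⟨χ, hχr, hχo⟩, Subtype.ext ?_⟩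
    obtain ⟨n, hn, hnn⟩ := hG.orbit P hP hPi χ hχo _ _ hχc (hlc ⟨χ, hχr, hχo⟩)
      (Or.inl ⟨hχr, hm', hlr _⟩)
    have hn' : (⟨n, hn⟩ : Subgroup.normalizer (P : Set G)) ∈ Subgroup.normalizer
        (P.subgroupOf (Subgroup.normalizer (P : Set G)) : Set (Subgroup.normalizer (P : Set G))) :=
      (mem_normalizer_subgroupOf hPN).2 hn
    have h2 : Con (P.subgroupOf (Subgroup.normalizer (P : Set G))) (φ : _ → ℂ)
        ((l ⟨χ, hχr, hχo⟩).comp e.toMonoidHom) :=
      (con_shift _ (isClassFunction_character (irr_isCharacter φ.2))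
        (n := ⟨n, hn⟩) hn' (l := m) fun x => hnn (e x)).1 hmc
    exact hN.uniq _ hP' hPi' _ φ (hψo _) hφo _ (hψc _) h2 (Or.inl ⟨hψr _, hφr, hlr' _⟩)

theorem all_real_iff (hs : Group.IsSolvable G) (P : Subgroup G) (hP : IsPGroup 2 P) (hPi : ¬ 2 ∣ P.index) :
    (∀ χ : IrrCharacter G, Odd (charDegree (χ : G → ℂ)) → RealFun (χ : G → ℂ)) ↔
      (commutator P = frattini P ∧ Subgroup.normalizer (P : Set G) = P) := by
  classical
  haveI : Fact (Nat.Prime 2) := ⟨Nat.prime_two⟩
  have hG := mainProp G hs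
  constructor
  · intro hall
    have hN := hG.self_norm P hP hPi hall
    refine ⟨le_antisymm (Solv.commutator_le_frattini_pgroup hP) ?_, hN⟩
    have hreal : ∀ l : P →* ℂˣ, RealLin l := by
      intro l
      obtain ⟨χ, hχo, hχc⟩ := (exists_char_of_lin P hPi l).1
      obtain ⟨l₂, hr, hc⟩ := (exists_con_of_odd P hP χ hχo).2 (hall χ hχo)
      obtain ⟨n, hn, hnn⟩ := hG.orbit P hP hPi χ hχo l₂ l hc hχc (Or.inr hN)
      intro x
      rw [hnn x]
      exact hr _
    refine Solv.frattini_le (p := 2) _ (fun a b => Subgroup.commutator_mem_commutator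
      (Subgroup.mem_top a) (Subgroup.mem_top b)) fun a => ?_
    by_contra hne
    have h1 : Abelianization.of (a ^ 2) ≠ 1 := fun h => hne (by
      rwa [← MonoidHom.mem_ker, Abelianization.ker_of] at h)
    obtain ⟨φ, hφ⟩ := CommGroup.exists_apply_ne_one_of_hasEnoughRootsOfUnity (Abelianization P) ℂ h1
    refine hφ ?_
    have := hreal (φ.comp Abelianization.of) a
    rwa [← map_pow] at this
  · rintro ⟨hc, hN⟩ χ hχo
    obtain ⟨l, hl⟩ := (exists_con_of_odd P hP χ hχo).1
    have hlr : RealLin l := fun x => by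
      rw [← map_pow]
      exact MonoidHom.mem_ker.1 (Abelianization.commutator_subset_ker l
        (hc.symm ▸ Solv.pow_mem_frattini hP x))
    have hdeg : charDegree (irrConj χ : G → ℂ) = charDegree (χ : G → ℂ) := by
      simp [charDegree, irrConj_apply]
    exact (irrConj_eq_iff χ).1 (hG.uniq P hP hPi (irrConj χ) χ (hdeg ▸ hχo) hχo l
      (con_irrConj P χ hlr hl) hl (Or.inr hN))

end Cfsg.Agent.Char.RealOdd
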