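import Cfsg.Agent.Lib.Char.RealOddCaseTwo

/-!
# The induction
-/

open scoped ComplexConjugate
open Cfsg Module

set_option autoImplicit false
set_option linter.style.haveILetI false
set_option linter.unusedSectionVars false

namespace Cfsg.Agent.Char.RealOdd

universe u

theorem le_of_normal_two {G : Type u} [Group G] [Finite G] {Q P : Subgroup G} [Q.Normal]
    (hQ : IsPGroup 2 Q) (hP : IsPGroup 2 P) (hPi : ¬ 2 ∣ P.index) : Q ≤ P := by
  haveI : Fact (Nat.Prime 2) := ⟨Nat.prime_two⟩
  have h := (hP.toSylow hPi).is_maximal' (IsPGroup.to_sup_of_normal_left hQ hP)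
    (show ((hP.toSylow hPi : Sylow 2 G) : Subgroup G) ≤ Q ⊔ P by
      rw [IsPGroup.toSylow_coe]; exact le_sup_right)
  rw [IsPGroup.toSylow_coe] at h
  exact h ▸ le_sup_left

theorem pCore_two_self_centralizing {G : Type u} [Group G] [Finite G] (hs : Group.IsSolvable G)
    (hodd : ∀ K : Subgroup G, K.Normal → K ≠ ⊥ → 2 ∣ Nat.card K) :
    Subgroup.centralizer (Cfsg.pCore 2 G : Set G) ≤ Cfsg.pCore 2 G := by
  haveI : Fact (Nat.Prime 2) := ⟨Nat.prime_two⟩
  have hF : Cfsg.fittingSubgroup G = Cfsg.pCore 2 G := by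
    rw [Solv.fitting_eq_iSup_pCore]
    refine le_antisymm (iSup_le fun q => ?_)
      (le_iSup (fun q : Nat.Primes => Cfsg.pCore (q : ℕ) G) ⟨2, Nat.prime_two⟩)
    by_cases hq : (q : ℕ) = 2
    · rw [hq]
    · haveI := Fact.mk q.2
      by_cases hb : Cfsg.pCore (q : ℕ) G = ⊥
      · rw [hb]; exact bot_le
      · exfalso
        obtain ⟨k, hk⟩ := (Solv.pCore_isPGroup (G := G) (q : ℕ)).exists_card_eq
        have h2 := hodd _ (Solv.pCore_normal _) hb
        rw [hk] at h2
        exact hq ((Nat.prime_dvd_prime_iff_eq Nat.prime_two q.2).1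
          (Nat.prime_two.dvd_of_dvd_pow h2)).symm
  exact hF ▸ Solv.centralizer_fitting_le hs

theorem self_norm_two {G : Type u} [Group G] [Fintype G] (hs : Group.IsSolvable G) (ih : Below G)
    (Q : Subgroup G) [Q.Normal] (hC : Subgroup.centralizer (Q : Set G) ≤ Q)
    {P : Subgroup G} (hQP : Q ≤ P) (hP : IsPGroup 2 P) (hPi : ¬ 2 ∣ P.index)
    (hall : ∀ χ : IrrCharacter G, Odd (charDegree (χ : G → ℂ)) → RealFun (χ : G → ℂ)) :
    Subgroup.normalizer (P : Set G) = P := by
  refine le_antisymm (fun n hn => ?_) Subgroup.le_normalizer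
  by_cases hb : Q = ⊥
  · have h : n ∈ Subgroup.centralizer (Q : Set G) := Subgroup.mem_centralizer_iff.2 fun q hq => by
      rw [hb] at hq
      rw [Subgroup.mem_bot.1 hq, one_mul, mul_one]
    exact hQP (hC h)
  · haveI := Fintype.ofFinite Q
    haveI := Fintype.ofFinite (G ⧸ Q)
    exact sup_le le_rfl hQP (self_norm_quot Q (ih _ (card_quot_lt hb) inferInstance) P hP hPi hall n hn)

/-- The main property holds for solvable groups. -/
theorem mainProp : ∀ (G : Type u) [Group G] [Fintype G], Group.IsSolvable G → MainProp G := by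
  suffices h : ∀ n, ∀ (G : Type u) [Group G] [Fintype G],
      Nat.card G = n → Group.IsSolvable G → MainProp G from fun G _ _ hs => h _ G rfl hs
  intro n
  induction n using Nat.strong_induction_on with
  | _ n ihn =>
    intro G _ _ hn hs
    have ih : Below G := fun H _ _ hH hsH => ihn _ (hn ▸ hH) H rfl hsH
    classical
    by_cases hex : ∃ K : Subgroup G, K.Normal ∧ K ≠ ⊥ ∧ ¬ 2 ∣ Nat.card K
    · obtain ⟨K, hKn, hKb, hKo⟩ := hex
      obtain ⟨V, hVn, hVb, hVK, hmin⟩ := Solv.exists_minimal_normal_le K hKb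
      obtain ⟨hab, -⟩ := Solv.minimal_normal_elementaryAbelian V inferInstance hVb hmin
      haveI := Fintype.ofFinite V
      haveI := Fintype.ofFinite (G ⧸ V)
      exact case_one V (fun a b => hab.is_comm.comm a b)
        (fun h => hKo (h.trans (Subgroup.card_dvd_of_le hVK)))
        (ih _ (card_quot_lt hVb) inferInstance)
    · push Not at hex
      haveI : Fact (Nat.Prime 2) := ⟨Nat.prime_two⟩
      have hC := pCore_two_self_centralizing hs hex
      haveI := Solv.pCore_normal (G := G) 2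
      haveI := Fintype.ofFinite (Cfsg.pCore 2 G)
      have hle : ∀ P : Subgroup G, IsPGroup 2 P → ¬ 2 ∣ P.index → Cfsg.pCore 2 G ≤ P := fun P hP hPi =>
        le_of_normal_two (Solv.pCore_isPGroup 2) hP hPi
      refine ⟨?_, ?_, ?_⟩
      · intro P hP hPi χ χ' ho ho' l hc hc' hgood
        exact uniq_two _ hC hs ih hP hPi χ χ' ho ho' l hc hc' hgood (hle P hP hPi)
      · intro P hP hPi χ ho l l' hc hc' hgood
        exact orbit_two _ hC hs ih hP hPi χ ho l l' hc hc' hgood (hle P hP hPi)
      · intro P hP hPi hall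
        exact self_norm_two hs ih _ hC (hle P hP hPi) hP hPi hall

end Cfsg.Agent.Char.RealOdd
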