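import Cfsg.Agent.Lib.Char.ThirdMain
import Cfsg.Agent.Lib.Char.OddIndexPrincipal
import Cfsg.Agent.Lib.Char.Gallagher
import Cfsg.Agent.Lib.Char.UniqueDivDegree
import Mathlib

/-!
# Odd degree characters real on the elements of odd order lie in the principal 2-block
-/

set_option autoImplicit false
set_option linter.unusedSectionVars false

namespace Cfsg.Agent.Char

open Cfsg
open scoped ComplexConjugate

universe u

variable {G : Type u} [Group G] [Fintype G] {M : Ideal AlgInt}

theorem mem_principal_of_odd_real (hM : IsPModular 2 M) {χ : IrrCharacter G}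
    (hodd : Odd (deg (χ : G → ℂ)))
    (hreal : ∀ g : G, Odd (orderOf g) → (χ : G → ℂ) g⁻¹ = (χ : G → ℂ) g) :
    χ ∈ principalBlock M G := by
  classical
  have hMp := pmod_prime hM
  rw [← lam_regInd_unit_iff hM χ]
  obtain ⟨S', -, hsum⟩ := sum_pairs
    (Finset.univ.filter fun g : G => g ≠ 1 ∧ Odd (orderOf g))
    (fun g => (χ : G → ℂ) g) (fun g => g⁻¹) inv_inv
    (fun g hg => by simpa [orderOf_inv] using hg)
    (fun g hg e => by
      simp only [Finset.mem_filter, Finset.mem_univ, true_and] at hg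
      have h2 : orderOf g ∣ 2 := orderOf_dvd_of_pow_eq_one (by
        rw [pow_two]
        nth_rewrite 1 [← e]
        rw [inv_mul_cancel])
      rcases (Nat.dvd_prime Nat.prime_two).1 h2 with h | h
      · exact hg.1 (orderOf_eq_one_iff.1 h)
      · rw [h] at hg
        exact absurd hg.2 (by decide))
    (fun g hg => hreal g (by simpa using (Finset.mem_filter.1 hg).2.2))
  have hlam : lam (χ : G → ℂ) (regInd 2) =
      1 + 2 * ((∑ g ∈ S', (χ : G → ℂ) g) / (χ : G → ℂ) 1) := by
    rw [lam, mul_div_assoc', ← hsum, ← Finset.add_sum_erase _ _ (Finset.mem_univ (1 : G)), add_div]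
    congr 1
    · simp [regInd, irr_one_ne_zero χ.2]
    · congr 1
      simp only [regInd, ite_mul, zero_mul, one_mul]
      rw [show Finset.univ.filter (fun g : G => g ≠ 1 ∧ Odd (orderOf g)) =
          (Finset.univ.erase (1 : G)).filter (fun g => ¬ 2 ∣ orderOf g) by
        ext g
        simp [Nat.odd_iff, Nat.two_dvd_ne_zero], Finset.sum_filter]
      exact Finset.sum_congr rfl fun g _ => by split_ifs <;> rfl
  rw [hlam]
  intro h0
  refine memLI_one_iff hMp ?_
  have h2 : MemLocalIdeal M (2 * ((∑ g ∈ S', (χ : G → ℂ) g) / (χ : G → ℂ) 1)) := by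
    refine memLI_mul_right hMp (by exact_mod_cast memLI_p hM) ?_
    rw [div_eq_mul_inv, char_one_eq_deg (irr_isCharacter χ.2)]
    exact memLR_mul hMp (memLR_sum hMp _ _ fun g _ =>
      memLocalRing_of_isIntegral hMp.ne_top (char_isIntegral (irr_isCharacter χ.2) g))
      (memLR_inv_natCast hM (Nat.two_dvd_ne_zero.2 (Nat.odd_iff.1 hodd)))
  simpa using memLI_sub hMp h0 h2

theorem exists_extension_principal (hM : IsPModular 2 M) (N : Subgroup G) [N.Normal] [Fintype N]
    (θ : IrrCharacter N) (hreal : ∀ n : N, conj ((θ : N → ℂ) n) = (θ : N → ℂ) n)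
    (hodd : Odd (deg (θ : N → ℂ))) (η : IrrCharacter G) (hη : ∀ n : N, (η : G → ℂ) n = (θ : N → ℂ) n) :
    ∃ η' : IrrCharacter G, (∀ n : N, (η' : G → ℂ) n = (θ : N → ℂ) n) ∧ η' ∈ principalBlock M G := by
  classical
  have hinv : ∀ (g : G) (n : N), (θ : N → ℂ) (MulAut.conjNormal g n) = (θ : N → ℂ) n := fun g n => by
    rw [← hη, ← hη, MulAut.conjNormal_apply, isClassFunction_character (irr_isCharacter η.2)]
  have hconj : IsIrrCharacter G (fun g => conj ((η : G → ℂ) g)) := by
    refine isIrr_of_norm_one (isCharacter_conj (irr_isCharacter η.2)) ?_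
    rw [← irr_self η.2]
    simp only [classInner, Complex.conj_conj]
    congr 1
    exact Finset.sum_congr rfl fun g _ => mul_comm _ _
  have hmem : classInner (indFun N ((fun _ => (1 : ℂ)) * (θ : N → ℂ)))
      (fun g => conj ((η : G → ℂ) g)) ≠ 0 := by
    rw [show (fun _ => (1 : ℂ)) * (θ : N → ℂ) = (θ : N → ℂ) from funext fun n => one_mul _,
      frobenius N _ (isClassFunction_character (irr_isCharacter hconj))]
    simp only [hη, hreal]
    rw [irr_self θ.2]
    exact one_ne_zero
  obtain ⟨β, ⟨hβ, hβN⟩, hβη⟩ := (gallagher N (fun _ => (1 : ℂ)) (θ : N → ℂ) isIrrCharacter_one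
    (fun _ _ => rfl) hinv
    (by rw [show (fun _ => (1 : ℂ)) * (θ : N → ℂ) = (θ : N → ℂ) from funext fun n => one_mul _]
        exact θ.2)
    (irr_isCharacter η.2) hη).surjOn ⟨hconj, hmem⟩
  have hβη' : ∀ g, β g * (η : G → ℂ) g = conj ((η : G → ℂ) g) := congrFun hβη
  have hβ1 : β 1 = 1 := by
    have h := hβη' 1
    rw [conj_char_one (irr_isCharacter η.2)] at h
    exact mul_right_cancel₀ (irr_one_ne_zero η.2) (h.trans (one_mul _).symm)
  obtain ⟨μ, hμ⟩ := exists_hom_of_degree_one (irr_isCharacter hβ) hβ1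
  have hμN : ∀ n : N, μ n = 1 := fun n => Units.ext (by
    rw [← congrFun hμ (n : G), Units.val_one, (constituent_indFun_one_iff N hβ).1 hβN n, hβ1])
  set r := ordCompl[2] (Nat.card G) with hr
  have hrodd : ¬ 2 ∣ r := Nat.not_dvd_ordCompl Nat.prime_two Nat.card_pos.ne'
  set l := μ ^ ((r + 1) / 2) with hl
  have hsq : ∀ g : G, Odd (orderOf g) → l g * l g = μ g := by
    intro g hg
    have h1 : g ^ r = 1 := by
      refine orderOf_dvd_iff_pow_eq_one.1 (Nat.dvd_ordCompl_of_dvd_not_dvd ?_ ?_)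
      · exact orderOf_dvd_natCard g
      · exact fun hd => Nat.not_even_iff_odd.2 hg (even_iff_two_dvd.2 hd)
    rw [hl, MonoidHom.pow_apply, ← pow_add,
      show (r + 1) / 2 + (r + 1) / 2 = r + 1 by omega, pow_succ, ← map_pow, h1, map_one, one_mul]
  refine ⟨⟨_, isIrr_linear_smul l η⟩, fun n => ?_, mem_principal_of_odd_real hM ?_ ?_⟩
  · show (l n : ℂ) * (η : G → ℂ) n = _
    rw [hl, MonoidHom.pow_apply, hμN, one_pow, Units.val_one, one_mul, hη]
  · convert hodd using 1
    apply Nat.cast_injective (R := ℂ)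
    rw [← char_one_eq_deg (irr_isCharacter (isIrr_linear_smul l η)),
      ← char_one_eq_deg (irr_isCharacter θ.2), ← hη]
    simp
  · intro g hg
    show (l g⁻¹ : ℂ) * (η : G → ℂ) g⁻¹ = (l g : ℂ) * (η : G → ℂ) g
    rw [char_inv (irr_isCharacter η.2), ← hβη', congrFun hμ g, ← hsq g hg, map_inv, Units.val_mul,
      ← mul_assoc, ← mul_assoc, ← Units.val_mul, inv_mul_cancel, Units.val_one, one_mul]

end Cfsg.Agent.Char
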