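import Cfsg.Agent.Lib.Char.RealOddBasics

/-!
# Descending to quotients
-/

open scoped ComplexConjugate
open Cfsg Module

set_option autoImplicit false
set_option linter.style.haveILetI false
set_option linter.unusedSectionVars false

namespace Cfsg.Agent.Char.RealOdd

universe u

variable {G : Type u} [Group G] [Fintype G]

/-- The statement proved by induction. -/
structure MainProp (G : Type u) [Group G] [Fintype G] : Prop where
  uniq : ∀ P : Subgroup G, IsPGroup 2 P → ¬ 2 ∣ P.index → ∀ χ χ' : IrrCharacter G,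
    Odd (charDegree (χ : G → ℂ)) → Odd (charDegree (χ' : G → ℂ)) → ∀ l : P →* ℂˣ,
    Con P (χ : G → ℂ) l → Con P (χ' : G → ℂ) l →
    (RealFun (χ : G → ℂ) ∧ RealFun (χ' : G → ℂ) ∧ RealLin l) ∨ Subgroup.normalizer (P : Set G) = P →
    χ = χ'
  orbit : ∀ P : Subgroup G, IsPGroup 2 P → ¬ 2 ∣ P.index → ∀ χ : IrrCharacter G,
    Odd (charDegree (χ : G → ℂ)) → ∀ l l' : P →* ℂˣ,
    Con P (χ : G → ℂ) l → Con P (χ : G → ℂ) l' →
    (RealFun (χ : G → ℂ) ∧ RealLin l ∧ RealLin l') ∨ Subgroup.normalizer (P : Set G) = P →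
    ∃ (n : G) (hn : n ∈ Subgroup.normalizer (P : Set G)), ∀ x : P, l' x = shiftLin P n hn l x
  self_norm : ∀ P : Subgroup G, IsPGroup 2 P → ¬ 2 ∣ P.index →
    (∀ χ : IrrCharacter G, Odd (charDegree (χ : G → ℂ)) → RealFun (χ : G → ℂ)) →
    Subgroup.normalizer (P : Set G) = P

theorem mem_normalizer_of_forall {P : Subgroup G} {n : G} (h : ∀ x ∈ P, n * x * n⁻¹ ∈ P) :
    n ∈ Subgroup.normalizer (P : Set G) := by
  have hle : P.map (MulAut.conj n).toMonoidHom ≤ P := by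
    rintro _ ⟨x, hx, rfl⟩
    exact h x hx
  have heq : P.map (MulAut.conj n).toMonoidHom = P := Subgroup.eq_of_le_of_card_ge hle
    (le_of_eq (Subgroup.card_map_of_injective (MulAut.conj n).injective).symm)
  refine Subgroup.mem_normalizer_iff.2 fun x => ⟨h x, fun hx => ?_⟩
  rw [← heq] at hx
  obtain ⟨y, hy, hyx⟩ := hx
  rwa [← (MulAut.conj n).injective (hyx : MulAut.conj n y = MulAut.conj n x)]

theorem exists_normalizer_mul (L P : Subgroup G) (hPL : P ≤ L) (hP : IsPGroup 2 P) (hPi : ¬ 2 ∣ P.index)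
    (g : G) (hg : ∀ x ∈ P, g * x * g⁻¹ ∈ L) : ∃ l ∈ L, l * g ∈ Subgroup.normalizer (P : Set G) := by
  haveI : Fact (Nat.Prime 2) := ⟨Nat.prime_two⟩
  have hidx : ¬ 2 ∣ (P.subgroupOf L).index := fun h => hPi (h.trans (by
    rw [← Subgroup.relIndex_mul_index hPL]; exact dvd_mul_right _ _))
  let S₀ := (hP.of_equiv (Subgroup.subgroupOfEquivOfLe hPL).symm).toSylow hidx
  have hQ : IsPGroup 2 ((P.map (MulAut.conj g).toMonoidHom).subgroupOf L) :=
    (hP.map _).comap_of_injective L.subtype L.subtype_injective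
  obtain ⟨S, hS⟩ := hQ.exists_le_sylow
  obtain ⟨l, hl⟩ := MulAction.exists_smul_eq L S S₀
  refine ⟨l, l.2, mem_normalizer_of_forall fun x hx => ?_⟩
  have hmem : (⟨g * x * g⁻¹, hg x hx⟩ : L) ∈ (S : Subgroup L) :=
    hS (Subgroup.mem_subgroupOf.2 ⟨x, hx, rfl⟩)
  have h2 : l * ⟨g * x * g⁻¹, hg x hx⟩ * l⁻¹ ∈ (S₀ : Subgroup L) := by
    rw [← hl, Sylow.coe_subgroup_smul]
    exact ⟨_, hmem, rfl⟩
  rw [show ((S₀ : Sylow 2 L) : Subgroup L) = P.subgroupOf L from IsPGroup.toSylow_coe _ _,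
    Subgroup.mem_subgroupOf] at h2
  simpa [mul_assoc] using h2

theorem sum_hom_ne_zero {A B : Type u} [Group A] [Fintype A] [Group B] [Fintype B] (f : A →* B)
    (hf : Function.Surjective f) (F : B → ℂ) : (∑ a : A, F (f a) ≠ 0) ↔ ∑ b : B, F b ≠ 0 := by
  classical
  have h : ∑ a : A, F (f a) = (Finset.univ.filter fun a : A => f a = 1).card * ∑ b : B, F b := by
    rw [Finset.mul_sum, ← Finset.sum_fiberwise Finset.univ f]
    refine Finset.sum_congr rfl fun b _ => ?_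
    rw [Finset.sum_congr rfl (g := fun _ => F b) (fun a ha => by rw [(Finset.mem_filter.1 ha).2]),
      Finset.sum_const, nsmul_eq_mul]
    congr 2
    obtain ⟨a₀, rfl⟩ := hf b
    refine Finset.card_equiv (Equiv.mulLeft a₀⁻¹) fun a => ?_
    simp only [Finset.mem_filter, Finset.mem_univ, true_and, Equiv.coe_mulLeft, map_mul, map_inv]
    rw [inv_mul_eq_one]
    exact eq_comm
  rw [h, mul_ne_zero_iff]
  refine ⟨fun h => h.2, fun h => ⟨Nat.cast_ne_zero.2 ?_, h⟩⟩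
  exact Finset.card_ne_zero.2 ⟨1, by simp⟩

variable (K : Subgroup G) [K.Normal] [Fintype K] [Fintype (G ⧸ K)]

theorem lin_trivial_of_con (P : Subgroup G) (χ : IrrCharacter G)
    (hχ : ∀ k ∈ K, (χ : G → ℂ) k = (χ : G → ℂ) 1) {l : P →* ℂˣ} (h : Con P (χ : G → ℂ) l)
    (x : P) (hx : (x : G) ∈ K) : l x = 1 := by
  haveI := Fintype.ofFinite P
  by_contra hne
  rw [con_iff] at h
  apply h
  obtain ⟨I, hI⟩ : ∃ I : ℂ, classInner (fun y : P => (χ : G → ℂ) y) (fun y : P => (l y : ℂ)) = I := ⟨_, rfl⟩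
  rw [hI]
  have he : I = conj (l x : ℂ) * I := by
    rw [← hI]
    simp only [classInner]
    rw [mul_left_comm]
    congr 1
    rw [Finset.mul_sum]
    refine Eq.symm (Fintype.sum_equiv (Equiv.mulLeft x) _ _ fun y => ?_)
    show conj (l x : ℂ) * ((χ : G → ℂ) y * conj (l y : ℂ)) = (χ : G → ℂ) ((x : G) * y) * conj (l (x * y) : ℂ)
    rw [trivial_mul K χ.2 (fun n => hχ n n.2) ⟨x, hx⟩ (y : G), map_mul, Units.val_mul, map_mul]
    ring
  have h2 : (1 - conj (l x : ℂ)) * I = 0 := by rw [sub_mul, one_mul, ← he, sub_self]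
  refine (mul_eq_zero.1 h2).resolve_left fun h3 => hne (Units.ext ?_)
  have h4 := congrArg conj (sub_eq_zero.1 h3)
  rw [map_one, Complex.conj_conj] at h4
  simpa using h4.symm

/-- The image of `P` in the quotient. -/
abbrev img (P : Subgroup G) : Subgroup (G ⧸ K) := P.map (QuotientGroup.mk' K)

theorem descend (P : Subgroup G) (χ : IrrCharacter G)
    (hχ : ∀ k ∈ K, (χ : G → ℂ) k = (χ : G → ℂ) 1) (l : P →* ℂˣ) (h : Con P (χ : G → ℂ) l) :
    ∃ (χ' : IrrCharacter (G ⧸ K)) (l' : img K P →* ℂˣ),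
      (∀ g : G, (χ' : G ⧸ K → ℂ) g = (χ : G → ℂ) g) ∧
      (∀ x : P, l' ((QuotientGroup.mk' K).subgroupMap P x) = l x) ∧
      Con (img K P) (χ' : G ⧸ K → ℂ) l' ∧
      charDegree (χ' : G ⧸ K → ℂ) = charDegree (χ : G → ℂ) ∧
      (RealFun (χ : G → ℂ) → RealFun (χ' : G ⧸ K → ℂ)) ∧ (RealLin l → RealLin l') := by
  classical
  haveI := Fintype.ofFinite P
  haveI := Fintype.ofFinite (img K P)
  obtain ⟨χ', hχ'⟩ := exists_deflate K χ.2 hχ
  set f : P →* img K P := (QuotientGroup.mk' K).subgroupMap P with hf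
  have hfs : Function.Surjective f := (QuotientGroup.mk' K).subgroupMap_surjective P
  have hker : f.ker ≤ l.ker := fun x hx => by
    refine MonoidHom.mem_ker.2 (lin_trivial_of_con K P χ hχ h x ?_)
    exact (QuotientGroup.eq_one_iff _).1 (congrArg Subtype.val (MonoidHom.mem_ker.1 hx))
  let l' : img K P →* ℂˣ := f.liftOfSurjective hfs ⟨l, hker⟩
  have hl' : ∀ x : P, l' (f x) = l x := fun x =>
    MonoidHom.liftOfRightInverse_comp_apply _ _ _ ⟨l, hker⟩ x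
  refine ⟨χ', l', hχ', hl', ?_, ?_, fun hr q => ?_, fun hr q => ?_⟩
  · rw [con_iff, classInner, mul_ne_zero_iff]
    refine ⟨inv_ne_zero (Nat.cast_ne_zero.2 Nat.card_pos.ne'), ?_⟩
    rw [← sum_hom_ne_zero f hfs]
    rw [con_iff, classInner, mul_ne_zero_iff] at h
    refine fun h0 => h.2 ?_
    rw [← h0]
    refine Finset.sum_congr rfl fun x _ => ?_
    rw [hl']
    congr 1
    exact (hχ' (x : G)).symm
  · simp only [charDegree]
    rw [← QuotientGroup.mk_one, hχ']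
  · obtain ⟨g, rfl⟩ := QuotientGroup.mk_surjective q
    rw [hχ']; exact hr g
  · obtain ⟨x, rfl⟩ := hfs q
    rw [hl']; exact hr x

theorem img_hyps (P : Subgroup G) (hP : IsPGroup 2 P) (hPi : ¬ 2 ∣ P.index) :
    IsPGroup 2 (img K P) ∧ ¬ 2 ∣ (img K P).index :=
  ⟨hP.map _, fun h => hPi (h.trans (Subgroup.index_map_dvd P (QuotientGroup.mk'_surjective K)))⟩

theorem lift_normalizer (P : Subgroup G) (hP : IsPGroup 2 P) (hPi : ¬ 2 ∣ P.index) (q : G ⧸ K)
    (hq : q ∈ Subgroup.normalizer (img K P : Set (G ⧸ K))) :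
    ∃ (y : P) (n : G), n ∈ Subgroup.normalizer (P : Set G) ∧ q = QuotientGroup.mk (y : G) * QuotientGroup.mk n := by
  obtain ⟨g, rfl⟩ := QuotientGroup.mk_surjective q
  obtain ⟨l, hl, hn⟩ := exists_normalizer_mul (P ⊔ K) P le_sup_left hP hPi g fun x hx => by
    have h := (Subgroup.mem_normalizer_iff.1 hq (QuotientGroup.mk x)).1 ⟨x, hx, rfl⟩
    obtain ⟨z, hz, hzx⟩ := h
    rw [show g * x * g⁻¹ = z * (z⁻¹ * (g * x * g⁻¹)) by group]
    refine Subgroup.mul_mem_sup hz ((QuotientGroup.eq (s := K)).1 ?_)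
    rw [QuotientGroup.mk_mul, QuotientGroup.mk_mul, QuotientGroup.mk_inv]
    exact hzx
  obtain ⟨y, hy, k, hk, rfl⟩ := Subgroup.mem_sup_of_normal_right.1 hl
  refine ⟨⟨y⁻¹, inv_mem hy⟩, y * k * g, hn, ?_⟩
  rw [← QuotientGroup.mk_mul]
  rw [show y⁻¹ * (y * k * g) = k * g by group, QuotientGroup.mk_mul, (QuotientGroup.eq_one_iff k).2 hk, one_mul]

theorem img_self_norm (P : Subgroup G) (hP : IsPGroup 2 P) (hPi : ¬ 2 ∣ P.index)
    (hN : Subgroup.normalizer (P : Set G) = P) :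
    Subgroup.normalizer (img K P : Set (G ⧸ K)) = img K P := by
  refine le_antisymm (fun q hq => ?_) Subgroup.le_normalizer
  obtain ⟨y, n, hn, rfl⟩ := lift_normalizer K P hP hPi q hq
  rw [hN] at hn
  exact mul_mem ⟨_, y.2, rfl⟩ ⟨n, hn, rfl⟩

theorem uniq_quot (ih : MainProp (G ⧸ K)) (P : Subgroup G) (hP : IsPGroup 2 P) (hPi : ¬ 2 ∣ P.index)
    (χ χ' : IrrCharacter G) (hχ : ∀ k ∈ K, (χ : G → ℂ) k = (χ : G → ℂ) 1)
    (hχ' : ∀ k ∈ K, (χ' : G → ℂ) k = (χ' : G → ℂ) 1)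
    (ho : Odd (charDegree (χ : G → ℂ))) (ho' : Odd (charDegree (χ' : G → ℂ))) (l : P →* ℂˣ)
    (hc : Con P (χ : G → ℂ) l) (hc' : Con P (χ' : G → ℂ) l)
    (hgood : (RealFun (χ : G → ℂ) ∧ RealFun (χ' : G → ℂ) ∧ RealLin l) ∨
      Subgroup.normalizer (P : Set G) = P) : χ = χ' := by
  obtain ⟨a, la, ha, hla, hca, hda, hra, hlra⟩ := descend K P χ hχ l hc
  obtain ⟨b, lb, hb, hlb, hcb, hdb, hrb, -⟩ := descend K P χ' hχ' l hc'
  have hll : lb = la := by
    refine MonoidHom.ext fun q => ?_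
    obtain ⟨x, rfl⟩ := (QuotientGroup.mk' K).subgroupMap_surjective P q
    rw [hla, hlb]
  rw [hll] at hcb
  obtain ⟨h1, h2⟩ := img_hyps K P hP hPi
  have hab : a = b := ih.uniq _ h1 h2 a b (hda ▸ ho) (hdb ▸ ho') la hca hcb
    (hgood.imp (fun h => ⟨hra h.1, hrb h.2.1, hlra h.2.2⟩) (img_self_norm K P hP hPi))
  exact Subtype.ext (funext fun g => by rw [← ha, hab, hb])

theorem orbit_quot (ih : MainProp (G ⧸ K)) (P : Subgroup G) (hP : IsPGroup 2 P) (hPi : ¬ 2 ∣ P.index)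
    (χ : IrrCharacter G) (hχ : ∀ k ∈ K, (χ : G → ℂ) k = (χ : G → ℂ) 1)
    (ho : Odd (charDegree (χ : G → ℂ))) (l l' : P →* ℂˣ)
    (hc : Con P (χ : G → ℂ) l) (hc' : Con P (χ : G → ℂ) l')
    (hgood : (RealFun (χ : G → ℂ) ∧ RealLin l ∧ RealLin l') ∨ Subgroup.normalizer (P : Set G) = P) :
    ∃ (n : G) (hn : n ∈ Subgroup.normalizer (P : Set G)), ∀ x : P, l' x = shiftLin P n hn l x := by
  obtain ⟨a, la, ha, hla, hca, hda, hra, hlra⟩ := descend K P χ hχ l hc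
  obtain ⟨b, lb, hb, hlb, hcb, -, -, hlrb⟩ := descend K P χ hχ l' hc'
  have hab : b = a := Subtype.ext (funext fun q => by
    obtain ⟨g, rfl⟩ := QuotientGroup.mk_surjective q
    rw [ha, hb])
  rw [hab] at hcb
  obtain ⟨h1, h2⟩ := img_hyps K P hP hPi
  obtain ⟨q, hq, hqq⟩ := ih.orbit _ h1 h2 a (hda ▸ ho) la lb hca hcb
    (hgood.imp (fun h => ⟨hra h.1, hlra h.2.1, hlrb h.2.2⟩) (img_self_norm K P hP hPi))
  obtain ⟨y, n, hn, rfl⟩ := lift_normalizer K P hP hPi q hq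
  refine ⟨n, hn, fun x => ?_⟩
  rw [← hlb x, hqq]
  let z : P := ⟨n * (x : G) * n⁻¹, (Subgroup.mem_normalizer_iff.1 hn _).1 x.2⟩
  show la _ = l z
  rw [← hla z]
  have e : (⟨(QuotientGroup.mk (y : G) * QuotientGroup.mk n) *
      ((((QuotientGroup.mk' K).subgroupMap P x : img K P)) : G ⧸ K) *
      (QuotientGroup.mk (y : G) * QuotientGroup.mk n)⁻¹,
      (Subgroup.mem_normalizer_iff.1 hq _).1 ((QuotientGroup.mk' K).subgroupMap P x).2⟩ : img K P) =
      (QuotientGroup.mk' K).subgroupMap P y * (QuotientGroup.mk' K).subgroupMap P z *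
        ((QuotientGroup.mk' K).subgroupMap P y)⁻¹ := Subtype.ext (by simp [z, mul_assoc])
  rw [e, map_mul, map_mul, map_inv, mul_comm (la _), mul_inv_cancel_right]

end Cfsg.Agent.Char.RealOdd
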