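import Cfsg.Agent.Lib.Char.RealOddQuot
import Cfsg.Agent.Lib.Char.KerPPrime
import Cfsg.Agent.Lib.Char.FongReynolds

/-!
# Tools for the correspondence of odd degree characters
-/

open scoped ComplexConjugate
open Cfsg Module

set_option autoImplicit false
set_option linter.style.haveILetI false
set_option linter.unusedSectionVars false

namespace Cfsg.Agent.Char.RealOdd

universe u

variable {G : Type u} [Group G] [Fintype G]

theorem trivial_on_odd (V : Subgroup G) [V.Normal] [Fintype V] (hab : ∀ a b : V, a * b = b * a)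
    (hV : ¬ 2 ∣ Nat.card V) (P : Subgroup G) (hP : IsPGroup 2 P) (χ : IrrCharacter G)
    (hodd : Odd (charDegree (χ : G → ℂ)))
    (h : RealFun (χ : G → ℂ) ∨ V ⊓ Subgroup.centralizer (P : Set G) = ⊥) :
    ∀ k ∈ V, (χ : G → ℂ) k = (χ : G → ℂ) 1 := by
  classical
  haveI : Fact (Nat.Prime 2) := ⟨Nat.prime_two⟩
  have hlin : ∀ φ : IrrCharacter V, (φ : V → ℂ) 1 = 1 := forall_linear_iff_comm.mp hab
  suffices ∃ θ : IrrCharacter V,
      classInner (fun x : V => (χ : G → ℂ) x) (θ : V → ℂ) ≠ 0 ∧ ∀ x, (θ : V → ℂ) x = 1 by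
    obtain ⟨θ, h1, h2⟩ := this
    intro k hk
    have e : θ = ⟨fun _ => 1, isIrrCharacter_one⟩ := Subtype.ext (funext h2)
    exact trivial_on_of_constituent V χ (e ▸ h1) ⟨k, hk⟩
  have hc : IsCharacter V (fun x : V => (χ : G → ℂ) x) := isCharacter_comp V.subtype (irr_isCharacter χ.2)
  rcases h with hr | hC
  · obtain ⟨φ, h1, -, h3⟩ := (exists_odd_constituent hc _ (irr_at_one_eq_deg χ) hodd).2 fun x => hr x
    refine ⟨φ, h1, fun x => ?_⟩
    obtain ⟨m, hm⟩ := exists_hom_of_degree_one (irr_isCharacter φ.2) (hlin φ)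
    have hx := realFun_conj h3 x
    rw [hm] at hx
    have h2 := char_inv (isCharacter_linear m) x
    rw [hx, Units.val_inj, map_inv, inv_eq_iff_mul_eq_one, ← pow_two] at h2
    have hm1 : m x = 1 := orderOf_eq_one_iff.1 (Nat.eq_one_of_dvd_coprimes
      ((Nat.Prime.coprime_iff_not_dvd Nat.prime_two).2 hV) (orderOf_dvd_of_pow_eq_one h2)
      (orderOf_dvd_of_pow_eq_one (by rw [← map_pow, pow_card_eq_one', map_one])))
    rw [hm]
    show (m x : ℂ) = 1
    rw [hm1, Units.val_one]
  · letI act : MulAction P (IrrCharacter V) := irrConjAct V P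
    choose m hm using fun φ : IrrCharacter V => classInner_natCast hc (irr_isCharacter φ.2)
    have hinv : ∀ (a : P) (φ : IrrCharacter V), m (a • φ) = m φ := fun a φ => by
      have h := classInner_restrict_conj (N := V)
        (isClassFunction_character (irr_isCharacter χ.2)) (φ : V → ℂ) (a : G)⁻¹
      have h' : (m (a • φ) : ℂ) = m φ := (hm (a • φ)).symm.trans (h.trans (hm φ))
      exact_mod_cast h'
    have hdeg : charDegree (χ : G → ℂ) = ∑ φ : IrrCharacter V, m φ := by
      have h := congrFun (char_expansion hc) 1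
      simp only [Finset.sum_apply, Pi.smul_apply, smul_eq_mul, hlin, hm, mul_one] at h
      rw [show ((1 : V) : G) = 1 from rfl, irr_at_one_eq_deg] at h
      exact_mod_cast h
    obtain ⟨θ, hθ, hθm⟩ : ∃ θ : IrrCharacter V,
        θ ∈ MulAction.fixedPoints P (IrrCharacter V) ∧ m θ ≠ 0 := by
      by_contra hne
      push Not at hne
      have h := sum_eq_sum_fixed hP m hinv
      rw [← hdeg, Finset.sum_eq_zero fun θ hθ => hne θ (Finset.mem_filter.mp hθ).2, Nat.cast_zero,
        CharP.cast_eq_zero_iff (ZMod 2) 2] at h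
      exact Nat.not_even_iff_odd.mpr hodd (even_iff_two_dvd.mpr h)
    refine ⟨θ, by rw [hm]; exact Nat.cast_ne_zero.2 hθm,
      (invariant_irr_iff V hV P hP).mp hC θ fun a x => ?_⟩
    have h1 := congrFun (congrArg Subtype.val (hθ a⁻¹)) x
    change (θ : V → ℂ) (MulAut.conjNormal ((a⁻¹ : P) : G)⁻¹ x) = _ at h1
    rwa [Subgroup.coe_inv, inv_inv] at h1

/-- A full Sylow subgroup: the only character over a linear one is that one. -/
theorem eq_of_top {P : Subgroup G} (hP : P = ⊤) (χ : IrrCharacter G) {l : P →* ℂˣ}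
    (h : Con P (χ : G → ℂ) l) (x : P) : (χ : G → ℂ) x = l x := by
  subst hP
  let L : IrrCharacter G :=
    ⟨_, isIrrCharacter_linear (l.comp (Subgroup.topEquiv.symm.toMonoidHom : G →* (⊤ : Subgroup G)))⟩
  have e : classInner (χ : G → ℂ) (L : G → ℂ) ≠ 0 := by
    intro h0
    apply h
    have hz : ∀ y : G, Fong.zext (⊤ : Subgroup G) (fun x : (⊤ : Subgroup G) => (l x : ℂ)) y =
        conj ((L : G → ℂ) y) := fun y => by rw [Fong.zext_mem _ _ (Subgroup.mem_top y)]; rfl
    rw [classInner, mul_eq_zero] at h0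
    rw [← h0.resolve_left (inv_ne_zero (Nat.cast_ne_zero.2 Nat.card_pos.ne'))]
    exact Finset.sum_congr rfl fun y _ => by rw [hz, mul_comm]
  rw [irrC_orth] at e
  have : χ = L := by by_contra hne; exact e (if_neg hne)
  rw [this]
  rfl

theorem top_uniq {P : Subgroup G} (hP : P = ⊤) (χ χ' : IrrCharacter G) {l : P →* ℂˣ}
    (h : Con P (χ : G → ℂ) l) (h' : Con P (χ' : G → ℂ) l) : χ = χ' :=
  Subtype.ext (funext fun g => by
    have e1 := eq_of_top hP χ h ⟨g, hP ▸ Subgroup.mem_top g⟩
    have e2 := eq_of_top hP χ' h' ⟨g, hP ▸ Subgroup.mem_top g⟩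
    exact e1.trans e2.symm)

theorem top_orbit {P : Subgroup G} (hP : P = ⊤) (χ : IrrCharacter G) {l l' : P →* ℂˣ}
    (h : Con P (χ : G → ℂ) l) (h' : Con P (χ : G → ℂ) l') : l' = l :=
  MonoidHom.ext fun x => Units.ext ((eq_of_top hP χ h' x).symm.trans (eq_of_top hP χ h x))

/-- Some constituent is over the same function. -/
theorem exists_constituent_over' (P : Subgroup G) {F : G → ℂ} (hF : IsCharacter G F) {f : P → ℂ}
    (h : Fong.Over P f F) :
    ∃ φ : IrrCharacter G, classInner F (φ : G → ℂ) ≠ 0 ∧ Fong.Over P f (φ : G → ℂ) := by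
  classical
  by_contra hno
  push Not at hno
  apply h
  conv_lhs =>
    arg 2; ext x
    rw [classFun_expansion (isClassFunction_character hF)]
  simp only [Finset.sum_apply, Pi.smul_apply, smul_eq_mul, Finset.mul_sum]
  rw [Finset.sum_comm]
  refine Finset.sum_eq_zero fun φ _ => ?_
  by_cases h0 : classInner F (φ : G → ℂ) = 0
  · exact Finset.sum_eq_zero fun x _ => by rw [h0, zero_mul, mul_zero]
  · have h1 : ∑ x : G, Fong.zext P f x * (φ : G → ℂ) x = 0 := not_not.1 (hno φ h0)
    rw [show ∑ x : G, Fong.zext P f x * (classInner F (φ : G → ℂ) * (φ : G → ℂ) x) =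
        classInner F (φ : G → ℂ) * ∑ x : G, Fong.zext P f x * (φ : G → ℂ) x by
      rw [Finset.mul_sum]; exact Finset.sum_congr rfl fun x _ => by ring, h1, mul_zero]

theorem constituent_of_con {A B : Type u} [Group A] [Fintype A] [Group B] [Fintype B]
    (P : Subgroup A) {φ : A → ℂ} (hφ : IsCharacter A φ) {l : P →* ℂˣ} (h : Con P φ l)
    (f : B →* A) (g : B →* P) (hfg : ∀ b, (g b : A) = f b) :
    classInner (fun b : B => φ (f b)) (fun b : B => (l (g b) : ℂ)) ≠ 0 := by
  haveI := Fintype.ofFinite P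
  rw [con_iff] at h
  have h2 := Fong.inner_ne_zero_of_constituent g (a := fun x : P => φ x)
    (isCharacter_comp P.subtype hφ) ⟨_, isIrrCharacter_linear l⟩
    ⟨_, isIrrCharacter_linear (l.comp g)⟩ h (by
      show classInner (fun b => ((l.comp g) b : ℂ)) (fun b => ((l.comp g) b : ℂ)) ≠ 0
      rw [irr_self (isIrrCharacter_linear (l.comp g))]
      exact one_ne_zero)
  simpa only [hfg, MonoidHom.comp_apply] using h2

theorem con_subgroupOf (T P : Subgroup G) (hPT : P ≤ T) [Fintype T] (F : G → ℂ) (l : P →* ℂˣ) :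
    Con (P.subgroupOf T) (fun t : T => F t) (l.comp (Subgroup.subgroupOfEquivOfLe hPT).toMonoidHom) ↔
      Con P F l := by
  have e : ∑ x : G, Fong.zext P (fun y : P => (l y : ℂ)) x * F x =
      ∑ x : T, Fong.zext (P.subgroupOf T)
        (fun y => (l (Subgroup.subgroupOfEquivOfLe hPT y) : ℂ)) x * F x := by
    rw [Fong.sum_supported T _ fun x hx => by rw [Fong.zext_not_mem P _ fun h => hx (hPT h), zero_mul]]
    refine Finset.sum_congr rfl fun t _ => ?_
    congr 1
    by_cases ht : (t : G) ∈ P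
    · rw [Fong.zext_mem P _ ht, Fong.zext_mem (P.subgroupOf T) _ (Subgroup.mem_subgroupOf.2 ht)]
      rfl
    · rw [Fong.zext_not_mem P _ ht,
        Fong.zext_not_mem (P.subgroupOf T) _ fun h => ht (Subgroup.mem_subgroupOf.1 h)]
  unfold Con Fong.Over
  rw [e]
  rfl

end Cfsg.Agent.Char.RealOdd
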