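import Cfsg.Agent.Lib.Char.RelFixLayer
import Cfsg.Agent.Lib.Char.FongReynolds
import Cfsg.Agent.Lib.Char.ThompsonDegree

/-!
# The correspondence of Glauberman relative to a normal Sylow subgroup
-/

set_option autoImplicit false
set_option linter.style.haveILetI false
set_option linter.unusedSectionVars false

namespace Cfsg.Agent.Char

open Cfsg Module
open scoped ComplexConjugate

universe u v

variable {G : Type u} [Group G] [Fintype G] {S : Type v} [Group S] {p : ℕ}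
  (φ : S →* MulAut G) (N : Subgroup G) [N.Normal] [Fintype N]

/-- The stabilizer of a character of a normal subgroup. -/
def irrStabilizer (θ : IrrCharacter N) : Subgroup G where
  carrier := {g | irrComp (MulAut.conjNormal g) θ = θ}
  one_mem' := irrComp_conj_one θ
  mul_mem' := fun {a b} ha hb => by
    show irrComp (MulAut.conjNormal (a * b)) θ = θ
    rw [← irrComp_conj_mul]
    simp only [Set.mem_setOf_eq] at ha hb
    rw [ha, hb]
  inv_mem' := fun {a} ha => by
    show irrComp (MulAut.conjNormal a⁻¹) θ = θ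
    simp only [Set.mem_setOf_eq] at ha
    conv_lhs => rw [← ha]
    rw [irrComp_conj_mul, mul_inv_cancel, irrComp_conj_one]

theorem mem_irrStabilizer {θ : IrrCharacter N} {g : G} :
    g ∈ irrStabilizer N θ ↔ irrComp (MulAut.conjNormal g) θ = θ :=
  Iff.rfl

theorem le_irrStabilizer (θ : IrrCharacter N) : N ≤ irrStabilizer N θ := fun g hg =>
  Subtype.ext (funext fun n => by
    rw [irrComp_apply, ← isClassFunction_character (irr_isCharacter θ.2) n (⟨g, hg⟩ : N)]
    exact congrArg _ (Subtype.ext (by simp)))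

/-- Conjugation by images of elements relating invariant characters relates them again. -/
theorem conj_act_apply (hstab : ∀ s, ∀ n ∈ N, φ s n ∈ N) {θ θ' : IrrCharacter N}
    (hθ : ∀ s (n : N), (θ : N → ℂ) ⟨φ s n, hstab s n n.2⟩ = (θ : N → ℂ) n)
    (hθ' : ∀ s (n : N), (θ' : N → ℂ) ⟨φ s n, hstab s n n.2⟩ = (θ' : N → ℂ) n) {g : G}
    (hg : irrComp (MulAut.conjNormal g) θ = θ') (s : S) :
    irrComp (MulAut.conjNormal (φ s g)) θ = θ' := by
  refine Subtype.ext (funext fun n => ?_)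
  set n₀ : N := ⟨φ s⁻¹ n, hstab _ _ n.2⟩ with hn₀
  have hback : φ s (n₀ : G) = n := by
    rw [hn₀, ← MulAut.mul_apply, ← map_mul, mul_inv_cancel, map_one]; rfl
  have hn : n = ⟨φ s n₀, hstab s n₀ n₀.2⟩ := Subtype.ext hback.symm
  rw [irrComp_apply]
  conv_rhs => rw [hn, hθ', ← hg, irrComp_apply, ← hθ s]
  refine congrArg _ (Subtype.ext ?_)
  simp only [MulAut.conjNormal_apply, map_mul, map_inv, hback]

/-- An invariant character has an invariant constituent on a normal subgroup of index prime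
to `p`. -/
theorem exists_invariant_constituent (hp : p.Prime) (hS : IsPGroup p S) (hidx : ¬ p ∣ N.index)
    (hstab : ∀ s, ∀ n ∈ N, φ s n ∈ N) (χ : IrrCharacter G) (hχ : IsActInvariant φ (χ : G → ℂ)) :
    ∃ θ : IrrCharacter N, classInner (fun n : N => (χ : G → ℂ) n) (θ : N → ℂ) ≠ 0 ∧
      ∀ s (n : N), (θ : N → ℂ) ⟨φ s n, hstab s n n.2⟩ = (θ : N → ℂ) n := by
  classical
  haveI := Fact.mk hp
  obtain ⟨θ₁, hθ₁⟩ := exists_constituent (N := N) χ
  letI := irrAction (restrictAct φ N hstab)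
  let X := {θ : IrrCharacter N // classInner (fun n : N => (χ : G → ℂ) n) (θ : N → ℂ) ≠ 0}
  have hX : Nat.card X = (cliffOrbit N θ₁).card := by
    rw [Nat.card_eq_fintype_card]
    refine Fintype.card_of_subtype _ fun θ => ⟨fun h => ?_, fun h => mem_cliffOrbit_of_constituent hθ₁ h⟩
    obtain ⟨g, rfl⟩ := mem_cliffOrbit.mp h
    exact constituent_irrComp hθ₁ g
  have hsmul : ∀ (s : S) (θ : X),
      classInner (fun n : N => (χ : G → ℂ) n) ((s • θ.1 : IrrCharacter N) : N → ℂ) ≠ 0 :=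
    fun s θ h0 => θ.2 (by
      rw [← classInner_comp_mulEquiv (restrictAct φ N hstab s⁻¹ : MulAut N)
        (fun n : N => (χ : G → ℂ) n) (θ.1 : N → ℂ)]
      refine Eq.trans ?_ h0
      congr 1
      exact funext fun n => hχ s⁻¹ n)
  letI : MulAction S X :=
    { smul := fun s θ => ⟨s • θ.1, hsmul s θ⟩
      one_smul := fun θ => Subtype.ext (one_smul S θ.1)
      mul_smul := fun s t θ => Subtype.ext (mul_smul s t θ.1) }
  obtain ⟨θ, hθ⟩ := hS.nonempty_fixed_point_of_prime_not_dvd_card X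
    (fun hd => hidx (hd.trans (hX ▸ card_cliffOrbit_dvd_index N θ₁)))
  refine ⟨θ.1, θ.2, fun s n => ?_⟩
  have := congrArg (fun x : X => (x.1 : N → ℂ) n) (hθ s⁻¹)
  exact (congrArg (fun x => (θ.1 : N → ℂ) (restrictAct φ N hstab x n)) (inv_inv s)).symm.trans this

/-- Clifford correspondents are invariant together. -/
theorem clifford_invariant (T : Subgroup G) [Fintype T] (hNT : N ≤ T)
    (hT : ∀ s, ∀ t ∈ T, φ s t ∈ T) (hstab : ∀ s, ∀ n ∈ N, φ s n ∈ N) (θ : IrrCharacter N)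
    (hθ : ∀ s (n : N), (θ : N → ℂ) ⟨φ s n, hstab s n n.2⟩ = (θ : N → ℂ) n)
    (hI : ∀ g : G, irrComp (MulAut.conjNormal g) θ = θ → g ∈ T) {ψ : IrrCharacter T}
    (hψ : classInner (resN T hNT (ψ : T → ℂ)) (θ : N → ℂ) ≠ 0) {χ : IrrCharacter G}
    (hm : classInner (fun t : T => (χ : G → ℂ) t) (ψ : T → ℂ) ≠ 0) :
    IsActInvariant φ (χ : G → ℂ) ↔ IsActInvariant (restrictAct φ T hT) (ψ : T → ℂ) := by
  classical
  obtain ⟨hind, -, huniq⟩ := clifford_ind hI hψ hm
  constructor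
  · intro hχ s
    let ψ' : IrrCharacter T := irrComp (restrictAct φ T hT s) ψ
    have h1 : classInner (resN T hNT (ψ' : T → ℂ)) (θ : N → ℂ) ≠ 0 := by
      rw [← classInner_comp_mulEquiv (restrictAct φ N hstab s : MulAut N)
        (resN T hNT (ψ : T → ℂ)) (θ : N → ℂ)] at hψ
      refine fun h0 => hψ (Eq.trans ?_ h0)
      exact congrArg₂ classInner rfl (funext fun n => hθ s n)
    have h2 : classInner (fun t : T => (χ : G → ℂ) t) (ψ' : T → ℂ) ≠ 0 := by
      rw [← classInner_comp_mulEquiv (restrictAct φ T hT s : MulAut T)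
        (fun t : T => (χ : G → ℂ) t) (ψ : T → ℂ)] at hm
      refine fun h0 => hm (Eq.trans ?_ h0)
      exact congrArg₂ classInner (funext fun t => hχ s t) rfl
    exact fun t => congrFun (congrArg Subtype.val (huniq ψ' h1 h2)) t
  · intro hψi s g
    let χ' : IrrCharacter G := irrComp (φ s) χ
    have h2 : classInner (fun t : T => (χ' : G → ℂ) t) (ψ : T → ℂ) ≠ 0 := by
      rw [← classInner_comp_mulEquiv (restrictAct φ T hT s : MulAut T)
        (fun t : T => (χ : G → ℂ) t) (ψ : T → ℂ)] at hm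
      refine fun h0 => hm (Eq.trans ?_ h0)
      exact congrArg₂ classInner rfl (funext fun t => hψi s t)
    show (χ' : G → ℂ) g = (χ : G → ℂ) g
    rw [(clifford_ind hI hψ h2).1, hind]

theorem classInner_restrict_of_ind (T : Subgroup G) [Fintype T] {ψ : T → ℂ}
    (χ : IrrCharacter G) (h : (χ : G → ℂ) = indFun T ψ) :
    classInner (fun t : T => (χ : G → ℂ) t) ψ = 1 := by
  rw [← frobenius_right T ψ (isClassFunction_character (irr_isCharacter χ.2)), ← h, irr_self χ.2]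

variable {C : Type u} [Group C] [Fintype C] (ι : C →* G) (φC : S →* MulAut C) (j : N →* C)

/-- The correspondence over one invariant character. -/
theorem relFix_over (hp : p.Prime) (hS : IsPGroup p S) (hN : IsPGroup p N) (hidx : ¬ p ∣ N.index)
    (hstab : ∀ s, ∀ n ∈ N, φ s n ∈ N) (hι : Function.Injective ι)
    (hC : ∀ g, g ∈ ι.range ↔ ∀ s, φ s g * g⁻¹ ∈ N) (hφC : ∀ s c, ι (φC s c) = φ s (ι c))
    (hj : ∀ n, ι (j n) = n) (θ : IrrCharacter N)
    (hθ : ∀ s (n : N), (θ : N → ℂ) ⟨φ s n, hstab s n n.2⟩ = (θ : N → ℂ) n) :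
    (∀ χ : IrrCharacter G, classInner (fun n : N => (χ : G → ℂ) n) (θ : N → ℂ) ≠ 0 →
      IsActInvariant φ (χ : G → ℂ) →
      ∃ ξ₀ : IrrCharacter C, IsActInvariant φC (ξ₀ : C → ℂ) ∧
        classInner (fun n => (ξ₀ : C → ℂ) (j n)) (θ : N → ℂ) ≠ 0 ∧
        ∀ ξ : IrrCharacter C, classInner (fun n => (ξ : C → ℂ) (j n)) (θ : N → ℂ) ≠ 0 →
          IsUnitMult p (classInner (fun c => (χ : G → ℂ) (ι c)) (ξ : C → ℂ)) (ξ = ξ₀)) ∧
    (∀ ξ : IrrCharacter C, classInner (fun n => (ξ : C → ℂ) (j n)) (θ : N → ℂ) ≠ 0 →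
      IsActInvariant φC (ξ : C → ℂ) →
      ∃ χ : IrrCharacter G, IsActInvariant φ (χ : G → ℂ) ∧
        IsPrimeMult p (classInner (fun c => (χ : G → ℂ) (ι c)) (ξ : C → ℂ)) ∧
        ∀ χ' : IrrCharacter G, classInner (fun n : N => (χ' : G → ℂ) n) (θ : N → ℂ) ≠ 0 →
          IsActInvariant φ (χ' : G → ℂ) →
          IsPrimeMult p (classInner (fun c => (χ' : G → ℂ) (ι c)) (ξ : C → ℂ)) → χ' = χ) := by
  classical
  -- the stabilizer and its fixed part
  let T : Subgroup G := irrStabilizer N θ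
  haveI : Fintype T := Fintype.ofFinite _
  have hNT : N ≤ T := le_irrStabilizer N θ
  have hTs : ∀ s, ∀ t ∈ T, φ s t ∈ T := fun s t ht => conj_act_apply φ N hstab hθ hθ ht s
  let φT : S →* MulAut T := restrictAct φ T hTs
  let NC : Subgroup C := N.comap ι
  haveI : Fintype NC := Fintype.ofFinite _
  let TC : Subgroup C := T.comap ι
  haveI : Fintype TC := Fintype.ofFinite _
  have hNTC : NC ≤ TC := fun c hc => hNT hc
  have hTCs : ∀ s, ∀ c ∈ TC, φC s c ∈ TC := fun s c hc => by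
    show ι (φC s c) ∈ T
    rw [hφC]
    exact hTs s _ hc
  have hNCs : ∀ s, ∀ c ∈ NC, φC s c ∈ NC := fun s c hc => by
    show ι (φC s c) ∈ N
    rw [hφC]
    exact hstab s _ hc
  let eC : NC ≃* N :=
    { toFun := fun d => ⟨ι d, d.2⟩
      invFun := fun n => ⟨j n, show ι (j n) ∈ N by rw [hj]; exact n.2⟩
      left_inv := fun d => Subtype.ext (hι (hj _))
      right_inv := fun n => Subtype.ext (hj n)
      map_mul' := fun a b => Subtype.ext (map_mul ι _ _) }
  let θC : IrrCharacter NC := ⟨fun d => (θ : N → ℂ) (eC d), isIrrCharacter_comp_equiv eC θ.2⟩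
  have hθC : ∀ s (d : NC), (θC : NC → ℂ) ⟨φC s d, hNCs s d d.2⟩ = (θC : NC → ℂ) d := fun s d => by
    show (θ : N → ℂ) ⟨ι (φC s d), _⟩ = (θ : N → ℂ) ⟨ι d, _⟩
    rw [← hθ s ⟨ι d, d.2⟩]
    exact congrArg _ (Subtype.ext (hφC s d))
  have hI : ∀ g : G, irrComp (MulAut.conjNormal g) θ = θ → g ∈ T := fun g hg => hg
  have hIC : ∀ c : C, irrComp (MulAut.conjNormal c) θC = θC → c ∈ TC := fun c hc => by
    refine Subtype.ext (funext fun n => ?_)
    have h1 := congrFun (congrArg Subtype.val hc) (eC.symm n)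
    simp only [irrComp_apply] at h1
    rw [show (θC : NC → ℂ) (eC.symm n) = (θ : N → ℂ) n from
      congrArg (θ : N → ℂ) (eC.apply_symm_apply n)] at h1
    rw [irrComp_apply, ← h1]
    refine congrArg (θ : N → ℂ) (Subtype.ext ?_)
    show ι c * n * (ι c)⁻¹ = ι ((MulAut.conjNormal c (eC.symm n) : NC) : C)
    rw [MulAut.conjNormal_apply, map_mul, map_mul, map_inv,
      show ι ((eC.symm n : NC) : C) = (n : G) from hj n]
  -- lying over `θ`
  have hoverC : ∀ f : C → ℂ, classInner (fun d : NC => f d) (θC : NC → ℂ) =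
      classInner (fun n => f (j n)) (θ : N → ℂ) := fun f => by
    rw [← classInner_comp_mulEquiv eC (fun n => f (j n)) (θ : N → ℂ)]
    congr 1
    funext d
    exact congrArg f (hι (hj (eC d))).symm
  let ιT : TC →* T := (ι.comp TC.subtype).codRestrict T fun c => c.2
  let jTC : N →* TC := j.codRestrict TC fun n => show ι (j n) ∈ T by rw [hj]; exact hNT n.2
  have hoverTC : ∀ f : TC → ℂ, classInner (resN TC hNTC f) (θC : NC → ℂ) =
      classInner (fun n => f (jTC n)) (θ : N → ℂ) := fun f => by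
    rw [← classInner_comp_mulEquiv eC (fun n => f (jTC n)) (θ : N → ℂ)]
    congr 1
    funext d
    exact congrArg f (Subtype.ext (hι (hj (eC d))).symm)
  -- the layer
  let NT : Subgroup T := N.subgroupOf T
  haveI : Fintype NT := Fintype.ofFinite _
  let eT : NT ≃* N := Subgroup.subgroupOfEquivOfLe hNT
  let θT : IrrCharacter NT := ⟨fun x => (θ : N → ℂ) (eT x), isIrrCharacter_comp_equiv eT θ.2⟩
  have hoverT : ∀ f : T → ℂ, classInner (fun x : NT => f x) (θT : NT → ℂ) =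
      classInner (resN T hNT f) (θ : N → ℂ) := fun f => by
    rw [← classInner_comp_mulEquiv eT (resN T hNT f) (θ : N → ℂ)]
    congr 1
  have hoverTC' : ∀ f : TC → ℂ, classInner (fun x : NT => f (jTC (eT x))) (θT : NT → ℂ) =
      classInner (fun n => f (jTC n)) (θ : N → ℂ) := fun f =>
    classInner_comp_mulEquiv eT (fun n => f (jTC n)) (θ : N → ℂ)
  obtain ⟨hLA, hLB⟩ := relFix_layer φT NT ιT hp hS
    (hN.of_equiv eT.symm) (fun hd => hidx (hd.trans (by
      show N.relIndex T ∣ N.index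
      exact Subgroup.relIndex_dvd_index_of_normal N T)))
    (fun s x hx => hstab s _ hx) (fun a b hab => Subtype.ext (hι (congrArg Subtype.val hab)))
    (fun t => by
      constructor
      · rintro ⟨c, rfl⟩ s
        exact (hC _).1 ⟨c, rfl⟩ s
      · intro h
        obtain ⟨c, hc⟩ := (hC (t : G)).2 h
        exact ⟨⟨c, show ι c ∈ T by rw [hc]; exact t.2⟩, Subtype.ext hc⟩)
    (jTC.comp eT.toMonoidHom) (fun x => Subtype.ext (hj (eT x))) θT
    (fun t x => by
      show (θ : N → ℂ) (eT (MulAut.conjNormal t x)) = (θ : N → ℂ) (eT x)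
      conv_rhs => rw [← (mem_irrStabilizer N).1 t.2, irrComp_apply]
      exact congrArg _ (Subtype.ext rfl))
    (fun s x => hθ s (eT x))
  -- multiplicities
  have hkey : ∀ (χ : IrrCharacter G) (ψ : IrrCharacter T),
      classInner (resN T hNT (ψ : T → ℂ)) (θ : N → ℂ) ≠ 0 →
      classInner (fun t : T => (χ : G → ℂ) t) (ψ : T → ℂ) ≠ 0 →
      ∀ (ξ : IrrCharacter C) (η : IrrCharacter TC),
      classInner (fun n => (η : TC → ℂ) (jTC n)) (θ : N → ℂ) ≠ 0 →
      (ξ : C → ℂ) = indFun TC (η : TC → ℂ) →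
      classInner (fun c => (χ : G → ℂ) (ι c)) (ξ : C → ℂ) =
        classInner (fun d => (ψ : T → ℂ) (ιT d)) (η : TC → ℂ) := by
    intro χ ψ hψ hm ξ η hη hξ
    obtain ⟨hind, -, huniq⟩ := clifford_ind hI hψ hm
    obtain ⟨m, hmd⟩ := exists_decomposition (isCharacter_comp T.subtype (irr_isCharacter χ.2))
    have hcl : IsClassFunction C (fun c => (χ : G → ℂ) (ι c)) :=
      isClassFunction_character (isCharacter_comp ι (irr_isCharacter χ.2))
    rw [hξ, frobenius_right TC _ hcl,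
      show (fun d : TC => (fun c => (χ : G → ℂ) (ι c)) d) =
        ∑ ω : IrrCharacter T, (m ω : ℂ) • fun d => (ω : T → ℂ) (ιT d) from funext fun d => by
          refine (congrFun hmd (ιT d)).trans ?_
          simp,
      classInner_sum_left, Finset.sum_eq_single ψ]
    · rw [classInner_smul_left, ← decomposition_coeff m hmd ψ,
        show (χ : G → ℂ) ∘ T.subtype = fun t : T => (χ : G → ℂ) t from rfl,
        classInner_restrict_of_ind T χ hind, one_mul]
    · intro ω _ hω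
      rw [classInner_smul_left]
      by_contra h0
      obtain ⟨h1, h2⟩ := ne_zero_and_ne_zero_of_mul h0
      refine hω (huniq ω ?_ ?_)
      · have h3 := over_trans jTC (isCharacter_comp ιT (irr_isCharacter ω.2)) η θ.2 h2 hη
        refine fun h4 => h3 (Eq.trans ?_ h4)
        exact congrArg₂ classInner (funext fun n => congrArg (ω : T → ℂ) (Subtype.ext (hj n))) rfl
      · rw [show (fun t : T => (χ : G → ℂ) t) = (χ : G → ℂ) ∘ T.subtype from rfl,
          decomposition_coeff m hmd ω]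
        exact h1
    · simp
  let φTC : S →* MulAut TC := restrictAct φC TC hTCs
  have hcliffC : ∀ (ξ : IrrCharacter C) (η : IrrCharacter TC),
      classInner (fun n => (η : TC → ℂ) (jTC n)) (θ : N → ℂ) ≠ 0 →
      classInner (fun d : TC => (ξ : C → ℂ) d) (η : TC → ℂ) ≠ 0 →
      ((ξ : C → ℂ) = indFun TC (η : TC → ℂ) ∧
        classInner (fun n => (ξ : C → ℂ) (j n)) (θ : N → ℂ) ≠ 0) ∧
      (IsActInvariant φC (ξ : C → ℂ) ↔ IsActInvariant φTC (η : TC → ℂ)) := by
    intro ξ η hη hm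
    rw [← hoverTC] at hη
    obtain ⟨h1, h2, -⟩ := clifford_ind hIC hη hm
    exact ⟨⟨h1, by rw [← hoverC]; exact h2⟩,
      clifford_invariant φC NC TC hNTC hTCs hNCs θC hθC hIC hη hm⟩
  have hcorrC : ∀ ξ : IrrCharacter C, classInner (fun n => (ξ : C → ℂ) (j n)) (θ : N → ℂ) ≠ 0 →
      ∃ η : IrrCharacter TC, classInner (fun n => (η : TC → ℂ) (jTC n)) (θ : N → ℂ) ≠ 0 ∧
        classInner (fun d : TC => (ξ : C → ℂ) d) (η : TC → ℂ) ≠ 0 := by
    intro ξ hξ
    rw [← hoverC] at hξ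
    obtain ⟨η, h1, h2⟩ := exists_correspondent_in (hNT := hNTC) ξ hξ
    exact ⟨η, by rw [← hoverTC]; exact h2, h1⟩
  refine ⟨fun χ hχθ hχi => ?_, fun ξ hξθ hξi => ?_⟩
  · obtain ⟨ψ, hm, hψ⟩ := exists_correspondent_in (hNT := hNT) χ hχθ
    have hψi : IsActInvariant φT (ψ : T → ℂ) :=
      (clifford_invariant φ N T hNT hTs hstab θ hθ hI hψ hm).1 hχi
    obtain ⟨η₀, hη₀, hu⟩ := hLA ψ (by rw [hoverT]; exact hψ) hψi
    have hη₀' : classInner (fun n => (η₀ : TC → ℂ) (jTC n)) (θ : N → ℂ) ≠ 0 := by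
      exact (hoverTC' _).symm.trans_ne hη₀
    obtain ⟨ξ₀, hξ₀⟩ := exists_ind_eq hIC (ψ := η₀)
      (show classInner (resN TC hNTC (η₀ : TC → ℂ)) (θC : NC → ℂ) ≠ 0 by rw [hoverTC]; exact hη₀')
    have hm₀ : classInner (fun d : TC => (ξ₀ : C → ℂ) d) (η₀ : TC → ℂ) ≠ 0 := by
      rw [classInner_restrict_of_ind TC ξ₀ hξ₀]; exact one_ne_zero
    obtain ⟨⟨-, hξ₀θ⟩, hinv⟩ := hcliffC ξ₀ η₀ hη₀' hm₀
    have hη₀i : IsActInvariant φTC (η₀ : TC → ℂ) := by
      intro s
      let η' : IrrCharacter TC := irrComp (φTC s) η₀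
      have hη' : classInner (fun x : NT => (η' : TC → ℂ) (jTC (eT x))) (θT : NT → ℂ) ≠ 0 := by
        rw [hoverTC']
        rw [← classInner_comp_mulEquiv (restrictAct φ N hstab s : MulAut N)
          (fun n => (η₀ : TC → ℂ) (jTC n)) (θ : N → ℂ)] at hη₀'
        refine fun h0 => hη₀' (Eq.trans ?_ h0)
        refine congrArg₂ classInner (funext fun n => congrArg (η₀ : TC → ℂ) (Subtype.ext (hι ?_)))
          (funext fun n => hθ s n)
        show ι (j _) = ι (φC s (j n))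
        rw [hj, hφC, hj]
        rfl
      have heq : classInner (fun d => (ψ : T → ℂ) (ιT d)) (η' : TC → ℂ) =
          classInner (fun d => (ψ : T → ℂ) (ιT d)) (η₀ : TC → ℂ) := by
        rw [← classInner_comp_mulEquiv (φTC s : MulAut TC)
          (fun d => (ψ : T → ℂ) (ιT d)) (η₀ : TC → ℂ)]
        refine congrArg₂ classInner (funext fun d => ?_) rfl
        rw [← hψi s (ιT d)]
        exact congrArg (ψ : T → ℂ) (Subtype.ext (hφC s d).symm)
      have h1 := ((hu η₀ hη₀).iff hp).2 rfl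
      rw [← heq] at h1
      exact fun d => congrFun (congrArg Subtype.val (((hu η' hη').iff hp).1 h1)) d
    refine ⟨ξ₀, hinv.2 hη₀i, hξ₀θ, fun ξ hξ => ?_⟩
    obtain ⟨η, hη, hmη⟩ := hcorrC ξ hξ
    obtain ⟨⟨hindη, -⟩, -⟩ := hcliffC ξ η hη hmη
    obtain ⟨m, hm', h1, h2⟩ := hu η ((hoverTC' _).trans_ne hη)
    refine ⟨m, ?_, fun he => h1 ?_, fun he => h2 fun h => he ?_⟩
    · rw [hkey χ ψ hψ hm ξ η hη hindη, hm']
    · subst he
      exact (((clifford_ind hIC (show classInner (resN TC hNTC (η₀ : TC → ℂ)) (θC : NC → ℂ) ≠ 0 by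
        rw [hoverTC]; exact hη₀') hm₀).2.2 η (by rw [hoverTC]; exact hη) hmη))
    · subst h
      exact Subtype.ext (hindη.trans hξ₀.symm)
  · obtain ⟨η, hη, hmη⟩ := hcorrC ξ hξθ
    obtain ⟨⟨hindη, -⟩, hinv⟩ := hcliffC ξ η hη hmη
    have hη' : classInner (fun x : NT => (η : TC → ℂ) (jTC (eT x))) (θT : NT → ℂ) ≠ 0 := by
      rw [hoverTC']; exact hη
    obtain ⟨ψ, hψ, hψi, hpm, huniq⟩ := hLB η hη'
    rw [hoverT] at hψ
    obtain ⟨χ, hχ⟩ := exists_ind_eq hI hψ
    have hm : classInner (fun t : T => (χ : G → ℂ) t) (ψ : T → ℂ) ≠ 0 := by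
      rw [classInner_restrict_of_ind T χ hχ]; exact one_ne_zero
    refine ⟨χ, (clifford_invariant φ N T hNT hTs hstab θ hθ hI hψ hm).2 hψi, ?_,
      fun χ' hχ'θ hχ'i hpm' => ?_⟩
    · rw [hkey χ ψ hψ hm ξ η hη hindη]; exact hpm
    · obtain ⟨ψ', hm', hψ'⟩ := exists_correspondent_in (hNT := hNT) χ' hχ'θ
      rw [hkey χ' ψ' hψ' hm' ξ η hη hindη] at hpm'
      have h1 := huniq ψ' (by rw [hoverT]; exact hψ')
        ((clifford_invariant φ N T hNT hTs hstab θ hθ hI hψ' hm').1 hχ'i) hpm'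
      refine Subtype.ext ?_
      rw [(clifford_ind hI hψ' hm').1, hχ, h1]

/-- Invariant characters in one orbit are conjugate by a fixed element modulo `N`. -/
theorem exists_fixed_conjugator (hp : p.Prime) (hS : IsPGroup p S) (hidx : ¬ p ∣ N.index)
    (hstab : ∀ s, ∀ n ∈ N, φ s n ∈ N) (hC : ∀ g, g ∈ ι.range ↔ ∀ s, φ s g * g⁻¹ ∈ N)
    {θ θ' : IrrCharacter N}
    (hθ : ∀ s (n : N), (θ : N → ℂ) ⟨φ s n, hstab s n n.2⟩ = (θ : N → ℂ) n)
    (hθ' : ∀ s (n : N), (θ' : N → ℂ) ⟨φ s n, hstab s n n.2⟩ = (θ' : N → ℂ) n) {g : G}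
    (hg : irrComp (MulAut.conjNormal g) θ = θ') :
    ∃ c : C, irrComp (MulAut.conjNormal (ι c)) θ = θ' := by
  classical
  have hmap : ∀ s, N.map (φ s : G →* G) = N := fun s => le_antisymm
    (by rintro _ ⟨n, hn, rfl⟩; exact hstab s n hn)
    (fun n hn => ⟨φ s⁻¹ n, hstab _ n hn, show φ s (φ s⁻¹ n) = n by
      rw [← MulAut.mul_apply, ← map_mul, mul_inv_cancel, map_one]; rfl⟩)
  let φq : S →* MulAut (G ⧸ N) :=
    { toFun := fun s => QuotientGroup.congr N N (φ s) (hmap s)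
      map_one' := MulEquiv.ext fun q => by
        obtain ⟨t, rfl⟩ := QuotientGroup.mk_surjective q
        show ((φ 1 t : G) : G ⧸ N) = (t : G ⧸ N)
        rw [map_one]; rfl
      map_mul' := fun s t => MulEquiv.ext fun q => by
        obtain ⟨x, rfl⟩ := QuotientGroup.mk_surjective q
        show ((φ (s * t) x : G) : G ⧸ N) = ((φ s (φ t x) : G) : G ⧸ N)
        rw [map_mul]; rfl }
  let π := QuotientGroup.mk' N
  set A : Set (G ⧸ N) := π '' {y | irrComp (MulAut.conjNormal y) θ = θ'} with hA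
  have hstable : ∀ s, ∀ a ∈ A, φq s a ∈ A := by
    rintro s _ ⟨y, hy, rfl⟩
    exact ⟨φ s y, conj_act_apply φ N hstab hθ hθ' hy s, rfl⟩
  let B : Subgroup (G ⧸ N) := (irrStabilizer N θ).map π
  have hAB : A = (fun b => b * π g) '' (B : Set (G ⧸ N)) := by
    ext a
    constructor
    · rintro ⟨y, hy, rfl⟩
      refine ⟨π (y * g⁻¹), ⟨y * g⁻¹, ?_, rfl⟩, by simp [← map_mul]⟩
      show irrComp (MulAut.conjNormal (y * g⁻¹)) θ = θ
      rw [← irrComp_conj_mul]
      simp only [Set.mem_setOf_eq] at hy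
      rw [hy, ← hg, irrComp_conj_mul, mul_inv_cancel, irrComp_conj_one]
    · rintro ⟨_, ⟨t, ht, rfl⟩, rfl⟩
      refine ⟨t * g, ?_, map_mul π t g⟩
      show irrComp (MulAut.conjNormal (t * g)) θ = θ'
      rw [← irrComp_conj_mul, (mem_irrStabilizer N).1 ht, hg]
  have hcard : ¬ p ∣ Nat.card A := fun hd => hidx (by
    rw [hAB, Nat.card_image_of_injective (mul_left_injective (π g))] at hd
    rw [Subgroup.index_eq_card]
    exact hd.trans B.card_subgroup_dvd_card)
  obtain ⟨_, ⟨y, hy, rfl⟩, hfix⟩ := exists_fixed_of_card φq hp hS A hstable hcard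
  obtain ⟨c, hc⟩ := (hC y).2 fun s => by
    have h := hfix s
    rw [← div_eq_mul_inv, ← QuotientGroup.eq_iff_div_mem]
    exact h
  exact ⟨c, by rw [hc]; exact hy⟩

/-- The correspondence relative to a normal Sylow subgroup. -/
theorem relFix_main (hp : p.Prime) (hS : IsPGroup p S) (hN : IsPGroup p N) (hidx : ¬ p ∣ N.index)
    (hstab : ∀ s, ∀ n ∈ N, φ s n ∈ N) (hι : Function.Injective ι)
    (hC : ∀ g, g ∈ ι.range ↔ ∀ s, φ s g * g⁻¹ ∈ N) (hφC : ∀ s c, ι (φC s c) = φ s (ι c)) :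
    ∃ F : {χ : IrrCharacter G // IsActInvariant φ (χ : G → ℂ)} →
        {ξ : IrrCharacter C // IsActInvariant φC (ξ : C → ℂ)},
      Function.Bijective F ∧ ∀ χ,
        (∀ ξ : {ξ : IrrCharacter C // IsActInvariant φC (ξ : C → ℂ)},
          IsUnitMult p (classInner (fun c => (χ.1 : G → ℂ) (ι c)) (ξ.1 : C → ℂ)) (ξ = F χ)) ∧
        (((deg ((F χ).1 : C → ℂ) : ZMod p) = (deg (χ.1 : G → ℂ) : ZMod p)) ∨
          ((deg ((F χ).1 : C → ℂ) : ZMod p) = -(deg (χ.1 : G → ℂ) : ZMod p))) := by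
  classical
  haveI := Fact.mk hp
  have hNle : N ≤ ι.range := fun n hn => (hC n).2 fun s => N.mul_mem (hstab s n hn) (N.inv_mem hn)
  let j : N →* C := (MonoidHom.ofInjective hι).symm.toMonoidHom.comp (Subgroup.inclusion hNle)
  have hj : ∀ n, ι (j n) = n := fun n =>
    congrArg Subtype.val ((MonoidHom.ofInjective hι).apply_symm_apply (Subgroup.inclusion hNle n))
  -- constituents in `C`
  let NC : Subgroup C := N.comap ι
  haveI : Fintype NC := Fintype.ofFinite _
  have hNCs : ∀ s, ∀ c ∈ NC, φC s c ∈ NC := fun s c hc => by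
    show ι (φC s c) ∈ N
    rw [hφC]
    exact hstab s _ hc
  have hidxC : ¬ p ∣ NC.index := fun hd => hidx (hd.trans (by
    rw [Subgroup.index_comap]
    exact Subgroup.relIndex_dvd_index_of_normal N ι.range))
  let eC : NC ≃* N :=
    { toFun := fun d => ⟨ι d, d.2⟩
      invFun := fun n => ⟨j n, show ι (j n) ∈ N by rw [hj]; exact n.2⟩
      left_inv := fun d => Subtype.ext (hι (hj _))
      right_inv := fun n => Subtype.ext (hj n)
      map_mul' := fun a b => Subtype.ext (map_mul ι _ _) }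
  have hexC : ∀ ξ : IrrCharacter C, IsActInvariant φC (ξ : C → ℂ) →
      ∃ θ : IrrCharacter N, classInner (fun n => (ξ : C → ℂ) (j n)) (θ : N → ℂ) ≠ 0 ∧
        ∀ s (n : N), (θ : N → ℂ) ⟨φ s n, hstab s n n.2⟩ = (θ : N → ℂ) n := by
    intro ξ hξ
    obtain ⟨θ₂, h1, h2⟩ := exists_invariant_constituent φC NC hp hS hidxC hNCs ξ hξ
    refine ⟨⟨fun n => (θ₂ : NC → ℂ) (eC.symm n), isIrrCharacter_comp_equiv eC.symm θ₂.2⟩, ?_,
      fun s n => ?_⟩
    · rw [← classInner_comp_mulEquiv eC.symm (fun d : NC => (ξ : C → ℂ) d) (θ₂ : NC → ℂ)] at h1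
      exact h1
    · show (θ₂ : NC → ℂ) (eC.symm _) = (θ₂ : NC → ℂ) (eC.symm n)
      rw [← h2 s (eC.symm n)]
      refine congrArg _ (Subtype.ext (hι ?_))
      show ι (j _) = ι (φC s (j n))
      rw [hj, hφC, hj]
  -- a multiplicity prime to `p` forces a common invariant constituent
  have htrans : ∀ (χ : IrrCharacter G) (ξ : IrrCharacter C) (θ : IrrCharacter N),
      classInner (fun c => (χ : G → ℂ) (ι c)) (ξ : C → ℂ) ≠ 0 →
      classInner (fun n => (ξ : C → ℂ) (j n)) (θ : N → ℂ) ≠ 0 →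
      classInner (fun n : N => (χ : G → ℂ) n) (θ : N → ℂ) ≠ 0 := by
    intro χ ξ θ h1 h2
    have h3 := over_trans j (isCharacter_comp ι (irr_isCharacter χ.2)) ξ θ.2 h1 h2
    refine fun h4 => h3 (Eq.trans ?_ h4)
    exact congrArg₂ classInner (funext fun n => congrArg (χ : G → ℂ) (hj n)) rfl
  have hne : ∀ z : ℂ, IsPrimeMult p z → z ≠ 0 := by
    rintro z ⟨m, rfl, hnd⟩ h0
    exact hnd (by rw [Nat.cast_eq_zero.1 h0]; exact dvd_zero p)
  -- the forward map
  have hex : ∀ χ : {χ : IrrCharacter G // IsActInvariant φ (χ : G → ℂ)},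
      ∃ ξ₀ : {ξ : IrrCharacter C // IsActInvariant φC (ξ : C → ℂ)},
        ∀ ξ : {ξ : IrrCharacter C // IsActInvariant φC (ξ : C → ℂ)},
          IsUnitMult p (classInner (fun c => (χ.1 : G → ℂ) (ι c)) (ξ.1 : C → ℂ)) (ξ = ξ₀) := by
    rintro ⟨χ, hχ⟩
    obtain ⟨θ, hθχ, hθ⟩ := exists_invariant_constituent φ N hp hS hidx hstab χ hχ
    obtain ⟨ξ₀, hξ₀, hξ₀θ, hu⟩ :=
      (relFix_over φ N ι φC j hp hS hN hidx hstab hι hC hφC hj θ hθ).1 χ hθχ hχ
    refine ⟨⟨ξ₀, hξ₀⟩, fun ξ => ?_⟩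
    have hover : classInner (fun c => (χ : G → ℂ) (ι c)) (ξ.1 : C → ℂ) ≠ 0 →
        classInner (fun n => (ξ.1 : C → ℂ) (j n)) (θ : N → ℂ) ≠ 0 := by
      intro h0
      obtain ⟨θ', hθ'ξ, hθ'⟩ := hexC ξ.1 ξ.2
      obtain ⟨g, hg⟩ := mem_cliffOrbit.mp
        (mem_cliffOrbit_of_constituent (htrans χ ξ.1 θ' h0 hθ'ξ) hθχ)
      obtain ⟨c, hc⟩ := exists_fixed_conjugator φ N ι hp hS hidx hstab hC hθ' hθ hg
      rw [← hc]
      refine fun h1 => hθ'ξ (Eq.trans ?_ h1)
      rw [← classInner_comp_mulEquiv (MulAut.conjNormal (ι c) : MulAut N)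
        (fun n => (ξ.1 : C → ℂ) (j n)) (θ' : N → ℂ)]
      refine congrArg₂ classInner (funext fun n => ?_) rfl
      rw [show j (MulAut.conjNormal (ι c) n) = c * j n * c⁻¹ from hι (by
        rw [hj, map_mul, map_mul, map_inv, hj, MulAut.conjNormal_apply])]
      exact isClassFunction_character (irr_isCharacter ξ.1.2) _ _
    by_cases h0 : classInner (fun c => (χ : G → ℂ) (ι c)) (ξ.1 : C → ℂ) = 0
    · refine ⟨0, by rw [h0, Nat.cast_zero], fun he => ?_, fun _ => dvd_zero p⟩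
      subst he
      exact absurd h0 (hne _ (((hu ξ₀ hξ₀θ).iff hp).2 rfl))
    · obtain ⟨m, hm, h1, h2⟩ := hu ξ.1 (hover h0)
      exact ⟨m, hm, fun he => h1 (congrArg Subtype.val he), fun he => h2 fun h => he (Subtype.ext h)⟩
  choose F hF using hex
  refine ⟨F, ⟨fun χ χ' h => ?_, fun ξ => ?_⟩, fun χ => ⟨hF χ, ?_⟩⟩
  · obtain ⟨θ, hθξ, hθ⟩ := hexC (F χ).1 (F χ).2
    obtain ⟨χ₁, -, -, huniq⟩ :=
      (relFix_over φ N ι φC j hp hS hN hidx hstab hι hC hφC hj θ hθ).2 _ hθξ (F χ).2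
    have hu1 := ((hF χ (F χ)).iff hp).2 rfl
    have hu2 := ((hF χ' (F χ)).iff hp).2 h
    exact Subtype.ext ((huniq χ.1 (htrans _ _ θ (hne _ hu1) hθξ) χ.2 hu1).trans
      (huniq χ'.1 (htrans _ _ θ (hne _ hu2) hθξ) χ'.2 hu2).symm)
  · obtain ⟨θ, hθξ, hθ⟩ := hexC ξ.1 ξ.2
    obtain ⟨χ, hχ, hpm, -⟩ :=
      (relFix_over φ N ι φC j hp hS hN hidx hstab hι hC hφC hj θ hθ).2 _ hθξ ξ.2
    exact ⟨⟨χ, hχ⟩, (((hF ⟨χ, hχ⟩ ξ).iff hp).1 hpm).symm⟩
  · -- degrees
    choose m hm using fun ξ : IrrCharacter C =>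
      classInner_natCast (isCharacter_comp ι (irr_isCharacter χ.1.2)) (irr_isCharacter ξ.2)
    have hdeg : deg (χ.1 : G → ℂ) = ∑ ξ : IrrCharacter C, m ξ * deg (ξ : C → ℂ) := by
      have h1 := congrFun (char_expansion (isCharacter_comp ι (irr_isCharacter χ.1.2))) 1
      simp only [Function.comp_apply, map_one, hm, Finset.sum_apply, Pi.smul_apply, smul_eq_mul,
        char_one_eq_deg (irr_isCharacter χ.1.2),
        fun ξ : IrrCharacter C => char_one_eq_deg (irr_isCharacter ξ.2)] at h1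
      exact_mod_cast h1
    letI := irrAction φC
    have hmi : ∀ (s : S) (ξ : IrrCharacter C), m (s • ξ) * deg ((s • ξ : IrrCharacter C) : C → ℂ) =
        m ξ * deg (ξ : C → ℂ) := by
      intro s ξ
      have h1 : m (s • ξ) = m ξ := by
        have h2 : (m (s • ξ) : ℂ) = m ξ := by
          rw [← hm, ← hm, ← classInner_comp_mulEquiv (φC s⁻¹ : MulAut C)
            ((χ.1 : G → ℂ) ∘ ι) (ξ : C → ℂ)]
          refine congrArg₂ classInner (funext fun c => ?_) rfl
          simp only [Function.comp_apply, hφC, χ.2 _ _]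
        exact_mod_cast h2
      have h3 : ((s • ξ : IrrCharacter C) : C → ℂ) 1 = (ξ : C → ℂ) 1 := by
        show (ξ : C → ℂ) (φC s⁻¹ 1) = _
        rw [map_one]
      rw [h1, deg, deg, h3]
    have hsum := sum_eq_sum_fixed (p := p) hS (fun ξ : IrrCharacter C => m ξ * deg (ξ : C → ℂ)) hmi
    rw [← hdeg, Nat.cast_sum, Finset.sum_eq_single (F χ).1] at hsum
    · obtain ⟨k, hk, h1, -⟩ := hF χ (F χ)
      have hk' : m (F χ).1 = k := by
        have : (m (F χ).1 : ℂ) = k := by rw [← hm, ← hk]; rfl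
        exact_mod_cast this
      rw [Nat.cast_mul, hk'] at hsum
      rcases h1 rfl with h | h <;> rw [h] at hsum
      · exact Or.inl (by rw [hsum, one_mul])
      · exact Or.inr (by rw [hsum, neg_one_mul, neg_neg])
    · intro ξ hξ hne'
      simp only [Finset.mem_filter, Finset.mem_univ, true_and] at hξ
      have hξi : IsActInvariant φC (ξ : C → ℂ) := fun s c => by
        have := congrFun (congrArg Subtype.val (hξ s⁻¹)) c
        exact (congrArg (fun x => (ξ : C → ℂ) (φC x c)) (inv_inv s)).symm.trans this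
      obtain ⟨k, hk, -, h2⟩ := hF χ ⟨ξ, hξi⟩
      have hk' : m ξ = k := by
        have : (m ξ : ℂ) = k := by rw [← hm, ← hk]; rfl
        exact_mod_cast this
      rw [Nat.cast_mul, hk', (ZMod.natCast_eq_zero_iff _ _).2 (h2 fun h => hne' (congrArg Subtype.val h)),
        zero_mul]
    · intro h
      simp only [Finset.mem_filter, Finset.mem_univ, true_and] at h
      exact absurd (fun s => Subtype.ext (funext fun c => (F χ).2 s⁻¹ c)) h

end Cfsg.Agent.Char
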