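import Cfsg.Agent.Lib.Char.FixedOver
import Cfsg.Agent.Lib.Char.RelFixMain
import Cfsg.Agent.Lib.Char.RealClass
import Cfsg.Agent.Lib.Char.SylowAbElementary

/-!
# Real characters over a normal subgroup of odd index
-/

set_option autoImplicit false
set_option linter.unusedSectionVars false
set_option linter.style.haveILetI false

namespace Cfsg.Agent.Char

open Cfsg
open scoped ComplexConjugate

universe u

variable {G : Type u} [Group G] [Fintype G]

theorem pow_card_sub_one {H : Type*} [Group H] [Finite H] (g : H) : g ^ (Nat.card H - 1) = g⁻¹ := by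
  refine eq_inv_of_mul_eq_one_left ?_
  rw [← pow_succ, Nat.sub_add_cancel Nat.card_pos, pow_card_eq_one']

theorem classInner_irrConj_right (K : Subgroup G) [Fintype K] {f : K → ℂ}
    (hf : ∀ k, conj (f k) = f k) (θ : IrrCharacter K) :
    classInner f (irrConj θ : K → ℂ) = conj (classInner f (θ : K → ℂ)) := by
  simp only [classInner, map_mul, map_inv₀, map_natCast, map_sum, irrConj_apply]
  congr 1
  exact Finset.sum_congr rfl fun x _ => by rw [hf x]

/-- Over a real character of a normal subgroup of odd index there is exactly one real character, and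
its degree is the orbit length times the degree below. -/
theorem real_over_odd (K : Subgroup G) [K.Normal] [Fintype K] (hodd : Odd K.index)
    (θ : IrrCharacter K) (hθ : irrConj θ = θ) :
    ∃ χ : IrrCharacter G, irrConj χ = χ ∧
      classInner (fun k : K => (χ : G → ℂ) k) (θ : K → ℂ) ≠ 0 ∧
      deg (χ : G → ℂ) = (irrStabilizer K θ).index * deg (θ : K → ℂ) ∧
      ∀ χ' : IrrCharacter G, irrConj χ' = χ' →
        classInner (fun k : K => (χ' : G → ℂ) k) (θ : K → ℂ) ≠ 0 → χ' = χ := by
  classical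
  set e := Nat.card G - 1 with he
  have hk : e.Coprime (Nat.card G) := by
    obtain ⟨m, hm⟩ := Nat.exists_eq_add_one.2 (Nat.card_pos (α := G))
    rw [he, hm, Nat.add_sub_cancel]
    exact Nat.coprime_self_add_right.2 (Nat.coprime_one_right m)
  have hinv : ∀ g : G, g ^ e = g⁻¹ := fun g => pow_card_sub_one g
  have hk₂ : ∀ g : G, Odd (orderOf g) → g ^ e = g⁻¹ := fun g _ => hinv g
  have hθe : ∀ n : K, (θ : K → ℂ) (n ^ e) = (θ : K → ℂ) n := fun n => by
    rw [show n ^ e = n⁻¹ from Subtype.ext (hinv (n : G)), char_inv (irr_isCharacter θ.2)]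
    exact congrFun (congrArg Subtype.val hθ) n
  let T : Subgroup G := irrStabilizer K θ
  haveI : Fintype T := Fintype.ofFinite _
  have hKT : K ≤ T := le_irrStabilizer K θ
  haveI : (K.subgroupOf T).Normal := Subgroup.Normal.comap inferInstance _
  haveI : Fintype (K.subgroupOf T) := Fintype.ofFinite _
  let eT : K.subgroupOf T ≃* K := Subgroup.subgroupOfEquivOfLe hKT
  obtain ⟨ψ, hψ, hψe, hψf⟩ := exists_fixed_extension (K.subgroupOf T)
    (hodd.of_dvd_nat (Subgroup.relIndex_dvd_index_of_normal K T))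
    (hk.coprime_dvd_right (Subgroup.card_subgroup_dvd_card T))
    (fun t _ => Subtype.ext (hinv (t : G))) (θ := fun x => (θ : K → ℂ) (eT x))
    (isIrrCharacter_comp_equiv eT θ.2)
    (fun t x => by
      show (θ : K → ℂ) (eT (MulAut.conjNormal t x)) = (θ : K → ℂ) (eT x)
      conv_rhs => rw [← (mem_irrStabilizer K).1 t.2, irrComp_apply]
      exact congrArg _ (Subtype.ext rfl))
    (fun x => by simp only [map_pow, hθe])
  let ψ' : IrrCharacter T := ⟨ψ, hψ⟩
  have hres : resN T hKT (ψ' : T → ℂ) = (θ : K → ℂ) := funext fun n => by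
    show ψ ⟨n, hKT n.2⟩ = _
    rw [show (⟨(n : G), hKT n.2⟩ : T) = ((eT.symm n : K.subgroupOf T) : T) from rfl, hψe]
    simp
  have hover : classInner (resN T hKT (ψ' : T → ℂ)) (θ : K → ℂ) ≠ 0 := by
    rw [hres, irr_self θ.2]; exact one_ne_zero
  have hI : ∀ g : G, irrComp (MulAut.conjNormal g) θ = θ → g ∈ T := fun g hg => hg
  obtain ⟨χ, hχ⟩ := exists_ind_eq hI hover
  have hχθ := (clifford_ind hI hover (χ := χ)
    (by rw [classInner_restrict_of_ind T χ hχ]; exact one_ne_zero)).2.1
  have hψreal : ∀ t : T, conj (ψ t) = ψ t := fun t => by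
    rw [← char_inv (irr_isCharacter hψ), ← hψf t]
    exact congrArg ψ (Subtype.ext (by rw [Subgroup.coe_pow, hinv]; rfl))
  have hχreal : irrConj χ = χ := Subtype.ext (funext fun g => by
    rw [irrConj_apply, hχ]
    simp only [indFun, map_mul, map_inv₀, map_natCast, map_sum]
    congr 1
    refine Finset.sum_congr rfl fun x _ => ?_
    by_cases hx : x⁻¹ * g * x ∈ T
    · rw [extendByZero_mem T _ hx, hψreal]
    · rw [extendByZero_not_mem T _ hx, map_zero])
  have hiff : ∀ ξ : IrrCharacter G, irrConj ξ = ξ ↔ ∀ g : G, (ξ : G → ℂ) (g ^ e) = (ξ : G → ℂ) g := by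
    intro ξ
    simp only [hinv, char_inv (irr_isCharacter ξ.2)]
    exact ⟨fun h g => congrFun (congrArg Subtype.val h) g, fun h => Subtype.ext (funext h)⟩
  obtain ⟨ξ₀, -, huniq⟩ := fixed_over_unique K hodd hk hk₂ θ hθe
  refine ⟨χ, hχreal, hχθ, ?_, fun χ' h1 h2 =>
    (huniq χ' ⟨h2, (hiff χ').1 h1⟩).trans (huniq χ ⟨hχθ, (hiff χ).1 hχreal⟩).symm⟩
  refine Nat.cast_injective (R := ℂ) ?_
  rw [Nat.cast_mul, ← char_one_eq_deg (irr_isCharacter χ.2), ← char_one_eq_deg (irr_isCharacter θ.2),
    hχ, indFun_one, ← congrFun hres 1]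
  rfl

/-- A real character has a real constituent on a normal subgroup of odd index. -/
theorem exists_real_below (K : Subgroup G) [K.Normal] [Fintype K] (hodd : Odd K.index)
    (χ : IrrCharacter G) (hχ : irrConj χ = χ) :
    ∃ θ : IrrCharacter K, irrConj θ = θ ∧
      classInner (fun k : K => (χ : G → ℂ) k) (θ : K → ℂ) ≠ 0 := by
  classical
  obtain ⟨θ₁, hθ₁⟩ := exists_constituent (N := K) χ
  let X := {θ : IrrCharacter K // classInner (fun k : K => (χ : G → ℂ) k) (θ : K → ℂ) ≠ 0}
  have hX : Nat.card X = (cliffOrbit K θ₁).card := by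
    rw [Nat.card_eq_fintype_card]
    refine Fintype.card_of_subtype _ fun θ =>
      ⟨fun h => ?_, fun h => mem_cliffOrbit_of_constituent hθ₁ h⟩
    obtain ⟨g, rfl⟩ := mem_cliffOrbit.mp h
    exact constituent_irrComp hθ₁ g
  have hreal : ∀ k : K, conj ((χ : G → ℂ) k) = (χ : G → ℂ) k := fun k =>
    congrFun (congrArg Subtype.val hχ) (k : G)
  have hfix := exists_fixed_of_involution
    (fun θ : X => (⟨irrConj θ.1, by
      rw [classInner_irrConj_right K hreal θ.1, ne_eq, map_eq_zero]; exact θ.2⟩ : X))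
    (fun θ => Subtype.ext (irrConj_irrConj θ.1))
    (by
      rw [← Nat.card_eq_fintype_card, hX]
      exact hodd.of_dvd_nat (card_cliffOrbit_dvd_index K θ₁))
  obtain ⟨⟨⟨θ, hθ⟩, hf⟩⟩ := (Nat.card_pos_iff.mp hfix.pos).1
  exact ⟨θ, congrArg Subtype.val hf, hθ⟩

end Cfsg.Agent.Char
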