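import Cfsg.Agent.Lib.Char.PermLemma
import Cfsg.Agent.Lib.Char.RealClass
import Cfsg.Agent.Lib.Char.PParts
import Cfsg.Agent.Lib.Char.GlaubermanCount
import Mathlib

/-!
# Real characters and real classes under an odd or coprime action
-/

set_option autoImplicit false
set_option linter.unusedSectionVars false

namespace Cfsg.Agent.Char

open Cfsg
open scoped ComplexConjugate

universe u

variable {H : Type u} [Group H] [Fintype H]

theorem isConj_inv_inv {a b : H} (h : IsConj a b) : IsConj a⁻¹ b⁻¹ := by
  obtain ⟨c, rfl⟩ := isConj_iff.1 h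
  exact isConj_iff.2 ⟨c, by group⟩

/-- Brauer's permutation lemma for a map respecting conjugacy. -/
theorem card_fixed_of_map (f : H → H) (hf : ∀ a b, IsConj a b → IsConj (f a) (f b))
    (T : IrrCharacter H → IrrCharacter H)
    (hT : ∀ χ g, (T χ : H → ℂ) g = (χ : H → ℂ) (f g)) :
    Nat.card {χ : IrrCharacter H // T χ = χ} =
      Nat.card {C : ConjClasses H // ∀ n, ConjClasses.mk n = C → IsConj (f n) n} := by
  classical
  have h : (Nat.card {χ : IrrCharacter H // T χ = χ} : ℂ) =
      (Nat.card {C : ConjClasses H // ∀ n, ConjClasses.mk n = C → IsConj (f n) n} : ℂ) := by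
    haveI := Fintype.ofFinite (ConjClasses H)
    have hL : (Nat.card {χ : IrrCharacter H // T χ = χ} : ℂ) =
        ∑ χ : IrrCharacter H, classInner (T χ : H → ℂ) (χ : H → ℂ) := by
      simp only [irrC_orth, Nat.card_eq_fintype_card, Fintype.card_subtype]
      rw [Finset.sum_boole]
    rw [hL]
    simp only [classInner, hT]
    rw [← Finset.mul_sum, Finset.sum_comm]
    simp only [second_orth]
    rw [← Finset.sum_fiberwise Finset.univ ConjClasses.mk, Finset.mul_sum]
    rw [Finset.sum_congr rfl (g := fun C : ConjClasses H =>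
      if (∀ n, ConjClasses.mk n = C → IsConj (f n) n) then (1 : ℂ) else 0)]
    · rw [Finset.sum_boole, Nat.card_eq_fintype_card, Fintype.card_subtype]
    · intro C _
      obtain ⟨n₀, rfl⟩ := ConjClasses.mk_surjective C
      have hiff : (∀ n, ConjClasses.mk n = ConjClasses.mk n₀ → IsConj (f n) n) ↔
          IsConj (f n₀) n₀ :=
        ⟨fun h => h n₀ rfl, fun h n hn => by
          have h1 := ConjClasses.mk_eq_mk_iff_isConj.1 hn
          exact (hf _ _ h1).trans (h.trans h1.symm)⟩
      have hmem : ∀ n ∈ Finset.univ.filter (fun n => ConjClasses.mk n = ConjClasses.mk n₀),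
          (if IsConj (f n) n then
            (Nat.card H : ℂ) / Nat.card {x : H // IsConj n x} else 0) =
          if IsConj (f n₀) n₀ then
            (Nat.card H : ℂ) / Nat.card {x : H // IsConj n₀ x} else 0 := by
        intro n hn
        have hn' : IsConj n n₀ := ConjClasses.mk_eq_mk_iff_isConj.1 (Finset.mem_filter.1 hn).2
        have h1 : IsConj (f n) n ↔ IsConj (f n₀) n₀ :=
          ⟨fun h => ((hf _ _ hn').symm.trans h).trans hn',
            fun h => ((hf _ _ hn').trans h).trans hn'.symm⟩
        have hc : Nat.card {x : H // IsConj n x} = Nat.card {x : H // IsConj n₀ x} :=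
          Nat.card_congr (Equiv.subtypeEquivRight fun x =>
            ⟨fun h => hn'.symm.trans h, fun h => hn'.trans h⟩)
        simp only [h1, hc]
      rw [Finset.sum_congr rfl hmem, Finset.sum_const, nsmul_eq_mul]
      have hcard : (Finset.univ.filter (fun n => ConjClasses.mk n = ConjClasses.mk n₀)).card =
          Nat.card {x : H // IsConj n₀ x} := by
        rw [Nat.card_eq_fintype_card, Fintype.card_subtype]
        congr 1
        ext x
        simp only [Finset.mem_filter, Finset.mem_univ, true_and, ConjClasses.mk_eq_mk_iff_isConj]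
        exact ⟨IsConj.symm, IsConj.symm⟩
      have h0 : (Nat.card {x : H // IsConj n₀ x} : ℂ) ≠ 0 := by
        exact_mod_cast card_conjClass_ne_zero n₀
      rw [hcard]
      simp only [hiff]
      split_ifs
      · field_simp
      · simp
  exact_mod_cast h

section Coprime

variable {S C : Type u} [Group S] [Group C] [Fintype C] {M : Ideal AlgInt} {p : ℕ}
  {φ : S →* MulAut H} {ι : C →* H}

/-- The correspondence of Glauberman commutes with complex conjugation. -/
theorem corr_irrConj (h : CoprimeFix M p φ ι) (β : IrrCharacter C) :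
    h.corr (irrConj β) = irrConj (h.corr β) := by
  have hinv : ∀ s g, (irrConj (h.corr β) : H → ℂ) (φ s g) = (irrConj (h.corr β) : H → ℂ) g :=
    fun s g => by rw [irrConj_apply, irrConj_apply, h.corr_inv]
  have hres : IsCharacter C ((h.corr β : H → ℂ) ∘ ι) :=
    isCharacter_comp ι (irr_isCharacter (h.corr β).2)
  obtain ⟨m, hm⟩ := classInner_natCast hres (irr_isCharacter β.2)
  have hm' : classInner ((irrConj (h.corr β) : H → ℂ) ∘ ι) (irrConj β : C → ℂ) = m := by
    have e := congrArg conj hm
    rw [Complex.conj_natCast] at e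
    rw [← e, classInner, classInner, map_mul, map_inv₀, Complex.conj_natCast, map_sum]
    congr 1
    exact Finset.sum_congr rfl fun c _ => by simp [Function.comp_apply]
  by_contra hne
  have h1 : (p : ℤ) ∣ (m : ℤ) := Int.natCast_dvd_natCast.mpr ((h.multiplicity hinv (irrConj β) hm').2 hne)
  have hp' := Nat.prime_iff_prime_int.mp h.pmod.1
  rcases (h.multiplicity (fun s g => h.corr_inv β s g) β hm).1 rfl with h2 | h2
  · exact hp'.not_dvd_one (by simpa using dvd_add (Int.modEq_iff_dvd.mp h2) h1)
  · have := dvd_add (Int.modEq_iff_dvd.mp h2) h1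
    exact hp'.not_dvd_one (by simpa using this)

/-- Invariant real characters and invariant real classes. -/
theorem card_invariant_real (h : CoprimeFix M p φ ι) :
    Nat.card {χ : IrrCharacter H //
        irrConj χ = χ ∧ ∀ s g, (χ : H → ℂ) (φ s g) = (χ : H → ℂ) g} =
      Nat.card {K : ConjClasses H // (∀ g, ConjClasses.mk g = K → IsConj g g⁻¹) ∧
        ∀ s g, ConjClasses.mk g = K → ConjClasses.mk (φ s g) = K} := by
  classical
  have hp := h.pmod.1
  have hfix : ∀ s (c : C), φ s (ι c) = ι c := fun s c => (h.range _).mp ⟨c, rfl⟩ s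
  have e1 : Nat.card {β : IrrCharacter C // irrConj β = β} = Nat.card {χ : IrrCharacter H //
      irrConj χ = χ ∧ ∀ s g, (χ : H → ℂ) (φ s g) = (χ : H → ℂ) g} := by
    refine Nat.card_eq_of_bijective (fun β => ⟨h.corr β.1, ?_, h.corr_inv β.1⟩) ⟨?_, ?_⟩
    · rw [← corr_irrConj h, β.2]
    · exact fun a b hab => Subtype.ext (h.corr_injective (congrArg Subtype.val hab))
    · rintro ⟨χ, hr, hχ⟩
      obtain ⟨β, rfl⟩ := h.corr_surjective hχ
      exact ⟨⟨β, h.corr_injective (by rw [corr_irrConj h, hr])⟩, rfl⟩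
  have e2 : Nat.card {K : ConjClasses C // ∀ c, ConjClasses.mk c = K → IsConj c c⁻¹} =
      Nat.card {K : ConjClasses H // (∀ g, ConjClasses.mk g = K → IsConj g g⁻¹) ∧
        ∀ s g, ConjClasses.mk g = K → ConjClasses.mk (φ s g) = K} := by
    refine Nat.card_eq_of_bijective (fun K => ⟨K.1.map ι, ?_, ?_⟩) ⟨?_, ?_⟩
    · intro g hg
      obtain ⟨c, hc⟩ := ConjClasses.exists_rep K.1
      rw [← hc] at hg
      have hg' : IsConj g (ι c) := ConjClasses.mk_eq_mk_iff_isConj.mp hg
      have h2 : IsConj (ι c) (ι c)⁻¹ := by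
        rw [← map_inv]; exact ι.map_isConj (K.2 c hc)
      exact hg'.trans (h2.trans (isConj_inv_inv hg'.symm))
    · intro s g hg
      obtain ⟨c, hc⟩ := ConjClasses.exists_rep K.1
      rw [← hc] at hg ⊢
      have hg' : IsConj g (ι c) := ConjClasses.mk_eq_mk_iff_isConj.mp hg
      refine ConjClasses.mk_eq_mk_iff_isConj.mpr ?_
      have := (φ s).toMonoidHom.map_isConj hg'
      rwa [MulEquiv.coe_toMonoidHom, hfix] at this
    · rintro ⟨a, ha⟩ ⟨b, hb⟩ hab
      obtain ⟨c, rfl⟩ := ConjClasses.exists_rep a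
      obtain ⟨d, rfl⟩ := ConjClasses.exists_rep b
      exact Subtype.ext (ConjClasses.mk_eq_mk_iff_isConj.mpr (fixed_conj φ ι hp h.pgroup h.coprime
        h.range h.inj (ConjClasses.mk_eq_mk_iff_isConj.mp (congrArg Subtype.val hab))))
    · rintro ⟨K, hr, hK⟩
      obtain ⟨g, rfl⟩ := ConjClasses.exists_rep K
      obtain ⟨c, hc⟩ := exists_fixed_rep φ ι hp h.pgroup h.coprime h.range (g := g) fun s =>
        (ConjClasses.mk_eq_mk_iff_isConj.mp (hK s g rfl)).symm
      refine ⟨⟨ConjClasses.mk c, fun d hd => ?_⟩,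
        Subtype.ext (ConjClasses.mk_eq_mk_iff_isConj.mpr hc.symm)⟩
      have hd' : IsConj (ι d) g :=
        (ι.map_isConj (ConjClasses.mk_eq_mk_iff_isConj.mp hd)).trans hc.symm
      refine fixed_conj φ ι hp h.pgroup h.coprime h.range h.inj ?_
      rw [map_inv]
      exact hd'.trans ((hr g rfl).trans (isConj_inv_inv hd'.symm))
  rw [← e1, ← e2]
  exact card_real_irr_eq_card_real_classes

end Coprime

section Odd

variable {G : Type u} [Group G] [Finite G] (K : Subgroup G) [K.Normal]

/-- The action of `g` on the characters of a normal subgroup. -/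
noncomputable def conjIrr [Fintype K] (g : G) (θ : IrrCharacter K) : IrrCharacter K :=
  irrComp (MulAut.conjNormal g⁻¹ : MulAut K) θ

theorem conjIrr_apply [Fintype K] (g : G) (θ : IrrCharacter K) (k : K) :
    (conjIrr K g θ : K → ℂ) k =
      (θ : K → ℂ) ((MulAut.conjNormal g⁻¹ : MulAut K) k) := rfl

theorem conjIrr_mul [Fintype K] (g h : G) (θ : IrrCharacter K) :
    conjIrr K (g * h) θ = conjIrr K g (conjIrr K h θ) :=
  Subtype.ext (funext fun k => by
    simp only [conjIrr_apply, mul_inv_rev, map_mul, MulAut.mul_apply])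

theorem conjIrr_mem [Fintype K] {g : G} (hg : g ∈ K) (θ : IrrCharacter K) :
    conjIrr K g θ = θ := by
  refine Subtype.ext (funext fun k => ?_)
  rw [conjIrr_apply]
  have e : (MulAut.conjNormal g⁻¹ : MulAut K) k =
      (⟨g, hg⟩ : K)⁻¹ * k * ((⟨g, hg⟩ : K)⁻¹)⁻¹ := Subtype.ext (by simp [MulAut.conjNormal_apply])
  rw [e, isClassFunction_character (irr_isCharacter θ.2)]

theorem map_conjNormal_mem {g : G} (hg : g ∈ K) (C : ConjClasses K) :
    ConjClasses.map (MulAut.conjNormal g : MulAut K).toMonoidHom C = C := by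
  obtain ⟨k, rfl⟩ := ConjClasses.exists_rep C
  refine ConjClasses.mk_eq_mk_iff_isConj.mpr (IsConj.symm (isConj_iff.mpr ⟨⟨g, hg⟩, ?_⟩))
  exact Subtype.ext (by simp [MulAut.conjNormal_apply])

/-- Each coset of odd index meets the elements of odd order. -/
theorem exists_odd_rep (hodd : Odd K.index) (g : G) :
    ∃ u ∈ K, ∃ w : G, g = u * w ∧ Odd (orderOf w) := by
  obtain ⟨x, y, hxy, -, ⟨j, hx⟩, hy⟩ := exists_isPPart (p := 2) Nat.prime_two g
  refine ⟨x, ?_, y, hxy.symm, Nat.odd_iff.mpr (Nat.two_dvd_ne_zero.mp hy)⟩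
  rw [← QuotientGroup.eq_one_iff, ← orderOf_eq_one_iff]
  refine Nat.eq_one_of_dvd_coprimes (Nat.Coprime.pow_left j hodd.coprime_two_left)
    (hx ▸ orderOf_map_dvd (QuotientGroup.mk' K) x) ?_
  rw [Subgroup.index_eq_card]
  exact orderOf_dvd_natCard _

/-- Real fixed characters and real fixed classes have the same number. -/
theorem card_real_fixed [Fintype K] (hodd : Odd K.index) (g : G) :
    Nat.card {θ : IrrCharacter K // irrConj θ = θ ∧ conjIrr K g θ = θ} =
      Nat.card {C : ConjClasses K // (∀ k, ConjClasses.mk k = C → IsConj k k⁻¹) ∧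
        ConjClasses.map (MulAut.conjNormal g : MulAut K).toMonoidHom C = C} := by
  classical
  obtain ⟨u, hu, w, rfl, hw⟩ := exists_odd_rep K hodd g
  obtain ⟨t, ht⟩ := hw
  set α : MulAut K := MulAut.conjNormal w⁻¹ with hα
  have hαn : α ^ orderOf w = 1 := by
    rw [hα, ← map_pow, inv_pow, pow_orderOf_eq_one, inv_one, map_one]
  have hχ : ∀ θ, conjIrr K (u * w) θ = conjIrr K w θ := fun θ => by
    rw [conjIrr_mul, conjIrr_mem K hu]
  have hC : ∀ C : ConjClasses K,
      ConjClasses.map (MulAut.conjNormal (u * w) : MulAut K).toMonoidHom C = C ↔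
        ConjClasses.map α.toMonoidHom C = C := by
    intro C
    obtain ⟨k, rfl⟩ := ConjClasses.exists_rep C
    have e1 : ConjClasses.map (MulAut.conjNormal (u * w) : MulAut K).toMonoidHom (ConjClasses.mk k) =
        ConjClasses.map (MulAut.conjNormal w : MulAut K).toMonoidHom (ConjClasses.mk k) := by
      conv_rhs => rw [← map_conjNormal_mem K hu (ConjClasses.map _ _)]
      show ConjClasses.mk _ = ConjClasses.mk _
      congr 1
      simp [MulAut.mul_apply]
    rw [e1]
    show ConjClasses.mk ((MulAut.conjNormal w : MulAut K) k) = ConjClasses.mk k ↔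
      ConjClasses.mk (α k) = ConjClasses.mk k
    rw [ConjClasses.mk_eq_mk_iff_isConj, ConjClasses.mk_eq_mk_iff_isConj]
    constructor
    · intro h
      have := α.toMonoidHom.map_isConj h
      rw [MulEquiv.coe_toMonoidHom, hα, ← MulAut.mul_apply, ← map_mul, inv_mul_cancel, map_one] at this
      exact this.symm
    · intro h
      have := (MulAut.conjNormal w : MulAut K).toMonoidHom.map_isConj h
      rw [MulEquiv.coe_toMonoidHom, hα, ← MulAut.mul_apply, ← map_mul, mul_inv_cancel, map_one] at this
      exact this.symm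
  have hiter : ∀ θ : IrrCharacter K, irrConj (irrComp α θ) = θ → ∀ m : ℕ, ∀ k : K,
      (θ : K → ℂ) ((α ^ (2 * m)) k) = (θ : K → ℂ) k := by
    intro θ hθ m
    induction m with
    | zero => intro k; simp
    | succ m ih =>
      intro k
      have h1 : ∀ x : K, conj ((θ : K → ℂ) (α x)) = (θ : K → ℂ) x := fun x => by
        conv_rhs => rw [← hθ]
        rfl
      have h2 : (θ : K → ℂ) (α (α k)) = (θ : K → ℂ) k := by
        rw [← h1 k, ← h1 (α k), Complex.conj_conj]
      rw [mul_add, mul_one, pow_succ, pow_succ, MulAut.mul_apply, MulAut.mul_apply, ih (α (α k)), h2]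
  have hiterC : ∀ k : K, IsConj (α k)⁻¹ k → ∀ m : ℕ, IsConj ((α ^ (2 * m)) k) k := by
    intro k hk m
    induction m with
    | zero => simpa using IsConj.refl k
    | succ m ih =>
      have h1 : IsConj (α k) k⁻¹ := by simpa using isConj_inv_inv hk
      have h2 : IsConj (α (α k)) k := by
        have := α.toMonoidHom.map_isConj h1
        rw [MulEquiv.coe_toMonoidHom, map_inv] at this
        exact this.trans hk
      rw [mul_add, mul_one, pow_succ, pow_succ, MulAut.mul_apply, MulAut.mul_apply]
      exact ((α ^ (2 * m)).toMonoidHom.map_isConj h2).trans ih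
  have hlast : ∀ k : K, α ((α ^ (2 * t)) k) = k := fun k => by
    rw [← MulAut.mul_apply, ← pow_succ', ← ht, hαn]; rfl
  have hT := card_fixed_of_map (fun k : K => (α k)⁻¹)
    (fun a b hab => isConj_inv_inv (α.toMonoidHom.map_isConj hab))
    (fun θ => irrConj (irrComp α θ)) (fun θ k => by
      rw [irrConj_apply, irrComp_apply, char_inv (irr_isCharacter θ.2)])
  rw [Nat.card_congr (Equiv.subtypeEquivRight fun θ => ?_), hT,
    Nat.card_congr (Equiv.subtypeEquivRight fun C => ?_)]
  · rw [hC]
    constructor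
    · intro h
      obtain ⟨k, rfl⟩ := ConjClasses.exists_rep C
      have h1 : IsConj (α k)⁻¹ k := h k rfl
      have h3 : IsConj (α k) k := by
        have := α.toMonoidHom.map_isConj (hiterC k h1 t)
        rw [MulEquiv.coe_toMonoidHom, hlast] at this
        exact this.symm
      refine ⟨fun j hj => ?_, ConjClasses.mk_eq_mk_iff_isConj.mpr h3⟩
      have hj' := ConjClasses.mk_eq_mk_iff_isConj.mp hj
      have h4 : IsConj k k⁻¹ := (h1.symm.trans (isConj_inv_inv h3))
      exact hj'.trans (h4.trans (isConj_inv_inv hj'.symm))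
    · rintro ⟨h, h'⟩ k hk
      subst hk
      have h3 : IsConj (α k) k := ConjClasses.mk_eq_mk_iff_isConj.mp h'
      exact (isConj_inv_inv h3).trans (h k rfl).symm
  · rw [hχ]
    constructor
    · rintro ⟨h, h'⟩
      show irrConj (conjIrr K w θ) = θ
      rw [h', h]
    · intro h
      have hfix : irrComp α θ = θ := Subtype.ext (funext fun k => by
        show (θ : K → ℂ) (α k) = (θ : K → ℂ) k
        have := hiter θ h t (α k)
        rw [← MulAut.mul_apply, ← pow_succ, ← ht, hαn] at this
        exact this.symm)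
      refine ⟨?_, hfix⟩
      rwa [hfix] at h

end Odd

end Cfsg.Agent.Char
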