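import Cfsg.Agent.Lib.Char.RealPrimeDegreeOver
import Cfsg.Agent.Lib.Char.ItoConverse

/-!
# Normal subgroups in the derived Sylow subgroup are central over the two-elements
-/

set_option autoImplicit false
set_option linter.unusedSectionVars false
set_option linter.style.haveILetI false

namespace Cfsg.Agent.Char.RealDeg

open Cfsg
open scoped ComplexConjugate commutatorElement

universe u

variable {G : Type u} [Group G] [Fintype G] {p : ℕ} [hp : Fact p.Prime]

/-- A `p'`-degree character has a constituent trivial on the derived Sylow subgroup. -/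
theorem kills_derived (P : Sylow p G) (V : Subgroup G) [V.Normal] [Fintype V]
    (hVP : V ≤ ⁅(P : Subgroup G), (P : Subgroup G)⁆) (χ : IrrCharacter G)
    (hd : ¬ p ∣ deg (χ : G → ℂ)) (θ : IrrCharacter V)
    (hθ : classInner (fun v : V => (χ : G → ℂ) v) (θ : V → ℂ) ≠ 0) (v : V) :
    (θ : V → ℂ) v = (θ : V → ℂ) 1 := by
  classical
  haveI := Fintype.ofFinite (P : Subgroup G)
  have hVP' : V ≤ (P : Subgroup G) := hVP.trans (Subgroup.commutator_le_self _)
  obtain ⟨m, hm⟩ := exists_decomposition (isCharacter_comp (P : Subgroup G).subtype (irr_isCharacter χ.2))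
  have hdeg : deg (χ : G → ℂ) = ∑ η, m η * deg (η : ↥(P : Subgroup G) → ℂ) := by
    have h1 := congrFun hm 1
    rw [Function.comp_apply, map_one, Finset.sum_apply, char_one_eq_deg (irr_isCharacter χ.2)] at h1
    refine Nat.cast_injective (R := ℂ) ?_
    rw [h1, Nat.cast_sum]
    refine Finset.sum_congr rfl fun η _ => ?_
    rw [Pi.smul_apply, nsmul_eq_mul, char_one_eq_deg (irr_isCharacter η.2), Nat.cast_mul]
  obtain ⟨η, hη0, hη1⟩ : ∃ η, m η ≠ 0 ∧ deg (η : ↥(P : Subgroup G) → ℂ) = 1 := by
    by_contra hno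
    push Not at hno
    refine hd (hdeg ▸ Finset.dvd_sum fun η _ => ?_)
    by_cases h0 : m η = 0
    · simp [h0]
    · obtain ⟨k, hk⟩ := IsPGroup.iff_card.mp P.isPGroup'
      obtain ⟨j, -, hj⟩ := (Nat.dvd_prime_pow hp.out).mp (hk ▸ deg_dvd_card η.2)
      have hj0 : j ≠ 0 := fun e => hno η h0 (by rw [hj, e, pow_zero])
      exact Dvd.dvd.mul_left (hj ▸ dvd_pow_self p hj0) _
  obtain ⟨l, hl⟩ := exists_hom_of_degree_one (irr_isCharacter η.2)
    (by rw [char_one_eq_deg (irr_isCharacter η.2), hη1, Nat.cast_one])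
  have hker : ∀ x : (P : Subgroup G), (x : G) ∈ ⁅(P : Subgroup G), (P : Subgroup G)⁆ → l x = 1 := by
    intro x hx
    have e : (⊤ : Subgroup (P : Subgroup G)).map (P : Subgroup G).subtype = (P : Subgroup G) := by
      rw [← MonoidHom.range_eq_map, Subgroup.range_subtype]
    have hx' : (x : G) ∈ (commutator (P : Subgroup G)).map (P : Subgroup G).subtype := by
      rw [commutator_def, Subgroup.map_commutator, e]; exact hx
    obtain ⟨y, hy, hyx⟩ := hx'
    rw [← Subtype.ext hyx]
    exact MonoidHom.mem_ker.1 (Abelianization.commutator_subset_ker l hy)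
  let one : IrrCharacter V := ⟨fun _ => 1, isIrrCharacter_one⟩
  have hone : classInner (fun v : V => (χ : G → ℂ) v) (one : V → ℂ) ≠ 0 := by
    rw [show (fun v : V => (χ : G → ℂ) v) =
        ∑ η : IrrCharacter (P : Subgroup G), m η • ((η : ↥(P : Subgroup G) → ℂ) ∘ Subgroup.inclusion hVP')
      from funext fun v => by
        have := congrFun hm (Subgroup.inclusion hVP' v)
        simpa using this, classInner_sum_left]
    choose d hd' using fun η : IrrCharacter (P : Subgroup G) => classInner_natCast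
      (isCharacter_comp (Subgroup.inclusion hVP') (irr_isCharacter η.2)) (irr_isCharacter one.2)
    rw [Finset.sum_congr rfl fun η _ => by
      rw [← Nat.cast_smul_eq_nsmul ℂ, classInner_smul_left, hd' η, ← Nat.cast_mul],
      ← Nat.cast_sum, Nat.cast_ne_zero]
    intro h0
    rcases mul_eq_zero.1 (Finset.sum_eq_zero_iff.1 h0 η (Finset.mem_univ _)) with h5 | h5
    · exact hη0 h5
    · have h6 := hd' η
      rw [show (η : ↥(P : Subgroup G) → ℂ) ∘ Subgroup.inclusion hVP' = (one : V → ℂ) from
        funext fun v => by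
          rw [Function.comp_apply, hl]
          exact congrArg Units.val (hker _ (hVP v.2)), irr_self one.2, h5, Nat.cast_zero] at h6
      exact one_ne_zero h6
  obtain ⟨g, rfl⟩ := mem_cliffOrbit.mp (mem_cliffOrbit_of_constituent hone hθ)
  rfl

/-- The two-elements centralize such a subgroup. -/
theorem central_main : ∀ (m : ℕ) (G : Type u) [Group G] [Fintype G], Nat.card G = m → p ≠ 2 →
    RealDeg p G → ∀ (P : Sylow p G) (M : Subgroup G), M.Normal →
      M ≤ ⁅(P : Subgroup G), (P : Subgroup G)⁆ →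
        ∀ k : G, (∃ j : ℕ, orderOf k = 2 ^ j) → ∀ x ∈ M, k * x = x * k := by
  intro m
  induction m using Nat.strong_induction_on with
  | _ m ih =>
    intro G _ _ hm hp2 hreal P M hM hMP k hk x hx
    classical
    by_cases hM0 : M = ⊥
    · rw [hM0, Subgroup.mem_bot] at hx
      rw [hx, mul_one, one_mul]
    haveI := hM
    obtain ⟨V, hV, hV0, hVM, hVmin⟩ := Cfsg.Agent.Solv.exists_minimal_normal_le M hM0
    haveI := hV
    haveI := Fintype.ofFinite V
    have hMp : IsPGroup p M := P.isPGroup'.to_le (hMP.trans (Subgroup.commutator_le_self _))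
    have hVp : IsPGroup p V := hMp.to_le hVM
    haveI : Group.IsNilpotent V := hVp.isNilpotent
    obtain ⟨hVab, q, hq, hexp, hVq⟩ := Cfsg.Agent.Solv.minimal_normal_elementaryAbelian V
      inferInstance hV0 hVmin
    have hqp : q = p := by
      by_contra hne
      haveI := Fact.mk hq
      exact hV0 (disjoint_self.1 (IsPGroup.disjoint_of_ne q p hne V V hVq hVp))
    have hVc : ∀ a b : V, a * b = b * a := fun a b => hVab.is_comm.comm a b
    have hodd : ¬ 2 ∣ Nat.card V := by
      obtain ⟨e, he⟩ := IsPGroup.iff_card.mp hVp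
      intro h2
      exact hp2 ((Nat.prime_dvd_prime_iff_eq Nat.prime_two hp.out).1
        (Nat.prime_two.dvd_of_dvd_pow (he ▸ h2))).symm
    have hkV : ∀ v : V, k * v = v * k := by
      by_contra hno
      push Not at hno
      obtain ⟨v, hv⟩ := hno
      obtain ⟨lam, k', i, hlam, hinv⟩ := exists_inverted_lin V hVc hq (fun w => Subtype.ext (by
        rw [Subgroup.coe_pow, OneMemClass.coe_one]; exact hexp w w.2)) hV0 (Or.inr ⟨k, hk, v, fun e => hv (by
          have h1 := congrArg Subtype.val e
          rw [MulAut.conjNormal_apply, mul_inv_eq_iff_eq_mul] at h1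
          exact h1)⟩)
      let θ : IrrCharacter V := ⟨fun v => (lam v : ℂ), by
        have := isIrr_linear_mul (isIrrCharacter_one (G := V)) lam
        simpa using this⟩
      obtain ⟨χ, hχr, hχθ⟩ := exists_real_over_odd V hVc hodd lam (k' ^ i) hinv θ fun _ => rfl
      refine hlam (MonoidHom.ext fun w => Units.ext ?_)
      have h1 := kills_derived P V (hVM.trans hMP) χ (hreal χ hχr) θ hχθ w
      show (lam w : ℂ) = 1
      rw [show (lam w : ℂ) = (θ : V → ℂ) w from rfl, h1]
      show ((lam 1 : ℂˣ) : ℂ) = 1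
      rw [map_one, Units.val_one]
    -- the quotient
    haveI := Fintype.ofFinite (G ⧸ V)
    set π := QuotientGroup.mk' V
    have hπs := QuotientGroup.mk'_surjective V
    have hlt : Nat.card (G ⧸ V) < m := by
      rw [← hm, ← V.card_mul_index, Subgroup.index]
      exact lt_mul_of_one_lt_left Nat.card_pos (Subgroup.one_lt_card_iff_ne_bot V |>.2 hV0)
    obtain ⟨j, hj⟩ := hk
    obtain ⟨i, -, hi⟩ := (Nat.dvd_prime_pow Nat.prime_two).1 (hj ▸ orderOf_map_dvd π k)
    have h1 := ih _ hlt (G ⧸ V) rfl hp2 (realDeg_quotient hreal V) (P.mapSurjective hπs) (M.map π)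
      (hM.map π hπs) (by
        rw [Sylow.coe_mapSurjective, ← Subgroup.map_commutator]
        exact Subgroup.map_mono hMP) (π k) ⟨i, hi⟩ (π x) ⟨x, hx, rfl⟩
    rw [← map_mul, ← map_mul, QuotientGroup.mk'_apply, QuotientGroup.mk'_apply, QuotientGroup.eq] at h1
    set v : G := x⁻¹ * (k * x * k⁻¹) with hv
    have hvV : v ∈ V := by
      have e2 : v = k * (((k * x)⁻¹ * (x * k))⁻¹) * k⁻¹ := by rw [hv]; group
      rw [e2]
      exact hV.conj_mem _ (V.inv_mem h1) k
    have hit : ∀ n : ℕ, k ^ n * x * (k ^ n)⁻¹ = x * v ^ n := by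
      intro n
      induction n with
      | zero => simp
      | succ n ihn =>
        calc k ^ (n + 1) * x * (k ^ (n + 1))⁻¹ = k * (k ^ n * x * (k ^ n)⁻¹) * k⁻¹ := by
              rw [pow_succ']; group
          _ = (k * x * k⁻¹) * (k * v ^ n * k⁻¹) := by rw [ihn]; group
          _ = (x * v) * v ^ n := by
              rw [show k * v ^ n = v ^ n * k from hkV ⟨_, V.pow_mem hvV n⟩, mul_inv_cancel_right, hv,
                mul_inv_cancel_left]
          _ = x * v ^ (n + 1) := by rw [mul_assoc, ← pow_succ']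
    have h2 := hit (2 ^ j)
    rw [← hj, pow_orderOf_eq_one, one_mul, inv_one, mul_one, left_eq_mul] at h2
    have h3 := pow_gcd_eq_one.2 ⟨h2, hexp v hvV⟩
    rw [hj, hqp, ((Nat.coprime_primes Nat.prime_two hp.out).2 (Ne.symm hp2)).pow_left j |>.gcd_eq_one,
      pow_one, hv, inv_mul_eq_one] at h3
    exact mul_inv_eq_iff_eq_mul.1 h3.symm

end Cfsg.Agent.Char.RealDeg
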