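import Cfsg.Agent.Lib.Char.Gallagher
import Cfsg.Agent.Lib.Char.FullyRamifiedOrbit
import Cfsg.Agent.Lib.Solv.Basic

/-!
# Real characters of degree prime to `p` and the subgroup generated by the two-elements
-/

set_option autoImplicit false
set_option linter.unusedSectionVars false
set_option linter.style.haveILetI false

namespace Cfsg.Agent.Char.RealDeg

open Cfsg
open scoped ComplexConjugate commutatorElement

universe u

/-- The subgroup generated by the elements of `r`-power order. -/
def genP (r : ℕ) (G : Type u) [Group G] : Subgroup G :=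
  Subgroup.closure {g : G | ∃ k : ℕ, orderOf g = r ^ k}

instance genP_normal (r : ℕ) (G : Type u) [Group G] : (genP r G).Normal := ⟨fun x hx g => by
  have h1 : (genP r G).map (MulAut.conj g).toMonoidHom ≤ genP r G := by
    rw [genP, MonoidHom.map_closure, Subgroup.closure_le]
    rintro _ ⟨y, ⟨k, hk⟩, rfl⟩
    exact Subgroup.subset_closure ⟨k, (MulEquiv.orderOf_eq (MulAut.conj g) y).trans hk⟩
  have h2 := h1 ⟨x, hx, rfl⟩
  simpa using h2⟩

theorem mem_genP {r : ℕ} {G : Type u} [Group G] {g : G} {k : ℕ} (h : orderOf g = r ^ k) :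
    g ∈ genP r G := Subgroup.subset_closure ⟨k, h⟩

theorem le_genP {r : ℕ} [Fact r.Prime] {G : Type u} [Group G] {H : Subgroup G} (hH : IsPGroup r H) :
    H ≤ genP r G := fun x hx => by
  obtain ⟨k, hk⟩ := IsPGroup.iff_orderOf.mp hH ⟨x, hx⟩
  exact mem_genP (by rw [← hk, ← Subgroup.orderOf_coe])

theorem map_genP {r : ℕ} [hr : Fact r.Prime] {G Q : Type u} [Group G] [Finite G] [Group Q]
    (f : G →* Q) (hf : Function.Surjective f) : (genP r G).map f = genP r Q := by
  apply le_antisymm
  · rw [genP, MonoidHom.map_closure, Subgroup.closure_le]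
    rintro _ ⟨y, ⟨k, hk⟩, rfl⟩
    obtain ⟨j, -, hj⟩ := (Nat.dvd_prime_pow hr.out).1 (hk ▸ orderOf_map_dvd f y)
    exact Subgroup.subset_closure ⟨j, hj⟩
  · rw [genP, Subgroup.closure_le]
    rintro q ⟨k, hk⟩
    obtain ⟨g, rfl⟩ := hf q
    have hn0 : orderOf g ≠ 0 := (orderOf_pos g).ne'
    set a := (orderOf g).factorization r
    set m := orderOf g / r ^ a
    have hm : Nat.Coprime m (r ^ k) :=
      ((hr.out.coprime_iff_not_dvd.2 (Nat.not_dvd_ordCompl hr.out hn0)).symm).pow_right k
    obtain ⟨u, hu⟩ := exists_pow_eq_self_of_coprime (x := f g) (n := m) (by rwa [hk])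
    refine ⟨(g ^ m) ^ u, ?_, by rw [map_pow, map_pow, hu]⟩
    obtain ⟨j, -, hj⟩ := (Nat.dvd_prime_pow hr.out).1
      (orderOf_dvd_of_pow_eq_one (n := r ^ a) (x := (g ^ m) ^ u) (by
        rw [← pow_mul, ← pow_mul, show m * (u * r ^ a) = (r ^ a * m) * u by ring,
          Nat.ordProj_mul_ordCompl_eq_self, pow_mul, pow_orderOf_eq_one, one_pow]))
    exact mem_genP hj

variable {G : Type u} [Group G] [Fintype G]

/-- Real degrees are prime to `p`. -/
def RealDeg (p : ℕ) (G : Type u) [Group G] : Prop :=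
  ∀ χ : IrrCharacter G, (∀ g : G, ((χ : G → ℂ) g).im = 0) → ¬ p ∣ deg (χ : G → ℂ)

theorem realDeg_quotient {p : ℕ} (h : RealDeg p G) (N : Subgroup G) [N.Normal] [Fintype (G ⧸ N)] :
    RealDeg p (G ⧸ N) := by
  intro ψ hψ
  have h2 : deg ((inflateEquiv N ψ).1 : G → ℂ) = deg (ψ : G ⧸ N → ℂ) := Nat.cast_injective (R := ℂ) (by
    rw [← char_one_eq_deg (irr_isCharacter (inflateEquiv N ψ).1.2),
      ← char_one_eq_deg (irr_isCharacter ψ.2), inflateEquiv_apply, QuotientGroup.mk_one])
  exact h2 ▸ h (inflateEquiv N ψ).1 fun g => by rw [inflateEquiv_apply]; exact hψ _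

/-- A complemented abelian normal subgroup gives a real character of degree the orbit length. -/
theorem exists_real_char (V N : Subgroup G) [V.Normal] (hcompl : V.IsComplement' N)
    (lam : V →* ℂˣ) {n : G} (hn : n ∈ N)
    (hconj : ∀ v : V, lam (MulAut.conjNormal n v) = (lam v)⁻¹)
    (T : Subgroup G) (hT : ∀ g : G, g ∈ T ↔ ∀ v : V, lam (MulAut.conjNormal g v) = lam v)
    (hVT : V ≤ T) :
    ∃ χ : IrrCharacter G, (∀ g : G, ((χ : G → ℂ) g).im = 0) ∧ deg (χ : G → ℂ) = T.index := by
  classical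
  haveI := Fintype.ofFinite T
  haveI := Fintype.ofFinite V
  -- the extension
  have hdec : ∀ g : G, ∃ v ∈ V, ∃ x ∈ N, v * x = g := fun g => by
    obtain ⟨⟨v, x⟩, hvx⟩ := hcompl.2 g
    exact ⟨v, v.2, x, x.2, hvx⟩
  choose a ha b hb hab using hdec
  have huniq : ∀ g : G, ∀ v ∈ V, ∀ x ∈ N, v * x = g → v = a g ∧ x = b g := by
    intro g v hv x hx e
    have := hcompl.1 (a₁ := (⟨v, hv⟩, ⟨x, hx⟩)) (a₂ := (⟨a g, ha g⟩, ⟨b g, hb g⟩)) (e.trans (hab g).symm)
    exact ⟨congrArg (fun y : V × N => (y.1 : G)) this, congrArg (fun y : V × N => (y.2 : G)) this⟩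
  have hbT : ∀ t ∈ T, b t ∈ T := fun t ht => by
    have e : b t = (a t)⁻¹ * t := eq_inv_mul_of_mul_eq (hab t)
    rw [e]
    exact T.mul_mem (T.inv_mem (hVT (ha t))) ht
  let ext : T →* ℂˣ :=
    { toFun := fun t => lam ⟨a t, ha t⟩
      map_one' := by
        have := (huniq 1 1 V.one_mem 1 N.one_mem (one_mul 1)).1
        show lam ⟨a (1 : G), ha 1⟩ = 1
        rw [show (⟨a 1, ha 1⟩ : V) = 1 from Subtype.ext this.symm, map_one]
      map_mul' := fun s t => by
        have hc : b (s : G) * a (t : G) * (b (s : G))⁻¹ ∈ V :=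
          (inferInstance : V.Normal).conj_mem _ (ha t) _
        have := (huniq ((s : G) * t) (a s * (b (s : G) * a (t : G) * (b (s : G))⁻¹))
          (V.mul_mem (ha s) hc) (b s * b t) (N.mul_mem (hb s) (hb t))
          (by calc a (s : G) * (b (s : G) * a (t : G) * (b (s : G))⁻¹) * (b (s : G) * b (t : G))
                  = (a (s : G) * b (s : G)) * (a (t : G) * b (t : G)) := by group
                _ = (s : G) * t := by rw [hab, hab])).1
        show lam ⟨a ((s : G) * t), ha _⟩ = lam ⟨a s, ha s⟩ * lam ⟨a t, ha t⟩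
        rw [show (⟨a ((s : G) * t), ha _⟩ : V) =
          ⟨a s, ha s⟩ * MulAut.conjNormal (b (s : G)) ⟨a t, ha t⟩ from Subtype.ext (by
            rw [Subgroup.coe_mul, MulAut.conjNormal_apply]; exact this.symm),
          map_mul, (hT _).1 (hbT s s.2)] }
  have hextV : ∀ (v : V), ext ⟨(v : G), hVT v.2⟩ = lam v := fun v => by
    have := (huniq (v : G) v v.2 1 N.one_mem (mul_one _)).1
    show lam ⟨a (v : G), ha _⟩ = lam v
    exact congrArg lam (Subtype.ext this.symm)
  let f : T → ℂ := fun t => (ext t : ℂ)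
  have hf : IsCharacter T f := isCharacter_linear ext
  let θ : IrrCharacter V := ⟨fun v => (lam v : ℂ), by
    have := isIrr_linear_mul (isIrrCharacter_one (G := V)) lam
    simpa using this⟩
  -- the multiplicity of `lam` in the induced character
  have hmult : classInner (fun v : V => indFun T f v) (θ : V → ℂ) = 1 := by
    have hval : ∀ v : V, indFun T f v =
        (Nat.card T : ℂ)⁻¹ * ∑ x : G, (lam (MulAut.conjNormal x⁻¹ v) : ℂ) := by
      intro v
      rw [indFun]
      congr 1
      refine Finset.sum_congr rfl fun x _ => ?_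
      have e : x⁻¹ * (v : G) * x = (MulAut.conjNormal x⁻¹ v : V) := by
        rw [MulAut.conjNormal_apply, inv_inv]
      rw [e, extendByZero_mem T _ (hVT (MulAut.conjNormal x⁻¹ v).2)]
      exact congrArg Units.val (hextV _)
    let lx : G → IrrCharacter V := fun x => irrComp (MulAut.conjNormal x⁻¹) θ
    rw [show (fun v : V => indFun T f v) = (Nat.card T : ℂ)⁻¹ • ∑ x : G, (lx x : V → ℂ) from
      funext fun v => by rw [hval v, Pi.smul_apply, Finset.sum_apply, smul_eq_mul]; rfl,
      classInner_smul_left, classInner_sum_left, Finset.sum_congr rfl fun x _ => irrC_orth (lx x) θ,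
      Finset.sum_boole,
      show (Finset.univ.filter fun x => lx x = θ) = Finset.univ.filter (fun x : G => x ∈ T) from ?_,
      ← Fintype.card_subtype, ← Nat.card_eq_fintype_card]
    · exact inv_mul_cancel₀ (Nat.cast_ne_zero.2 Nat.card_pos.ne')
    · refine Finset.filter_congr fun x _ => ?_
      rw [← T.inv_mem_iff, hT]
      constructor
      · intro e v
        exact Units.ext (congrFun (congrArg Subtype.val e) v)
      · intro e
        exact Subtype.ext (funext fun v => congrArg Units.val (e v))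
  have hchar : IsCharacter G (indFun T f) := isCharacter_indFun T hf
  obtain ⟨m, hm⟩ := exists_decomposition hchar
  choose c hc using fun ξ : IrrCharacter G => classInner_natCast
    (isCharacter_comp V.subtype (irr_isCharacter ξ.2)) (irr_isCharacter θ.2)
  have hsum : ∑ ξ, m ξ * c ξ = 1 := by
    have e : (fun v : V => indFun T f v) = ∑ ξ : IrrCharacter G, m ξ • ((ξ : G → ℂ) ∘ V.subtype) :=
      funext fun v => by rw [hm]; simp
    rw [e, classInner_sum_left, Finset.sum_congr rfl fun ξ _ => by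
      rw [← Nat.cast_smul_eq_nsmul ℂ, classInner_smul_left, hc ξ, ← Nat.cast_mul]] at hmult
    exact_mod_cast hmult
  have hpos : ∀ ξ : IrrCharacter G, m ξ ≠ 0 → c ξ ≠ 0 := by
    intro ξ hξ
    obtain ⟨k, hk⟩ := exists_decomposition (isCharacter_comp T.subtype (irr_isCharacter ξ.2))
    let fI : IrrCharacter T := ⟨f, by
      have := isIrr_linear_mul (isIrrCharacter_one (G := T)) ext
      simpa [f] using this⟩
    have h1 : k fI ≠ 0 := by
      intro h0
      have h2 := decomposition_coeff m hm ξ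
      rw [frobenius T f (isClassFunction_character (irr_isCharacter ξ.2)), ← classInner_symm,
        show (fun t : T => (ξ : G → ℂ) t) = (ξ : G → ℂ) ∘ T.subtype from rfl,
        show f = (fI : T → ℂ) from rfl, decomposition_coeff k hk fI, h0, map_natCast] at h2
      exact hξ (Nat.cast_injective h2).symm
    intro h0
    have h3 := hc ξ
    rw [show (ξ : G → ℂ) ∘ V.subtype = ∑ η : IrrCharacter T, k η • ((η : T → ℂ) ∘ Subgroup.inclusion hVT)
      from funext fun v => by
        have := congrFun hk (Subgroup.inclusion hVT v)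
        simpa using this, classInner_sum_left] at h3
    choose d hd using fun η : IrrCharacter T => classInner_natCast
      (isCharacter_comp (Subgroup.inclusion hVT) (irr_isCharacter η.2)) (irr_isCharacter θ.2)
    rw [Finset.sum_congr rfl fun η _ => by
      rw [← Nat.cast_smul_eq_nsmul ℂ, classInner_smul_left, hd η, ← Nat.cast_mul],
      ← Nat.cast_sum, Nat.cast_inj, h0, Finset.sum_eq_zero_iff] at h3
    have h4 := h3 fI (Finset.mem_univ _)
    rcases mul_eq_zero.1 h4 with h5 | h5
    · exact h1 h5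
    · have h6 := hd fI
      rw [show (fI : T → ℂ) ∘ Subgroup.inclusion hVT = (θ : V → ℂ) from
        funext fun v => congrArg Units.val (hextV v), irr_self θ.2, h5, Nat.cast_zero] at h6
      exact one_ne_zero h6
  obtain ⟨ξ₀, hξ₀⟩ : ∃ ξ, m ξ * c ξ ≠ 0 := by
    by_contra hno
    push Not at hno
    rw [Finset.sum_eq_zero fun ξ _ => hno ξ] at hsum
    exact zero_ne_one hsum
  have hone : m ξ₀ = 1 ∧ ∀ ξ ≠ ξ₀, m ξ = 0 := by
    rw [← Finset.add_sum_erase _ _ (Finset.mem_univ ξ₀)] at hsum
    have h1 : m ξ₀ * c ξ₀ = 1 := by omega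
    refine ⟨Nat.eq_one_of_mul_eq_one_right h1, fun ξ hne => by_contra fun h0 => ?_⟩
    have h2 : ∑ x ∈ Finset.univ.erase ξ₀, m x * c x = 0 := by omega
    exact mul_ne_zero h0 (hpos ξ h0)
      (Finset.sum_eq_zero_iff.1 h2 ξ (Finset.mem_erase.2 ⟨hne, Finset.mem_univ _⟩))
  have heq : indFun T f = (ξ₀ : G → ℂ) := by
    rw [hm, Finset.sum_eq_single ξ₀ (fun ξ _ hξ => by rw [hone.2 ξ hξ, zero_smul]) (by simp), hone.1,
      one_smul]
  refine ⟨ξ₀, fun g => ?_, Nat.cast_injective (R := ℂ) ?_⟩
  · rw [← heq, ← Complex.conj_eq_iff_im]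
    have hnT : ∀ y : G, y ∈ T → n * y * n⁻¹ ∈ T := fun y hy => (hT _).2 fun v => by
      rw [map_mul, map_mul]
      show lam (MulAut.conjNormal n (MulAut.conjNormal y (MulAut.conjNormal n⁻¹ v))) = _
      rw [hconj, (hT y).1 hy, ← hconj, ← MulAut.mul_apply, ← map_mul, mul_inv_cancel, map_one]
      rfl
    have hnT' : ∀ y : G, n * y * n⁻¹ ∈ T → y ∈ T := fun y hy => by
      have h1 : ∀ k : ℕ, n ^ k * (n * y * n⁻¹) * (n ^ k)⁻¹ ∈ T := fun k => by
        induction k with
        | zero => simpa using hy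
        | succ k ih =>
          have e : n ^ (k + 1) * (n * y * n⁻¹) * (n ^ (k + 1))⁻¹ =
              n * (n ^ k * (n * y * n⁻¹) * (n ^ k)⁻¹) * n⁻¹ := by
            rw [pow_succ']; group
          rw [e]; exact hnT _ ih
      have h2 := h1 (orderOf n - 1)
      have e1 : n ^ (orderOf n - 1) = n⁻¹ := eq_inv_of_mul_eq_one_left (by
        rw [← pow_succ, Nat.sub_add_cancel (orderOf_pos n), pow_orderOf_eq_one])
      rw [e1] at h2
      have e2 : n⁻¹ * (n * y * n⁻¹) * n⁻¹⁻¹ = y := by group
      rwa [e2] at h2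
    have key : ∀ y : G, conj (extendByZero T f y) = extendByZero T f (n * y * n⁻¹) := by
      intro y
      by_cases hy : y ∈ T
      · rw [extendByZero_mem T _ hy, extendByZero_mem T _ (hnT y hy)]
        have hvy := huniq (n * y * n⁻¹) (n * a y * n⁻¹) ((inferInstance : V.Normal).conj_mem _ (ha y) n)
          (n * b y * n⁻¹) (N.mul_mem (N.mul_mem hn (hb y)) (N.inv_mem hn))
          (by calc n * a y * n⁻¹ * (n * b y * n⁻¹) = n * (a y * b y) * n⁻¹ := by group
                _ = n * y * n⁻¹ := by rw [hab])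
        show conj ((lam ⟨a y, ha y⟩ : ℂˣ) : ℂ) = ((lam ⟨a (n * y * n⁻¹), ha _⟩ : ℂˣ) : ℂ)
        rw [show (⟨a (n * y * n⁻¹), ha _⟩ : V) = MulAut.conjNormal n ⟨a y, ha y⟩ from
          Subtype.ext (by rw [MulAut.conjNormal_apply]; exact hvy.1.symm), hconj, Units.val_inv_eq_inv_val]
        have hnorm : ‖((lam ⟨a y, ha y⟩ : ℂˣ) : ℂ)‖ = 1 :=
          Complex.norm_eq_one_of_pow_eq_one (n := Nat.card V) (by
            rw [← Units.val_pow_eq_pow_val, ← map_pow, pow_card_eq_one', map_one, Units.val_one])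
            Nat.card_pos.ne'
        rw [Complex.inv_def, Complex.normSq_eq_norm_sq, hnorm]
        simp
      · rw [extendByZero_not_mem T _ hy, extendByZero_not_mem T _ (fun h => hy (hnT' y h)), map_zero]
    rw [indFun, map_mul, map_inv₀, map_natCast, map_sum]
    congr 1
    refine Fintype.sum_equiv (Equiv.mulRight n⁻¹) _ _ fun x => ?_
    rw [key]
    congr 1
    simp [mul_assoc]
  · rw [← char_one_eq_deg (irr_isCharacter ξ₀.2), ← heq, indFun_one]
    show (T.index : ℂ) * ((ext 1 : ℂˣ) : ℂ) = _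
    rw [map_one, Units.val_one, mul_one]

/-- An involution-induced inversion of a nontrivial linear character. -/
theorem exists_inverted_lin (V : Subgroup G) [V.Normal] (hab : ∀ a b : V, a * b = b * a)
    {q : ℕ} (hq : q.Prime) (hexp : ∀ v : V, v ^ q = 1) (hV : V ≠ ⊥)
    (hyp : q = 2 ∨ ∃ k : G, (∃ j : ℕ, orderOf k = 2 ^ j) ∧ ∃ v : V, MulAut.conjNormal k v ≠ v) :
    ∃ (lam : V →* ℂˣ) (k : G) (i : ℕ), lam ≠ 1 ∧ ∀ v : V, lam (MulAut.conjNormal (k ^ i) v) = (lam v)⁻¹ := by
  classical
  haveI := Fintype.ofFinite V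
  letI : CommGroup V := { (inferInstance : Group V) with mul_comm := hab }
  haveI : NeZero (Monoid.exponent V) := ⟨Monoid.exponent_ne_zero_of_finite⟩
  by_cases h2 : q = 2
  · obtain ⟨v, hv⟩ := Subgroup.ne_bot_iff_exists_ne_one.1 hV
    obtain ⟨lam, hlam⟩ := CommGroup.exists_apply_ne_one_of_hasEnoughRootsOfUnity V ℂ hv
    refine ⟨lam, 1, 0, fun e => hlam (by rw [e]; rfl), fun w => ?_⟩
    rw [pow_zero, map_one]
    show lam w = (lam w)⁻¹
    exact eq_inv_of_mul_eq_one_left (by rw [← map_mul, ← sq, ← h2, hexp, map_one])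
  · obtain ⟨k, hk2, hk⟩ := hyp.resolve_left h2
    set σ : MulAut V := MulAut.conjNormal k with hσ
    obtain ⟨j, hj⟩ := hk2
    have hfin : σ ^ 2 ^ j = 1 := by rw [hσ, ← map_pow, ← hj, pow_orderOf_eq_one, map_one]
    obtain ⟨j', -, hj'⟩ := (Nat.dvd_prime_pow Nat.prime_two).1 (orderOf_dvd_of_pow_eq_one hfin)
    have hσ1 : σ ≠ 1 := fun e => by
      obtain ⟨v, hv⟩ := hk
      exact hv (DFunLike.congr_fun e v)
    have hj'0 : j' ≠ 0 := fun e => hσ1 (orderOf_eq_one_iff.1 (by rw [hj', e, pow_zero]))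
    set a : MulAut V := σ ^ 2 ^ (j' - 1) with ha
    have ha1 : a ≠ 1 := fun e => by
      have h3 := orderOf_dvd_of_pow_eq_one (show σ ^ 2 ^ (j' - 1) = 1 from e)
      rw [hj', Nat.pow_dvd_pow_iff_le_right (by norm_num)] at h3
      omega
    have ha2 : ∀ w, a (a w) = w := fun w => by
      rw [← MulAut.mul_apply, ha, ← pow_add, ← two_mul, ← pow_succ', Nat.sub_add_cancel (by omega),
        ← hj', pow_orderOf_eq_one]
      rfl
    obtain ⟨v, hv⟩ : ∃ v, a v ≠ v := by
      by_contra hno
      push Not at hno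
      exact ha1 (MulEquiv.ext hno)
    have hw : a v * v⁻¹ ≠ 1 := fun e => hv (mul_inv_eq_one.1 e)
    obtain ⟨μ, hμ⟩ := CommGroup.exists_apply_ne_one_of_hasEnoughRootsOfUnity V ℂ hw
    refine ⟨μ * (μ.comp a.toMonoidHom)⁻¹, k, 2 ^ (j' - 1), fun e => ?_, fun w => ?_⟩
    · have h3 : μ (a v * v⁻¹) * (μ (a (a v * v⁻¹)))⁻¹ = 1 := DFunLike.congr_fun e (a v * v⁻¹)
      rw [map_mul a, map_inv a, ha2, map_mul μ v, mul_inv_rev, ← map_inv μ (a v)⁻¹, inv_inv,
        map_mul μ, ← map_inv μ v] at h3
      have h4 : (μ (a v * v⁻¹)) ^ 2 = 1 := by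
        rw [sq, map_mul μ]
        exact h3
      have h5 : (μ (a v * v⁻¹)) ^ q = 1 := by rw [← map_pow, hexp, map_one]
      have h6 := pow_gcd_eq_one.2 ⟨h4, h5⟩
      rw [(Nat.coprime_primes Nat.prime_two hq).2 (Ne.symm h2), pow_one] at h6
      exact hμ h6
    · rw [map_pow MulAut.conjNormal]
      show μ (a w) * (μ (a (a w)))⁻¹ = (μ w * (μ (a w))⁻¹)⁻¹
      rw [ha2, mul_inv_rev, inv_inv]

/-- The normal Sylow subgroup of the subgroup generated by the two-elements. -/
theorem main {p : ℕ} [hp : Fact p.Prime] : ∀ (m : ℕ) (G : Type u) [Group G] [Fintype G],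
    Nat.card G = m → Group.IsSolvable (genP p G) → RealDeg p G →
      ∀ (U : Subgroup G), U.Normal → genP 2 G ≤ U → (∃ a : ℕ, (genP 2 G).relIndex U = p ^ a) →
        ∃ Q : Subgroup G, Q.Normal ∧ Q ≤ U ∧ IsPGroup p Q ∧ ¬ p ∣ Q.relIndex U := by
  intro m
  induction m using Nat.strong_induction_on with
  | _ m ih =>
    intro G _ _ hm hsol hreal K hKn hWK ha
    classical
    haveI : Fact (Nat.Prime 2) := ⟨Nat.prime_two⟩
    haveI := hKn
    set W := genP 2 G with hW
    by_cases hK0 : K = ⊥
    · refine ⟨⊥, inferInstance, bot_le, IsPGroup.of_bot, ?_⟩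
      rw [hK0, Subgroup.relIndex_self]
      exact hp.out.not_dvd_one
    obtain ⟨V, hV, hV0, hVK, hVmin⟩ := Cfsg.Agent.Solv.exists_minimal_normal_le K hK0
    haveI := hV
    haveI := Fintype.ofFinite (G ⧸ V)
    set π := QuotientGroup.mk' V with hπ
    have hπs := QuotientGroup.mk'_surjective V
    have hlt : Nat.card (G ⧸ V) < m := by
      rw [← hm, ← V.card_mul_index, Subgroup.index]
      exact lt_mul_of_one_lt_left Nat.card_pos (Subgroup.one_lt_card_iff_ne_bot V |>.2 hV0)
    obtain ⟨a, ha⟩ := ha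
    have hWmap : W.map π = genP 2 (G ⧸ V) := map_genP π hπs
    obtain ⟨Q', hQ'n, hQ'K, hQ'p, hQ'i⟩ := ih _ hlt (G ⧸ V) rfl
      (by rw [← map_genP π hπs]; exact Cfsg.Agent.Solv.isSolvable_map π hsol) (realDeg_quotient hreal V)
      (K.map π) (hKn.map π hπs) (hWmap ▸ Subgroup.map_mono hWK) (by
        have h1 := Subgroup.relIndex_comap (W.map π) π K
        rw [Subgroup.comap_map_eq, hπ, QuotientGroup.ker_mk'] at h1
        obtain ⟨j, -, hj⟩ := (Nat.dvd_prime_pow hp.out).1
          (ha ▸ Subgroup.relIndex_dvd_of_le_left K (le_sup_left (b := V) : W ≤ W ⊔ V))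
        exact ⟨j, by rw [← hWmap, ← hj]; exact h1.symm⟩)
    set L := Q'.comap π with hL
    haveI : L.Normal := hQ'n.comap _
    have hVL : V ≤ L := fun v hv => by
      rw [hL, Subgroup.mem_comap, hπ, QuotientGroup.mk'_apply, (QuotientGroup.eq_one_iff v).2 hv]
      exact one_mem _
    have hKc : (K.map π).comap π = K := by
      rw [Subgroup.comap_map_eq_self]
      rwa [hπ, QuotientGroup.ker_mk']
    have hLK : L ≤ K := hKc ▸ Subgroup.comap_mono hQ'K
    have hLKi : ¬ p ∣ L.relIndex K := by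
      rw [hL, Subgroup.relIndex_comap]
      exact hQ'i
    obtain ⟨S⟩ : Nonempty (Sylow p L) := inferInstance
    set S' := (S : Subgroup L).map L.subtype with hS'
    have hS'L : S' ≤ L := Subgroup.map_subtype_le _
    have hS'p : IsPGroup p S' := S.isPGroup'.map _
    have hS'i : S'.relIndex L = (S : Subgroup L).index := by
      rw [Subgroup.relIndex, hS', Subgroup.subgroupOf,
        Subgroup.comap_map_eq_self_of_injective L.subtype_injective]
    by_cases hSn : S'.Normal
    · refine ⟨S', hSn, hS'L.trans hLK, hS'p, fun hd => ?_⟩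
      rw [← Subgroup.relIndex_mul_relIndex S' L K hS'L hLK, hS'i] at hd
      exact (hp.out.dvd_mul.1 hd).elim S.not_dvd_index hLKi
    exfalso
    -- the product decomposition
    have hLSV : L = S' ⊔ V := by
      refine le_antisymm ?_ (sup_le hS'L hVL)
      have h1 : (S' ⊔ V).relIndex L ∣ S'.relIndex L := Subgroup.relIndex_dvd_of_le_left L le_sup_left
      have h2 : (S' ⊔ V).relIndex L ∣ V.relIndex L := Subgroup.relIndex_dvd_of_le_left L le_sup_right
      obtain ⟨e, he⟩ := IsPGroup.iff_card.mp hQ'p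
      have h3 : V.relIndex L = p ^ e := by
        have h4 := Subgroup.relIndex_comap (⊥ : Subgroup (G ⧸ V)) π L
        rw [hL, Subgroup.map_comap_eq_self_of_surjective hπs, MonoidHom.comap_bot, hπ,
          QuotientGroup.ker_mk', Subgroup.relIndex_bot_left] at h4
        rw [hL, ← hπ] at *
        exact h4.trans he
      rw [h3] at h2
      rw [hS'i] at h1
      exact Subgroup.relIndex_eq_one.1 (Nat.eq_one_of_dvd_coprimes
        ((hp.out.coprime_iff_not_dvd.2 S.not_dvd_index).pow_left e) h2 h1)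
    have hnV : ∀ (v : G), v ∈ V → ∀ s ∈ S', v * s = s * v → v * s * v⁻¹ = s := fun v _ s _ e => by
      rw [e, mul_inv_cancel_right]
    -- the Frattini decomposition
    set N := Subgroup.normalizer (S' : Set G) with hN
    have hNV : N ⊔ V = ⊤ := by
      have h1 := Sylow.normalizer_sup_eq_top S
      rw [← hS', hLSV, ← sup_assoc, show Subgroup.normalizer (S' : Set G) ⊔ S' = N from
        sup_eq_left.2 Subgroup.le_normalizer] at h1
      exact h1
    have hnotcentral : ¬ ∀ v ∈ V, ∀ s ∈ S', v * s = s * v := by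
      intro hall
      apply hSn
      refine Subgroup.normalizer_eq_top_iff.1 (top_le_iff.1 (hNV ▸ sup_le le_rfl fun v hv => ?_))
      refine Subgroup.mem_normalizer_iff.2 fun s => ⟨fun hs => ?_, fun hs => ?_⟩
      · rw [hall v hv s hs, mul_inv_cancel_right]; exact hs
      · have e := hall v⁻¹ (V.inv_mem hv) _ hs
        have e2 : s = v⁻¹ * (v * s * v⁻¹) * v := by group
        rw [e2, e, inv_mul_cancel_right]
        exact hs
    -- `V` is elementary abelian
    have hVR : V ≤ genP p G := by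
      rcases hVmin (V ⊓ genP p G) inferInstance inf_le_left with e | e
      · exfalso
        apply hnotcentral
        intro v hv s hs
        have hm' : v * s * v⁻¹ * s⁻¹ ∈ V ⊓ genP p G :=
          ⟨by
            have e1 : v * s * v⁻¹ * s⁻¹ = v * (s * v⁻¹ * s⁻¹) := by group
            rw [e1]
            exact V.mul_mem hv ((inferInstance : V.Normal).conj_mem _ (V.inv_mem hv) s),
           (genP p G).mul_mem ((inferInstance : (genP p G).Normal).conj_mem _ (le_genP hS'p hs) v)
            ((genP p G).inv_mem (le_genP hS'p hs))⟩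
        rw [e, Subgroup.mem_bot, mul_inv_eq_one, mul_inv_eq_iff_eq_mul] at hm'
        exact hm'
      · exact e ▸ inf_le_right
    obtain ⟨hVab, q, hq, hexp, hVq⟩ := Cfsg.Agent.Solv.minimal_normal_elementaryAbelian V
      (Cfsg.Agent.Solv.isSolvable_of_le hVR hsol) hV0 hVmin
    haveI := Fact.mk hq
    have hVc : ∀ a b : V, a * b = b * a := fun a b => hVab.is_comm.comm a b
    have hqp : q ≠ p := by
      intro e
      subst e
      apply hSn
      -- `L` is then a `p`-group
      have hLp : IsPGroup q L := by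
        rw [hL]
        exact hQ'p.comap_of_ker_isPGroup π (by rw [hπ, QuotientGroup.ker_mk']; exact hVq)
      have : (S : Subgroup L) = ⊤ :=
        (S.is_maximal' (hLp.to_subgroup ⊤) le_top).symm
      rw [hS', this, ← MonoidHom.range_eq_map, Subgroup.range_subtype]
      infer_instance
    have hdisj : V ⊓ N = ⊥ := by
      have hcent : ∀ v ∈ V ⊓ N, ∀ s ∈ S', v * s = s * v := by
        intro v hv s hs
        have h1 : v * s * v⁻¹ * s⁻¹ ∈ V ⊓ S' :=
          ⟨by
            have e1 : v * s * v⁻¹ * s⁻¹ = v * (s * v⁻¹ * s⁻¹) := by group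
            rw [e1]
            exact V.mul_mem hv.1 ((inferInstance : V.Normal).conj_mem _ (V.inv_mem hv.1) s),
           S'.mul_mem ((Subgroup.mem_normalizer_iff.1 hv.2 s).1 hs) (S'.inv_mem hs)⟩
        rw [(IsPGroup.disjoint_of_ne q p hqp V S' hVq hS'p).eq_bot, Subgroup.mem_bot, mul_inv_eq_one,
          mul_inv_eq_iff_eq_mul] at h1
        exact h1
      have hnorm : (V ⊓ N).Normal := by
        refine Subgroup.normalizer_eq_top_iff.1 (top_le_iff.1 (hNV ▸ sup_le ?_ ?_))
        · intro x hx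
          refine Subgroup.mem_normalizer_iff.2 fun y => ⟨fun hy => ⟨hV.conj_mem y hy.1 x,
            N.mul_mem (N.mul_mem hx hy.2) (N.inv_mem hx)⟩, fun hy => ?_⟩
          have e : y = x⁻¹ * (x * y * x⁻¹) * x⁻¹⁻¹ := by group
          rw [e]
          exact ⟨hV.conj_mem _ hy.1 x⁻¹, N.mul_mem (N.mul_mem (N.inv_mem hx) hy.2) (N.inv_mem (N.inv_mem hx))⟩
        · intro x hx
          refine Subgroup.mem_normalizer_iff.2 fun y => ⟨fun hy => ?_, fun hy => ?_⟩
          · have h2 : x * y = y * x := congrArg Subtype.val (hVc ⟨x, hx⟩ ⟨y, hy.1⟩)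
            rw [h2, mul_inv_cancel_right]; exact hy
          · have h1 : y ∈ V := by
              have e : y = x⁻¹ * (x * y * x⁻¹) * x := by group
              rw [e]; exact V.mul_mem (V.mul_mem (V.inv_mem hx) hy.1) hx
            have h2 : x * y = y * x := congrArg Subtype.val (hVc ⟨x, hx⟩ ⟨y, h1⟩)
            rwa [h2, mul_inv_cancel_right] at hy
      rcases hVmin _ hnorm inf_le_left with e | e
      · exact e
      · exact absurd (fun v hv s hs => hcent v (e.ge hv) s hs) hnotcentral
    have hcompl : V.IsComplement' N := by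
      refine Subgroup.isComplement'_of_disjoint_and_mul_eq_univ (disjoint_iff.2 hdisj) ?_
      rw [← Subgroup.normal_mul, sup_comm, hNV, Subgroup.coe_top]
    -- some two-element of `N` acts nontrivially
    have hq2 : q = 2 ∨ ∃ k : G, (∃ j : ℕ, orderOf k = 2 ^ j) ∧ ∃ v : V, MulAut.conjNormal k v ≠ v := by
      refine or_iff_not_imp_left.2 fun hq2 => ?_
      by_contra hno
      push Not at hno
      -- the two-elements lie in the complement
      have hWN : W ≤ N := by
        rw [hW, genP, Subgroup.closure_le]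
        rintro g ⟨j, hj⟩
        obtain ⟨⟨v₁, n₁⟩, hvn⟩ := hcompl.2 g
        have hcv : Commute (v₁ : G) n₁ := by
          have h1 := congrArg Subtype.val (hno g ⟨j, hj⟩ v₁)
          rw [MulAut.conjNormal_apply, mul_inv_eq_iff_eq_mul] at h1
          simp only at hvn
          rw [← hvn, mul_assoc] at h1
          exact (mul_left_cancel h1).symm
        simp only at hvn
        have h2 : ((v₁ : G)) ^ (2 ^ j) * ((n₁ : G)) ^ (2 ^ j) = 1 := by
          rw [← hcv.mul_pow, hvn, ← hj, pow_orderOf_eq_one]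
        have h3 : ((v₁ : G)) ^ (2 ^ j) = 1 := by
          have hmem : ((v₁ : G)) ^ (2 ^ j) ∈ V ⊓ N := ⟨V.pow_mem v₁.2 _, by
            rw [eq_inv_of_mul_eq_one_left h2]; exact N.inv_mem (N.pow_mem n₁.2 _)⟩
          rwa [hdisj, Subgroup.mem_bot] at hmem
        have h4 := pow_gcd_eq_one.2 ⟨h3, hexp v₁ v₁.2⟩
        rw [Nat.Coprime.gcd_eq_one (((Nat.coprime_primes Nat.prime_two hq).2 (Ne.symm hq2)).pow_left j),
          pow_one] at h4
        rw [← hvn, h4, one_mul]
        exact n₁.2
      have hWV : W ⊓ V = ⊥ := eq_bot_iff.2 (hdisj ▸ le_inf inf_le_right (inf_le_left.trans hWN))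
      have h5 : Nat.card V ∣ p ^ a := by
        have h6 : W.relIndex V = Nat.card V := by
          rw [← Subgroup.inf_relIndex_right, hWV, Subgroup.relIndex_bot_left]
        rw [← h6, ← ha]
        exact (Subgroup.relIndex_sup_right (K := W) (H := V)).symm ▸
          Dvd.intro _ (Subgroup.relIndex_mul_relIndex W (V ⊔ W) K le_sup_right (sup_le hVK hWK))
      obtain ⟨j, hj⟩ := IsPGroup.iff_card.mp hVq
      have hj0 : j ≠ 0 := fun e => hV0 (Subgroup.card_eq_one.1 (by rw [hj, e, pow_zero]))
      exact hqp ((Nat.prime_dvd_prime_iff_eq hq hp.out).1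
        (hq.dvd_of_dvd_pow ((dvd_pow_self q hj0).trans (hj ▸ h5))))
    obtain ⟨lam, k, i, hlam, hinv⟩ := exists_inverted_lin V hVc hq (fun v => Subtype.ext (by
      rw [Subgroup.coe_pow, OneMemClass.coe_one]; exact hexp v v.2)) hV0 hq2
    obtain ⟨⟨v₀, n₀⟩, hvn⟩ := hcompl.2 (k ^ i)
    have hconj : ∀ v : V, lam (MulAut.conjNormal (n₀ : G) v) = (lam v)⁻¹ := by
      intro v
      have h1 := hinv v
      rw [← hvn, map_mul] at h1
      have h2 : ∀ w : V, MulAut.conjNormal (v₀ : G) w = w := fun w => Subtype.ext (by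
        rw [MulAut.conjNormal_apply, show (v₀ : G) * w = w * v₀ from congrArg Subtype.val (hVc v₀ w),
          mul_inv_cancel_right])
      rwa [MulAut.mul_apply, h2] at h1
    let T : Subgroup G :=
      { carrier := {g | ∀ v : V, lam (MulAut.conjNormal g v) = lam v}
        one_mem' := fun v => by rw [map_one]; rfl
        mul_mem' := fun {a b} ha hb v => by rw [map_mul, MulAut.mul_apply, ha, hb]
        inv_mem' := fun {a} ha v => by
          rw [← ha, ← MulAut.mul_apply, ← map_mul, mul_inv_cancel, map_one]; rfl }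
    have hVT : V ≤ T := fun x hx v => by
      rw [show MulAut.conjNormal x v = v from Subtype.ext (by
        rw [MulAut.conjNormal_apply, show x * (v : G) = v * x from congrArg Subtype.val (hVc ⟨x, hx⟩ v),
          mul_inv_cancel_right])]
    have hST : ¬ S' ≤ T := by
      intro hle
      let W : Subgroup G := (lam.ker).map V.subtype ⊓ V
      -- the commutators with `S'` lie in the kernel
      set C : Subgroup G := Subgroup.closure {x | ∃ v ∈ V, ∃ s ∈ S', x = s * v * s⁻¹ * v⁻¹} with hC
      have hCV : C ≤ V := by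
        rw [hC, Subgroup.closure_le]
        rintro _ ⟨v, hv, s, -, rfl⟩
        exact V.mul_mem (hV.conj_mem v hv s) (V.inv_mem hv)
      have hCn : C.Normal := by
        refine Subgroup.normalizer_eq_top_iff.1 (top_le_iff.1 (hNV ▸ sup_le ?_ ?_))
        · have key : ∀ x ∈ N, C.map (MulAut.conj x).toMonoidHom ≤ C := by
            intro x hx
            rw [hC, MonoidHom.map_closure, Subgroup.closure_le]
            rintro _ ⟨_, ⟨v, hv, s, hs, rfl⟩, rfl⟩
            exact Subgroup.subset_closure ⟨x * v * x⁻¹, hV.conj_mem v hv x, x * s * x⁻¹,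
              (Subgroup.mem_normalizer_iff.1 hx s).1 hs, by simp [mul_assoc]⟩
          intro x hx
          refine Subgroup.mem_normalizer_iff.2 fun y => ⟨fun hy => key x hx ⟨y, hy, rfl⟩, fun hy => ?_⟩
          have := key x⁻¹ (N.inv_mem hx) ⟨_, hy, rfl⟩
          simpa [mul_assoc] using this
        · intro x hx
          refine Subgroup.mem_normalizer_iff.2 fun y => ⟨fun hy => ?_, fun hy => ?_⟩
          · have h2 : x * y = y * x := congrArg Subtype.val (hVc ⟨x, hx⟩ ⟨y, hCV hy⟩)
            rw [h2, mul_inv_cancel_right]; exact hy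
          · have h1 : y ∈ V := by
              have e : y = x⁻¹ * (x * y * x⁻¹) * x := by group
              rw [e]; exact V.mul_mem (V.mul_mem (V.inv_mem hx) (hCV hy)) hx
            have h2 : x * y = y * x := congrArg Subtype.val (hVc ⟨x, hx⟩ ⟨y, h1⟩)
            rwa [h2, mul_inv_cancel_right] at hy
      rcases hVmin C hCn hCV with e | e
      · apply hnotcentral
        intro v hv s hs
        have h1 : s * v * s⁻¹ * v⁻¹ ∈ C := Subgroup.subset_closure ⟨v, hv, s, hs, rfl⟩
        rw [e, Subgroup.mem_bot, mul_inv_eq_one, mul_inv_eq_iff_eq_mul] at h1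
        exact h1.symm
      · apply hlam
        have h1 : C ≤ lam.ker.map V.subtype := by
          rw [hC, Subgroup.closure_le]
          rintro _ ⟨v, hv, s, hs, rfl⟩
          refine ⟨MulAut.conjNormal s ⟨v, hv⟩ * (⟨v, hv⟩ : V)⁻¹, MonoidHom.mem_ker.2 ?_, ?_⟩
          · rw [map_mul, map_inv, hle hs, mul_inv_cancel]
          · simp
        refine MonoidHom.ext fun v => ?_
        obtain ⟨w, hw, hwv⟩ := h1 (e.ge v.2)
        rw [← Subtype.ext hwv]
        exact MonoidHom.mem_ker.1 hw
    obtain ⟨χ, hχr, hχd⟩ := exists_real_char V N hcompl lam n₀.2 hconj T (fun g => Iff.rfl) hVT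
    refine hreal χ hχr (hχd.symm ▸ ?_)
    -- `p` divides the orbit length
    set TN := T.subgroupOf N with hTN
    haveI hSN : (S'.subgroupOf N).Normal := Subgroup.normal_in_normalizer
    haveI := Fintype.ofFinite N
    have h1 : TN.relIndex (TN ⊔ S'.subgroupOf N) = TN.relIndex (S'.subgroupOf N) :=
      FROrbit.relIndex_sup_of_normal (S'.subgroupOf N) TN
    have h2 : TN.relIndex (S'.subgroupOf N) ∣ TN.index :=
      h1 ▸ Dvd.intro _ (Subgroup.relIndex_mul_index (le_sup_left (b := S'.subgroupOf N)))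
    rw [hTN, Subgroup.relIndex_subgroupOf Subgroup.le_normalizer] at h2
    have h3 : p ∣ T.relIndex S' := by
      obtain ⟨e, he⟩ := IsPGroup.iff_card.mp hS'p
      obtain ⟨j, -, hj⟩ := (Nat.dvd_prime_pow hp.out).1 (he ▸ Subgroup.index_dvd_card (T.subgroupOf S'))
      have hj0 : j ≠ 0 := fun e0 => hST (Subgroup.relIndex_eq_one.1 (by
        rw [Subgroup.relIndex, hj, e0, pow_zero]))
      rw [Subgroup.relIndex, hj]
      exact dvd_pow_self p hj0
    have h4 : T.relIndex N = T.index := by
      have hT' : T = (T ⊓ N) ⊔ V := by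
        refine le_antisymm (fun x hx => ?_) (sup_le inf_le_left hVT)
        obtain ⟨y, hy, v, hv, rfl⟩ := Subgroup.mem_sup_of_normal_right.1 (hNV.ge (Subgroup.mem_top x))
        have hyT : y ∈ T := by
          have e : y = (y * v) * v⁻¹ := by rw [mul_inv_cancel_right]
          rw [e]
          exact T.mul_mem hx (T.inv_mem (hVT hv))
        exact Subgroup.mul_mem _ (le_sup_left (b := V) (show y ∈ T ⊓ N from ⟨hyT, hy⟩))
          (le_sup_right (a := T ⊓ N) hv)
      have hVi : V.relIndex T = Nat.card (T ⊓ N : Subgroup G) := by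
        conv_lhs => rw [hT', Subgroup.relIndex_sup_right]
        rw [← Subgroup.inf_relIndex_right,
          show V ⊓ (T ⊓ N) = ⊥ from eq_bot_iff.2 (hdisj ▸ le_inf inf_le_left (inf_le_right.trans inf_le_right)),
          Subgroup.relIndex_bot_left]
      have e1 : Nat.card (T ⊓ N : Subgroup G) * T.index = Nat.card N := by
        rw [← hVi, Subgroup.relIndex_mul_index hVT, hcompl.symm.index_eq_card]
      have e2 : Nat.card (T ⊓ N : Subgroup G) * T.relIndex N = Nat.card N := by
        rw [← Subgroup.inf_relIndex_right T N, ← Subgroup.relIndex_bot_left,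
          Subgroup.relIndex_mul_relIndex ⊥ (T ⊓ N) N bot_le inf_le_right, Subgroup.relIndex_bot_left]
      exact Nat.eq_of_mul_eq_mul_left Nat.card_pos (e2.trans e1.symm)
    exact (h3.trans h2).trans (dvd_of_eq h4)

end Cfsg.Agent.Char.RealDeg
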