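import Cfsg.Agent.Lib.Char.RealPrimeDegreeOrbits

/-!
# Every real class meets the Sylow normalizer
-/

set_option autoImplicit false
set_option linter.unusedSectionVars false
set_option linter.style.haveILetI false

namespace Cfsg.Agent.Char.RealDeg

open Cfsg

universe u

variable {G : Type u} [Group G] [Fintype G] {p : ℕ} [hp : Fact p.Prime]

theorem odd_index_genP_two : Odd (genP 2 G).index := by
  haveI : Fact (Nat.Prime 2) := ⟨Nat.prime_two⟩
  obtain ⟨S⟩ : Nonempty (Sylow 2 G) := inferInstance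
  rw [Nat.odd_iff, ← Nat.two_dvd_ne_zero]
  exact fun hd => S.not_dvd_index (hd.trans (Subgroup.index_dvd_of_le (le_genP S.isPGroup')))

theorem real_mem_genP_two {x : G} (hx : IsConj x x⁻¹) : x ∈ genP 2 G := by
  haveI : Fact (Nat.Prime 2) := ⟨Nat.prime_two⟩
  haveI := Fintype.ofFinite (G ⧸ genP 2 G)
  have hodd : Odd (Nat.card (G ⧸ genP 2 G)) := odd_index_genP_two
  have h := (QuotientGroup.mk' (genP 2 G)).map_isConj hx
  rw [map_inv] at h
  exact (QuotientGroup.eq_one_iff x).1 (eq_one_of_isConj_inv_odd hodd h)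

theorem real_meets_normalizer (hsol : Group.IsSolvable (genP p G)) (hreal : RealDeg p G)
    (P : Sylow p G) (x : G) (hx : IsConj x x⁻¹) :
    ∃ g : G, g * x * g⁻¹ ∈ Subgroup.normalizer ((P : Subgroup G) : Set G) := by
  classical
  haveI : Fact (Nat.Prime 2) := ⟨Nat.prime_two⟩
  obtain ⟨Q, hQn, hQle, hQp, hQi⟩ := main (p := p) _ G rfl hsol hreal (genP 2 G) inferInstance le_rfl
    ⟨0, by rw [Subgroup.relIndex_self, pow_zero]⟩
  haveI := hQn
  haveI := Fintype.ofFinite (G ⧸ Q)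
  set π := QuotientGroup.mk' Q with hπ
  have hπs := QuotientGroup.mk'_surjective Q
  haveI := Fintype.ofFinite (genP 2 (G ⧸ Q))
  have hcard : Nat.card (genP 2 (G ⧸ Q)) = Q.relIndex (genP 2 G) := by
    rw [← map_genP π hπs]
    have h1 := Subgroup.relIndex_comap (⊥ : Subgroup (G ⧸ Q)) π (genP 2 G)
    rw [MonoidHom.comap_bot, hπ, QuotientGroup.ker_mk', Subgroup.relIndex_bot_left] at h1
    exact h1.symm
  have hreal' : IsConj (π x) (π x)⁻¹ := by rw [← map_inv]; exact π.map_isConj hx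
  have hmem := real_mem_genP_two hreal'
  -- the conjugating element may be chosen in the subgroup
  have hconjK : IsConj (⟨π x, hmem⟩ : genP 2 (G ⧸ Q)) (⟨π x, hmem⟩ : genP 2 (G ⧸ Q))⁻¹ := by
    obtain ⟨c, hc⟩ := isConj_iff.1 hreal'
    have hstep : ∀ k : ℕ, Even k → c ^ k * π x * (c ^ k)⁻¹ = π x := by
      rintro k ⟨j, rfl⟩
      induction j with
      | zero => simp
      | succ j ih =>
        have h2 : c * (π x)⁻¹ * c⁻¹ = π x := by
          rw [← conj_inv, hc, inv_inv]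
        calc c ^ (j + 1 + (j + 1)) * π x * (c ^ (j + 1 + (j + 1)))⁻¹
            = c * (c * (c ^ (j + j) * π x * (c ^ (j + j))⁻¹) * c⁻¹) * c⁻¹ := by
              rw [show j + 1 + (j + 1) = 1 + (1 + (j + j)) by omega, pow_add, pow_add, pow_one]; group
          _ = π x := by rw [ih, hc, h2]
    have hn : ∃ n : ℕ, Odd n ∧ c ^ n ∈ genP 2 (G ⧸ Q) := by
      refine ⟨(genP 2 (G ⧸ Q)).index, odd_index_genP_two, ?_⟩
      rw [← QuotientGroup.eq_one_iff, QuotientGroup.mk_pow, Subgroup.index]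
      exact pow_card_eq_one'
    obtain ⟨n, ⟨j, rfl⟩, hmemc⟩ := hn
    refine isConj_iff.2 ⟨⟨_, hmemc⟩, Subtype.ext ?_⟩
    show c ^ (2 * j + 1) * π x * (c ^ (2 * j + 1))⁻¹ = (π x)⁻¹
    calc c ^ (2 * j + 1) * π x * (c ^ (2 * j + 1))⁻¹
        = c * (c ^ (2 * j) * π x * (c ^ (2 * j))⁻¹) * c⁻¹ := by rw [pow_succ']; group
      _ = (π x)⁻¹ := by rw [hstep _ ⟨j, two_mul j⟩, hc]
  obtain ⟨g, hg⟩ := real_meets_normalizer_core (genP 2 (G ⧸ Q)) odd_index_genP_two
    (by rw [hcard]; exact hQi) (realDeg_quotient hreal Q) (P.mapSurjective hπs) ⟨π x, hmem⟩ hconjK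
  obtain ⟨g, rfl⟩ := hπs g
  refine ⟨g, Subgroup.mem_normalizer_iff.2 fun y => ?_⟩
  have hQP : Q ≤ (P : Subgroup G) := by
    obtain ⟨R, hR⟩ := hQp.exists_le_sylow
    obtain ⟨t, ht⟩ := MulAction.exists_smul_eq G R P
    intro q hq
    rw [← ht]
    refine ⟨t⁻¹ * q * t, hR ?_, ?_⟩
    · simpa using hQn.conj_mem q hq t⁻¹
    · show t * (t⁻¹ * q * t) * t⁻¹ = q
      group
  have hiff : ∀ z : G, z ∈ (P : Subgroup G) ↔ π z ∈ ((P.mapSurjective hπs : Sylow p (G ⧸ Q)) : Subgroup (G ⧸ Q)) := by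
    intro z
    rw [Sylow.coe_mapSurjective, ← Subgroup.mem_comap, Subgroup.comap_map_eq_self]
    rwa [hπ, QuotientGroup.ker_mk']
  rw [hiff, hiff (g * x * g⁻¹ * y * (g * x * g⁻¹)⁻¹)]
  have h1 := Subgroup.mem_normalizer_iff.1 hg (π y)
  rw [map_mul, map_mul, map_inv, map_mul, map_mul, map_inv]
  exact h1

end Cfsg.Agent.Char.RealDeg
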