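import Cfsg.Agent.Lib.Char.RealOverOdd
import Cfsg.Agent.Lib.Char.RealPrimeDegreeMeets

/-!
# The correspondence of real characters with the Sylow normalizer
-/

set_option autoImplicit false
set_option linter.unusedSectionVars false
set_option linter.style.haveILetI false

namespace Cfsg.Agent.Char.RealDeg

open Cfsg
open scoped ComplexConjugate

universe u

variable {G : Type u} [Group G] [Fintype G] {p : ℕ} [hp : Fact p.Prime]

theorem mem_irrStabilizer_conjIrr (K : Subgroup G) [K.Normal] [Fintype K] (θ : IrrCharacter K)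
    (g : G) : g ∈ irrStabilizer K θ ↔ conjIrr K g θ = θ :=
  ⟨fun h => (irrStabilizer K θ).inv_mem h, fun h => inv_inv g ▸ (irrStabilizer K θ).inv_mem h⟩

theorem constituent_conjIrr (K : Subgroup G) [K.Normal] [Fintype K] {χ : IrrCharacter G}
    {θ : IrrCharacter K} (h : classInner (fun k : K => (χ : G → ℂ) k) (θ : K → ℂ) ≠ 0) (g : G) :
    classInner (fun k : K => (χ : G → ℂ) k) (conjIrr K g θ : K → ℂ) ≠ 0 :=
  constituent_irrComp h g⁻¹

/-- The index of a subgroup containing a Sylow subgroup, computed in the normalizer, modulo `p`. -/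
theorem index_congr_normalizer (P : Sylow p G) (T : Subgroup G) (hPT : (P : Subgroup G) ≤ T) :
    ((T.subgroupOf (Subgroup.normalizer ((P : Subgroup G) : Set G))).index : ZMod p) = (T.index : ZMod p) := by
  set N := Subgroup.normalizer ((P : Subgroup G) : Set G) with hN
  have h1 : (N.index : ZMod p) = 1 := by
    have e1 : Nat.card (Sylow p G) = N.index := P.card_eq_index_normalizer
    rw [← e1, ← Nat.cast_one, ZMod.natCast_eq_natCast_iff]
    exact card_sylow_modEq_one p G
  have h2 : ((N.subgroupOf T).index : ZMod p) = 1 := by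
    have e1 := (P.subtype hPT).card_eq_index_normalizer
    have e2 : (N.subgroupOf T) = Subgroup.normalizer (((P : Subgroup G).subgroupOf T : Subgroup T) : Set T) := by
      rw [hN]; exact Subgroup.subgroupOf_normalizer_eq hPT
    rw [e2]
    change Nat.card _ = (Subgroup.normalizer (((P : Subgroup G).subgroupOf T : Subgroup T) : Set T)).index at e1
    rw [← e1, ← Nat.cast_one, ZMod.natCast_eq_natCast_iff]
    exact card_sylow_modEq_one p T
  have h3 : (N.subgroupOf T).index * T.index = (T.subgroupOf N).index * N.index := by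
    show N.relIndex T * T.index = T.relIndex N * N.index
    rw [← Subgroup.inf_relIndex_left T N, Subgroup.relIndex_mul_index inf_le_left,
      ← Subgroup.inf_relIndex_right T N, Subgroup.relIndex_mul_index inf_le_right]
  have h4 := congrArg (Nat.cast : ℕ → ZMod p) h3
  rw [Nat.cast_mul, Nat.cast_mul, h1, h2, one_mul, mul_one] at h4
  exact h4.symm

/-- The correspondence, given a normal Sylow subgroup of a normal subgroup of odd index. -/
theorem corr_core (K : Subgroup G) [K.Normal] [Fintype K] (hodd : Odd K.index) (Q : Subgroup G)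
    [Q.Normal] (hQK : Q ≤ K) (hQp : IsPGroup p Q) (hQi : ¬ p ∣ Q.relIndex K) (hreal : RealDeg p G)
    (P : Sylow p G) [Fintype (Subgroup.normalizer ((P : Subgroup G) : Set G))] :
    ∃ f : {χ : IrrCharacter G // ∀ g : G, ((χ : G → ℂ) g).im = 0} →
        {ξ : IrrCharacter (Subgroup.normalizer ((P : Subgroup G) : Set G)) //
          (∀ n, ((ξ : Subgroup.normalizer ((P : Subgroup G) : Set G) → ℂ) n).im = 0) ∧
            ¬ p ∣ deg (ξ : Subgroup.normalizer ((P : Subgroup G) : Set G) → ℂ)},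
      Function.Bijective f ∧ ∀ χ,
        ((deg ((f χ).1 : Subgroup.normalizer ((P : Subgroup G) : Set G) → ℂ) : ZMod p) = (deg (χ.1 : G → ℂ) : ZMod p) ∨
          (deg ((f χ).1 : Subgroup.normalizer ((P : Subgroup G) : Set G) → ℂ) : ZMod p) = -(deg (χ.1 : G → ℂ) : ZMod p)) := by
  classical
  set N := Subgroup.normalizer ((P : Subgroup G) : Set G) with hN
  have hPN : (P : Subgroup G) ≤ N := Subgroup.le_normalizer
  have hQP : Q ≤ (P : Subgroup G) := by
    obtain ⟨R, hR⟩ := hQp.exists_le_sylow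
    obtain ⟨t, ht⟩ := MulAction.exists_smul_eq G R P
    intro q hq
    rw [← ht]
    refine ⟨t⁻¹ * q * t, hR ?_, ?_⟩
    · simpa using (inferInstance : Q.Normal).conj_mem q hq t⁻¹
    · show t * (t⁻¹ * q * t) * t⁻¹ = q
      group
  have hPK : ∀ y : G, y ∈ (P : Subgroup G) → y ∈ K → y ∈ Q := by
    intro y hy hyK
    haveI : (Q.subgroupOf K).Normal := Subgroup.Normal.comap inferInstance _
    obtain ⟨k, hk⟩ := P.isPGroup' ⟨y, hy⟩
    have h1 : (QuotientGroup.mk' (Q.subgroupOf K) ⟨y, hyK⟩) ^ p ^ k = 1 := by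
      rw [← map_pow, show (⟨y, hyK⟩ : K) ^ p ^ k = 1 from
        Subtype.ext (show y ^ p ^ k = 1 from congrArg Subtype.val hk), map_one]
    have h2 : (QuotientGroup.mk' (Q.subgroupOf K) ⟨y, hyK⟩) ^ Q.relIndex K = 1 := pow_card_eq_one'
    have h3 := pow_gcd_eq_one.2 ⟨h1, h2⟩
    rw [((hp.out.coprime_iff_not_dvd.2 hQi).pow_left k).gcd_eq_one, pow_one, QuotientGroup.mk'_apply,
      QuotientGroup.eq_one_iff] at h3
    exact h3
  set C := K.subgroupOf N with hC
  haveI : C.Normal := (inferInstance : K.Normal).comap _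
  haveI : Fintype C := Fintype.ofFinite _
  haveI : (Q.subgroupOf K).Normal := Subgroup.Normal.comap inferInstance _
  haveI : Fintype (Q.subgroupOf K) := Fintype.ofFinite _
  have hoddC : Odd C.index := hodd.of_dvd_nat (Subgroup.relIndex_dvd_index_of_normal K N)
  let φ : (P : Subgroup G) →* MulAut K := (MulAut.conjNormal (H := K)).comp (P : Subgroup G).subtype
  let φC : (P : Subgroup G) →* MulAut C := (MulAut.conjNormal (H := C)).comp (Subgroup.inclusion hPN)
  let ι : C →* K :=
    { toFun := fun c => ⟨((c : N) : G), c.2⟩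
      map_one' := rfl
      map_mul' := fun a b => rfl }
  obtain ⟨F, hFbij, hF⟩ := relFix_main φ (Q.subgroupOf K) ι φC hp.out P.isPGroup'
    (hQp.of_equiv (Subgroup.subgroupOfEquivOfLe hQK).symm) hQi
    (fun s n hn => (inferInstance : Q.Normal).conj_mem _ hn (s : G))
    (fun a b e => Subtype.ext (Subtype.ext (congrArg (fun z : K => (z : G)) e)))
    (fun k => by
      constructor
      · rintro ⟨c, rfl⟩ s
        show (s : G) * ((c : N) : G) * (s : G)⁻¹ * ((c : N) : G)⁻¹ ∈ Q
        refine hPK _ ?_ (K.mul_mem ((inferInstance : K.Normal).conj_mem _ c.2 _) (K.inv_mem c.2))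
        rw [show (s : G) * ((c : N) : G) * (s : G)⁻¹ * ((c : N) : G)⁻¹ =
          (s : G) * (((c : N) : G) * (s : G)⁻¹ * ((c : N) : G)⁻¹) by group]
        exact (P : Subgroup G).mul_mem s.2 ((Subgroup.mem_normalizer_iff.1 (c : N).2 _).1
          ((P : Subgroup G).inv_mem s.2))
      · intro hk
        refine ⟨⟨⟨k, ?_⟩, k.2⟩, rfl⟩
        rw [hN, Subgroup.mem_normalizer_iff]
        have hk' : ∀ y ∈ (P : Subgroup G), (k : G) * y * (k : G)⁻¹ ∈ (P : Subgroup G) := fun y hy => by
          have h1 : y * (k : G) * y⁻¹ * (k : G)⁻¹ ∈ Q := hk ⟨y, hy⟩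
          have h2 := (P : Subgroup G).mul_mem ((P : Subgroup G).inv_mem hy) (hQP h1)
          rw [show y⁻¹ * (y * (k : G) * y⁻¹ * (k : G)⁻¹) = (k : G) * y⁻¹ * (k : G)⁻¹ by group] at h2
          simpa [mul_assoc] using (P : Subgroup G).inv_mem h2
        have hnm : (k : G) ∈ N := by
          rw [hN]
          exact Subgroup.mem_normalizer_fintype hk'
        exact Subgroup.mem_normalizer_iff.1 hnm)
    (fun s c => Subtype.ext (by simp [φ, φC, ι, MulAut.conjNormal_apply]))
  -- invariance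
  have hinvK : ∀ θ : IrrCharacter K, IsActInvariant φ (θ : K → ℂ) ↔
      ∀ y ∈ (P : Subgroup G), conjIrr K y θ = θ := by
    intro θ
    constructor
    · intro hs y hy
      exact Subtype.ext (funext fun k => hs ⟨y⁻¹, (P : Subgroup G).inv_mem hy⟩ k)
    · intro hy s k
      have := congrFun (congrArg Subtype.val (hy (s : G)⁻¹ ((P : Subgroup G).inv_mem s.2))) k
      rwa [conjIrr_apply, inv_inv] at this
  have hinvC : ∀ β : IrrCharacter C, IsActInvariant φC (β : C → ℂ) ↔
      ∀ y : (P : Subgroup G), conjIrr C (Subgroup.inclusion hPN y) β = β := by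
    intro β
    constructor
    · intro hs y
      exact Subtype.ext (funext fun c => hs y⁻¹ c)
    · intro hy s c
      have := congrFun (congrArg Subtype.val (hy s⁻¹)) c
      rw [conjIrr_apply] at this
      simpa [φC] using this
  have hnconj : ∀ (n : N) (y : G), y ∈ (P : Subgroup G) → (n : G)⁻¹ * y * n ∈ (P : Subgroup G) := by
    intro n y hy
    have := (Subgroup.mem_normalizer_iff.1 (N.inv_mem n.2) y).1 hy
    simpa using this
  have hconjK : ∀ (n : N) (θ : IrrCharacter K), IsActInvariant φ (θ : K → ℂ) →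
      IsActInvariant φ (conjIrr K (n : G) θ : K → ℂ) := by
    intro n θ hθ
    rw [hinvK] at hθ ⊢
    intro y hy
    rw [← conjIrr_mul, show y * (n : G) = n * ((n : G)⁻¹ * y * n) by group, conjIrr_mul,
      hθ _ (hnconj n y hy)]
  have hconjC : ∀ (n : N) (β : IrrCharacter C), IsActInvariant φC (β : C → ℂ) →
      IsActInvariant φC (conjIrr C n β : C → ℂ) := by
    intro n β hβ
    rw [hinvC] at hβ ⊢
    intro y
    have e : Subgroup.inclusion hPN y * n = n * Subgroup.inclusion hPN ⟨_, hnconj n y y.2⟩ :=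
      Subtype.ext (by simp [mul_assoc])
    rw [← conjIrr_mul, e, conjIrr_mul, hβ]
  let XK := {θ : IrrCharacter K // IsActInvariant φ (θ : K → ℂ)}
  let XC := {β : IrrCharacter C // IsActInvariant φC (β : C → ℂ)}
  have hequiv : ∀ (n : N) (θ : XK),
      (F ⟨conjIrr K (n : G) θ.1, hconjK n θ.1 θ.2⟩).1 = conjIrr C n (F θ).1 := by
    intro n θ
    have h1 := ((hF θ).1 (F θ)).iff hp.out |>.2 rfl
    have h2 : classInner (fun c => (conjIrr K (n : G) θ.1 : K → ℂ) (ι c)) (conjIrr C n (F θ).1 : C → ℂ) =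
        classInner (fun c => (θ.1 : K → ℂ) (ι c)) ((F θ).1 : C → ℂ) := by
      rw [← classInner_comp_mulEquiv (MulAut.conjNormal n⁻¹ : MulAut C)
        (fun c => (θ.1 : K → ℂ) (ι c)) ((F θ).1 : C → ℂ)]
      refine congrArg₂ classInner (funext fun c => ?_) rfl
      exact congrArg (θ.1 : K → ℂ) (Subtype.ext (by simp [ι, MulAut.conjNormal_apply]))
    rw [← h2] at h1
    exact congrArg Subtype.val ((((hF ⟨conjIrr K (n : G) θ.1, hconjK n θ.1 θ.2⟩).1
      ⟨conjIrr C n (F θ).1, hconjC n _ (F θ).2⟩).iff hp.out).1 h1).symm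
  have hirrconj : ∀ θ : XK, (F ⟨irrConj θ.1, fun s k => by
      rw [irrConj_apply, irrConj_apply, θ.2]⟩).1 = irrConj (F θ).1 := by
    intro θ
    have h1 := ((hF θ).1 (F θ)).iff hp.out |>.2 rfl
    have h2 : classInner (fun c => (irrConj θ.1 : K → ℂ) (ι c)) (irrConj (F θ).1 : C → ℂ) =
        classInner (fun c => (θ.1 : K → ℂ) (ι c)) ((F θ).1 : C → ℂ) := by
      obtain ⟨m, hm, -⟩ := h1
      have e := congrArg conj hm
      rw [map_natCast] at e
      rw [hm, ← e]
      simp only [classInner, map_mul, map_inv₀, map_natCast, map_sum, irrConj_apply]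
    rw [← h2] at h1
    exact congrArg Subtype.val ((((hF ⟨irrConj θ.1, fun s k => by
      rw [irrConj_apply, irrConj_apply, θ.2]⟩).1
      ⟨irrConj (F θ).1, fun s c => by rw [irrConj_apply, irrConj_apply, (F θ).2]⟩).iff hp.out).1 h1).symm
  have hFreal : ∀ θ : XK, irrConj θ.1 = θ.1 ↔ irrConj (F θ).1 = (F θ).1 := by
    intro θ
    constructor
    · intro h
      rw [← hirrconj θ]
      exact congrArg (fun z => (F z).1) (Subtype.ext h)
    · intro h
      exact congrArg Subtype.val (hFbij.1 (Subtype.ext ((hirrconj θ).trans h)))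
  have hFdeg : ∀ θ : XK, p ∣ deg ((F θ).1 : C → ℂ) ↔ p ∣ deg (θ.1 : K → ℂ) := by
    intro θ
    rw [← ZMod.natCast_eq_zero_iff, ← ZMod.natCast_eq_zero_iff]
    rcases (hF θ).2 with h | h <;> rw [h]
    rw [neg_eq_zero]
  have hstab : ∀ θ : XK, irrStabilizer C (F θ).1 = (irrStabilizer K θ.1).subgroupOf N := by
    intro θ
    ext n
    rw [Subgroup.mem_subgroupOf, mem_irrStabilizer_conjIrr, mem_irrStabilizer_conjIrr, ← hequiv n θ]
    exact ⟨fun h => congrArg Subtype.val (hFbij.1 (Subtype.ext h)),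
      fun h => congrArg (fun z => (F z).1) (Subtype.ext h)⟩
  -- the real character below, fixed by the Sylow subgroup
  have hbelow : ∀ χ : {χ : IrrCharacter G // ∀ g : G, ((χ : G → ℂ) g).im = 0},
      ∃ θ : XK, irrConj θ.1 = θ.1 ∧
        classInner (fun k : K => (χ.1 : G → ℂ) k) (θ.1 : K → ℂ) ≠ 0 := by
    intro χ
    have hχ := (irrConj_eq_iff χ.1).2 χ.2
    obtain ⟨θ, hθ, hover⟩ := exists_real_below K hodd χ.1 hχ
    obtain ⟨χ', -, -, hdeg, huniq⟩ := real_over_odd K hodd θ hθ
    rw [← huniq χ.1 hχ hover] at hdeg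
    have hpT : ¬ p ∣ (irrStabilizer K θ).index := fun hd =>
      hreal χ.1 χ.2 (hdeg ▸ hd.mul_right _)
    let θX : RealIrr K := ⟨θ, hθ⟩
    let O := MulAction.orbit G θX
    have hst : MulAction.stabilizer G θX = irrStabilizer K θ := by
      ext g
      rw [MulAction.mem_stabilizer_iff, mem_irrStabilizer_conjIrr]
      exact ⟨fun h => congrArg Subtype.val h, fun h => Subtype.ext h⟩
    have hO : Nat.card O = (irrStabilizer K θ).index := by
      rw [← hst, MulAction.index_stabilizer]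
      rfl
    obtain ⟨x, hx⟩ := P.isPGroup'.nonempty_fixed_point_of_prime_not_dvd_card O (hO ▸ hpT)
    refine ⟨⟨x.1.1, (hinvK _).2 fun y hy => ?_⟩, x.1.2, ?_⟩
    · exact congrArg (fun z : O => z.1.1) (hx ⟨y, hy⟩)
    · obtain ⟨g, hg⟩ := x.2
      have e : x.1.1 = conjIrr K g θ := congrArg Subtype.val hg.symm
      show classInner _ (x.1.1 : K → ℂ) ≠ 0
      rw [e]
      exact constituent_conjIrr K hover g
  choose θf hθr hθo using hbelow
  have hξex : ∀ χ, ∃ ξ : IrrCharacter N, irrConj ξ = ξ ∧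
      classInner (fun c : C => (ξ : N → ℂ) c) ((F (θf χ)).1 : C → ℂ) ≠ 0 ∧
      deg (ξ : N → ℂ) = (irrStabilizer C (F (θf χ)).1).index * deg ((F (θf χ)).1 : C → ℂ) ∧
      ∀ ξ' : IrrCharacter N, irrConj ξ' = ξ' →
        classInner (fun c : C => (ξ' : N → ℂ) c) ((F (θf χ)).1 : C → ℂ) ≠ 0 → ξ' = ξ := fun χ =>
    real_over_odd C hoddC _ ((hFreal _).1 (hθr χ))
  choose ξf hξr hξo hξd hξu using hξex
  have hPθ : ∀ θ : XK, (P : Subgroup G) ≤ irrStabilizer K θ.1 := fun θ y hy =>
    (mem_irrStabilizer_conjIrr K θ.1 y).2 ((hinvK _).1 θ.2 y hy)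
  have hdχ : ∀ χ, deg (χ.1 : G → ℂ) = (irrStabilizer K (θf χ).1).index * deg ((θf χ).1 : K → ℂ) := by
    intro χ
    obtain ⟨χ', -, -, hd, hu⟩ := real_over_odd K hodd _ (hθr χ)
    rw [hu χ.1 ((irrConj_eq_iff _).2 χ.2) (hθo χ)]
    exact hd
  have hdξ : ∀ χ, (deg (ξf χ : N → ℂ) : ZMod p) = (deg (χ.1 : G → ℂ) : ZMod p) ∨
      (deg (ξf χ : N → ℂ) : ZMod p) = -(deg (χ.1 : G → ℂ) : ZMod p) := by
    intro χ
    rw [hξd, hdχ, Nat.cast_mul, Nat.cast_mul, hstab,
      index_congr_normalizer P _ (hPθ (θf χ))]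
    rcases (hF (θf χ)).2 with h | h <;> rw [h]
    · exact Or.inl rfl
    · exact Or.inr (mul_neg _ _)
  refine ⟨fun χ => ⟨ξf χ, (irrConj_eq_iff _).1 (hξr χ), fun hd => ?_⟩, ⟨?_, ?_⟩, hdξ⟩
  · rw [← ZMod.natCast_eq_zero_iff] at hd
    refine hreal χ.1 χ.2 ((ZMod.natCast_eq_zero_iff _ _).1 ?_)
    rcases hdξ χ with h | h <;> rw [hd] at h
    · exact h.symm
    · exact neg_eq_zero.1 h.symm
  · intro χ₁ χ₂ e
    have e' : ξf χ₁ = ξf χ₂ := congrArg Subtype.val e
    have h1 := hξo χ₁
    rw [e'] at h1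
    obtain ⟨n, hn⟩ := mem_cliffOrbit.mp (mem_cliffOrbit_of_constituent (hξo χ₂) h1)
    have h2 : conjIrr C n⁻¹ (F (θf χ₂)).1 = (F (θf χ₁)).1 := by
      rw [conjIrr, inv_inv]; exact hn
    rw [← hequiv] at h2
    have h3 := congrArg Subtype.val (hFbij.1 (Subtype.ext h2))
    obtain ⟨χ', -, -, -, hu⟩ := real_over_odd K hodd _ (hθr χ₁)
    refine Subtype.ext ((hu χ₁.1 ((irrConj_eq_iff _).2 χ₁.2) (hθo χ₁)).trans
      (hu χ₂.1 ((irrConj_eq_iff _).2 χ₂.2) ?_).symm)
    rw [← h3]
    exact constituent_conjIrr K (hθo χ₂) _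
  · rintro ⟨ξ, hξ, hξp⟩
    have hξc := (irrConj_eq_iff ξ).2 hξ
    obtain ⟨β, hβ, hover⟩ := exists_real_below C hoddC ξ hξc
    obtain ⟨ξ', -, -, hd, hu⟩ := real_over_odd C hoddC β hβ
    rw [← hu ξ hξc hover] at hd
    -- the Sylow subgroup fixes the character below
    have hβi : IsActInvariant φC (β : C → ℂ) := by
      rw [hinvC]
      intro y
      haveI hPn : ((P : Subgroup G).subgroupOf N).Normal := Subgroup.normal_in_normalizer
      set T := irrStabilizer C β with hT
      have hpT : ¬ p ∣ T.index := fun h => hξp (hd ▸ h.mul_right _)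
      haveI : Fintype (N ⧸ (P : Subgroup G).subgroupOf N) := Fintype.ofFinite _
      have hle : (P : Subgroup G).subgroupOf N ≤ T := by
        intro z hz
        obtain ⟨R, hR⟩ := (IsPGroup.of_equiv P.isPGroup'
          (Subgroup.subgroupOfEquivOfLe hPN).symm).exists_le_sylow
        obtain ⟨S⟩ : Nonempty (Sylow p T) := inferInstance
        have hScard : Nat.card ((S : Subgroup T).map T.subtype) = p ^ (Nat.card N).factorization p := by
          rw [Subgroup.card_map_of_injective T.subtype_injective, S.card_eq_multiplicity,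
            ← Subgroup.index_mul_card T, Nat.factorization_mul Subgroup.index_ne_zero_of_finite
              Nat.card_pos.ne', Finsupp.add_apply, Nat.factorization_eq_zero_of_not_dvd hpT, zero_add]
        let S' : Sylow p N := Sylow.ofCard ((S : Subgroup T).map T.subtype) hScard
        obtain ⟨t, ht⟩ := MulAction.exists_smul_eq N R S'
        have h6 : z ∈ (S' : Subgroup N) := by
          rw [← ht]
          refine ⟨t⁻¹ * z * t, hR ?_, ?_⟩
          · simpa using hPn.conj_mem z hz t⁻¹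
          · show t * (t⁻¹ * z * t) * t⁻¹ = z
            group
        obtain ⟨w, -, hw⟩ := h6
        rw [← hw]
        exact w.2
      exact (mem_irrStabilizer_conjIrr C β _).1 (hle y.2)
    obtain ⟨θ, hθ⟩ := hFbij.2 ⟨β, hβi⟩
    have hθc : irrConj θ.1 = θ.1 := (hFreal θ).2 (by rw [hθ]; exact hβ)
    obtain ⟨χ, hχr, hχo, -, hχu⟩ := real_over_odd K hodd θ.1 hθc
    refine ⟨⟨χ, (irrConj_eq_iff χ).1 hχr⟩, Subtype.ext ?_⟩
    set χs : {χ : IrrCharacter G // ∀ g : G, ((χ : G → ℂ) g).im = 0} := ⟨χ, (irrConj_eq_iff χ).1 hχr⟩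
    -- two fixed constituents are conjugate in the normalizer
    obtain ⟨g, hg⟩ := mem_cliffOrbit.mp (mem_cliffOrbit_of_constituent (hθo χs) hχo)
    let a : SylFix P (RealIrr K) := ⟨⟨θ.1, hθc⟩, fun y hy => Subtype.ext ((hinvK _).1 θ.2 y hy)⟩
    let b : SylFix P (RealIrr K) :=
      ⟨⟨(θf χs).1, hθr χs⟩, fun y hy => Subtype.ext ((hinvK _).1 (θf χs).2 y hy)⟩
    have hab : Quotient.mk (MulAction.orbitRel N (SylFix P (RealIrr K))) a = Quotient.mk _ b :=
      toOrbit_injective P (RealIrr K) (Quotient.sound ⟨g⁻¹, Subtype.ext (by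
        show conjIrr K g⁻¹ (θf χs).1 = θ.1
        rw [conjIrr, inv_inv]; exact hg)⟩)
    obtain ⟨n, hn⟩ := Quotient.exact hab
    have h3 : conjIrr K (n : G) (θf χs).1 = θ.1 := congrArg (fun z : SylFix P (RealIrr K) => z.1.1) hn
    have h4 : (F θ).1 = conjIrr C n (F (θf χs)).1 := by
      rw [← hequiv]
      exact congrArg (fun z => (F z).1) (Subtype.ext h3.symm)
    rw [hθ] at h4
    refine (hu (ξf χs) (hξr χs) ?_).trans (hu ξ hξc hover).symm
    show classInner _ ((⟨β, hβi⟩ : XC).1 : C → ℂ) ≠ 0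
    rw [h4]
    exact constituent_conjIrr C (hξo χs) n

end Cfsg.Agent.Char.RealDeg
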