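import Cfsg.Agent.Lib.Char.RealPrimeDegreeOver
import Cfsg.Agent.Lib.Char.RealPerm

/-!
# Real classes meet the Sylow normalizer
-/

set_option autoImplicit false
set_option linter.unusedSectionVars false
set_option linter.style.haveILetI false

namespace Cfsg.Agent.Char.RealDeg

open Cfsg
open scoped ComplexConjugate Pointwise

universe u

section Count

variable {G : Type u} [Group G] [Finite G]

theorem card_orbits_congr {X Y : Type*} [Finite X] [Finite Y] [MulAction G X] [MulAction G Y]
    (h : ∀ g : G, Nat.card (MulAction.fixedBy X g) = Nat.card (MulAction.fixedBy Y g)) :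
    Nat.card (Quotient (MulAction.orbitRel G X)) = Nat.card (Quotient (MulAction.orbitRel G Y)) := by
  classical
  haveI := Fintype.ofFinite G
  haveI := Fintype.ofFinite X
  haveI := Fintype.ofFinite Y
  have hX := MulAction.sum_card_fixedBy_eq_card_orbits_mul_card_group G X
  have hY := MulAction.sum_card_fixedBy_eq_card_orbits_mul_card_group G Y
  simp only [← Nat.card_eq_fintype_card] at hX hY
  rw [Finset.sum_congr rfl fun g _ => h g] at hX
  exact Nat.eq_of_mul_eq_mul_right Nat.card_pos (hX.symm.trans hY)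

variable {p : ℕ} [hp : Fact p.Prime] (P : Sylow p G)

/-- The points fixed by the Sylow subgroup. -/
def SylFix (X : Type*) [MulAction G X] : Type _ := {x : X // ∀ y ∈ (P : Subgroup G), y • x = x}

instance sylFix_finite (X : Type*) [Finite X] [MulAction G X] : Finite (SylFix P X) :=
  Subtype.finite

instance sylFix_action (X : Type*) [MulAction G X] :
    MulAction (Subgroup.normalizer ((P : Subgroup G) : Set G)) (SylFix P X) where
  smul n x := ⟨(n : G) • x.1, fun y hy => by
    have h1 : (n : G)⁻¹ * y * n ∈ (P : Subgroup G) := by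
      have := (Subgroup.mem_normalizer_iff.1 ((Subgroup.normalizer ((P : Subgroup G) : Set G)).inv_mem n.2) y).1 hy
      simpa using this
    rw [← mul_smul, show y * (n : G) = n * ((n : G)⁻¹ * y * n) by group, mul_smul, x.2 _ h1]⟩
  one_smul x := Subtype.ext (one_smul G x.1)
  mul_smul m n x := Subtype.ext (mul_smul (m : G) (n : G) x.1)

theorem sylFix_smul {X : Type*} [MulAction G X]
    (n : Subgroup.normalizer ((P : Subgroup G) : Set G)) (x : SylFix P X) :
    (n • x).1 = (n : G) • x.1 := rfl

/-- The orbit map on fixed points. -/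
def toOrbit (X : Type*) [MulAction G X] :
    Quotient (MulAction.orbitRel (Subgroup.normalizer ((P : Subgroup G) : Set G)) (SylFix P X)) →
      Quotient (MulAction.orbitRel G X) :=
  Quotient.map (fun x => x.1) fun a b h => by
    obtain ⟨n, hn⟩ := h
    exact ⟨(n : G), congrArg Subtype.val hn⟩

theorem toOrbit_injective (X : Type*) [MulAction G X] : Function.Injective (toOrbit P X) := by
  classical
  intro a b h
  induction a using Quotient.inductionOn with
  | _ a =>
  induction b using Quotient.inductionOn with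
  | _ b =>
  obtain ⟨g, hg⟩ := Quotient.exact h
  replace hg : g • b.1 = a.1 := hg
  set St := MulAction.stabilizer G a.1
  have hP1 : (P : Subgroup G) ≤ St := fun y hy => a.2 y hy
  have hP2 : ((g • P : Sylow p G) : Subgroup G) ≤ St := by
    rintro z ⟨y, hy, rfl⟩
    show (g * y * g⁻¹) • a.1 = a.1
    rw [← hg, ← mul_smul, inv_mul_cancel_right, mul_smul, b.2 y hy]
  obtain ⟨t, ht⟩ := MulAction.exists_smul_eq St ((g • P).subtype hP2) (P.subtype hP1)
  have hn : (t : G) * g ∈ Subgroup.normalizer ((P : Subgroup G) : Set G) := by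
    rw [show Subgroup.normalizer ((P : Subgroup G) : Set G) = Subgroup.normalizer (P : Set G) from rfl,
      ← Sylow.smul_eq_iff_mem_normalizer, mul_smul]
    refine Sylow.subtype_injective (hP := ?_) (hQ := hP1) ?_
    · rintro _ ⟨z, hz, rfl⟩
      exact St.mul_mem (St.mul_mem t.2 (hP2 hz)) (St.inv_mem t.2)
    · rw [← ht]
      exact (Sylow.smul_subtype hP2 t).symm
  exact Quotient.sound ⟨⟨_, hn⟩, Subtype.ext (by
    rw [sylFix_smul, mul_smul, hg]; exact t.2)⟩

/-- Every orbit meets the fixed points when the counts agree. -/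
theorem exists_fixed_in_orbit {X Y : Type*} [Finite X] [Finite Y] [MulAction G X] [MulAction G Y]
    (hXY : ∀ g : G, Nat.card (MulAction.fixedBy X g) = Nat.card (MulAction.fixedBy Y g))
    (hfix : ∀ n : Subgroup.normalizer ((P : Subgroup G) : Set G),
      Nat.card (MulAction.fixedBy (SylFix P X) n) = Nat.card (MulAction.fixedBy (SylFix P Y) n))
    (hX : ∀ x : X, ∃ g : G, ∀ y ∈ (P : Subgroup G), y • g • x = g • x) (y₀ : Y) :
    ∃ g : G, ∀ y ∈ (P : Subgroup G), y • g • y₀ = g • y₀ := by
  classical
  have hsurj : Function.Surjective (toOrbit P X) := fun q => by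
    induction q using Quotient.inductionOn with
    | _ x =>
    obtain ⟨g, hg⟩ := hX x
    exact ⟨Quotient.mk _ ⟨g • x, hg⟩, Quotient.sound ⟨g, rfl⟩⟩
  have e1 := Nat.card_eq_of_bijective _ ⟨toOrbit_injective P X, hsurj⟩
  rw [card_orbits_congr hfix, card_orbits_congr hXY] at e1
  have hbij : Function.Bijective (toOrbit P Y) :=
    (Nat.bijective_iff_injective_and_card _).2 ⟨toOrbit_injective P Y, e1⟩
  obtain ⟨q, hq⟩ := hbij.2 (Quotient.mk _ y₀)
  induction q using Quotient.inductionOn with
  | _ z =>
  obtain ⟨g, hg⟩ := Quotient.exact hq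
  exact ⟨g, fun y hy => by rw [show g • y₀ = z.1 from hg]; exact z.2 y hy⟩

end Count

variable {G : Type u} [Group G] [Fintype G] {p : ℕ} [hp : Fact p.Prime]

/-- A real character over a real character of a normal subgroup of odd index. -/
theorem exists_real_above (K : Subgroup G) [K.Normal] [Fintype K] (hodd : Odd K.index)
    (θ : IrrCharacter K) (hθ : irrConj θ = θ) :
    ∃ χ : IrrCharacter G, (∀ g : G, ((χ : G → ℂ) g).im = 0) ∧
      classInner (fun k : K => (χ : G → ℂ) k) (θ : K → ℂ) ≠ 0 := by
  classical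
  have hθr : ∀ k : K, conj ((θ : K → ℂ) k) = (θ : K → ℂ) k := fun k =>
    congrFun (congrArg Subtype.val hθ) k
  set F := indFun K (θ : K → ℂ) with hF
  have hFc : IsCharacter G F := isCharacter_indFun K (irr_isCharacter θ.2)
  have hFreal : ∀ g : G, conj (F g) = F g := by
    intro g
    rw [hF, indFun, map_mul, map_inv₀, map_natCast, map_sum]
    congr 1
    refine Finset.sum_congr rfl fun x _ => ?_
    by_cases hx : x⁻¹ * g * x ∈ K
    · rw [extendByZero_mem K _ hx, hθr]
    · rw [extendByZero_not_mem K _ hx, map_zero]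
  obtain ⟨m, hm⟩ := exists_decomposition hFc
  have hover : ∀ ξ : IrrCharacter G, m ξ ≠ 0 →
      classInner (fun v : K => (ξ : G → ℂ) v) (θ : K → ℂ) ≠ 0 := by
    intro ξ hξ h0
    have h2 := decomposition_coeff m hm ξ
    rw [hF, frobenius K (θ : K → ℂ) (isClassFunction_character (irr_isCharacter ξ.2)), ← classInner_symm,
      h0, map_zero] at h2
    exact hξ (Nat.cast_eq_zero.1 h2.symm)
  let T : Subgroup G :=
    { carrier := {g | irrComp (MulAut.conjNormal g) θ = θ}
      one_mem' := irrComp_conj_one θ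
      mul_mem' := fun {a b} (ha : _ = θ) (hb : _ = θ) => by
        show irrComp (MulAut.conjNormal (a * b)) θ = θ
        rw [← irrComp_conj_mul, ha, hb]
      inv_mem' := fun {a} (ha : _ = θ) => by
        show irrComp (MulAut.conjNormal a⁻¹) θ = θ
        conv_rhs => rw [← irrComp_conj_one θ, ← mul_inv_cancel a, ← irrComp_conj_mul, ha] }
  have hKT : K ≤ T := fun k hk => Subtype.ext (funext fun x => by
    show (θ : K → ℂ) (MulAut.conjNormal k x) = (θ : K → ℂ) x
    have h1 := isClassFunction_character (irr_isCharacter θ.2) x (⟨k, hk⟩ : K)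
    exact (congrArg _ (Subtype.ext (by simp))).trans h1)
  set d := deg (θ : K → ℂ) with hd
  have hdvd : ∀ ξ : IrrCharacter G, m ξ ≠ 0 → T.index * d ∣ deg (ξ : G → ℂ) := by
    intro ξ hξ
    obtain ⟨c, hc⟩ := classInner_natCast (isCharacter_comp K.subtype (irr_isCharacter ξ.2))
      (irr_isCharacter θ.2)
    have h1 := congrFun (clifford_restrict ξ θ (hover ξ hξ)) 1
    have horb : (cliffOrbit K θ).card = T.index := by
      have h2 := card_cliffOrbit_mul θ
      rw [show Nat.card {g // irrComp (MulAut.conjNormal g) θ = θ} = Nat.card T from rfl,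
        ← Subgroup.index_mul_card T] at h2
      exact Nat.eq_of_mul_eq_mul_right Nat.card_pos h2
    rw [show classInner (fun v : K => (ξ : G → ℂ) v) (θ : K → ℂ) = c from hc, OneMemClass.coe_one,
      Pi.smul_apply, Finset.sum_apply, smul_eq_mul, char_one_eq_deg (irr_isCharacter ξ.2),
      Finset.sum_congr rfl (g := fun _ => (d : ℂ)) fun ψ hψ => by
        obtain ⟨g, rfl⟩ := mem_cliffOrbit.mp hψ
        rw [irrComp_apply, map_one, char_one_eq_deg (irr_isCharacter θ.2)],
      Finset.sum_const, nsmul_eq_mul, horb] at h1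
    exact ⟨c, by rw [mul_comm]; exact_mod_cast h1⟩
  have hTi : 0 < T.index * d :=
    mul_pos (Nat.pos_of_ne_zero Subgroup.index_ne_zero_of_finite) (deg_pos θ.2)
  have hsum : K.index * d = ∑ ξ, m ξ * deg (ξ : G → ℂ) := by
    have h1 := congrFun hm 1
    rw [hF, indFun_one, Finset.sum_apply, char_one_eq_deg (irr_isCharacter θ.2)] at h1
    refine Nat.cast_injective (R := ℂ) ?_
    rw [Nat.cast_mul, h1, Nat.cast_sum]
    refine Finset.sum_congr rfl fun ξ _ => ?_
    rw [Pi.smul_apply, nsmul_eq_mul, char_one_eq_deg (irr_isCharacter ξ.2), Nat.cast_mul]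
  set c : IrrCharacter G → ℕ := fun ξ => m ξ * (deg (ξ : G → ℂ) / (T.index * d)) with hc
  have hcsum : ∑ ξ, c ξ = K.relIndex T := by
    refine Nat.eq_of_mul_eq_mul_right hTi ?_
    rw [← mul_assoc (K.relIndex T), Subgroup.relIndex_mul_index hKT, hsum, Finset.sum_mul]
    refine Finset.sum_congr rfl fun ξ _ => ?_
    by_cases h0 : m ξ = 0
    · simp [hc, h0]
    · rw [hc]
      show m ξ * (deg (ξ : G → ℂ) / (T.index * d)) * (T.index * d) = _
      rw [mul_assoc, Nat.div_mul_cancel (hdvd ξ h0)]
  have hodd' : ¬ 2 ∣ ∑ ξ, c ξ := by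
    rw [hcsum]
    intro h2
    have h3 := h2.trans (Dvd.intro _ (Subgroup.relIndex_mul_index hKT))
    exact (Nat.not_even_iff_odd.2 hodd) (even_iff_two_dvd.2 h3)
  have hcconj : ∀ ξ, c (irrConj ξ) = c ξ := by
    intro ξ
    have h1 : m (irrConj ξ) = m ξ := by
      have e1 := decomposition_coeff m hm (irrConj ξ)
      have e2 := decomposition_coeff m hm ξ
      have e3 : classInner F ((irrConj ξ : IrrCharacter G) : G → ℂ) = conj (classInner F (ξ : G → ℂ)) := by
        simp only [classInner, map_mul, map_inv₀, map_natCast, map_sum]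
        congr 1
        refine Finset.sum_congr rfl fun g _ => ?_
        rw [hFreal g, show ((irrConj ξ : IrrCharacter G) : G → ℂ) g = conj ((ξ : G → ℂ) g) from rfl]
      rw [e1, e2, map_natCast] at e3
      exact_mod_cast e3
    have h2 : deg ((irrConj ξ : IrrCharacter G) : G → ℂ) = deg (ξ : G → ℂ) := by
      refine Nat.cast_injective (R := ℂ) ?_
      rw [← char_one_eq_deg (irr_isCharacter (irrConj ξ).2), ← char_one_eq_deg (irr_isCharacter ξ.2),
        show ((irrConj ξ : IrrCharacter G) : G → ℂ) 1 = conj ((ξ : G → ℂ) 1) from rfl,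
        conj_char_one (irr_isCharacter ξ.2)]
    simp only [hc, h1, h2]
  by_contra hno
  push Not at hno
  apply hodd'
  rw [← ZMod.natCast_eq_zero_iff, Nat.cast_sum]
  refine Finset.sum_involution (fun ξ _ => irrConj ξ) (fun ξ _ => ?_) (fun ξ _ hne e => ?_)
    (fun ξ _ => Finset.mem_univ _) (fun ξ _ => irrConj_irrConj ξ)
  · rw [hcconj, CharTwo.add_self_eq_zero]
  · have hm0 : m ξ ≠ 0 := fun h0 => hne (by simp [hc, h0])
    exact hover ξ hm0 (hno ξ ((irrConj_eq_iff ξ).1 e))

/-- The real irreducible characters. -/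
def RealIrr (K : Subgroup G) [Fintype K] : Type _ := {θ : IrrCharacter K // irrConj θ = θ}

/-- The real classes. -/
def RealCl (K : Subgroup G) : Type _ :=
  {C : ConjClasses K // ∀ k, ConjClasses.mk k = C → IsConj k k⁻¹}

instance realIrr_finite (K : Subgroup G) [Fintype K] : Finite (RealIrr K) := Subtype.finite

instance realCl_finite (K : Subgroup G) : Finite (RealCl K) := Subtype.finite

theorem realIrr_conj (K : Subgroup G) [K.Normal] [Fintype K] (g : G) (θ : RealIrr K) :
    irrConj (conjIrr K g θ.1) = conjIrr K g θ.1 :=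
  Subtype.ext (funext fun k => congrFun (congrArg Subtype.val θ.2) _)

theorem realCl_conj (K : Subgroup G) [K.Normal] (g : G) (C : RealCl K) :
    ∀ k, ConjClasses.mk k = ConjClasses.map (MulAut.conjNormal g : MulAut K).toMonoidHom C.1 →
      IsConj k k⁻¹ := by
  intro k hk
  haveI := Fintype.ofFinite K
  obtain ⟨c, hc⟩ := ConjClasses.exists_rep C.1
  rw [← hc] at hk
  have h1 : IsConj k ((MulAut.conjNormal g : MulAut K) c) := ConjClasses.mk_eq_mk_iff_isConj.1 hk
  have h2 := (MulAut.conjNormal g : MulAut K).toMonoidHom.map_isConj (C.2 c hc)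
  rw [map_inv] at h2
  exact h1.trans (h2.trans (isConj_inv_inv h1.symm))

noncomputable instance realIrrAction (K : Subgroup G) [K.Normal] [Fintype K] : MulAction G (RealIrr K) where
  smul g θ := ⟨conjIrr K g θ.1, realIrr_conj K g θ⟩
  one_smul θ := Subtype.ext (conjIrr_mem K K.one_mem θ.1)
  mul_smul g h θ := Subtype.ext (conjIrr_mul K g h θ.1)

noncomputable instance realClAction (K : Subgroup G) [K.Normal] : MulAction G (RealCl K) where
  smul g C := ⟨ConjClasses.map (MulAut.conjNormal g : MulAut K).toMonoidHom C.1, realCl_conj K g C⟩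
  one_smul C := Subtype.ext (map_conjNormal_mem K K.one_mem C.1)
  mul_smul g h C := Subtype.ext (by
    obtain ⟨c, hc⟩ := ConjClasses.exists_rep C.1
    show ConjClasses.map _ C.1 = ConjClasses.map _ (ConjClasses.map _ C.1)
    rw [← hc]
    show ConjClasses.mk _ = ConjClasses.mk _
    rw [map_mul]
    rfl)

/-- Real elements of a `p'`-group of odd index are conjugate into the Sylow normalizer. -/
theorem real_meets_normalizer_core (K : Subgroup G) [K.Normal] [Fintype K] (hodd : Odd K.index)
    (hpK : ¬ p ∣ Nat.card K) (hreal : RealDeg p G) (P : Sylow p G) (x : K) (hx : IsConj x x⁻¹) :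
    ∃ g : G, g * x * g⁻¹ ∈ Subgroup.normalizer ((P : Subgroup G) : Set G) := by
  classical
  set N := Subgroup.normalizer ((P : Subgroup G) : Set G) with hN
  set X := RealIrr K
  set Y := RealCl K
  have hXY : ∀ g : G, Nat.card (MulAction.fixedBy X g) = Nat.card (MulAction.fixedBy Y g) := by
    intro g
    refine ((Nat.card_congr ?_).trans (card_real_fixed K hodd g)).trans (Nat.card_congr ?_).symm
    · exact (Equiv.subtypeEquivRight fun x => Subtype.ext_iff).trans
        (Equiv.subtypeSubtypeEquivSubtypeInter _ fun θ => conjIrr K g θ = θ)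
    · exact (Equiv.subtypeEquivRight fun x => Subtype.ext_iff).trans
        (Equiv.subtypeSubtypeEquivSubtypeInter _ fun C =>
          ConjClasses.map (MulAut.conjNormal g : MulAut K).toMonoidHom C = C)
  -- the coprime action of the Sylow subgroup
  let φ : (P : Subgroup G) →* MulAut K := (MulAut.conjNormal (H := K)).comp (P : Subgroup G).subtype
  set C := K.subgroupOf N with hC
  haveI : Fintype C := Fintype.ofFinite _
  haveI : C.Normal := (inferInstance : K.Normal).comap _
  let ι : C →* K :=
    { toFun := fun c => ⟨((c : N) : G), c.2⟩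
      map_one' := rfl
      map_mul' := fun a b => rfl }
  have hPK : (P : Subgroup G) ⊓ K = ⊥ := by
    refine eq_bot_iff.2 fun y hy => Subgroup.mem_bot.2 ?_
    obtain ⟨k, hk⟩ := P.isPGroup' ⟨y, hy.1⟩
    have h1 : y ^ p ^ k = 1 := congrArg Subtype.val hk
    have h2 : y ^ Nat.card K = 1 := congrArg Subtype.val (pow_card_eq_one' (x := (⟨y, hy.2⟩ : K)))
    have h3 := pow_gcd_eq_one.2 ⟨h1, h2⟩
    rwa [((hp.out.coprime_iff_not_dvd.2 hpK).pow_left k).gcd_eq_one, pow_one] at h3
  obtain ⟨M, hM⟩ := exists_pModular hp.out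
  have h : CoprimeFix M p φ ι :=
    { pmod := hM, pgroup := P.isPGroup', coprime := hpK
      inj := fun a b e => Subtype.ext (Subtype.ext (congrArg (fun z : K => (z : G)) e))
      range := fun k => by
        constructor
        · rintro ⟨c, rfl⟩ s
          refine Subtype.ext ?_
          show (s : G) * ((c : N) : G) * (s : G)⁻¹ = ((c : N) : G)
          have h1 : (s : G) * ((c : N) : G) * (s : G)⁻¹ * ((c : N) : G)⁻¹ ∈ (P : Subgroup G) ⊓ K :=
            ⟨by
              have e : (s : G) * ((c : N) : G) * (s : G)⁻¹ * ((c : N) : G)⁻¹ =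
                  (s : G) * (((c : N) : G) * (s : G)⁻¹ * ((c : N) : G)⁻¹) := by group
              rw [e]
              exact (P : Subgroup G).mul_mem s.2 ((Subgroup.mem_normalizer_iff.1 (c : N).2 _).1
                ((P : Subgroup G).inv_mem s.2)),
             K.mul_mem ((inferInstance : K.Normal).conj_mem _ c.2 _) (K.inv_mem c.2)⟩
          rw [hPK, Subgroup.mem_bot, mul_inv_eq_one] at h1
          exact h1
        · intro hk
          have hkN : (k : G) ∈ N := by
            refine Subgroup.mem_normalizer_iff.2 fun y => ⟨fun hy => ?_, fun hy => ?_⟩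
            · have e : y * (k : G) * y⁻¹ = k := congrArg Subtype.val (hk ⟨y, hy⟩)
              have e2 : (k : G) * y * (k : G)⁻¹ = y := by
                rw [mul_inv_eq_iff_eq_mul] at e; rw [← e, mul_inv_cancel_right]
              rw [e2]; exact hy
            · have e : ((k : G) * y * (k : G)⁻¹) * (k : G) * ((k : G) * y * (k : G)⁻¹)⁻¹ = k :=
                congrArg Subtype.val (hk ⟨_, hy⟩)
              have e1 : (k : G) * y * (k : G) * y⁻¹ * (k : G)⁻¹ = k := by
                calc (k : G) * y * (k : G) * y⁻¹ * (k : G)⁻¹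
                    = ((k : G) * y * (k : G)⁻¹) * (k : G) * ((k : G) * y * (k : G)⁻¹)⁻¹ := by group
                  _ = k := e
              have e2 : y * (k : G) * y⁻¹ = k := by
                calc y * (k : G) * y⁻¹ = (k : G)⁻¹ * ((k : G) * y * (k : G) * y⁻¹ * (k : G)⁻¹) * k := by group
                  _ = k := by rw [e1]; group
              have e3 : y = (k : G) * y * (k : G)⁻¹ := by
                rw [mul_inv_eq_iff_eq_mul] at e2; rw [← e2, mul_inv_cancel_right]
              rw [e3]; exact hy
          exact ⟨⟨⟨k, hkN⟩, k.2⟩, rfl⟩ }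
  have hnorm : ∀ (n : N) (s : (P : Subgroup G)), ∃ s' : (P : Subgroup G), ∀ k : K,
      MulAut.conjNormal ((n : G)⁻¹) (φ s k) = φ s' (MulAut.conjNormal ((n : G)⁻¹) k) := fun n s => by
    refine ⟨⟨(n : G)⁻¹ * s * n, ?_⟩, fun k => ?_⟩
    · have := (Subgroup.mem_normalizer_iff.1 (N.inv_mem n.2) (s : G)).1 s.2
      simpa using this
    · show MulAut.conjNormal (n : G)⁻¹ (MulAut.conjNormal (s : G) k) =
        MulAut.conjNormal ((n : G)⁻¹ * s * n) (MulAut.conjNormal (n : G)⁻¹ k)
      rw [← MulAut.mul_apply, ← map_mul, ← MulAut.mul_apply, ← map_mul]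
      congr 2
      group
  have hcorr : ∀ (n : N) (β : IrrCharacter C),
      h.corr (conjIrr C n β) = conjIrr K (n : G) (h.corr β) := fun n β => by
    refine h.corr_comp (MulAut.conjNormal (n : G)⁻¹) (MulAut.conjNormal n⁻¹) (fun c => ?_)
      (hnorm n) β
    refine Subtype.ext ?_
    simp [ι, MulAut.conjNormal_apply]
  have hinvfix : ∀ θ : IrrCharacter K, (∀ s k, (θ : K → ℂ) (φ s k) = (θ : K → ℂ) k) ↔
      ∀ y ∈ (P : Subgroup G), conjIrr K y θ = θ := by
    intro θ
    constructor
    · intro hs y hy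
      exact Subtype.ext (funext fun k => hs ⟨y⁻¹, (P : Subgroup G).inv_mem hy⟩ k)
    · intro hy s k
      have := congrFun (congrArg Subtype.val (hy (s : G)⁻¹ ((P : Subgroup G).inv_mem s.2))) k
      rwa [conjIrr_apply, inv_inv] at this
  have hoddN : Odd C.index := by
    have h1 : C.index ∣ K.index := Subgroup.relIndex_dvd_index_of_normal K N
    exact Odd.of_dvd_nat hodd h1
  have hfix : ∀ n : N, Nat.card (MulAction.fixedBy (SylFix P X) n) =
      Nat.card (MulAction.fixedBy (SylFix P Y) n) := by
    intro n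
    have eX : Nat.card {β : IrrCharacter C // irrConj β = β ∧ conjIrr C n β = β} =
        Nat.card (MulAction.fixedBy (SylFix P X) n) := by
      refine Nat.card_eq_of_bijective (fun β => ⟨⟨⟨h.corr β.1, by rw [← corr_irrConj h, β.2.1]⟩,
        fun y hy => Subtype.ext ((hinvfix _).1 (h.corr_inv β.1) y hy)⟩,
        Subtype.ext (Subtype.ext ((hcorr n β.1).symm.trans (congrArg h.corr β.2.2)))⟩) ⟨?_, ?_⟩
      · intro a b e
        exact Subtype.ext (h.corr_injective (congrArg (fun z => z.1.1.1) e))
      · rintro ⟨⟨⟨θ, hθ⟩, hP⟩, hn⟩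
        obtain ⟨β, rfl⟩ := h.corr_surjective ((hinvfix θ).2 fun y hy => congrArg Subtype.val (hP y hy))
        refine ⟨⟨β, h.corr_injective (by rw [corr_irrConj h, hθ]), h.corr_injective ?_⟩, rfl⟩
        rw [hcorr]
        exact congrArg (fun z => z.1.1) hn
    have eY : Nat.card {D : ConjClasses C // (∀ c, ConjClasses.mk c = D → IsConj c c⁻¹) ∧
          ConjClasses.map (MulAut.conjNormal n : MulAut C).toMonoidHom D = D} =
        Nat.card (MulAction.fixedBy (SylFix P Y) n) := by
      have hfc : ∀ {c d : C}, IsConj (ι c) (ι d) → IsConj c d := fun hcd =>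
        fixed_conj φ ι hp.out h.pgroup h.coprime h.range h.inj hcd
      have hfixι : ∀ (y : (P : Subgroup G)) (c : C), φ y (ι c) = ι c := fun y c => (h.range _).1 ⟨c, rfl⟩ y
      have hmapn : ∀ c : C, (MulAut.conjNormal (n : G) : MulAut K) (ι c) = ι (MulAut.conjNormal n c) := fun c =>
        Subtype.ext (by simp [ι, MulAut.conjNormal_apply])
      refine Nat.card_eq_of_bijective (fun D => ⟨⟨⟨D.1.map ι, ?_⟩, ?_⟩, ?_⟩) ⟨?_, ?_⟩
      · intro k hk
        obtain ⟨c, hc⟩ := ConjClasses.exists_rep D.1
        rw [← hc] at hk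
        have h1 : IsConj k (ι c) := ConjClasses.mk_eq_mk_iff_isConj.1 hk
        have h2 : IsConj (ι c) (ι c)⁻¹ := by rw [← map_inv]; exact ι.map_isConj (D.2.1 c hc)
        exact h1.trans (h2.trans (isConj_inv_inv h1.symm))
      · intro y hy
        obtain ⟨c, hc⟩ := ConjClasses.exists_rep D.1
        refine Subtype.ext ?_
        show ConjClasses.map _ (D.1.map ι) = D.1.map ι
        rw [← hc]
        exact congrArg ConjClasses.mk (hfixι ⟨y, hy⟩ c)
      · refine Subtype.ext (Subtype.ext ?_)
        show ConjClasses.map _ (D.1.map ι) = D.1.map ι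
        conv_rhs => rw [← D.2.2]
        obtain ⟨c, hc⟩ := ConjClasses.exists_rep D.1
        rw [← hc]
        exact congrArg ConjClasses.mk (hmapn c)
      · rintro ⟨a, ha⟩ ⟨b, hb⟩ hab
        obtain ⟨c, rfl⟩ := ConjClasses.exists_rep a
        obtain ⟨d, rfl⟩ := ConjClasses.exists_rep b
        exact Subtype.ext (ConjClasses.mk_eq_mk_iff_isConj.mpr (hfc
          (ConjClasses.mk_eq_mk_iff_isConj.mp (congrArg (fun z => z.1.1.1) hab))))
      · rintro ⟨⟨⟨D, hr⟩, hP⟩, hn⟩
        obtain ⟨k, rfl⟩ := ConjClasses.exists_rep D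
        obtain ⟨c, hc⟩ := exists_fixed_rep φ ι hp.out h.pgroup h.coprime h.range (g := k) fun s =>
          (ConjClasses.mk_eq_mk_iff_isConj.mp (congrArg Subtype.val (hP (s : G) s.2))).symm
        refine ⟨⟨ConjClasses.mk c, fun d hd => ?_, ?_⟩,
          Subtype.ext (Subtype.ext (Subtype.ext (ConjClasses.mk_eq_mk_iff_isConj.mpr hc.symm)))⟩
        · have hd' : IsConj (ι d) k :=
            (ι.map_isConj (ConjClasses.mk_eq_mk_iff_isConj.mp hd)).trans hc.symm
          refine hfc ?_
          rw [map_inv]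
          exact hd'.trans ((hr k rfl).trans (isConj_inv_inv hd'.symm))
        · refine ConjClasses.mk_eq_mk_iff_isConj.mpr (hfc ?_)
          show IsConj (ι ((MulAut.conjNormal n : MulAut C) c)) (ι c)
          rw [← hmapn]
          have h1 : IsConj ((MulAut.conjNormal (n : G) : MulAut K) k) k :=
            ConjClasses.mk_eq_mk_iff_isConj.mp (congrArg (fun z => z.1.1) hn)
          exact (((MulAut.conjNormal (n : G) : MulAut K).toMonoidHom.map_isConj hc).symm.trans h1).trans hc
    rw [← eX, ← eY]
    exact card_real_fixed C hoddN n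
  have hX : ∀ θ : X, ∃ g : G, ∀ y ∈ (P : Subgroup G), y • g • θ = g • θ := by
    rintro ⟨θ, hθ⟩
    let θX : RealIrr K := ⟨θ, hθ⟩
    obtain ⟨χ, hχr, hχθ⟩ := exists_real_above K hodd θ hθ
    set St := MulAction.stabilizer G θX with hSt
    have hidx : ¬ p ∣ St.index := by
      intro hd
      refine hreal χ hχr (hd.trans ?_)
      obtain ⟨c, hc⟩ := classInner_natCast (isCharacter_comp K.subtype (irr_isCharacter χ.2))
        (irr_isCharacter θ.2)
      have h1 := congrFun (clifford_restrict χ θ hχθ) 1
      have horb : (cliffOrbit K θ).card = St.index := by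
        have h2 := card_cliffOrbit_mul θ
        have h3 : Nat.card {g : G // irrComp (MulAut.conjNormal g) θ = θ} = Nat.card St :=
          Nat.card_congr ((Equiv.inv G).subtypeEquiv fun g =>
            ⟨fun e => Subtype.ext (show conjIrr K g⁻¹ θ = θ by rw [conjIrr, inv_inv]; exact e),
             fun e => by
              have e' : conjIrr K g⁻¹ θ = θ := congrArg Subtype.val (e : g⁻¹ • θX = θX)
              rwa [conjIrr, inv_inv] at e'⟩)
        rw [h3, ← Subgroup.index_mul_card St] at h2
        exact Nat.eq_of_mul_eq_mul_right Nat.card_pos h2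
      rw [show classInner (fun v : K => (χ : G → ℂ) v) (θ : K → ℂ) = c from hc, OneMemClass.coe_one,
        Pi.smul_apply, Finset.sum_apply, smul_eq_mul, char_one_eq_deg (irr_isCharacter χ.2),
        Finset.sum_congr rfl (g := fun _ => (deg (θ : K → ℂ) : ℂ)) fun ψ hψ => by
          obtain ⟨g, rfl⟩ := mem_cliffOrbit.mp hψ
          rw [irrComp_apply, map_one, char_one_eq_deg (irr_isCharacter θ.2)],
        Finset.sum_const, nsmul_eq_mul, horb] at h1
      exact ⟨c * deg (θ : K → ℂ), by
        have h4 : deg (χ : G → ℂ) = c * (St.index * deg (θ : K → ℂ)) := by exact_mod_cast h1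
        rw [h4]; ring⟩
    obtain ⟨S⟩ : Nonempty (Sylow p St) := inferInstance
    obtain ⟨R, hR⟩ := ((S.isPGroup').map St.subtype).exists_le_sylow
    have hRS : (R : Subgroup G) ≤ St := by
      have hcard : Nat.card R ≤ Nat.card ((S : Subgroup St).map St.subtype) := by
        rw [Subgroup.card_map_of_injective St.subtype_injective, R.card_eq_multiplicity,
          S.card_eq_multiplicity, ← Subgroup.index_mul_card St, Nat.factorization_mul
            Subgroup.index_ne_zero_of_finite Nat.card_pos.ne', Finsupp.add_apply,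
          Nat.factorization_eq_zero_of_not_dvd hidx, zero_add]
      rw [← Subgroup.eq_of_le_of_card_ge hR hcard]
      exact Subgroup.map_subtype_le _
    obtain ⟨g, hg⟩ := MulAction.exists_smul_eq G R P
    refine ⟨g, fun y hy => ?_⟩
    have h1 : g⁻¹ * y * g ∈ (R : Subgroup G) := by
      rw [← hg] at hy
      obtain ⟨z, hz, rfl⟩ := hy
      show g⁻¹ * (g * z * g⁻¹) * g ∈ (R : Subgroup G)
      rw [show g⁻¹ * (g * z * g⁻¹) * g = z by group]
      exact hz
    have h2 : (g⁻¹ * y * g) • θX = θX := hRS h1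
    show y • g • θX = g • θX
    conv_rhs => rw [← h2]
    rw [← mul_smul, ← mul_smul]
    congr 1
    group
  obtain ⟨g, hg⟩ := exists_fixed_in_orbit P hXY hfix hX ⟨ConjClasses.mk x, fun k hk =>
    (ConjClasses.mk_eq_mk_iff_isConj.1 hk).trans (hx.trans
      (isConj_inv_inv (ConjClasses.mk_eq_mk_iff_isConj.1 hk).symm))⟩
  set k := (MulAut.conjNormal g : MulAut K) x with hk
  obtain ⟨c, hc⟩ := exists_fixed_rep φ ι hp.out h.pgroup h.coprime h.range (g := k) fun s =>
    (ConjClasses.mk_eq_mk_iff_isConj.mp (congrArg Subtype.val (hg (s : G) s.2))).symm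
  obtain ⟨u, hu⟩ := isConj_iff.1 hc
  refine ⟨(u : G) * g, ?_⟩
  have e : (u : G) * g * x * ((u : G) * g)⁻¹ = ((c : N) : G) := by
    rw [show ((c : N) : G) = ((ι c : K) : G) from rfl, ← hu, hk]
    simp [MulAut.conjNormal_apply, mul_assoc]
  rw [e]
  exact (c : N).2

end Cfsg.Agent.Char.RealDeg
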