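import Cfsg.Agent.Lib.Char.RealPrimeDegreeCore
import Cfsg.Agent.Lib.Char.RealClass

/-!
# Real characters over an inverted linear character of an odd normal subgroup
-/

set_option autoImplicit false
set_option linter.unusedSectionVars false
set_option linter.style.haveILetI false

namespace Cfsg.Agent.Char.RealDeg

open Cfsg
open scoped ComplexConjugate commutatorElement

universe u

variable {G : Type u} [Group G] [Fintype G]

theorem conj_eq_inv_of_pow {z : ℂ} {n : ℕ} (hn : n ≠ 0) (h : z ^ n = 1) : conj z = z⁻¹ := by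
  rw [Complex.inv_def, Complex.normSq_eq_norm_sq, Complex.norm_eq_one_of_pow_eq_one h hn]
  simp

theorem exists_real_over_odd (V : Subgroup G) [V.Normal] [Fintype V] (hab : ∀ a b : V, a * b = b * a)
    (hodd : ¬ 2 ∣ Nat.card V) (lam : V →* ℂˣ) (n₁ : G)
    (hconj₁ : ∀ v : V, lam (MulAut.conjNormal n₁ v) = (lam v)⁻¹)
    (θ : IrrCharacter V) (hθ : ∀ v : V, (θ : V → ℂ) v = (lam v : ℂ)) :
    ∃ χ : IrrCharacter G, (∀ g : G, ((χ : G → ℂ) g).im = 0) ∧
      classInner (fun v : V => (χ : G → ℂ) v) (θ : V → ℂ) ≠ 0 := by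
  classical
  haveI : Fact (Nat.Prime 2) := ⟨Nat.prime_two⟩
  let T : Subgroup G :=
    { carrier := {g | ∀ v : V, lam (MulAut.conjNormal g v) = lam v}
      one_mem' := fun v => by rw [map_one]; rfl
      mul_mem' := fun {a b} ha hb v => by rw [map_mul, MulAut.mul_apply, ha, hb]
      inv_mem' := fun {a} ha v => by
        rw [← ha, ← MulAut.mul_apply, ← map_mul, mul_inv_cancel, map_one]; rfl }
  have hVT : V ≤ T := fun x hx v => by
    rw [show MulAut.conjNormal x v = v from Subtype.ext (by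
      rw [MulAut.conjNormal_apply, show x * (v : G) = v * x from congrArg Subtype.val (hab ⟨x, hx⟩ v),
        mul_inv_cancel_right])]
  have hnT : ∀ n : G, (∀ v : V, lam (MulAut.conjNormal n v) = (lam v)⁻¹) →
      ∀ y ∈ T, n * y * n⁻¹ ∈ T := fun n hn y hy v => by
    rw [map_mul, map_mul]
    show lam (MulAut.conjNormal n (MulAut.conjNormal y (MulAut.conjNormal n⁻¹ v))) = _
    rw [hn, hy, ← hn, ← MulAut.mul_apply, ← map_mul, mul_inv_cancel, map_one]
    rfl
  -- a Sylow two-subgroup of the stabilizer, normalized by an inverting element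
  obtain ⟨S⟩ : Nonempty (Sylow 2 T) := inferInstance
  set S₀ := (S : Subgroup T).map T.subtype with hS₀
  have hS₀T : S₀ ≤ T := Subgroup.map_subtype_le _
  have hS₀c : Nat.card S₀ = Nat.card (S : Subgroup T) :=
    Subgroup.card_map_of_injective T.subtype_injective
  set S₁ := S₀.map (MulAut.conj n₁).toMonoidHom with hS₁
  have hS₁T : S₁ ≤ T := by
    rintro _ ⟨y, hy, rfl⟩
    exact hnT n₁ hconj₁ y (hS₀T hy)
  have hS₁c : Nat.card (S₁.subgroupOf T) = 2 ^ (Nat.card T).factorization 2 := by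
    rw [Nat.card_congr (Subgroup.subgroupOfEquivOfLe hS₁T).toEquiv, hS₁,
      Subgroup.card_map_of_injective (MulAut.conj n₁).injective, hS₀c]
    exact S.card_eq_multiplicity
  obtain ⟨t, ht⟩ := MulAction.exists_smul_eq T (Sylow.ofCard (S₁.subgroupOf T) hS₁c) S
  have ht' : ∀ x ∈ S₁, (t : G) * x * (t : G)⁻¹ ∈ S₀ := by
    intro x hx
    have h1 : t * ⟨x, hS₁T hx⟩ * t⁻¹ ∈ (S : Subgroup T) := by
      rw [← ht, Sylow.smul_def, Sylow.pointwise_smul_def]
      exact ⟨⟨x, hS₁T hx⟩, hx, rfl⟩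
    exact ⟨_, h1, rfl⟩
  set n := (t : G) * n₁ with hn
  have hconj : ∀ v : V, lam (MulAut.conjNormal n v) = (lam v)⁻¹ := fun v => by
    rw [hn, map_mul, MulAut.mul_apply, t.2, hconj₁]
  have hnS : ∀ x ∈ S₀, n * x * n⁻¹ ∈ S₀ := fun x hx => by
    have e : n * x * n⁻¹ = (t : G) * (n₁ * x * n₁⁻¹) * (t : G)⁻¹ := by rw [hn]; group
    rw [e]
    exact ht' _ ⟨x, hx, rfl⟩
  have hnS' : ∀ x : G, n * x * n⁻¹ ∈ S₀ → x ∈ S₀ := by
    intro x hx
    have h1 : ∀ k : ℕ, n ^ k * (n * x * n⁻¹) * (n ^ k)⁻¹ ∈ S₀ := fun k => by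
      induction k with
      | zero => simpa using hx
      | succ k ih =>
        have e : n ^ (k + 1) * (n * x * n⁻¹) * (n ^ (k + 1))⁻¹ =
            n * (n ^ k * (n * x * n⁻¹) * (n ^ k)⁻¹) * n⁻¹ := by rw [pow_succ']; group
        rw [e]; exact hnS _ ih
    have h2 := h1 (orderOf n - 1)
    have e1 : n ^ (orderOf n - 1) = n⁻¹ := eq_inv_of_mul_eq_one_left (by
      rw [← pow_succ, Nat.sub_add_cancel (orderOf_pos n), pow_orderOf_eq_one])
    rw [e1] at h2
    have e2 : n⁻¹ * (n * x * n⁻¹) * n⁻¹⁻¹ = x := by group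
    rwa [e2] at h2
  -- the extension to `V S₀`
  have hS₀p : IsPGroup 2 S₀ := S.isPGroup'.map _
  have hVS : V ⊓ S₀ = ⊥ := by
    refine eq_bot_iff.2 fun x hx => Subgroup.mem_bot.2 ?_
    obtain ⟨k, hk⟩ := hS₀p ⟨x, hx.2⟩
    have h1 : x ^ 2 ^ k = 1 := congrArg Subtype.val hk
    have h2 : x ^ Nat.card V = 1 := congrArg Subtype.val (pow_card_eq_one' (x := (⟨x, hx.1⟩ : V)))
    have h3 := pow_gcd_eq_one.2 ⟨h1, h2⟩
    rwa [((Nat.prime_two.coprime_iff_not_dvd.2 hodd).pow_left k).gcd_eq_one, pow_one] at h3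
  set E₀ := V ⊔ S₀ with hE₀
  have hE₀T : E₀ ≤ T := sup_le hVT hS₀T
  have hdec : ∀ g : E₀, ∃ v ∈ V, ∃ x ∈ S₀, v * x = (g : G) := fun g => by
    obtain ⟨x, hx, v, hv, e⟩ := Subgroup.mem_sup_of_normal_right.1
      (show (g : G) ∈ S₀ ⊔ V from sup_comm V S₀ ▸ g.2)
    exact ⟨x * v * x⁻¹, (inferInstance : V.Normal).conj_mem v hv x, x, hx, by rw [← e]; group⟩
  choose a ha b hb hab' using hdec
  have huniq : ∀ g : E₀, ∀ v ∈ V, ∀ x ∈ S₀, v * x = (g : G) → v = a g := by
    intro g v hv x hx e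
    have h1 : (a g)⁻¹ * v = b g * x⁻¹ := by
      rw [eq_mul_inv_iff_mul_eq, mul_assoc, e, ← hab' g, inv_mul_cancel_left]
    have h2 : (a g)⁻¹ * v ∈ V ⊓ S₀ :=
      ⟨V.mul_mem (V.inv_mem (ha g)) hv, h1 ▸ S₀.mul_mem (hb g) (S₀.inv_mem hx)⟩
    rw [hVS, Subgroup.mem_bot, inv_mul_eq_one] at h2
    exact h2.symm
  let ext : E₀ →* ℂˣ :=
    { toFun := fun g => lam ⟨a g, ha g⟩
      map_one' := by
        have h1 := huniq 1 1 V.one_mem 1 S₀.one_mem (one_mul 1)
        rw [show (⟨a 1, ha 1⟩ : V) = 1 from Subtype.ext h1.symm, map_one]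
      map_mul' := fun s u => by
        have hc : b s * a u * (b s)⁻¹ ∈ V := (inferInstance : V.Normal).conj_mem _ (ha u) _
        have h1 := huniq (s * u) (a s * (b s * a u * (b s)⁻¹)) (V.mul_mem (ha s) hc) (b s * b u)
          (S₀.mul_mem (hb s) (hb u))
          (by calc a s * (b s * a u * (b s)⁻¹) * (b s * b u) = (a s * b s) * (a u * b u) := by group
                _ = ((s * u : E₀) : G) := by rw [hab', hab', Subgroup.coe_mul])
        rw [show (⟨a (s * u), ha _⟩ : V) = ⟨a s, ha s⟩ * MulAut.conjNormal (b s) ⟨a u, ha u⟩ from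
          Subtype.ext (by rw [Subgroup.coe_mul, MulAut.conjNormal_apply]; exact h1.symm),
          map_mul, hS₀T (hb s)] }
  haveI := Fintype.ofFinite E₀
  let f : E₀ → ℂ := fun g => (ext g : ℂ)
  have hVE : V ≤ E₀ := le_sup_left
  have hextV : ∀ v : V, ext ⟨(v : G), hVE v.2⟩ = lam v := fun v =>
    congrArg lam (Subtype.ext (huniq ⟨(v : G), hVE v.2⟩ v v.2 1 S₀.one_mem (mul_one _)).symm)
  have hnE : ∀ y ∈ E₀, n * y * n⁻¹ ∈ E₀ := fun y hy => by
    have h1 := hab' ⟨y, hy⟩
    have e : n * y * n⁻¹ = (n * a ⟨y, hy⟩ * n⁻¹) * (n * b ⟨y, hy⟩ * n⁻¹) := by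
      calc n * y * n⁻¹ = n * (a ⟨y, hy⟩ * b ⟨y, hy⟩) * n⁻¹ := by rw [h1]
        _ = _ := by group
    rw [e]
    exact E₀.mul_mem (hVE ((inferInstance : V.Normal).conj_mem _ (ha _) n))
      (le_sup_right (a := V) (hnS _ (hb _)))
  have hnE' : ∀ y : G, n * y * n⁻¹ ∈ E₀ → y ∈ E₀ := fun y hy => by
    have h1 := hab' ⟨_, hy⟩
    set v := a ⟨_, hy⟩
    set x := b ⟨_, hy⟩
    have e : y = (n⁻¹ * v * n⁻¹⁻¹) * (n⁻¹ * x * n⁻¹⁻¹) := by
      calc y = n⁻¹ * (n * y * n⁻¹) * n := by group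
        _ = n⁻¹ * (v * x) * n := by rw [show v * x = n * y * n⁻¹ from h1]
        _ = _ := by group
    rw [e]
    refine E₀.mul_mem (hVE ((inferInstance : V.Normal).conj_mem _ (ha _) _)) (le_sup_right (a := V) ?_)
    refine hnS' _ ?_
    have e2 : n * (n⁻¹ * x * n⁻¹⁻¹) * n⁻¹ = x := by group
    rw [e2]; exact hb _
  set F := indFun E₀ f with hF
  have hFc : IsCharacter G F := isCharacter_indFun E₀ (isCharacter_linear ext)
  have hFreal : ∀ g : G, conj (F g) = F g := by
    intro g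
    have key : ∀ y : G, conj (extendByZero E₀ f y) = extendByZero E₀ f (n * y * n⁻¹) := by
      intro y
      by_cases hy : y ∈ E₀
      · rw [extendByZero_mem E₀ _ hy, extendByZero_mem E₀ _ (hnE y hy)]
        have h1 := huniq ⟨_, hnE y hy⟩ (n * a ⟨y, hy⟩ * n⁻¹)
          ((inferInstance : V.Normal).conj_mem _ (ha _) n) (n * b ⟨y, hy⟩ * n⁻¹) (hnS _ (hb _))
          (by calc n * a ⟨y, hy⟩ * n⁻¹ * (n * b ⟨y, hy⟩ * n⁻¹) = n * (a ⟨y, hy⟩ * b ⟨y, hy⟩) * n⁻¹ := by group
                _ = n * y * n⁻¹ := by rw [hab'])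
        show conj ((lam ⟨a ⟨y, hy⟩, ha _⟩ : ℂˣ) : ℂ) = ((lam ⟨a ⟨_, hnE y hy⟩, ha _⟩ : ℂˣ) : ℂ)
        rw [show (⟨a ⟨_, hnE y hy⟩, ha _⟩ : V) = MulAut.conjNormal n ⟨a ⟨y, hy⟩, ha _⟩ from
          Subtype.ext (by rw [MulAut.conjNormal_apply]; exact h1.symm), hconj, Units.val_inv_eq_inv_val]
        exact conj_eq_inv_of_pow Nat.card_pos.ne'
          (by rw [← Units.val_pow_eq_pow_val, ← map_pow, pow_card_eq_one', map_one, Units.val_one])
      · rw [extendByZero_not_mem E₀ _ hy, extendByZero_not_mem E₀ _ (fun h => hy (hnE' y h)), map_zero]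
    rw [hF, indFun, map_mul, map_inv₀, map_natCast, map_sum]
    congr 1
    refine Fintype.sum_equiv (Equiv.mulRight n⁻¹) _ _ fun x => ?_
    rw [key]
    congr 1
    simp [mul_assoc]
  -- constituents lie over the orbit
  obtain ⟨m, hm⟩ := exists_decomposition hFc
  have hover : ∀ ξ : IrrCharacter G, m ξ ≠ 0 →
      classInner (fun v : V => (ξ : G → ℂ) v) (θ : V → ℂ) ≠ 0 := by
    intro ξ hξ h0
    obtain ⟨k, hk⟩ := exists_decomposition (isCharacter_comp E₀.subtype (irr_isCharacter ξ.2))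
    let fI : IrrCharacter E₀ := ⟨f, by
      have := isIrr_linear_mul (isIrrCharacter_one (G := E₀)) ext
      simpa [f] using this⟩
    have h1 : k fI ≠ 0 := by
      intro h1
      have h2 := decomposition_coeff m hm ξ
      rw [hF, frobenius E₀ f (isClassFunction_character (irr_isCharacter ξ.2)), ← classInner_symm,
        show (fun t : E₀ => (ξ : G → ℂ) t) = (ξ : G → ℂ) ∘ E₀.subtype from rfl,
        show f = (fI : E₀ → ℂ) from rfl, decomposition_coeff k hk fI, h1, map_natCast] at h2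
      exact hξ (Nat.cast_injective h2).symm
    rw [show (fun v : V => (ξ : G → ℂ) v) =
        ∑ η : IrrCharacter E₀, k η • ((η : E₀ → ℂ) ∘ Subgroup.inclusion hVE)
      from funext fun v => by
        have := congrFun hk (Subgroup.inclusion hVE v)
        simpa using this, classInner_sum_left] at h0
    choose d hd using fun η : IrrCharacter E₀ => classInner_natCast
      (isCharacter_comp (Subgroup.inclusion hVE) (irr_isCharacter η.2)) (irr_isCharacter θ.2)
    rw [Finset.sum_congr rfl fun η _ => by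
      rw [← Nat.cast_smul_eq_nsmul ℂ, classInner_smul_left, hd η, ← Nat.cast_mul],
      ← Nat.cast_sum, Nat.cast_eq_zero, Finset.sum_eq_zero_iff] at h0
    rcases mul_eq_zero.1 (h0 fI (Finset.mem_univ _)) with h5 | h5
    · exact h1 h5
    · have h6 := hd fI
      rw [show (fI : E₀ → ℂ) ∘ Subgroup.inclusion hVE = (θ : V → ℂ) from
        funext fun v => (congrArg Units.val (hextV v)).trans (hθ v).symm, irr_self θ.2, h5,
        Nat.cast_zero] at h6
      exact one_ne_zero h6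
  -- degrees
  have horb : (cliffOrbit V θ).card = T.index := by
    have h1 := card_cliffOrbit_mul θ
    have h2 : Nat.card {g : G // irrComp (MulAut.conjNormal g) θ = θ} = Nat.card T :=
      Nat.card_congr (Equiv.subtypeEquivRight fun g => ⟨fun e v => Units.ext (by
        have := congrFun (congrArg Subtype.val e) v
        rwa [irrComp_apply, hθ, hθ] at this), fun hg => Subtype.ext (funext fun v => by
        rw [irrComp_apply, hθ, hθ, hg v])⟩)
    rw [h2, ← Subgroup.index_mul_card T] at h1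
    exact Nat.eq_of_mul_eq_mul_right Nat.card_pos h1
  have hdvd : ∀ ξ : IrrCharacter G, m ξ ≠ 0 → T.index ∣ deg (ξ : G → ℂ) := by
    intro ξ hξ
    obtain ⟨c, hc⟩ := classInner_natCast (isCharacter_comp V.subtype (irr_isCharacter ξ.2))
      (irr_isCharacter θ.2)
    have h1 := congrFun (clifford_restrict ξ θ (hover ξ hξ)) 1
    rw [show classInner (fun v : V => (ξ : G → ℂ) v) (θ : V → ℂ) = c from hc, OneMemClass.coe_one,
      Pi.smul_apply, Finset.sum_apply, smul_eq_mul, char_one_eq_deg (irr_isCharacter ξ.2),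
      Finset.sum_congr rfl (g := fun _ => (1 : ℂ)) fun ψ hψ => by
        obtain ⟨g, rfl⟩ := mem_cliffOrbit.mp hψ
        rw [irrComp_apply, hθ, map_one, map_one, Units.val_one],
      Finset.sum_const, nsmul_eq_mul, mul_one, horb] at h1
    exact ⟨c, by rw [mul_comm]; exact_mod_cast h1⟩
  have hsum : E₀.index = ∑ ξ, m ξ * deg (ξ : G → ℂ) := by
    have h1 := congrFun hm 1
    rw [hF, indFun_one] at h1
    have h2 : f 1 = 1 := by show ((ext 1 : ℂˣ) : ℂ) = 1; rw [map_one, Units.val_one]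
    rw [h2, mul_one, Finset.sum_apply] at h1
    refine Nat.cast_injective (R := ℂ) ?_
    rw [h1, Nat.cast_sum]
    refine Finset.sum_congr rfl fun ξ _ => ?_
    rw [Pi.smul_apply, nsmul_eq_mul, char_one_eq_deg (irr_isCharacter ξ.2), Nat.cast_mul]
  set c : IrrCharacter G → ℕ := fun ξ => m ξ * (deg (ξ : G → ℂ) / T.index) with hc
  have hTi : 0 < T.index := Nat.pos_of_ne_zero Subgroup.index_ne_zero_of_finite
  have hcsum : ∑ ξ, c ξ = E₀.relIndex T := by
    refine Nat.eq_of_mul_eq_mul_right hTi ?_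
    rw [Subgroup.relIndex_mul_index hE₀T, hsum, Finset.sum_mul]
    refine Finset.sum_congr rfl fun ξ _ => ?_
    by_cases h0 : m ξ = 0
    · rw [hc]; simp [h0]
    · rw [hc]
      show m ξ * (deg (ξ : G → ℂ) / T.index) * T.index = _
      rw [mul_assoc, Nat.div_mul_cancel (hdvd ξ h0)]
  have hodd' : ¬ 2 ∣ ∑ ξ, c ξ := by
    rw [hcsum]
    intro h2
    have h3 : E₀.relIndex T ∣ S₀.relIndex T := Subgroup.relIndex_dvd_of_le_left T le_sup_right
    have h4 : S₀.relIndex T = (S : Subgroup T).index := by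
      rw [Subgroup.relIndex, hS₀, Subgroup.subgroupOf,
        Subgroup.comap_map_eq_self_of_injective T.subtype_injective]
    exact S.not_dvd_index (h4 ▸ h2.trans h3)
  have hcconj : ∀ ξ, c (irrConj ξ) = c ξ := by
    intro ξ
    have h1 : m (irrConj ξ) = m ξ := by
      have e1 := decomposition_coeff m hm (irrConj ξ)
      have e2 := decomposition_coeff m hm ξ
      have e3 : classInner F ((irrConj ξ : IrrCharacter G) : G → ℂ) = conj (classInner F (ξ : G → ℂ)) := by
        simp only [classInner, map_mul, map_inv₀, map_natCast, map_sum]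
        congr 1
        refine Finset.sum_congr rfl fun g _ => ?_
        rw [hFreal g, show ((irrConj ξ : IrrCharacter G) : G → ℂ) g = conj ((ξ : G → ℂ) g) from rfl]
      rw [e1, e2, map_natCast] at e3
      exact_mod_cast e3
    have h2 : deg ((irrConj ξ : IrrCharacter G) : G → ℂ) = deg (ξ : G → ℂ) := by
      refine Nat.cast_injective (R := ℂ) ?_
      rw [← char_one_eq_deg (irr_isCharacter (irrConj ξ).2), ← char_one_eq_deg (irr_isCharacter ξ.2),
        show ((irrConj ξ : IrrCharacter G) : G → ℂ) 1 = conj ((ξ : G → ℂ) 1) from rfl,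
        conj_char_one (irr_isCharacter ξ.2)]
    simp only [hc, h1, h2]
  by_contra hno
  push Not at hno
  apply hodd'
  rw [← ZMod.natCast_eq_zero_iff, Nat.cast_sum]
  refine Finset.sum_involution (fun ξ _ => irrConj ξ) (fun ξ _ => ?_) (fun ξ _ hne e => ?_)
    (fun ξ _ => Finset.mem_univ _) (fun ξ _ => irrConj_irrConj ξ)
  · rw [hcconj, CharTwo.add_self_eq_zero]
  · have hm0 : m ξ ≠ 0 := fun h0 => hne (by simp [hc, h0])
    exact hover ξ hm0 (hno ξ ((irrConj_eq_iff ξ).1 e))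

end Cfsg.Agent.Char.RealDeg
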