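import Cfsg.Agent.Lib.Char.Indicator
import Cfsg.Agent.Lib.Char.Ortho
import Mathlib

/-!
# Realizing characters of indicator one over the reals
-/

set_option autoImplicit false
set_option linter.style.haveILetI false
open scoped ComplexConjugate Matrix ComplexOrder
open Cfsg Module Matrix

namespace Cfsg.Agent.Char

variable {G : Type*} [Group G] [Fintype G]

theorem repMat_mulVec {n : ℕ} (ρ : Representation ℂ G (Fin n → ℂ)) (g : G) (v : Fin n → ℂ) :
    repMat ρ g *ᵥ v = ρ g v :=
  LinearMap.toMatrix'_mulVec _ _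

/-- An invariant conjugation for a character of indicator one. -/
theorem exists_real_structure {χ : G → ℂ} (hχ : IsIrrCharacter G χ) (h1 : indicator2 χ = 1)
    {n : ℕ} (ρ : Representation ℂ G (Fin n → ℂ)) (hρ : ρ.IsIrreducible) (hχρ : ρ.character = χ) :
    ∃ C : Matrix (Fin n) (Fin n) ℂ, C * C.map (starRingEnd ℂ) = 1 ∧
      ∀ g, repMat ρ g * C = C * (repMat ρ g).map (starRingEnd ℂ) := by
  classical
  set A := repMat ρ with hA
  have htr : ∀ g, (A g).trace = χ g := fun g => by rw [hA, repMat_trace, hχρ]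
  obtain ⟨M, hM0, hM, hMs⟩ : ∃ M : Matrix (Fin n) (Fin n) ℂ, M ≠ 0 ∧
      (∀ g, A g * M * (A g)ᵀ = M) ∧ Mᵀ = M := by
    rcases indicator_core A htr hχ with ⟨-, h0, -⟩ | ⟨-, c, -, hν, ⟨M, hM0, hM⟩, hall⟩
    · rw [h0] at h1; exact absurd h1 zero_ne_one
    · refine ⟨M, hM0, hM, ?_⟩
      rw [hall M hM, show c = 1 from hν.symm.trans h1, one_smul]
  have hn : Nonempty (Fin n) := by
    by_contra hne
    rw [not_nonempty_iff] at hne
    exact hM0 (Matrix.ext fun i => isEmptyElim i)
  have hinvl : ∀ g, A g⁻¹ * A g = 1 := fun g => by rw [← map_mul, inv_mul_cancel, map_one]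
  -- `M` is invertible
  have hsur : Function.Surjective (Matrix.toLin' M) := by
    let S : Subrepresentation ρ := ⟨LinearMap.range (Matrix.toLin' M), fun g v hv => by
      obtain ⟨w, rfl⟩ := hv
      refine ⟨(A g⁻¹)ᵀ *ᵥ w, ?_⟩
      rw [Matrix.toLin'_apply, Matrix.toLin'_apply, ← repMat_mulVec, ← hA, Matrix.mulVec_mulVec,
        Matrix.mulVec_mulVec]
      congr 1
      conv_lhs => rw [← hM g]
      rw [Matrix.mul_assoc, ← Matrix.transpose_mul, hinvl, Matrix.transpose_one, Matrix.mul_one]⟩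
    rw [← LinearMap.range_eq_top]
    rcases hρ.eq_bot_or_eq_top S with hb | ht
    · exfalso
      apply hM0
      have hb' : LinearMap.range (Matrix.toLin' M) = ⊥ := congrArg Subrepresentation.toSubmodule hb
      rw [LinearMap.range_eq_bot] at hb'
      simpa using hb'
    · exact congrArg Subrepresentation.toSubmodule ht
  have hMu : IsUnit M := by
    rw [← Matrix.mulVec_surjective_iff_isUnit]
    exact hsur
  -- an invariant hermitian form
  set H : Matrix (Fin n) (Fin n) ℂ := ∑ g, A g * (A g)ᴴ with hH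
  have hHinv : ∀ h, A h * H * (A h)ᴴ = H := fun h => by
    rw [hH, Matrix.mul_sum, Matrix.sum_mul]
    refine Fintype.sum_equiv (Equiv.mulLeft h) _ _ fun g => ?_
    rw [Equiv.coe_mulLeft, map_mul, Matrix.conjTranspose_mul]
    simp only [Matrix.mul_assoc]
  have hHpd : H.PosDef := by
    rw [hH, ← Finset.add_sum_erase _ _ (Finset.mem_univ (1 : G))]
    refine Matrix.PosDef.add_posSemidef ?_ (Matrix.posSemidef_sum _ fun g _ => Matrix.posSemidef_self_mul_conjTranspose _)
    rw [map_one, Matrix.one_mul, Matrix.conjTranspose_one]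
    exact Matrix.PosDef.one
  have hHTu : IsUnit Hᵀ := hHpd.transpose.isUnit
  have hdT : IsUnit Hᵀ.det := (Matrix.isUnit_iff_isUnit_det _).1 hHTu
  have hdH : IsUnit H.det := (Matrix.isUnit_iff_isUnit_det _).1 hHpd.isUnit
  set C₀ := M * (Hᵀ)⁻¹ with hC₀
  have hC₀H : C₀ * Hᵀ = M := Matrix.nonsing_inv_mul_cancel_right _ M hdT
  have hmap : ∀ X : Matrix (Fin n) (Fin n) ℂ, X.map (starRingEnd ℂ) = (Xᴴ)ᵀ := fun X => by
    ext i j
    simp [Matrix.conjTranspose_apply]
  have hint : ∀ g, A g * C₀ = C₀ * (A g).map (starRingEnd ℂ) := by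
    intro g
    have h2 : (A g).map (starRingEnd ℂ) * (Hᵀ * (A g)ᵀ) = Hᵀ := by
      rw [hmap]
      have h3 := congrArg Matrix.transpose (hHinv g)
      rwa [Matrix.transpose_mul, Matrix.transpose_mul] at h3
    have hu : IsUnit (Hᵀ * (A g)ᵀ) := by
      refine hHTu.mul ⟨⟨(A g)ᵀ, (A g⁻¹)ᵀ, ?_, ?_⟩, rfl⟩
      · rw [← Matrix.transpose_mul, hinvl, Matrix.transpose_one]
      · rw [← Matrix.transpose_mul, ← map_mul, mul_inv_cancel, map_one, Matrix.transpose_one]
    refine hu.mul_right_cancel ?_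
    rw [Matrix.mul_assoc C₀, h2, hC₀H, Matrix.mul_assoc (A g), ← Matrix.mul_assoc C₀, hC₀H,
      ← Matrix.mul_assoc, hM g]
  have hmm : ∀ X Y : Matrix (Fin n) (Fin n) ℂ,
      (X * Y).map (starRingEnd ℂ) = X.map (starRingEnd ℂ) * Y.map (starRingEnd ℂ) := fun X Y =>
    Matrix.map_mul
  have hcc : ∀ X : Matrix (Fin n) (Fin n) ℂ, (X.map (starRingEnd ℂ)).map (starRingEnd ℂ) = X := fun X => by
    ext i j
    simp
  -- Schur
  set X := C₀ * C₀.map (starRingEnd ℂ) with hX
  have hXc : ∀ g, X * A g = A g * X := by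
    intro g
    have h2 := congrArg (fun Z : Matrix (Fin n) (Fin n) ℂ => Z.map (starRingEnd ℂ)) (hint g)
    simp only [hmm, hcc] at h2
    rw [hX, Matrix.mul_assoc, ← h2, ← Matrix.mul_assoc, ← hint g, Matrix.mul_assoc]
  obtain ⟨c, hc⟩ : ∃ c : ℂ, X = c • (1 : Matrix (Fin n) (Fin n) ℂ) := by
    have hcomm : ∀ g v, Matrix.toLin' X (ρ g v) = ρ g (Matrix.toLin' X v) := fun g v => by
      rw [Matrix.toLin'_apply, Matrix.toLin'_apply, ← repMat_mulVec, ← repMat_mulVec, ← hA,
        Matrix.mulVec_mulVec, Matrix.mulVec_mulVec, hXc]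
    let Ti : ρ.IntertwiningMap ρ := (Matrix.toLin' X).intertwiningMap_of_isIntertwiningMap ρ ρ hcomm
    haveI := hρ
    obtain ⟨c, hc⟩ := (Representation.IsIrreducible.algebraMap_intertwiningMap_bijective_of_isAlgClosed
      (ρ := ρ) (k := ℂ)).2 Ti
    refine ⟨c, Matrix.toLin'.injective (LinearMap.ext fun v => ?_)⟩
    have h2 := congrArg (fun F : ρ.IntertwiningMap ρ => F v) hc
    rw [show Matrix.toLin' X v = Ti v from rfl, ← h2, map_smul, Matrix.toLin'_one]
    rfl
  -- the scalar is positive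
  have hkey : M * (Hᵀ)⁻¹ * Mᴴ = c • H := by
    have h3 : C₀.map (starRingEnd ℂ) * H = Mᴴ := by
      have h4 := congrArg (fun Z : Matrix (Fin n) (Fin n) ℂ => Z.map (starRingEnd ℂ)) hC₀H
      simp only [hmm] at h4
      rw [hmap Hᵀ, Matrix.conjTranspose_transpose_eq_transpose_conjTranspose, Matrix.transpose_transpose,
        hHpd.isHermitian.eq, hmap M, ← Matrix.conjTranspose_transpose_eq_transpose_conjTranspose, hMs] at h4
      exact h4
    rw [← hC₀, ← h3, ← Matrix.mul_assoc, ← hX, hc, Matrix.smul_mul, Matrix.one_mul]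
  have hpd : (M * (Hᵀ)⁻¹ * Mᴴ).PosDef :=
    hHpd.transpose.inv.mul_mul_conjTranspose_same (Matrix.vecMul_injective_iff_isUnit.2 hMu)
  have hcpos : 0 < c.re ∧ c.im = 0 := by
    obtain ⟨i⟩ := hn
    have h5 := hpd.diag_pos (i := i)
    rw [hkey, Matrix.smul_apply, smul_eq_mul] at h5
    have h6 := hHpd.diag_pos (i := i)
    rw [Complex.lt_def] at h5 h6
    simp only [Complex.zero_re, Complex.zero_im, Complex.mul_re, Complex.mul_im] at h5 h6
    have him : c.im = 0 := by
      have h7 := h5.2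
      rw [← h6.2] at h7
      simp only [mul_zero, zero_add] at h7
      exact (mul_eq_zero.1 h7.symm).resolve_right h6.1.ne'
    refine ⟨?_, him⟩
    have h7 := h5.1
    rw [him, zero_mul, sub_zero] at h7
    exact pos_of_mul_pos_left h7 h6.1.le
  set r : ℝ := (Real.sqrt c.re)⁻¹ with hr
  refine ⟨(r : ℂ) • C₀, ?_, fun g => ?_⟩
  · rw [Matrix.map_smul' _ _ _ (map_mul _), Complex.conj_ofReal, Matrix.smul_mul, Matrix.mul_smul, smul_smul,
      ← hX, hc, smul_smul]
    have h7 : (r : ℂ) * r * c = 1 := by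
      have h8 : c = (c.re : ℂ) := Complex.ext (by simp) (by simp [hcpos.2])
      rw [h8, ← Complex.ofReal_mul, ← Complex.ofReal_mul, hr]
      have h9 : (Real.sqrt c.re)⁻¹ * (Real.sqrt c.re)⁻¹ * c.re = 1 := by
        rw [← mul_inv, Real.mul_self_sqrt hcpos.1.le, inv_mul_cancel₀ hcpos.1.ne']
      rw [h9, Complex.ofReal_one]
    rw [h7, one_smul]
  · rw [Matrix.mul_smul, Matrix.smul_mul, hint g]

/-- The Frobenius-Schur criterion for realizability over the reals. -/
theorem exists_real_rep {χ : G → ℂ} (hχ : IsIrrCharacter G χ) (h1 : indicator2 χ = 1) :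
    ∃ (m : ℕ) (σ : Representation ℝ G (Fin m → ℝ)),
      ∀ g : G, ((LinearMap.trace ℝ (Fin m → ℝ) (σ g) : ℝ) : ℂ) = χ g := by
  classical
  obtain ⟨n, ρ, hρ, hχρ⟩ := id hχ
  obtain ⟨C, hC, hCA⟩ := exists_real_structure hχ h1 ρ hρ hχρ
  have hcm : ∀ (B : Matrix (Fin n) (Fin n) ℂ) (v : Fin n → ℂ), star (B *ᵥ v) = B.map (starRingEnd ℂ) *ᵥ star v :=
    fun B v => by
      funext i
      simp [Matrix.mulVec, dotProduct, map_sum]
  let J : (Fin n → ℂ) →ₗ[ℝ] (Fin n → ℂ) :=
    { toFun := fun v => C *ᵥ star v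
      map_add' := fun u v => by rw [star_add, Matrix.mulVec_add]
      map_smul' := fun a v => by
        rw [show star (a • v) = a • star v from funext fun i => by simp [Complex.real_smul],
          Matrix.mulVec_smul, RingHom.id_apply] }
  have hJ : ∀ v, J v = C *ᵥ star v := fun v => rfl
  have hJJ : ∀ v, J (J v) = v := fun v => by
    rw [hJ, hJ, hcm, star_star, Matrix.mulVec_mulVec, hC, Matrix.one_mulVec]
  have hJI : ∀ v, J (Complex.I • v) = -(Complex.I • J v) := fun v => by
    rw [hJ, hJ, star_smul, Matrix.mulVec_smul, Complex.star_def, Complex.conj_I, neg_smul]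
  have hJρ : ∀ g v, J (ρ g v) = ρ g (J v) := fun g v => by
    rw [hJ, hJ, ← repMat_mulVec, ← repMat_mulVec, hcm, Matrix.mulVec_mulVec, Matrix.mulVec_mulVec, hCA]
  let W : Submodule ℝ (Fin n → ℂ) := LinearMap.ker (J - LinearMap.id)
  have hW : ∀ v, v ∈ W ↔ J v = v := fun v => by
    simp [W, LinearMap.mem_ker, sub_eq_zero]
  have hpres : ∀ g : G, ∀ v ∈ W, ((ρ g).restrictScalars ℝ) v ∈ W := fun g v hv => by
    rw [hW] at hv ⊢
    rw [LinearMap.restrictScalars_apply, hJρ, hv]
  let bW := Module.finBasis ℝ W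
  set m := finrank ℝ W
  let w : Fin m → (Fin n → ℂ) := fun i => ((bW i : W) : Fin n → ℂ)
  have hspan : ⊤ ≤ Submodule.span ℂ (Set.range w) := by
    intro v _
    have hin : ∀ u : W, (u : Fin n → ℂ) ∈ Submodule.span ℂ (Set.range w) := fun u => by
      rw [← bW.sum_repr u]
      simp only [Submodule.coe_sum, Submodule.coe_smul]
      exact Submodule.sum_mem _ fun i _ =>
        Submodule.smul_of_tower_mem _ _ (Submodule.subset_span ⟨i, rfl⟩)
    have ha : v + J v ∈ W := (hW _).2 (by rw [map_add, hJJ, add_comm])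
    have hb : Complex.I • (v - J v) ∈ W := (hW _).2 (by
      rw [hJI, map_sub, hJJ, ← smul_neg, neg_sub])
    have hv : v = (2 : ℂ)⁻¹ • ((v + J v) - Complex.I • (Complex.I • (v - J v))) := by
      rw [smul_smul Complex.I, Complex.I_mul_I, neg_one_smul, sub_neg_eq_add,
        show (v + J v) + (v - J v) = (2 : ℂ) • v by rw [two_smul]; abel, smul_smul,
        inv_mul_cancel₀ (two_ne_zero), one_smul]
    rw [hv]
    exact Submodule.smul_mem _ _ (Submodule.sub_mem _ (hin ⟨_, ha⟩) (Submodule.smul_mem _ _ (hin ⟨_, hb⟩)))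
  have hindep : LinearIndependent ℂ w := by
    rw [Fintype.linearIndependent_iff]
    intro z hz i
    set a : W := ∑ j, (z j).re • bW j with ha
    set b : W := ∑ j, (z j).im • bW j with hb
    have hab : (a : Fin n → ℂ) + Complex.I • (b : Fin n → ℂ) = 0 := by
      rw [← hz]
      simp only [ha, hb, Submodule.coe_sum, Submodule.coe_smul, Finset.smul_sum, ← Finset.sum_add_distrib]
      refine Finset.sum_congr rfl fun j _ => ?_
      funext k
      simp only [w, Pi.add_apply, Pi.smul_apply, Complex.real_smul, smul_eq_mul]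
      conv_rhs => rw [← Complex.re_add_im (z j)]
      ring
    have hab' := congrArg J hab
    rw [map_add, hJI, (hW _).1 a.2, (hW _).1 b.2, map_zero] at hab'
    have ha0 : (a : Fin n → ℂ) = 0 := by
      have h2 : (2 : ℂ) • (a : Fin n → ℂ) = 0 := by
        rw [two_smul]
        have h3 := congrArg₂ (· + ·) hab hab'
        simp only [add_zero] at h3
        rw [← h3]
        abel
      exact (smul_eq_zero.1 h2).resolve_left two_ne_zero
    rw [ha0, zero_add] at hab
    have hb0 : (b : Fin n → ℂ) = 0 := (smul_eq_zero.1 hab).resolve_left Complex.I_ne_zero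
    have e1 := Fintype.linearIndependent_iff.1 bW.linearIndependent (fun j => (z j).re)
      (Subtype.ext ha0) i
    have e2 := Fintype.linearIndependent_iff.1 bW.linearIndependent (fun j => (z j).im)
      (Subtype.ext hb0) i
    exact Complex.ext e1 e2
  let bC : Module.Basis (Fin m) ℂ (Fin n → ℂ) := Module.Basis.mk hindep hspan
  let τ : G → (W →ₗ[ℝ] W) := fun g => ((ρ g).restrictScalars ℝ).restrict (hpres g)
  have hτ : ∀ g (u : W), ((τ g u : W) : Fin n → ℂ) = ρ g (u : Fin n → ℂ) := fun g u => rfl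
  let e := bW.equivFun
  let σ : Representation ℝ G (Fin m → ℝ) :=
    { toFun := fun g => e.conj (τ g)
      map_one' := by
        refine LinearMap.ext fun x => ?_
        have h3 : τ 1 (e.symm x) = e.symm x := Subtype.ext (by rw [hτ, map_one]; rfl)
        show e (τ 1 (e.symm x)) = x
        rw [h3, LinearEquiv.apply_symm_apply]
      map_mul' := fun g h => by
        refine LinearMap.ext fun x => ?_
        have h3 : τ (g * h) (e.symm x) = τ g (τ h (e.symm x)) := Subtype.ext (by
          rw [hτ, hτ, hτ, map_mul]; rfl)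
        show e (τ (g * h) (e.symm x)) = e (τ g (e.symm (e (τ h (e.symm x)))))
        rw [h3, LinearEquiv.symm_apply_apply] }
  refine ⟨m, σ, fun g => ?_⟩
  show ((LinearMap.trace ℝ (Fin m → ℝ) (e.conj (τ g)) : ℝ) : ℂ) = χ g
  rw [LinearMap.trace_conj', ← hχρ, Representation.character, LinearMap.trace_eq_matrix_trace ℝ bW,
    LinearMap.trace_eq_matrix_trace ℂ bC, Matrix.trace, Matrix.trace, Complex.ofReal_sum]
  refine Finset.sum_congr rfl fun i _ => ?_
  simp only [Matrix.diag_apply, LinearMap.toMatrix_apply]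
  have hexp : ρ g (bC i) = ∑ j, ((bW.repr (τ g (bW i)) j : ℝ) : ℂ) • bC j := by
    simp only [bC, Module.Basis.mk_apply, w]
    rw [← hτ g (bW i)]
    conv_lhs => rw [← bW.sum_repr (τ g (bW i))]
    simp only [Submodule.coe_sum, Submodule.coe_smul]
    refine Finset.sum_congr rfl fun j _ => funext fun k => ?_
    simp [Complex.real_smul]
  rw [hexp, bC.repr_sum_self]

/-- Conversely, a real representation forces indicator one. -/
theorem indicator_one_of_real_rep {χ : G → ℂ} (hχ : IsIrrCharacter G χ) {m : ℕ}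
    (σ : Representation ℝ G (Fin m → ℝ))
    (hσ : ∀ g : G, ((LinearMap.trace ℝ (Fin m → ℝ) (σ g) : ℝ) : ℂ) = χ g) : indicator2 χ = 1 := by
  classical
  let R : G →* Matrix (Fin m) (Fin m) ℝ :=
    { toFun := fun g => LinearMap.toMatrix' (σ g)
      map_one' := by rw [map_one, Module.End.one_eq_id, LinearMap.toMatrix'_id]
      map_mul' := fun a b => by rw [map_mul, Module.End.mul_eq_comp, LinearMap.toMatrix'_comp] }
  let A : G →* Matrix (Fin m) (Fin m) ℂ := (Complex.ofRealHom.mapMatrix).toMonoidHom.comp R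
  have hA : ∀ g, A g = (R g).map (fun x : ℝ => (x : ℂ)) := fun g => rfl
  have htr : ∀ g, (A g).trace = χ g := fun g => by
    rw [← hσ g, LinearMap.trace_eq_matrix_trace ℝ (Pi.basisFun ℝ (Fin m)), LinearMap.toMatrix_eq_toMatrix',
      hA, Matrix.trace, Matrix.trace, Complex.ofReal_sum]
    rfl
  set M : Matrix (Fin m) (Fin m) ℂ := ∑ g, A g * (A g)ᵀ with hM
  have hMinv : ∀ h, A h * M * (A h)ᵀ = M := fun h => by
    rw [hM, Matrix.mul_sum, Matrix.sum_mul]
    refine Fintype.sum_equiv (Equiv.mulLeft h) _ _ fun g => ?_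
    rw [Equiv.coe_mulLeft, map_mul, Matrix.transpose_mul]
    simp only [Matrix.mul_assoc]
  have hMs : Mᵀ = M := by
    rw [hM, Matrix.transpose_sum]
    exact Finset.sum_congr rfl fun g _ => by rw [Matrix.transpose_mul, Matrix.transpose_transpose]
  have hm : Nonempty (Fin m) := by
    by_contra hne
    rw [not_nonempty_iff] at hne
    refine irr_one_ne_zero hχ ?_
    rw [← htr 1, Matrix.trace]
    exact Finset.sum_of_isEmpty _
  have hM0 : M ≠ 0 := by
    have hconj : ∀ g, (A g)ᵀ = (A g)ᴴ := fun g => by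
      ext i j
      rw [hA, Matrix.transpose_apply, Matrix.conjTranspose_apply, Matrix.map_apply]
      exact (Complex.conj_ofReal _).symm
    have hpd : M.PosDef := by
      rw [hM, ← Finset.add_sum_erase _ _ (Finset.mem_univ (1 : G))]
      refine Matrix.PosDef.add_posSemidef ?_ (Matrix.posSemidef_sum _ fun g _ => by
        rw [hconj]; exact Matrix.posSemidef_self_mul_conjTranspose _)
      rw [map_one, Matrix.one_mul, Matrix.transpose_one]
      exact Matrix.PosDef.one
    intro h0
    obtain ⟨i⟩ := hm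
    have := hpd.diag_pos (i := i)
    rw [h0] at this
    exact lt_irrefl _ this
  rcases indicator_core A htr hχ with ⟨-, -, h0⟩ | ⟨-, c, -, hν, -, hall⟩
  · exact absurd (h0 M hMinv) hM0
  · rw [hν]
    have h2 : c • M = (1 : ℂ) • M := by rw [one_smul, ← hall M hMinv, hMs]
    exact smul_left_injective ℂ hM0 h2

end Cfsg.Agent.Char
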