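import Cfsg.Agent.Lib.Char.RelDegreeSplit
import Cfsg.Agent.Lib.Char.KerPPrime
import Cfsg.Agent.Lib.Char.PrimeDegreesThree

/-!
# Distances inside a disconnected common-divisor graph of relative degrees

For solvable `N ≤ G'` with disconnected graph on `cd(G|N)`: the class of the degrees divisible by a prime
`q` of `|N : N'|` is complete, and two degrees in one class have a common neighbour or are adjacent.
-/

set_option autoImplicit false
set_option linter.unusedSectionVars false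
set_option linter.style.haveILetI false

namespace Cfsg.Agent.Char.RelSplit

open Cfsg

universe u

variable {G : Type u} [Group G] [Fintype G]

/-- A common divisor above one. -/
def Meets (a b : ℕ) : Prop := ∃ s, 1 < s ∧ s ∣ a ∧ s ∣ b

theorem Meets.symm {a b : ℕ} (h : Meets a b) : Meets b a := by
  obtain ⟨s, h1, h2, h3⟩ := h
  exact ⟨s, h1, h3, h2⟩

theorem meets_of_not_coprime {a b : ℕ} (ha : a ≠ 0) (h : ¬ a.Coprime b) : Meets a b := by
  refine ⟨a.gcd b, ?_, Nat.gcd_dvd_left a b, Nat.gcd_dvd_right a b⟩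
  have h0 : a.gcd b ≠ 0 := fun e => ha (Nat.gcd_eq_zero_iff.1 e).1
  have h1 : a.gcd b ≠ 1 := h
  omega

variable (N : Subgroup G) [N.Normal] [Fintype N]

/-- Two degrees meet, or meet a common one. -/
def Near (a b : ℕ) : Prop := ∃ d ∈ relCharDegrees N, Meets a d ∧ Meets d b

theorem rch_of_meets {a b : ℕ} (ha : a ∈ relCharDegrees N) (hb : b ∈ relCharDegrees N) (h : Meets a b) :
    Rch N a b := by
  obtain ⟨s, h1, h2, h3⟩ := h
  exact rch_of_dvd N ha hb h1 h2 h3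

theorem adj_of_meets {a b : ↥(relCharDegrees N)} (hne : a ≠ b) (h : Meets (a : ℕ) b) :
    (commonDivisorGraph.induce (relCharDegrees N)).Adj a b := by
  refine ⟨fun e => hne (Subtype.ext e), ?_⟩
  obtain ⟨s, h1, h2, h3⟩ := h
  have hb0 : (b : ℕ) ≠ 0 := by
    obtain ⟨χ, -, e⟩ := b.2
    rw [← e, charDegree_eq_deg]
    exact (deg_pos χ.2).ne'
  exact lt_of_lt_of_le h1 (Nat.le_of_dvd (Nat.gcd_pos_of_pos_right _ (Nat.pos_of_ne_zero hb0))
    (Nat.dvd_gcd h2 h3))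

theorem adj_or_common {a b : ↥(relCharDegrees N)} (hne : a ≠ b) (h : Near N (a : ℕ) b) :
    (commonDivisorGraph.induce (relCharDegrees N)).Adj a b ∨ ∃ d : ↥(relCharDegrees N),
      (commonDivisorGraph.induce (relCharDegrees N)).Adj a d ∧
      (commonDivisorGraph.induce (relCharDegrees N)).Adj d b := by
  obtain ⟨d, hd, h1, h2⟩ := h
  by_cases e1 : d = a
  · exact Or.inl (adj_of_meets N hne (e1 ▸ h2))
  by_cases e2 : d = b
  · exact Or.inl (adj_of_meets N hne (e2 ▸ h1))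
  exact Or.inr ⟨⟨d, hd⟩, adj_of_meets N (fun e => e1 (congrArg Subtype.val e).symm) h1,
    adj_of_meets N (fun e => e2 (congrArg Subtype.val e)) h2⟩

variable (q : ℕ) [hq : Fact q.Prime]

theorem stL_ne {l : N →* ℂˣ} (h : (stL N l).index ≠ 1) : l ≠ 1 := fun e => h (by
  rw [e, Subgroup.index_eq_one, eq_top_iff]
  exact fun g _ => (mem_stL N).2 rfl)

/-- A constituent with trivial part at `q` can be twisted by every linear character at `q`. -/
theorem twist_near (hNG : N ≤ commutator G) (χ : IrrCharacter G) (ψ : IrrCharacter N)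
    (hψ : classInner (fun n : N => (χ : G → ℂ) n) (ψ : N → ℂ) ≠ 0) (hne : ψ ≠ oneC)
    (hχ : ¬ q ∣ deg (χ : G → ℂ)) (hl : lam N q ψ = 1) {l : N →* ℂˣ} (hlp : l ^ qp N q = 1) (hl1 : l ≠ 1) :
    ∃ d ∈ relCharDegrees N, Meets (deg (χ : G → ℂ)) d ∧ (stL N l).index ∣ d ∧
      ((stL N l).index = 1 → q ∣ d) := by
  have hdiv := index_mul_deg_dvd N χ ψ hψ
  have hd : ¬ q ∣ deg (ψ : N → ℂ) := fun h => hχ ((h.mul_left _).trans hdiv)
  obtain ⟨χ', hχ'⟩ := exists_constituent_over N (tw l ψ)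
  have hlam : lam N q (tw l ψ) = l := by rw [lam_tw N hd hlp, hl]; exact one_mul l
  have hne' : tw l ψ ≠ oneC := fun h => hl1 (by rw [← hlam, h, lam_oneC])
  have hd' : ¬ q ∣ deg (tw l ψ : N → ℂ) := by rwa [deg_tw]
  have hdiv' := index_mul_deg_dvd N χ' _ hχ'
  have hle' : stC N (tw l ψ) ≤ stL N l := by
    have := stC_le_stL N (q := q) (ψ := tw l ψ)
    rwa [hlam] at this
  refine ⟨_, mem_rel N χ' _ hχ' hne', ?_,
    ((Subgroup.index_dvd_of_le hle').trans (dvd_mul_right _ _)).trans hdiv',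
    fun hi => dvd_of_invariant N hNG χ' _ hχ' hd' (hlam.symm ▸ hl1) (hlam.symm ▸ hi)⟩
  have hle : stC N (tw l ψ) ≤ stC N ψ := fun g hg => by
    have h1 := (mem_stL N).1 (hle' hg)
    have h2 : irrComp (MulAut.conjNormal g) (tw l ψ) = tw l ψ := hg
    rw [irrComp_tw, h1] at h2
    have h3 := congrArg (tw l⁻¹) h2
    simp only [tw_tw] at h3
    erw [inv_mul_cancel, tw_one, tw_one] at h3
    exact h3
  set b := (stC N ψ).index * deg (ψ : N → ℂ) with hb
  by_cases hb1 : b = 1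
  swap
  · have hb0 : b ≠ 0 := mul_ne_zero Subgroup.index_ne_zero_of_finite (deg_pos ψ.2).ne'
    refine ⟨b, by omega, hdiv, ?_⟩
    refine (Nat.mul_dvd_mul (Subgroup.index_dvd_of_le hle) ?_).trans hdiv'
    rw [deg_tw]
  obtain ⟨hi1, hd1⟩ := mul_eq_one.1 hb1
  have hinv : ∀ g : G, cl N g (D ψ) = D ψ := fun g => by
    rw [← D_irrComp, show irrComp (MulAut.conjNormal g) ψ = ψ from
      ((Subgroup.index_eq_one.1 hi1).symm ▸ Subgroup.mem_top g : g ∈ stC N ψ)]
  obtain ⟨μ, hμ⟩ : ∃ μ : N →* ℂˣ, ψ = tw μ oneC := by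
    obtain ⟨μ, hμ⟩ := exists_hom_of_degree_one (irr_isCharacter ψ.2)
      (by rw [char_one_eq_deg (irr_isCharacter ψ.2), hd1, Nat.cast_one])
    exact ⟨μ, Subtype.ext (funext fun n => by rw [tw_oneC_apply, hμ])⟩
  have hD : D ψ = μ := by
    rw [hμ, D_tw, D_oneC, deg_oneC]
    erw [pow_one, one_mul]
  have hμ1 : orderOf μ ≠ 1 := fun h => hne (by rw [hμ, orderOf_eq_one_iff.1 h]; exact tw_one _)
  obtain ⟨r, hr, hrμ⟩ := Nat.exists_prime_and_dvd hμ1
  have hμpow : μ ^ deg (χ : G → ℂ) = 1 := by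
    have := pow_deg_eq_one N hNG χ ψ hψ 1 (fun g => by erw [pow_one, hinv])
    erw [pow_one, hD] at this
    exact this
  have hrχ : r ∣ deg (χ : G → ℂ) := hrμ.trans (orderOf_dvd_of_pow_eq_one hμpow)
  have hrq : r ≠ q := fun h => hχ (h ▸ hrχ)
  refine ⟨r, hr.one_lt, hrχ, ?_⟩
  have hk : D (tw l ψ) ^ qp N q = μ ^ qp N q := by
    rw [D_tw, hd1]
    erw [pow_one, mul_pow, hlp, mul_one, hD]
  have h1 := pow_deg_eq_one N hNG χ' _ hχ' (qp N q) (fun g => by
    rw [hk, cl_pow, ← hD, hinv])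
  rw [hk] at h1
  erw [← pow_mul] at h1
  have h2 : r ∣ qp N q * deg (χ' : G → ℂ) := hrμ.trans (orderOf_dvd_of_pow_eq_one h1)
  exact (hr.dvd_mul.1 h2).resolve_left fun h =>
    hrq ((Nat.prime_dvd_prime_iff_eq hr hq.out).1 (hr.dvd_of_dvd_pow h))

/-- The common kernel of the linear characters at `q`, as a subgroup of `G`. -/
def res : Subgroup G where
  carrier := {g | ∃ h : g ∈ N, ∀ l : N →* ℂˣ, l ^ qp N q = 1 → l ⟨g, h⟩ = 1}
  one_mem' := ⟨N.one_mem, fun l _ => map_one l⟩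
  mul_mem' := by
    rintro a b ⟨ha, ha'⟩ ⟨hb, hb'⟩
    refine ⟨N.mul_mem ha hb, fun l hl => ?_⟩
    rw [show (⟨a * b, N.mul_mem ha hb⟩ : N) = ⟨a, ha⟩ * ⟨b, hb⟩ from rfl, map_mul, ha' l hl, hb' l hl,
      one_mul]
  inv_mem' := by
    rintro a ⟨ha, ha'⟩
    refine ⟨N.inv_mem ha, fun l hl => ?_⟩
    rw [show (⟨a⁻¹, N.inv_mem ha⟩ : N) = ⟨a, ha⟩⁻¹ from rfl, map_inv, ha' l hl, inv_one]

theorem res_le : res N q ≤ N := fun _ hg => hg.1

instance res_normal : (res N q).Normal := ⟨fun a ha g => by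
  obtain ⟨ha, ha'⟩ := ha
  refine ⟨‹N.Normal›.conj_mem a ha g, fun l hl => ?_⟩
  have h1 := ha' (cl N g l) (by rw [← cl_pow, hl]; rfl)
  rw [cl_apply] at h1
  exact h1⟩

/-- A constituent of a character trivial on the common kernel is linear at `q`. -/
theorem linear_of_res (χ : IrrCharacter G) (ψ : IrrCharacter N)
    (hψ : classInner (fun n : N => (χ : G → ℂ) n) (ψ : N → ℂ) ≠ 0)
    (hres : deg (χ : G → ℂ) ∉ relCharDegrees (res N q)) :
    ∃ μ : N →* ℂˣ, μ ^ qp N q = 1 ∧ ψ = tw μ oneC := by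
  classical
  have hker : ∀ n : N, (n : G) ∈ res N q → (ψ : N → ℂ) n = (ψ : N → ℂ) 1 := by
    intro n hn
    refine constituent_eq_at_ker (isCharacter_comp N.subtype (irr_isCharacter χ.2)) hψ ?_
    show (χ : G → ℂ) (n : G) = (χ : G → ℂ) ((1 : N) : G)
    rw [Subgroup.coe_one]
    by_contra hne
    exact hres ⟨χ, ⟨n, hn, hne⟩, charDegree_eq_deg _⟩
  have hdeg : deg (ψ : N → ℂ) = 1 := PrimeDegrees.deg_eq_one_of_comm_ker ψ fun x y => by
    refine TwoDeg.mem_kerC_of_eq ψ (hker _ ⟨(x * y * x⁻¹ * y⁻¹).2, fun l _ => ?_⟩)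
    show l (x * y * x⁻¹ * y⁻¹) = 1
    rw [map_mul, map_mul, map_mul, map_inv, map_inv, mul_comm (l x) (l y), mul_inv_cancel_right,
      mul_inv_cancel]
  obtain ⟨μ, hμ⟩ := exists_hom_of_degree_one (irr_isCharacter ψ.2)
    (by rw [char_one_eq_deg (irr_isCharacter ψ.2), hdeg, Nat.cast_one])
  have hψμ : ψ = tw μ oneC := Subtype.ext (funext fun n => by rw [tw_oneC_apply, hμ])
  refine ⟨μ, MonoidHom.ext fun n => Units.ext ?_, hψμ⟩
  have hmem : ((n ^ qp N q : N) : G) ∈ res N q :=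
    ⟨(n ^ qp N q : N).2, fun l hl => by
      show l (n ^ qp N q) = 1
      rw [map_pow, ← MonoidHom.pow_apply, hl, MonoidHom.one_apply]⟩
  have h := hker _ hmem
  rw [hψμ, tw_oneC_apply, tw_oneC_apply, map_pow, map_one] at h
  rw [MonoidHom.pow_apply, MonoidHom.one_apply]
  exact h

end Cfsg.Agent.Char.RelSplit
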