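import Cfsg.Agent.Lib.Char.Coprime
import Cfsg.Agent.Lib.Char.FongReynolds
import Cfsg.Agent.Lib.Char.ItoConverse
import Cfsg.Agent.Lib.Char.FullyRamifiedInduced
import Cfsg.Agent.Lib.Char.GlaubermanOver
import Cfsg.Prelude.Def_DegreeGraph

/-!
# The relative degree set over a normal subgroup inside the derived subgroup

For `N ≤ G'` and a prime `q` dividing `|N : N'|`, all degrees over `N` prime to `q` lie in one component
of the common-divisor graph.
-/

set_option autoImplicit false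
set_option linter.unusedSectionVars false
set_option linter.style.haveILetI false

namespace Cfsg.Agent.Char.RelSplit

open Cfsg
open scoped ComplexConjugate

universe u

section Det

variable {G : Type u} [Group G] [Finite G]

/-- The determinant of any finite-dimensional representation affording the character. -/
theorem detChar_eq_of_rep {V : Type*} [AddCommGroup V] [Module ℂ V] [FiniteDimensional ℂ V]
    (ρ : Representation ℂ G V) (g : G) : detChar ρ.character g = LinearMap.det (ρ g) := by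
  let e := (Module.finBasis ℂ V).equivFun
  rw [detChar_eq (repTransport ρ e) (Representation.char_iso (repTransportEquiv ρ e)).symm]
  exact LinearMap.det_conj (ρ g) e

theorem detChar_add {χ ψ : G → ℂ} (hχ : IsCharacter G χ) (hψ : IsCharacter G ψ) (g : G) :
    detChar (χ + ψ) g = detChar χ g * detChar ψ g := by
  obtain ⟨n, ρ, rfl⟩ := hχ
  obtain ⟨m, σ, rfl⟩ := hψ
  have h : (ρ.prod σ).character = ρ.character + σ.character := funext fun g =>
    LinearMap.trace_prodMap' (ρ g) (σ g)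
  rw [← h, detChar_eq_of_rep, detChar_eq ρ rfl, detChar_eq σ rfl]
  exact LinearMap.det_prodMap (ρ g) (σ g)

theorem detChar_zero (g : G) : detChar (0 : G → ℂ) g = 1 := by
  have h : (Representation.trivial ℂ G (Fin 0 → ℂ)).character = 0 := funext fun g => by
    show LinearMap.trace ℂ (Fin 0 → ℂ) _ = 0
    rw [Subsingleton.elim ((Representation.trivial ℂ G (Fin 0 → ℂ)) g) 0, map_zero]
  rw [detChar_eq _ h]
  exact LinearMap.det_eq_one_of_subsingleton _

theorem detChar_sum {ι : Type*} (s : Finset ι) (f : ι → G → ℂ) (hf : ∀ i ∈ s, IsCharacter G (f i))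
    (g : G) : detChar (∑ i ∈ s, f i) g = ∏ i ∈ s, detChar (f i) g := by
  classical
  induction s using Finset.induction_on with
  | empty => simpa using detChar_zero g
  | insert a t ha ih =>
    rw [Finset.sum_insert ha, Finset.prod_insert ha,
      detChar_add (hf a (Finset.mem_insert_self _ _))
        (isCharacter_sum _ _ fun i hi => hf i (Finset.mem_insert_of_mem hi)),
      ih fun i hi => hf i (Finset.mem_insert_of_mem hi)]

theorem detChar_nsmul {χ : G → ℂ} (hχ : IsCharacter G χ) (e : ℕ) (g : G) :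
    detChar (e • χ) g = detChar χ g ^ e := by
  induction e with
  | zero => simpa using detChar_zero g
  | succ e ih => rw [succ_nsmul, detChar_add (isCharacter_nsmul hχ e) hχ, ih, pow_succ]

/-- The determinant of an irreducible character as a homomorphism. -/
noncomputable def D (θ : IrrCharacter G) : G →* ℂˣ :=
  detHom θ.2.choose_spec.choose

theorem D_apply (θ : IrrCharacter G) (g : G) : (D θ g : ℂ) = detChar (θ : G → ℂ) g :=
  (congrFun (detChar_eq_hom _ θ.2.choose_spec.choose_spec.2) g).symm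

/-- Twisting by a linear character. -/
noncomputable def tw (l : G →* ℂˣ) (θ : IrrCharacter G) : IrrCharacter G :=
  ⟨fun g => (l g : ℂ) * (θ : G → ℂ) g, isIrr_linear_mul θ.2 l⟩

theorem tw_apply (l : G →* ℂˣ) (θ : IrrCharacter G) (g : G) :
    (tw l θ : G → ℂ) g = (l g : ℂ) * (θ : G → ℂ) g := rfl

theorem tw_tw (l l' : G →* ℂˣ) (θ : IrrCharacter G) : tw l (tw l' θ) = tw (l * l') θ :=
  Subtype.ext (funext fun g => by simp [tw_apply, mul_assoc])

theorem tw_one (θ : IrrCharacter G) : tw 1 θ = θ :=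
  Subtype.ext (funext fun g => by simp [tw_apply])

theorem deg_tw (l : G →* ℂˣ) (θ : IrrCharacter G) : deg (tw l θ : G → ℂ) = deg (θ : G → ℂ) := by
  simp [deg, tw_apply]

theorem D_tw (l : G →* ℂˣ) (θ : IrrCharacter G) :
    D (tw l θ) = D θ * l ^ deg (θ : G → ℂ) := by
  obtain ⟨d, ρ, hirr, hρ⟩ := θ.2
  have hd : deg (θ : G → ℂ) = d := by
    have h1 := char_one_eq_dim ρ hρ
    rw [char_one_eq_deg (irr_isCharacter θ.2)] at h1
    exact_mod_cast h1
  let ρ' : Representation ℂ G (Fin d → ℂ) :=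
    { toFun := fun g => (l g : ℂ) • ρ g
      map_one' := by rw [map_one, map_one, Units.val_one, one_smul]
      map_mul' := fun a b => by rw [map_mul, map_mul, Units.val_mul, smul_mul_smul_comm] }
  have hρ' : ρ'.character = (tw l θ : G → ℂ) := funext fun g => by
    show LinearMap.trace ℂ _ ((l g : ℂ) • ρ g) = _
    rw [map_smul, smul_eq_mul, tw_apply, ← hρ]
    rfl
  refine MonoidHom.ext fun g => Units.ext ?_
  rw [MonoidHom.mul_apply, MonoidHom.pow_apply, Units.val_mul, Units.val_pow_eq_pow_val, D_apply,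
    D_apply, detChar_eq ρ' hρ', detChar_eq ρ hρ, hd]
  show LinearMap.det ((l g : ℂ) • ρ g) = _
  rw [LinearMap.det_smul, Module.finrank_fin_fun, mul_comm]

/-- The trivial character. -/
noncomputable def oneC : IrrCharacter G := ⟨fun _ => 1, isIrrCharacter_one⟩

theorem D_oneC : D (oneC : IrrCharacter G) = 1 := by
  refine MonoidHom.ext fun g => Units.ext ?_
  have h : (Representation.trivial ℂ G (Fin 1 → ℂ)).character = fun _ => (1 : ℂ) := funext fun g => by
    show LinearMap.trace ℂ (Fin 1 → ℂ) LinearMap.id = 1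
    rw [LinearMap.trace_id, Module.finrank_fin_fun, Nat.cast_one]
  rw [D_apply, show ((oneC : IrrCharacter G) : G → ℂ) = fun _ => 1 from rfl, detChar_eq _ h,
    MonoidHom.one_apply, Units.val_one]
  exact LinearMap.det_id

theorem deg_oneC : deg ((oneC : IrrCharacter G) : G → ℂ) = 1 := by
  simp [deg, oneC]

theorem tw_oneC_apply (l : G →* ℂˣ) (g : G) : (tw l oneC : G → ℂ) g = (l g : ℂ) := by
  simp [tw_apply, oneC]

theorem tw_oneC_inj {l l' : G →* ℂˣ} (h : tw l oneC = tw l' oneC) : l = l' :=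
  MonoidHom.ext fun g => Units.ext (by rw [← tw_oneC_apply l g, h, tw_oneC_apply])

end Det

variable {G : Type u} [Group G] [Fintype G] (N : Subgroup G) [N.Normal] [Fintype N]

theorem irrComp_mul' (a b : G) (θ : IrrCharacter N) :
    irrComp (MulAut.conjNormal (a * b)) θ = irrComp (MulAut.conjNormal b) (irrComp (MulAut.conjNormal a) θ) :=
  (irrComp_conj_mul a b θ).symm

/-- The stabilizer of a character of `N`. -/
noncomputable def stC (θ : IrrCharacter N) : Subgroup G where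
  carrier := {g | irrComp (MulAut.conjNormal g) θ = θ}
  one_mem' := irrComp_conj_one θ
  mul_mem' := fun {a b} (ha : _ = θ) (hb : _ = θ) => by
    show irrComp (MulAut.conjNormal (a * b)) θ = θ
    rw [irrComp_mul', ha, hb]
  inv_mem' := fun {a} (ha : _ = θ) => by
    show irrComp (MulAut.conjNormal a⁻¹) θ = θ
    conv_rhs => rw [← irrComp_conj_one θ, ← mul_inv_cancel a, irrComp_mul', ha]

theorem card_orbit_eq_index (θ : IrrCharacter N) : (cliffOrbit N θ).card = (stC N θ).index := by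
  have hmul := card_cliffOrbit_mul θ
  rw [show Nat.card {g // irrComp (MulAut.conjNormal g) θ = θ} = Nat.card (stC N θ) from rfl,
    ← Subgroup.index_mul_card (stC N θ)] at hmul
  exact Nat.eq_of_mul_eq_mul_right Nat.card_pos hmul

/-- Conjugation of linear characters. -/
def cl (g : G) (l : N →* ℂˣ) : N →* ℂˣ := l.comp (MulAut.conjNormal g : MulAut N).toMonoidHom

theorem cl_apply (g : G) (l : N →* ℂˣ) (n : N) : cl N g l n = l (MulAut.conjNormal g n) := rfl

theorem irrComp_tw (g : G) (l : N →* ℂˣ) (θ : IrrCharacter N) :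
    irrComp (MulAut.conjNormal g) (tw l θ) = tw (cl N g l) (irrComp (MulAut.conjNormal g) θ) := rfl

theorem irrComp_oneC (g : G) :
    irrComp (MulAut.conjNormal g) (oneC : IrrCharacter N) = oneC := rfl

theorem cl_one (l : N →* ℂˣ) : cl N 1 l = l := MonoidHom.ext fun n => by
  rw [cl_apply, map_one]; rfl

theorem cl_mul (a b : G) (l : N →* ℂˣ) : cl N (a * b) l = cl N b (cl N a l) := MonoidHom.ext fun n => by
  rw [cl_apply, map_mul]; rfl

theorem cl_map_mul (g : G) (l l' : N →* ℂˣ) : cl N g (l * l') = cl N g l * cl N g l' := rfl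

/-- The stabilizer of a linear character of `N`. -/
noncomputable def stL (l : N →* ℂˣ) : Subgroup G := stC N (tw l oneC)

theorem mem_stL {l : N →* ℂˣ} {g : G} : g ∈ stL N l ↔ cl N g l = l := by
  show irrComp (MulAut.conjNormal g) (tw l oneC) = tw l oneC ↔ _
  rw [irrComp_tw, irrComp_oneC]
  exact ⟨fun h => tw_oneC_inj h, fun h => by rw [h]⟩

theorem stL_le_pow (l : N →* ℂˣ) (k : ℕ) : stL N l ≤ stL N (l ^ k) := fun g hg => by
  rw [mem_stL] at hg ⊢
  exact MonoidHom.ext fun n => by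
    rw [cl_apply, MonoidHom.pow_apply, MonoidHom.pow_apply, ← cl_apply N g l n, hg]

theorem D_irrComp (g : G) (θ : IrrCharacter N) :
    D (irrComp (MulAut.conjNormal g) θ) = cl N g (D θ) := by
  obtain ⟨d, ρ, hirr, hρ⟩ := θ.2
  refine MonoidHom.ext fun n => Units.ext ?_
  rw [cl_apply, D_apply, D_apply, detChar_eq ρ hρ,
    detChar_eq (ρ.comp (MulAut.conjNormal g : MulAut N).toMonoidHom) (by
      funext m
      rw [irrComp_apply, ← hρ]
      rfl)]
  rfl

variable (hNG : N ≤ commutator G)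
include hNG

/-- An invariant power of the determinant of a constituent is killed by the degree. -/
theorem pow_deg_eq_one (χ : IrrCharacter G) (ψ : IrrCharacter N)
    (hψ : classInner (fun n : N => (χ : G → ℂ) n) (ψ : N → ℂ) ≠ 0) (k : ℕ)
    (hinv : ∀ g : G, cl N g (D ψ ^ k) = D ψ ^ k) : (D ψ ^ k) ^ deg (χ : G → ℂ) = 1 := by
  classical
  obtain ⟨e, he⟩ := classInner_natCast (isCharacter_comp N.subtype (irr_isCharacter χ.2))
    (irr_isCharacter ψ.2)
  have he' : classInner (fun n : N => (χ : G → ℂ) n) (ψ : N → ℂ) = (e : ℂ) := he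
  have hres : (fun n : N => (χ : G → ℂ) n) = e • ∑ η ∈ cliffOrbit N ψ, (η : N → ℂ) := by
    rw [clifford_restrict χ ψ hψ, he', Nat.cast_smul_eq_nsmul]
  have hch : IsCharacter N (∑ η ∈ cliffOrbit N ψ, (η : N → ℂ)) :=
    isCharacter_sum _ _ fun η _ => irr_isCharacter η.2
  obtain ⟨c, hc⟩ : ∃ c, deg (χ : G → ℂ) = e * (c * deg (ψ : N → ℂ)) ∧ c = (cliffOrbit N ψ).card := by
    refine ⟨_, ?_, rfl⟩
    have h := congrFun hres 1
    rw [Pi.smul_apply, Finset.sum_apply, Finset.sum_congr rfl (g := fun _ => (ψ : N → ℂ) 1) fun η hη => by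
        obtain ⟨g, rfl⟩ := mem_cliffOrbit.mp hη
        rw [irrComp_apply, map_one],
      Finset.sum_const, nsmul_eq_mul, nsmul_eq_mul, Subgroup.coe_one,
      char_one_eq_deg (irr_isCharacter χ.2), char_one_eq_deg (irr_isCharacter ψ.2)] at h
    exact_mod_cast h
  refine MonoidHom.ext fun n => Units.ext ?_
  rw [MonoidHom.one_apply, Units.val_one, MonoidHom.pow_apply]
  -- the determinant of `χ` is trivial on the derived subgroup
  obtain ⟨d, ρ, hirr, hρ⟩ := χ.2
  have hker : (n : G) ∈ (detHom ρ).ker :=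
    Abelianization.commutator_subset_ker _ (hNG n.2)
  have h1 : detChar (χ : G → ℂ) (n : G) = 1 := by
    rw [detChar_eq_hom ρ hρ]
    show ((detHom ρ (n : G) : ℂˣ) : ℂ) = 1
    rw [MonoidHom.mem_ker.1 hker, Units.val_one]
  rw [detChar_restrict N (irr_isCharacter χ.2) (θ := fun n : N => (χ : G → ℂ) n) (fun _ => rfl),
    hres, detChar_nsmul hch, detChar_sum _ _ fun η _ => irr_isCharacter η.2] at h1
  have h2 : ∀ η ∈ cliffOrbit N ψ, detChar (η : N → ℂ) n ^ k = ((D ψ ^ k) n : ℂ) := by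
    intro η hη
    obtain ⟨g, rfl⟩ := mem_cliffOrbit.mp hη
    rw [← D_apply, D_irrComp]
    conv_rhs => rw [← hinv g]
    simp only [cl_apply, MonoidHom.pow_apply, Units.val_pow_eq_pow_val]
  have h3 : ((D ψ ^ k) n : ℂ) ^ ((cliffOrbit N ψ).card * e) = 1 := by
    rw [pow_mul, ← Finset.prod_const, ← Finset.prod_congr rfl h2, Finset.prod_pow, ← pow_mul, mul_comm,
      pow_mul, h1, one_pow]
  rw [hc.1, hc.2, show e * ((cliffOrbit N ψ).card * deg (ψ : N → ℂ)) =
    (cliffOrbit N ψ).card * e * deg (ψ : N → ℂ) by ring, pow_mul, Units.val_pow_eq_pow_val,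
    Units.val_pow_eq_pow_val, h3, one_pow]

omit hNG

theorem index_mul_deg_dvd (χ : IrrCharacter G) (ψ : IrrCharacter N)
    (hψ : classInner (fun n : N => (χ : G → ℂ) n) (ψ : N → ℂ) ≠ 0) :
    (stC N ψ).index * deg (ψ : N → ℂ) ∣ deg (χ : G → ℂ) :=
  card_orbit_eq_index N ψ ▸ orbit_mul_deg_dvd N χ ψ hψ

/-- A character over a nontrivial one has its degree in the relative set. -/
theorem mem_rel (χ : IrrCharacter G) (ψ : IrrCharacter N)
    (hψ : classInner (fun n : N => (χ : G → ℂ) n) (ψ : N → ℂ) ≠ 0) (hne : ψ ≠ oneC) :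
    deg (χ : G → ℂ) ∈ relCharDegrees N := by
  refine ⟨χ, ?_, charDegree_eq_deg _⟩
  by_contra hno
  push Not at hno
  refine hψ ?_
  have h : (fun n : N => (χ : G → ℂ) n) = (χ : G → ℂ) 1 • ((oneC : IrrCharacter N) : N → ℂ) :=
    funext fun n => by simp [oneC, hno n n.2]
  rw [h, classInner_smul_left, irrC_orth, if_neg (Ne.symm hne), mul_zero]

/-- Reachability of two degrees. -/
def Rch (a b : ℕ) : Prop :=
  ∃ (ha : a ∈ relCharDegrees N) (hb : b ∈ relCharDegrees N),
    (commonDivisorGraph.induce (relCharDegrees N)).Reachable ⟨a, ha⟩ ⟨b, hb⟩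

theorem Rch.symm {a b : ℕ} (h : Rch N a b) : Rch N b a := by
  obtain ⟨ha, hb, h⟩ := h
  exact ⟨hb, ha, h.symm⟩

theorem Rch.trans {a b c : ℕ} (h : Rch N a b) (h' : Rch N b c) : Rch N a c := by
  obtain ⟨ha, hb, h⟩ := h
  obtain ⟨_, hc, h'⟩ := h'
  exact ⟨ha, hc, h.trans h'⟩

theorem rch_of_dvd {a b c : ℕ} (ha : a ∈ relCharDegrees N) (hb : b ∈ relCharDegrees N) (hc : 1 < c)
    (hca : c ∣ a) (hcb : c ∣ b) : Rch N a b := by
  refine ⟨ha, hb, ?_⟩
  by_cases he : a = b
  · subst he; exact SimpleGraph.Reachable.refl _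
  refine SimpleGraph.Adj.reachable ⟨he, ?_⟩
  have hb0 : b ≠ 0 := by
    obtain ⟨χ, -, rfl⟩ := hb
    rw [charDegree_eq_deg]
    exact (deg_pos χ.2).ne'
  exact lt_of_lt_of_le hc (Nat.le_of_dvd (Nat.gcd_pos_of_pos_right _ (Nat.pos_of_ne_zero hb0))
    (Nat.dvd_gcd hca hcb))

/-- A character over a linear character. -/
noncomputable def xi (l : N →* ℂˣ) : IrrCharacter G := (exists_constituent_over N (tw l oneC)).choose

theorem xi_spec (l : N →* ℂˣ) :
    classInner (fun n : N => (xi N l : G → ℂ) n) (tw l oneC : N → ℂ) ≠ 0 :=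
  (exists_constituent_over N (tw l oneC)).choose_spec

theorem stL_index_dvd_xi (l : N →* ℂˣ) : (stL N l).index ∣ deg (xi N l : G → ℂ) :=
  (dvd_mul_right _ _).trans (index_mul_deg_dvd N _ _ (xi_spec N l))

theorem xi_mem {l : N →* ℂˣ} (hl : l ≠ 1) : deg (xi N l : G → ℂ) ∈ relCharDegrees N :=
  mem_rel N _ _ (xi_spec N l) fun h => hl (tw_oneC_inj (h.trans (tw_one _).symm))

variable (q : ℕ)

/-- The exponent of the part at `q`. -/
noncomputable def qp : ℕ := q ^ (Nat.card N).factorization q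

variable [hq : Fact q.Prime]

theorem hom_pow_card (l : N →* ℂˣ) : l ^ Nat.card N = 1 := MonoidHom.ext fun n => by
  rw [MonoidHom.pow_apply, ← map_pow, pow_card_eq_one', map_one, MonoidHom.one_apply]

theorem exists_exp {d : ℕ} (hd : ¬ q ∣ d) :
    ∃ E, (∀ l : N →* ℂˣ, l ^ qp N q = 1 → l ^ (E * d) = l) ∧
      (∀ l : N →* ℂˣ, (l ^ E) ^ qp N q = 1) ∧ (0 < (Nat.card N).factorization q → ¬ q ∣ E) := by
  set A := (Nat.card N).factorization q with hA
  by_cases hA0 : A = 0
  · refine ⟨Nat.card N, fun l hl => ?_, fun l => by rw [hom_pow_card]; exact one_pow (M := N →* ℂˣ) _, fun h => by omega⟩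
    rw [qp, ← hA, hA0, pow_zero] at hl
    have hl' : l = 1 := (pow_one l).symm.trans hl
    subst hl'
    exact one_pow (M := N →* ℂˣ) _
  set n' := Nat.card N / q ^ A with hn'
  have hn'q : ¬ q ∣ n' := Nat.not_dvd_ordCompl hq.out Nat.card_pos.ne'
  have hco : (n' * d).Coprime (q ^ A) :=
    ((hq.out.coprime_iff_not_dvd.2 (hq.out.not_dvd_mul hn'q hd)).pow_left A).symm
  have h1 : 1 < q ^ A := Nat.one_lt_pow hA0 hq.out.one_lt
  obtain ⟨x, -, hx⟩ := Nat.exists_mul_mod_eq_one_of_coprime hco h1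
  refine ⟨n' * x, fun l hl => ?_, fun l => ?_, fun _ hdv => ?_⟩
  · rw [qp] at hl
    rw [show n' * x * d = n' * d * x by ring, ← Nat.div_add_mod (n' * d * x) (q ^ A), hx]
    erw [pow_add, pow_mul, hl, one_pow, one_mul, pow_one]
  · rw [qp]
    erw [← pow_mul]
    rw [show n' * x * q ^ A = q ^ A * n' * x by ring, hn', Nat.mul_div_cancel' (Nat.ordProj_dvd _ q)]
    erw [pow_mul, hom_pow_card, one_pow]
  · have h2 : q ∣ n' * d * x := by
      rw [show n' * d * x = n' * x * d by ring]; exact hdv.mul_right _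
    have h3 : q ∣ q ^ A := dvd_pow_self q hA0
    have h4 := (Nat.dvd_mod_iff h3).2 h2
    rw [hx] at h4
    exact hq.out.ne_one (Nat.dvd_one.1 h4)

/-- The chosen exponent for a degree. -/
noncomputable def ex (d : ℕ) : ℕ := if h : ¬ q ∣ d then (exists_exp N q h).choose else 0

theorem ex_spec {d : ℕ} (hd : ¬ q ∣ d) :
    (∀ l : N →* ℂˣ, l ^ qp N q = 1 → l ^ (ex N q d * d) = l) ∧
      (∀ l : N →* ℂˣ, (l ^ ex N q d) ^ qp N q = 1) ∧
      (0 < (Nat.card N).factorization q → ¬ q ∣ ex N q d) := by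
  rw [ex, dif_pos hd]
  exact (exists_exp N q hd).choose_spec

/-- The linear part at `q` of a character of degree prime to `q`. -/
noncomputable def lam (ψ : IrrCharacter N) : N →* ℂˣ := D ψ ^ ex N q (deg (ψ : N → ℂ))

variable {q}

theorem lam_tw {ψ : IrrCharacter N} (hd : ¬ q ∣ deg (ψ : N → ℂ)) {l : N →* ℂˣ} (hl : l ^ qp N q = 1) :
    lam N q (tw l ψ) = lam N q ψ * l := by
  rw [lam, lam, deg_tw, D_tw]
  erw [mul_pow, ← pow_mul]
  rw [mul_comm (deg _) (ex N q _), (ex_spec N q hd).1 l hl]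

theorem lam_oneC : lam N q (oneC : IrrCharacter N) = 1 := by rw [lam, D_oneC]; exact one_pow (M := N →* ℂˣ) _

theorem lam_pow {ψ : IrrCharacter N} (hd : ¬ q ∣ deg (ψ : N → ℂ)) : lam N q ψ ^ qp N q = 1 :=
  (ex_spec N q hd).2.1 _

theorem cl_pow (g : G) (l : N →* ℂˣ) (k : ℕ) : cl N g (l ^ k) = cl N g l ^ k := rfl

theorem stC_le_stL {ψ : IrrCharacter N} : stC N ψ ≤ stL N (lam N q ψ) := fun g hg => by
  rw [mem_stL, lam, cl_pow, ← D_irrComp, show irrComp (MulAut.conjNormal g) ψ = ψ from hg]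

theorem inv_of_index {l : N →* ℂˣ} (h : (stL N l).index = 1) (g : G) : cl N g l = l :=
  (mem_stL N).1 ((Subgroup.index_eq_one.1 h).symm ▸ Subgroup.mem_top g)

include hNG in
/-- An invariant part at `q` divides the degree. -/
theorem dvd_of_invariant (χ : IrrCharacter G) (ψ : IrrCharacter N)
    (hψ : classInner (fun n : N => (χ : G → ℂ) n) (ψ : N → ℂ) ≠ 0)
    (hd : ¬ q ∣ deg (ψ : N → ℂ)) (hl : lam N q ψ ≠ 1) (hi : (stL N (lam N q ψ)).index = 1) :
    q ∣ deg (χ : G → ℂ) := by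
  have h1 := pow_deg_eq_one N hNG χ ψ hψ _ (inv_of_index N hi)
  have h2 : orderOf (lam N q ψ) ∣ qp N q := orderOf_dvd_of_pow_eq_one (lam_pow N hd)
  obtain ⟨i, -, hi'⟩ := (Nat.dvd_prime_pow hq.out).1 h2
  have hi0 : i ≠ 0 := fun h0 => hl (orderOf_eq_one_iff.1 (by rw [hi', h0, pow_zero]))
  exact (dvd_pow_self q hi0).trans (hi' ▸ orderOf_dvd_of_pow_eq_one h1)

include hNG in
theorem xi_q {l : N →* ℂˣ} (hl : l ^ qp N q = 1) (hl1 : l ≠ 1) (hi : (stL N l).index = 1) :
    q ∣ deg (xi N l : G → ℂ) := by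
  have hd : ¬ q ∣ deg ((oneC : IrrCharacter N) : N → ℂ) := by
    rw [deg_oneC]; exact hq.out.not_dvd_one
  have he : lam N q (tw l oneC) = l := by rw [lam_tw N hd hl, lam_oneC]; exact one_mul l
  exact dvd_of_invariant N hNG _ _ (xi_spec N l) (by rwa [deg_tw]) (he.symm ▸ hl1) (he.symm ▸ hi)

/-- Linked to all or to a moved linear character. -/
def Linked (a : ℕ) : Prop :=
  (∀ l : N →* ℂˣ, l ^ qp N q = 1 → l ≠ 1 → Rch N a (deg (xi N l : G → ℂ))) ∨
    ∃ l : N →* ℂˣ, l ^ qp N q = 1 ∧ (stL N l).index ≠ 1 ∧ ¬ q ∣ (stL N l).index ∧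
      Rch N a (deg (xi N l : G → ℂ))

include hNG in
theorem linked_of_not_dvd (χ : IrrCharacter G) (ψ : IrrCharacter N)
    (hψ : classInner (fun n : N => (χ : G → ℂ) n) (ψ : N → ℂ) ≠ 0) (hne : ψ ≠ oneC)
    (hχ : ¬ q ∣ deg (χ : G → ℂ)) : Linked N (q := q) (deg (χ : G → ℂ)) := by
  have hdiv := index_mul_deg_dvd N χ ψ hψ
  have hd : ¬ q ∣ deg (ψ : N → ℂ) := fun h => hχ ((h.mul_left _).trans hdiv)
  have hmem := mem_rel N χ ψ hψ hne
  by_cases hl : lam N q ψ = 1
  swap
  · have hi : (stL N (lam N q ψ)).index ≠ 1 := fun h => hχ (dvd_of_invariant N hNG χ ψ hψ hd hl h)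
    have hid : (stL N (lam N q ψ)).index ∣ deg (χ : G → ℂ) :=
      ((Subgroup.index_dvd_of_le (stC_le_stL N)).trans (dvd_mul_right _ _)).trans hdiv
    refine Or.inr ⟨_, lam_pow N hd, hi, fun h => hχ (h.trans hid),
      rch_of_dvd N hmem (xi_mem N hl) ?_ hid (stL_index_dvd_xi N _)⟩
    have : (stL N (lam N q ψ)).index ≠ 0 := Subgroup.index_ne_zero_of_finite
    omega
  refine Or.inl fun l hlp hl1 => ?_
  obtain ⟨χ', hχ'⟩ := exists_constituent_over N (tw l ψ)
  have hlam : lam N q (tw l ψ) = l := by rw [lam_tw N hd hlp, hl]; exact one_mul l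
  have hne' : tw l ψ ≠ oneC := fun h => hl1 (by rw [← hlam, h, lam_oneC])
  have hmem' := mem_rel N χ' _ hχ' hne'
  have hle : stC N (tw l ψ) ≤ stC N ψ := fun g hg => by
    have h1 := stC_le_stL N (q := q) hg
    rw [hlam, mem_stL] at h1
    have h2 : irrComp (MulAut.conjNormal g) (tw l ψ) = tw l ψ := hg
    rw [irrComp_tw, h1] at h2
    have h3 := congrArg (tw l⁻¹) h2
    simp only [tw_tw] at h3
    erw [inv_mul_cancel, tw_one, tw_one] at h3
    exact h3
  have hd' : ¬ q ∣ deg (tw l ψ : N → ℂ) := by rwa [deg_tw]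
  have hdiv' := index_mul_deg_dvd N χ' _ hχ'
  -- the step from `χ'` to the linear character
  have step : Rch N (deg (χ' : G → ℂ)) (deg (xi N l : G → ℂ)) := by
    by_cases hi : (stL N l).index = 1
    · exact rch_of_dvd N hmem' (xi_mem N hl1) hq.out.one_lt
        (dvd_of_invariant N hNG χ' _ hχ' hd' (hlam.symm ▸ hl1) (hlam.symm ▸ hi)) (xi_q N hNG hlp hl1 hi)
    · have h0 : (stL N l).index ≠ 0 := Subgroup.index_ne_zero_of_finite
      refine rch_of_dvd N hmem' (xi_mem N hl1) (by omega) ?_ (stL_index_dvd_xi N _)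
      have hle' := stC_le_stL N (q := q) (ψ := tw l ψ)
      rw [hlam] at hle'
      exact ((Subgroup.index_dvd_of_le hle').trans (dvd_mul_right _ _)).trans hdiv'
  refine Rch.trans N ?_ step
  set b := (stC N ψ).index * deg (ψ : N → ℂ) with hb
  by_cases hb1 : b = 1
  swap
  · have hb0 : b ≠ 0 := mul_ne_zero Subgroup.index_ne_zero_of_finite (deg_pos ψ.2).ne'
    refine rch_of_dvd N hmem hmem' (by omega) hdiv ?_
    refine (Nat.mul_dvd_mul (Subgroup.index_dvd_of_le hle) ?_).trans hdiv'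
    rw [deg_tw]
  -- a linear invariant constituent
  obtain ⟨hi1, hd1⟩ := mul_eq_one.1 hb1
  have hinv : ∀ g : G, cl N g (D ψ) = D ψ := fun g => by
    rw [← D_irrComp, show irrComp (MulAut.conjNormal g) ψ = ψ from
      ((Subgroup.index_eq_one.1 hi1).symm ▸ Subgroup.mem_top g : g ∈ stC N ψ)]
  obtain ⟨μ, hμ⟩ : ∃ μ : N →* ℂˣ, ψ = tw μ oneC := by
    obtain ⟨μ, hμ⟩ := exists_hom_of_degree_one (irr_isCharacter ψ.2)
      (by rw [char_one_eq_deg (irr_isCharacter ψ.2), hd1, Nat.cast_one])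
    exact ⟨μ, Subtype.ext (funext fun n => by rw [tw_oneC_apply, hμ])⟩
  have hD : D ψ = μ := by
    rw [hμ, D_tw, D_oneC, deg_oneC]
    erw [pow_one, one_mul]
  have hμ1 : orderOf μ ≠ 1 := fun h => hne (by rw [hμ, orderOf_eq_one_iff.1 h]; exact tw_one _)
  obtain ⟨r, hr, hrμ⟩ := Nat.exists_prime_and_dvd hμ1
  have hμpow : μ ^ deg (χ : G → ℂ) = 1 := by
    have := pow_deg_eq_one N hNG χ ψ hψ 1 (fun g => by erw [pow_one, hinv])
    erw [pow_one, hD] at this
    exact this
  have hrχ : r ∣ deg (χ : G → ℂ) := hrμ.trans (orderOf_dvd_of_pow_eq_one hμpow)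
  have hrq : r ≠ q := fun h => hχ (h ▸ hrχ)
  refine rch_of_dvd N hmem hmem' hr.one_lt hrχ ?_
  have hk : D (tw l ψ) ^ qp N q = μ ^ qp N q := by
    rw [D_tw, hd1]
    erw [pow_one, mul_pow, hlp, mul_one, hD]
  have h1 := pow_deg_eq_one N hNG χ' _ hχ' (qp N q) (fun g => by
    rw [hk, cl_pow, ← hD, hinv])
  rw [hk] at h1
  erw [← pow_mul] at h1
  have h2 : r ∣ qp N q * deg (χ' : G → ℂ) := hrμ.trans (orderOf_dvd_of_pow_eq_one h1)
  exact (hr.dvd_mul.1 h2).resolve_left fun h =>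
    hrq ((Nat.prime_dvd_prime_iff_eq hr hq.out).1 (hr.dvd_of_dvd_pow h))

open scoped Classical in
/-- The conjugates of a linear character. -/
noncomputable def orb (l : N →* ℂˣ) : Finset (N →* ℂˣ) := Finset.univ.image fun g : G => cl N g l

theorem card_orb (l : N →* ℂˣ) : (orb N l).card = (stL N l).index := by
  classical
  rw [stL, ← card_orbit_eq_index]
  refine Finset.card_bij (fun m _ => tw m oneC) ?_ (fun a _ b _ h => tw_oneC_inj h) ?_
  · intro m hm
    obtain ⟨g, -, rfl⟩ := Finset.mem_image.1 hm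
    exact mem_cliffOrbit.2 ⟨g, rfl⟩
  · intro θ hθ
    obtain ⟨g, rfl⟩ := mem_cliffOrbit.1 hθ
    exact ⟨cl N g l, Finset.mem_image.2 ⟨g, Finset.mem_univ _, rfl⟩, rfl⟩

/-- For coprime orbit lengths the product has an orbit length meeting both. -/
theorem moved_link {l₁ l₂ : N →* ℂˣ} (h₁ : l₁ ^ qp N q = 1) (h₂ : l₂ ^ qp N q = 1)
    (hi₁ : (stL N l₁).index ≠ 1) (hi₂ : (stL N l₂).index ≠ 1) (hq₁ : ¬ q ∣ (stL N l₁).index)
    (hq₂ : ¬ q ∣ (stL N l₂).index) (hco : (stL N l₁).index.Coprime (stL N l₂).index) :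
    ¬ (stL N (l₁ * l₂)).index.Coprime (stL N l₁).index ∧
      ¬ (stL N (l₁ * l₂)).index.Coprime (stL N l₂).index := by
  classical
  set a := (stL N l₁).index with ha
  set b := (stL N l₂).index with hb
  set μ := l₁ * l₂ with hμ
  set c := (stL N μ).index with hc
  have hinf : (stL N l₁ ⊓ stL N l₂).index = a * b :=
    le_antisymm Subgroup.index_inf_le
      (Nat.le_of_dvd (Nat.pos_of_ne_zero Subgroup.index_ne_zero_of_finite)
        (hco.mul_dvd_of_dvd_of_dvd (Subgroup.index_dvd_of_le inf_le_left)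
          (Subgroup.index_dvd_of_le inf_le_right)))
  have hcab : c ∣ a * b := hinf ▸ Subgroup.index_dvd_of_le fun g hg => by
    rw [mem_stL, hμ, cl_map_mul, (mem_stL N).1 hg.1, (mem_stL N).1 hg.2]
  -- one of the two orbits is not met in the length of the product orbit
  have key : ∀ {k₁ k₂ : N →* ℂˣ}, k₁ ^ qp N q = 1 → k₂ ^ qp N q = 1 → k₁ * k₂ = μ →
      (stL N k₂).index ≠ 1 → ¬ q ∣ (stL N k₁).index →
      (stL N k₁ ⊓ stL N k₂).index = (stL N k₁).index * (stL N k₂).index →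
      c.Coprime (stL N k₂).index → c ∣ (stL N k₁).index → False := by
    intro k₁ k₂ hk₁ hk₂ hk hne2 hq1 hinf' hco' hdvd
    have hle : stL N μ ⊓ stL N k₂ ≤ stL N k₁ ⊓ stL N k₂ := fun g hg => by
      refine ⟨(mem_stL N).2 ?_, hg.2⟩
      have e1 := (mem_stL N).1 hg.1
      rw [← hk, cl_map_mul, (mem_stL N).1 hg.2] at e1
      exact mul_right_cancel e1
    have h1 : (stL N k₁).index * (stL N k₂).index ≤ c * (stL N k₂).index :=
      calc (stL N k₁).index * (stL N k₂).index = (stL N k₁ ⊓ stL N k₂).index := hinf'.symm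
        _ ≤ (stL N μ ⊓ stL N k₂).index := Nat.le_of_dvd
            (Nat.pos_of_ne_zero Subgroup.index_ne_zero_of_finite) (Subgroup.index_dvd_of_le hle)
        _ ≤ _ := Subgroup.index_inf_le
    have h2 : c = (stL N k₁).index := le_antisymm
      (Nat.le_of_dvd (Nat.pos_of_ne_zero Subgroup.index_ne_zero_of_finite) hdvd)
      (Nat.le_of_mul_le_mul_right h1 (Nat.pos_of_ne_zero Subgroup.index_ne_zero_of_finite))
    -- all products of conjugates form one orbit
    have hprod : ∀ g h : G, cl N g k₁ * cl N h k₂ ∈ orb N μ := by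
      intro g h
      obtain ⟨x, hx₁, hx₂⟩ : ∃ x : G, cl N x k₁ = cl N g k₁ ∧ cl N x k₂ = cl N h k₂ := by
        have hsurj : Function.Surjective (fun x : G =>
            ((⟨cl N x k₁, Finset.mem_image.2 ⟨x, Finset.mem_univ _, rfl⟩⟩ : orb N k₁),
             (⟨cl N x k₂, Finset.mem_image.2 ⟨x, Finset.mem_univ _, rfl⟩⟩ : orb N k₂))) := by
          set f := fun x : G =>
            ((⟨cl N x k₁, Finset.mem_image.2 ⟨x, Finset.mem_univ _, rfl⟩⟩ : orb N k₁),
             (⟨cl N x k₂, Finset.mem_image.2 ⟨x, Finset.mem_univ _, rfl⟩⟩ : orb N k₂)) with hf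
          let H := stL N k₁ ⊓ stL N k₂
          let F : G ⧸ H → orb N k₁ × orb N k₂ := fun c => f c.out⁻¹
          have hF : Function.Injective F := fun x y hxy => by
            have e1 : cl N x.out⁻¹ k₁ = cl N y.out⁻¹ k₁ := congrArg (fun z => (z.1 : N →* ℂˣ)) hxy
            have e2 : cl N x.out⁻¹ k₂ = cl N y.out⁻¹ k₂ := congrArg (fun z => (z.2 : N →* ℂˣ)) hxy
            rw [← x.out_eq, ← y.out_eq]
            refine QuotientGroup.eq.2 ⟨(mem_stL N).2 ?_, (mem_stL N).2 ?_⟩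
            · rw [cl_mul, e1, ← cl_mul, inv_mul_cancel, cl_one]
            · rw [cl_mul, e2, ← cl_mul, inv_mul_cancel, cl_one]
          have hbij : Function.Bijective F := (Nat.bijective_iff_injective_and_card F).2 ⟨hF, by
            rw [← Subgroup.index_eq_card, hinf', Nat.card_prod, Nat.card_eq_fintype_card,
              Nat.card_eq_fintype_card, Fintype.card_coe, Fintype.card_coe, card_orb, card_orb]⟩
          exact fun z => by
            obtain ⟨w, hw⟩ := hbij.2 z
            exact ⟨_, hw⟩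
        obtain ⟨x, hx⟩ := hsurj (⟨cl N g k₁, Finset.mem_image.2 ⟨g, Finset.mem_univ _, rfl⟩⟩,
          ⟨cl N h k₂, Finset.mem_image.2 ⟨h, Finset.mem_univ _, rfl⟩⟩)
        exact ⟨x, congrArg (fun z => (z.1 : N →* ℂˣ)) hx, congrArg (fun z => (z.2 : N →* ℂˣ)) hx⟩
      refine Finset.mem_image.2 ⟨x, Finset.mem_univ _, ?_⟩
      rw [← hk, cl_map_mul, hx₁, hx₂]
    have himg : ∀ h : G, (orb N k₁).image (· * cl N h k₂) = orb N μ := fun h => by
      refine Finset.eq_of_subset_of_card_le (fun m hm => ?_) ?_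
      · obtain ⟨m', hm', rfl⟩ := Finset.mem_image.1 hm
        obtain ⟨g, -, rfl⟩ := Finset.mem_image.1 hm'
        exact hprod g h
      · rw [Finset.card_image_of_injective _ (mul_left_injective _), card_orb, card_orb, ← hc, h2]
    obtain ⟨h, hh⟩ : ∃ h : G, cl N h k₂ ≠ k₂ := by
      by_contra hall
      push Not at hall
      exact hne2 (Subgroup.index_eq_one.2 (eq_top_iff.2 fun g _ => (mem_stL N).2 (hall g)))
    have heq : (∏ x ∈ orb N k₁, x) * cl N h k₂ ^ (orb N k₁).card =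
        (∏ x ∈ orb N k₁, x) * k₂ ^ (orb N k₁).card := by
      have e1 : ∀ g : G, (∏ x ∈ orb N k₁, x) * cl N g k₂ ^ (orb N k₁).card = ∏ x ∈ orb N μ, x :=
        fun g => by
          rw [← himg g, Finset.prod_image (fun x _ y _ e => mul_right_cancel e)]
          exact ((congrArg ((∏ x ∈ orb N k₁, x) * ·) (Finset.prod_const _).symm).trans
            Finset.prod_mul_distrib.symm)
      have e2 := e1 1
      rw [cl_one] at e2
      exact (e1 h).trans e2.symm
    have hpow := mul_left_cancel heq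
    set δ := cl N h k₂ * k₂⁻¹ with hδ
    have hδ1 : δ ^ (stL N k₁).index = 1 := by
      rw [← card_orb, hδ]
      erw [mul_pow, hpow, inv_pow, mul_inv_cancel]
    have hδq : δ ^ qp N q = 1 := by
      rw [hδ]
      erw [mul_pow, ← cl_pow, hk₂, inv_pow, hk₂, inv_one, mul_one]
      rfl
    have hco2 : ((stL N k₁).index).Coprime (qp N q) :=
      ((hq.out.coprime_iff_not_dvd.2 hq1).pow_left _).symm
    exact hh (mul_inv_eq_one.1 (orderOf_eq_one_iff.1 (Nat.eq_one_of_dvd_coprimes hco2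
      (orderOf_dvd_of_pow_eq_one hδ1) (orderOf_dvd_of_pow_eq_one hδq))))
  refine ⟨fun hca => ?_, fun hcb => ?_⟩
  ·
    refine key h₂ h₁ (mul_comm (G := N →* ℂˣ) _ _) hi₁ hq₂ ?_ hca (hca.dvd_of_dvd_mul_left hcab)
    rw [inf_comm, hinf, mul_comm]
  ·
    exact key h₁ h₂ rfl hi₂ hq₁ hinf hcb (hcb.dvd_of_dvd_mul_right hcab)

/-- Two moved linear characters of coprime orbit lengths prime to `q` are linked. -/
theorem rch_moved {l₁ l₂ : N →* ℂˣ} (h₁ : l₁ ^ qp N q = 1) (h₂ : l₂ ^ qp N q = 1)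
    (hi₁ : (stL N l₁).index ≠ 1) (hi₂ : (stL N l₂).index ≠ 1) (hq₁ : ¬ q ∣ (stL N l₁).index)
    (hq₂ : ¬ q ∣ (stL N l₂).index) : Rch N (deg (xi N l₁ : G → ℂ)) (deg (xi N l₂ : G → ℂ)) := by
  classical
  set a := (stL N l₁).index with ha
  set b := (stL N l₂).index with hb
  have ha0 : a ≠ 0 := Subgroup.index_ne_zero_of_finite
  have hb0 : b ≠ 0 := Subgroup.index_ne_zero_of_finite
  have hne : ∀ {l : N →* ℂˣ}, (stL N l).index ≠ 1 → l ≠ 1 := fun {l} h e => h (by
    rw [e, Subgroup.index_eq_one, eq_top_iff]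
    exact fun g _ => (mem_stL N).2 rfl)
  by_cases hco : a.Coprime b
  swap
  · refine rch_of_dvd N (xi_mem N (hne hi₁)) (xi_mem N (hne hi₂)) (c := a.gcd b) ?_
      ((Nat.gcd_dvd_left a b).trans (stL_index_dvd_xi N _))
      ((Nat.gcd_dvd_right a b).trans (stL_index_dvd_xi N _))
    have : a.gcd b ≠ 0 := fun h => ha0 (Nat.gcd_eq_zero_iff.1 h).1
    have : a.gcd b ≠ 1 := hco
    omega
  set μ := l₁ * l₂ with hμ
  set c := (stL N μ).index with hc
  obtain ⟨hca, hcb⟩ := moved_link N h₁ h₂ hi₁ hi₂ hq₁ hq₂ hco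
  have hc1 : c ≠ 1 := fun h => hca (by
    show c.Coprime a
    rw [h]; exact Nat.coprime_one_left a)
  have lift : ∀ {l : N →* ℂˣ}, (stL N l).index ≠ 1 → ¬ c.Coprime (stL N l).index →
      Rch N (deg (xi N μ : G → ℂ)) (deg (xi N l : G → ℂ)) := fun {l} hl hcl => by
    refine rch_of_dvd N (xi_mem N (hne hc1)) (xi_mem N (hne hl)) (c := c.gcd (stL N l).index) ?_
      ((Nat.gcd_dvd_left _ _).trans (stL_index_dvd_xi N _))
      ((Nat.gcd_dvd_right _ _).trans (stL_index_dvd_xi N _))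
    have : c.gcd (stL N l).index ≠ 0 := fun h =>
      Subgroup.index_ne_zero_of_finite (Nat.gcd_eq_zero_iff.1 h).2
    have : c.gcd (stL N l).index ≠ 1 := hcl
    omega
  exact Rch.trans N (Rch.symm N (lift hi₁ hca)) (lift hi₂ hcb)

/-- A linear character of order a power of `q` whose orbit has length prime to `q`. -/
theorem exists_fixed_hom (hm : q ∣ (commutator N).index) :
    ∃ l : N →* ℂˣ, l ^ qp N q = 1 ∧ l ≠ 1 ∧ ¬ q ∣ (stL N l).index := by
  classical
  haveI : Finite (N →* ℂˣ) :=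
    Finite.of_injective (fun l : N →* ℂˣ => tw l oneC) fun a b h => tw_oneC_inj h
  let V : Subgroup (N →* ℂˣ) :=
    { carrier := {l | l ^ qp N q = 1}
      one_mem' := one_pow _
      mul_mem' := fun {a b} (ha : _ = 1) (hb : _ = 1) => by
        show (a * b) ^ qp N q = 1
        erw [mul_pow, ha, hb, one_mul]
      inv_mem' := fun {a} (ha : _ = 1) => by
        show a⁻¹ ^ qp N q = 1
        erw [inv_pow, ha, inv_one] }
  -- an element of order `q`
  obtain ⟨e₀, he₀⟩ : ∃ e₀ : N →* ℂˣ, orderOf e₀ = q := by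
    obtain ⟨eA⟩ := CommGroup.monoidHom_mulEquiv_of_hasEnoughRootsOfUnity (Abelianization N) ℂ
    have hcard : q ∣ Nat.card (Abelianization N) := by rwa [Subgroup.index_eq_card] at hm
    obtain ⟨x, hx⟩ := exists_prime_orderOf_dvd_card' q hcard
    refine ⟨(eA.symm x).comp Abelianization.of, ?_⟩
    let Φ : (Abelianization N →* ℂˣ) →* (N →* ℂˣ) :=
      { toFun := fun f => f.comp Abelianization.of, map_one' := rfl, map_mul' := fun _ _ => rfl }
    have hΦ : Function.Injective Φ := fun a b h => Abelianization.hom_ext a b h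
    show orderOf (Φ (eA.symm x)) = q
    rw [orderOf_injective Φ hΦ, MulEquiv.orderOf_eq, hx]
  have hqN : q ∣ Nat.card N := by
    rw [← he₀]; exact orderOf_dvd_of_pow_eq_one (hom_pow_card N e₀)
  have hVmem : e₀ ∈ V := by
    show e₀ ^ qp N q = 1
    refine (orderOf_dvd_iff_pow_eq_one (x := e₀)).1 ?_
    rw [he₀]
    exact dvd_pow_self q (hq.out.factorization_pos_of_dvd Nat.card_pos.ne' hqN).ne'
  have hVq : q ∣ Nat.card V := by
    rw [← he₀]
    exact (Subgroup.orderOf_coe (H := V) ⟨e₀, hVmem⟩) ▸ orderOf_dvd_natCard (⟨e₀, hVmem⟩ : V)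
  obtain ⟨P⟩ : Nonempty (Sylow q G) := inferInstance
  letI : MulAction (P : Subgroup G) V :=
    { smul := fun g l => ⟨cl N (g : G)⁻¹ (l : N →* ℂˣ), by
        show cl N (g : G)⁻¹ (l : N →* ℂˣ) ^ qp N q = 1
        rw [← cl_pow, show (l : N →* ℂˣ) ^ qp N q = 1 from l.2]
        rfl⟩
      one_smul := fun l => Subtype.ext (by
        show cl N ((1 : (P : Subgroup G)) : G)⁻¹ (l : N →* ℂˣ) = l
        rw [OneMemClass.coe_one, inv_one, cl_one])
      mul_smul := fun a b l => Subtype.ext (by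
        show cl N ((a * b : (P : Subgroup G)) : G)⁻¹ (l : N →* ℂˣ) = cl N (a : G)⁻¹ (cl N (b : G)⁻¹ l)
        rw [Subgroup.coe_mul, mul_inv_rev, cl_mul]) }
  have h1 : (1 : V) ∈ MulAction.fixedPoints (P : Subgroup G) V := fun g => Subtype.ext rfl
  obtain ⟨w, hw, hw1⟩ := P.isPGroup'.exists_fixed_point_of_prime_dvd_card_of_fixed_point V hVq h1
  refine ⟨w, w.2, fun e => hw1 (Subtype.ext e.symm), fun h => ?_⟩
  have hPle : (P : Subgroup G) ≤ stL N (w : N →* ℂˣ) := fun g hg => by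
    rw [mem_stL]
    have := congrArg (fun v : V => (v : N →* ℂˣ)) (hw ⟨g⁻¹, inv_mem hg⟩)
    change cl N (g⁻¹)⁻¹ (w : N →* ℂˣ) = w at this
    rwa [inv_inv] at this
  exact P.not_dvd_index (h.trans (Subgroup.index_dvd_of_le hPle))

include hNG in
/-- The degrees prime to `q` form one class. -/
theorem rch_not_dvd (hm : q ∣ (commutator N).index) {a b : ℕ} (ha : a ∈ relCharDegrees N)
    (hb : b ∈ relCharDegrees N) (hqa : ¬ q ∣ a) (hqb : ¬ q ∣ b) : Rch N a b := by
  have get : ∀ {a : ℕ}, a ∈ relCharDegrees N → ¬ q ∣ a → Linked N (q := q) a := by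
    rintro a ⟨χ, hχ, rfl⟩ hqa
    rw [charDegree_eq_deg] at hqa ⊢
    obtain ⟨x, hx, hx'⟩ := hχ
    obtain ⟨ψ, hψ, hne⟩ : ∃ ψ : IrrCharacter N,
        classInner (fun n : N => (χ : G → ℂ) n) (ψ : N → ℂ) ≠ 0 ∧ ψ ≠ oneC := by
      by_contra hno
      push Not at hno
      exact hx' (SolvDiv.value_of_constituents χ N (y := ⟨x, hx⟩) fun θ hθ => by rw [hno θ hθ]; rfl)
    exact linked_of_not_dvd N hNG χ ψ hψ hne hqa
  have hne : ∀ {l : N →* ℂˣ}, (stL N l).index ≠ 1 → l ≠ 1 := fun {l} h e => h (by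
    rw [e, Subgroup.index_eq_one, eq_top_iff]
    exact fun g _ => (mem_stL N).2 rfl)
  rcases get ha hqa with h | ⟨l, hl, hi, hlq, h⟩ <;> rcases get hb hqb with h' | ⟨l', hl', hi', hlq', h'⟩
  · obtain ⟨w, hw, hw1, -⟩ := exists_fixed_hom N hm
    exact Rch.trans N (h w hw hw1) (Rch.symm N (h' w hw hw1))
  · exact Rch.trans N (h l' hl' (hne hi')) (Rch.symm N h')
  · exact Rch.trans N h (Rch.symm N (h' l hl (hne hi)))
  · exact Rch.trans N h (Rch.trans N (rch_moved N hl hl' hi hi' hlq hlq') (Rch.symm N h'))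

end Cfsg.Agent.Char.RelSplit
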