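import Cfsg.Agent.Lib.Char.CoprimeMcKay
import Cfsg.Agent.Lib.Char.KerPPrime
import Cfsg.Agent.Lib.Char.FreeTrace

/-!
# Invariant constituents across coprime solvable layers
-/

set_option autoImplicit false
set_option linter.unusedSectionVars false
set_option linter.style.haveILetI false

namespace Cfsg.Agent.Char

open Cfsg Module
open scoped ComplexConjugate

universe u

/-- Two characters over one character of a normal subgroup with abelian quotient differ by a
linear character of the quotient. -/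
theorem exists_twist_of_over {G : Type u} [Group G] [Fintype G] (N : Subgroup G) [N.Normal]
    [Fintype N] (hab : ∀ a b : G, a * b * a⁻¹ * b⁻¹ ∈ N) (θ : IrrCharacter N)
    (χ χ' : IrrCharacter G) (h : classInner (fun n : N => (χ : G → ℂ) n) (θ : N → ℂ) ≠ 0)
    (h' : classInner (fun n : N => (χ' : G → ℂ) n) (θ : N → ℂ) ≠ 0) :
    ∃ l : G →* ℂˣ, (∀ n : N, l (n : G) = 1) ∧
      (χ' : G → ℂ) = fun g => (l g : ℂ) * (χ : G → ℂ) g := by
  classical
  have hcomm : ∀ a b : G ⧸ N, a * b = b * a := by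
    intro a b
    obtain ⟨a, rfl⟩ := QuotientGroup.mk_surjective a
    obtain ⟨b, rfl⟩ := QuotientGroup.mk_surjective b
    rw [← QuotientGroup.mk_mul, ← QuotientGroup.mk_mul, QuotientGroup.eq]
    have := hab b⁻¹ a⁻¹
    simpa [mul_assoc] using this
  haveI := finite_hom_units (G ⧸ N)
  haveI := Fintype.ofFinite ((G ⧸ N) →* ℂˣ)
  have hdelta : ∀ g : G, ∑ m : (G ⧸ N) →* ℂˣ, (m (QuotientGroup.mk g) : ℂ) =
      if g ∈ N then (Nat.card (G ⧸ N) : ℂ) else 0 := fun g => by
    rw [sum_hom_apply hcomm (QuotientGroup.mk g)]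
    simp only [QuotientGroup.eq_one_iff]
  have hsum : ∑ m : (G ⧸ N) →* ℂˣ, classInner (fun g : G => (m (QuotientGroup.mk g) : ℂ) *
      (χ : G → ℂ) g) (χ' : G → ℂ) =
      classInner (fun n : N => (χ : G → ℂ) n) (fun n : N => (χ' : G → ℂ) n) := by
    simp only [classInner, ← Finset.mul_sum]
    rw [Finset.sum_comm, Finset.sum_congr rfl fun g _ =>
      show ∑ m : (G ⧸ N) →* ℂˣ, (m (QuotientGroup.mk g) : ℂ) * (χ : G → ℂ) g * conj ((χ' : G → ℂ) g) =
        if g ∈ N then (Nat.card (G ⧸ N) : ℂ) * ((χ : G → ℂ) g * conj ((χ' : G → ℂ) g)) else 0 by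
      simp only [mul_assoc]
      rw [← Finset.sum_mul, hdelta]
      split_ifs <;> simp,
      ← Finset.sum_filter, ← Finset.mul_sum,
      Finset.sum_subtype (Finset.univ.filter (· ∈ N)) (p := fun g => g ∈ N) (fun g => by simp)]
    rw [show (Nat.card G : ℂ) = (Nat.card (G ⧸ N) : ℂ) * (Nat.card N : ℂ) by
      exact_mod_cast Subgroup.card_eq_card_quotient_mul_card_subgroup N]
    field_simp
  have hne : classInner (fun n : N => (χ : G → ℂ) n) (fun n : N => (χ' : G → ℂ) n) ≠ 0 := by
    have hc := classFun_expansion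
      (isClassFunction_character (isCharacter_comp N.subtype (irr_isCharacter χ.2)))
    choose a ha using fun ψ : IrrCharacter N =>
      classInner_natCast (isCharacter_comp N.subtype (irr_isCharacter χ.2)) (irr_isCharacter ψ.2)
    choose b hb using fun ψ : IrrCharacter N =>
      classInner_natCast (isCharacter_comp N.subtype (irr_isCharacter χ'.2)) (irr_isCharacter ψ.2)
    show classInner ((χ : G → ℂ) ∘ N.subtype) ((χ' : G → ℂ) ∘ N.subtype) ≠ 0
    rw [hc, classInner_sum_left,
      Finset.sum_congr rfl fun (ψ : IrrCharacter N) _ => show classInner (classInner ((χ : G → ℂ) ∘ N.subtype)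
          (ψ : N → ℂ) • (ψ : N → ℂ)) ((χ' : G → ℂ) ∘ N.subtype) = ((a ψ * b ψ : ℕ) : ℂ) by
        rw [classInner_smul_left, ha, ← classInner_symm ((χ' : G → ℂ) ∘ N.subtype) (ψ : N → ℂ), hb,
          map_natCast, Nat.cast_mul],
      ← Nat.cast_sum, Nat.cast_ne_zero]
    intro h0
    have := Finset.sum_eq_zero_iff.1 h0 θ (Finset.mem_univ _)
    rcases mul_eq_zero.1 this with e | e
    · exact h ((ha θ).trans (by rw [e, Nat.cast_zero]))
    · exact h' ((hb θ).trans (by rw [e, Nat.cast_zero]))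
  rw [← hsum] at hne
  obtain ⟨m, -, hm⟩ := Finset.exists_ne_zero_of_sum_ne_zero hne
  refine ⟨m.comp (QuotientGroup.mk' N), fun n => ?_, ?_⟩
  · show m (QuotientGroup.mk (n : G)) = 1
    rw [(QuotientGroup.eq_one_iff (n : G)).2 n.2, map_one]
  · have hirr := isIrr_linear_mul χ.2 (m.comp (QuotientGroup.mk' N))
    by_contra hne'
    refine hm ((irrC_orth (⟨_, hirr⟩ : IrrCharacter G) χ').trans (if_neg fun e => hne' ?_))
    exact (congrArg Subtype.val e).symm

variable {Γ : Type u} [Group Γ] [Fintype Γ]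

theorem conjNormal_inclusion {K G : Subgroup Γ} [K.Normal] [G.Normal] (hKG : K ≤ G) (s : Γ)
    (k : K) : MulAut.conjNormal s (Subgroup.inclusion hKG k) =
      Subgroup.inclusion hKG (MulAut.conjNormal s k) :=
  Subtype.ext (by simp)

/-- The inclusion of a normal subgroup into a larger one. -/
theorem classInner_inclusion {K G : Subgroup Γ} [Fintype K] [Fintype G] (hKG : K ≤ G)
    [Fintype (K.subgroupOf G)] (f g : G → ℂ) :
    classInner (fun n : K.subgroupOf G => f n) (fun n : K.subgroupOf G => g n) =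
      classInner (fun k : K => f (Subgroup.inclusion hKG k))
        (fun k : K => g (Subgroup.inclusion hKG k)) := by
  simp only [classInner]
  rw [Nat.card_congr (Subgroup.subgroupOfEquivOfLe hKG).toEquiv]
  congr 1
  exact Fintype.sum_equiv (Subgroup.subgroupOfEquivOfLe hKG).toEquiv _ _ fun n => rfl

/-- The abelian step. -/
theorem exists_fixed_over_abelian (G K : Subgroup Γ) [G.Normal] [K.Normal] [Fintype G] [Fintype K]
    (hKG : K ≤ G) (hab : ∀ a ∈ G, ∀ b ∈ G, a * b * a⁻¹ * b⁻¹ ∈ K) (S : Subgroup Γ) (hKS : K ≤ S)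
    (hcop : (K.relIndex S).Coprime (K.relIndex G)) (θ : IrrCharacter K)
    (hθ : ∀ s ∈ S, ∀ k : K, (θ : K → ℂ) (MulAut.conjNormal s k) = (θ : K → ℂ) k) :
    ∃ χ : IrrCharacter G,
      classInner (fun k : K => (χ : G → ℂ) (Subgroup.inclusion hKG k)) (θ : K → ℂ) ≠ 0 ∧
      ∀ s ∈ S, ∀ g : G, (χ : G → ℂ) (MulAut.conjNormal s g) = (χ : G → ℂ) g := by
  classical
  haveI := Fintype.ofFinite (K.subgroupOf G)
  let e := Subgroup.subgroupOfEquivOfLe hKG
  let θ' : IrrCharacter (K.subgroupOf G) :=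
    ⟨fun n => (θ : K → ℂ) (e n), isIrrCharacter_comp_equiv e θ.2⟩
  have hover : ∀ χ : IrrCharacter G,
      classInner (fun n : K.subgroupOf G => (χ : G → ℂ) n) (θ' : K.subgroupOf G → ℂ) =
        classInner (fun k : K => (χ : G → ℂ) (Subgroup.inclusion hKG k)) (θ : K → ℂ) := fun χ => by
    simp only [classInner, θ']
    rw [Nat.card_congr e.toEquiv]
    congr 1
    exact Fintype.sum_equiv e.toEquiv _ _ fun n => rfl
  obtain ⟨χ₀, hχ₀⟩ := exists_constituent_over (K.subgroupOf G) θ'
  have hab' : ∀ a b : G, a * b * a⁻¹ * b⁻¹ ∈ K.subgroupOf G := fun a b =>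
    Subgroup.mem_subgroupOf.2 (by simpa using hab a a.2 b b.2)
  let c : Γ → (G →* G) := fun s => (MulAut.conjNormal s : MulAut G).toMonoidHom
  have hc1 : ∀ s t : Γ, ∀ g : G, c (s * t) g = c s (c t g) := fun s t g => by
    show MulAut.conjNormal (s * t) g = MulAut.conjNormal s (MulAut.conjNormal t g)
    rw [map_mul]; rfl
  have htw : ∀ s ∈ S, ∃ l : G →* ℂˣ, (∀ n : K.subgroupOf G, l (n : G) = 1) ∧
      ∀ g, (χ₀ : G → ℂ) (c s g) = (l g : ℂ) * (χ₀ : G → ℂ) g := by
    intro s hs
    obtain ⟨l, hl, he⟩ := exists_twist_of_over (K.subgroupOf G) hab' θ' χ₀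
      (irrComp (MulAut.conjNormal s) χ₀) hχ₀ (by
        rw [hover] at hχ₀ ⊢
        simp only [irrComp_apply, conjNormal_inclusion hKG]
        have e2 : classInner (fun k : K => (χ₀ : G → ℂ) (Subgroup.inclusion hKG (MulAut.conjNormal s k)))
            (θ : K → ℂ) =
            classInner (fun k : K => (χ₀ : G → ℂ) (Subgroup.inclusion hKG k)) (θ : K → ℂ) := by
          simp only [classInner]
          congr 1
          refine Fintype.sum_equiv (MulAut.conjNormal s : MulAut K).toEquiv _ _ fun k => ?_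
          show _ = _ * conj ((θ : K → ℂ) (MulAut.conjNormal s k))
          rw [hθ s hs]
          rfl
        rw [e2]
        exact hχ₀)
    exact ⟨l, hl, fun g => congrFun he g⟩
  choose! l hlK hl using htw
  -- congruence modulo the stabiliser of `χ₀`
  let R : (G →* ℂˣ) → (G →* ℂˣ) → Prop := fun a b =>
    ∀ g, (a g : ℂ) * (χ₀ : G → ℂ) g = (b g : ℂ) * (χ₀ : G → ℂ) g
  have hRmul : ∀ {a b a' b'}, R a b → R a' b' → R (a * a') (b * b') := fun {a b a' b'} h1 h2 g => by
    simp only [MonoidHom.mul_apply, Units.val_mul]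
    linear_combination (a' g : ℂ) * h1 g + (b g : ℂ) * h2 g
  let S' := K.subgroupOf S
  haveI : Fintype (S ⧸ S') := Fintype.ofFinite _
  let t : S ⧸ S' → Γ := fun q => ((q.out : S) : Γ)
  have ht : ∀ q, t q ∈ S := fun q => (q.out : S).2
  let b : G →* ℂˣ := ∏ q : S ⧸ S', l (t q)
  have hkey : ∀ s ∈ S, R (b.comp (c s) * l s ^ Nat.card (S ⧸ S')) b := by
    intro s hs
    let σ : S ⧸ S' ≃ S ⧸ S' := Equiv.mulRight (QuotientGroup.mk (⟨s, hs⟩ : S))
    have hq : ∀ q : S ⧸ S', R ((l (t q)).comp (c s) * l s) (l (t (σ q))) := by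
      intro q g
      obtain ⟨n, hn⟩ := QuotientGroup.mk_out_eq_mul S' ((q.out : S) * ⟨s, hs⟩)
      have he : t (σ q) = t q * s * ((n : S) : Γ) := by
        show (((q * QuotientGroup.mk (⟨s, hs⟩ : S) : S ⧸ S').out : S) : Γ) = _
        conv_lhs => rw [← QuotientGroup.out_eq' q]
        rw [← QuotientGroup.mk_mul, hn]
        rfl
      rw [← hl _ (ht (σ q)) g, he, hc1, hc1]
      have hnG : ((n : S) : Γ) ∈ G := hKG (Subgroup.mem_subgroupOf.1 n.2)
      rw [MonoidHom.mul_apply, Units.val_mul, MonoidHom.comp_apply, mul_assoc, ← hl s hs,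
        ← hl _ (ht q)]
      have e1 : c ((n : S) : Γ) g = ⟨_, hnG⟩ * g * (⟨_, hnG⟩ : G)⁻¹ :=
        Subtype.ext (by simp [c])
      rw [e1, map_mul, map_mul, map_inv, map_mul, map_mul, map_inv,
        isClassFunction_character (irr_isCharacter χ₀.2)]
    have hprod : ∀ A : Finset (S ⧸ S'),
        R (∏ q ∈ A, ((l (t q)).comp (c s) * l s)) (∏ q ∈ A, l (t (σ q))) := by
      intro A
      induction A using Finset.induction with
      | empty => exact fun g => rfl
      | insert a A ha ih => rw [Finset.prod_insert ha, Finset.prod_insert ha]; exact hRmul (hq a) ih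
    have h := hprod Finset.univ
    rw [Finset.prod_mul_distrib, Finset.prod_const, Finset.card_univ, ← Nat.card_eq_fintype_card,
      σ.prod_comp (fun q => l (t q))] at h
    rwa [show ∏ q : S ⧸ S', (l (t q)).comp (c s) = b.comp (c s) from MonoidHom.ext fun g => by
      simp [b]] at h
  obtain ⟨k, hk1, -⟩ : ∃ k, k ≡ 1 [MOD (K.subgroupOf G).index] ∧ k ≡ 0 [MOD Nat.card (S ⧸ S')] := by
    obtain ⟨k, h1, h2⟩ := Nat.chineseRemainder
      (show ((K.subgroupOf G).index).Coprime (Nat.card (S ⧸ S')) from hcop.symm) 1 0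
    exact ⟨k, h1, h2⟩
  obtain ⟨j, hj⟩ : ∃ j, Nat.card (S ⧸ S') * j ≡ 1 [MOD (K.subgroupOf G).index] := by
    obtain ⟨k, h1, h2⟩ := Nat.chineseRemainder
      (show ((K.subgroupOf G).index).Coprime (Nat.card (S ⧸ S')) from hcop.symm) 1 0
    obtain ⟨j, rfl⟩ := Nat.modEq_zero_iff_dvd.1 h2
    exact ⟨j, h1⟩
  refine ⟨⟨fun g => ((b ^ j) g : ℂ) * (χ₀ : G → ℂ) g, isIrr_linear_mul χ₀.2 (b ^ j)⟩, ?_,
    fun s hs g => ?_⟩
  · rw [hover] at hχ₀
    have hb1 : ∀ n : K.subgroupOf G, b (n : G) = 1 := fun n => by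
      simp only [b, MonoidHom.finsetProd_apply]
      exact Finset.prod_eq_one fun q _ => hlK _ (ht q) n
    have e2 : ∀ k : K, ((b ^ j) (Subgroup.inclusion hKG k) : ℂ) = 1 := fun k => by
      rw [MonoidHom.pow_apply, hb1 ⟨Subgroup.inclusion hKG k, Subgroup.mem_subgroupOf.2 k.2⟩,
        one_pow, Units.val_one]
    simp only [e2, one_mul]
    exact hχ₀
  · show ((b ^ j) (c s g) : ℂ) * (χ₀ : G → ℂ) (c s g) = ((b ^ j) g : ℂ) * (χ₀ : G → ℂ) g
    rw [hl s hs]
    have hp : ∀ n : ℕ, ∀ x : G,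
        ((b (c s x) : ℂ) * (l s x : ℂ) ^ Nat.card (S ⧸ S')) ^ n * (χ₀ : G → ℂ) x =
          (b x : ℂ) ^ n * (χ₀ : G → ℂ) x := by
      intro n x
      induction n with
      | zero => simp
      | succ n ih =>
        have hk := hkey s hs x
        simp only [MonoidHom.mul_apply, MonoidHom.pow_apply, Units.val_mul, Units.val_pow_eq_pow_val,
          MonoidHom.comp_apply] at hk
        rw [pow_succ, pow_succ, mul_assoc, hk]
        linear_combination (b x : ℂ) * ih
    have hls : l s g ^ (Nat.card (S ⧸ S') * j) = l s g := by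
      conv_rhs => rw [← pow_one (l s g)]
      refine pow_eq_pow_iff_modEq.2 (hj.of_dvd (orderOf_dvd_of_pow_eq_one ?_))
      rw [← MonoidHom.pow_apply, hom_pow_index (K.subgroupOf G) (hlK s hs), MonoidHom.one_apply]
    have h := hp j g
    rw [mul_pow, ← pow_mul, ← Units.val_pow_eq_pow_val (l s g), hls, mul_assoc] at h
    simpa only [MonoidHom.pow_apply, Units.val_pow_eq_pow_val] using h

/-- Constituents of constituents. -/
theorem classInner_trans {G K N : Subgroup Γ} [Fintype G] [Fintype K] [Fintype N] (hNG : N ≤ G)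
    (hNK : N ≤ K) (hKG : K ≤ G) (χ : IrrCharacter G) (θ₁ : IrrCharacter K) (θ : IrrCharacter N)
    (h : classInner (fun k : K => (χ : G → ℂ) (Subgroup.inclusion hKG k)) (θ₁ : K → ℂ) ≠ 0)
    (h₁ : classInner (fun n : N => (θ₁ : K → ℂ) (Subgroup.inclusion hNK n)) (θ : N → ℂ) ≠ 0) :
    classInner (fun n : N => (χ : G → ℂ) (Subgroup.inclusion hNG n)) (θ : N → ℂ) ≠ 0 := by
  classical
  have hχ := isCharacter_comp (Subgroup.inclusion hKG) (irr_isCharacter χ.2)
  choose a ha using fun ψ : IrrCharacter K => classInner_natCast hχ (irr_isCharacter ψ.2)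
  choose b hb using fun ψ : IrrCharacter K => classInner_natCast
    (isCharacter_comp (Subgroup.inclusion hNK) (irr_isCharacter ψ.2)) (irr_isCharacter θ.2)
  have he : (fun n : N => (χ : G → ℂ) (Subgroup.inclusion hNG n)) =
      ∑ ψ : IrrCharacter K, (a ψ : ℂ) • ((ψ : K → ℂ) ∘ Subgroup.inclusion hNK) := by
    funext n
    have := congrFun (classFun_expansion (isClassFunction_character hχ)) (Subgroup.inclusion hNK n)
    simp only [Function.comp_apply, ha, Finset.sum_apply, Pi.smul_apply] at this ⊢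
    exact this
  rw [he, classInner_sum_left, Finset.sum_congr rfl fun (ψ : IrrCharacter K) _ =>
    show classInner ((a ψ : ℂ) • ((ψ : K → ℂ) ∘ Subgroup.inclusion hNK)) (θ : N → ℂ) =
      ((a ψ * b ψ : ℕ) : ℂ) by rw [classInner_smul_left, hb, Nat.cast_mul],
    ← Nat.cast_sum, Nat.cast_ne_zero]
  intro h0
  rcases mul_eq_zero.1 (Finset.sum_eq_zero_iff.1 h0 θ₁ (Finset.mem_univ _)) with e | e
  · exact h ((ha θ₁).trans (by rw [e, Nat.cast_zero]))
  · exact h₁ ((hb θ₁).trans (by rw [e, Nat.cast_zero]))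

/-- Solvable layers. -/
theorem exists_fixed_over_solvable : ∀ (n : ℕ) (G N : Subgroup Γ) [G.Normal] [N.Normal]
    [Fintype G] [Fintype N] (hNG : N ≤ G), Nat.card G = n →
    Group.IsSolvable (G ⧸ N.subgroupOf G) →
    ∀ (S : Subgroup Γ), N ≤ S → S ⊓ G ≤ N → (N.relIndex S).Coprime (N.relIndex G) →
    ∀ θ : IrrCharacter N, (∀ s ∈ S, ∀ x : N, (θ : N → ℂ) (MulAut.conjNormal s x) = (θ : N → ℂ) x) →
    ∃ χ : IrrCharacter G,
      classInner (fun x : N => (χ : G → ℂ) (Subgroup.inclusion hNG x)) (θ : N → ℂ) ≠ 0 ∧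
      ∀ s ∈ S, ∀ g : G, (χ : G → ℂ) (MulAut.conjNormal s g) = (χ : G → ℂ) g := by
  intro n
  induction n using Nat.strong_induction_on with
  | _ n ih =>
    intro G N _ _ _ _ hNG hn hsolv S hNS hSG hcop θ hθ
    classical
    by_cases hGN : G = N
    · subst hGN
      refine ⟨θ, ?_, hθ⟩
      show classInner (θ : G → ℂ) (θ : G → ℂ) ≠ 0
      rw [irr_self θ.2]
      exact one_ne_zero
    let K : Subgroup Γ := ⁅G, G⁆ ⊔ N
    haveI : K.Normal := Subgroup.sup_normal _ _
    haveI := Fintype.ofFinite K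
    have hKG : K ≤ G := sup_le (Subgroup.commutator_le_right G G) hNG
    have hNK : N ≤ K := le_sup_right
    have hne : K ≠ G := by
      intro hKeq
      haveI : Nontrivial (G ⧸ N.subgroupOf G) := by
        rw [QuotientGroup.nontrivial_iff, Ne, Subgroup.subgroupOf_eq_top]
        exact fun h => hGN (le_antisymm h hNG)
      refine (IsSolvable.commutator_lt_top_of_nontrivial (G ⧸ N.subgroupOf G)).ne (top_le_iff.1 ?_)
      rintro q -
      obtain ⟨g, rfl⟩ := QuotientGroup.mk_surjective q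
      have hg : (g : Γ) ∈ ⁅G, G⁆ ⊔ N := (congrArg (fun H => (g : Γ) ∈ H) hKeq).mpr g.2
      obtain ⟨x, hx, m, hm, he⟩ := Subgroup.mem_sup_of_normal_right.1 hg
      have hx' : x ∈ (commutator G).map G.subtype := by
        rw [Subgroup.map_subtype_commutator]
        exact hx
      obtain ⟨x', hx', rfl⟩ := hx'
      have hq : (QuotientGroup.mk g : G ⧸ N.subgroupOf G) = QuotientGroup.mk x' := by
        refine (QuotientGroup.eq.2 (Subgroup.mem_subgroupOf.2 ?_)).symm
        have : ((x'⁻¹ * g : G) : Γ) = m := by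
          rw [Subgroup.coe_mul, Subgroup.coe_inv, ← he]
          simp
        rw [this]
        exact hm
      rw [hq, show commutator (G ⧸ N.subgroupOf G) = (commutator G).map (QuotientGroup.mk' _) by
        rw [commutator_def, commutator_def, Subgroup.map_commutator,
          Subgroup.map_top_of_surjective _ (QuotientGroup.mk'_surjective _)]]
      exact ⟨x', hx', rfl⟩
    have hlt : Nat.card K < n := by
      rw [← hn]
      exact lt_of_le_of_ne (Subgroup.card_le_of_le hKG) fun e =>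
        hne (Subgroup.eq_of_le_of_card_ge hKG e.ge)
    have hsolK : Group.IsSolvable (K ⧸ N.subgroupOf K) := by
      haveI := hsolv
      let f : K ⧸ N.subgroupOf K →* G ⧸ N.subgroupOf G :=
        QuotientGroup.map _ _ (Subgroup.inclusion hKG) (fun x hx => hx)
      refine Group.isSolvable_of_isSolvable_injective (f := f) ?_
      rw [injective_iff_map_eq_one]
      intro x hx
      induction x using QuotientGroup.induction_on with | _ a =>
      have := (QuotientGroup.eq_one_iff _).1 hx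
      exact (QuotientGroup.eq_one_iff a).2 this
    obtain ⟨θ₁, hθ₁, hinv₁⟩ := ih _ hlt K N hNK rfl hsolK S hNS
      (le_trans (inf_le_inf_left S hKG) hSG)
      (hcop.coprime_dvd_right (Dvd.intro _ (Subgroup.relIndex_mul_relIndex N K G hNK hKG))) θ hθ
    let S' : Subgroup Γ := S ⊔ K
    have hS'inv : ∀ s ∈ S', ∀ k : K, (θ₁ : K → ℂ) (MulAut.conjNormal s k) = (θ₁ : K → ℂ) k := by
      intro s hs
      obtain ⟨a, ha, k, hk, rfl⟩ := Subgroup.mem_sup_of_normal_right.1 hs
      intro x
      rw [map_mul, MulAut.mul_apply, hinv₁ a ha,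
        show MulAut.conjNormal k x = (⟨k, hk⟩ : K) * x * (⟨k, hk⟩ : K)⁻¹ from Subtype.ext (by simp),
        isClassFunction_character (irr_isCharacter θ₁.2)]
    have hcop' : (K.relIndex S').Coprime (K.relIndex G) := by
      refine (hcop.coprime_dvd_left ?_).coprime_dvd_right (Subgroup.relIndex_dvd_of_le_left G hNK)
      rw [Subgroup.relIndex_sup_right]
      exact Subgroup.relIndex_dvd_of_le_left S hNK
    obtain ⟨χ, hχ, hinv⟩ := exists_fixed_over_abelian G K hKG (fun a ha b hb =>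
      (le_sup_left : ⁅G, G⁆ ≤ K) (Subgroup.commutator_mem_commutator ha hb)) S' le_sup_right hcop'
      θ₁ hS'inv
    refine ⟨χ, ?_, fun s hs => hinv s (le_sup_left (a := S) hs)⟩
    exact classInner_trans hNG hNK hKG χ θ₁ θ hχ hθ₁

end Cfsg.Agent.Char
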