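import Cfsg.Agent.Lib.Char.RelGlaubermanCentral
import Cfsg.Agent.Lib.Char.ProjRep
import Cfsg.Agent.Lib.Char.Gallagher
import Mathlib

/-!
# Invariant constituents over invariant characters: the case of a solvable acting quotient
-/

set_option autoImplicit false
set_option linter.unusedSectionVars false
set_option linter.style.haveILetI false

namespace Cfsg.Agent.Char

open Cfsg Module
open scoped ComplexConjugate

universe u

variable {Γ : Type u} [Group Γ] [Fintype Γ]

/-- Invariant characters over an invariant linear character. -/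
theorem exists_fixed_over_linear (G N : Subgroup Γ) [G.Normal] [N.Normal] [Fintype G] (hNG : N ≤ G)
    (hcop : G.index.Coprime (N.relIndex G)) (hsolv : Group.IsSolvable (Γ ⧸ G)) (μ : N →* ℂˣ)
    (hμ : ∀ (x : Γ) (n : N), μ (MulAut.conjNormal x n) = μ n) :
    ∃ χ : IrrCharacter G,
      (∀ n : N, (χ : G → ℂ) (Subgroup.inclusion hNG n) = (χ : G → ℂ) 1 * (μ n : ℂ)) ∧
      ∀ (x : Γ) (g : G), (χ : G → ℂ) (MulAut.conjNormal x g) = (χ : G → ℂ) g := by
  classical
  let K : Subgroup Γ := μ.ker.map N.subtype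
  haveI : K.Normal := ⟨fun k hk x => by
    obtain ⟨n, hn, rfl⟩ := hk
    exact ⟨MulAut.conjNormal x n, MonoidHom.mem_ker.2 ((hμ x n).trans hn), by simp⟩⟩
  have hKN : K ≤ N := Subgroup.map_subtype_le _
  let f := QuotientGroup.mk' K
  have hf : Function.Surjective f := QuotientGroup.mk'_surjective K
  have hker : f.ker = K := QuotientGroup.ker_mk' K
  let G' := G.map f
  let N' := N.map f
  haveI : G'.Normal := Subgroup.Normal.map inferInstance f hf
  haveI : Fintype (Γ ⧸ K) := Fintype.ofFinite _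
  haveI : Fintype G' := Fintype.ofFinite _
  have hNG' : N' ≤ G' := Subgroup.map_mono hNG
  have hZ' : N' ≤ Subgroup.center (Γ ⧸ K) := by
    rintro - ⟨n, hn, rfl⟩
    refine Subgroup.mem_center_iff.2 fun q => ?_
    obtain ⟨x, rfl⟩ := hf q
    rw [← map_mul, ← map_mul]
    refine (QuotientGroup.eq (s := K)).2 ?_
    refine ⟨(⟨n, hn⟩ : N)⁻¹ * MulAut.conjNormal x⁻¹ (⟨n, hn⟩ : N), ?_, ?_⟩
    · show μ _ = 1
      rw [map_mul, map_inv, hμ, inv_mul_cancel]
    · simp only [Subgroup.coe_subtype, Subgroup.coe_mul, Subgroup.coe_inv, MulAut.conjNormal_apply]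
      group
  have hi : G'.index = G.index := Subgroup.index_map_eq G hf (hker.le.trans (hKN.trans hNG))
  have hr : N'.relIndex G' = N.relIndex G := by
    rw [show N' = N.map f from rfl, show G' = G.map f from rfl, Subgroup.relIndex_map_map, hker,
      sup_eq_left.2 hKN, sup_eq_left.2 (hKN.trans hNG)]
  have hs' : Group.IsSolvable ((Γ ⧸ K) ⧸ G') := by
    haveI := hsolv
    refine Group.isSolvable_of_surjective (f := QuotientGroup.map G G' f
      (fun g hg => Subgroup.mem_map_of_mem f hg)) fun q => ?_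
    obtain ⟨y, rfl⟩ := QuotientGroup.mk_surjective q
    obtain ⟨x, rfl⟩ := hf y
    exact ⟨QuotientGroup.mk x, rfl⟩
  let fN : N →* N' := f.subgroupMap N
  have hfN : Function.Surjective fN := f.subgroupMap_surjective N
  let μ' : N' →* ℂˣ := fN.liftOfSurjective hfN ⟨μ, fun n hn => by
    have h1 : (n : Γ) ∈ K := (QuotientGroup.eq_one_iff (n : Γ)).1 (congrArg Subtype.val hn)
    obtain ⟨m, hm, he⟩ := h1
    rw [show n = m from Subtype.ext he.symm]
    exact hm⟩
  have hμ' : ∀ n : N, μ' (fN n) = μ n := fun n =>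
    MonoidHom.liftOfRightInverse_comp_apply fN _ (Function.rightInverse_surjInv hfN) _ n
  obtain ⟨χ', hχ', hinv⟩ := exists_fixed_over_central G' N' hNG' hZ' (by rw [hi, hr]; exact hcop)
    hs' μ'
  let fG : G →* G' := f.subgroupMap G
  refine ⟨⟨fun g => (χ' : G' → ℂ) (fG g),
    isIrr_comp_surjective fG (f.subgroupMap_surjective G) χ'.2⟩, fun n => ?_, fun x g => ?_⟩
  · show (χ' : G' → ℂ) (fG (Subgroup.inclusion hNG n)) = (χ' : G' → ℂ) (fG 1) * _
    rw [map_one, show fG (Subgroup.inclusion hNG n) = Subgroup.inclusion hNG' (fN n) from rfl,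
      hχ', hμ']
  · show (χ' : G' → ℂ) (fG (MulAut.conjNormal x g)) = _
    rw [show fG (MulAut.conjNormal x g) = MulAut.conjNormal (f x) (fG g) from
      Subtype.ext (by
        show f (x * (g : Γ) * x⁻¹) = f x * f g * (f x)⁻¹
        rw [map_mul, map_mul, map_inv]), hinv]

/-- The case of a solvable quotient of the whole group by `G`. -/
theorem exists_fixed_over_solvable_quotient (G N : Subgroup Γ) [G.Normal] [N.Normal] [Fintype G]
    [Fintype N] (hNG : N ≤ G) (hcop : G.index.Coprime (N.relIndex G))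
    (hsolv : Group.IsSolvable (Γ ⧸ G)) (θ : IrrCharacter N)
    (hθ : ∀ (x : Γ) (n : N), (θ : N → ℂ) (MulAut.conjNormal x n) = (θ : N → ℂ) n) :
    ∃ χ : IrrCharacter G,
      classInner (fun n : N => (χ : G → ℂ) (Subgroup.inclusion hNG n)) (θ : N → ℂ) ≠ 0 ∧
      ∀ (x : Γ) (g : G), (χ : G → ℂ) (MulAut.conjNormal x g) = (χ : G → ℂ) g := by
  classical
  obtain ⟨d, σ, hσ, hθσ⟩ := id θ.2
  haveI := hσ
  have hd : d ≠ 0 := fun h0 => irr_one_ne_zero θ.2 (by rw [← hθσ]; simp [h0])
  haveI : Finite (projCover σ) := finite_projCover σ hd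
  haveI := Fintype.ofFinite (projCover σ)
  let π := coverProj σ
  have hπ : Function.Surjective π := coverProj_surjective σ hd (fun g n => by
    rw [hθσ]
    exact hθ g n)
  let G1 := G.comap π
  let N1 := N.comap π
  haveI : G1.Normal := Subgroup.Normal.comap inferInstance π
  haveI : N1.Normal := Subgroup.Normal.comap inferInstance π
  haveI : Fintype G1 := Fintype.ofFinite _
  have hNG1 : N1 ≤ G1 := Subgroup.comap_mono hNG
  let X : Representation ℂ (projCover σ) (Fin d → ℂ) :=
    (Units.coeHom (Module.End ℂ (Fin d → ℂ))).comp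
      ((MonoidHom.snd Γ _).comp (projCover σ).subtype)
  let πN : N1 →* N :=
    { toFun := fun z => ⟨π z, z.2⟩
      map_one' := Subtype.ext (map_one π)
      map_mul' := fun a b => Subtype.ext (map_mul π (a : projCover σ) b) }
  -- the scalar by which a lifted element differs from its image
  have hsc : ∀ z : N1, ∃ c : ℂˣ, X z = (c : ℂ) • σ (πN z) := by
    intro z
    have hz' := (mem_projCover_iff σ _).1 (z : projCover σ).2
    obtain ⟨c, hc⟩ := schur_scalar σ (σ (πN z)⁻¹ * X z) (fun k => by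
      show σ (πN z)⁻¹ * _ * σ k = σ k * (σ (πN z)⁻¹ * _)
      rw [mul_assoc, show X z * σ k = _ from hz'.1 k, ← mul_assoc, ← mul_assoc, ← map_mul, ← map_mul]
      congr 2
      apply Subtype.ext
      rw [show (z : projCover σ).1.1 = (πN z : Γ) from rfl]
      simp only [Subgroup.coe_mul, Subgroup.coe_inv, MulAut.conjNormal_apply]
      group)
    have hX : X z = c • σ (πN z) := by
      have := congrArg (fun f => σ (πN z) * f) hc
      simp only [← mul_assoc, ← map_mul, mul_inv_cancel, map_one, one_mul] at this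
      rw [this, ← Module.End.one_eq_id, mul_smul_comm, mul_one]
    have hc0 : c ≠ 0 := by
      intro h0
      have h1 : LinearMap.det (X z) = 1 := hz'.2
      rw [hX, h0, zero_smul, ← zero_smul ℂ (LinearMap.id : Module.End ℂ (Fin d → ℂ)),
        LinearMap.det_smul, Module.finrank_fin_fun, zero_pow hd, zero_mul] at h1
      exact zero_ne_one h1
    exact ⟨Units.mk0 c hc0, hX⟩
  choose lam hlam using hsc
  haveI : Nontrivial (Fin d → ℂ) := Module.nontrivial_of_finrank_pos (R := ℂ)
    (by rw [Module.finrank_fin_fun]; exact Nat.pos_of_ne_zero hd)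
  have huniq : ∀ (n : N) (a b : ℂ), a • σ n = b • σ n → a = b := fun n a b h => by
    have h1 := congrArg (fun f => f * σ n⁻¹) h
    simp only [smul_mul_assoc, ← map_mul, mul_inv_cancel, map_one] at h1
    exact smul_left_injective ℂ (one_ne_zero : (1 : Module.End ℂ (Fin d → ℂ)) ≠ 0) h1
  let lamHom : N1 →* ℂˣ :=
    { toFun := lam
      map_one' := Units.ext (huniq (πN 1) _ 1 (by
        rw [← hlam, one_smul, map_one, OneMemClass.coe_one, map_one, map_one]))
      map_mul' := fun a b => Units.ext (huniq (πN (a * b)) _ _ (by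
        rw [← hlam, Units.val_mul, map_mul πN, map_mul σ, ← smul_mul_smul_comm, ← hlam, ← hlam,
          Subgroup.coe_mul, map_mul X])) }
  have hlinv : ∀ (x : projCover σ) (z : N1), lamHom (MulAut.conjNormal x z) = lamHom z := by
    intro x z
    refine Units.ext (huniq (πN (MulAut.conjNormal x z)) _ _ ?_)
    show ((lam (MulAut.conjNormal x z) : ℂˣ) : ℂ) • _ = ((lam z : ℂˣ) : ℂ) • _
    have hconj : X x * σ (πN z) = σ (MulAut.conjNormal (π x) (πN z)) * X x :=
      ((mem_projCover_iff σ _).1 x.2).1 (πN z)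
    have hn : πN (MulAut.conjNormal x z) = MulAut.conjNormal (π x) (πN z) :=
      Subtype.ext (by simp [πN])
    rw [← hlam, hn, MulAut.conjNormal_apply, map_mul, map_mul, hlam z, mul_smul_comm, smul_mul_assoc,
      hconj, mul_assoc, ← map_mul X, mul_inv_cancel, map_one, mul_one]
  have hidx : G1.index = G.index := Subgroup.index_comap_of_surjective _ hπ
  have hrel : N1.relIndex G1 = N.relIndex G := by
    rw [show N1 = N.comap π from rfl, Subgroup.relIndex_comap, show G1 = G.comap π from rfl,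
      Subgroup.map_comap_eq_self_of_surjective hπ]
  have hs1 : Group.IsSolvable (projCover σ ⧸ G1) := by
    haveI := hsolv
    refine Group.isSolvable_of_isSolvable_injective
      (f := QuotientGroup.map G1 G π (fun g hg => hg)) ?_
    rw [injective_iff_map_eq_one]
    intro q
    induction q using QuotientGroup.induction_on with | _ a =>
    intro h
    have h' : π a ∈ G := (QuotientGroup.eq_one_iff (π a)).1 h
    exact (QuotientGroup.eq_one_iff a).2 h'
  obtain ⟨β, hβN, hβinv⟩ := exists_fixed_over_linear G1 N1 hNG1 (by rw [hidx, hrel]; exact hcop)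
    hs1 lamHom⁻¹ (fun x z => by simp [hlinv])
  -- tensoring with the covering representation
  let tX : G1 → ℂ := fun g => X.character g
  have htX : IsCharacter G1 tX :=
    isCharacter_comp G1.subtype (isCharacter_character X)
  let M : Subgroup G1 := N1.subgroupOf G1
  haveI : Fintype M := Fintype.ofFinite _
  let e := Subgroup.subgroupOfEquivOfLe hNG1
  let φ : M → ℂ := fun m => ((lamHom⁻¹ (e m) : ℂˣ) : ℂ)
  let ϑ : M → ℂ := fun m => tX m
  have hprod0 : ∀ z : N1, ((lamHom⁻¹ z : ℂˣ) : ℂ) * X.character z = (θ : N → ℂ) (πN z) := fun z => by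
    rw [← hθσ]
    show _ * LinearMap.trace ℂ _ (X z) = LinearMap.trace ℂ _ (σ (πN z))
    rw [hlam, map_smul, smul_eq_mul, ← mul_assoc, MonoidHom.inv_apply]
    show (((lam z)⁻¹ : ℂˣ) : ℂ) * (lam z : ℂ) * _ = _
    rw [Units.inv_mul, one_mul]
  have hφirr : IsIrrCharacter M φ := isIrrCharacter_linear ((lamHom⁻¹).comp e.toMonoidHom)
  have hπN : Function.Surjective πN := fun n => by
    obtain ⟨z, hz⟩ := hπ (n : Γ)
    exact ⟨⟨z, show π z ∈ N by rw [hz]; exact n.2⟩, Subtype.ext hz⟩
  haveI : Fintype N1 := Fintype.ofFinite _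
  have hθ1 : IsIrrCharacter M (φ * ϑ) := by
    have he : φ * ϑ = fun m => (θ : N → ℂ) (πN (e m)) := funext fun m => hprod0 (e m)
    rw [he]
    exact isIrr_comp_surjective (πN.comp e.toMonoidHom) (hπN.comp e.surjective) θ.2
  have hecoe : ∀ (g : G1) (m : M), e (MulAut.conjNormal g m) = MulAut.conjNormal (g : projCover σ) (e m) :=
    fun g m => Subtype.ext (by simp [e, M])
  have hg := gallagher M φ ϑ hφirr
    (fun g m => by simp only [φ, hecoe, MonoidHom.inv_apply, hlinv])
    (fun g m => by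
      simp only [ϑ, MulAut.conjNormal_apply]
      exact isClassFunction_character htX _ _)
    hθ1 htX (fun m => rfl)
  have hβne : classInner (indFun M φ) (β : G1 → ℂ) ≠ 0 := by
    rw [frobenius M φ (isClassFunction_character (irr_isCharacter β.2)), ← classInner_symm,
      show (fun m : M => (β : G1 → ℂ) m) = (β : G1 → ℂ) 1 • φ from funext fun m => hβN (e m),
      classInner_smul_left, irr_self hφirr, mul_one, Ne, map_eq_zero]
    exact irr_one_ne_zero β.2
  obtain ⟨hψ, -⟩ := hg.mapsTo (x := (β : G1 → ℂ)) ⟨β.2, hβne⟩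
  let ψ : G1 → ℂ := (β : G1 → ℂ) * tX
  let πG : G1 →* G :=
    { toFun := fun z => ⟨π z, z.2⟩
      map_one' := Subtype.ext (map_one π)
      map_mul' := fun a b => Subtype.ext (map_mul π (a : projCover σ) b) }
  have hπG : Function.Surjective πG := fun g => by
    obtain ⟨z, hz⟩ := hπ (g : Γ)
    exact ⟨⟨z, show π z ∈ G by rw [hz]; exact g.2⟩, Subtype.ext hz⟩
  have hψN : ∀ z : N1, ψ (Subgroup.inclusion hNG1 z) = (β : G1 → ℂ) 1 * (θ : N → ℂ) (πN z) :=
    fun z => by
      show (β : G1 → ℂ) _ * X.character (z : projCover σ) = _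
      rw [hβN, mul_assoc, hprod0]
  haveI : Fintype πG.ker := Fintype.ofFinite _
  haveI : Fintype (G1 ⧸ πG.ker) := Fintype.ofFinite _
  obtain ⟨χ₁, hχ₁⟩ := exists_deflate πG.ker (show IsIrrCharacter G1 ψ from hψ) (fun k hk => by
    have hk' : π k = 1 := congrArg Subtype.val hk
    have hkN : (k : projCover σ) ∈ N1 := show π k ∈ N by rw [hk']; exact one_mem _
    rw [show k = Subgroup.inclusion hNG1 ⟨k, hkN⟩ from rfl,
      show (1 : G1) = Subgroup.inclusion hNG1 1 from rfl, hψN, hψN,
      show πN ⟨k, hkN⟩ = 1 from Subtype.ext hk', map_one])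
  let q := QuotientGroup.quotientKerEquivOfSurjective πG hπG
  refine ⟨⟨_, isIrrCharacter_comp_equiv q.symm χ₁.2⟩, ?_, fun x g => ?_⟩
  · have hq : ∀ z : G1, q.symm (πG z) = QuotientGroup.mk z := fun z => q.symm_apply_eq.2 rfl
    have he : (fun n : N => (χ₁ : G1 ⧸ πG.ker → ℂ) (q.symm (Subgroup.inclusion hNG n))) =
        (β : G1 → ℂ) 1 • (θ : N → ℂ) := funext fun n => by
      obtain ⟨z, rfl⟩ := hπN n
      rw [show Subgroup.inclusion hNG (πN z) = πG (Subgroup.inclusion hNG1 z) from rfl, hq, hχ₁, hψN]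
      rfl
    show classInner (fun n : N => (χ₁ : G1 ⧸ πG.ker → ℂ) (q.symm (Subgroup.inclusion hNG n))) _ ≠ 0
    rw [he, classInner_smul_left, irr_self θ.2, mul_one]
    exact irr_one_ne_zero β.2
  · have hq : ∀ z : G1, q.symm (πG z) = QuotientGroup.mk z := fun z => q.symm_apply_eq.2 rfl
    obtain ⟨x', rfl⟩ := hπ x
    obtain ⟨g', rfl⟩ := hπG g
    show (χ₁ : G1 ⧸ πG.ker → ℂ) (q.symm _) = (χ₁ : G1 ⧸ πG.ker → ℂ) (q.symm _)
    rw [show MulAut.conjNormal (π x') (πG g') = πG (MulAut.conjNormal x' g') from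
      Subtype.ext (by simp [πG]), hq, hq, hχ₁, hχ₁]
    show (β : G1 → ℂ) _ * X.character _ = (β : G1 → ℂ) _ * X.character _
    rw [hβinv, MulAut.conjNormal_apply, isClassFunction_character (isCharacter_character X)]

end Cfsg.Agent.Char
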