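import Cfsg.Agent.Lib.Char.IdemSubgroup
import Cfsg.Agent.Lib.Char.PrincipalBlock
import Cfsg.Agent.Lib.Char.Contribution

/-!
# Orthogonality of the traces of local idempotents on sections
-/

set_option autoImplicit false
set_option linter.unusedSectionVars false

namespace Cfsg.Agent.Char.SectionTrace

open Cfsg Module IdemAlg IdemSub
open scoped ComplexConjugate

universe u

variable {G : Type u} [Group G] [Fintype G] {M : Ideal AlgInt} {p : ℕ} {hP : M.IsPrime}

theorem push_conj {H : Type u} [Group H] (φ : H →* G) (g : G) (x : OA hP H) :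
    gen hP g * push φ x * gen hP g⁻¹ = push ((MulAut.conj g).toMonoidHom.comp φ) x := by
  induction x using MonoidAlgebra.induction_linear with
  | zero => simp
  | add x y hx hy => rw [map_add, map_add, mul_add, add_mul, hx, hy]
  | single h r =>
    have e : (MonoidAlgebra.single h r : OA hP H) = r • gen hP h := by simp [gen]
    rw [e, map_smul, map_smul, mul_smul_comm, smul_mul_assoc, push_gen, push_gen, ← gen_mul, ← gen_mul]
    rfl

theorem trC_conj {χ : G → ℂ} (hχ : IsCharacter G χ) (g : G) (x : OA hP G) :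
    trC χ (gen hP g * x * gen hP g⁻¹) = trC χ x := by
  rw [trC_mul_comm hχ, ← mul_assoc, ← gen_mul, inv_mul_cancel, gen_one, one_mul]

/-- The average of the coefficients over the conjugates. -/
noncomputable def avg (x : OA hP G) (g : G) : ℂ := (Nat.card G : ℂ)⁻¹ * ∑ i : G, co x (i * g * i⁻¹)

theorem avg_sing (hM : IsPModular p M) {κ : OA hP G} (hκ : IsIdempotentElem κ) {g : G}
    (hg : p ∣ orderOf g) : avg κ g = 0 := by
  rw [avg, IdemTrace.sum_conj_eq_zero hM hκ hg, mul_zero]

theorem trC_eq_avg {f : G → ℂ} (hf : IsClassFunction G f) (x : OA hP G) :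
    trC f x = ∑ g, avg x g * f g := by
  classical
  have key : (Nat.card G : ℂ) * trC f x = ∑ g : G, (∑ i : G, co x (i * g * i⁻¹)) * f g := by
    calc (Nat.card G : ℂ) * trC f x = ∑ _i : G, ∑ g, co x g * f g := by
          rw [Finset.sum_const, Finset.card_univ, nsmul_eq_mul, Nat.card_eq_fintype_card, trC]
      _ = ∑ i : G, ∑ g, co x (i * g * i⁻¹) * f g := Finset.sum_congr rfl fun i _ => by
          refine (Fintype.sum_equiv (MulAut.conj i).toEquiv _ _ fun g => ?_).symm
          show co x (i * g * i⁻¹) * f g = co x (i * g * i⁻¹) * f (i * g * i⁻¹)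
          rw [hf g i]
      _ = _ := by
          rw [Finset.sum_comm]
          exact Finset.sum_congr rfl fun g _ => (Finset.sum_mul _ _ _).symm
  rw [Finset.sum_congr rfl (g := fun g => (Nat.card G : ℂ)⁻¹ * ((∑ i : G, co x (i * g * i⁻¹)) * f g))
    fun g _ => by rw [avg, mul_assoc], ← Finset.mul_sum, ← key, inv_mul_cancel_left₀ (Nat.cast_ne_zero.mpr Nat.card_pos.ne')]

theorem conj_trC_char {χ : G → ℂ} (hχ : IsCharacter G χ) {e : OA hP G} (he : IsIdempotentElem e) :
    conj (trC χ e) = trC χ e := by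
  obtain ⟨n, hn⟩ := exists_nat_trC hχ he
  rw [hn, map_natCast]

section Sec

variable {z : G}

theorem trC_section [Fintype (Subgroup.centralizer ({z} : Set G))] {f : G → ℂ} (hf : IsClassFunction G f)
    (κ : OA hP (Subgroup.centralizer ({z} : Set G))) :
    trC f (gen hP z * push (Subgroup.centralizer ({z} : Set G)).subtype κ) =
      ∑ c, avg κ c * f (z * (c : G)) := by
  have hzC : z ∈ Subgroup.centralizer ({z} : Set G) := Subgroup.mem_centralizer_singleton_iff.mpr rfl
  conv_lhs => rw [show gen hP z = push (Subgroup.centralizer ({z} : Set G)).subtype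
    (gen hP ⟨z, hzC⟩) from (push_gen (Subgroup.centralizer ({z} : Set G)).subtype ⟨z, hzC⟩).symm]
  rw [← map_mul, trC_push, trC_gen_mul]
  exact trC_eq_avg (isClassFunction_secFun (x := z) hf) κ

open scoped Classical in
/-- Column orthogonality inside one section. -/
theorem sum_section_same (hM : IsPModular p M) (hz : ∃ k : ℕ, orderOf z = p ^ k)
    [Fintype (Subgroup.centralizer ({z} : Set G))]
    {κ κ' : OA hP (Subgroup.centralizer ({z} : Set G))} (hκ : IsIdempotentElem κ) (hκ' : IsIdempotentElem κ') :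
    ∑ χ : IrrCharacter G,
        trC (χ : G → ℂ) (gen hP z * push (Subgroup.centralizer ({z} : Set G)).subtype κ) *
          conj (trC (χ : G → ℂ) (gen hP z * push (Subgroup.centralizer ({z} : Set G)).subtype κ')) =
      ∑ ξ : IrrCharacter (Subgroup.centralizer ({z} : Set G)),
        trC (ξ : _ → ℂ) κ * trC (ξ : _ → ℂ) κ' := by
  rw [Finset.sum_congr rfl fun χ _ => by
    rw [trC_section (isClassFunction_character (irr_isCharacter χ.2)) κ,
      trC_section (isClassFunction_character (irr_isCharacter χ.2)) κ', map_sum, Finset.sum_mul_sum]]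
  have hR : ∀ ξ : IrrCharacter (Subgroup.centralizer ({z} : Set G)),
      trC (ξ : _ → ℂ) κ * trC (ξ : _ → ℂ) κ' =
        ∑ c, ∑ d, (avg κ c * (ξ : _ → ℂ) c) * conj (avg κ' d * (ξ : _ → ℂ) d) := by
    intro ξ
    rw [← Finset.sum_mul_sum, ← map_sum, ← trC_eq_avg (isClassFunction_character (irr_isCharacter ξ.2)),
      ← trC_eq_avg (isClassFunction_character (irr_isCharacter ξ.2)),
      conj_trC_char (irr_isCharacter ξ.2) hκ']
  rw [Finset.sum_congr rfl fun ξ _ => hR ξ, Finset.sum_comm]
  conv_rhs => rw [Finset.sum_comm]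
  refine Finset.sum_congr rfl fun c _ => ?_
  rw [Finset.sum_comm]
  conv_rhs => rw [Finset.sum_comm]
  refine Finset.sum_congr rfl fun d _ => ?_
  by_cases hc : p ∣ orderOf c
  · simp [avg_sing hM hκ hc]
  by_cases hd : p ∣ orderOf d
  · simp [avg_sing hM hκ' hd]
  simp only [map_mul]
  rw [Finset.sum_congr rfl fun χ _ => mul_mul_mul_comm _ _ _ _, ← Finset.mul_sum, second_orth]
  conv_rhs => rw [Finset.sum_congr rfl fun ξ _ => mul_mul_mul_comm _ _ _ _, ← Finset.mul_sum, second_orth]
  congr 1
  simp only [isConj_section hM.1 hz c d hc hd]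
  split_ifs with h
  · have hsame : ∀ {K : Type u} [Group K] [Fintype K] (k : K), (Nat.card K : ℂ) / Nat.card {x : K // IsConj k x} =
        (Nat.card (Subgroup.centralizer ({k} : Set K)) : ℂ) := by
      intro K _ _ k
      rw [div_eq_iff (Nat.cast_ne_zero.mpr (card_conjClass_ne_zero k)), ← Nat.cast_mul,
        mul_comm, card_conjClass_mul_centralizer]
    rw [hsame, hsame, card_centralizer_section hM.1 hz d hd]
  · rfl

open scoped Classical in
/-- Sections of non-conjugate elements are orthogonal. -/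
theorem sum_section_ne (hM : IsPModular p M) (hz : ∃ k : ℕ, orderOf z = p ^ k) {z' : G}
    (hz' : ∃ k : ℕ, orderOf z' = p ^ k) (hne : ¬ IsConj z z')
    [Fintype (Subgroup.centralizer ({z} : Set G))] [Fintype (Subgroup.centralizer ({z'} : Set G))]
    {κ : OA hP (Subgroup.centralizer ({z} : Set G))} {κ' : OA hP (Subgroup.centralizer ({z'} : Set G))}
    (hκ : IsIdempotentElem κ) (hκ' : IsIdempotentElem κ') :
    ∑ χ : IrrCharacter G,
        trC (χ : G → ℂ) (gen hP z * push (Subgroup.centralizer ({z} : Set G)).subtype κ) *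
          conj (trC (χ : G → ℂ) (gen hP z' * push (Subgroup.centralizer ({z'} : Set G)).subtype κ')) = 0 := by
  rw [Finset.sum_congr rfl fun χ _ => by
    rw [trC_section (isClassFunction_character (irr_isCharacter χ.2)) κ,
      trC_section (isClassFunction_character (irr_isCharacter χ.2)) κ', map_sum, Finset.sum_mul_sum],
    Finset.sum_comm]
  refine Finset.sum_eq_zero fun c _ => ?_
  rw [Finset.sum_comm]
  refine Finset.sum_eq_zero fun d _ => ?_
  by_cases hc : p ∣ orderOf c
  · simp [avg_sing hM hκ hc]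
  by_cases hd : p ∣ orderOf d
  · simp [avg_sing hM hκ' hd]
  simp only [map_mul]
  rw [Finset.sum_congr rfl fun χ _ => mul_mul_mul_comm _ _ _ _, ← Finset.mul_sum, second_orth]
  rw [if_neg, mul_zero]
  intro hconj
  obtain ⟨g, hg⟩ := isConj_iff.mp hconj
  have h1 := isPPart_mul hz c hc
  have h2 := isPPart_mul hz' d hd
  refine hne (isConj_iff.mpr ⟨g, ?_⟩)
  obtain ⟨w, hw, hcm, ⟨k, hk⟩, hreg⟩ := h1
  have h3 : IsPPart p (z' * (d : G)) (g * z * g⁻¹) := by
    refine ⟨g * w * g⁻¹, ?_, ?_, ⟨k, ?_⟩, ?_⟩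
    · rw [← hg, ← hw]; group
    · have := hcm.map (MulAut.conj g)
      simpa using this
    · rw [← MulAut.conj_apply, MulEquiv.orderOf_eq, hk]
    · rwa [← MulAut.conj_apply, MulEquiv.orderOf_eq]
  have e := (preg_eq hM.1 h2).symm.trans (preg_eq hM.1 h3)
  exact (inv_injective (mul_right_cancel e)).symm

end Sec

open scoped Classical in
/-- The trace of a central `p`-element times an idempotent seen by one block. -/
theorem trC_level (hM : IsPModular p M) {κ : OA hP G} {y : G} (hyc : ∀ g, y * g = g * y)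
    (hy : ∃ k : ℕ, orderOf y = p ^ k) {f : Set (IrrCharacter G)} {m : ℕ}
    (hin : ∀ ξ ∈ f, trC (ξ : G → ℂ) κ = m) (hout : ∀ ξ, ξ ∉ f → trC (ξ : G → ℂ) κ = 0)
    {ψ : G → ℂ} {n : IrrCharacter G → ℕ} (hn : ψ = ∑ η, n η • (η : G → ℂ)) :
    ∃ a : ℂ, IsIntegral ℤ a ∧ trC ψ (gen hP y * κ) = (m : ℂ) * a ∧
      MemLocalIdeal M (a - ((∑ η : IrrCharacter G with η ∈ f, n η : ℕ) : ℂ)) := by
  choose ζ hζ1 hζ using fun η : IrrCharacter G => exists_central_root hyc η
  refine ⟨∑ η : IrrCharacter G with η ∈ f, (n η : ℂ) * ζ η, IsIntegral.sum _ fun η _ =>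
    IsIntegral.mul isIntegral_algebraMap (root_of_unity_isIntegral (orderOf_pos y).ne' (hζ1 η)), ?_, ?_⟩
  · rw [trC_gen_mul, hn, Finset.mul_sum, Finset.sum_filter]
    simp only [Finset.sum_apply, nsmul_eq_mul, Pi.mul_apply, Pi.natCast_apply, Finset.mul_sum, hζ]
    rw [Finset.sum_comm]
    refine Finset.sum_congr rfl fun η _ => ?_
    rw [Finset.sum_congr rfl (g := fun h => ((n η : ℂ) * ζ η) * (co κ h * (η : G → ℂ) h)) fun h _ => by ring,
      ← Finset.mul_sum, show ∑ h, co κ h * (η : G → ℂ) h = trC (η : G → ℂ) κ from rfl]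
    split_ifs with h
    · rw [hin η h]; ring
    · rw [hout η h, mul_zero]
  · rw [Nat.cast_sum, ← Finset.sum_sub_distrib]
    refine memLI_sum hP _ _ fun η _ => ?_
    rw [← mul_sub_one]
    obtain ⟨k, hk⟩ := hy
    exact memLI_mul_left hP (memLR_natCast hP _) (root_congr_one hM (hk ▸ hζ1 η))

end Cfsg.Agent.Char.SectionTrace
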