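import Cfsg.Agent.Lib.Char.DecompLattice
import Cfsg.Agent.Lib.Char.PrincipalBlock
import Cfsg.Agent.Lib.Char.IdemSubgroup
import Cfsg.Agent.Lib.Char.StarValues

/-!
# Characters of a block fixed by a power map, section by section

The number of fixed characters is a sum over the sections; an automorphism permutes the columns of the decomposition
numbers with natural coefficients, so every section gives a natural number and the regular elements give at least
the rank.
-/

set_option autoImplicit false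
set_option linter.unusedSectionVars false
set_option linter.style.haveILetI false

namespace Cfsg.Agent.Char.TwistCount

open Cfsg DecompLattice IdemAlg
open scoped ComplexConjugate

universe u

variable {C : Type u} [Group C] [Fintype C] {M : Ideal AlgInt} {p : ℕ} {hM : IsPModular p M}

theorem gram (D : Data hM C) {β : C → Fin D.m → ℂ}
    (hβ : ∀ x, ¬ p ∣ orderOf x → ∀ χ : IrrCharacter C, (χ : C → ℂ) x = ∑ j, β x j * dec D j χ)
    (i l : Fin D.m) :
    ∑ y : C with ¬ p ∣ orderOf y, β y l *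
      (∑ χ : IrrCharacter C, (dec D i χ : ℂ) * conj ((χ : C → ℂ) y)) =
      if i = l then (Nat.card C : ℂ) else 0 := by
  classical
  set g : Fin D.m → ℂ := fun i => ∑ y : C with ¬ p ∣ orderOf y, β y l *
      (∑ χ : IrrCharacter C, (dec D i χ : ℂ) * conj ((χ : C → ℂ) y)) with hg
  suffices h : (fun j => g j - if j = l then (Nat.card C : ℂ) else 0) = 0 from
    sub_eq_zero.1 (congrFun h i)
  refine funext fun j => brauer_functions_independent D hβ (fun j => g j - if j = l then (Nat.card C : ℂ) else 0) (fun x hx => ?_) j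
  simp only [sub_mul, Finset.sum_sub_distrib, ite_mul, zero_mul, Finset.sum_ite_eq', Finset.mem_univ,
    if_true, sub_eq_zero]
  have hconst : ∀ y : C, IsConj x y → β y l = β x l := fun y hy => by
    have hyr : ¬ p ∣ orderOf y := by
      obtain ⟨c, rfl⟩ := isConj_iff.1 hy
      rwa [← MulAut.conj_apply, MulEquiv.orderOf_eq]
    refine congrFun (brauer_unique D fun χ => ?_) l
    rw [← hβ y hyr χ, ← hβ x hx χ]
    obtain ⟨c, rfl⟩ := isConj_iff.1 hy
    exact isClassFunction_character (irr_isCharacter χ.2) x c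
  calc ∑ j, g j * β x j
      = ∑ y : C with ¬ p ∣ orderOf y, β y l *
          ∑ χ : IrrCharacter C, (χ : C → ℂ) x * conj ((χ : C → ℂ) y) := by
        simp only [hg, Finset.sum_mul, Finset.mul_sum, hβ x hx]
        rw [Finset.sum_comm]
        refine Finset.sum_congr rfl fun y _ => ?_
        rw [Finset.sum_comm]
        exact Finset.sum_congr rfl fun χ _ => Finset.sum_congr rfl fun i _ => by ring
    _ = ∑ y : C with IsConj x y, β x l * ((Nat.card C : ℂ) / Nat.card {z : C // IsConj x z}) := by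
        simp only [second_orth]
        rw [Finset.sum_filter, Finset.sum_filter]
        refine Finset.sum_congr rfl fun y _ => ?_
        by_cases hc : IsConj x y
        · have hyr : ¬ p ∣ orderOf y := by
            obtain ⟨c, rfl⟩ := isConj_iff.1 hc
            rwa [← MulAut.conj_apply, MulEquiv.orderOf_eq]
          have he : Nat.card {z : C // IsConj y z} = Nat.card {z : C // IsConj x z} :=
            Nat.card_congr (Equiv.subtypeEquivRight fun z => ⟨hc.trans, hc.symm.trans⟩)
          rw [if_pos hc, if_pos hyr, if_pos hc, hconst y hc, he]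
        · rw [if_neg hc, mul_zero, ite_self, if_neg hc]
    _ = (Nat.card C : ℂ) * β x l := by
        rw [Finset.sum_const, nsmul_eq_mul, ← Fintype.card_subtype, ← Nat.card_eq_fintype_card]
        haveI : Nonempty {z : C // IsConj x z} := ⟨⟨x, IsConj.refl x⟩⟩
        have h0 : (Nat.card {z : C // IsConj x z} : ℂ) ≠ 0 := Nat.cast_ne_zero.mpr Nat.card_pos.ne'
        field_simp

theorem exists_twist_coeff (D : Data hM C) (α : C ≃* C) : ∃ r : Fin D.m → Fin D.m → ℕ,
    ∀ (ξ : IrrCharacter C) {β : C → Fin D.m → ℂ},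
      (∀ x, ¬ p ∣ orderOf x → ∀ χ : IrrCharacter C, (χ : C → ℂ) x = ∑ j, β x j * dec D j χ) →
      ∀ y, ¬ p ∣ orderOf y →
        (ξ : C → ℂ) (α y) = ∑ i, (∑ l, β y l * (r l i : ℂ)) * dec D i ξ := by
  classical
  refine ⟨fun l i => (D.π (IdemSub.push α.toMonoidHom (D.f l)) i).rank, fun ξ β hβ y hy => ?_⟩
  let ξ' : IrrCharacter C := irrComp α ξ
  have h1 : (ξ' : C → ℂ) y = (ξ : C → ℂ) (α y) := irrComp_apply _ _ _
  have h2 : ∀ l, (dec D l ξ' : ℂ) =
      ∑ i, ((D.π (IdemSub.push α.toMonoidHom (D.f l)) i).rank : ℂ) * dec D i ξ := fun l => by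
    rw [← trC_idem D ((D.hf l).1.map _) ξ, ← dec_spec, IdemSub.trC_push]
    congr 1
  rw [← h1, hβ y hy ξ']
  simp only [h2, Finset.mul_sum, Finset.sum_mul]
  rw [Finset.sum_comm]
  exact Finset.sum_congr rfl fun i _ => Finset.sum_congr rfl fun l _ => by ring

/-- The twisted column products of a block over the regular elements. -/
theorem block_twisted_sum (hM : IsPModular p M) {b : Set (IrrCharacter C)} (hb : IsPBlock M b)
    [DecidablePred (· ∈ b)] (α : C ≃* C) :
    ∃ N : ℕ, ∑ y : C with ¬ p ∣ orderOf y, ∑ ξ : IrrCharacter C with ξ ∈ b,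
      conj ((ξ : C → ℂ) y) * (ξ : C → ℂ) (α y) = (Nat.card C : ℂ) * N := by
  classical
  obtain ⟨D⟩ := exists_data (G := C) hM
  obtain ⟨J, hJ1, hJ2⟩ := exists_block_support D hb
  obtain ⟨β, hβ⟩ := exists_brauer_fun D
  obtain ⟨r, hr⟩ := exists_twist_coeff D α
  refine ⟨∑ i ∈ J, r i i, ?_⟩
  have hval : ∀ y : C, ¬ p ∣ orderOf y →
      ∑ ξ : IrrCharacter C with ξ ∈ b, conj ((ξ : C → ℂ) y) * (ξ : C → ℂ) (α y) =
        ∑ i ∈ J, ∑ l, (r l i : ℂ) * (β y l *
          ∑ ξ : IrrCharacter C, (dec D i ξ : ℂ) * conj ((ξ : C → ℂ) y)) := fun y hy => by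
    have e : ∀ i ∈ J, ∑ ξ : IrrCharacter C, (dec D i ξ : ℂ) * conj ((ξ : C → ℂ) y) =
        ∑ ξ : IrrCharacter C with ξ ∈ b, (dec D i ξ : ℂ) * conj ((ξ : C → ℂ) y) := fun i hi => by
      rw [Finset.sum_filter]
      refine Finset.sum_congr rfl fun ξ _ => ?_
      split_ifs with h
      · rfl
      · rw [hJ1 i hi ξ h]; simp
    rw [Finset.sum_congr rfl fun i hi => Finset.sum_congr rfl fun l _ => by rw [e i hi]]
    simp only [Finset.mul_sum]
    conv_rhs => enter [2, i]; rw [Finset.sum_comm]
    rw [Finset.sum_comm (s := J)]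
    refine Finset.sum_congr rfl fun ξ hξ => ?_
    rw [hr ξ hβ y hy, Finset.mul_sum,
      ← Finset.sum_subset (Finset.subset_univ J) fun i _ hi => by
        rw [hJ2 i hi ξ (Finset.mem_filter.1 hξ).2]; simp]
    refine Finset.sum_congr rfl fun i _ => ?_
    rw [Finset.sum_mul, Finset.mul_sum]
    exact Finset.sum_congr rfl fun l _ => by ring
  rw [Finset.sum_congr rfl fun y hy => hval y (Finset.mem_filter.1 hy).2, Finset.sum_comm, Nat.cast_sum,
    Finset.mul_sum]
  refine Finset.sum_congr rfl fun i _ => ?_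
  rw [Finset.sum_comm, Finset.sum_congr rfl fun l _ => by rw [← Finset.mul_sum, gram D hβ i l]]
  simp only [mul_ite, mul_zero, Finset.sum_ite_eq, Finset.mem_univ, if_true]
  ring

/-- The column products of a block over the regular elements. -/
theorem block_regular_sum (hM : IsPModular p M) {b : Set (IrrCharacter C)} (hb : IsPBlock M b)
    [DecidablePred (· ∈ b)] :
    ∃ N : ℕ, blockRank p b ≤ N ∧ ∑ y : C with ¬ p ∣ orderOf y, ∑ ξ : IrrCharacter C with ξ ∈ b,
      conj ((ξ : C → ℂ) y) * (ξ : C → ℂ) y = (Nat.card C : ℂ) * N := by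
  classical
  obtain ⟨D⟩ := exists_data (G := C) hM
  obtain ⟨J, hJ1, hJ2⟩ := exists_block_support D hb
  obtain ⟨β, hβ⟩ := exists_brauer_fun D
  refine ⟨J.card, DecompLattice.blockRank_le_card D hJ2, ?_⟩
  have hval : ∀ y : C, ¬ p ∣ orderOf y →
      ∑ ξ : IrrCharacter C with ξ ∈ b, conj ((ξ : C → ℂ) y) * (ξ : C → ℂ) y =
        ∑ i ∈ J, β y i * ∑ ξ : IrrCharacter C, (dec D i ξ : ℂ) * conj ((ξ : C → ℂ) y) := fun y hy => by
    simp only [Finset.mul_sum]
    rw [Finset.sum_comm, Finset.sum_filter]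
    refine Finset.sum_congr rfl fun ξ _ => ?_
    split_ifs with h
    · rw [hβ y hy ξ, Finset.mul_sum,
        ← Finset.sum_subset (Finset.subset_univ J) fun i _ hi => by rw [hJ2 i hi ξ h]; simp]
      refine Finset.sum_congr rfl fun i _ => ?_
      rw [← hβ y hy ξ]; ring
    · exact (Finset.sum_eq_zero fun i hi => by rw [hJ1 i hi ξ h]; simp).symm
  rw [Finset.sum_congr rfl fun y hy => hval y (Finset.mem_filter.1 hy).2, Finset.sum_comm,
    Finset.sum_congr rfl fun i _ => by rw [gram D hβ i i, if_pos rfl], Finset.sum_const, nsmul_eq_mul,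
    mul_comm]

open scoped Classical in
/-- Characters of a block take orthogonal values on non-conjugate sections. -/
theorem sum_block_cross (hM : IsPModular p M) {B : Set (IrrCharacter C)} (hB : IsPBlock M B) {x : C}
    (hx : ∃ k : ℕ, orderOf x = p ^ k) (s : Subgroup.centralizer ({x} : Set C)) (hs : ¬ p ∣ orderOf s)
    {h : C} (hne : ¬ IsConj x (ppt p h)) :
    ∑ χ : IrrCharacter C with χ ∈ B, (χ : C → ℂ) (x * (s : C)) * conj ((χ : C → ℂ) h) = 0 := by
  have hP := pmod_prime hM
  haveI := Fintype.ofFinite (Subgroup.centralizer ({x} : Set C))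
  have hc := (intClassFun_classInd (G := C) hP h).1
  have hz : ∀ c : Subgroup.centralizer ({x} : Set C), ¬ p ∣ orderOf c →
      secFun x (classInd h) c = (0 : Subgroup.centralizer ({x} : Set C) → ℂ) c := fun c hcr => by
    rw [secFun, classInd, if_neg, Pi.zero_apply]
    intro hcj
    obtain ⟨t, ht⟩ := isConj_iff.1 hcj
    refine hne (isConj_iff.2 ⟨t, ?_⟩).symm
    rw [← ppt_conj hM.1, ht]
    exact ppt_mul hM.1 (Subgroup.mem_centralizer_singleton_iff.1 c.2).symm hx (by rwa [Subgroup.orderOf_coe])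
  have e := blockPart_section_eq hM hx hB hc s hs
  rw [Finset.sum_eq_zero fun b hb => (blockPart_regular_congr hM (Finset.mem_filter.mp hb).2.1 hz hs).trans
    (by simp [blockPart_eq, classInner])] at e
  simp only [blockPart_eq, classInner_classInd _ (isClassFunction_character (irr_isCharacter (Subtype.prop _))),
    mul_assoc, ← Finset.mul_sum] at e
  have h0 : (Nat.card (Subgroup.centralizer ({h} : Set C)) : ℂ)⁻¹ ≠ 0 :=
    inv_ne_zero (Nat.cast_ne_zero.mpr Nat.card_pos.ne')
  rw [← (mul_eq_zero.1 e).resolve_left h0]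
  exact Finset.sum_congr rfl fun χ _ => mul_comm _ _

open scoped Classical in
/-- At least rank many characters of a block are fixed by a power map trivial on the regular elements. -/
theorem rank_le_fixed {G : Type u} [Group G] [Fintype G] (hM : IsPModular p M) {B : Set (IrrCharacter G)}
    (hB : IsPBlock M B) {k : ℕ} (hk : k.Coprime (Nat.card G))
    (hk1 : ∀ s : G, ¬ p ∣ orderOf s → s ^ k = s) :
    blockRank p B ≤ (Finset.univ.filter fun χ : IrrCharacter G =>
      χ ∈ B ∧ (fun g => (χ : G → ℂ) (g ^ k)) = (χ : G → ℂ)).card := by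
  have hp := hM.1
  set F : G → ℂ := fun g => ∑ χ : IrrCharacter G with χ ∈ B, (χ : G → ℂ) (g ^ k) * conj ((χ : G → ℂ) g)
    with hF
  have hG0 : (Nat.card G : ℂ) ≠ 0 := Nat.cast_ne_zero.mpr Nat.card_pos.ne'
  set Φ := Finset.univ.filter fun χ : IrrCharacter G =>
      χ ∈ B ∧ (fun g => (χ : G → ℂ) (g ^ k)) = (χ : G → ℂ) with hΦ
  have htot : ∑ g : G, F g = (Nat.card G : ℂ) * Φ.card := by
    simp only [hF]
    rw [Finset.sum_comm, hΦ, ← Finset.filter_filter, Finset.card_filter, Nat.cast_sum, Finset.mul_sum]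
    refine Finset.sum_congr rfl fun χ _ => ?_
    have h := irr_orth (isIrrCharacter_pow χ.2 hk) χ.2
    rw [classInner, inv_mul_eq_iff_eq_mul₀ hG0] at h
    rw [h, Nat.cast_ite, Nat.cast_one, Nat.cast_zero]
  have hsec : ∀ u ∈ Star.pels G p, ∃ N : ℕ, ∑ s ∈ Star.regC p u, F (u * s) = N ∧
      (u = 1 → Nat.card G * blockRank p B ≤ N) := by
    intro u hu
    rw [Star.mem_pels] at hu
    by_cases hu1 : u = 1
    · obtain ⟨N, hN, hNs⟩ := block_regular_sum hM hB
      refine ⟨Nat.card G * N, ?_, fun _ => Nat.mul_le_mul_left _ hN⟩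
      subst hu1
      rw [Nat.cast_mul, ← hNs]
      refine Finset.sum_congr (by ext s; simp [Star.mem_regC]) fun s hs => ?_
      have hsr : ¬ p ∣ orderOf s := (Finset.mem_filter.1 hs).2
      simp only [hF, one_mul, hk1 s hsr]
      exact Finset.sum_congr rfl fun χ _ => mul_comm _ _
    have huk : ∃ j : ℕ, orderOf (u ^ k) = p ^ j := by
      obtain ⟨j, hj⟩ := hu
      exact ⟨j, by rw [Nat.Coprime.orderOf_pow ((hk.coprime_dvd_right (orderOf_dvd_natCard u)).symm), hj]⟩
    haveI := Fintype.ofFinite (Subgroup.centralizer ({u} : Set G))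
    haveI := Fintype.ofFinite (Subgroup.centralizer ({u ^ k} : Set G))
    have hsplit : ∀ s ∈ Star.regC p u, (u * s) ^ k = u ^ k * s := fun s hs => by
      rw [(Star.mem_regC.1 hs).1.mul_pow, hk1 s (Star.mem_regC.1 hs).2]
    by_cases hcj : IsConj u (u ^ k)
    swap
    · refine ⟨0, ?_, fun h => absurd h hu1⟩
      rw [Nat.cast_zero]
      refine Finset.sum_eq_zero fun s hs => ?_
      obtain ⟨hcs, hsr⟩ := Star.mem_regC.1 hs
      simp only [hF, hsplit s hs]
      refine sum_block_cross hM hB huk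
        ⟨s, Subgroup.mem_centralizer_singleton_iff.2 (hcs.pow_left k).eq.symm⟩
        (by rwa [Subgroup.orderOf_mk]) (fun h => hcj ?_)
      rw [ppt_mul hp hcs hu hsr] at h
      exact h.symm
    obtain ⟨n, hn⟩ := isConj_iff.1 hcj
    set C₀ := Subgroup.centralizer ({u} : Set G) with hC₀
    have hmem : ∀ y : G, y ∈ C₀ ↔ Commute u y := fun y => by
      rw [hC₀, Subgroup.mem_centralizer_singleton_iff]
      exact ⟨Eq.symm, Eq.symm⟩
    have hpow : ∀ y : G, Commute (u ^ k) y ↔ Commute u y := fun y => by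
      refine ⟨fun h => ?_, fun h => h.pow_left k⟩
      obtain ⟨i, hi⟩ := exists_pow_eq_self_of_coprime (x := u) (n := k)
        (hk.coprime_dvd_right (orderOf_dvd_natCard u))
      rw [← hi]
      exact h.pow_left i
    have hconj : ∀ y : G, y ∈ C₀ ↔ n⁻¹ * y * n ∈ C₀ := fun y => by
      rw [hmem, hmem, ← hpow y, ← hn]
      constructor
      · intro h
        have := h.map (MulAut.conj n⁻¹).toMonoidHom
        simpa [mul_assoc] using this
      · intro h
        have := h.map (MulAut.conj n).toMonoidHom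
        simpa [mul_assoc] using this
    let α : C₀ ≃* C₀ :=
      { toFun := fun y => ⟨n⁻¹ * y * n, (hconj _).1 y.2⟩
        invFun := fun y => ⟨n * y * n⁻¹, (hconj _).2 (by simpa [mul_assoc] using y.2)⟩
        left_inv := fun y => Subtype.ext (by simp [mul_assoc])
        right_inv := fun y => Subtype.ext (by simp [mul_assoc])
        map_mul' := fun a b => Subtype.ext (by simp [mul_assoc]) }
    set S := ((Finset.univ : Finset (IrrCharacter C₀)).image
        (fun ξ : IrrCharacter C₀ => blockOf M (ξ : C₀ → ℂ))).filter (fun b => IsInducedBlock M C₀ b B) with hS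
    have hN : ∀ b ∈ S, ∃ N : ℕ, ∑ y : C₀ with ¬ p ∣ orderOf y, ∑ ξ : IrrCharacter C₀ with ξ ∈ b,
        conj ((ξ : C₀ → ℂ) y) * (ξ : C₀ → ℂ) (α y) = (Nat.card C₀ : ℂ) * N := fun b hb =>
      block_twisted_sum hM (Finset.mem_filter.1 hb).2.1 α
    choose! N hN using hN
    refine ⟨Nat.card C₀ * ∑ b ∈ S, N b, ?_, fun h => absurd h hu1⟩
    calc ∑ s ∈ Star.regC p u, F (u * s)
        = ∑ y : C₀ with ¬ p ∣ orderOf y, F (u * (y : G)) := by
          refine (Finset.sum_bij (fun (y : C₀) _ => (y : G)) (fun y hy => ?_) (fun (a : C₀) _ (b : C₀) _ h => Subtype.ext h)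
            (fun s hs => ?_) fun _ _ => rfl).symm
          · refine Star.mem_regC.2 ⟨(hmem _).1 y.2, ?_⟩
            rw [Subgroup.orderOf_coe]; exact (Finset.mem_filter.1 hy).2
          · obtain ⟨h1, h2⟩ := Star.mem_regC.1 hs
            exact ⟨⟨s, (hmem s).2 h1⟩, by simpa [Subgroup.orderOf_mk] using h2, rfl⟩
      _ = ∑ y : C₀ with ¬ p ∣ orderOf y, ∑ b ∈ S, ∑ ξ : IrrCharacter C₀ with ξ ∈ b,
            conj ((ξ : C₀ → ℂ) y) * (ξ : C₀ → ℂ) (α y) := by
          refine Finset.sum_congr rfl fun y hy => ?_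
          have hy' := (Finset.mem_filter.1 hy).2
          have hay : ¬ p ∣ orderOf (α y) := by rwa [MulEquiv.orderOf_eq]
          rw [← sum_block_section_orth hM hu hB y (α y) hy' hay]
          simp only [hF]
          refine Finset.sum_congr rfl fun χ _ => ?_
          have hy'' : (u * (y : G)) ^ k = n * (u * ((α y : C₀) : G)) * n⁻¹ := by
            rw [hsplit _ (Star.mem_regC.2 ⟨(hmem _).1 y.2, by rwa [Subgroup.orderOf_coe]⟩), ← hn]
            show _ = n * (u * (n⁻¹ * y * n)) * n⁻¹
            group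
          rw [hy'', isClassFunction_character (irr_isCharacter χ.2), mul_comm]
      _ = _ := by
          rw [Finset.sum_comm, Finset.sum_congr rfl hN, ← Finset.mul_sum]
          push_cast
          rfl
  choose! N hN hN1 using hsec
  have h1 : (1 : G) ∈ Star.pels G p := Star.mem_pels.2 ⟨0, by simp⟩
  have hsum : ((Nat.card G * Φ.card : ℕ) : ℂ) = ((∑ u ∈ Star.pels G p, N u : ℕ) : ℂ) := by
    push_cast
    rw [← htot, Star.sum_sections hp F, Finset.sum_congr rfl hN]
  have hle := (hN1 1 h1 rfl).trans (Finset.single_le_sum (fun u _ => Nat.zero_le (N u)) h1)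
  rw [← Nat.cast_inj.1 hsum] at hle
  exact Nat.le_of_mul_le_mul_left hle Nat.card_pos

end Cfsg.Agent.Char.TwistCount
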