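import Cfsg.Agent.Lib.Char.Zeros
import Cfsg.Agent.Lib.Char.Congr
import Cfsg.Agent.Lib.Char.DegreeDvd
import Cfsg.Agent.Lib.Char.Inflate
import Cfsg.Agent.Lib.Char.Linear

/-!
The class number of a group with an abelian normal Sylow subgroup that contains a self-centralizing element.
-/

open scoped ComplexConjugate
open Cfsg

namespace Cfsg.Agent.Char

universe u

variable {G : Type u} [Group G] [Fintype G]

theorem class_number_le_of_self_centralizing (p : ℕ) [Fact p.Prime] (P : Sylow p G)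
    [(P : Subgroup G).Normal] (hab : ∀ a ∈ P, ∀ b ∈ P, a * b = b * a) (g : G) (hg : g ∈ P)
    (hC : Subgroup.centralizer ({g} : Set G) = P) :
    Nat.card (IrrCharacter G) ≤ Nat.card P ∧
      (Nat.card (IrrCharacter G) = Nat.card P → commutator G ≤ P) := by
  classical
  obtain ⟨M, hM⟩ := exists_pModular (p := p) Fact.out
  have hP := pmod_prime hM
  have hord : ∃ j : ℕ, orderOf g = p ^ j := by
    obtain ⟨k, hk⟩ := P.2 ⟨g, hg⟩
    obtain ⟨j, -, hj⟩ := (Nat.dvd_prime_pow Fact.out).1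
      (orderOf_dvd_of_pow_eq_one (x := g) (n := p ^ k) (by simpa [Subtype.ext_iff] using hk))
    exact ⟨j, hj⟩
  have hne : ∀ χ : IrrCharacter G, (χ : G → ℂ) g ≠ 0 := by
    intro χ h0
    have h := char_congr_deg hM (irr_isCharacter χ.2) hord
    rw [h0, zero_sub, char_one_eq_deg (irr_isCharacter χ.2)] at h
    have h2 := memLI_neg hP h
    rw [neg_neg, memLI_natCast_iff hM] at h2
    exact P.not_dvd_index (h2.trans (deg_dvd_index_abelian_normal χ.2 (P : Subgroup G)
      fun a b => Subtype.ext (hab a a.2 b b.2)))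
  set S : Finset G := Finset.univ.filter fun x => Subgroup.zpowers x = Subgroup.zpowers g with hS
  have hstab : ∀ k : ℕ, k.Coprime (Nat.card G) → ∀ x ∈ S, x ^ k ∈ S := by
    intro k hk x hx
    simp only [hS, Finset.mem_filter, Finset.mem_univ, true_and] at hx ⊢
    rw [← hx]
    refine le_antisymm (Subgroup.zpowers_le.2 (pow_mem (Subgroup.mem_zpowers x) k))
      (Subgroup.zpowers_le.2 ?_)
    obtain ⟨m, hm⟩ := exists_pow_eq_self_of_coprime (x := x) (n := k)
      (hk.coprime_dvd_right (orderOf_dvd_natCard x))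
    have h' : (x ^ k) ^ m ∈ Subgroup.zpowers (x ^ k) := pow_mem (Subgroup.mem_zpowers (x ^ k)) m
    rwa [hm] at h'
  have hmemS : ∀ x ∈ S, Subgroup.centralizer ({x} : Set G) = P := by
    intro x hx
    simp only [hS, Finset.mem_filter, Finset.mem_univ, true_and] at hx
    rw [← Subgroup.centralizer_closure, ← Subgroup.zpowers_eq_closure, hx,
      Subgroup.zpowers_eq_closure, Subgroup.centralizer_closure, hC]
  have hneS : ∀ χ : IrrCharacter G, ∀ x ∈ S, (χ : G → ℂ) x ≠ 0 := by
    intro χ x hx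
    simp only [hS, Finset.mem_filter, Finset.mem_univ, true_and] at hx
    intro h0
    obtain ⟨j, hj⟩ := hord
    have hox : ∃ j : ℕ, orderOf x = p ^ j := by
      refine ⟨j, ?_⟩
      rw [← hj, ← Nat.card_zpowers, ← Nat.card_zpowers, hx]
    have h := char_congr_deg hM (irr_isCharacter χ.2) hox
    rw [h0, zero_sub, char_one_eq_deg (irr_isCharacter χ.2)] at h
    have h2 := memLI_neg hP h
    rw [neg_neg, memLI_natCast_iff hM] at h2
    exact P.not_dvd_index (h2.trans (deg_dvd_index_abelian_normal χ.2 (P : Subgroup G)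
      fun a b => Subtype.ext (hab a a.2 b b.2)))
  have hlow : ∀ χ : IrrCharacter G, (S.card : ℝ) ≤ ∑ x ∈ S, ‖(χ : G → ℂ) x‖ ^ 2 := fun χ =>
    card_le_sum_norm_sq (galEquiv_char (irr_isCharacter χ.2)) (char_isIntegral (irr_isCharacter χ.2))
      (char_inv (irr_isCharacter χ.2)) S hstab (hneS χ)
  have hcol : ∀ x ∈ S, ∑ χ : IrrCharacter G, ‖(χ : G → ℂ) x‖ ^ 2 = (Nat.card P : ℝ) := by
    intro x hx
    have h := second_orth x x
    rw [if_pos (IsConj.refl x)] at h
    have hc := card_conjClass_mul_centralizer x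
    rw [hmemS x hx] at hc
    have hz : (Nat.card {y : G // IsConj x y} : ℂ) ≠ 0 := Nat.cast_ne_zero.2 (card_conjClass_ne_zero x)
    apply Complex.ofReal_injective
    push_cast
    rw [Finset.sum_congr rfl fun χ _ => (Complex.mul_conj' _).symm, h, div_eq_iff hz, ← Nat.cast_mul]
    rw [← hc, mul_comm]
  have hScard : (0 : ℝ) < (S.card : ℝ) := by
    exact_mod_cast Finset.card_pos.2 ⟨g, by simp [hS]⟩
  have htot : ∑ χ : IrrCharacter G, ∑ x ∈ S, ‖(χ : G → ℂ) x‖ ^ 2 =
      (S.card : ℝ) * (Nat.card P : ℝ) := by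
    rw [Finset.sum_comm, Finset.sum_congr rfl hcol, Finset.sum_const, nsmul_eq_mul]
  have hk : ∑ _χ : IrrCharacter G, (S.card : ℝ) =
      (Nat.card (IrrCharacter G) : ℝ) * (S.card : ℝ) := by
    rw [Finset.sum_const, Finset.card_univ, nsmul_eq_mul, Nat.card_eq_fintype_card]
  constructor
  · have h := Finset.sum_le_sum (s := (Finset.univ : Finset (IrrCharacter G))) fun χ _ => hlow χ
    rw [htot, hk] at h
    have : (Nat.card (IrrCharacter G) : ℝ) ≤ (Nat.card P : ℝ) := by nlinarith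
    exact_mod_cast this
  · intro heq
    have hex : ∀ χ : IrrCharacter G, ∑ x ∈ S, ‖(χ : G → ℂ) x‖ ^ 2 = (S.card : ℝ) := by
      intro χ
      have hnn : ∀ ψ ∈ (Finset.univ : Finset (IrrCharacter G)),
          0 ≤ (∑ x ∈ S, ‖(ψ : G → ℂ) x‖ ^ 2) - (S.card : ℝ) := fun ψ _ => sub_nonneg.2 (hlow ψ)
      have hz : ∑ ψ : IrrCharacter G, ((∑ x ∈ S, ‖(ψ : G → ℂ) x‖ ^ 2) - (S.card : ℝ)) = 0 := by
        rw [Finset.sum_sub_distrib, htot, hk, heq]
        ring
      exact sub_eq_zero.1 ((Finset.sum_eq_zero_iff_of_nonneg hnn).1 hz χ (Finset.mem_univ χ))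
    have hlin : ∀ φ : IrrCharacter (G ⧸ (P : Subgroup G)), (φ : G ⧸ (P : Subgroup G) → ℂ) 1 = 1 := by
      intro φ
      set χ : IrrCharacter G := ⟨_, isIrr_inflate (P : Subgroup G) φ.2⟩ with hχ
      have hval : ∀ x ∈ S, (χ : G → ℂ) x = (φ : G ⧸ (P : Subgroup G) → ℂ) 1 := by
        intro x hx
        have : x ∈ (P : Subgroup G) := by
          rw [← hmemS x hx]
          exact Subgroup.mem_centralizer_singleton_iff.2 rfl
        show (φ : G ⧸ (P : Subgroup G) → ℂ) _ = _
        exact congrArg _ ((QuotientGroup.eq_one_iff x).2 this)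
      have h := hex χ
      rw [Finset.sum_congr rfl fun x hx => by rw [hval x hx], Finset.sum_const, nsmul_eq_mul,
        char_one_eq_deg (irr_isCharacter φ.2), Complex.norm_natCast] at h
      have h1 : (deg (φ : G ⧸ (P : Subgroup G) → ℂ) : ℝ) ^ 2 = 1 := by
        refine mul_left_cancel₀ hScard.ne' ?_
        rw [h, mul_one]
      have h2 : deg (φ : G ⧸ (P : Subgroup G) → ℂ) ^ 2 = 1 := by exact_mod_cast h1
      rw [char_one_eq_deg (irr_isCharacter φ.2), (pow_eq_one_iff.1 h2).resolve_right two_ne_zero, Nat.cast_one]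
    haveI := Fintype.ofFinite (G ⧸ (P : Subgroup G))
    have hcomm := forall_linear_iff_comm.2 hlin
    refine (Subgroup.Normal.quotient_commutative_iff_commutator_le).1 ⟨⟨?_⟩⟩
    exact hcomm

end Cfsg.Agent.Char
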