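import Mathlib

/-!
# Self-dual irreducible modules of abelian groups over finite fields
-/

set_option autoImplicit false
set_option linter.unusedSectionVars false
set_option linter.style.haveILetI false

namespace Cfsg.Agent.Char.SelfDual

universe u v w

section field

variable {F : Type u} [Field F] [Fintype F] {K : Type v} [Field K] [Algebra F K] [Finite K]
  {H : Type w} [CommGroup H] [Finite H] (ι : H →* K)

/-- An invariant form on the field. -/
def HasForm : Prop :=
  ∃ B : LinearMap.BilinForm F K, B.Nondegenerate ∧ ∀ h : H, ∀ x y : K, B (ι h * x) (ι h * y) = B x y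

theorem finrank_le_of_dvd (hgen : Algebra.adjoin F (Set.range ι) = ⊤) {i : ℕ} (hi : i ≠ 0)
    (hdvd : Nat.card H ∣ Fintype.card F ^ i - 1) : Module.finrank F K ≤ i := by
  classical
  haveI := Fintype.ofFinite K
  let φ := FiniteField.frobeniusAlgHom F K ^ i
  have hφ : ∀ x, φ x = x ^ (Fintype.card F ^ i) := fun x => by
    simp [φ, AlgHom.coe_pow, FiniteField.coe_frobeniusAlgHom, pow_iterate]
  have hfix : φ = AlgHom.id F K := by
    refine AlgHom.ext_of_adjoin_eq_top hgen ?_
    rintro _ ⟨h, rfl⟩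
    have h1 : (ι h) ^ (Fintype.card F ^ i - 1) = 1 := by
      obtain ⟨c, hc⟩ := hdvd
      rw [hc, pow_mul, ← map_pow, pow_card_eq_one', map_one, one_pow]
    show φ (ι h) = ι h
    rw [hφ, ← Nat.sub_add_cancel (Nat.one_le_pow i _ Fintype.card_pos), pow_succ, h1, one_mul]
  by_contra hlt
  push Not at hlt
  have h1 : ∀ x : K, x ^ (Fintype.card F ^ i) = x := fun x => by rw [← hφ, hfix]; rfl
  have h2 : Fintype.card K ≤ Fintype.card F ^ i := by
    have hne : (Polynomial.X ^ (Fintype.card F ^ i) - Polynomial.X : Polynomial K) ≠ 0 :=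
      FiniteField.X_pow_card_sub_X_ne_zero K (Nat.one_lt_pow hi Fintype.one_lt_card)
    have := Polynomial.card_le_degree_of_subset_roots (p := (Polynomial.X ^ (Fintype.card F ^ i) - Polynomial.X : Polynomial K))
      (Z := Finset.univ) fun x _ => by simp [Polynomial.mem_roots', hne, h1 x]
    rwa [FiniteField.X_pow_card_sub_X_natDegree_eq K (Nat.one_lt_pow hi Fintype.one_lt_card)] at this
  rw [Module.card_eq_pow_finrank (K := F) (V := K)] at h2
  exact absurd h2 (not_le.2 (Nat.pow_lt_pow_right Fintype.one_lt_card hlt))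

theorem form_adjoint (hgen : Algebra.adjoin F (Set.range ι) = ⊤) (h : HasForm (F := F) ι) :
    ∃ ψ : K →ₐ[F] K, ∀ x : H, ψ (ι x) = ι x⁻¹ := by
  classical
  obtain ⟨B, hB, hinv⟩ := h
  let S : Subalgebra F K :=
    { carrier := {a | ∃ a', ∀ x y, B (a * x) y = B x (a' * y)}
      one_mem' := ⟨1, fun x y => by simp⟩
      zero_mem' := ⟨0, fun x y => by simp⟩
      add_mem' := fun ⟨a', ha⟩ ⟨b', hb⟩ => ⟨a' + b', fun x y => by
        simp [add_mul, ha, hb]⟩
      mul_mem' := fun {a b} ⟨a', ha⟩ ⟨b', hb⟩ => ⟨b' * a', fun x y => by rw [mul_assoc, ha, hb, mul_assoc]⟩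
      algebraMap_mem' := fun c => ⟨algebraMap F K c, fun x y => by simp [← Algebra.smul_def]⟩ }
  have hinv' : ∀ (g : H) x y, B (ι g * x) y = B x (ι g⁻¹ * y) := fun g x y => by
    conv_lhs => rw [show y = ι g * (ι g⁻¹ * y) by rw [← mul_assoc, ← map_mul, mul_inv_cancel, map_one, one_mul]]
    exact hinv g x _
  have htop : ∀ a : K, ∃ a', ∀ x y, B (a * x) y = B x (a' * y) := fun a => by
    have h1 : Algebra.adjoin F (Set.range ι) ≤ S :=
      Algebra.adjoin_le (by rintro _ ⟨g, rfl⟩; exact ⟨ι g⁻¹, hinv' g⟩)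
    exact h1 (hgen ▸ Algebra.mem_top : a ∈ Algebra.adjoin F (Set.range ι))
  choose ψ hψ using htop
  have uniq : ∀ a b, (∀ x y, B (a * x) y = B x (b * y)) → ψ a = b := fun a b hb => by
    have h1 : ∀ x, B x (ψ a * 1 - b * 1) = 0 := fun x => by rw [map_sub, ← hψ, ← hb, sub_self]
    have h2 := hB.2 _ h1
    rwa [mul_one, mul_one, sub_eq_zero] at h2
  exact ⟨{ toFun := ψ
           map_one' := uniq 1 1 fun x y => by simp
           map_mul' := fun a b => (uniq _ _ fun x y => by rw [mul_assoc, hψ a, hψ b, ← mul_assoc, mul_comm (ψ b)])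
           map_zero' := uniq 0 0 fun x y => by simp
           map_add' := fun a b => uniq _ _ fun x y => by simp [add_mul, hψ]
           commutes' := fun c => uniq _ _ fun x y => by simp [← Algebra.smul_def] },
    fun g => uniq _ _ (hinv' g)⟩

theorem field_core (hι : Function.Injective ι) (hgen : Algebra.adjoin F (Set.range ι) = ⊤) :
    (Module.finrank F K = 1 → HasForm (F := F) ι → Nat.card H ≤ 2) ∧
      (2 ≤ Module.finrank F K → (HasForm (F := F) ι ↔
        (Even (Module.finrank F K) ∧ Nat.card H ∣ Fintype.card F ^ (Module.finrank F K / 2) + 1))) := by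
  classical
  haveI := Fintype.ofFinite K
  haveI := Fintype.ofFinite H
  haveI : IsCyclic H := isCyclic_of_injective_ringHom ι hι
  obtain ⟨g, hg⟩ := IsCyclic.exists_generator (α := H)
  have hog : orderOf g = Nat.card H := orderOf_eq_card_of_forall_mem_zpowers hg
  have hdv : ∀ j, g ^ j = 1 ↔ Nat.card H ∣ j := fun j => by rw [← hog, orderOf_dvd_iff_pow_eq_one]
  -- the automorphism of a form
  have hfrob : HasForm (F := F) ι → ∃ i < Module.finrank F K, Nat.card H ∣ Fintype.card F ^ i + 1 := by
    intro hf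
    obtain ⟨ψ, hψ⟩ := form_adjoint ι hgen hf
    obtain ⟨⟨i, hi⟩, hψi⟩ := (FiniteField.bijective_frobeniusAlgHom_pow F K).2 ψ
    refine ⟨i, hi, (hdv _).1 (hι ?_)⟩
    have h1 : ι g ^ (Fintype.card F ^ i) = ι g⁻¹ := by
      rw [← hψ g, ← hψi]
      simp [AlgHom.coe_pow, FiniteField.coe_frobeniusAlgHom, pow_iterate]
    rw [map_pow, pow_succ, h1, ← map_mul, inv_mul_cancel, map_one]
  refine ⟨fun hn hf => ?_, fun hn => ⟨fun hf => ?_, fun hev => ?_⟩⟩
  · obtain ⟨i, hi, hd⟩ := hfrob hf
    rw [hn, Nat.lt_one_iff] at hi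
    subst hi
    exact Nat.le_of_dvd (by norm_num) (by simpa using hd)
  · obtain ⟨i, hi, hd⟩ := hfrob hf
    set q := Fintype.card F with hq
    set n := Module.finrank F K with hnn
    have hq2 : 1 < q := Fintype.one_lt_card
    have hn1 : Nat.card H ∣ q ^ n - 1 := by
      refine (hdv _).1 (hι ?_)
      rw [map_pow, map_one, ← Module.card_eq_pow_finrank (K := F) (V := K)]
      refine FiniteField.pow_card_sub_one_eq_one _ fun h0 => ?_
      have := congrArg ι (mul_inv_cancel g)
      rw [map_mul, h0, zero_mul, map_one] at this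
      exact zero_ne_one this
    have hi0 : i ≠ 0 := by
      rintro rfl
      have h2 : Nat.card H ∣ 2 := by simpa using hd
      have h1 : Nat.card H ∣ q ^ 1 - 1 := by
        rcases (Nat.dvd_prime Nat.prime_two).1 h2 with e | e
        · rw [e]; exact one_dvd _
        · rw [e, pow_one]
          have he : 2 ∣ q ^ n - 1 := e ▸ hn1
          have hp : q % 2 = 1 := by
            by_contra hc
            have : q % 2 = 0 := by omega
            have h3 : q ^ n % 2 = 0 := by rw [Nat.pow_mod, this, zero_pow (by omega)]; rfl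
            have h4 : 1 ≤ q ^ n := Nat.one_le_pow _ _ (by omega)
            omega
          omega
      have := finrank_le_of_dvd ι hgen one_ne_zero h1
      omega
    have h2i : Nat.card H ∣ q ^ (2 * i) - 1 := by
      refine hd.trans ⟨q ^ i - 1, ?_⟩
      rw [Nat.mul_sub, mul_one, mul_comm 2 i, pow_mul, sq, add_one_mul]
      omega
    have hle : n ≤ 2 * i := finrank_le_of_dvd ι hgen (by omega) h2i
    have he : 2 * i = n := by
      by_contra hne
      have h3 : Nat.card H ∣ q ^ (2 * i - n) - 1 := by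
        have h4 : q ^ (2 * i) - 1 = q ^ (2 * i - n) * (q ^ n - 1) + (q ^ (2 * i - n) - 1) := by
          rw [Nat.mul_sub, mul_one, ← pow_add, Nat.sub_add_cancel hle]
          have a1 : 1 ≤ q ^ (2 * i - n) := Nat.one_le_pow _ _ (by omega)
          have a2 : q ^ (2 * i - n) ≤ q ^ (2 * i) := Nat.pow_le_pow_right (by omega) (by omega)
          omega
        rw [h4] at h2i
        exact (Nat.dvd_add_right (Dvd.dvd.mul_left hn1 _)).1 h2i
      have := finrank_le_of_dvd ι hgen (by omega) h3
      omega
    refine ⟨⟨i, by omega⟩, ?_⟩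
    rwa [show n / 2 = i by omega]
  · obtain ⟨⟨k, hk⟩, hd⟩ := hev
    rw [show Module.finrank F K / 2 = k by omega] at hd
    let σ : K →ₐ[F] K := FiniteField.frobeniusAlgHom F K ^ k
    have hσ : ∀ h : H, ι h * σ (ι h) = 1 := fun h => by
      have h1 : σ (ι h) = ι h ^ (Fintype.card F ^ k) := by
        simp [σ, AlgHom.coe_pow, FiniteField.coe_frobeniusAlgHom, pow_iterate]
      obtain ⟨c, hc⟩ := hd
      rw [h1, ← pow_succ', hc, pow_mul, ← map_pow, pow_card_eq_one', map_one, one_pow]
    have hσb : Function.Bijective σ := Finite.injective_iff_bijective.1 σ.toRingHom.injective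
    obtain ⟨f, hf⟩ : ∃ f : K →ₗ[F] F, f 1 ≠ 0 := by
      by_contra hno
      push Not at hno
      exact one_ne_zero ((Module.forall_dual_apply_eq_zero_iff (R := F) (1 : K)).1 hno)
    refine ⟨((LinearMap.mul F K).compl₂ σ.toLinearMap).compr₂ f, ⟨fun x hx => ?_, fun y hy => ?_⟩, fun h x y => ?_⟩
    · by_contra hx0
      obtain ⟨y, hy⟩ := hσb.2 x⁻¹
      have h2 : f (x * σ y) = 0 := hx y
      rw [hy, mul_inv_cancel₀ hx0] at h2
      exact hf h2
    · by_contra hy0
      have h2 : f ((σ y)⁻¹ * σ y) = 0 := hy (σ y)⁻¹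
      rw [inv_mul_cancel₀ fun e => hy0 (hσb.1 (e.trans (map_zero σ).symm))] at h2
      exact hf h2
    · show f (ι h * x * σ (ι h * y)) = f (x * σ y)
      rw [map_mul σ, mul_mul_mul_comm, hσ, one_mul]

end field

/-- Self-dual faithful irreducible modules of a commutative group. -/
theorem abelian_core {F : Type u} [Field F] [Fintype F] {H : Type w} [CommGroup H] [Finite H] {V : Type v}
    [AddCommGroup V] [Module F V] [FiniteDimensional F V] (ρ : Representation F H V)
    (hfaith : Function.Injective ρ)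
    (hirr : ∀ U : Submodule F V, (∀ h : H, ∀ u ∈ U, ρ h u ∈ U) → U = ⊥ ∨ U = ⊤) :
    (Module.finrank F V = 1 → (∃ B : LinearMap.BilinForm F V, B.Nondegenerate ∧
      ∀ h : H, ∀ x y : V, B (ρ h x) (ρ h y) = B x y) → Nat.card H ≤ 2) ∧
    (2 ≤ Module.finrank F V → ((∃ B : LinearMap.BilinForm F V, B.Nondegenerate ∧
      ∀ h : H, ∀ x y : V, B (ρ h x) (ρ h y) = B x y) ↔
        (Even (Module.finrank F V) ∧ Nat.card H ∣ Fintype.card F ^ (Module.finrank F V / 2) + 1))) := by
  classical
  rcases subsingleton_or_nontrivial V with hV | hV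
  · have h0 : Module.finrank F V = 0 := Module.finrank_zero_of_subsingleton
    exact ⟨fun h => absurd h (by omega), fun h => absurd h (by omega)⟩
  have hcomm : ∀ a ∈ Set.range ρ, ∀ b ∈ Set.range ρ, a * b = b * a := by
    rintro _ ⟨a, rfl⟩ _ ⟨b, rfl⟩
    rw [← map_mul, ← map_mul, mul_comm]
  let A := Algebra.adjoin F (Set.range ρ)
  letI : CommRing A := Algebra.adjoinCommRingOfComm F hcomm
  have hrho : ∀ h, ρ h ∈ A := fun h => Algebra.subset_adjoin ⟨h, rfl⟩
  have hinj : ∀ a : A, a ≠ 0 → Function.Injective (a : Module.End F V) := by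
    intro a ha
    rcases hirr (LinearMap.ker (a : Module.End F V)) (fun h u hu => by
      have h1 := congrArg (fun m : A => (m : Module.End F V) u) (mul_comm a ⟨ρ h, hrho h⟩)
      simp only [Subalgebra.coe_mul, Module.End.mul_apply] at h1
      rw [LinearMap.mem_ker] at hu ⊢
      rw [h1, hu, map_zero]) with h | h
    · exact LinearMap.ker_eq_bot.1 h
    · exact absurd (Subtype.ext (LinearMap.ker_eq_top.1 h)) ha
  haveI : Nontrivial A := ⟨⟨0, 1, fun e => by
    obtain ⟨v, hv⟩ := exists_ne (0 : V)
    exact hv (LinearMap.congr_fun (congrArg Subtype.val e) v).symm⟩⟩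
  haveI : NoZeroDivisors A := ⟨fun {a b} hab => by
    by_contra hc
    push Not at hc
    refine hc.2 (Subtype.ext (LinearMap.ext fun v => hinj a hc.1 ?_))
    have h1 := LinearMap.congr_fun (congrArg Subtype.val hab) v
    exact h1.trans (map_zero _).symm⟩
  haveI : IsDomain A := NoZeroDivisors.to_isDomain A
  haveI : Finite V := Module.finite_of_finite F
  haveI : Finite (Module.End F V) := Finite.of_injective (fun f : Module.End F V => (f : V → V)) DFunLike.coe_injective
  letI : Field A := (Finite.isField_of_domain A).toField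
  obtain ⟨v₀, hv₀⟩ := exists_ne (0 : V)
  let ev : A →ₗ[F] V := (LinearMap.applyₗ v₀).comp A.val.toLinearMap
  have hev : ∀ a : A, ev a = (a : Module.End F V) v₀ := fun a => rfl
  have hevi : Function.Injective ev := by
    rw [← LinearMap.ker_eq_bot, LinearMap.ker_eq_bot']
    intro a ha
    by_contra h0
    exact hv₀ (hinj a h0 (ha.trans (map_zero _).symm))
  have hevs : Function.Surjective ev := by
    rw [← LinearMap.range_eq_top]
    refine (hirr _ fun h u hu => ?_).resolve_left fun hb => hv₀ ?_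
    · obtain ⟨a, rfl⟩ := hu
      exact ⟨⟨ρ h, hrho h⟩ * a, rfl⟩
    · have h1 : v₀ ∈ LinearMap.range ev := ⟨1, rfl⟩
      rwa [hb, Submodule.mem_bot] at h1
  let e : A ≃ₗ[F] V := LinearEquiv.ofBijective ev ⟨hevi, hevs⟩
  let ι : H →* A :=
    { toFun := fun h => ⟨ρ h, hrho h⟩
      map_one' := Subtype.ext (map_one ρ)
      map_mul' := fun a b => Subtype.ext (map_mul ρ a b) }
  have hι : Function.Injective ι := fun a b h => hfaith (congrArg Subtype.val h)
  have hgen : Algebra.adjoin F (Set.range ι) = ⊤ := by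
    apply Subalgebra.map_injective (f := A.val) Subtype.val_injective
    rw [AlgHom.map_adjoin, Algebra.map_top, Subalgebra.range_val, ← Set.range_comp]
    rfl
  have hmul : ∀ (h : H) (a : A), e (ι h * a) = ρ h (e a) := fun h a => rfl
  have hform : (∃ B : LinearMap.BilinForm F V, B.Nondegenerate ∧
      ∀ h : H, ∀ x y : V, B (ρ h x) (ρ h y) = B x y) ↔ HasForm (F := F) ι := by
    constructor
    · rintro ⟨B, hB, hinv⟩
      refine ⟨B.compl₁₂ e.toLinearMap e.toLinearMap, ⟨fun x hx => e.injective ?_, fun y hy => e.injective ?_⟩,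
        fun h x y => ?_⟩
      · rw [map_zero]
        refine hB.1 _ fun v => ?_
        obtain ⟨w, rfl⟩ := e.surjective v
        exact hx w
      · rw [map_zero]
        refine hB.2 _ fun v => ?_
        obtain ⟨w, rfl⟩ := e.surjective v
        exact hy w
      · show B (e (ι h * x)) (e (ι h * y)) = B (e x) (e y)
        rw [hmul, hmul, hinv]
    · rintro ⟨B, hB, hinv⟩
      refine ⟨B.compl₁₂ e.symm.toLinearMap e.symm.toLinearMap,
        ⟨fun x hx => e.symm.injective ?_, fun y hy => e.symm.injective ?_⟩, fun h x y => ?_⟩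
      · rw [map_zero]
        refine hB.1 _ fun v => ?_
        obtain ⟨w, rfl⟩ := e.symm.surjective v
        exact hx w
      · rw [map_zero]
        refine hB.2 _ fun v => ?_
        obtain ⟨w, rfl⟩ := e.symm.surjective v
        exact hy w
      · have h1 : ∀ z, e.symm (ρ h z) = ι h * e.symm z := fun z =>
          e.injective (by rw [hmul, e.apply_symm_apply, e.apply_symm_apply])
        show B (e.symm (ρ h x)) (e.symm (ρ h y)) = B (e.symm x) (e.symm y)
        rw [h1, h1, hinv]
  rw [hform, ← e.finrank_eq]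
  exact field_core ι hι hgen

end Cfsg.Agent.Char.SelfDual
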