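import Cfsg.Agent.Lib.Char.Convolution
import Cfsg.Agent.Lib.Char.IndValue
import Cfsg.Agent.Lib.Char.Rational
import Cfsg.Prelude.Def_OddOrderLocal

/-!
Characters constant on a central subgroup of a TI Sylow subgroup.
-/

set_option linter.unusedSectionVars false
set_option linter.style.haveILetI false

open scoped ComplexConjugate
open Cfsg

namespace Cfsg.Agent.Char

universe u

variable {G : Type u} [Group G] [Fintype G]

/-- A sum over a set with a free action of `P` of an invariant function. -/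
theorem free_sum_eq_card_mul {X : Type*} [Fintype X] {P : Type*} [Group P] [Fintype P]
    [MulAction P X] (s : Finset X) (hs : ∀ (u : P) (x : X), x ∈ s → u • x ∈ s)
    (hfree : ∀ (u : P) (x : X), x ∈ s → u • x = x → u = 1) (f : X → ℂ)
    (hf : ∀ (u : P) (x : X), f (u • x) = f x) (hint : ∀ x, IsIntegral ℤ (f x)) :
    ∃ I : ℂ, IsIntegral ℤ I ∧ ∑ x ∈ s, f x = (Nat.card P : ℂ) * I := by
  classical
  induction s using Finset.strongInduction with
  | _ s ih =>
    rcases s.eq_empty_or_nonempty with rfl | ⟨x, hx⟩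
    · exact ⟨0, isIntegral_zero, by simp⟩
    set O : Finset X := Finset.univ.image fun u : P => u • x with hO
    have hOs : O ⊆ s := fun y hy => by
      obtain ⟨u, -, rfl⟩ := Finset.mem_image.1 hy
      exact hs u x hx
    have hinj : Function.Injective fun u : P => u • x := fun u w h => by
      have h1 : (w⁻¹ * u) • x = x := by
        rw [mul_smul, show u • x = w • x from h, inv_smul_smul]
      exact (inv_mul_eq_one.1 (hfree _ x hx h1)).symm
    have hsum : ∑ y ∈ O, f y = (Nat.card P : ℂ) * f x := by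
      rw [hO, Finset.sum_image (fun a _ b _ h => hinj h), Finset.sum_congr rfl fun u _ => hf u x,
        Finset.sum_const, Finset.card_univ, nsmul_eq_mul, Nat.card_eq_fintype_card]
    have hxO : x ∈ O := Finset.mem_image.2 ⟨1, Finset.mem_univ _, one_smul P x⟩
    obtain ⟨I, hI, hIs⟩ := ih (s \ O) (Finset.sdiff_ssubset hOs ⟨x, hxO⟩)
      (fun u y hy => by
        rw [Finset.mem_sdiff] at hy ⊢
        refine ⟨hs u y hy.1, fun h => hy.2 ?_⟩
        obtain ⟨w, -, hw⟩ := Finset.mem_image.1 h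
        refine Finset.mem_image.2 ⟨u⁻¹ * w, Finset.mem_univ _, ?_⟩
        rw [mul_smul, show w • x = u • y from hw, inv_smul_smul])
      (fun u y hy => hfree u y (Finset.mem_sdiff.1 hy).1)
    refine ⟨I + f x, hI.add (hint x), ?_⟩
    rw [← Finset.sum_sdiff hOs, hIs, hsum]
    ring

/-- The product of two classes, seen by an irreducible character. -/
theorem sum_class_pairs {ψ : G → ℂ} (hψ : IsIrrCharacter G ψ) (z w : G)
    [DecidablePred (IsConj z)] [DecidablePred (IsConj w)] :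
    ψ 1 * ∑ x : G with IsConj z x, ∑ y : G with IsConj w y, ψ (x * y) =
      (Nat.card {x : G // IsConj z x} : ℂ) * (Nat.card {y : G // IsConj w y} : ℂ) * (ψ z * ψ w) := by
  classical
  have hcl := isClassFunction_character (irr_isCharacter hψ)
  have hconj : ∀ {a b : G}, IsConj a b → ψ b = ψ a := fun {a b} h => by
    obtain ⟨c, rfl⟩ := isConj_iff.1 h
    exact hcl a c
  have key : ∀ x : G, ψ 1 * ∑ y : G with IsConj w y, ψ (x * y) =
      (Nat.card {y : G // IsConj w y} : ℂ) * (ψ x * ψ w) := by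
    intro x
    have h := sum_conj_mul hψ x w
    have e : ∑ t : G, ψ (x * (t * w * t⁻¹)) =
        (Nat.card (Subgroup.centralizer ({w} : Set G)) : ℂ) * ∑ y : G with IsConj w y, ψ (x * y) := by
      rw [← sum_conj_eq w (fun y => ψ (x * y))]
      exact Fintype.sum_equiv (Equiv.inv G) _ _ fun t => by simp [mul_assoc]
    rw [e] at h
    have hc : (Nat.card (Subgroup.centralizer ({w} : Set G)) : ℂ) ≠ 0 :=
      Nat.cast_ne_zero.2 Nat.card_pos.ne'
    have hG : (Nat.card G : ℂ) = (Nat.card {y : G // IsConj w y} : ℂ) *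
        (Nat.card (Subgroup.centralizer ({w} : Set G)) : ℂ) := by
      rw [← Nat.cast_mul, card_conjClass_mul_centralizer]
    rw [hG] at h
    refine mul_left_cancel₀ hc ?_
    linear_combination h
  rw [Finset.mul_sum, Finset.sum_congr rfl fun x hx => by
    rw [key x, hconj (Finset.mem_filter.1 hx).2], Finset.sum_const, nsmul_eq_mul,
    Nat.card_eq_fintype_card (α := {x : G // IsConj z x}), Fintype.card_subtype]
  ring

theorem ti_congruence (p : ℕ) [Fact p.Prime] (P : Sylow p G)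
    (hTI : IsTISubset ((P : Subgroup G) : Set G))
    (hodd : Odd (Nat.card (Subgroup.normalizer ((P : Subgroup G) : Set G)))) (Z : Subgroup G)
    (hZP : Z ≤ P) (hZn : ∀ x ∈ Subgroup.normalizer ((P : Subgroup G) : Set G), ∀ z ∈ Z, x * z * x⁻¹ ∈ Z)
    (hZc : ∀ z ∈ Z, ∀ y ∈ (P : Subgroup G), z * y = y * z)
    (ψ : G → ℂ) (hψ : IsIrrCharacter G ψ)
    (hconst : ∀ z ∈ Z, ∀ z' ∈ Z, z ≠ 1 → z' ≠ 1 → ψ z = ψ z') (z : G) (hz : z ∈ Z) (hz1 : z ≠ 1) :
    ∃ n d : ℤ, ψ z = n ∧ ψ 1 = d ∧ (Nat.card (P : Subgroup G) : ℤ) ∣ d - n := by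
  classical
  haveI := Fintype.ofFinite (P : Subgroup G)
  set N := Subgroup.normalizer ((P : Subgroup G) : Set G) with hN
  haveI := Fintype.ofFinite N
  have hPN : (P : Subgroup G) ≤ N := Subgroup.le_normalizer
  have hcl := isClassFunction_character (irr_isCharacter hψ)
  obtain ⟨d, hd⟩ := charOne_eq_natCast (irr_isCharacter hψ)
  -- rationality
  obtain ⟨n, hn⟩ : ∃ n : ℤ, ψ z = n := by
    obtain ⟨hm, hφ⟩ := galEquiv_char (irr_isCharacter hψ) z
    obtain ⟨q, hq⟩ := exists_rat_of_fixed (Nat.card_pos (α := G)).ne' hm fun φ => by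
      obtain ⟨k, hk, hμ⟩ := exists_power_of_embedding (Nat.card_pos (α := G)).ne' φ
      rw [hφ φ k hk hμ]
      refine (hconst z hz (z ^ k) (pow_mem hz k) hz1 fun h => hz1 ?_).symm
      obtain ⟨m, hm'⟩ := exists_pow_eq_self_of_coprime (x := z) (n := k)
        (hk.coprime_dvd_right (orderOf_dvd_natCard z))
      rw [← hm', h, one_pow]
    obtain ⟨w, hw⟩ := isIntegral_rat_cast_imp (hq ▸ char_isIntegral (irr_isCharacter hψ) z)
    exact ⟨w, by rw [hq, ← hw]; norm_cast⟩
  have hval : ∀ w ∈ Z, w ≠ 1 → ψ w = n := fun w hw hw1 => (hconst w hw z hz hw1 hz1).trans hn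
  refine ⟨n, d, hn, by rw [hd, Int.cast_natCast], ?_⟩
  -- local facts
  have hcent : ∀ u ∈ (P : Subgroup G), u ≠ 1 → ∀ x : G, x * u = u * x → x ∈ N := fun u hu hu1 x hx => by
    by_contra hxN
    exact hu1 (hTI x hxN u hu (by rw [hx, mul_inv_cancel_right]; exact hu))
  have hpel : ∀ x ∈ N, (∃ j : ℕ, orderOf x = p ^ j) → x ∈ (P : Subgroup G) := by
    intro x hxN ⟨j, hj⟩
    have hx : IsPGroup p (Subgroup.zpowers (⟨x, hxN⟩ : N)) :=
      IsPGroup.of_card (n := j) (by rw [Nat.card_zpowers, Subgroup.orderOf_mk, hj])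
    obtain ⟨R, hR⟩ := hx.exists_le_sylow
    haveI : (P.subtype hPN : Subgroup N).Normal := by
      rw [Sylow.coe_subtype]; exact Subgroup.normal_in_normalizer
    haveI := Sylow.unique_of_normal (P.subtype hPN) ‹_›
    have h := hR (Subgroup.mem_zpowers _)
    rw [Subsingleton.elim R (P.subtype hPN), Sylow.coe_subtype] at h
    exact h
  have hinZ : ∀ w ∈ Z, w ≠ 1 → ∀ x : G, IsConj w x → ∀ u ∈ (P : Subgroup G), u ≠ 1 →
      x * u = u * x → x ∈ Z := by
    intro w hw hw1 x hx u hu hu1 hxu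
    obtain ⟨c, rfl⟩ := isConj_iff.1 hx
    have hxN := hcent u hu hu1 _ hxu
    have hord : ∃ j : ℕ, orderOf (c * w * c⁻¹) = p ^ j := by
      obtain ⟨j, hj⟩ := IsPGroup.iff_orderOf.1 P.2 ⟨w, hZP hw⟩
      rw [Subgroup.orderOf_mk] at hj
      refine ⟨j, ?_⟩
      rw [← hj]
      exact orderOf_injective (MulAut.conj c).toMonoidHom (MulAut.conj c).injective w
    have hxP := hpel _ hxN hord
    have hcN : c ∈ N := by
      by_contra hc
      exact hw1 (hTI c hc w (hZP hw) hxP)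
    exact hZn c hcN w hw
  -- the orbit of `z` inside `Z`
  set T : Finset G := Finset.univ.filter fun x => IsConj z x ∧ x ∈ Z with hT
  have hTmem : ∀ {x : G}, x ∈ T ↔ IsConj z x ∧ x ∈ Z := fun {x} => by simp [hT]
  have hzN : z ∈ N := hPN (hZP hz)
  have hTN : ∀ x, x ∈ T ↔ ∃ g ∈ N, g * z * g⁻¹ = x := by
    intro x
    rw [hTmem]
    constructor
    · rintro ⟨hc, hxZ⟩
      obtain ⟨c, rfl⟩ := isConj_iff.1 hc
      refine ⟨c, ?_, rfl⟩
      by_contra hcN
      exact hz1 (hTI c hcN z (hZP hz) (hZP hxZ))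
    · rintro ⟨g, hg, rfl⟩
      exact ⟨isConj_iff.2 ⟨g, rfl⟩, hZn g hg z hz⟩
  have hTcard : T.card * Nat.card (Subgroup.centralizer ({(⟨z, hzN⟩ : N)} : Set N)) = Nat.card N := by
    have e : Nat.card {y : N // IsConj (⟨z, hzN⟩ : N) y} = T.card := by
      rw [Nat.card_eq_fintype_card, Fintype.card_subtype]
      refine Finset.card_bij (fun y _ => (y : G)) (fun y hy => ?_) (fun a _ b _ h => Subtype.ext h)
        (fun x hx => ?_)
      · obtain ⟨g, hg⟩ := isConj_iff.1 (Finset.mem_filter.1 hy).2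
        exact (hTN _).2 ⟨g, g.2, by rw [← hg]; rfl⟩
      · obtain ⟨g, hg, rfl⟩ := (hTN x).1 hx
        exact ⟨(⟨g, hg⟩ : N) * ⟨z, hzN⟩ * (⟨g, hg⟩ : N)⁻¹,
          Finset.mem_filter.2 ⟨Finset.mem_univ _, isConj_iff.2 ⟨⟨g, hg⟩, rfl⟩⟩, rfl⟩
    rw [← e]
    exact card_conjClass_mul_centralizer (⟨z, hzN⟩ : N)
  have hTcop : Nat.Coprime (Nat.card (P : Subgroup G)) T.card := by
    have hle : (P : Subgroup G).subgroupOf N ≤ Subgroup.centralizer ({(⟨z, hzN⟩ : N)} : Set N) :=
      fun y hy => Subgroup.mem_centralizer_singleton_iff.2 (Subtype.ext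
        (hZc z hz _ (Subgroup.mem_subgroupOf.1 hy)).symm)
    obtain ⟨c, hc⟩ := Subgroup.card_dvd_of_le hle
    have h1 : T.card * c = ((P : Subgroup G).subgroupOf N).index := by
      refine Nat.eq_of_mul_eq_mul_left (Nat.card_pos (α := (P : Subgroup G).subgroupOf N)) ?_
      rw [Subgroup.card_mul_index, ← hTcard, hc]; ring
    have h2 : ¬ p ∣ ((P : Subgroup G).subgroupOf N).index := fun h =>
      P.not_dvd_index (h.trans (Subgroup.relIndex_dvd_index_of_le hPN))
    obtain ⟨j, hj⟩ := P.2.exists_card_eq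
    rw [hj]
    exact Nat.Coprime.pow_left _ ((Fact.out : p.Prime).coprime_iff_not_dvd.2
      fun h => h2 (h1 ▸ h.mul_right c))
  have hNinv : ∀ g ∈ N, g * z * g⁻¹ ≠ z⁻¹ := by
    intro g hg h
    have h2 : Commute (g ^ 2) z := by
      show g ^ 2 * z = z * g ^ 2
      have e : g ^ 2 * z * (g ^ 2)⁻¹ = z := by
        calc g ^ 2 * z * (g ^ 2)⁻¹ = g * (g * z * g⁻¹) * g⁻¹ := by rw [pow_two]; group
          _ = g * z⁻¹ * g⁻¹ := by rw [h]
          _ = (g * z * g⁻¹)⁻¹ := by group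
          _ = z := by rw [h, inv_inv]
      exact mul_inv_eq_iff_eq_mul.1 e
    have ho : Odd (orderOf g) := hodd.of_dvd_nat (Subgroup.orderOf_dvd_natCard N hg)
    obtain ⟨m, hm⟩ := exists_pow_eq_self_of_coprime (x := g) (n := 2) ho.coprime_two_left
    have hgz : Commute g z := hm ▸ h2.pow_left m
    rw [hgz.eq, mul_inv_cancel_right] at h
    have hz2 : z ^ 2 = 1 := by rw [pow_two]; exact mul_eq_one_iff_eq_inv.2 h
    have ho' : Odd (orderOf z) := hodd.of_dvd_nat (Subgroup.orderOf_dvd_natCard N hzN)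
    obtain ⟨k, hk⟩ := exists_pow_eq_self_of_coprime (x := z) (n := 2) ho'.coprime_two_left
    exact hz1 (by rw [← hk, hz2, one_pow])
  -- free pairs
  letI act : MulAction (P : Subgroup G) (G × G) :=
    { smul := fun u q => ((u : G) * q.1 * (u : G)⁻¹, (u : G) * q.2 * (u : G)⁻¹)
      one_smul := fun q => by
        show ((1 : G) * q.1 * (1 : G)⁻¹, (1 : G) * q.2 * (1 : G)⁻¹) = q
        simp
      mul_smul := fun a b q => by
        show ((↑(a * b) : G) * q.1 * (↑(a * b) : G)⁻¹, (↑(a * b) : G) * q.2 * (↑(a * b) : G)⁻¹) = _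
        push_cast
        refine Prod.ext ?_ ?_
        · show _ = (a : G) * ((b : G) * q.1 * (b : G)⁻¹) * (a : G)⁻¹
          group
        · show _ = (a : G) * ((b : G) * q.2 * (b : G)⁻¹) * (a : G)⁻¹
          group }
  have pairs : ∀ w : G, w ∈ Z → w ≠ 1 → ∃ I : ℂ, IsIntegral ℤ I ∧
      ∑ x : G with IsConj z x, ∑ y : G with IsConj w y, ψ (x * y) =
        (Nat.card (P : Subgroup G) : ℂ) * I +
          ∑ x ∈ T, ∑ y ∈ Finset.univ.filter (fun y => IsConj w y ∧ y ∈ Z), ψ (x * y) := by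
    intro w hw hw1
    set A : Finset (G × G) :=
      (Finset.univ.filter fun x => IsConj z x) ×ˢ (Finset.univ.filter fun y => IsConj w y) with hA
    set B : Finset (G × G) := T ×ˢ (Finset.univ.filter fun y => IsConj w y ∧ y ∈ Z) with hB
    have hBA : B ⊆ A := Finset.product_subset_product
      (fun x hx => Finset.mem_filter.2 ⟨Finset.mem_univ x, (hTmem.1 hx).1⟩)
      (fun y hy => Finset.mem_filter.2 ⟨Finset.mem_univ y, (Finset.mem_filter.1 hy).2.1⟩)
    obtain ⟨I, hI, hIs⟩ := free_sum_eq_card_mul (X := G × G) (P := (P : Subgroup G)) (A \ B)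
      (fun u q hq => by
        show ((u : G) * q.1 * (u : G)⁻¹, (u : G) * q.2 * (u : G)⁻¹) ∈ A \ B
        simp only [hA, hB, hT, Finset.mem_sdiff, Finset.mem_product, Finset.mem_filter, Finset.mem_univ,
          true_and] at hq ⊢
        have hZi : ∀ a : G, (u : G) * a * (u : G)⁻¹ ∈ Z → a ∈ Z := fun a ha => by
          have h := hZn (u : G)⁻¹ (inv_mem (hPN u.2)) _ ha
          rwa [inv_inv, ← mul_assoc, ← mul_assoc, inv_mul_cancel, one_mul, inv_mul_cancel_right] at h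
        refine ⟨⟨hq.1.1.trans (isConj_iff.2 ⟨u, rfl⟩), hq.1.2.trans (isConj_iff.2 ⟨u, rfl⟩)⟩,
          fun h => hq.2 ⟨⟨hq.1.1, hZi _ h.1.2⟩, hq.1.2, hZi _ h.2.2⟩⟩)
      (fun u q hq hfix => by
        by_contra hu
        have hu' : (u : G) ≠ 1 := fun e => hu (Subtype.ext e)
        simp only [hA, hB, hT, Finset.mem_sdiff, Finset.mem_product, Finset.mem_filter, Finset.mem_univ,
          true_and] at hq
        have h1 : (u : G) * q.1 * (u : G)⁻¹ = q.1 := congrArg Prod.fst hfix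
        have h2 : (u : G) * q.2 * (u : G)⁻¹ = q.2 := congrArg Prod.snd hfix
        exact hq.2 ⟨⟨hq.1.1, hinZ z hz hz1 _ hq.1.1 u u.2 hu' (mul_inv_eq_iff_eq_mul.1 h1).symm⟩,
          hq.1.2, hinZ w hw hw1 _ hq.1.2 u u.2 hu' (mul_inv_eq_iff_eq_mul.1 h2).symm⟩)
      (fun q => ψ (q.1 * q.2))
      (fun u q => by
        show ψ ((u : G) * q.1 * (u : G)⁻¹ * ((u : G) * q.2 * (u : G)⁻¹)) = _
        rw [← hcl (q.1 * q.2) (u : G)]
        congr 1
        group)
      (fun q => char_isIntegral (irr_isCharacter hψ) _)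
    refine ⟨I, hI, ?_⟩
    rw [← hIs, ← Finset.sum_product' (f := fun x y => ψ (x * y)),
      ← Finset.sum_product' (f := fun x y => ψ (x * y)), ← hA, ← hB, Finset.sum_sdiff hBA]
  -- the two class products agree
  have hval2 : ψ z⁻¹ = ψ z := (hconst z⁻¹ (inv_mem hz) z hz (inv_ne_one.2 hz1) hz1)
  have hclcard : Nat.card {y : G // IsConj z⁻¹ y} = Nat.card {y : G // IsConj z y} :=
    Nat.card_congr ((Equiv.inv G).subtypeEquiv fun y => by
      rw [Equiv.inv_apply, isConj_iff, isConj_iff]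
      refine exists_congr fun c => ?_
      rw [← inv_inj, mul_inv_rev, mul_inv_rev, inv_inv, inv_inv, mul_assoc])
  have hkey : ∑ x : G with IsConj z x, ∑ y : G with IsConj z y, ψ (x * y) =
      ∑ x : G with IsConj z x, ∑ y : G with IsConj z⁻¹ y, ψ (x * y) := by
    refine mul_left_cancel₀ (irr_one_ne_zero hψ) ?_
    rw [sum_class_pairs hψ z z, sum_class_pairs hψ z z⁻¹, hclcard, hval2]
  obtain ⟨I, hI, eI⟩ := pairs z hz hz1
  obtain ⟨J, hJ, eJ⟩ := pairs z⁻¹ (inv_mem hz) (inv_ne_one.2 hz1)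
  rw [eI, eJ] at hkey
  have hT' : (Finset.univ.filter fun y => IsConj z⁻¹ y ∧ y ∈ Z) = T.image (·⁻¹) := by
    ext y
    simp only [Finset.mem_filter, Finset.mem_univ, true_and, Finset.mem_image, hTmem]
    constructor
    · rintro ⟨h1, h2⟩
      obtain ⟨c, rfl⟩ := isConj_iff.1 h1
      exact ⟨c * z * c⁻¹, ⟨isConj_iff.2 ⟨c, rfl⟩, by
        have := inv_mem h2
        simpa [mul_assoc] using this⟩, by group⟩
    · rintro ⟨x, ⟨h1, h2⟩, rfl⟩
      obtain ⟨c, rfl⟩ := isConj_iff.1 h1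
      exact ⟨isConj_iff.2 ⟨c, by group⟩, inv_mem h2⟩
  have hne : ∀ x ∈ T, ∀ y ∈ T, x * y ≠ 1 := by
    intro x hx y hy h
    obtain ⟨g, hg, rfl⟩ := (hTN x).1 hx
    obtain ⟨g', hg', rfl⟩ := (hTN y).1 hy
    refine hNinv (g⁻¹ * g') (mul_mem (inv_mem hg) hg') ?_
    rw [eq_inv_iff_mul_eq_one]
    have e := congrArg (fun t => g⁻¹ * t * g) (mul_eq_one_comm.1 h)
    simpa [mul_assoc] using e
  have hplus : ∑ x ∈ T, ∑ y ∈ T, ψ (x * y) = (T.card : ℂ) * T.card * n := by
    rw [Finset.sum_congr rfl fun x hx => Finset.sum_congr rfl fun y hy =>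
      hval (x * y) (mul_mem (hTmem.1 hx).2 (hTmem.1 hy).2) (hne x hx y hy)]
    simp only [Finset.sum_const, nsmul_eq_mul]
    ring
  have hminus : ∑ x ∈ T, ∑ y ∈ T.image (·⁻¹), ψ (x * y) =
      (T.card : ℂ) * d + (T.card : ℂ) * (T.card - 1) * n := by
    have e : ∀ x ∈ T, ∑ y ∈ T.image (·⁻¹), ψ (x * y) = (d : ℂ) + ((T.card : ℂ) - 1) * n := by
      intro x hx
      rw [Finset.sum_image inv_injective.injOn, ← Finset.add_sum_erase _ _ hx, mul_inv_cancel, hd,
        Finset.sum_congr rfl fun y hy => hval (x * y⁻¹)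
          (mul_mem (hTmem.1 hx).2 (inv_mem (hTmem.1 (Finset.mem_of_mem_erase hy)).2))
          fun h => Finset.ne_of_mem_erase hy (mul_inv_eq_one.1 h).symm,
        Finset.sum_const, Finset.card_erase_of_mem hx, nsmul_eq_mul,
        Nat.cast_sub (Finset.card_pos.2 ⟨x, hx⟩)]
      simp
    rw [Finset.sum_congr rfl e, Finset.sum_const, nsmul_eq_mul]
    ring
  rw [show (Finset.univ.filter fun y => IsConj z y ∧ y ∈ Z) = T from rfl, hplus, hT', hminus] at hkey
  have hint : IsIntegral ℤ (I - J) := hI.sub hJ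
  have hq : (Nat.card (P : Subgroup G) : ℚ) ≠ 0 := Nat.cast_ne_zero.2 Nat.card_pos.ne'
  have hqC : (Nat.card (P : Subgroup G) : ℂ) ≠ 0 := Nat.cast_ne_zero.2 Nat.card_pos.ne'
  have hIJ : I - J = (((((T.card : ℤ) * ((d : ℤ) - n) : ℤ) : ℚ) / (Nat.card (P : Subgroup G) : ℚ) : ℚ) : ℂ) := by
    push_cast
    rw [eq_div_iff hqC]
    linear_combination hkey
  rw [hIJ] at hint
  obtain ⟨c, hc⟩ := isIntegral_rat_cast_imp hint
  rw [eq_div_iff hq] at hc
  have hc' : (c * (Nat.card (P : Subgroup G) : ℤ)) = (T.card : ℤ) * ((d : ℤ) - n) := by exact_mod_cast hc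
  have hdvd : (Nat.card (P : Subgroup G) : ℤ) ∣ (T.card : ℤ) * ((d : ℤ) - n) := ⟨c, by rw [← hc']; ring⟩
  have hco : IsCoprime (Nat.card (P : Subgroup G) : ℤ) (T.card : ℤ) :=
    Int.isCoprime_iff_nat_coprime.2 (by simpa using hTcop)
  exact hco.dvd_of_dvd_mul_left hdvd

end Cfsg.Agent.Char
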