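import Cfsg.Agent.Lib.Char.SibleyCentral
import Cfsg.Agent.Lib.Char.TICongruence

/-!
Sibley's coherence theorem for TI Sylow subgroups with Frobenius normalizer.
-/

set_option linter.unusedSectionVars false
set_option linter.style.haveILetI false
set_option maxHeartbeats 1000000

open scoped ComplexConjugate commutatorElement
open Cfsg

namespace Cfsg.Agent.Char

universe u v

section General

variable {L : Type u} [Group L] [Fintype L] {G : Type v} [Group G] [Fintype G]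

/-- Two characters of one degree: the coherent extension can be flipped. -/
theorem flip_two {u w : L → ℂ} (hu : IsIrrCharacter L u) (hw : IsIrrCharacter L w) (hne : u ≠ w)
    (hd : u 1 = w 1) {σ α : (L → ℂ) → (G → ℂ)}
    (hσ : IsLinearIsometryOn (zspan ({u, w} : Set (L → ℂ))) σ)
    (hag : ∀ v ∈ zspanOn ({u, w} : Set (L → ℂ)) {1}ᶜ, σ v = α v) :
    ∃ σ' : (L → ℂ) → (G → ℂ), IsLinearIsometryOn (zspan ({u, w} : Set (L → ℂ))) σ' ∧
      (∀ v ∈ zspanOn ({u, w} : Set (L → ℂ)) {1}ᶜ, σ' v = α v) ∧ σ' u = -σ w := by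
  classical
  set T : (L → ℂ) → ℂ := fun v => classInner v u + classInner v w with hT
  have hu' : u ∈ zspan ({u, w} : Set (L → ℂ)) := mem_zspan_of_mem (Set.mem_insert _ _)
  have hw' : w ∈ zspan ({u, w} : Set (L → ℂ)) := mem_zspan_of_mem (Set.mem_insert_of_mem _ rfl)
  have huw : classInner u w = 0 := by rw [irr_orth hu hw, if_neg hne]
  have hwu : classInner w u = 0 := by rw [irr_orth hw hu, if_neg hne.symm]
  have hint : ∀ v ∈ zspan ({u, w} : Set (L → ℂ)), ∃ m : ℤ, T v = m := by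
    intro v hv
    obtain ⟨c, d, rfl⟩ : ∃ c d : ℤ, c • u + d • w = v := Submodule.mem_span_pair.1 hv
    refine ⟨c + d, ?_⟩
    rw [hT, ← Int.cast_smul_eq_zsmul ℂ c u, ← Int.cast_smul_eq_zsmul ℂ d w]
    simp only [classInner_add_left, classInner_smul_left, irr_self hu, irr_self hw, huw, hwu]
    push_cast; ring
  refine ⟨fun v => σ v - T v • (σ u + σ w), ⟨?_, ?_, ?_, ?_⟩, ?_, ?_⟩
  · intro a ha b hb
    simp only [hT, hσ.1 a ha b hb, classInner_add_left]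
    funext g
    simp only [Pi.sub_apply, Pi.add_apply, Pi.smul_apply, smul_eq_mul]
    ring
  · intro a ha n
    simp only [hT, hσ.2.1 a ha n]
    rw [← Int.cast_smul_eq_zsmul ℂ n a, classInner_smul_left, classInner_smul_left,
      ← Int.cast_smul_eq_zsmul ℂ n, ← Int.cast_smul_eq_zsmul ℂ n]
    funext g
    simp only [Pi.sub_apply, Pi.add_apply, Pi.smul_apply, smul_eq_mul]
    ring
  · intro a ha b hb
    have h1 := hσ.2.2.1 a ha b hb
    simp only [classInner_sub_left, classInner_sub_right, classInner_smul_left, classInner_smul_right,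
      classInner_add_left, classInner_add_right, hσ.2.2.1 a ha u hu', hσ.2.2.1 a ha w hw',
      hσ.2.2.1 u hu' b hb, hσ.2.2.1 w hw' b hb, hσ.2.2.1 u hu' u hu', hσ.2.2.1 w hw' w hw',
      hσ.2.2.1 u hu' w hw', hσ.2.2.1 w hw' u hu', irr_self hu, irr_self hw, huw, hwu, h1, hT,
      map_add, classInner_symm]
    ring
  · intro a ha
    obtain ⟨m, hm⟩ := hint a ha
    show IsGeneralizedCharacter G (σ a - T a • (σ u + σ w))
    rw [hm]
    refine isGenChar_sub (hσ.2.2.2 a ha) (isGenChar_int_smul ?_ m)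
    simpa [sub_neg_eq_add] using isGenChar_sub (hσ.2.2.2 u hu')
      (isGenChar_sub isGenChar_zero (hσ.2.2.2 w hw'))
  · intro v hv
    obtain ⟨c, d, e⟩ : ∃ c d : ℤ, c • u + d • w = v := Submodule.mem_span_pair.1 hv.1
    have h1 := zspanOn_one hv
    have hz : T v = 0 := by
      rw [← e, ← Int.cast_smul_eq_zsmul ℂ c u, ← Int.cast_smul_eq_zsmul ℂ d w] at h1 ⊢
      simp only [hT, classInner_add_left, classInner_smul_left, irr_self hu, irr_self hw, huw, hwu]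
      simp only [Pi.add_apply, Pi.smul_apply, smul_eq_mul, hd] at h1
      refine mul_right_cancel₀ (irr_one_ne_zero hw) ?_
      linear_combination h1
    show σ v - T v • (σ u + σ w) = α v
    rw [hz, zero_smul, sub_zero, hag v hv]
  · simp [hT, irr_self hu, huw]

end General

variable {G : Type u} [Group G] [Fintype G]

theorem chSet_eq_tifnSet (K : Subgroup G) [Fintype ↥(Subgroup.normalizer (K : Set G))] :
    chSet (K.subgroupOf (Subgroup.normalizer (K : Set G))) ⊥ = tifnSet K := by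
  ext χ
  constructor
  · rintro ⟨h1, ⟨k, hk, hne⟩, -⟩
    exact ⟨h1, k, Subgroup.mem_subgroupOf.1 hk, hne⟩
  · rintro ⟨h1, k, hk, hne⟩
    exact ⟨h1, ⟨k, Subgroup.mem_subgroupOf.2 hk, hne⟩, fun d hd => by rw [Subgroup.mem_bot.1 hd]⟩

theorem card_subgroupOf_normalizer (K : Subgroup G) :
    Nat.card (K.subgroupOf (Subgroup.normalizer (K : Set G))) = Nat.card K :=
  Nat.card_congr (Subgroup.subgroupOfEquivOfLe Subgroup.le_normalizer).toEquiv

theorem normalizer_frob_data (K : Subgroup G) (hlt : K < Subgroup.normalizer (K : Set G))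
    (hK1 : K ≠ ⊥) :
    K.subgroupOf (Subgroup.normalizer (K : Set G)) ≠ ⊤ ∧
      K.subgroupOf (Subgroup.normalizer (K : Set G)) ≠ ⊥ := by
  constructor
  · intro h
    exact hlt.not_ge (Subgroup.subgroupOf_eq_top.1 h)
  · intro h
    apply hK1
    rw [← Subgroup.card_eq_one, ← card_subgroupOf_normalizer K, h, Subgroup.card_bot]

theorem sibley_core (p : ℕ) [Fact p.Prime] (hp : p ≠ 2) (P : Sylow p G)
    (hTI : IsTISubset ((P : Subgroup G) : Set G))
    (hlt : (P : Subgroup G) < Subgroup.normalizer ((P : Subgroup G) : Set G))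
    (hC : ∀ k ∈ (P : Subgroup G), k ≠ 1 → Subgroup.centralizer ({k} : Set G) ≤ (P : Subgroup G))
    (hna : ¬ IsMulCommutative (P : Subgroup G))
    [Fintype ↥(Subgroup.normalizer ((P : Subgroup G) : Set G))] :
    IsCoherent (chSet ((P : Subgroup G).subgroupOf (Subgroup.normalizer ((P : Subgroup G) : Set G))) ⊥)
      {1}ᶜ (fun α => indFun (Subgroup.normalizer ((P : Subgroup G) : Set G)) α) := by
  classical
  set K : Subgroup G := (P : Subgroup G) with hK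
  set N : Subgroup G := Subgroup.normalizer (K : Set G) with hN
  set K0 := K.subgroupOf N with hK0
  haveI : K0.Normal := Subgroup.normal_in_normalizer
  haveI := Fintype.ofFinite K0
  have hC0 := tifn_centralizer K hC
  have hcard : Nat.card K0 = Nat.card K := card_subgroupOf_normalizer K
  obtain ⟨n, hn⟩ := P.2.exists_card_eq
  have hn' : Nat.card K0 = p ^ n := hcard.trans hn
  have hnab : ¬ ∀ a ∈ K0, ∀ b ∈ K0, a * b = b * a := fun h => hna ⟨⟨fun a b => Subtype.ext (by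
    have := h ⟨a, hlt.le a.2⟩ (Subgroup.mem_subgroupOf.2 a.2) ⟨b, hlt.le b.2⟩ (Subgroup.mem_subgroupOf.2 b.2)
    simpa using congrArg Subtype.val this)⟩⟩
  have hpodd : Odd p := (Fact.out : p.Prime).odd_of_ne_two hp
  set e := K0.index with he
  have he0 : 0 < e := Nat.pos_of_ne_zero Subgroup.index_ne_zero_of_finite
  have heodd : Odd e := Nat.not_even_iff_odd.1 fun h => hnab (comm_of_even_index K0 hC0 h)
  have hoddN : Odd (Nat.card N) := by
    rw [← K0.card_mul_index, hn']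
    exact hpodd.pow.mul heodd
  have hK1 : K ≠ ⊥ := fun h => hnab fun a ha b hb => by
    have h1 : a = 1 := Subtype.ext (by simpa [hK0, Subgroup.mem_subgroupOf, h] using ha)
    rw [h1]; simp
  obtain ⟨hKtop, hKbot⟩ := normalizer_frob_data K hlt hK1
  haveI hnil := frobKernel_nilpotent K0 hKtop hC0
  obtain ⟨hiso', hone'⟩ := tifn_isometry K hTI hC
  rw [← chSet_eq_tifnSet K, ← hK0] at hiso' hone'
  set I : (N → ℂ) → (G → ℂ) := fun α => indFun N α with hI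
  -- the linear characters
  set D₁ : Subgroup N := ⁅K0, K0⁆ with hD₁
  have hD₁H : D₁ ≤ K0 := Subgroup.commutator_le_right K0 K0
  haveI hD₁n : D₁.Normal := Subgroup.commutator_normal K0 K0
  set X := chFin K0 D₁ with hX
  have hXS : (↑X : Set (N → ℂ)) ⊆ chSet K0 ⊥ := fun χ hχ => by
    obtain ⟨a, b, -⟩ := mem_chFin.1 hχ
    exact ⟨a, b, fun d hd => by rw [Subgroup.mem_bot.1 hd]⟩
  have hdegX : ∀ χ ∈ X, deg χ = e := by
    intro χ hχ
    obtain ⟨t, ht0, hdeg, ht⟩ := chSet_deg_sq_le K0 hC0 (M := D₁) (E := K0)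
      (fun z hz h hh => Subgroup.commutator_mem_commutator hz hh) (mem_chFin.1 hχ)
    rw [Subgroup.relIndex_self] at ht
    rw [hdeg, show t = 1 by nlinarith, mul_one]
  obtain ⟨k₁, hk₁, hsum₁⟩ := chFin_sum_sq K0 hC0 D₁ hD₁H
  have hXne : X.Nonempty := by
    by_contra hemp
    rw [Finset.not_nonempty_iff_eq_empty] at hemp
    rw [← hX, hemp, Finset.sum_empty] at hsum₁
    have hk0 : k₁ = 0 := by
      rcases mul_eq_zero.1 hsum₁.symm with h | h
      · exact absurd h (pow_pos he0 2).ne'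
      · exact h
    rw [hk0, mul_zero, zero_add] at hk₁
    haveI := Fact.mk (Fact.out : p.Prime)
    have hn0 : n ≠ 0 := fun h => hKbot (Subgroup.card_eq_one.1 (by rw [hn', h, pow_zero]))
    have h := prime_dvd_commutator_index (Q := K0) p (hn' ▸ dvd_pow_self p hn0)
    have h2 : (commutator K0).index = D₁.relIndex K0 := by
      rw [Subgroup.relIndex, Subgroup.subgroupOf, hD₁]
      congr 1
      rw [← Subgroup.map_subtype_commutator, Subgroup.comap_map_eq_self_of_injective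
        (Subgroup.subtype_injective K0)]
    rw [h2, hk₁] at h
    exact (Fact.out : p.Prime).ne_one (Nat.dvd_one.1 h)
  obtain ⟨χ₁, hχ₁⟩ := hXne
  have hχ₁c : conjFun χ₁ ∈ X := mem_chFin.2 (conjFun_mem_chSet K0 (mem_chFin.1 hχ₁))
  have hχ₁ne : χ₁ ≠ conjFun χ₁ := (conjFun_ne_self K0 hoddN (mem_chFin.1 hχ₁)).symm
  have hX2 : 2 ≤ X.card := Finset.one_lt_card.2 ⟨χ₁, hχ₁, conjFun χ₁, hχ₁c, hχ₁ne⟩
  have hirrX : ∀ χ ∈ X, IsIrrCharacter N χ := fun χ hχ => (mem_chFin.1 hχ).1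
  obtain ⟨-, σ, hσ, hσI⟩ := coherent_const_exceptional X hirrX hX2 (fun a ha b hb => by
    rw [char_one_eq_deg (irr_isCharacter (hirrX a ha)), hdegX a ha,
      char_one_eq_deg (irr_isCharacter (hirrX b hb)), hdegX b hb]) I
    (isometry_mono hXS hiso') (fun α hα => hone' α (zspanOn_mono hXS hα))
  -- the central subgroup
  set Z : Subgroup N := D₁ ⊓ centerMod K0 ⊥ with hZ
  haveI : (centerMod K0 (⊥ : Subgroup N)).Normal := centerMod_normal K0 ⊥
  haveI : Z.Normal := inferInstance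
  have hZH : Z ≤ K0 := fun z hz => hz.2.1
  have hZc : ∀ z ∈ Z, ∀ h ∈ K0, z * h = h * z := fun z hz h hh => by
    have := Subgroup.mem_bot.1 (hz.2.2 h hh)
    rwa [mul_inv_eq_one, mul_inv_eq_iff_eq_mul] at this
  have hD₁ne : D₁ ≠ ⊥ := fun h => hnab fun a ha b hb => by
    have h1 : ⁅a, b⁆ ∈ D₁ := Subgroup.commutator_mem_commutator ha hb
    rw [h, Subgroup.mem_bot] at h1
    exact commutatorElement_eq_one_iff_mul_comm.1 h1
  have hZ1 : Z ≠ ⊥ := by
    intro h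
    have hne : D₁.subgroupOf K0 ≠ ⊥ := fun h' => hD₁ne (by
      rw [Subgroup.subgroupOf_eq_bot] at h'
      exact le_bot_iff.1 (h' le_rfl hD₁H))
    obtain ⟨y, hy, hy1⟩ := (D₁.subgroupOf K0 ⊓ Subgroup.center K0).bot_or_exists_ne_one.resolve_left
      (S0065.result (D₁.subgroupOf K0) hne)
    have hy' : (y : N) ∈ Z := ⟨Subgroup.mem_subgroupOf.1 hy.1, y.2, fun k hk => by
      have := congrArg Subtype.val (Subgroup.mem_center_iff.1 hy.2 ⟨k, hk⟩)
      rw [Subgroup.mem_bot]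
      change k * (y : N) = y * k at this
      rw [← this]; simp⟩
    rw [h, Subgroup.mem_bot] at hy'
    exact hy1 (Subtype.ext hy')
  set Y := szFin K0 Z with hY
  have hYS : (↑Y : Set (N → ℂ)) ⊆ chSet K0 ⊥ := fun χ hχ => ((mem_szFin K0).1 hχ).1
  have hirrY : ∀ χ ∈ Y, IsIrrCharacter N χ := fun χ hχ => ((mem_szFin K0).1 hχ).1.1
  obtain ⟨⟨α₀, hα₀, hα₀ne⟩, τ, hτ, hτI⟩ :=
    coherent_central K0 hn' hC0 hoddN hZ1 hZH hZc I hiso' hone'
  have hYne : Y.Nonempty := by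
    by_contra hemp
    rw [Finset.not_nonempty_iff_eq_empty] at hemp
    have h := hα₀.1
    rw [← hY, hemp, Finset.coe_empty] at h
    refine hα₀ne ?_
    simpa [zspan] using h
  choose! bY hbY hbYd using fun χ (hχ : χ ∈ Y) => szFin_degree K0 hn' hC0 hZH hZc hχ
  obtain ⟨η₀, hη₀, hmin⟩ := Finset.exists_min_image Y bY hYne
  set η₀' := conjFun η₀ with hη₀'
  have hη₀'Y : η₀' ∈ Y := szFin_conj K0 hη₀
  have hη₀ne : η₀ ≠ η₀' := (conjFun_ne_self K0 hoddN (hYS hη₀)).symm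
  set a : ℕ := p ^ bY η₀ with ha
  have hdη₀ : deg η₀ = e * a := hbY η₀ hη₀
  have ha0 : 0 < a := pow_pos (Fact.out : p.Prime).pos _
  have hdisj : Disjoint X Y := Finset.disjoint_left.2 fun χ hχ hχ' => by
    obtain ⟨h1, h2, h3⟩ := mem_chFin.1 hχ
    exact ((mem_szFin K0).1 hχ').2 ⟨h1, h2, fun d hd => h3 d hd.1⟩
  have hperp := coherent_parts_orth (chSet K0 ⊥) (↑X) (↑Y) (fun ξ hξ => hξ.1) hXS hYS
    (Finset.disjoint_coe.2 hdisj) ⟨χ₁, hχ₁, _, hχ₁c, hχ₁ne⟩ ⟨η₀, hη₀, η₀', hη₀'Y, hη₀ne⟩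
    I hiso' hone' σ τ hσ hσI hτ hτI
  have hzX : ∀ χ ∈ X, χ ∈ zspan (↑X : Set (N → ℂ)) := fun χ h => mem_zspan_of_mem (Finset.mem_coe.2 h)
  have hzY : ∀ χ ∈ Y, χ ∈ zspan (↑Y : Set (N → ℂ)) := fun χ h => mem_zspan_of_mem (Finset.mem_coe.2 h)
  have hone : ∀ χ : N → ℂ, IsIrrCharacter N χ → χ 1 = (deg χ : ℂ) := fun χ h =>
    char_one_eq_deg (irr_isCharacter h)
  have hor : ∀ u v : N → ℂ, u ∈ chSet K0 ⊥ → v ∈ chSet K0 ⊥ →
      classInner u v = if u = v then 1 else 0 := fun u v hu hv => irr_orth hu.1 hv.1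
  set v₀ : N → ℂ := η₀ - ((a : ℤ) : ℂ) • χ₁ with hv₀
  have hv₀m : v₀ ∈ zspanOn (chSet K0 ⊥) {1}ᶜ := by
    refine mem_zspanOn_punctured (Submodule.sub_mem _ (mem_zspan_of_mem (hYS hη₀))
      (mem_zspan_smul _ (mem_zspan_of_mem (hXS hχ₁)))) ?_
    rw [hv₀, Pi.sub_apply, Pi.smul_apply, hone η₀ (hirrY η₀ hη₀), hone χ₁ (hirrX χ₁ hχ₁), hdη₀,
      hdegX χ₁ hχ₁, smul_eq_mul]
    push_cast
    ring
  set β := I v₀ with hβ
  have hβgen : IsGeneralizedCharacter G β := hiso'.2.2.2 _ hv₀m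
  choose! bX hbX using fun ξ (hξ : ξ ∈ X) => classInner_gen_int hβgen (hσ.2.2.2 ξ (hzX ξ hξ))
  choose! cY hcY using fun η (hη : η ∈ Y) => classInner_gen_int hβgen (hτ.2.2.2 η (hzY η hη))
  -- coefficients on `X`
  set k : ℤ := bX χ₁ + a with hk
  have hbXk : ∀ ξ ∈ X, bX ξ = if ξ = χ₁ then k - a else k := by
    intro ξ hξ
    split_ifs with h
    · rw [h, hk]; ring
    have hm : ξ - χ₁ ∈ zspanOn (↑X : Set (N → ℂ)) {1}ᶜ := cohSys_diff_mem (Finset.mem_coe.2 hξ)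
      (Finset.mem_coe.2 hχ₁) (by
        rw [hone ξ (hirrX ξ hξ), hone χ₁ (hirrX χ₁ hχ₁), hdegX ξ hξ, hdegX χ₁ hχ₁])
    have h1 := hiso'.2.2.1 v₀ hv₀m _ (zspanOn_mono hXS hm)
    rw [← hβ, ← hσI _ hm, isometryOn_sub hσ (hzX ξ hξ) (hzX χ₁ hχ₁), classInner_sub_right, hbX ξ hξ,
      hbX χ₁ hχ₁, hv₀] at h1
    simp only [classInner_sub_left, classInner_sub_right, classInner_smul_left,
      hor η₀ ξ (hYS hη₀) (hXS hξ), hor η₀ χ₁ (hYS hη₀) (hXS hχ₁), hor χ₁ ξ (hXS hχ₁) (hXS hξ),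
      hor χ₁ χ₁ (hXS hχ₁) (hXS hχ₁), if_true, if_neg (Ne.symm h),
      if_neg (fun e => Finset.disjoint_left.1 hdisj hξ (e ▸ hη₀) : η₀ ≠ ξ),
      if_neg (fun e => Finset.disjoint_left.1 hdisj hχ₁ (e ▸ hη₀) : η₀ ≠ χ₁)] at h1
    have h2 : ((bX ξ : ℤ) : ℂ) = ((k : ℤ) : ℂ) := by
      rw [hk]; push_cast at h1 ⊢
      linear_combination h1
    exact_mod_cast h2
  -- the congruence
  have hdvd : (a : ℤ) ∣ k := by
    obtain ⟨ε, μ, hε, hμ⟩ := exists_sign_of_norm_one (hσ.2.2.2 χ₁ (hzX χ₁ hχ₁))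
      (by rw [hσ.2.2.1 χ₁ (hzX χ₁ hχ₁) χ₁ (hzX χ₁ hχ₁), irr_self (hirrX χ₁ hχ₁)])
    have hεne : (ε : ℂ) ≠ 0 := by rcases hε with h | h <;> simp [h]
    have hμcl := isClassFunction_character (irr_isCharacter μ.2)
    set F : N → ℂ := fun x => (μ : G → ℂ) x with hF
    have hFc : IsCharacter N F := isCharacter_comp N.subtype (irr_isCharacter μ.2)
    obtain ⟨r, hr⟩ := classInner_natCast hFc (irr_isCharacter (hirrY η₀ hη₀))
    obtain ⟨s, hs⟩ := classInner_natCast hFc (irr_isCharacter (hirrX χ₁ hχ₁))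
    have hμperp : ∀ η ∈ Y, classInner (μ : G → ℂ) (τ η) = 0 := fun η hη => by
      have h := hperp χ₁ hχ₁ η hη
      rw [hμ, classInner_smul_left] at h
      exact (mul_eq_zero.1 h).resolve_left hεne
    have hd0 : (deg η₀ : ℂ) ≠ 0 := Nat.cast_ne_zero.2 (deg_pos (hirrY η₀ hη₀)).ne'
    set q : ℂ := (r : ℂ) / (deg η₀ : ℂ) with hq
    have hFY : ∀ η ∈ Y, classInner F η = q * (deg η : ℂ) := by
      intro η hη
      set g : N → ℂ := ((deg η₀ : ℤ) : ℂ) • η - ((deg η : ℤ) : ℂ) • η₀ with hg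
      have hgm : g ∈ zspanOn (↑Y : Set (N → ℂ)) {1}ᶜ := by
        refine mem_zspanOn_punctured (Submodule.sub_mem _ (mem_zspan_smul _ (hzY η hη))
          (mem_zspan_smul _ (hzY η₀ hη₀))) ?_
        rw [hg, Pi.sub_apply, Pi.smul_apply, Pi.smul_apply, hone η (hirrY η hη), hone η₀ (hirrY η₀ hη₀)]
        simp [mul_comm]
      have h0 : classInner (μ : G → ℂ) (I g) = 0 := by
        rw [← hτI g hgm, hg, isometryOn_sub hτ (mem_zspan_smul _ (hzY η hη))
          (mem_zspan_smul _ (hzY η₀ hη₀)), iso_smul hτ (hzY η hη), iso_smul hτ (hzY η₀ hη₀),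
          classInner_sub_right, classInner_smul_right, classInner_smul_right, hμperp η hη,
          hμperp η₀ hη₀]
        ring
      rw [hI, frobenius_right N _ hμcl, hg, classInner_sub_right, classInner_smul_right,
        classInner_smul_right, ← hF, hr, map_intCast, map_intCast] at h0
      rw [hq]
      field_simp
      push_cast at h0
      linear_combination h0
    have hval : ∀ z ∈ Z, z ≠ 1 → F 1 - F z = q * (Nat.card N : ℂ) := by
      intro z hz hz1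
      have h1 := regular_sum (G := N) 1
      have h2 := regular_sum (G := N) z
      rw [if_pos rfl] at h1
      rw [if_neg hz1] at h2
      have hexp := char_expansion hFc
      conv_lhs => rw [hexp]
      rw [Finset.sum_apply, Finset.sum_apply, ← Finset.sum_sub_distrib]
      calc ∑ χ : IrrCharacter N, ((classInner F (χ : N → ℂ) • (χ : N → ℂ)) 1 -
            (classInner F (χ : N → ℂ) • (χ : N → ℂ)) z)
          = ∑ χ : IrrCharacter N, (q * ((χ : N → ℂ) 1 * (χ : N → ℂ) 1) -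
            q * ((χ : N → ℂ) 1 * (χ : N → ℂ) z)) := by
            refine Finset.sum_congr rfl fun χ _ => ?_
            simp only [Pi.smul_apply, smul_eq_mul]
            by_cases hχY : (χ : N → ℂ) ∈ Y
            · rw [hFY _ hχY, hone _ χ.2]; ring
            · have hconst : (χ : N → ℂ) z = (χ : N → ℂ) 1 := by
                by_contra hzv
                exact hχY ((mem_szFin K0).2 ⟨⟨χ.2, ⟨z, hZH hz, hzv⟩, fun d hd => by
                  rw [Subgroup.mem_bot.1 hd]⟩, fun h => hzv (h.2.2 z hz)⟩)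
              rw [hconst]; ring
        _ = q * (Nat.card N : ℂ) := by
            rw [Finset.sum_sub_distrib, ← Finset.mul_sum, ← Finset.mul_sum, h1, h2]; ring
    obtain ⟨z, hz, hz1⟩ := Z.bot_or_exists_ne_one.resolve_left hZ1
    set Z' : Subgroup G := Z.map N.subtype with hZ'
    have hZ'c : ∀ y ∈ Z', ∀ k ∈ K, y * k = k * y := by
      rintro _ ⟨y, hy, rfl⟩ k hk
      exact congrArg Subtype.val (hZc y hy ⟨k, hlt.le hk⟩ (Subgroup.mem_subgroupOf.2 hk))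
    have hZ'n : ∀ x ∈ N, ∀ y ∈ Z', x * y * x⁻¹ ∈ Z' := by
      rintro x hx _ ⟨y, hy, rfl⟩
      exact ⟨⟨x, hx⟩ * y * ⟨x, hx⟩⁻¹, Subgroup.Normal.conj_mem inferInstance y hy _, rfl⟩
    have hconst : ∀ y ∈ Z', ∀ y' ∈ Z', y ≠ 1 → y' ≠ 1 → (μ : G → ℂ) y = (μ : G → ℂ) y' := by
      rintro _ ⟨y, hy, rfl⟩ _ ⟨y', hy', rfl⟩ h h'
      have e1 := hval y hy (fun e => h (by rw [e, map_one]))
      have e2 := hval y' hy' (fun e => h' (by rw [e, map_one]))
      show F y = F y'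
      linear_combination e2 - e1
    obtain ⟨m, d', hm, hd', hdd⟩ := ti_congruence p P hTI hoddN Z'
      (fun y hy => by
        obtain ⟨y, hy, rfl⟩ := hy
        exact Subgroup.mem_subgroupOf.1 (hZH hy))
      hZ'n hZ'c (μ : G → ℂ) μ.2 hconst (z : G) ⟨z, hz, rfl⟩ (fun e => hz1 (Subtype.ext e))
    obtain ⟨c, hc⟩ := hdd
    have hv := hval z hz hz1
    simp only [hF, OneMemClass.coe_one] at hv
    rw [hd', hm, ← K0.card_mul_index, hcard, ← he, hq, hdη₀, div_mul_eq_mul_div,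
      eq_div_iff (by exact_mod_cast (Nat.mul_pos he0 ha0).ne')] at hv
    have hv' : ((d' - m) * ((e * a : ℕ) : ℤ)) = (r : ℤ) * ((Nat.card K * e : ℕ) : ℤ) := by exact_mod_cast hv
    rw [hc] at hv'
    have hra : (r : ℤ) = a * c := by
      refine mul_right_cancel₀ (b := ((Nat.card K * e : ℕ) : ℤ))
        (by exact_mod_cast (Nat.mul_pos Nat.card_pos he0).ne') ?_
      rw [← hv']; push_cast; ring
    have hb : classInner β (σ χ₁) = (ε : ℂ) * ((r : ℂ) - (a : ℂ) * s) := by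
      rw [hμ, classInner_smul_right, map_intCast, ← classInner_symm (μ : G → ℂ) β, hβ, hI,
        frobenius_right N _ hμcl, hv₀, ← hF, classInner_sub_right, classInner_smul_right, hr, hs]
      simp
    rw [hbX χ₁ hχ₁] at hb
    have hb' : bX χ₁ = ε * ((r : ℤ) - (a : ℤ) * (s : ℤ)) := by exact_mod_cast hb
    rw [hk, hb', hra]
    exact dvd_add (Dvd.dvd.mul_left (dvd_sub (dvd_mul_right _ _) (dvd_mul_right _ _)) ε) dvd_rfl
  -- coefficients on `Y`
  set j : ℤ := cY η₀ - 1 with hj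
  have hcYj : ∀ η ∈ Y, (cY η : ℝ) = (j : ℝ) * ((deg η : ℝ) / (deg η₀ : ℝ)) + if η = η₀ then 1 else 0 := by
    intro η hη
    have hd0 : (deg η₀ : ℝ) ≠ 0 := Nat.cast_ne_zero.2 (deg_pos (hirrY η₀ hη₀)).ne'
    split_ifs with h
    · rw [h, hj, div_self hd0]; push_cast; ring
    set g : N → ℂ := ((deg η₀ : ℤ) : ℂ) • η - ((deg η : ℤ) : ℂ) • η₀ with hg
    have hgm : g ∈ zspanOn (↑Y : Set (N → ℂ)) {1}ᶜ := by
      refine mem_zspanOn_punctured (Submodule.sub_mem _ (mem_zspan_smul _ (hzY η hη))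
        (mem_zspan_smul _ (hzY η₀ hη₀))) ?_
      rw [hg, Pi.sub_apply, Pi.smul_apply, Pi.smul_apply, hone η (hirrY η hη), hone η₀ (hirrY η₀ hη₀)]
      simp [mul_comm]
    have h1 := hiso'.2.2.1 v₀ hv₀m _ (zspanOn_mono hYS hgm)
    rw [← hβ, ← hτI _ hgm, hg, isometryOn_sub hτ (mem_zspan_smul _ (hzY η hη))
      (mem_zspan_smul _ (hzY η₀ hη₀)), iso_smul hτ (hzY η hη), iso_smul hτ (hzY η₀ hη₀),
      classInner_sub_right, classInner_smul_right, classInner_smul_right, hcY η hη, hcY η₀ hη₀, hv₀] at h1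
    simp only [classInner_sub_left, classInner_sub_right, classInner_smul_left, classInner_smul_right,
      map_intCast, hor η₀ η (hYS hη₀) (hYS hη), hor η₀ η₀ (hYS hη₀) (hYS hη₀),
      hor χ₁ η (hXS hχ₁) (hYS hη), hor χ₁ η₀ (hXS hχ₁) (hYS hη₀), if_true, if_neg (Ne.symm h),
      if_neg (fun e => Finset.disjoint_left.1 hdisj hχ₁ (e ▸ hη) : χ₁ ≠ η),
      if_neg (fun e => Finset.disjoint_left.1 hdisj hχ₁ (e ▸ hη₀) : χ₁ ≠ η₀)] at h1
    have h2 : (((deg η₀ : ℤ) * cY η : ℤ) : ℂ) = (((deg η : ℤ) * j : ℤ) : ℂ) := by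
      rw [hj]; push_cast at h1 ⊢
      linear_combination h1
    have h3 : (deg η₀ : ℝ) * (cY η : ℝ) = (deg η : ℝ) * (j : ℝ) := by
      have h4 : (deg η₀ : ℤ) * cY η = (deg η : ℤ) * j := by exact_mod_cast h2
      exact_mod_cast h4
    field_simp
    linear_combination h3
  -- Bessel
  set f : (N → ℂ) → (G → ℂ) := fun φ => if φ ∈ X then σ φ else τ φ with hf
  have hfX : ∀ φ ∈ X, f φ = σ φ := fun φ h => if_pos h
  have hfY : ∀ φ ∈ Y, f φ = τ φ := fun φ h => if_neg (Finset.disjoint_right.1 hdisj h)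
  set B : (N → ℂ) → ℝ := fun φ => if φ ∈ X then (bX φ : ℝ) else (cY φ : ℝ) with hB
  have hBX : ∀ φ ∈ X, B φ = bX φ := fun φ h => if_pos h
  have hBY : ∀ φ ∈ Y, B φ = cY φ := fun φ h => if_neg (Finset.disjoint_right.1 hdisj h)
  have hff : ∀ φ ∈ X ∪ Y, ∀ ψ ∈ X ∪ Y, classInner (f φ) (f ψ) = if φ = ψ then 1 else 0 := by
    intro φ hφ ψ hψ
    rcases Finset.mem_union.1 hφ with h | h <;> rcases Finset.mem_union.1 hψ with h' | h'
    · rw [hfX φ h, hfX ψ h', hσ.2.2.1 φ (hzX φ h) ψ (hzX ψ h'), hor φ ψ (hXS h) (hXS h')]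
    · rw [hfX φ h, hfY ψ h', hperp φ h ψ h', if_neg (fun e => Finset.disjoint_left.1 hdisj h (e ▸ h') : φ ≠ ψ)]
    · rw [hfY φ h, hfX ψ h', ← classInner_symm, hperp ψ h' φ h, map_zero,
        if_neg (fun e => Finset.disjoint_left.1 hdisj h' (e ▸ h) : φ ≠ ψ)]
    · rw [hfY φ h, hfY ψ h', hτ.2.2.1 φ (hzY φ h) ψ (hzY ψ h'), hor φ ψ (hYS h) (hYS h')]
  have hpy := pyth (X ∪ Y) f B (fun _ => 1) β (fun _ _ => one_ne_zero)
    (fun φ hφ ψ hψ h => by rw [hff φ hφ ψ hψ, if_neg h])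
    (fun φ hφ => by rw [hff φ hφ φ hφ, if_pos rfl, Complex.ofReal_one])
    (fun φ hφ => by
      rcases Finset.mem_union.1 hφ with h | h
      · rw [hfX φ h, hBX φ h, hbX φ h, Complex.ofReal_intCast]
      · rw [hfY φ h, hBY φ h, hcY φ h, Complex.ofReal_intCast])
  simp only [div_one] at hpy
  set P0 : G → ℂ := ∑ φ ∈ X ∪ Y, ((B φ : ℝ) : ℂ) • f φ with hP0
  have hββ : classInner β β = ((1 + (a : ℝ) ^ 2 : ℝ) : ℂ) := by
    rw [hβ, hiso'.2.2.1 _ hv₀m _ hv₀m, hv₀]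
    simp only [classInner_sub_left, classInner_sub_right, classInner_smul_left, classInner_smul_right,
      map_intCast, hor η₀ η₀ (hYS hη₀) (hYS hη₀), hor χ₁ χ₁ (hXS hχ₁) (hXS hχ₁),
      hor η₀ χ₁ (hYS hη₀) (hXS hχ₁), hor χ₁ η₀ (hXS hχ₁) (hYS hη₀), if_true,
      if_neg (fun e => Finset.disjoint_left.1 hdisj hχ₁ (e ▸ hη₀) : χ₁ ≠ η₀),
      if_neg (fun e => Finset.disjoint_left.1 hdisj hχ₁ (e ▸ hη₀) : η₀ ≠ χ₁)]
    push_cast
    ring
  rw [hββ] at hpy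
  have hnn := classInner_self_re_nonneg (β - P0)
  rw [hpy, Complex.sub_re, Complex.ofReal_re, Complex.re_sum] at hnn
  simp only [Complex.ofReal_re] at hnn
  obtain ⟨k', hk'⟩ := hdvd
  have hXsum : ∑ φ ∈ X, B φ ^ 2 = (a : ℝ) ^ 2 * ((X.card : ℝ) * (k' : ℝ) ^ 2 - 2 * k' + 1) := by
    have e1 : ∀ φ ∈ X, B φ ^ 2 =
        (k : ℝ) ^ 2 + if φ = χ₁ then (a : ℝ) ^ 2 - 2 * k * a else 0 := fun φ hφ => by
      rw [hBX φ hφ, hbXk φ hφ]
      split_ifs <;> push_cast <;> ring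
    rw [Finset.sum_congr rfl e1, Finset.sum_add_distrib, Finset.sum_const, nsmul_eq_mul,
      Finset.sum_ite_eq' X χ₁, if_pos hχ₁, hk']
    push_cast
    ring
  set ρ : (N → ℂ) → ℝ := fun η => (deg η : ℝ) / (deg η₀ : ℝ) with hρ
  set Q : ℝ := ∑ η ∈ Y, ρ η ^ 2 with hQ
  have hd0 : (deg η₀ : ℝ) ≠ 0 := Nat.cast_ne_zero.2 (deg_pos (hirrY η₀ hη₀)).ne'
  have hρ0 : ρ η₀ = 1 := div_self hd0
  have hρ0' : ρ η₀' = 1 := by
    show (deg (conjFun η₀) : ℝ) / _ = 1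
    rw [deg_conjFun, div_self hd0]
  have hpair : ({η₀, η₀'} : Finset (N → ℂ)) ⊆ Y := by
    intro x hx
    rcases Finset.mem_insert.1 hx with rfl | hx
    · exact hη₀
    · rw [Finset.mem_singleton] at hx; rw [hx]; exact hη₀'Y
  have hQ2 : 2 ≤ Q := by
    refine le_trans (le_of_eq ?_) (Finset.sum_le_sum_of_subset_of_nonneg hpair fun η _ _ => sq_nonneg _)
    rw [Finset.sum_pair hη₀ne, hρ0, hρ0']
    norm_num
  have hYsum : ∑ φ ∈ Y, B φ ^ 2 = (j : ℝ) ^ 2 * Q + 2 * j + 1 := by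
    have e1 : ∀ φ ∈ Y, B φ ^ 2 = (j : ℝ) ^ 2 * ρ φ ^ 2 + if φ = η₀ then 2 * (j : ℝ) + 1 else 0 :=
      fun φ hφ => by
        rw [hBY φ hφ, hcYj φ hφ]
        split_ifs with h
        · subst h; rw [show (deg φ : ℝ) / deg φ = 1 from div_self hd0, hρ0]; ring
        · simp only [hρ]; ring
    rw [Finset.sum_congr rfl e1, Finset.sum_add_distrib, Finset.sum_ite_eq' Y η₀, if_pos hη₀,
      ← Finset.mul_sum]
    ring
  rw [Finset.sum_union hdisj, hXsum, hYsum] at hnn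
  have ha1 : (1 : ℝ) ≤ a := by exact_mod_cast ha0
  have ha2 : (1 : ℝ) ≤ (a : ℝ) ^ 2 := by nlinarith
  have hjj : (0 : ℝ) ≤ (j : ℝ) ^ 2 * Q + 2 * j := by
    have h1 : (0 : ℤ) ≤ j * (j + 1) := by
      rcases le_or_gt 0 j with h | h
      · positivity
      · nlinarith
    have h2 : (0 : ℝ) ≤ (j : ℝ) * (j + 1) := by exact_mod_cast h1
    nlinarith [sq_nonneg (j : ℝ)]
  have hXle : (X.card : ℝ) * (k' : ℝ) ^ 2 - 2 * k' ≤ 0 := by nlinarith
  have hkcase : k' = 0 ∨ (k' = 1 ∧ X.card = 2) := by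
    have h1 : (2 : ℤ) ≤ (X.card : ℤ) := by exact_mod_cast hX2
    have h2 : (X.card : ℤ) * k' ^ 2 - 2 * k' ≤ 0 := by exact_mod_cast hXle
    have h3 : k' = 0 ∨ k' = 1 := by
      rcases le_or_gt k' 1 with h | h
      · rcases le_or_gt 0 k' with h' | h'
        · omega
        · exfalso; nlinarith
      · exfalso; nlinarith
    rcases h3 with rfl | rfl
    · exact Or.inl rfl
    · exact Or.inr ⟨rfl, by omega⟩
  have hXzero : (X.card : ℝ) * (k' : ℝ) ^ 2 - 2 * k' = 0 := by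
    rcases hkcase with rfl | ⟨rfl, h⟩
    · push_cast; ring
    · rw [h]; norm_num
  have hjcase : j = 0 ∨ (j = -1 ∧ Y = {η₀, η₀'}) := by
    have h0 : (j : ℝ) ^ 2 * Q + 2 * j ≤ 0 := by nlinarith
    have h1 : (j : ℝ) ^ 2 * 2 + 2 * j ≤ 0 := by nlinarith [sq_nonneg (j : ℝ)]
    have h2 : j ^ 2 * 2 + 2 * j ≤ 0 := by exact_mod_cast h1
    have h3 : j = 0 ∨ j = -1 := by
      rcases le_or_gt j 0 with h | h
      · rcases le_or_gt (-1) j with h' | h'
        · omega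
        · exfalso; nlinarith
      · exfalso; nlinarith
    rcases h3 with h | h
    · exact Or.inl h
    refine Or.inr ⟨h, ?_⟩
    rw [h] at h0
    push_cast at h0
    refine (Finset.eq_of_subset_of_card_le hpair ?_).symm
    by_contra hc
    obtain ⟨η, hη, hη'⟩ := Finset.exists_mem_notMem_of_card_lt_card (not_le.1 hc)
    have hsub : insert η ({η₀, η₀'} : Finset (N → ℂ)) ⊆ Y :=
      Finset.insert_subset hη hpair
    have h5 := Finset.sum_le_sum_of_subset_of_nonneg (f := fun η => ρ η ^ 2) hsub fun x _ _ => sq_nonneg _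
    rw [Finset.sum_insert hη', Finset.sum_pair hη₀ne, hρ0, hρ0', ← hQ] at h5
    have h6 : 0 < ρ η ^ 2 := by
      have : 0 < deg η := deg_pos (hirrY η hη)
      positivity
    nlinarith
  have hYzero : (j : ℝ) ^ 2 * Q + 2 * j = 0 := by
    rcases hjcase with h | ⟨h, hYe⟩
    · rw [h]; push_cast; ring
    · rw [h, hQ, hYe, Finset.sum_pair hη₀ne, hρ0, hρ0']; norm_num
  have hrest : β = P0 := by
    refine sub_eq_zero.1 (eq_zero_of_re_zero ?_)
    rw [hpy, Complex.sub_re, Complex.ofReal_re, Complex.re_sum]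
    simp only [Complex.ofReal_re]
    rw [Finset.sum_union hdisj, hXsum, hYsum, hXzero, hYzero, sub_eq_zero]
    ring
  -- adjust the two extensions
  have hsumX : ∃ σ' : (N → ℂ) → (G → ℂ), IsLinearIsometryOn (zspan (↑X : Set (N → ℂ))) σ' ∧
      (∀ v ∈ zspanOn (↑X : Set (N → ℂ)) {1}ᶜ, σ' v = I v) ∧
      ∑ φ ∈ X, ((B φ : ℝ) : ℂ) • f φ = -((a : ℂ) • σ' χ₁) := by
    rcases hkcase with rfl | ⟨rfl, hc2⟩
    · refine ⟨σ, hσ, hσI, ?_⟩
      rw [mul_zero] at hk'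
      rw [Finset.sum_eq_single χ₁ (fun φ hφ h => by rw [hBX φ hφ, hbXk φ hφ, if_neg h, hk']; simp)
        (fun h => absurd hχ₁ h), hBX χ₁ hχ₁, hbXk χ₁ hχ₁, if_pos rfl, hk', hfX χ₁ hχ₁]
      simp
    · have hXe : X = {χ₁, conjFun χ₁} := (Finset.eq_of_subset_of_card_le (by
        intro x hx
        rcases Finset.mem_insert.1 hx with rfl | hx
        · exact hχ₁
        · rw [Finset.mem_singleton] at hx; rw [hx]; exact hχ₁c) (by rw [Finset.card_pair hχ₁ne]; omega)).symm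
      have hXc : (↑X : Set (N → ℂ)) = {χ₁, conjFun χ₁} := by rw [hXe]; simp
      obtain ⟨σ', h1, h2, h3⟩ := flip_two (hirrX χ₁ hχ₁) (hirrX _ hχ₁c) hχ₁ne
        (by rw [hone _ (hirrX χ₁ hχ₁), hone _ (hirrX _ hχ₁c), deg_conjFun])
        (hXc ▸ hσ) (fun v hv => hσI v (hXc.symm ▸ hv))
      refine ⟨σ', hXc.symm ▸ h1, fun v hv => h2 v (hXc ▸ hv), ?_⟩
      rw [mul_one] at hk'
      rw [hXe, Finset.sum_pair hχ₁ne, hBX χ₁ hχ₁, hBX _ hχ₁c, hbXk χ₁ hχ₁, hbXk _ hχ₁c, if_pos rfl,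
        if_neg hχ₁ne.symm, hk', hfX _ hχ₁c, h3]
      simp
  have hsumY : ∃ τ' : (N → ℂ) → (G → ℂ), IsLinearIsometryOn (zspan (↑Y : Set (N → ℂ))) τ' ∧
      (∀ v ∈ zspanOn (↑Y : Set (N → ℂ)) {1}ᶜ, τ' v = I v) ∧
      ∑ φ ∈ Y, ((B φ : ℝ) : ℂ) • f φ = τ' η₀ := by
    rcases hjcase with h | ⟨h, hYe⟩
    · refine ⟨τ, hτ, hτI, ?_⟩
      rw [Finset.sum_eq_single η₀ (fun φ hφ hne => by rw [hBY φ hφ, hcYj φ hφ, if_neg hne, h]; simp)
        (fun h' => absurd hη₀ h'), hBY η₀ hη₀, hcYj η₀ hη₀, if_pos rfl, h, hfY η₀ hη₀]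
      simp
    · have hYc : (↑Y : Set (N → ℂ)) = {η₀, η₀'} := by rw [hYe]; simp
      obtain ⟨τ', h1, h2, h3⟩ := flip_two (hirrY η₀ hη₀) (hirrY _ hη₀'Y) hη₀ne
        (by rw [hone _ (hirrY η₀ hη₀), hone _ (hirrY _ hη₀'Y), deg_conjFun])
        (hYc ▸ hτ) (fun v hv => hτI v (hYc.symm ▸ hv))
      refine ⟨τ', hYc.symm ▸ h1, fun v hv => h2 v (hYc ▸ hv), ?_⟩
      rw [hYe, Finset.sum_pair hη₀ne, hBY η₀ hη₀, hBY _ hη₀'Y, hcYj η₀ hη₀, hcYj _ hη₀'Y, if_pos rfl,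
        if_neg hη₀ne.symm, h, hfY _ hη₀'Y, h3]
      have e1 : (deg η₀ : ℝ) / deg η₀ = 1 := div_self hd0
      have e2 : (deg η₀' : ℝ) / deg η₀ = 1 := hρ0'
      rw [e1, e2]
      simp
  obtain ⟨σ', hσ', hσ'I, hσ'e⟩ := hsumX
  obtain ⟨τ', hτ', hτ'I, hτ'e⟩ := hsumY
  have hbase : β = τ' η₀ - (a : ℂ) • σ' χ₁ := by
    rw [hrest, hP0, Finset.sum_union hdisj, hσ'e, hτ'e]; abel
  have hcohXY := coherent_union (chSet K0 ⊥) (↑X) (↑Y) (fun ξ hξ => hξ.1) hXS hYS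
    (Finset.disjoint_coe.2 hdisj) ⟨χ₁, hχ₁, _, hχ₁c, hχ₁ne⟩ ⟨η₀, hη₀, η₀', hη₀'Y, hη₀ne⟩
    I hiso' hone' σ' τ' hσ' hσ'I hτ' hτ'I ⟨χ₁, hχ₁, η₀, hη₀, by
      have e1 : χ₁ 1 • η₀ - η₀ 1 • χ₁ = (((e : ℤ)) : ℂ) • v₀ := by
        rw [hv₀, hone χ₁ (hirrX χ₁ hχ₁), hone η₀ (hirrY η₀ hη₀), hdegX χ₁ hχ₁, hdη₀]
        push_cast
        rw [smul_sub, smul_smul]
      rw [e1, iso_smul hiso' hv₀m, ← hβ, hbase, hone χ₁ (hirrX χ₁ hχ₁), hone η₀ (hirrY η₀ hη₀),
        hdegX χ₁ hχ₁, hdη₀, smul_sub, smul_smul]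
      push_cast
      rfl⟩
  rw [← Finset.coe_union] at hcohXY
  -- add the remaining characters
  obtain ⟨S, hS, heS⟩ := szFin_sum K0 hC0 hZH
  rw [← chFin_coe]
  suffices hfinal : IsCoherent (↑(chFin K0 ⊥) : Set (N → ℂ)) {1}ᶜ I by convert hfinal
  have hsubT : X ∪ Y ⊆ chFin K0 ⊥ := fun χ hχ => mem_chFin.2
    ((Finset.mem_union.1 hχ).elim (fun h => hXS h) (fun h => hYS h))
  refine coherent_add_many (X ∪ Y) (chFin K0 ⊥)
    (fun χ hχ => (mem_chFin.1 ((Finset.mem_union.1 hχ).elim (fun h => hsubT h) id)).1) hsubT I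
    (by rw [chFin_coe]; exact hiso') (fun α hα => hone' α (by rwa [chFin_coe] at hα)) hcohXY
    (Finset.mem_union_left _ hχ₁) fun χ hχ hχn => ?_
  have hχZ : χ ∈ chSet K0 Z := by
    by_contra h
    exact hχn (Finset.mem_union_right _ ((mem_szFin K0).2 ⟨mem_chFin.1 hχ, h⟩))
  obtain ⟨t, ht0, hdeg, ht⟩ := chSet_deg_sq_le K0 hC0 (M := Z) (E := Z)
    (fun z hz h hh => by rw [hZc z hz h (by exact hh)]; simp) hχZ
  rw [hdegX χ₁ hχ₁, hdeg, ← he]
  refine ⟨dvd_mul_right _ _, ?_⟩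
  have hZcard : 2 * e + 1 ≤ Nat.card Z := by
    have h := relIndex_ge K0 hC0 ⊥ Z bot_le hZH (Ne.symm hZ1)
    rw [Subgroup.relIndex_bot_left, ← he] at h
    have hZodd : Odd (Nat.card Z) := hoddN.of_dvd_nat Z.card_subgroup_dvd_card
    obtain ⟨k0, hk0, -⟩ := chFin_sum_sq K0 hC0 ⊥ bot_le
    obtain ⟨kZ, hkZ, -⟩ := chFin_sum_sq K0 hC0 Z hZH
    rw [Subgroup.relIndex_bot_left, ← he] at hk0
    rw [← he] at hkZ
    have h2 := Subgroup.relIndex_mul_relIndex ⊥ Z K0 bot_le hZH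
    rw [Subgroup.relIndex_bot_left, Subgroup.relIndex_bot_left, hk0, hkZ] at h2
    by_contra hc
    obtain ⟨u, hu⟩ : ∃ u, Nat.card Z = e + 1 + u := Nat.exists_eq_add_of_le h
    have hdv : e ∣ u := by
      have h3 : (e : ℤ) ∣ (u : ℤ) := ⟨(k0 : ℤ) - (Nat.card Z : ℤ) * kZ - 1, by
        have h2' : ((Nat.card Z : ℤ)) * ((e : ℤ) * kZ + 1) = (e : ℤ) * k0 + 1 := by exact_mod_cast h2
        have hu' : (Nat.card Z : ℤ) = e + 1 + u := by exact_mod_cast hu
        linear_combination h2' - hu'⟩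
      exact_mod_cast h3
    have hu0 : u = 0 := by
      rcases Nat.eq_zero_or_pos u with h | h
      · exact h
      · have := Nat.le_of_dvd h hdv
        omega
    obtain ⟨x, hx⟩ := heodd
    obtain ⟨y, hy⟩ := hZodd
    omega
  have hS2 : 2 * Z.relIndex K0 ≤ S := by
    refine Nat.le_of_mul_le_mul_left ?_ he0
    rw [← he] at heS
    rw [heS, show e * (2 * Z.relIndex K0) = Z.relIndex K0 * (2 * e) by ring]
    exact Nat.mul_le_mul_left _ (by omega)
  rw [Finset.sum_union hdisj, hsum₁, hS, ← he]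
  have hk1pos : 0 < k₁ := by
    by_contra h
    rw [show k₁ = 0 by omega, mul_zero] at hsum₁
    have h2 := Finset.sum_eq_zero_iff.1 hsum₁ χ₁ hχ₁
    rw [hdegX χ₁ hχ₁] at h2
    exact absurd h2 (pow_pos he0 2).ne'
  have htt : t ≤ t ^ 2 := Nat.le_self_pow two_ne_zero t
  have key : 2 * t < k₁ + S := by omega
  calc 2 * e * (e * t) = e ^ 2 * (2 * t) := by ring
    _ < e ^ 2 * (k₁ + S) := Nat.mul_lt_mul_of_pos_left key (pow_pos he0 2)
    _ = _ := by ring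

end Cfsg.Agent.Char
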