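import Cfsg.Agent.Lib.Char.Basic

/-!
The character of the skew part of the square of a representation.
-/

set_option autoImplicit false

namespace Cfsg.Agent.Char

open Cfsg Matrix

universe u

variable {G : Type u} [Group G]

set_option maxHeartbeats 600000 in
/-- The skew part of the square of a character is a character. -/
theorem isCharacter_skew {χ : G → ℂ} (h : IsCharacter G χ) :
    IsCharacter G (fun g => (χ g * χ g - χ (g * g)) / 2) := by
  classical
  obtain ⟨n, ρ, rfl⟩ := h
  let mat : G →* Matrix (Fin n) (Fin n) ℂ :=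
    { toFun := fun g => LinearMap.toMatrix' (ρ g)
      map_one' := by rw [map_one]; exact LinearMap.toMatrix'_one
      map_mul' := fun a b => by rw [map_mul]; exact LinearMap.toMatrix'_mul _ _ }
  let σ : Representation ℂ G (Matrix (Fin n) (Fin n) ℂ) :=
    { toFun := fun g =>
        { toFun := fun X => mat g * X * (mat g)ᵀ
          map_add' := fun X Y => by rw [mul_add, add_mul]
          map_smul' := fun c X => by rw [mul_smul_comm, smul_mul_assoc, RingHom.id_apply] }
      map_one' := LinearMap.ext fun X => by simp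
      map_mul' := fun a b => LinearMap.ext fun X => by
        simp [map_mul, Matrix.transpose_mul, mul_assoc] }
  let W : Submodule ℂ (Matrix (Fin n) (Fin n) ℂ) :=
    { carrier := {X | Xᵀ = -X}
      zero_mem' := by simp
      add_mem' := fun {X Y} hX hY => by
        simp only [Set.mem_setOf_eq] at *
        rw [Matrix.transpose_add, hX, hY, neg_add]
      smul_mem' := fun c X hX => by
        simp only [Set.mem_setOf_eq] at *
        rw [Matrix.transpose_smul, hX, smul_neg] }
  have hW : ∀ g, ∀ X ∈ W, σ g X ∈ W := by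
    intro g X hX
    show (mat g * X * (mat g)ᵀ)ᵀ = -(mat g * X * (mat g)ᵀ)
    change Xᵀ = -X at hX
    rw [Matrix.transpose_mul, Matrix.transpose_mul, Matrix.transpose_transpose, hX, neg_mul, mul_neg, mul_assoc]
  let τ : Representation ℂ G W :=
    { toFun := fun g => (σ g).restrict (hW g)
      map_one' := LinearMap.ext fun X => Subtype.ext (by simp [LinearMap.restrict_apply])
      map_mul' := fun a b => LinearMap.ext fun X => Subtype.ext (by simp [LinearMap.restrict_apply]) }
  suffices hτ : τ.character = fun g => (ρ.character g * ρ.character g - ρ.character (g * g)) / 2 by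
    exact hτ ▸ isCharacter_character τ
  funext g
  let T : Matrix (Fin n) (Fin n) ℂ →ₗ[ℂ] Matrix (Fin n) (Fin n) ℂ :=
    (Matrix.transposeLinearEquiv (Fin n) (Fin n) ℂ ℂ).toLinearMap
  let L : Matrix (Fin n) (Fin n) ℂ →ₗ[ℂ] Matrix (Fin n) (Fin n) ℂ :=
    (2 : ℂ)⁻¹ • (σ g - σ g ∘ₗ T)
  have hσT : ∀ X, (σ g X)ᵀ = σ g Xᵀ := fun X => by
    show (mat g * X * (mat g)ᵀ)ᵀ = mat g * Xᵀ * (mat g)ᵀ
    rw [Matrix.transpose_mul, Matrix.transpose_mul, Matrix.transpose_transpose, mul_assoc]
  have hσ : ∀ x X, σ x X = mat x * X * (mat x)ᵀ := fun _ _ => rfl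
  have hrepr : ∀ (Y : Matrix (Fin n) (Fin n) ℂ) i j, (Matrix.stdBasis ℂ (Fin n) (Fin n)).repr Y (i, j) = Y i j :=
    fun Y i j => by simp [Matrix.stdBasis]
  have hLW : ∀ X, L X ∈ W := fun X => by
    show ((2 : ℂ)⁻¹ • (σ g X - σ g Xᵀ))ᵀ = -((2 : ℂ)⁻¹ • (σ g X - σ g Xᵀ))
    rw [Matrix.transpose_smul, Matrix.transpose_sub, hσT, hσT, Matrix.transpose_transpose, ← smul_neg, neg_sub]
  have htr : LinearMap.trace ℂ _ L = τ.character g := by
    rw [← LinearMap.trace_restrict_eq_of_forall_mem W L hLW]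
    show LinearMap.trace ℂ W (L.restrict fun X _ => hLW X) = LinearMap.trace ℂ W ((σ g).restrict (hW g))
    refine congrArg _ (LinearMap.ext fun X => Subtype.ext ?_)
    show (2 : ℂ)⁻¹ • (σ g (X : Matrix (Fin n) (Fin n) ℂ) - σ g (X : Matrix (Fin n) (Fin n) ℂ)ᵀ) = σ g X
    rw [show ((X : Matrix (Fin n) (Fin n) ℂ))ᵀ = -(X : Matrix (Fin n) (Fin n) ℂ) from X.2, map_neg, sub_neg_eq_add,
      ← two_smul ℂ, smul_smul]
    norm_num
  have hmat : ∀ x, ρ.character x = ∑ i, mat x i i := fun x => by
    show LinearMap.trace ℂ _ (ρ x) = _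
    rw [LinearMap.trace_eq_matrix_trace ℂ (Pi.basisFun ℂ (Fin n)), LinearMap.toMatrix_eq_toMatrix']
    rfl
  have h1 : LinearMap.trace ℂ _ (σ g) = ρ.character g * ρ.character g := by
    rw [LinearMap.trace_eq_matrix_trace ℂ (Matrix.stdBasis ℂ (Fin n) (Fin n)), Matrix.trace, hmat, Finset.sum_mul_sum,
      ← Finset.univ_product_univ, Finset.sum_product]
    refine Finset.sum_congr rfl fun i _ => Finset.sum_congr rfl fun j _ => ?_
    rw [Matrix.diag_apply, LinearMap.toMatrix_apply, Matrix.stdBasis_eq_single]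
    rw [hσ, hrepr]
    simp [Matrix.mul_apply, Matrix.single_apply, ite_and]
  have h2 : LinearMap.trace ℂ _ (σ g ∘ₗ T) = ρ.character (g * g) := by
    rw [LinearMap.trace_eq_matrix_trace ℂ (Matrix.stdBasis ℂ (Fin n) (Fin n)), Matrix.trace, hmat, map_mul,
      ← Finset.univ_product_univ, Finset.sum_product]
    simp only [Matrix.mul_apply]
    refine Finset.sum_congr rfl fun i _ => Finset.sum_congr rfl fun j _ => ?_
    rw [Matrix.diag_apply, LinearMap.toMatrix_apply, Matrix.stdBasis_eq_single]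
    rw [LinearMap.comp_apply, hσ, hrepr]
    simp only [T, LinearEquiv.coe_coe, Matrix.transposeLinearEquiv_apply]
    simp [Matrix.mul_apply, Matrix.single_apply, ite_and]
  rw [← htr]
  show LinearMap.trace ℂ _ ((2 : ℂ)⁻¹ • (σ g - σ g ∘ₗ T)) = _
  rw [map_smul, map_sub, h1, h2, smul_eq_mul]
  ring

end Cfsg.Agent.Char
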