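import Cfsg.Agent.Lib.Char.SmallBlock
import Cfsg.Agent.Lib.Char.FiveForms.Dim
import Cfsg.Agent.Lib.Char.KleinFourBlock
import Cfsg.Agent.Lib.Char.SubsectionForm
import Cfsg.Agent.Lib.Char.FirstMain

/-!
# Blocks of rank one with five characters, and odd ranks of small 2-blocks
-/

set_option autoImplicit false
set_option linter.unusedSectionVars false

namespace Cfsg.Agent.Char.SmallBlockFive

open Cfsg Module

universe u

variable {G : Type u} [Group G] [Fintype G] {M : Ideal AlgInt} {p : ℕ} {B : Set (IrrCharacter G)}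

open scoped Classical in
/-- The basic algebra of such a block has dimension at most ten. -/
theorem dim_five (hM : IsPModular p M) (hB : IsPBlock M B) (hl : blockRank p B = 1) (hk : Nat.card B ≤ 5) :
    ∃ n m : ℕ, p ^ (Nat.card G).factorization p ∣ n * m ∧ m ≤ 10 ∧
      (∑ χ : IrrCharacter G with χ ∈ B, (χ : G → ℂ) 1 * (χ : G → ℂ) 1) = ((n ^ 2 * m : ℕ) : ℂ) := by
  have hPr := pmod_prime hM
  set e := rdAlg hPr (blockCoeff B) with he
  have heR : ∀ g, MemLocalRing M (blockCoeff B g) := fun g => memLR_blockCoeff hM hB g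
  have hee : IsIdempotentElem e := by
    show e * e = e
    rw [he, ← rdAlg_conv hPr heR heR, conv_blockCoeff]
  have hne : e ≠ 0 := fun h => by
    obtain ⟨g, hg⟩ := exists_defectClass hM hB
    exact hg.2.1 ((rdAlg_eq_zero_iff hPr heR).mp h g)
  haveI : Module.Finite (Res hPr) (MonoidAlgebra (Res hPr) G) :=
    Module.Finite.of_injective (coeL hPr) (coeL_injective hPr)
  obtain ⟨n, f, A, N, -, hff, hmemA, hfA, hNA, hfN, hdec, hNN, hnil, hdim, hR, hforms⟩ :=
    exists_local_corner hee (rdAlg_central hPr (isClassFunction_blockCoeff B)) hne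
      (fun n₁ n₂ π₁ π₂ h1 h2 e1 e2 hs => one_simple hM hB hl n₁ n₂ π₁ π₂ h1 h2 e1 e2 hs)
      (SmallBlock.many_forms hM hB (le_refl (Nat.card B)))
  have hl' : ∀ a ∈ A, f * a = a := fun a ha => by
    conv_lhs => rw [← (hmemA a).mp ha, ← mul_assoc, ← mul_assoc, hff.eq]
    exact (hmemA a).mp ha
  have hr' : ∀ a ∈ A, a * f = a := fun a ha => by
    conv_lhs => rw [← (hmemA a).mp ha, mul_assoc, hff.eq]
    exact (hmemA a).mp ha
  let τ : MonoidAlgebra (Res hPr) G →ₗ[Res hPr] Res hPr :=
    (LinearMap.proj (1 : G)).comp (coeL hPr)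
  have hcor : LocalSymm.Corner f A N τ :=
    { mem := hfA, left := hl', right := hr', le := hNA, notMem := hfN, decomp := hdec
      mul_le := hNN, nilp := hnil
      symm := SmallBlock.coeff_one_comm
      nondeg := fun a ha ha0 => by
        obtain ⟨g, hg⟩ : ∃ g, a.coeff g ≠ 0 := by
          by_contra h
          push Not at h
          exact ha0 (MonoidAlgebra.coeff_injective (Finsupp.ext fun g => by simp [h g]))
        refine ⟨f * MonoidAlgebra.single g⁻¹ (1 : Res hPr) * f, (hmemA _).mpr ?_, ?_⟩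
        · simp only [← mul_assoc, hff.eq]
          rw [mul_assoc _ f f, hff.eq]
        · show (a * (f * MonoidAlgebra.single g⁻¹ (1 : Res hPr) * f)).coeff 1 ≠ 0
          rw [← mul_assoc, ← mul_assoc, hr' a ha, SmallBlock.coeff_one_comm, ← mul_assoc, hl' a ha,
            SmallBlock.coeff_one_comm, SmallBlock.coeff_single_mul]
          simpa using hg }
  have hle : finrank (Res hPr) A ≤ 10 := FiveForms.finrank_le_ten hcor fun W hW hc =>
    (hforms W hW hc).trans (Nat.add_le_add_left hk _)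
  refine ⟨n, finrank (Res hPr) A, hR ▸ SmallBlock.sylow_dvd_finrank hM hff, hle, ?_⟩
  rw [← hdim, finrank_block_algebra hPr hM hB]

/-- The defect group has order at most ten. -/
theorem pow_defect_le (hM : IsPModular p M) (hB : IsPBlock M B) (hl : blockRank p B = 1) (hk : Nat.card B ≤ 5) :
    p ^ blockDefect p B ≤ 10 := by
  classical
  have hp := hM.1
  obtain ⟨n, m, hdvd, hm, hS⟩ := dim_five hM hB hl hk
  have hS' : (∑ᶠ χ ∈ B, charDegree (χ : G → ℂ) ^ 2) = n ^ 2 * m := by
    have : ((∑ᶠ χ ∈ B, charDegree (χ : G → ℂ) ^ 2 : ℕ) : ℂ) = ((n ^ 2 * m : ℕ) : ℂ) := by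
      rw [← hS, finsum_mem_irr, Nat.cast_sum]
      refine Finset.sum_congr rfl fun χ _ => ?_
      rw [Nat.cast_pow, charDegree_eq_deg, ← char_one_eq_deg (irr_isCharacter χ.2), pow_two]
    exact_mod_cast this
  obtain ⟨χ0, hχ0⟩ := block_nonempty (pmod_prime hM) hB
  have hS0 : n ^ 2 * m ≠ 0 := by
    intro h
    rw [← hS', finsum_mem_irr] at h
    have h1 := (Finset.sum_eq_zero_iff.mp h) χ0 (Finset.mem_filter.mpr ⟨Finset.mem_univ _, hχ0⟩)
    rw [charDegree_eq_deg] at h1
    refine irr_one_ne_zero χ0.2 ?_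
    rw [char_one_eq_deg (irr_isCharacter χ0.2), pow_eq_zero_iff two_ne_zero |>.mp h1, Nat.cast_zero]
  obtain ⟨hn0, hm0⟩ := mul_ne_zero_iff.mp hS0
  have hn1 : n ≠ 0 := fun h => hn0 (by simp [h])
  have hv := factorization_sum_sq hM hB
  rw [hS', Nat.factorization_mul hn0 hm0, Nat.factorization_pow] at hv
  simp only [Finsupp.add_apply, Finsupp.smul_apply, smul_eq_mul] at hv
  have h2 := (hp.pow_dvd_iff_le_factorization (mul_ne_zero hn1 hm0)).mp hdvd
  rw [Nat.factorization_mul hn1 hm0, Finsupp.add_apply] at h2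
  have hd := dmin_add_defect (p := p) (G := G) (block_nonempty (pmod_prime hM) hB)
  exact (Nat.le_of_dvd (Nat.pos_of_ne_zero hm0)
    ((hp.pow_dvd_iff_le_factorization hm0).mpr (by omega))).trans hm

theorem five_squares {a b c d e N : ℕ} (ha : a ≠ 0) (hb : b ≠ 0) (hc : c ≠ 0) (hd : d ≠ 0) (he : e ≠ 0)
    (h : a ^ 2 + b ^ 2 + c ^ 2 + d ^ 2 + e ^ 2 = N) (hN : N ≤ 10) : N = 5 ∨ N = 8 := by
  have key : ∀ a : ℕ, a ≠ 0 → a ^ 2 + 4 ≤ 10 → a = 1 ∨ a = 2 := fun a ha h => by
    have : a < 3 := by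
      by_contra hh
      have := Nat.pow_le_pow_left (show 3 ≤ a by omega) 2
      omega
    omega
  have q : ∀ a : ℕ, a ≠ 0 → 1 ≤ a ^ 2 := fun a ha => Nat.one_le_pow _ _ (Nat.pos_of_ne_zero ha)
  have := q a ha; have := q b hb; have := q c hc; have := q d hd; have := q e he
  obtain rfl | rfl := key a ha (by omega) <;> obtain rfl | rfl := key b hb (by omega) <;>
    obtain rfl | rfl := key c hc (by omega) <;> obtain rfl | rfl := key d hd (by omega) <;>
    obtain rfl | rfl := key e he (by omega) <;> omega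

/-- The order of the defect group is five or eight. -/
theorem card_five_or_eight (hM : IsPModular p M) (hB : IsPBlock M B) (hl : blockRank p B = 1)
    (hk : Nat.card B = 5) : p ^ blockDefect p B = 5 ∨ p ^ blockDefect p B = 8 := by
  classical
  have hle := pow_defect_le hM hB hl hk.le
  obtain ⟨φ, d, -, hval, hC⟩ := exists_cartan_rank_one hM hB hl
  have hd0 : ∀ χ ∈ bset B, d χ ≠ 0 := fun χ hχ h => irr_one_ne_zero χ.2 (by
    rw [hval χ (mem_bset.mp hχ) 1 (by simp [hM.1.ne_one]), h, Nat.cast_zero, zero_mul])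
  have hcard : (bset B).card = 5 := by rw [← hk, CentralClass.natCard_eq_bset]
  let ι : Fin 5 ≃ ↥(bset B) := (Fintype.equivFinOfCardEq (by rw [Fintype.card_coe, hcard])).symm
  rw [← Finset.sum_coe_sort (bset B) fun χ => d χ ^ 2, ← Equiv.sum_comp ι, Fin.sum_univ_five] at hC
  exact five_squares (hd0 _ (ι 0).2) (hd0 _ (ι 1).2) (hd0 _ (ι 2).2) (hd0 _ (ι 3).2) (hd0 _ (ι 4).2) hC hle

open scoped Classical in
/-- With all local ranks odd, the ranks of an abelian 2-block differ by an odd number from `k(B)`. -/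
theorem count_odd (hM : IsPModular 2 M) {D : Subgroup G}
    {e : Set (IrrCharacter (Subgroup.centralizer (D : Set G)))} (hmax : IsMaximalBrauerPair 2 M B D e)
    (hab : ∀ x ∈ D, ∀ y ∈ D, x * y = y * x) {d : ℕ} (hd : d ≠ 0) (hD : Nat.card D = 2 ^ d)
    (hodd : ∀ (x : G) (b : Set (IrrCharacter (Subgroup.centralizer ({x} : Set G)))),
      (∃ j : ℕ, orderOf x = 2 ^ j) → x ≠ 1 → IsPBlock M b → blockDefect 2 b = blockDefect 2 B →
      Odd (blockRank 2 b)) :
    ∃ o : ℕ, Odd o ∧ Nat.card B = blockRank 2 B + o := by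
  have hMp := pmod_prime hM
  obtain ⟨Φ, hΦ, hfib, hcount⟩ := SubsectionOrbits.card_eq_rank_add hM hmax hab
  set S := Finset.univ.filter (fun z : G => z ∈ D ∧ z ≠ 1) with hS
  refine ⟨_, ?_, hcount⟩
  have hScard : S.card = 2 ^ d - 1 := by
    have h1 : S = ((D : Set G).toFinset).erase 1 := by ext z; simp [hS, and_comm]
    rw [h1, Finset.card_erase_of_mem (by simp), Set.toFinset_card, ← Nat.card_eq_fintype_card, ← hD]
    rfl
  set T := pairStab hMp hmax.1.1.2 with hT
  letI : MulAction T G := MulAction.compHom G ((MulAut.conj : G →* MulAut G).comp T.subtype)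
  have hsmul : ∀ (t : T) (z : G), t • z = (t : G) * z * (t : G)⁻¹ := fun _ _ => rfl
  have hfibcard : ∀ a ∈ S.image Φ, Odd (S.filter fun z => Φ z = a).card := by
    intro a ha
    obtain ⟨z, hz, rfl⟩ := Finset.mem_image.mp ha
    obtain ⟨hzD, hz1⟩ := (Finset.mem_filter.mp hz).2
    have hset : (↑(S.filter fun w => Φ w = Φ z) : Set G) = MulAction.orbit T z := by
      ext w
      simp only [Finset.coe_filter, Set.mem_setOf_eq, MulAction.mem_orbit_iff, hsmul]
      constructor
      · rintro ⟨hw, hwz⟩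
        obtain ⟨hwD, hw1⟩ := (Finset.mem_filter.mp hw).2
        obtain ⟨t, ht, htz⟩ := (hfib z hzD hz1 w hwD hw1).mp hwz.symm
        exact ⟨⟨t, ht⟩, htz⟩
      · rintro ⟨t, rfl⟩
        have htD : (t : G) * z * (t : G)⁻¹ ∈ D :=
          (Subgroup.mem_normalizer_iff.mp ((mem_pairStab hMp _).mp t.2).1 z).mp hzD
        have ht1 : (t : G) * z * (t : G)⁻¹ ≠ 1 := fun h => hz1 (conj_eq_one_iff.mp h)
        exact ⟨Finset.mem_filter.mpr ⟨Finset.mem_univ _, htD, ht1⟩,
          ((hfib z hzD hz1 _ htD ht1).mpr ⟨t, t.2, rfl⟩).symm⟩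
    rw [← Set.ncard_coe_finset, hset, ← MulAction.index_stabilizer]
    have hle : (Subgroup.centralizer (D : Set G)).subgroupOf T ≤ MulAction.stabilizer T z := fun t ht => by
      have ht' : (t : G) ∈ Subgroup.centralizer (D : Set G) := ht
      rw [MulAction.mem_stabilizer_iff, hsmul, ← Subgroup.mem_centralizer_iff.mp ht' z hzD, mul_inv_cancel_right]
    have h0 : ((Subgroup.centralizer (D : Set G)).relIndex T).factorization 2 = 0 :=
      KleinBlock.inertial_prime hM hmax hab
    have hne : (Subgroup.centralizer (D : Set G)).relIndex T ≠ 0 := Subgroup.index_ne_zero_of_finite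
    have h2 : ¬ 2 ∣ (Subgroup.centralizer (D : Set G)).relIndex T := fun h => by
      have := (Nat.prime_two.dvd_iff_one_le_factorization hne).mp h
      omega
    exact Nat.not_even_iff_odd.mp fun he => h2 (he.two_dvd.trans (Subgroup.index_dvd_of_le hle))
  have hl : ∀ a ∈ S.image Φ, Odd (blockRank 2 a.2) := by
    intro a ha
    obtain ⟨z, hz, rfl⟩ := Finset.mem_image.mp ha
    obtain ⟨hzD, hz1⟩ := (Finset.mem_filter.mp hz).2
    obtain ⟨hj, hconj, hind, hdef⟩ := hΦ z hzD hz1
    obtain ⟨c, hc⟩ := isConj_iff.mp hconj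
    exact hodd _ _ hj (fun h => hz1 (conj_eq_one_iff.mp (hc.trans h))) hind.1 hdef
  rw [Finset.odd_sum_iff_odd_card_odd, Finset.filter_true_of_mem fun a ha => hl a ha]
  have hsum : Odd (∑ a ∈ S.image Φ, (S.filter fun z => Φ z = a).card) := by
    rw [← Finset.card_eq_sum_card_image, hScard]
    exact Nat.Even.sub_odd Nat.one_le_two_pow ((even_two).pow_of_ne_zero hd) odd_one
  rwa [Finset.odd_sum_iff_odd_card_odd, Finset.filter_true_of_mem fun a ha => hfibcard a ha] at hsum

/-- A central element of order equal to the defect group makes the defect group central. -/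
theorem rank_one_of_full (hM : IsPModular p M) (hB : IsPBlock M B) {z : G} (hzc : ∀ c, z * c = c * z)
    (hzo : orderOf z = p ^ blockDefect p B) : blockRank p B = 1 := by
  haveI := Fact.mk hM.1
  obtain ⟨D, hD⟩ := exists_isDefectGroup hM hB
  haveI : (Subgroup.zpowers z).Normal := ⟨fun y hy w => by
    obtain ⟨i, rfl⟩ := Subgroup.mem_zpowers_iff.mp hy
    rw [← ((show Commute z w from hzc w).zpow_left i).eq, mul_inv_cancel_right]
    exact hy⟩
  have hle := pCore_le_defectGroup hM hB hD (Subgroup.zpowers z)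
    (IsPGroup.of_card (n := blockDefect p B) (by rw [Nat.card_zpowers, hzo]))
  have heq : Subgroup.zpowers z = D :=
    Subgroup.eq_of_le_of_card_ge hle (by rw [card_defectGroup hM hB hD, Nat.card_zpowers, hzo])
  refine blockRank_eq_one_of_central hM hB hD ?_
  rw [← heq, Subgroup.zpowers_le, Subgroup.mem_center_iff]
  exact fun w => (hzc w).symm

theorem order_le (hM : IsPModular p M) (hB : IsPBlock M B) {z : G} (hzc : ∀ c, z * c = c * z) {j : ℕ}
    (hzo : orderOf z = p ^ j) : j ≤ blockDefect p B := by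
  haveI := Fact.mk hM.1
  obtain ⟨D, hD⟩ := exists_isDefectGroup hM hB
  haveI : (Subgroup.zpowers z).Normal := ⟨fun y hy w => by
    obtain ⟨i, rfl⟩ := Subgroup.mem_zpowers_iff.mp hy
    rw [← ((show Commute z w from hzc w).zpow_left i).eq, mul_inv_cancel_right]
    exact hy⟩
  have hle := Subgroup.card_le_of_le (pCore_le_defectGroup hM hB hD (Subgroup.zpowers z)
    (IsPGroup.of_card (n := j) (by rw [Nat.card_zpowers, hzo])))
  rw [Nat.card_zpowers, hzo, card_defectGroup hM hB hD] at hle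
  exact (Nat.pow_le_pow_iff_right hM.1.one_lt).mp hle

/-- A block of defect one. -/
theorem odd_rank_one (hM : IsPModular 2 M) (hB : IsPBlock M B) (hd : blockDefect 2 B = 1) :
    Odd (blockRank 2 B) := by
  have hk := CentralClass.card_le_kBound hM 1 B hB hd
  have hle := blockRank_le_card (B := B) (p := 2)
  have hpos := KleinBlock.rank_pos hM hB
  rw [CentralClass.kBound, if_pos (by omega), pow_one] at hk
  have hne : blockRank 2 B ≠ Nat.card B := fun h => by
    have := (defect_zero_iff_rank hM hB).2.mpr h.symm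
    omega
  exact ⟨0, by omega⟩

/-- A block of defect two. -/
theorem odd_rank_two (hM : IsPModular 2 M) (hB : IsPBlock M B) (hd : blockDefect 2 B = 2) :
    Odd (blockRank 2 B) := by
  classical
  haveI : Fact (Nat.Prime 2) := ⟨Nat.prime_two⟩
  obtain ⟨D, hD⟩ := exists_isDefectGroup hM hB
  have hD4 : Nat.card D = 2 ^ 2 := by rw [card_defectGroup hM hB hD, hd]
  obtain ⟨e, he⟩ := exists_pair_of_le_defect hM hB hD le_rfl
  have hab : ∀ x ∈ D, ∀ y ∈ D, x * y = y * x := fun x hx y hy =>
    congrArg Subtype.val (IsPGroup.commutative_of_card_eq_prime_sq (p := 2) hD4 ⟨x, hx⟩ ⟨y, hy⟩)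
  obtain ⟨o, ho, hk⟩ := count_odd hM (maximal_of_defect hM hD he) hab two_ne_zero hD4
    fun x b hj hx hb hdef => by
      obtain ⟨j, hj⟩ := hj
      letI := Fintype.ofFinite (Subgroup.centralizer ({x} : Set G))
      let x0 : Subgroup.centralizer ({x} : Set G) := ⟨x, Subgroup.mem_centralizer_singleton_iff.mpr rfl⟩
      have hxc : ∀ c, x0 * c = c * x0 := fun c => Subtype.ext (Subgroup.mem_centralizer_singleton_iff.mp c.2).symm
      have hxo : orderOf x0 = 2 ^ j := by rw [Subgroup.orderOf_mk, hj]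
      have hle := order_le hM hb hxc hxo
      have hj0 : j ≠ 0 := fun h => hx (orderOf_eq_one_iff.mp (by rw [hj, h, pow_zero]))
      rw [hdef, hd] at hle
      rcases (by omega : j = 1 ∨ j = 2) with rfl | rfl
      · rw [KleinBlock.rank_one_of_central hM hb hxc (by rw [hxo, pow_one]) (hdef.trans hd)]
        exact odd_one
      · rw [rank_one_of_full hM hb hxc (by rw [hxo, hdef, hd])]
        exact odd_one
  have heven : Even (bset B).card := by
    have h1 := congrArg (fun z : ℤ => (z : ZMod 2)) (pow_mul_blockRank hM hB)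
    have h2 : ∀ θ ∈ bset B, ((wI 2 B θ θ : ℤ) : ZMod 2) = 1 := fun θ hθ => by
      obtain ⟨m, hm⟩ := KleinBlock.wI_self_odd hM hB hd (mem_bset.mp hθ)
      rw [hm]
      push_cast
      rw [show (2 : ZMod 2) = 0 from rfl, zero_mul, zero_add]
    simp only [hd, Int.cast_sum] at h1
    rw [Finset.sum_congr rfl h2, Finset.sum_const, nsmul_one] at h1
    push_cast at h1
    norm_num at h1
    rw [show (4 : ZMod 2) = 0 from rfl, zero_mul] at h1
    exact even_iff_two_dvd.mpr ((ZMod.natCast_eq_zero_iff_even).mp h1.symm).two_dvd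
  rw [CentralClass.natCard_eq_bset] at hk
  rw [hk] at heven
  exact Nat.not_even_iff_odd.mp fun he => Nat.not_even_iff_odd.mpr ho ((Nat.even_add.mp heven).mp he)

/-- A central element in a block of defect three. -/
theorem odd_of_central (hM : IsPModular 2 M) (hB : IsPBlock M B) (hd : blockDefect 2 B = 3) {z : G}
    (hzc : ∀ c, z * c = c * z) {a : ℕ} (ha0 : a ≠ 0) (hza : orderOf z = 2 ^ a) : Odd (blockRank 2 B) := by
  classical
  haveI : Fact (Nat.Prime 2) := ⟨Nat.prime_two⟩
  have hle := order_le hM hB hzc hza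
  rw [hd] at hle
  rcases (by omega : a = 3 ∨ a < 3) with rfl | ha
  · rw [rank_one_of_full hM hB hzc (by rw [hza, hd])]
    exact odd_one
  obtain ⟨D, hD⟩ := exists_isDefectGroup hM hB
  set Z := Subgroup.zpowers z with hZ
  haveI : Z.Normal := ⟨fun y hy w => by
    obtain ⟨i, rfl⟩ := Subgroup.mem_zpowers_iff.mp hy
    rw [← ((show Commute z w from hzc w).zpow_left i).eq, mul_inv_cancel_right]
    exact hy⟩
  haveI : Fintype (G ⧸ Z) := Fintype.ofFinite _
  have hZp : IsPGroup 2 Z := IsPGroup.of_card (n := a) (by rw [Nat.card_zpowers, hza])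
  obtain ⟨Bb, hBb, hsub, hdef⟩ := exists_quotient_block_defect hM hZp hB
  have hZD : Z ≤ D := pCore_le_defectGroup hM hB hD Z hZp
  have hcard := Solv.card_map_mk'_mul_card_inf Z D
  rw [inf_eq_left.mpr hZD, Nat.card_zpowers, hza, card_defectGroup hM hB hD, hd,
    card_defectGroup hM hBb (hdef D hD), ← pow_add] at hcard
  have har := Nat.pow_right_injective le_rfl hcard
  obtain ⟨ω, hω⟩ : ∃ ω : ℂ, IsPrimitiveRoot ω (2 ^ a) :=
    ⟨_, Complex.isPrimitiveRoot_exp _ (pow_ne_zero a two_ne_zero)⟩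
  haveI : NeZero (2 ^ a) := ⟨pow_ne_zero a two_ne_zero⟩
  choose ζ hζN hζ using fun η : IrrCharacter G => exists_central_root hzc η
  have hex : ∀ η : IrrCharacter G, ∃ i < 2 ^ a, ω ^ i = ζ η := fun η => hω.eq_pow_of_pow_eq_one (by
    rw [← hza]; exact hζN η)
  choose j hj hjζ using hex
  rw [SubForm.rank_eq hM hB hzc (a := a) hza hω hj (fun η c => by rw [hjζ]; exact hζ η c) hZ
    (r := blockDefect 2 Bb) (by omega) hBb hsub rfl]
  rcases (by omega : blockDefect 2 Bb = 1 ∨ blockDefect 2 Bb = 2) with h | h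
  · exact odd_rank_one hM hBb h
  · exact odd_rank_two hM hBb h

end Cfsg.Agent.Char.SmallBlockFive
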