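import Cfsg.Agent.Lib.Char.SmallDegreeKey

/-!
# The principal block and the products of two conjugate characters of small degree

In a group without proper normal subgroups outside its centre, `φ φ̄` contains the trivial character and `φ φ̄'` has
no fixed vector on `P` for a conjugate `φ'` without common linear characters. The degrees of the principal block do
not allow this for degree below `(p - 1) / 2`.
-/

set_option autoImplicit false
set_option linter.unusedSectionVars false
set_option linter.style.haveILetI false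

open Cfsg
open scoped ComplexConjugate Classical

namespace Cfsg.Agent.Char.SmallBound

universe u

variable {G : Type u} [Group G] [Fintype G] {p : ℕ} [Fact p.Prime] {P : Sylow p G}

/-- The trivial character. -/
noncomputable abbrev triv (G : Type u) [Group G] : IrrCharacter G := ⟨fun _ => 1, isIrrCharacter_one⟩

theorem deg_triv : deg (triv G : G → ℂ) = 1 :=
  Nat.cast_injective (R := ℂ) (by rw [← char_one_eq_deg (irr_isCharacter (triv G).2), Nat.cast_one])

theorem sum_char_eq_zero {χ : IrrCharacter G} (h : χ ≠ triv G) : ∑ g : G, (χ : G → ℂ) g = 0 := by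
  have h1 := irrC_orth χ (triv G)
  rw [if_neg h, classInner] at h1
  simpa [Nat.card_pos.ne'] using h1

theorem singular_value {M : Ideal AlgInt} (hM : IsPModular p M) {m : ℕ} (hq : FrobSylow P m) {χ : IrrCharacter G}
    (hχ : χ ∈ principalBlock M G) {g : G} (hg : p ∣ orderOf g) :
    ∃ y ∈ nonOne P, (χ : G → ℂ) g = (χ : G → ℂ) (y : G) := by
  obtain ⟨y, hy, hc⟩ := FrobSylow.exists_conj_ppt_sing (P := P) hg
  obtain ⟨c, hc⟩ := isConj_iff.mp hc
  refine ⟨y, mem_nonOne.mpr hy, ?_⟩
  rw [← isClassFunction_character (irr_isCharacter χ.2) g c]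
  have hpp : IsPPart p (c * g * c⁻¹) (y : G) := by
    rw [← hc, ← ppt_conj Fact.out]
    exact isPPart_ppt Fact.out _
  exact hq.principal_apply hM hχ hpp hy

/-- A character with the same value at `v` as at one, in a group whose proper normal subgroups are central. -/
theorem mem_center_of_ker (hcen : ∀ K : Subgroup G, K.Normal → K ≠ ⊤ → K ≤ Subgroup.center G)
    {χ : IrrCharacter G} (hχ : χ ≠ triv G) {g : G} (hg : (χ : G → ℂ) g = (χ : G → ℂ) 1) :
    g ∈ Subgroup.center G := by
  have hch := irr_isCharacter χ.2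
  let K : Subgroup G :=
    { carrier := {g | (χ : G → ℂ) g = (χ : G → ℂ) 1}
      one_mem' := rfl
      mul_mem' := fun {a b} ha hb => (char_mul_of_ker hch ha b).trans hb
      inv_mem' := fun {a} ha => by
        show (χ : G → ℂ) a⁻¹ = _
        rw [char_inv hch, show (χ : G → ℂ) a = (χ : G → ℂ) 1 from ha, char_one_eq_deg hch, map_natCast] }
  have hK : K.Normal := ⟨fun a ha k => by
    show (χ : G → ℂ) (k * a * k⁻¹) = _
    rw [isClassFunction_character hch a k]
    exact ha⟩
  refine hcen K hK (fun htop => ?_) hg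
  have h0 := sum_char_eq_zero hχ
  rw [Finset.sum_congr rfl fun x _ => (htop ▸ Subgroup.mem_top x : x ∈ K), Finset.sum_const, nsmul_eq_mul,
    mul_eq_zero, char_one_eq_deg hch, Nat.cast_eq_zero, Nat.cast_eq_zero] at h0
  exact h0.elim (fun h => by simp at h) (deg_pos χ.2).ne'

variable {V : Subgroup G} [Fintype V] [Fintype (↥(P : Subgroup G) →* ℂˣ)]

set_option maxHeartbeats 1000000 in
/-- The contradiction. -/
theorem no_partner (hL : Loc P V) {q : ℕ} (hq : FrobSylow P q) (hq2 : 2 ≤ q)
    (hcen : ∀ K : Subgroup G, K.Normal → K ≠ ⊤ → K ≤ Subgroup.center G)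
    (hlin : ∀ χ : IrrCharacter G, deg (χ : G → ℂ) = 1 → χ = triv G) (φ φ' : IrrCharacter G) (hne : φ' ≠ φ)
    (hreg : ∀ g : G, ¬ p ∣ orderOf g → (φ' : G → ℂ) g = (φ : G → ℂ) g)
    (hzero : ∑ y : ↥(P : Subgroup G), (φ : G → ℂ) (y : G) * conj ((φ' : G → ℂ) (y : G)) = 0)
    (hd : 2 * deg (φ : G → ℂ) + 1 < p) (hqd : q ≤ deg (φ : G → ℂ))
    (hcentral : V ≤ Subgroup.center G →
      ∑ y : ↥(P : Subgroup G), (φ : G → ℂ) (y : G) * conj ((φ : G → ℂ) (y : G)) = (p : ℂ) * q ∧
        deg (φ : G → ℂ) ≤ q) : False := by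
  have hp : p.Prime := Fact.out
  have hp0 : (p : ℂ) ≠ 0 := Nat.cast_ne_zero.mpr hp.ne_zero
  have hP := hL.card
  obtain ⟨M, hM⟩ := exists_pModular hp
  have hMp := pmod_prime hM
  obtain ⟨X, Y, a, δ, hPP⟩ := exists_prime_principal (P := P) hM hP hq.index
  obtain ⟨r, -, -, -, hrq, -⟩ := hq.exists_orbit_index
  rw [hP] at hrq
  have hr3 : 3 ≤ r := by
    by_contra h
    have := Nat.mul_le_mul_right q (show r ≤ 2 by omega)
    omega
  have hYcard : Y.card = r := by
    rw [hPP.cardY, ← hrq, Nat.add_sub_cancel, Nat.mul_div_cancel _ (by omega)]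
  have hXcard : X.card = q := hPP.cardX
  have hN0 : (nonOne P).card = p - 1 := by
    rw [nonOne, Finset.filter_congr (q := fun y : ↥(P : Subgroup G) => y ≠ 1) fun y _ => by simp,
      Finset.filter_ne', Finset.card_erase_of_mem (Finset.mem_univ _), Finset.card_univ, ← Nat.card_eq_fintype_card, hP]
  have hsplit : ∀ F : ↥(P : Subgroup G) → ℂ, ∑ y, F y = F 1 + ∑ y ∈ nonOne P, F y := by
    intro F
    rw [← Finset.add_sum_erase _ _ (Finset.mem_univ (1 : ↥(P : Subgroup G)))]
    refine congrArg _ (Finset.sum_congr ?_ fun _ _ => rfl)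
    ext y; simp [nonOne]
  have hpos : ∀ θ : IrrCharacter G, 1 ≤ deg (θ : G → ℂ) := fun θ => deg_pos θ.2
  have hd1 : ∀ θ : IrrCharacter G, (θ : G → ℂ) 1 = (deg (θ : G → ℂ) : ℂ) := fun θ =>
    char_one_eq_deg (irr_isCharacter θ.2)
  have hbig : ∀ θ : IrrCharacter G, θ ≠ triv G → 2 ≤ deg (θ : G → ℂ) := fun θ hθ => by
    have := hpos θ
    rcases Nat.lt_or_ge (deg (θ : G → ℂ)) 2 with h | h
    · exact absurd (hlin θ (by omega)) hθ
    · exact h
  -- the trivial character is not exceptional
  have htX : triv G ∈ X := by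
    refine ((hPP.mem_iff _).mp (sameBlock_refl hMp (fun _ : G => (1 : ℂ)))).resolve_right fun hY => ?_
    have hsub : Y ⊆ {triv G} := fun θ hθ => by
      refine Finset.mem_singleton.mpr (hlin θ (Nat.cast_injective (R := ℂ) ?_))
      rw [← hd1 θ, hPP.regY θ hθ (triv G) hY 1 (by simp [hp.ne_one]), Nat.cast_one]
    have := Finset.card_le_card hsub
    rw [Finset.card_singleton, hYcard] at this
    omega
  obtain ⟨y1, hy1⟩ := exists_nonOne hP
  have hat : a (triv G) = 1 := by
    have h := hPP.a_val _ htX y1 (mem_nonOne.mpr hy1)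
    have h2 : ((a (triv G) : ℤ) : ℂ) = ((1 : ℤ) : ℂ) := h.symm.trans Int.cast_one.symm
    exact_mod_cast h2
  have hXB : ∀ χ ∈ X, χ ∈ principalBlock M G := fun χ h => (hPP.mem_iff χ).mpr (Or.inl h)
  have hYB : ∀ χ ∈ Y, χ ∈ principalBlock M G := fun χ h => (hPP.mem_iff χ).mpr (Or.inr h)
  have hXsing : ∀ χ ∈ X, ∀ g : G, p ∣ orderOf g → (χ : G → ℂ) g = (a χ : ℂ) := by
    intro χ hχ g hg
    obtain ⟨y, hy, e⟩ := singular_value hM hq (hXB χ hχ) hg
    rw [e, hPP.a_val χ hχ y hy]
  -- the two products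
  have hch1 : IsCharacter G ((φ : G → ℂ) * fun g => conj ((φ : G → ℂ) g)) :=
    isCharacter_mul (irr_isCharacter φ.2) (isCharacter_conj (irr_isCharacter φ.2))
  have hch2 : IsCharacter G ((φ : G → ℂ) * fun g => conj ((φ' : G → ℂ) g)) :=
    isCharacter_mul (irr_isCharacter φ.2) (isCharacter_conj (irr_isCharacter φ'.2))
  obtain ⟨m1, hm1⟩ := exists_decomposition hch1
  obtain ⟨m2, hm2⟩ := exists_decomposition hch2
  have ht1 : ∀ ψ : IrrCharacter G, classInner ((φ : G → ℂ) * fun g => conj ((ψ : G → ℂ) g)) (triv G : G → ℂ) =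
      classInner (φ : G → ℂ) (ψ : G → ℂ) := fun ψ => by simp [classInner]
  have hm1t : m1 (triv G) = 1 := Nat.cast_injective (R := ℂ) (by
    rw [← decomposition_coeff m1 hm1, ht1, irrC_orth, if_pos rfl, Nat.cast_one])
  have hm2t : m2 (triv G) = 0 := Nat.cast_injective (R := ℂ) (by
    rw [← decomposition_coeff m2 hm2, ht1, irrC_orth, if_neg fun e => hne e.symm, Nat.cast_zero])
  have hdiff : ∀ Δ : G → ℂ, (∀ g : G, p ∣ orderOf g → Δ g = 0) →
      classInner ((φ : G → ℂ) * fun g => conj ((φ : G → ℂ) g)) Δ =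
        classInner ((φ : G → ℂ) * fun g => conj ((φ' : G → ℂ) g)) Δ := by
    intro Δ hΔ
    simp only [classInner]
    refine congrArg _ (Finset.sum_congr rfl fun g _ => ?_)
    by_cases hg : p ∣ orderOf g
    · rw [hΔ g hg, map_zero, mul_zero, mul_zero]
    · simp only [Pi.mul_apply, hreg g hg]
  have hshift : ∀ χ ∈ X, (m1 χ : ℤ) - a χ = (m2 χ : ℤ) := by
    intro χ hχ
    have h := hdiff ((χ : G → ℂ) - (a χ : ℂ) • (triv G : G → ℂ)) fun g hg => by
      simp [hXsing χ hχ g hg]
    rw [classInner_sub_right, classInner_sub_right, classInner_smul_right, classInner_smul_right, map_intCast,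
      decomposition_coeff m1 hm1, decomposition_coeff m1 hm1, decomposition_coeff m2 hm2, decomposition_coeff m2 hm2,
      hm1t, hm2t, Nat.cast_one, Nat.cast_zero, mul_one, mul_zero, sub_zero] at h
    exact_mod_cast h
  -- fixed vectors on `P`
  choose F hF using fun χ : IrrCharacter G => exists_sum_on_sylow (P := P) χ
  simp only [hP] at hF
  have hfix : ∀ (ψ : IrrCharacter G) (m : IrrCharacter G → ℕ),
      ((φ : G → ℂ) * fun g => conj ((ψ : G → ℂ) g)) = ∑ χ, m χ • (χ : G → ℂ) →
      ∑ y : ↥(P : Subgroup G), (φ : G → ℂ) (y : G) * conj ((ψ : G → ℂ) (y : G)) =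
        (p : ℂ) * ((∑ χ, m χ * F χ : ℕ) : ℂ) := by
    intro ψ m hm
    have h1 : ∀ g, (φ : G → ℂ) g * conj ((ψ : G → ℂ) g) = ∑ χ, (m χ : ℂ) * (χ : G → ℂ) g := fun g => by
      have := congrFun hm g
      simpa [Finset.sum_apply] using this
    simp only [h1]
    rw [Finset.sum_comm, Nat.cast_sum, Finset.mul_sum]
    refine Finset.sum_congr rfl fun χ _ => ?_
    rw [← Finset.mul_sum, hF, Nat.cast_mul]
    ring
  have hnofix : ∀ χ, m2 χ ≠ 0 → ∑ y : ↥(P : Subgroup G), (χ : G → ℂ) (y : G) = 0 := by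
    intro χ hχ
    have h := hfix φ' m2 hm2
    rw [hzero, eq_comm, mul_eq_zero, or_iff_right hp0, Nat.cast_eq_zero, Finset.sum_eq_zero_iff] at h
    rw [hF, (mul_eq_zero.mp (h χ (Finset.mem_univ _))).resolve_left hχ, Nat.cast_zero, mul_zero]
  have hXsum : ∀ χ ∈ X, ∑ y : ↥(P : Subgroup G), (χ : G → ℂ) (y : G) =
      (deg (χ : G → ℂ) : ℂ) + ((p : ℂ) - 1) * (a χ : ℂ) := by
    intro χ hχ
    rw [hsplit, OneMemClass.coe_one, hd1, Finset.sum_congr rfl fun y hy => hPP.a_val χ hχ y hy, Finset.sum_const, hN0,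
      nsmul_eq_mul, Nat.cast_sub hp.one_le, Nat.cast_one]
  by_cases hall : ∀ χ ∈ X, a χ = 1
  · -- all signs equal
    have hrel : ∀ θ ∈ Y, δ * (deg (θ : G → ℂ) : ℤ) = ((∑ χ ∈ X, deg (χ : G → ℂ) : ℕ) : ℤ) := by
      intro θ hθ
      have h := hPP.rel θ hθ 1 (by simp [hp.ne_one])
      rw [hd1, Finset.sum_congr rfl (g := fun χ : IrrCharacter G => ((deg (χ : G → ℂ) : ℕ) : ℂ)) fun χ hχ => by
        rw [hall χ hχ, hd1, Int.cast_one, one_mul]] at h
      exact_mod_cast h
    obtain ⟨θ1, hθ1⟩ : Y.Nonempty := Finset.card_pos.mp (by omega)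
    have hXpos : 2 * q - 1 ≤ ∑ χ ∈ X, deg (χ : G → ℂ) := by
      rw [← Finset.add_sum_erase _ _ htX, deg_triv]
      have h1 : (X.erase (triv G)).card * 2 ≤ ∑ χ ∈ X.erase (triv G), deg (χ : G → ℂ) := by
        rw [← smul_eq_mul, ← Finset.sum_const]
        exact Finset.sum_le_sum fun χ hχ => hbig χ (Finset.mem_erase.mp hχ).1
      rw [Finset.card_erase_of_mem htX, hXcard] at h1
      omega
    have hδ1 : δ = 1 := by
      rcases hPP.sign with h | h
      · exact h
      · have := hrel θ1 hθ1
        rw [h] at this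
        omega
    subst hδ1
    simp only [one_mul, Int.natCast_inj] at hrel
    set D := ∑ χ ∈ X, deg (χ : G → ℂ) with hDdef
    -- the exceptional characters add up to minus one
    have hYsing : ∀ g : G, p ∣ orderOf g → ∑ θ ∈ Y, (θ : G → ℂ) g = -1 := by
      intro g hg
      have hw := weak_orthogonality hM (isPBlock_principalBlock M) (x := (1 : G)) (y := g⁻¹) (by simp [hp.ne_one])
        (by rwa [orderOf_inv])
      rw [finsum_mem_irr, Finset.sum_congr rfl (g := fun χ : IrrCharacter G => (χ : G → ℂ) 1 * (χ : G → ℂ) g)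
        fun χ _ => by rw [char_inv (irr_isCharacter χ.2), Complex.conj_conj],
        show (Finset.univ.filter fun χ : IrrCharacter G => χ ∈ principalBlock M G) = X ∪ Y by
          ext χ; simp [hPP.mem_iff],
        Finset.sum_union hPP.disj,
        Finset.sum_congr rfl (g := fun χ : IrrCharacter G => (deg (χ : G → ℂ) : ℂ)) fun χ hχ => by
          rw [hXsing χ hχ g hg, hall χ hχ, Int.cast_one, mul_one, hd1],
        ← Nat.cast_sum, ← hDdef,
        Finset.sum_congr rfl (g := fun θ : IrrCharacter G => (D : ℂ) * (θ : G → ℂ) g) fun θ hθ => by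
          rw [hd1, hrel θ hθ], ← Finset.mul_sum] at hw
      have hD0 : (D : ℂ) ≠ 0 := Nat.cast_ne_zero.mpr (by omega)
      exact mul_left_cancel₀ hD0 (by linear_combination hw)
    have htY : triv G ∉ Y := Finset.disjoint_left.mp hPP.disj htX
    -- one of them has no fixed vector
    obtain ⟨θ0, hθ0, hm0⟩ : ∃ θ ∈ Y, m2 θ ≠ 0 := by
      by_contra hno
      push Not at hno
      have h := hdiff (∑ θ ∈ Y, (θ : G → ℂ) + (triv G : G → ℂ)) fun g hg => by
        rw [Pi.add_apply, Finset.sum_apply, hYsing g hg]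
        simp
      rw [classInner_add_right, classInner_add_right, classInner_sum_right, classInner_sum_right,
        decomposition_coeff m1 hm1, decomposition_coeff m2 hm2,
        Finset.sum_congr rfl fun θ _ => decomposition_coeff m1 hm1 θ,
        Finset.sum_congr rfl fun θ _ => decomposition_coeff m2 hm2 θ, hm1t, hm2t,
        ← Nat.cast_sum, ← Nat.cast_sum, Finset.sum_eq_zero hno] at h
      have h2 : (∑ θ ∈ Y, m1 θ) + 1 = 0 + 0 := by exact_mod_cast h
      omega
    have hSeq : ∀ θ ∈ Y, ∑ y ∈ nonOne P, (θ : G → ℂ) (y : G) = -(D : ℂ) := by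
      intro θ hθ
      have h0 := hnofix θ0 hm0
      rw [hsplit, OneMemClass.coe_one, hd1, hrel θ0 hθ0] at h0
      have hFc : IsClassFunction G fun g => (θ : G → ℂ) g - (θ0 : G → ℂ) g := fun g k => by
        simp only [isClassFunction_character (irr_isCharacter θ.2) g k,
          isClassFunction_character (irr_isCharacter θ0.2) g k]
      have h1 := hq.sum_singular_const hFc fun y hy v hv => by
        simp only [hq.principal_const hM (hYB θ hθ) hy v hv, hq.principal_const hM (hYB θ0 hθ0) hy v hv]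
      have h2 : ∑ g : G with p ∣ orderOf g, ((θ : G → ℂ) g - (θ0 : G → ℂ) g) = 0 := by
        have h3 : ∑ g : G, ((θ : G → ℂ) g - (θ0 : G → ℂ) g) = 0 := by
          rw [Finset.sum_sub_distrib, sum_char_eq_zero fun h => htY (h ▸ hθ),
            sum_char_eq_zero fun h => htY (h ▸ hθ0), sub_zero]
        rw [← Finset.sum_filter_add_sum_filter_not Finset.univ (fun g : G => p ∣ orderOf g),
          Finset.sum_eq_zero (s := Finset.univ.filter fun g : G => ¬ p ∣ orderOf g) fun g hg => by
            rw [hPP.regY θ hθ θ0 hθ0 g (Finset.mem_filter.mp hg).2, sub_self], add_zero] at h3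
        exact h3
      rw [h2, mul_zero, eq_comm, mul_eq_zero, or_iff_right (Nat.cast_ne_zero.mpr Nat.card_pos.ne'),
        Finset.sum_sub_distrib] at h1
      linear_combination h1 + h0
    have hDq : D = q := by
      have h1 : ∑ θ ∈ Y, ∑ y ∈ nonOne P, (θ : G → ℂ) (y : G) = -((p - 1 : ℕ) : ℂ) := by
        have hs : ∀ y ∈ nonOne P, ∑ θ ∈ Y, (θ : G → ℂ) (y : G) = -1 := fun y hy => hYsing _ (by
          have hy1' : y ≠ 1 := fun h => mem_nonOne.mp hy (congrArg Subtype.val h)
          have h := pow_card_eq_one' (x := y)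
          rw [hP] at h
          rw [Subgroup.orderOf_coe, orderOf_eq_prime h hy1'])
        rw [Finset.sum_comm, Finset.sum_congr rfl hs, Finset.sum_const, hN0, nsmul_eq_mul, mul_neg, mul_one]
      rw [Finset.sum_congr rfl hSeq, Finset.sum_const, hYcard, nsmul_eq_mul, mul_neg, neg_inj] at h1
      have h2 : r * D = p - 1 := by exact_mod_cast h1
      exact Nat.eq_of_mul_eq_mul_left (by omega) (show r * D = r * q by omega)
    omega
  · -- a sign is negative
    push Not at hall
    obtain ⟨χ0, hχ0, ha0⟩ := hall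
    have hminus : ∀ χ ∈ X, a χ ≠ 1 → a χ = -1 ∧ 1 ≤ m2 χ ∧ deg (χ : G → ℂ) = p - 1 := by
      intro χ hχ hne'
      have ha' : a χ = -1 := (hPP.a_sign χ hχ).resolve_left hne'
      have hm := hshift χ hχ
      rw [ha'] at hm
      refine ⟨ha', by omega, ?_⟩
      have h := hnofix χ (by omega)
      rw [hXsum χ hχ, ha'] at h
      apply Nat.cast_injective (R := ℂ)
      rw [Nat.cast_sub hp.one_le, Nat.cast_one]
      push_cast at h
      linear_combination h
    obtain ⟨ha0', hm0, hdeg0⟩ := hminus χ0 hχ0 ha0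
    have hV : V ≤ Subgroup.center G := by
      intro v hv
      refine mem_center_of_ker hcen (fun h : χ0 = triv G => ha0 (by rw [h]; exact hat)) ?_
      have h := sum_P_eq_zero hL χ0 (hnofix χ0 (by omega)) ⟨v, hv⟩
      rw [hsplit, OneMemClass.coe_one, one_mul,
        Finset.sum_congr rfl (g := fun _ => ((-1 : ℤ) : ℂ)) fun y hy => by
          rw [← ha0', ← hPP.a_val χ0 hχ0 y hy]
          exact hq.principal_const hM (hXB χ0 hχ0) (mem_nonOne.mp hy)
            ⟨v, Subgroup.mem_centralizer_singleton_iff.mpr (hL.comm _ y.2 _ hv).eq.symm⟩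
            (by rw [Subgroup.orderOf_mk]; exact hL.reg v hv),
        Finset.sum_const, hN0, nsmul_eq_mul] at h
      rw [hd1, hdeg0]
      push_cast at h
      linear_combination h
    obtain ⟨hsum1, hdq⟩ := hcentral hV
    have hdeq : deg (φ : G → ℂ) = q := by omega
    set Pl := X.filter fun χ => a χ = 1 with hPl
    set Mi := X.filter fun χ => ¬ a χ = 1 with hMi
    have hcount : Pl.card + Mi.card = q := by
      rw [hPl, hMi, Finset.card_filter_add_card_filter_not, hXcard]
    have hMi1 : 1 ≤ Mi.card := Finset.card_pos.mpr ⟨χ0, Finset.mem_filter.mpr ⟨hχ0, ha0⟩⟩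
    have htP : triv G ∈ Pl := Finset.mem_filter.mpr ⟨htX, hat⟩
    have hplus : 2 * Pl.card ≤ q + 1 := by
      have h := hfix φ m1 hm1
      rw [hsum1] at h
      have h1 : q = ∑ χ, m1 χ * F χ := by exact_mod_cast mul_left_cancel₀ hp0 h
      have h2 : ∑ χ ∈ Pl, m1 χ * F χ ≤ q := h1 ▸ Finset.sum_le_sum_of_subset (Finset.subset_univ _)
      have hFt : F (triv G) = 1 := by
        have h := hF (triv G)
        simp only [Finset.sum_const, Finset.card_univ, nsmul_eq_mul, mul_one, ← Nat.card_eq_fintype_card] at h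
        rw [hP] at h
        exact Nat.cast_injective (R := ℂ) (by rw [Nat.cast_one]; exact mul_left_cancel₀ hp0 (by rw [mul_one, ← h]))
      have h3 : (Pl.erase (triv G)).card * 2 ≤ ∑ χ ∈ Pl.erase (triv G), m1 χ * F χ := by
        rw [← smul_eq_mul, ← Finset.sum_const]
        refine Finset.sum_le_sum fun χ hχ => ?_
        obtain ⟨hne', hχP⟩ := Finset.mem_erase.mp hχ
        obtain ⟨hχX, haχ⟩ := Finset.mem_filter.mp hχP
        have hm := hshift χ hχX
        rw [haχ] at hm
        have hs := hXsum χ hχX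
        rw [hF, haχ, Int.cast_one, mul_one] at hs
        have hs' : p * F χ + 1 = deg (χ : G → ℂ) + p := by
          apply Nat.cast_injective (R := ℂ)
          push_cast
          linear_combination hs
        have hF2 : 2 ≤ F χ := by
          by_contra hlt
          have := Nat.mul_le_mul_left p (show F χ ≤ 1 by omega)
          have := hbig χ hne'
          omega
        calc (2 : ℕ) = 1 * 2 := rfl
          _ ≤ _ := Nat.mul_le_mul (by omega) hF2
      rw [← Finset.add_sum_erase _ _ htP, hm1t, hFt] at h2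
      rw [Finset.card_erase_of_mem htP] at h3
      omega
    have hM2 : Mi.card * (p - 1) ≤ q * q := by
      have hdeg : ∑ χ, m2 χ * deg (χ : G → ℂ) = q * q := by
        apply Nat.cast_injective (R := ℂ)
        have hd' : deg (φ' : G → ℂ) = q := by
          rw [← hdeq]
          exact Nat.cast_injective (R := ℂ) (by rw [← hd1, ← hd1, hreg 1 (by simp [hp.ne_one])])
        have h := congrFun hm2 1
        simp only [Pi.mul_apply, Finset.sum_apply, Pi.smul_apply, nsmul_eq_mul, Pi.natCast_apply,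
          hd1, hdeq, hd', map_natCast] at h
        push_cast
        exact h.symm
      rw [← hdeg]
      refine le_trans ?_ (Finset.sum_le_sum_of_subset (Finset.subset_univ Mi))
      rw [← smul_eq_mul, ← Finset.sum_const]
      refine Finset.sum_le_sum fun χ hχ => ?_
      obtain ⟨hχX, hne'⟩ := Finset.mem_filter.mp hχ
      obtain ⟨-, h1, h2⟩ := hminus χ hχX hne'
      rw [h2]
      exact Nat.le_mul_of_pos_left _ h1
    rw [← hrq, Nat.add_sub_cancel, ← mul_assoc] at hM2
    have hMr : Mi.card * r ≤ q := Nat.le_of_mul_le_mul_right hM2 (by omega)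
    have h3M : Mi.card * 3 ≤ q := (Nat.mul_le_mul_left _ hr3).trans hMr
    have hq3 : q = 3 := by omega
    subst hq3
    have hM1 : Mi.card = 1 := by omega
    rw [hM1, one_mul] at hMr
    obtain rfl : r = 3 := le_antisymm hMr hr3
    obtain rfl : p = 10 := hrq.symm
    norm_num at hp

end Cfsg.Agent.Char.SmallBound
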