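import Cfsg.Agent.Lib.Char.DefectOneGalois
import Cfsg.Agent.Lib.Char.GaloisConj

/-!
# The norm of an exceptional character on the regular elements

For a Sylow subgroup of order `p`, a character of degree prime to `p` which is moved by p-conjugacy has norm
`e / p` on the regular elements, `e` being the number of units fixing it.
-/

set_option autoImplicit false
set_option linter.unusedSectionVars false
set_option linter.style.haveILetI false

open Cfsg
open scoped ComplexConjugate

namespace Cfsg.Agent.Char.SmallBound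

open DefectOne

universe u

variable {G : Type u} [Group G] [Fintype G] {p : ℕ} [Fact p.Prime]

open scoped Classical in
/-- The regular norm of a moved character. -/
theorem exceptional_norm (S : PConj.Setup G p) (hdiv : p ∣ Nat.card G) (hsq : ¬ p ^ 2 ∣ Nat.card G)
    (φ : IrrCharacter G) (hdeg : ¬ p ∣ deg (φ : G → ℂ)) (hmove : ∃ u : S.U, act S u φ ≠ φ) :
    ((Finset.univ.filter fun u : S.U => act S u φ = φ).card : ℂ) =
      (p : ℂ) * einner p (φ : G → ℂ) (φ : G → ℂ) := by
  have hp : p.Prime := Fact.out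
  obtain ⟨M, hM⟩ := exists_pModular hp
  have hMp := pmod_prime hM
  have hfac : (Nat.card G).factorization p = 1 := by
    have h1 := (hp.dvd_iff_one_le_factorization Nat.card_pos.ne').mp hdiv
    have h2 : ¬ 2 ≤ (Nat.card G).factorization p := fun h =>
      hsq ((hp.pow_dvd_iff_le_factorization Nat.card_pos.ne').mpr h)
    omega
  have ha : S.a = 1 := by
    rw [← hfac, S.card, Nat.factorization_mul (pow_ne_zero _ hp.ne_zero) S.m_ne, Finsupp.add_apply,
      hp.factorization_pow, Finsupp.single_eq_same, Nat.factorization_eq_zero_of_not_dvd S.ndvd, add_zero]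
  set B := blockOf M (φ : G → ℂ) with hBdef
  have hB : IsPBlock M B := isPBlock_blockOf M φ
  have hφB : φ ∈ B := self_mem_blockOf hMp φ
  have hdef1 : blockDefect p B = 1 := by
    have h1 := dmin_add_defect (p := p) (block_nonempty hMp hB)
    have h2 := dexp_eq_height_add (p := p) hφB
    have h3 : dexp p (φ : G → ℂ) = 0 := Nat.factorization_eq_zero_of_not_dvd hdeg
    omega
  obtain ⟨D, hD⟩ := exists_isDefectGroup hM hB
  have hcard : Nat.card D = p := by rw [card_defectGroup hM hB hD, hdef1, pow_one]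
  obtain ⟨b, hb⟩ := exists_pair_of_le_defect hM hB hD le_rfl
  have hmax := maximal_of_defect hM hD hb
  haveI := Fintype.ofFinite (Subgroup.centralizer (D : Set G))
  obtain ⟨θ, hθ, hθP⟩ := exists_trivial hM hmax hcard hsq
  obtain ⟨N, Y, δ, hN, hem, hYB, hYc, hBc, hYorb, hXorb, hδ, hsing, hrel⟩ :=
    galois_main_values S hM hmax hcard hsq hθ hθP rfl
  generalize he : (Subgroup.centralizer (D : Set G)).relIndex (pairStab (pmod_prime hM) hmax.1.1.2) = e at hem hBc
  have hφY : φ ∈ Y := by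
    by_contra hno
    obtain ⟨u, hu⟩ := hmove
    have h1 : act S u φ ∈ S.orb φ := (mem_orb_iff S).mpr ⟨u, rfl⟩
    rw [hXorb φ hφB hno, Finset.mem_singleton] at h1
    exact hu h1
  have horb := hYorb φ hφY
  -- the stabilizer
  obtain ⟨c, hc, hsum⟩ := S.fiber_count φ
  rw [horb, hYc, ha, pow_one, Nat.totient_prime hp, ← hem, mul_comm e N] at hc
  have hce : c = e := Nat.eq_of_mul_eq_mul_left hN hc
  have hcount : ((Finset.univ.filter fun u : S.U => act S u φ = φ).card : ℂ) = (c : ℂ) := by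
    have h1 : classInner (S.osum φ) (φ : G → ℂ) = 1 := by
      rw [show S.osum φ = ∑ ψ ∈ S.orb φ, (ψ : G → ℂ) from funext fun g => (Finset.sum_apply g _ _).symm,
        classInner_sum_left]
      simp only [irrC_orth]
      rw [Finset.sum_ite_eq', if_pos (S.self_mem φ)]
    have h2 : ∑ u : S.U, classInner (act S u φ : G → ℂ) (φ : G → ℂ) = (c : ℂ) * classInner (S.osum φ) (φ : G → ℂ) := by
      simp only [classInner]
      rw [← Finset.mul_sum, Finset.sum_comm, mul_left_comm, Finset.mul_sum (a := (c : ℂ))]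
      refine congrArg _ (Finset.sum_congr rfl fun g _ => ?_)
      rw [← Finset.sum_mul, ← mul_assoc, ← hsum φ g (S.self_mem φ)]
      exact congrArg (· * _) (Finset.sum_congr rfl fun u _ => rfl)
    rw [h1, mul_one] at h2
    rw [← h2, Finset.card_filter, Nat.cast_sum]
    refine Finset.sum_congr rfl fun u _ => ?_
    rw [irrC_orth]
    split_ifs <;> simp
  rw [hcount, hce]
  -- the fixed characters
  set X := Finset.univ.filter fun χ : IrrCharacter G => χ ∈ B ∧ χ ∉ Y with hX
  set Bf := Finset.univ.filter fun χ : IrrCharacter G => χ ∈ B with hBf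
  have hBXY : Bf = X ∪ Y := by
    ext χ
    simp only [hBf, hX, Finset.mem_filter, Finset.mem_univ, true_and, Finset.mem_union]
    exact ⟨fun h => (Classical.em (χ ∈ Y)).elim Or.inr fun h' => Or.inl ⟨h, h'⟩,
      fun h => h.elim (·.1) (hYB χ)⟩
  have hdisj : Disjoint X Y := Finset.disjoint_left.mpr fun χ h => (Finset.mem_filter.mp h).2.2
  have hXcard : X.card = e := by
    have h1 : Bf.card = e + N := by
      rw [← hBc, hBf, ← Fintype.card_subtype, Nat.card_eq_fintype_card]
    rw [hBXY, Finset.card_union_of_disjoint hdisj, hYc] at h1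
    omega
  have he0 : 0 < e := Nat.pos_of_ne_zero fun h => by
    rw [h, zero_mul] at hem; have := hp.two_le; omega
  obtain ⟨χ1, hχ1⟩ : X.Nonempty := Finset.card_pos.mp (hXcard ▸ he0)
  set γ := einner p (φ : G → ℂ) (φ : G → ℂ) with hγ
  set w := (δ χ1 : ℂ) * (δ φ : ℂ) * einner p (χ1 : G → ℂ) (φ : G → ℂ) with hw
  have hsq1 : ∀ χ, (δ χ : ℂ) * (δ χ : ℂ) = 1 := fun χ => by rcases hδ χ with h | h <;> simp [h]
  have hmix : ∀ χ ∈ X, (δ χ : ℂ) * (δ φ : ℂ) * einner p (χ : G → ℂ) (φ : G → ℂ) = w := by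
    intro χ hχ
    have hval : ∀ ψ ∈ X, (δ ψ : ℂ) * einner p (ψ : G → ℂ) (φ : G → ℂ) =
        -((Nat.card G : ℂ)⁻¹ * ∑ g : G with p ∣ orderOf g,
          (δ ψ : ℂ) * (ψ : G → ℂ) g * conj ((φ : G → ℂ) g)) := by
      intro ψ hψ
      have h0 := irrC_orth ψ φ
      rw [if_neg fun h : ψ = φ => (Finset.mem_filter.mp hψ).2.2 (h ▸ hφY), classInner,
        ← Finset.sum_filter_add_sum_filter_not Finset.univ (fun g : G => p ∣ orderOf g), mul_add] at h0
      simp only [mul_assoc, ← Finset.mul_sum]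
      rw [einner_eq_sum]
      linear_combination (δ ψ : ℂ) * h0
    have e1 := hval χ hχ
    have e2 := hval χ1 hχ1
    rw [Finset.sum_congr rfl fun g hg => by rw [hsing χ (Finset.mem_filter.mp hχ).2.1 (Finset.mem_filter.mp hχ).2.2
      χ1 (Finset.mem_filter.mp hχ1).2.1 (Finset.mem_filter.mp hχ1).2.2 g (Finset.mem_filter.mp hg).2]] at e1
    rw [hw]
    linear_combination (δ φ : ℂ) * (e1.trans e2.symm)
  have hγw : γ = -(e : ℂ) * w := by
    have h1 : ∀ g : G, ¬ p ∣ orderOf g → (φ : G → ℂ) g = -(δ φ : ℂ) * ∑ χ ∈ X, (δ χ : ℂ) * (χ : G → ℂ) g := by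
      intro g hg
      have h := hrel g hg φ hφY
      change ∑ χ ∈ X, (δ χ : ℂ) * (χ : G → ℂ) g + (δ φ : ℂ) * (φ : G → ℂ) g = 0 at h
      linear_combination (δ φ : ℂ) * h - (φ : G → ℂ) g * hsq1 φ
    rw [hγ, einner_eq_sum, Finset.sum_congr rfl fun g hg => by
      rw [show (φ : G → ℂ) g * conj ((φ : G → ℂ) g) =
        ∑ χ ∈ X, -(δ φ : ℂ) * (δ χ : ℂ) * ((χ : G → ℂ) g * conj ((φ : G → ℂ) g)) by
          conv_lhs => arg 1; rw [h1 g (Finset.mem_filter.mp hg).2]
          rw [Finset.mul_sum, Finset.sum_mul]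
          exact Finset.sum_congr rfl fun χ _ => by ring],
      Finset.sum_comm, Finset.mul_sum, Finset.sum_congr rfl (g := fun _ => -w) fun χ hχ => by
        rw [← Finset.mul_sum, mul_left_comm, ← einner_eq_sum, ← hmix χ hχ]; ring,
      Finset.sum_const, hXcard, nsmul_eq_mul]
    ring
  -- idempotency
  have hid : γ = (e : ℂ) * w ^ 2 + (N : ℂ) * γ ^ 2 := by
    have h1 := sum_einner_mul (p := p) φ φ
    rw [← Finset.sum_subset (Finset.subset_univ Bf) fun χ _ hχ => by
      rw [einner_eq_zero_of_not_sameBlock hM φ χ fun hs => hχ (Finset.mem_filter.mpr ⟨Finset.mem_univ _, by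
        rw [hBdef, blockOf_eq_of_sameBlock hMp hs]; exact self_mem_blockOf hMp χ⟩), zero_mul],
      hBXY, Finset.sum_union hdisj] at h1
    rw [Finset.sum_congr rfl (g := fun _ => w ^ 2) fun χ hχ => by
        rw [einner_comm hp (irr_isCharacter φ.2) (irr_isCharacter χ.2), ← hmix χ hχ]
        linear_combination (-(einner p (χ : G → ℂ) (φ : G → ℂ)) ^ 2) * hsq1 χ
          - ((δ χ : ℂ) * (δ χ : ℂ) * einner p (χ : G → ℂ) (φ : G → ℂ) ^ 2) * hsq1 φ,
      Finset.sum_congr rfl (g := fun _ => γ ^ 2) (s₂ := Y) fun χ hχ => by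
        obtain ⟨u, rfl⟩ := (mem_orb_iff S).mp (horb ▸ hχ : χ ∈ S.orb φ)
        have hreg : ∀ g : G, ¬ p ∣ orderOf g → (act S u φ : G → ℂ) g = (φ : G → ℂ) g :=
          fun g hg => act_regular S u φ hg
        have e1 : einner p (act S u φ : G → ℂ) (φ : G → ℂ) = γ := by
          rw [hγ, einner_eq_sum, einner_eq_sum]
          exact congrArg _ (Finset.sum_congr rfl fun g hg => by rw [hreg g (Finset.mem_filter.mp hg).2])
        rw [einner_comm hp (irr_isCharacter φ.2) (irr_isCharacter (act S u φ).2), e1, sq],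
      Finset.sum_const, Finset.sum_const, hXcard, hYc, nsmul_eq_mul, nsmul_eq_mul] at h1
    exact h1.symm
  have hγ0 : γ ≠ 0 := einner_ne_zero_self hp φ.2
  have hpC : (e : ℂ) * (N : ℂ) + 1 = (p : ℂ) := by
    have : e * N + 1 = p := by have := hp.two_le; omega
    exact_mod_cast this
  have hw0 : w ≠ 0 := fun h => hγ0 (by rw [hγw, h, mul_zero])
  have heC : (e : ℂ) ≠ 0 := Nat.cast_ne_zero.mpr he0.ne'
  have hpw : (p : ℂ) * w = -1 := by
    refine mul_left_cancel₀ (mul_ne_zero heC hw0) ?_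
    rw [hγw] at hid
    linear_combination -hid - ((e : ℂ) * w ^ 2) * hpC
  rw [hγw]
  linear_combination (e : ℂ) * hpw

end Cfsg.Agent.Char.SmallBound
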