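import Cfsg.Agent.Lib.Char.SmallDegreeLocal

/-!
# A character of small degree and one of its conjugates

Comparing a character of degree `d < (p - 1) / 2` with all its p-conjugates shows `q ≤ d` for the inertial index
`q` and gives a conjugate sharing no linear character of `P` with it.
-/

set_option autoImplicit false
set_option linter.unusedSectionVars false
set_option linter.style.haveILetI false

open Cfsg
open scoped ComplexConjugate Classical

namespace Cfsg.Agent.Char.SmallBound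

open DefectOne

universe u

variable {G : Type u} [Group G] [Fintype G] {p : ℕ} [Fact p.Prime] {P : Sylow p G} {V : Subgroup G}
  [Fintype V] [Fintype (↥(P : Subgroup G) →* ℂˣ)] (hL : Loc P V)
include hL

theorem mass_twP (χ : IrrCharacter G) (n : ↥(Subgroup.normalizer ((P : Subgroup G) : Set G)))
    (l : ↥(P : Subgroup G) →* ℂˣ) : mass hL χ (twP n l) = mass hL χ l := by
  apply Nat.cast_injective (R := ℂ)
  rw [← part_one hL, ← part_one hL]
  simp only [part, OneMemClass.coe_one, mul_one]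
  refine congrArg _ (Fintype.sum_bijective (conjP n) ?_ _ _ fun y => ?_)
  · refine Finite.injective_iff_bijective.mp fun a b e => Subtype.ext ?_
    have e' := congrArg Subtype.val e
    rw [coe_conjP, coe_conjP] at e'
    exact mul_left_cancel (mul_right_cancel e')
  · rw [twP_apply, coe_conjP]
    have h := isClassFunction_character (irr_isCharacter χ.2) (y : G) ((n : G)⁻¹)
    rw [inv_inv] at h
    rw [h]

theorem card_dual : Fintype.card (↥(P : Subgroup G) →* ℂˣ) = p := by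
  rw [← Nat.card_eq_fintype_card, (frobSylow_of_prime hL.card).finite_dual.2, hL.card]

/-- A character not moved by p-conjugacy is constant outside the identity of `P`. -/
theorem exists_moved (S : PConj.Setup G p) (φ : IrrCharacter G) (hd : 2 * deg (φ : G → ℂ) + 1 < p)
    {y0 : ↥(P : Subgroup G)} (hy0 : (φ : G → ℂ) (y0 : G) ≠ (φ : G → ℂ) 1) :
    ∃ u : S.U, act S u φ ≠ φ := by
  by_contra hno
  push Not at hno
  obtain ⟨M, hM⟩ := exists_pModular (Fact.out : p.Prime)
  haveI := Fintype.ofFinite (Subgroup.centralizer ((P : Subgroup G) : Set G))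
  have hconst : ∀ y : ↥(P : Subgroup G), (y : G) ≠ 1 → (φ : G → ℂ) (y : G) = (φ : G → ℂ) (y0 : G) := by
    intro y hy
    have h0 : y0 ≠ 1 := fun h => hy0 (by rw [h, OneMemClass.coe_one])
    obtain ⟨u, hu⟩ := exists_exp S hM (P := (P : Subgroup G)) hL.card h0 (fun h => hy (congrArg Subtype.val h))
    rw [← hu, SubmonoidClass.coe_pow, ← act_apply, hno u]
  -- equal multiplicities
  have hm : ∀ l : ↥(P : Subgroup G) →* ℂˣ, l ≠ 1 →
      (p : ℂ) * (mass hL φ l : ℂ) = (φ : G → ℂ) 1 - (φ : G → ℂ) (y0 : G) := by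
    intro l hl
    have hsum : ∑ y : ↥(P : Subgroup G), conj ((l y : ℂˣ) : ℂ) = 0 := by
      rw [← map_sum]
      have := FrobSylow.sum_linear_mul l (1 : ↥(P : Subgroup G) →* ℂˣ)
      rw [if_neg hl] at this
      simp only [MonoidHom.one_apply, Units.val_one, map_one, mul_one] at this
      rw [this, map_zero]
    rw [← part_one hL, part, mul_inv_cancel_left₀ (Nat.cast_ne_zero.mpr (Fact.out : p.Prime).ne_zero),
      ← Finset.add_sum_erase _ _ (Finset.mem_univ (1 : ↥(P : Subgroup G))),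
      Finset.sum_congr rfl (g := fun y => (φ : G → ℂ) (y0 : G) * conj ((l y : ℂˣ) : ℂ)) fun y hy => by
        rw [OneMemClass.coe_one, mul_one, hconst y fun h => (Finset.mem_erase.mp hy).1 (Subtype.ext h)],
      ← Finset.mul_sum]
    rw [← Finset.add_sum_erase _ _ (Finset.mem_univ (1 : ↥(P : Subgroup G)))] at hsum
    simp only [map_one, Units.val_one, OneMemClass.coe_one, mul_one] at hsum ⊢
    linear_combination ((φ : G → ℂ) (y0 : G)) * hsum
  have hpos : ∀ l : ↥(P : Subgroup G) →* ℂˣ, l ≠ 1 → 1 ≤ mass hL φ l := by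
    intro l hl
    refine Nat.one_le_iff_ne_zero.mpr fun h0 => hy0 ?_
    have := hm l hl
    rw [h0, Nat.cast_zero, mul_zero] at this
    exact (sub_eq_zero.mp this.symm).symm
  have h1 : ((Finset.univ : Finset (↥(P : Subgroup G) →* ℂˣ)).erase 1).card ≤ deg (φ : G → ℂ) := by
    rw [deg_eq_sum hL, Finset.card_eq_sum_ones]
    exact (Finset.sum_le_sum fun l hl => hpos l (Finset.mem_erase.mp hl).1).trans
      (Finset.sum_le_sum_of_subset (Finset.erase_subset _ _))
  rw [Finset.card_erase_of_mem (Finset.mem_univ _), Finset.card_univ, card_dual hL] at h1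
  omega

/-- The squares of the multiplicities add up to the inertial index. -/
theorem square_sum (S : PConj.Setup G p) (hdiv : p ∣ Nat.card G) (hsq : ¬ p ^ 2 ∣ Nat.card G) {q : ℕ}
    (hq : FrobSylow P q) (φ : IrrCharacter G) (hd : 2 * deg (φ : G → ℂ) + 1 < p)
    {y0 : ↥(P : Subgroup G)} (hy0 : (φ : G → ℂ) (y0 : G) ≠ (φ : G → ℂ) 1) :
    (∑ η : IrrCharacter V, ((∑ l ∈ (Finset.univ : Finset (↥(P : Subgroup G) →* ℂˣ)).erase 1,
        (coeff hL φ l η : ℤ) ^ 2) + ((p : ℤ) - 1) * (coeff hL φ 1 η : ℤ) ^ 2 -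
        2 * (coeff hL φ 1 η : ℤ) * ∑ l ∈ (Finset.univ : Finset (↥(P : Subgroup G) →* ℂˣ)).erase 1,
          (coeff hL φ l η : ℤ))) = (q : ℤ) := by
  have hp : p.Prime := Fact.out
  obtain ⟨M, hM⟩ := exists_pModular hp
  haveI := Fintype.ofFinite (Subgroup.centralizer ((P : Subgroup G) : Set G))
  have hdeg : ¬ p ∣ deg (φ : G → ℂ) := fun h => by
    have := Nat.le_of_dvd (deg_pos φ.2) h; omega
  have hcnt := exceptional_norm S hdiv hsq φ hdeg (exists_moved hL S φ hd hy0)
  set γ := einner p (φ : G → ℂ) (φ : G → ℂ) with hγ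
  set cnt := (Finset.univ.filter fun u : S.U => act S u φ = φ).card with hcntdef
  have ha : S.a = 1 := by
    have h1 := (hp.dvd_iff_one_le_factorization Nat.card_pos.ne').mp hdiv
    have h2 : ¬ 2 ≤ (Nat.card G).factorization p := fun h =>
      hsq ((hp.pow_dvd_iff_le_factorization Nat.card_pos.ne').mpr h)
    have h3 : (Nat.card G).factorization p = S.a := by
      rw [S.card, Nat.factorization_mul (pow_ne_zero _ hp.ne_zero) S.m_ne, Finsupp.add_apply,
        hp.factorization_pow, Finsupp.single_eq_same, Nat.factorization_eq_zero_of_not_dvd S.ndvd, add_zero]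
    omega
  have hU : Fintype.card S.U = p - 1 := by
    rw [← Nat.card_eq_fintype_card, S.card_U, ha, pow_one, Nat.totient_prime hp]
  have hNc : (nonOne P).card = p - 1 := by
    rw [nonOne, Finset.filter_congr (q := fun y : ↥(P : Subgroup G) => y ≠ 1) fun y _ => by simp,
      Finset.filter_ne', Finset.card_erase_of_mem (Finset.mem_univ _), Finset.card_univ, ← Nat.card_eq_fintype_card,
      hL.card]
  -- all conjugates of a nontrivial element
  have hall : ∀ y ∈ nonOne P, ∀ F : ↥(P : Subgroup G) → ℂ,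
      ∑ u : S.U, F (y ^ uexp S u) = ∑ w ∈ nonOne P, F w := by
    intro y hy F
    have hy1 : y ≠ 1 := fun h => mem_nonOne.mp hy (congrArg Subtype.val h)
    have hord : orderOf y = p := by
      have h := pow_card_eq_one' (x := y)
      rw [hL.card] at h
      exact orderOf_eq_prime h hy1
    have hmem : ∀ u : S.U, y ^ uexp S u ∈ nonOne P := by
      intro u
      refine mem_nonOne.mpr fun h => ?_
      have h1 := orderOf_dvd_of_pow_eq_one (show y ^ uexp S u = 1 from Subtype.ext h)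
      rw [hord] at h1
      haveI := S.neZero
      have h2 : (uexp S u).Coprime (p ^ S.a * S.m) := val_coprime _
      rw [ha, pow_one] at h2
      exact hp.coprime_iff_not_dvd.mp (Nat.Coprime.coprime_mul_right_right h2).symm h1
    have himg : (Finset.univ : Finset S.U).image (fun u => y ^ uexp S u) = nonOne P := by
      refine Finset.Subset.antisymm (fun w hw => ?_) fun w hw => ?_
      · obtain ⟨u, -, rfl⟩ := Finset.mem_image.mp hw
        exact hmem u
      · obtain ⟨u, hu⟩ := exists_exp S hM (P := (P : Subgroup G)) hL.card hy1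
          (fun h => mem_nonOne.mp hw (congrArg Subtype.val h))
        exact Finset.mem_image.mpr ⟨u, Finset.mem_univ _, hu⟩
    rw [← himg, Finset.sum_image]
    exact Finset.card_image_iff.mp (by rw [himg, hNc, Finset.card_univ, hU])
  -- the two evaluations
  have hsame : ∀ u : S.U, einner p (φ : G → ℂ) (act S u φ : G → ℂ) = γ := by
    intro u
    rw [hγ, einner_eq_sum, einner_eq_sum]
    exact congrArg _ (Finset.sum_congr rfl fun g hg => by rw [act_regular S u φ (Finset.mem_filter.mp hg).2])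
  have hA := singular_inner hL hq φ φ
  rw [irrC_orth, if_pos rfl, ← hγ] at hA
  set T : V → ℂ := fun v => ∑ y ∈ nonOne P, (φ : G → ℂ) ((y : G) * (v : G)) with hT
  have hB : (q : ℂ) * ((cnt : ℂ) - ((p : ℂ) - 1) * γ) =
      ((p : ℂ) * Nat.card V)⁻¹ * ∑ v : V, T v * conj (T v) := by
    have e1 : ∑ u : S.U, (q : ℂ) * (classInner (φ : G → ℂ) (act S u φ : G → ℂ) -
        einner p (φ : G → ℂ) (act S u φ : G → ℂ)) = (q : ℂ) * ((cnt : ℂ) - ((p : ℂ) - 1) * γ) := by
      rw [← Finset.mul_sum, Finset.sum_sub_distrib, Finset.sum_congr rfl fun u _ => irrC_orth φ (act S u φ),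
        Finset.sum_congr rfl fun u _ => hsame u, Finset.sum_const, Finset.card_univ, hU, nsmul_eq_mul,
        Nat.cast_sub hp.one_le, Nat.cast_one, hcntdef, Finset.card_filter, Nat.cast_sum]
      refine congrArg _ (congrArg (· - _) (Finset.sum_congr rfl fun u _ => ?_))
      by_cases h : act S u φ = φ
      · rw [if_pos h, if_pos h.symm, Nat.cast_one]
      · rw [if_neg h, if_neg fun e => h e.symm, Nat.cast_zero]
    rw [← e1, Finset.sum_congr rfl fun u _ => singular_inner hL hq φ (act S u φ), ← Finset.mul_sum]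
    refine congrArg _ ?_
    rw [Finset.sum_comm, Finset.sum_congr rfl fun y _ => Finset.sum_comm, Finset.sum_comm]
    refine Finset.sum_congr rfl fun v _ => ?_
    simp only [hT, Finset.sum_mul]
    refine Finset.sum_congr rfl fun y hy => ?_
    rw [← Finset.mul_sum]
    refine congrArg _ ?_
    rw [map_sum, ← hall y hy fun w => conj ((φ : G → ℂ) ((w : G) * (v : G)))]
    refine Finset.sum_congr rfl fun u _ => congrArg conj ?_
    rw [act_apply, (hL.comm _ y.2 _ v.2).mul_pow, pow_uexp S u (hL.reg _ v.2), SubmonoidClass.coe_pow]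
  -- in multiplicities
  set c : (↥(P : Subgroup G) →* ℂˣ) → IrrCharacter V → ℤ := fun l η => (coeff hL φ l η : ℤ) with hc
  set s : IrrCharacter V → ℤ := fun η => ∑ l, c l η with hs
  have hvalue : ∀ v : V, (φ : G → ℂ) (v : G) = ∑ η : IrrCharacter V, (s η : ℂ) * (η : V → ℂ) v := by
    intro v
    simp only [value_sum hL, part_eq hL, hs, hc, Int.cast_sum, Int.cast_natCast, Finset.sum_mul]
    rw [Finset.sum_comm]
  have hTv : ∀ v : V, T v = ∑ η : IrrCharacter V, (((p : ℤ) * c 1 η - s η : ℤ) : ℂ) * (η : V → ℂ) v := by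
    intro v
    have h1 : T v = ∑ y : ↥(P : Subgroup G), (φ : G → ℂ) ((y : G) * (v : G)) - (φ : G → ℂ) (v : G) := by
      rw [hT, ← Finset.add_sum_erase _ _ (Finset.mem_univ (1 : ↥(P : Subgroup G))), OneMemClass.coe_one, one_mul,
        add_sub_cancel_left]
      refine Finset.sum_congr ?_ fun _ _ => rfl
      ext y; simp [nonOne, Finset.mem_erase]
    rw [h1, sum_P hL, hvalue, part_eq hL, Finset.mul_sum, ← Finset.sum_sub_distrib]
    refine Finset.sum_congr rfl fun η _ => ?_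
    simp only [hc]
    push_cast
    ring
  have hI : ((p : ℂ) * Nat.card V)⁻¹ * ∑ y : ↥(P : Subgroup G), ∑ v : V,
      (φ : G → ℂ) ((y : G) * (v : G)) * conj ((φ : G → ℂ) ((y : G) * (v : G))) =
      ((∑ η, ∑ l, c l η ^ 2 : ℤ) : ℂ) := by
    rw [Finset.sum_comm (s := (Finset.univ : Finset (IrrCharacter V))), Int.cast_sum,
      Finset.sum_congr rfl fun l _ => (inner_part hL φ l).symm, ← Finset.mul_sum,
      Finset.sum_comm (s := (Finset.univ : Finset (↥(P : Subgroup G) →* ℂˣ))),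
      Finset.sum_congr rfl fun v _ => parseval hL φ v, ← Finset.mul_sum,
      Finset.sum_comm (s := (Finset.univ : Finset V))]
    rw [mul_inv, mul_comm (p : ℂ)⁻¹, mul_assoc]
  have hS1 : (Nat.card V : ℂ)⁻¹ * ∑ v : V, (φ : G → ℂ) (v : G) * conj ((φ : G → ℂ) (v : G)) =
      ((∑ η, s η * s η : ℤ) : ℂ) := by
    rw [← inner_sum s s]
    exact congrArg _ (Finset.sum_congr rfl fun v _ => by rw [← hvalue])
  have hS2 : (Nat.card V : ℂ)⁻¹ * ∑ v : V, T v * conj (T v) =
      ((∑ η, ((p : ℤ) * c 1 η - s η) * ((p : ℤ) * c 1 η - s η) : ℤ) : ℂ) := by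
    rw [← inner_sum (V := V) (fun η => (p : ℤ) * c 1 η - s η) (fun η => (p : ℤ) * c 1 η - s η)]
    exact congrArg _ (Finset.sum_congr rfl fun v _ => by rw [← hTv])
  have hsplit : ∑ y ∈ nonOne P, ∑ v : V,
      (φ : G → ℂ) ((y : G) * (v : G)) * conj ((φ : G → ℂ) ((y : G) * (v : G))) =
      ∑ y : ↥(P : Subgroup G), ∑ v : V,
        (φ : G → ℂ) ((y : G) * (v : G)) * conj ((φ : G → ℂ) ((y : G) * (v : G))) -
      ∑ v : V, (φ : G → ℂ) (v : G) * conj ((φ : G → ℂ) (v : G)) := by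
    conv_rhs => rw [← Finset.add_sum_erase _ _ (Finset.mem_univ (1 : ↥(P : Subgroup G)))]
    simp only [OneMemClass.coe_one, one_mul, add_sub_cancel_left]
    refine Finset.sum_congr ?_ fun _ _ => rfl
    ext y; simp [nonOne, Finset.mem_erase]
  rw [hsplit, mul_sub ((p : ℂ) * (Nat.card V : ℂ))⁻¹, hI] at hA
  have hp0 : (p : ℂ) ≠ 0 := Nat.cast_ne_zero.mpr hp.ne_zero
  rw [mul_inv, mul_assoc, hS1] at hA
  rw [mul_inv, mul_assoc, hS2] at hB
  have hA' : (p : ℂ) * (q : ℂ) * (1 - γ) = (p : ℂ) * ((∑ η, ∑ l, c l η ^ 2 : ℤ) : ℂ) -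
      ((∑ η, s η * s η : ℤ) : ℂ) := by
    rw [mul_assoc, hA, mul_sub, mul_inv_cancel_left₀ hp0]
  have hB' : (p : ℂ) * (q : ℂ) * ((cnt : ℂ) - ((p : ℂ) - 1) * γ) =
      ((∑ η, ((p : ℤ) * c 1 η - s η) * ((p : ℤ) * c 1 η - s η) : ℤ) : ℂ) := by
    rw [mul_assoc, hB, mul_inv_cancel_left₀ hp0]
  have hsum : (p : ℤ) * ∑ η, ∑ l, c l η ^ 2 - ∑ η, s η * s η +
      ∑ η, ((p : ℤ) * c 1 η - s η) * ((p : ℤ) * c 1 η - s η) = (p : ℤ) * q := by
    apply Int.cast_injective (α := ℂ)
    rw [Int.cast_add, Int.cast_sub, Int.cast_mul, Int.cast_mul, Int.cast_natCast, Int.cast_natCast, ← hA', ← hB']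
    linear_combination (p : ℂ) * (q : ℂ) * hcnt
  refine mul_left_cancel₀ (a := (p : ℤ)) (Int.natCast_ne_zero.mpr hp.ne_zero) ?_
  rw [← hsum, Finset.mul_sum, Finset.mul_sum, ← Finset.sum_sub_distrib, ← Finset.sum_add_distrib]
  refine Finset.sum_congr rfl fun η _ => ?_
  simp only [hs, hc]
  rw [← Finset.add_sum_erase _ (fun l => (coeff hL φ l η : ℤ) ^ 2) (Finset.mem_univ 1),
    ← Finset.add_sum_erase _ (fun l => (coeff hL φ l η : ℤ)) (Finset.mem_univ 1)]
  ring

/-- One orbit of linear characters, as many as the inertial index, with square sum equal to it. -/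
theorem support (S : PConj.Setup G p) (hdiv : p ∣ Nat.card G) (hsq : ¬ p ^ 2 ∣ Nat.card G) {q : ℕ}
    (hq : FrobSylow P q) (φ : IrrCharacter G) (hd : 2 * deg (φ : G → ℂ) + 1 < p)
    {y0 : ↥(P : Subgroup G)} (hy0 : (φ : G → ℂ) (y0 : G) ≠ (φ : G → ℂ) 1) :
    ∃ l₀ : ↥(P : Subgroup G) →* ℂˣ, l₀ ≠ 1 ∧ (∀ l, mass hL φ l ≠ 0 ↔ l ∈ orbP l₀) ∧
      ∑ η : IrrCharacter V, ∑ l, (coeff hL φ l η) ^ 2 = q := by
  set E := (Finset.univ : Finset (↥(P : Subgroup G) →* ℂˣ)).erase 1 with hE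
  have hkey := square_sum hL S hdiv hsq hq φ hd hy0
  have hbound : ∀ η : IrrCharacter V, coeff hL φ 1 η + ∑ l ∈ E, coeff hL φ l η ≤ deg (φ : G → ℂ) := by
    intro η
    rw [deg_eq_sum hL, ← Finset.add_sum_erase _ _ (Finset.mem_univ 1), ← hE]
    exact add_le_add (coeff_le_mass hL φ 1 η) (Finset.sum_le_sum fun l _ => coeff_le_mass hL φ l η)
  have hterm : ∀ η : IrrCharacter V, 0 ≤ ((p : ℤ) - 1) * (coeff hL φ 1 η : ℤ) ^ 2 -
      2 * (coeff hL φ 1 η : ℤ) * ∑ l ∈ E, (coeff hL φ l η : ℤ) ∧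
      (coeff hL φ 1 η ≠ 0 → 0 < ((p : ℤ) - 1) * (coeff hL φ 1 η : ℤ) ^ 2 -
      2 * (coeff hL φ 1 η : ℤ) * ∑ l ∈ E, (coeff hL φ l η : ℤ)) := by
    intro η
    rw [← Nat.cast_sum]
    have h1 : ((∑ l ∈ E, coeff hL φ l η : ℕ) : ℤ) * 2 + 1 < (p : ℤ) := by
      have := hbound η; omega
    set a := (coeff hL φ 1 η : ℤ) with ha
    set n := ((∑ l ∈ E, coeff hL φ l η : ℕ) : ℤ)
    have ha0 : 0 ≤ a := Int.natCast_nonneg _
    have e : ((p : ℤ) - 1) * a ^ 2 - 2 * a * n = a * (((p : ℤ) - 1) * a - 2 * n) := by ring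
    rw [e]
    constructor
    · rcases eq_or_lt_of_le ha0 with h | h
      · rw [← h, zero_mul]
      · exact mul_nonneg ha0 (by nlinarith)
    · intro hne
      have h : 1 ≤ a := by omega
      exact mul_pos (by omega) (by nlinarith)
  -- the squares outside the trivial character
  have hle : ∑ η : IrrCharacter V, ∑ l ∈ E, coeff hL φ l η ^ 2 ≤ q := by
    have : ((∑ η : IrrCharacter V, ∑ l ∈ E, coeff hL φ l η ^ 2 : ℕ) : ℤ) ≤ (q : ℤ) := by
      rw [← hkey]
      push_cast
      refine Finset.sum_le_sum fun η _ => ?_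
      rw [add_sub_assoc]
      exact le_add_of_nonneg_right (hterm η).1
    exact_mod_cast this
  obtain ⟨l₀, hl₀, hm₀⟩ : ∃ l₀ : ↥(P : Subgroup G) →* ℂˣ, l₀ ≠ 1 ∧ mass hL φ l₀ ≠ 0 := by
    by_contra hno
    push Not at hno
    refine hy0 ?_
    rw [value_P hL, char_one_eq_deg (irr_isCharacter φ.2), deg_eq_sum hL, Nat.cast_sum]
    refine Finset.sum_congr rfl fun l _ => ?_
    by_cases hl : l = 1
    · subst hl; simp
    · rw [hno l hl]; simp
  have hone : ∀ l : ↥(P : Subgroup G) →* ℂˣ, mass hL φ l ≠ 0 → 1 ≤ ∑ η : IrrCharacter V, coeff hL φ l η ^ 2 := by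
    intro l hl
    obtain ⟨η, -, hη⟩ := Finset.exists_ne_zero_of_sum_ne_zero hl
    exact le_trans (Nat.one_le_pow _ _ (Nat.pos_of_ne_zero fun h => hη (by rw [h, zero_mul])))
      (Finset.single_le_sum (f := fun η : IrrCharacter V => coeff hL φ l η ^ 2) (fun _ _ => Nat.zero_le _)
        (Finset.mem_univ η))
  set O := orbP l₀ with hO
  have hOE : O ⊆ E := fun l hl =>
    Finset.mem_erase.mpr ⟨fun h => one_notMem_orbP hl₀ (h ▸ hl), Finset.mem_univ _⟩
  have hOm : ∀ l ∈ O, mass hL φ l ≠ 0 := fun l hl => by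
    obtain ⟨n, rfl⟩ := mem_orbP.mp hl
    rwa [mass_twP hL]
  have hOc : O.card = q := hq.card_orbP hl₀
  rw [Finset.sum_comm, ← Finset.sum_sdiff hOE] at hle
  have hOq : q ≤ ∑ l ∈ O, ∑ η : IrrCharacter V, coeff hL φ l η ^ 2 := by
    rw [← hOc, Finset.card_eq_sum_ones]
    exact Finset.sum_le_sum fun l hl => hone l (hOm l hl)
  have hrest : ∀ l ∈ E \ O, mass hL φ l = 0 := by
    intro l hl
    by_contra h
    have := hone l h
    have := Finset.single_le_sum (f := fun l => ∑ η : IrrCharacter V, coeff hL φ l η ^ 2) (fun _ _ => Nat.zero_le _) hl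
    omega
  have hEq : ∑ η : IrrCharacter V, ∑ l ∈ E, coeff hL φ l η ^ 2 = q := by
    rw [Finset.sum_comm, ← Finset.sum_sdiff hOE]
    omega
  have hzero : ∀ η : IrrCharacter V, coeff hL φ 1 η = 0 := by
    have hEq' : (∑ η : IrrCharacter V, ∑ l ∈ E, (coeff hL φ l η : ℤ) ^ 2) = (q : ℤ) := by exact_mod_cast hEq
    rw [Finset.sum_congr rfl fun η _ => add_sub_assoc _ _ _, Finset.sum_add_distrib, hEq', add_eq_left] at hkey
    intro η
    by_contra h
    exact ((hterm η).2 h).ne' ((Finset.sum_eq_zero_iff_of_nonneg fun η _ => (hterm η).1).mp hkey η (Finset.mem_univ _))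
  refine ⟨l₀, hl₀, fun l => ⟨fun hl => ?_, hOm l⟩, ?_⟩
  · by_contra hlO
    by_cases hl1 : l = 1
    · subst hl1
      exact hl (Finset.sum_eq_zero fun η _ => by rw [hzero η, zero_mul])
    · exact hl (hrest l (Finset.mem_sdiff.mpr ⟨Finset.mem_erase.mpr ⟨hl1, Finset.mem_univ _⟩, hlO⟩))
  · rw [← hEq]
    refine Finset.sum_congr rfl fun η _ => ?_
    rw [← Finset.add_sum_erase _ _ (Finset.mem_univ 1), hzero η, ← hE]
    simp

/-- `q ≤ d`, and equality when `V` is central. -/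
theorem inertia_le {q : ℕ} (hq : FrobSylow P q) (φ : IrrCharacter G) {l₀ : ↥(P : Subgroup G) →* ℂˣ} (hl₀ : l₀ ≠ 1)
    (hsupp : ∀ l, mass hL φ l ≠ 0 ↔ l ∈ orbP l₀) : q ≤ deg (φ : G → ℂ) := by
  rw [deg_eq_sum hL, ← hq.card_orbP hl₀, Finset.card_eq_sum_ones]
  exact (Finset.sum_le_sum fun l hl => Nat.one_le_iff_ne_zero.mpr ((hsupp l).mpr hl)).trans
    (Finset.sum_le_sum_of_subset (Finset.subset_univ _))

/-- When `V` is central the restriction to `P` is free of multiplicities. -/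
theorem central_case {q : ℕ} (φ : IrrCharacter G) (hV : V ≤ Subgroup.center G)
    (hsum : ∑ η : IrrCharacter V, ∑ l, (coeff hL φ l η) ^ 2 = q) :
    ∑ y : ↥(P : Subgroup G), (φ : G → ℂ) (y : G) * conj ((φ : G → ℂ) (y : G)) = (p : ℂ) * q ∧
      deg (φ : G → ℂ) ≤ q := by
  have hC : ∀ l, ((∑ η, (coeff hL φ l η : ℤ) ^ 2 : ℤ) : ℂ) = (mass hL φ l : ℂ) ^ 2 := by
    intro l
    rw [← inner_part hL, inv_mul_eq_iff_eq_mul₀ (Nat.cast_ne_zero.mpr Nat.card_pos.ne'),
      Finset.sum_congr rfl (g := fun _ => (mass hL φ l : ℂ) ^ 2) fun v _ => ?_, Finset.sum_const, Finset.card_univ,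
      nsmul_eq_mul, Nat.card_eq_fintype_card]
    obtain ⟨ζ, hζ, hmul⟩ := exists_central_root (z := (v : G))
      (fun c => (Subgroup.mem_center_iff.mp (hV v.2) c).symm) φ
    have hpart : part (φ : G → ℂ) l v = ζ * part (V := V) (φ : G → ℂ) l 1 := by
      simp only [part, OneMemClass.coe_one, mul_one, Finset.mul_sum]
      refine Finset.sum_congr rfl fun y _ => ?_
      rw [(hL.comm _ y.2 _ v.2).eq, hmul]
      ring
    have hn : ζ * conj ζ = 1 := by
      rw [Complex.mul_conj, Complex.normSq_eq_norm_sq,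
        Complex.norm_eq_one_of_pow_eq_one hζ (orderOf_pos _).ne']
      simp
    rw [hpart, part_one hL, map_mul, map_natCast]
    linear_combination ((mass hL φ l : ℂ) ^ 2) * hn
  have hm : ((∑ l, mass hL φ l ^ 2 : ℕ) : ℂ) = (q : ℂ) := by
    rw [← hsum, Finset.sum_comm]
    push_cast
    refine Finset.sum_congr rfl fun l _ => ?_
    rw [← hC l]
    push_cast
    rfl
  refine ⟨?_, ?_⟩
  · have h := parseval hL φ 1
    simp only [OneMemClass.coe_one, mul_one, part_one hL, map_natCast, ← sq] at h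
    rw [← hm, Nat.cast_sum]
    simp only [Nat.cast_pow, h]
    rw [mul_inv_cancel_left₀ (Nat.cast_ne_zero.mpr (Fact.out : p.Prime).ne_zero)]
  · rw [deg_eq_sum hL]
    calc ∑ l, mass hL φ l ≤ ∑ l, mass hL φ l ^ 2 := Finset.sum_le_sum fun l _ => Nat.le_self_pow two_ne_zero _
      _ = q := Nat.cast_injective (R := ℂ) hm

/-- A conjugate with no linear character of `P` in common. -/
theorem exists_partner (S : PConj.Setup G p) {q : ℕ} (hq : FrobSylow P q) (φ : IrrCharacter G)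
    (hqd : q ≤ deg (φ : G → ℂ)) (hd : 2 * deg (φ : G → ℂ) + 1 < p) {l₀ : ↥(P : Subgroup G) →* ℂˣ} (hl₀ : l₀ ≠ 1)
    (hsupp : ∀ l, mass hL φ l ≠ 0 ↔ l ∈ orbP l₀) :
    ∃ φ' : IrrCharacter G, φ' ≠ φ ∧ (∀ g : G, ¬ p ∣ orderOf g → (φ' : G → ℂ) g = (φ : G → ℂ) g) ∧
      ∑ y : ↥(P : Subgroup G), (φ : G → ℂ) (y : G) * conj ((φ' : G → ℂ) (y : G)) = 0 := by
  have hp : p.Prime := Fact.out
  obtain ⟨M, hM⟩ := exists_pModular hp
  haveI := Fintype.ofFinite (Subgroup.centralizer ((P : Subgroup G) : Set G))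
  obtain ⟨l', hl'1, hl'O⟩ : ∃ l' : ↥(P : Subgroup G) →* ℂˣ, l' ≠ 1 ∧ l' ∉ orbP l₀ := by
    by_contra hno
    push Not at hno
    have h1 : (Finset.univ : Finset (↥(P : Subgroup G) →* ℂˣ)).erase 1 ⊆ orbP l₀ :=
      fun l hl => hno l (Finset.mem_erase.mp hl).1
    have h2 := Finset.card_le_card h1
    rw [Finset.card_erase_of_mem (Finset.mem_univ _), Finset.card_univ, card_dual hL, hq.card_orbP hl₀] at h2
    omega
  obtain ⟨k, hk⟩ := mem_powers_of_prime_card (g' := l')
    (show Nat.card (↥(P : Subgroup G) →* ℂˣ) = p by rw [Nat.card_eq_fintype_card, card_dual hL]) hl₀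
  change l₀ ^ k = l' at hk
  obtain ⟨y1, hy1⟩ := exists_nonOne hL.card
  have hy1' : y1 ≠ 1 := fun h => hy1 (congrArg Subtype.val h)
  have hgen : ∀ y : ↥(P : Subgroup G), y ∈ Submonoid.powers y1 := fun y =>
    mem_powers_of_prime_card hL.card hy1'
  have hyk : y1 ^ k ≠ 1 := by
    intro h
    refine hl'1 (hk ▸ MonoidHom.ext fun y => ?_)
    obtain ⟨j, rfl⟩ := hgen y
    rw [MonoidHom.pow_apply, MonoidHom.one_apply, ← map_pow, ← pow_mul, mul_comm, pow_mul, h, one_pow, map_one]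
  obtain ⟨u, hu⟩ := exists_exp S hM (P := (P : Subgroup G)) hL.card hy1' hyk
  have hpow : ∀ y : ↥(P : Subgroup G), y ^ uexp S u = y ^ k := by
    intro y
    obtain ⟨j, rfl⟩ := hgen y
    rw [← pow_mul, mul_comm, pow_mul, hu, ← pow_mul, ← pow_mul, mul_comm]
  have hsum : ∑ y : ↥(P : Subgroup G), (φ : G → ℂ) (y : G) * conj ((act S u φ : G → ℂ) (y : G)) = 0 := by
    rw [Finset.sum_congr rfl fun y _ => by
      rw [act_apply, ← SubmonoidClass.coe_pow, hpow, value_P hL φ y, value_P hL φ (y ^ k), map_sum,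
        Finset.sum_mul_sum], Finset.sum_comm, Finset.sum_eq_zero]
    intro l _
    rw [Finset.sum_comm]
    refine Finset.sum_eq_zero fun m _ => ?_
    by_cases h0 : mass hL φ l = 0 ∨ mass hL φ m = 0
    · refine Finset.sum_eq_zero fun y _ => ?_
      rcases h0 with h | h <;> simp [h]
    push Not at h0
    rw [Finset.sum_congr rfl (g := fun y => ((mass hL φ l : ℂ) * (mass hL φ m : ℂ)) *
      (((l y : ℂˣ) : ℂ) * conj (((m ^ k) y : ℂˣ) : ℂ))) fun y _ => by
        rw [MonoidHom.pow_apply, ← map_pow, map_mul, map_natCast]; ring, ← Finset.mul_sum,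
      FrobSylow.sum_linear_mul, if_neg, mul_zero]
    intro hlm
    -- then `l'` would be in the orbit
    obtain ⟨n, hn⟩ := mem_orbP.mp ((hsupp m).mp h0.2)
    refine hl'O ?_
    have h1 : twP n l' = m ^ k := by
      rw [← hk, ← hn]
      exact MonoidHom.ext fun y => by simp [twP_apply, MonoidHom.pow_apply]
    rw [← orbP_eq_of_mem ((hsupp l).mp h0.1)]
    exact mem_orbP.mpr ⟨n⁻¹, by rw [hlm, ← h1, twP_twP, inv_mul_cancel, twP_one']⟩
  refine ⟨act S u φ, fun h => ?_, fun g hg => act_regular S u φ hg, hsum⟩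
  rw [h] at hsum
  have h1 := parseval hL φ 1
  simp only [OneMemClass.coe_one, mul_one, part_one hL, map_natCast, hsum, mul_zero] at h1
  have h2 : ∑ l, mass hL φ l * mass hL φ l = 0 := by exact_mod_cast h1
  have h3 := Finset.sum_eq_zero_iff.mp h2 l₀ (Finset.mem_univ _)
  exact (hsupp l₀).mpr (self_mem_orbP l₀) (mul_self_eq_zero.mp h3)

end Cfsg.Agent.Char.SmallBound
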