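import Cfsg.Agent.Lib.Char.SmallDegreeExceptional
import Cfsg.Agent.Lib.Char.PrimeSylowPrincipal

/-!
# A character of small degree on the centralizer of a Sylow subgroup of order `p`

With `C(P) = P × V` the restriction of a character has coefficients indexed by a linear character of `P` and an
irreducible character of `V`. For degree below `(p - 1) / 2` their squares add up to the inertial index, and the
linear characters that occur form one orbit of the normalizer.
-/

set_option autoImplicit false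
set_option linter.unusedSectionVars false
set_option linter.style.haveILetI false

open Cfsg
open scoped ComplexConjugate Classical

namespace Cfsg.Agent.Char.SmallBound

open DefectOne

universe u

variable {G : Type u} [Group G] [Fintype G] {p : ℕ} [Fact p.Prime]

/-- `V` is the set of regular elements of the centralizer of `P`. -/
structure Loc (P : Sylow p G) (V : Subgroup G) : Prop where
  card : Nat.card P = p
  comm : ∀ y ∈ (P : Subgroup G), ∀ v ∈ V, Commute y v
  reg : ∀ v ∈ V, ¬ p ∣ orderOf v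
  mem : ∀ g ∈ Subgroup.centralizer ((P : Subgroup G) : Set G), ¬ p ∣ orderOf g → g ∈ V

variable {P : Sylow p G} {V : Subgroup G}

theorem exists_nonOne (hP : Nat.card P = p) : ∃ y : ↥(P : Subgroup G), (y : G) ≠ 1 := by
  haveI : Nontrivial ↥(P : Subgroup G) :=
    Finite.one_lt_card_iff_nontrivial.mp (hP.symm ▸ (Fact.out : p.Prime).one_lt)
  obtain ⟨y, hy⟩ := exists_ne (1 : ↥(P : Subgroup G))
  exact ⟨y, fun h => hy (Subtype.ext h)⟩

theorem cent_eq (hP : Nat.card P = p) {y : ↥(P : Subgroup G)} (hy : (y : G) ≠ 1) :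
    Subgroup.centralizer ({(y : G)} : Set G) = Subgroup.centralizer ((P : Subgroup G) : Set G) := by
  rw [← centralizer_zpowers_eq, eq_zpowers_of_prime_sylow hP y.2 hy]

theorem exists_loc (hP : Nat.card P = p) : ∃ V : Subgroup G, Loc P V := by
  obtain ⟨y, hy⟩ := exists_nonOne hP
  obtain ⟨W, -, -, -, hW⟩ := (frobSylow_of_prime hP).hnpc_centralizer hy
  refine ⟨W.map (Subgroup.centralizer ({(y : G)} : Set G)).subtype, hP, ?_, ?_, fun g hg hr => ?_⟩
  · rintro a ha _ ⟨w, -, rfl⟩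
    have h1 : (w : G) ∈ Subgroup.centralizer ((P : Subgroup G) : Set G) := cent_eq hP hy ▸ w.2
    exact h1 a ha
  · rintro _ ⟨w, hw, rfl⟩
    rw [Subgroup.coe_subtype, Subgroup.orderOf_coe]
    exact (hW w).mpr hw
  · exact ⟨⟨g, cent_eq hP hy ▸ hg⟩, (hW _).mp (by rwa [Subgroup.orderOf_mk]), rfl⟩

variable [Fintype V] [Fintype (↥(P : Subgroup G) →* ℂˣ)]

/-- The part of `χ` on `V` belonging to a linear character of `P`. -/
noncomputable def part (χ : G → ℂ) (l : ↥(P : Subgroup G) →* ℂˣ) : V → ℂ := fun v =>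
  (p : ℂ)⁻¹ * ∑ y : ↥(P : Subgroup G), χ ((y : G) * (v : G)) * conj ((l y : ℂˣ) : ℂ)

omit [Fintype V] [Fintype (↥(P : Subgroup G) →* ℂˣ)] in
theorem conj_lin (l : ↥(P : Subgroup G) →* ℂˣ) (y : ↥(P : Subgroup G)) :
    conj ((l y : ℂˣ) : ℂ) = ((l y⁻¹ : ℂˣ) : ℂ) :=
  (char_inv (isCharacter_linear l) y).symm

variable (hL : Loc P V)
include hL

theorem part_isClassFunction (χ : IrrCharacter G) (l : ↥(P : Subgroup G) →* ℂˣ) :
    IsClassFunction V (part (χ : G → ℂ) l) := by
  intro v k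
  simp only [part]
  refine congrArg _ (Finset.sum_congr rfl fun y _ => congrArg (· * _) ?_)
  have h1 : (y : G) * ((k * v * k⁻¹ : V) : G) = (k : G) * ((y : G) * (v : G)) * (k : G)⁻¹ := by
    have hc := (hL.comm (y : G) y.2 (k : G) k.2).eq
    simp only [Subgroup.coe_mul, Subgroup.coe_inv, ← mul_assoc, ← hc]
  rw [h1, isClassFunction_character (irr_isCharacter χ.2)]

theorem exists_coeff (χ : IrrCharacter G) (l : ↥(P : Subgroup G) →* ℂˣ) (η : IrrCharacter V) :
    ∃ k : ℕ, classInner (part (χ : G → ℂ) l) (η : V → ℂ) = k := by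
  let μ : ↥(P : Subgroup G) × V →* G := MonoidHom.noncommCoprod (P : Subgroup G).subtype V.subtype
    fun y v => hL.comm (y : G) y.2 (v : G) v.2
  obtain ⟨k, hk⟩ := classInner_natCast (isCharacter_comp μ (irr_isCharacter χ.2))
    (isCharacter_mul (isCharacter_comp (MonoidHom.fst ↥(P : Subgroup G) V) (isCharacter_linear l))
      (isCharacter_comp (MonoidHom.snd ↥(P : Subgroup G) V) (irr_isCharacter η.2)))
  refine ⟨k, ?_⟩
  rw [← hk]
  simp only [classInner, part, Nat.card_prod, hL.card, Fintype.sum_prod_type, Nat.cast_mul, mul_inv,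
    Finset.mul_sum, Finset.sum_mul]
  rw [Finset.sum_comm]
  refine Finset.sum_congr rfl fun y _ => Finset.sum_congr rfl fun v _ => ?_
  simp only [Pi.mul_apply, Function.comp_apply, MonoidHom.coe_fst, MonoidHom.coe_snd, map_mul,
    show μ (y, v) = (y : G) * (v : G) from rfl]
  ring

/-- The multiplicity of a product character. -/
noncomputable def coeff (χ : IrrCharacter G) (l : ↥(P : Subgroup G) →* ℂˣ) (η : IrrCharacter V) : ℕ :=
  (exists_coeff hL χ l η).choose

/-- The multiplicity of a linear character of `P`. -/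
noncomputable def mass (χ : IrrCharacter G) (l : ↥(P : Subgroup G) →* ℂˣ) : ℕ :=
  ∑ η : IrrCharacter V, coeff hL χ l η * deg (η : V → ℂ)

theorem part_eq (χ : IrrCharacter G) (l : ↥(P : Subgroup G) →* ℂˣ) :
    part (χ : G → ℂ) l = fun v => ∑ η : IrrCharacter V, (coeff hL χ l η : ℂ) * (η : V → ℂ) v := by
  conv_lhs => rw [classFun_expansion (part_isClassFunction hL χ l)]
  funext v
  rw [Finset.sum_apply]
  refine Finset.sum_congr rfl fun η _ => ?_
  rw [Pi.smul_apply, smul_eq_mul, (exists_coeff hL χ l η).choose_spec]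
  rfl

theorem part_one (χ : IrrCharacter G) (l : ↥(P : Subgroup G) →* ℂˣ) :
    part (V := V) (χ : G → ℂ) l 1 = (mass hL χ l : ℂ) := by
  rw [part_eq hL, mass, Nat.cast_sum]
  exact Finset.sum_congr rfl fun η _ => by rw [char_one_eq_deg (irr_isCharacter η.2), Nat.cast_mul]

theorem coeff_le_mass (χ : IrrCharacter G) (l : ↥(P : Subgroup G) →* ℂˣ) (η : IrrCharacter V) :
    coeff hL χ l η ≤ mass hL χ l :=
  (Nat.le_mul_of_pos_right _ (deg_pos η.2)).trans
    (Finset.single_le_sum (f := fun η : IrrCharacter V => coeff hL χ l η * deg (η : V → ℂ))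
      (fun _ _ => Nat.zero_le _) (Finset.mem_univ η))

theorem fourier (χ : IrrCharacter G) (y : ↥(P : Subgroup G)) (v : V) :
    (χ : G → ℂ) ((y : G) * (v : G)) =
      ∑ l : ↥(P : Subgroup G) →* ℂˣ, ((l y : ℂˣ) : ℂ) * part (χ : G → ℂ) l v := by
  classical
  have h := frobSylow_of_prime hL.card
  simp only [part, Finset.mul_sum]
  rw [Finset.sum_comm]
  have e : ∀ w : ↥(P : Subgroup G), ∑ l : ↥(P : Subgroup G) →* ℂˣ, ((l y : ℂˣ) : ℂ) *
      ((p : ℂ)⁻¹ * ((χ : G → ℂ) ((w : G) * (v : G)) * conj ((l w : ℂˣ) : ℂ))) =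
      (p : ℂ)⁻¹ * (χ : G → ℂ) ((w : G) * (v : G)) * ∑ l : ↥(P : Subgroup G) →* ℂˣ, ((l (y * w⁻¹) : ℂˣ) : ℂ) := by
    intro w
    rw [Finset.mul_sum]
    refine Finset.sum_congr rfl fun l _ => ?_
    rw [conj_lin, map_mul, Units.val_mul]
    ring
  rw [Finset.sum_congr rfl fun w _ => e w, Finset.sum_eq_single y]
  · rw [h.sum_dual_apply, mul_inv_cancel, if_pos rfl, hL.card]
    field_simp [(Fact.out : p.Prime).ne_zero]
  · intro w _ hw
    rw [h.sum_dual_apply, if_neg fun e => hw (mul_inv_eq_one.mp e).symm, mul_zero]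
  · simp

theorem value_sum (χ : IrrCharacter G) (v : V) :
    (χ : G → ℂ) (v : G) = ∑ l : ↥(P : Subgroup G) →* ℂˣ, part (χ : G → ℂ) l v := by
  have h := fourier hL χ 1 v
  simpa using h

theorem deg_eq_sum (χ : IrrCharacter G) :
    deg (χ : G → ℂ) = ∑ l : ↥(P : Subgroup G) →* ℂˣ, mass hL χ l := by
  apply Nat.cast_injective (R := ℂ)
  rw [Nat.cast_sum, ← char_one_eq_deg (irr_isCharacter χ.2), ← OneMemClass.coe_one V, value_sum hL]
  exact Finset.sum_congr rfl fun l _ => part_one hL χ l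

theorem value_P (χ : IrrCharacter G) (y : ↥(P : Subgroup G)) :
    (χ : G → ℂ) (y : G) = ∑ l : ↥(P : Subgroup G) →* ℂˣ, ((l y : ℂˣ) : ℂ) * (mass hL χ l : ℂ) := by
  have h := fourier hL χ y 1
  rw [OneMemClass.coe_one, mul_one] at h
  rw [h]
  exact Finset.sum_congr rfl fun l _ => by rw [part_one hL]

/-- The sum over `P` through a regular element. -/
theorem sum_P (χ : IrrCharacter G) (v : V) :
    ∑ y : ↥(P : Subgroup G), (χ : G → ℂ) ((y : G) * (v : G)) = (p : ℂ) * part (χ : G → ℂ) (1 : ↥(P : Subgroup G) →* ℂˣ) v := by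
  rw [part, mul_inv_cancel_left₀ (Nat.cast_ne_zero.mpr (Fact.out : p.Prime).ne_zero)]
  simp

/-- No fixed vectors on `P` means none on `P × V`. -/
theorem sum_P_eq_zero (χ : IrrCharacter G) (h0 : ∑ y : ↥(P : Subgroup G), (χ : G → ℂ) (y : G) = 0) (v : V) :
    ∑ y : ↥(P : Subgroup G), (χ : G → ℂ) ((y : G) * (v : G)) = 0 := by
  have h1 := sum_P hL χ 1
  simp only [OneMemClass.coe_one, mul_one, part_one hL, h0] at h1
  have h2 : mass hL χ 1 = 0 :=
    Nat.cast_eq_zero.mp ((mul_eq_zero.mp h1.symm).resolve_left (Nat.cast_ne_zero.mpr (Fact.out : p.Prime).ne_zero))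
  rw [sum_P hL, part_eq hL]
  simp only
  rw [Finset.sum_eq_zero fun η _ => by
    rw [show coeff hL χ 1 η = 0 from Nat.le_zero.mp (h2 ▸ coeff_le_mass hL χ 1 η), Nat.cast_zero, zero_mul],
    mul_zero]

omit hL [Fintype (↥(P : Subgroup G) →* ℂˣ)] in
theorem inner_sum (a b : IrrCharacter V → ℤ) :
    (Nat.card V : ℂ)⁻¹ * ∑ v : V, (∑ η : IrrCharacter V, (a η : ℂ) * (η : V → ℂ) v) *
      conj (∑ η : IrrCharacter V, (b η : ℂ) * (η : V → ℂ) v) = ((∑ η, a η * b η : ℤ) : ℂ) := by
  classical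
  have h : classInner (∑ η : IrrCharacter V, (a η : ℂ) • (η : V → ℂ))
      (∑ η : IrrCharacter V, (b η : ℂ) • (η : V → ℂ)) = ((∑ η, a η * b η : ℤ) : ℂ) := by
    simp only [classInner_sum_left, classInner_sum_right, classInner_smul_left, classInner_smul_right, irrC_orth,
      map_intCast, mul_ite, mul_one, mul_zero, Finset.sum_ite_eq', Finset.mem_univ, if_true]
    push_cast
    exact Finset.sum_congr rfl fun η _ => by rw [mul_comm]
  rw [← h]
  simp only [classInner, Finset.sum_apply, Pi.smul_apply, smul_eq_mul]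

theorem inner_part (χ : IrrCharacter G) (l : ↥(P : Subgroup G) →* ℂˣ) :
    (Nat.card V : ℂ)⁻¹ * ∑ v : V, part (χ : G → ℂ) l v * conj (part (χ : G → ℂ) l v) =
      ((∑ η, (coeff hL χ l η : ℤ) ^ 2 : ℤ) : ℂ) := by
  rw [Finset.sum_congr rfl (g := fun η => (coeff hL χ l η : ℤ) * (coeff hL χ l η : ℤ)) fun η _ => sq _,
    ← inner_sum (fun η => (coeff hL χ l η : ℤ)) (fun η => (coeff hL χ l η : ℤ))]
  simp only [Int.cast_natCast, part_eq hL]

theorem parseval (χ : IrrCharacter G) (v : V) :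
    ∑ l : ↥(P : Subgroup G) →* ℂˣ, part (χ : G → ℂ) l v * conj (part (χ : G → ℂ) l v) =
      (p : ℂ)⁻¹ * ∑ y : ↥(P : Subgroup G),
        (χ : G → ℂ) ((y : G) * (v : G)) * conj ((χ : G → ℂ) ((y : G) * (v : G))) := by
  rw [Finset.sum_congr rfl (g := fun l => (p : ℂ)⁻¹ * ∑ y : ↥(P : Subgroup G),
    conj ((χ : G → ℂ) ((y : G) * (v : G))) * (((l y : ℂˣ) : ℂ) * part (χ : G → ℂ) l v)) fun l _ => ?_,
    ← Finset.mul_sum, Finset.sum_comm]
  · refine congrArg _ (Finset.sum_congr rfl fun y _ => ?_)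
    rw [← Finset.mul_sum, ← fourier hL, mul_comm]
  · conv_lhs => arg 2; simp only [part, map_mul, map_inv₀, map_natCast, map_sum, Complex.conj_conj]
    rw [mul_left_comm, Finset.mul_sum]
    exact congrArg _ (Finset.sum_congr rfl fun y _ => by ring)

open scoped Classical in
theorem card_cent {y : ↥(P : Subgroup G)} (hy : (y : G) ≠ 1) :
    Nat.card (Subgroup.centralizer ({(y : G)} : Set G)) = p * Nat.card V := by
  have h1 := (frobSylow_of_prime hL.card).card_regular hy
  rw [← h1, hL.card, mul_comm, ← Fintype.card_subtype, ← Nat.card_eq_fintype_card]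
  refine congrArg _ (Nat.card_congr
    { toFun := fun v => ⟨(v.1 : G), hL.mem _ ((cent_eq hL.card hy) ▸ v.1.2) (by rw [Subgroup.orderOf_coe]; exact v.2)⟩
      invFun := fun v => ⟨⟨(v : G), Subgroup.mem_centralizer_singleton_iff.mpr (hL.comm _ y.2 _ v.2).eq.symm⟩,
        by rw [Subgroup.orderOf_mk]; exact hL.reg _ v.2⟩
      left_inv := fun _ => rfl
      right_inv := fun _ => rfl })

open scoped Classical in
/-- The inner product over the singular elements, computed on `P × V`. -/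
theorem singular_inner {q : ℕ} (hq : FrobSylow P q) (χ ψ : IrrCharacter G) :
    (q : ℂ) * (classInner (χ : G → ℂ) (ψ : G → ℂ) - einner p (χ : G → ℂ) (ψ : G → ℂ)) =
      ((p : ℂ) * Nat.card V)⁻¹ * ∑ y ∈ nonOne P, ∑ v : V,
        (χ : G → ℂ) ((y : G) * (v : G)) * conj ((ψ : G → ℂ) ((y : G) * (v : G))) := by
  have hF : IsClassFunction G fun g => (χ : G → ℂ) g * conj ((ψ : G → ℂ) g) := fun g k => by
    simp only [isClassFunction_character (irr_isCharacter χ.2) g k, isClassFunction_character (irr_isCharacter ψ.2) g k]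
  have h1 := hq.sum_singular hF
  have h2 : classInner (χ : G → ℂ) (ψ : G → ℂ) - einner p (χ : G → ℂ) (ψ : G → ℂ) =
      (Nat.card G : ℂ)⁻¹ * ∑ g : G with p ∣ orderOf g, (χ : G → ℂ) g * conj ((ψ : G → ℂ) g) := by
    rw [classInner, einner_eq_sum,
      ← Finset.sum_filter_add_sum_filter_not Finset.univ (fun g : G => p ∣ orderOf g), mul_add, add_sub_cancel_right]
  rw [h2, mul_left_comm, h1, Finset.mul_sum, Finset.mul_sum]
  refine Finset.sum_congr rfl fun y hy => ?_
  have hy1 := mem_nonOne.mp hy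
  have e2 := Subgroup.index_mul_card (Subgroup.centralizer ({(y : G)} : Set G))
  rw [card_cent hL hy1] at e2
  have hidx : ((Subgroup.centralizer ({(y : G)} : Set G)).index : ℂ) ≠ 0 :=
    Nat.cast_ne_zero.mpr Subgroup.index_ne_zero_of_finite
  rw [← mul_assoc, ← e2, Nat.cast_mul, Nat.cast_mul, mul_inv,
    mul_right_comm ((Subgroup.centralizer ({(y : G)} : Set G)).index : ℂ)⁻¹, inv_mul_cancel₀ hidx, one_mul]
  refine congrArg _ (Finset.sum_bij
    (fun (v : Subgroup.centralizer ({(y : G)} : Set G)) hv => (⟨(v : G), hL.mem _ ((cent_eq hL.card hy1) ▸ v.2)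
      (by rw [Subgroup.orderOf_coe]; exact (Finset.mem_filter.mp hv).2)⟩ : V))
    (fun _ _ => Finset.mem_univ _) (fun a _ c _ e => Subtype.ext (congrArg Subtype.val e :))
    (fun v _ => ⟨⟨(v : G), Subgroup.mem_centralizer_singleton_iff.mpr (hL.comm _ y.2 _ v.2).eq.symm⟩,
      Finset.mem_filter.mpr ⟨Finset.mem_univ _, by rw [Subgroup.orderOf_mk]; exact hL.reg _ v.2⟩, rfl⟩)
    fun _ _ => rfl)

end Cfsg.Agent.Char.SmallBound
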