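import Cfsg.Agent.Lib.Char.SmallDegreeSylow
import Cfsg.Agent.Lib.Char.OneBlock
import Cfsg.Agent.Lib.Solv.PSolvHall
import Cfsg.Agent.Lib.Solv.Cores

/-!
# Itô: p-solvable linear groups of degree less than `p`
-/

set_option autoImplicit false
set_option linter.unusedSectionVars false
set_option linter.style.haveILetI false

namespace Cfsg.Agent.Char.SmallSylow

open Cfsg Cfsg.Agent Cfsg.Agent.Char

universe u

variable {G : Type u} [Group G] [Fintype G] {p : ℕ} [hp : Fact p.Prime] {n : ℕ}
  (ρ : Representation ℂ G (Fin n → ℂ))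

theorem normal_of_not_exc (hρ : Function.Injective ρ) (hn : n < p) (hsolv : IsPSolvable p G)
    (hex : ¬ Exc p ρ) (P : Sylow p G) : (P : Subgroup G).Normal := by
  classical
  have hinj : ∀ g, ρ g = 1 → g = 1 := fun g hg => hρ (hg.trans (map_one ρ).symm)
  have hPab : ∀ a ∈ (P : Subgroup G), ∀ b ∈ (P : Subgroup G), a * b = b * a := fun a ha b hb =>
    Blichfeldt.commute_of_primes ρ hinj (P : Subgroup G) (fun r hr hrd => by
      obtain ⟨k, hk⟩ := IsPGroup.iff_card.mp P.isPGroup'
      rw [hk] at hrd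
      rw [(Nat.prime_dvd_prime_iff_eq hr hp.out).mp (hr.dvd_of_dvd_pow hrd)]
      omega) ha hb
  haveI := Solv.pPrimeCore_normal (G := G) p
  set K := pPrimeCore p G with hK
  have hKp : ¬ p ∣ Nat.card K :=
    (hp.out.coprime_iff_not_dvd).mp (Fusion.card_pPrimeCore_coprime p G).symm
  have hPK : ∀ u ∈ (P : Subgroup G), ∀ g ∈ K, Commute u g := by
    intro u hu g hg
    obtain ⟨k, hk⟩ := P.isPGroup' ⟨u, hu⟩
    exact commute_pprime_of_not_exc ρ hρ hn hex k u (by simpa using congrArg Subtype.val hk) K hKp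
      (by rw [Subgroup.normalizer_eq_top]; trivial) g hg
  set π := QuotientGroup.mk' K with hπ
  have hπs : Function.Surjective π := QuotientGroup.mk'_surjective K
  have hc := centralizer_pCore_le_of_pSolvable (Solv.isPSolvable_map hp.out hsolv π hπs)
    (Fusion.pPrimeCore_quotient_eq_bot (p := p) (G := G))
  haveI := Solv.pCore_normal (G := G ⧸ K) p
  have hOp : IsPGroup p (pCore p (G ⧸ K)) := Solv.pCore_isPGroup p
  have hle := hOp.le_sylow_of_normal (P.mapSurjective hπs)
  have hge : (P : Subgroup G).map π ≤ pCore p (G ⧸ K) := by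
    rintro _ ⟨u, hu, rfl⟩
    refine hc (Subgroup.mem_centralizer_iff.mpr fun x hx => ?_)
    obtain ⟨v, hv, rfl⟩ : x ∈ (P : Subgroup G).map π := hle hx
    rw [← map_mul, ← map_mul, hPab v hv u hu]
  set L := K ⊔ (P : Subgroup G) with hL
  haveI : L.Normal := by
    have heq : L = (pCore p (G ⧸ K)).comap π := by
      rw [← le_antisymm hge hle |>.trans rfl, hL, Subgroup.comap_map_eq, hπ, QuotientGroup.ker_mk', sup_comm]
    rw [heq]
    infer_instance
  refine normal_of_le P L le_sup_right fun Q => ?_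
  have hPL : ((P.subtype (le_sup_right : (P : Subgroup G) ≤ L) : Sylow p L) : Subgroup L).Normal := by
    rw [Sylow.coe_subtype]
    refine (Subgroup.normal_subgroupOf_iff_le_normalizer le_sup_right).mpr (sup_le ?_ Subgroup.le_normalizer)
    exact fun g hg => Subgroup.centralizer_le_normalizer _ (Subgroup.mem_centralizer_iff.mpr
      fun u hu => (hPK u hu g hg).eq)
  haveI := Sylow.unique_of_normal _ hPL
  rw [Subsingleton.elim Q (P.subtype le_sup_right)]
  exact hPL

theorem ito (hρ : Function.Injective ρ) (hn : n + 1 ≤ p) (hsolv : IsPSolvable p G) (P : Sylow p G)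
    (hP : ¬ (P : Subgroup G).Normal) :
    n + 1 = p ∧ (∃ k : ℕ, n = 2 ^ k) ∧ IsIrrCharacter G ρ.character := by
  classical
  have hinj : ∀ g, ρ g = 1 → g = 1 := fun g hg => hρ (hg.trans (map_one ρ).symm)
  obtain ⟨R, r, hfR, θ, hr, hRr, hθ, hd⟩ : Exc p ρ := by
    by_contra hex
    exact hP (normal_of_not_exc ρ hρ (by omega) hsolv hex P)
  obtain ⟨mR, hmR⟩ := exists_decomposition (isCharacter_comp R.subtype (isCharacter_character ρ))
  have hθm : mR θ ≠ 0 := fun h0 => hθ (by
    rw [show (fun g : R => ρ.character g) = ρ.character ∘ R.subtype from rfl,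
      decomposition_coeff mR hmR θ, h0, Nat.cast_zero])
  have hdle := deg_le mR hmR (d := n) (char_one_nat ρ) hθm
  have hnp : n + 1 = p := by omega
  have hdn : deg (θ : R → ℂ) = n := by omega
  have hn2 : 2 ≤ n := by
    by_contra hlt
    refine hP ⟨fun a ha b => ?_⟩
    have hab : b * a = a * b := Blichfeldt.commute_of_primes ρ hinj ⊤ (fun s hs _ => by
      have := hs.two_le; omega) (Subgroup.mem_top b) (Subgroup.mem_top a)
    rwa [hab, mul_inv_cancel_right]
  have hpodd : Odd p := hp.out.odd_of_ne_two (by omega)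
  refine ⟨hnp, ?_, ?_⟩
  · haveI := Fact.mk hr
    obtain ⟨k, hk⟩ := IsPGroup.iff_card.mp hRr
    obtain ⟨i, -, hi⟩ := (Nat.dvd_prime_pow hr).mp (hk ▸ deg_dvd_card θ.2)
    rw [hdn] at hi
    refine ⟨i, ?_⟩
    have heven : 2 ∣ r ^ i := by
      rw [← hi]
      obtain ⟨c, hc⟩ := hpodd
      exact ⟨c, by omega⟩
    rw [hi, (Nat.prime_dvd_prime_iff_eq Nat.prime_two hr).mp (Nat.prime_two.dvd_of_dvd_pow heven)]
  · obtain ⟨m, hm⟩ := exists_decomposition (isCharacter_character ρ)
    obtain ⟨φ, hφm, hφ⟩ : ∃ φ : IrrCharacter G, m φ ≠ 0 ∧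
        classInner (fun g : R => (φ : G → ℂ) g) (θ : R → ℂ) ≠ 0 := by
      by_contra hno
      push Not at hno
      refine hθ ?_
      rw [show (fun g : R => ρ.character g) = ∑ φ, (m φ : ℂ) • fun g : R => (φ : G → ℂ) g from
        funext fun g => by
          rw [congrFun hm (g : G), Finset.sum_apply, Finset.sum_apply]
          exact Finset.sum_congr rfl fun φ _ => by
            rw [Pi.smul_apply, Pi.smul_apply, nsmul_eq_mul, smul_eq_mul],
        classInner_sum_left]
      refine Finset.sum_eq_zero fun φ _ => ?_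
      rw [classInner_smul_left]
      by_cases h0 : m φ = 0
      · rw [h0, Nat.cast_zero, zero_mul]
      · rw [hno φ h0, mul_zero]
    obtain ⟨mφ, hmφ⟩ := exists_decomposition (isCharacter_comp R.subtype (irr_isCharacter φ.2))
    have hge : deg (θ : R → ℂ) ≤ deg (φ : G → ℂ) := by
      refine deg_le mφ hmφ (d := deg (φ : G → ℂ)) ?_ fun h0 => hφ ?_
      · show (φ : G → ℂ) ((1 : R) : G) = _
        rw [OneMemClass.coe_one]
        exact char_one_eq_deg (irr_isCharacter φ.2)
      · rw [show (fun g : R => (φ : G → ℂ) g) = (φ : G → ℂ) ∘ R.subtype from rfl,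
          decomposition_coeff mφ hmφ θ, h0, Nat.cast_zero]
    have hsum := sum_deg m hm (d := n) (char_one_nat ρ)
    rw [← Finset.add_sum_erase _ _ (Finset.mem_univ φ)] at hsum
    have hmd : deg (φ : G → ℂ) ≤ m φ * deg (φ : G → ℂ) :=
      Nat.le_mul_of_pos_left _ (Nat.pos_of_ne_zero hφm)
    have hm1 : m φ = 1 := by
      by_contra h1
      have : 2 * deg (φ : G → ℂ) ≤ m φ * deg (φ : G → ℂ) := Nat.mul_le_mul_right _ (by omega)
      omega
    have hzero : ∀ ψ : IrrCharacter G, ψ ≠ φ → m ψ = 0 := by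
      intro ψ hψ
      have h1 : m ψ * deg (ψ : G → ℂ) = 0 := by
        have := Finset.single_le_sum (f := fun ξ => m ξ * deg (ξ : G → ℂ)) (fun _ _ => Nat.zero_le _)
          (Finset.mem_erase.mpr ⟨hψ, Finset.mem_univ ψ⟩)
        omega
      refine (mul_eq_zero.mp h1).resolve_right fun h0 => irr_one_ne_zero ψ.2 ?_
      rw [char_one_eq_deg (irr_isCharacter ψ.2), h0, Nat.cast_zero]
    have e : ρ.character = (φ : G → ℂ) := by
      rw [hm, Finset.sum_eq_single φ (fun ψ _ hψ => by rw [hzero ψ hψ, zero_smul]) (by simp),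
        hm1, one_smul]
    rw [e]
    exact φ.2

end Cfsg.Agent.Char.SmallSylow
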