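import Cfsg.Agent.Lib.Char.SmallTIMult
import Cfsg.Agent.Lib.Char.Codegree
import Mathlib

/-!
# Small faithful degrees under uniform centralizers
-/

set_option autoImplicit false
set_option linter.unusedSectionVars false
set_option linter.style.haveILetI false

namespace Cfsg.Agent.Char

open Cfsg Module
open scoped ComplexConjugate

universe u

variable {G : Type u} [Group G] [Fintype G]

theorem exists_uctx {p : ℕ} [Fact p.Prime] (P : Sylow p G)
    (hstar : ∀ x ∈ (P : Subgroup G), x ≠ 1 →
      Subgroup.centralizer ({x} : Set G) = Subgroup.centralizer ((P : Subgroup G) : Set G))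
    (hne : (P : Subgroup G) ≠ ⊥) :
    ∃ (T : Subgroup (Subgroup.centralizer ((P : Subgroup G) : Set G)))
      (prP : Subgroup.centralizer ((P : Subgroup G) : Set G) →* (P : Subgroup G))
      (prT : Subgroup.centralizer ((P : Subgroup G) : Set G) →* T),
      UCtx (P : Subgroup G) (Subgroup.centralizer ((P : Subgroup G) : Set G))
        (Subgroup.normalizer ((P : Subgroup G) : Set G)) T prP prT := by
  classical
  set C := Subgroup.centralizer ((P : Subgroup G) : Set G) with hCdef
  have hab : ∀ x ∈ (P : Subgroup G), ∀ y ∈ (P : Subgroup G), x * y = y * x := by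
    intro x hx y hy
    by_cases h1 : x = 1
    · simp [h1]
    have : x ∈ C := by
      rw [← hstar x hx h1]
      exact Subgroup.mem_centralizer_singleton_iff.2 rfl
    exact (Subgroup.mem_centralizer_iff.1 this y hy).symm
  have hPC : (P : Subgroup G) ≤ C := fun x hx =>
    Subgroup.mem_centralizer_iff.2 fun y hy => hab y hy x hx
  have hcomm : ∀ x ∈ (P : Subgroup G), ∀ c ∈ C, x * c = c * x := fun x hx c hc =>
    Subgroup.mem_centralizer_iff.1 hc x hx
  let P' := (P : Subgroup G).subgroupOf C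
  haveI : P'.Normal := ⟨fun a ha g => Subgroup.mem_subgroupOf.2 (by
    have h := hcomm _ (Subgroup.mem_subgroupOf.1 ha) g g.2
    simp only [Subgroup.coe_mul, Subgroup.coe_inv]
    rw [← h, mul_assoc, mul_inv_cancel, mul_one]
    exact Subgroup.mem_subgroupOf.1 ha)⟩
  have hP'card : Nat.card P' = Nat.card (P : Subgroup G) :=
    Nat.card_congr (Subgroup.subgroupOfEquivOfLe hPC).toEquiv
  have hcop0 : (Nat.card (P : Subgroup G)).Coprime P'.index :=
    Nat.Coprime.coprime_dvd_right (Subgroup.relIndex_dvd_index_of_le hPC) P.card_coprime_index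
  obtain ⟨T, hT⟩ := Subgroup.exists_right_complement'_of_coprime (N := P')
    (by rw [hP'card]; exact hcop0)
  have hTcard : Nat.card T = P'.index := by
    have h := hT.card_mul
    rw [← Subgroup.card_mul_index P'] at h
    exact Nat.eq_of_mul_eq_mul_left Nat.card_pos h
  have hcop : (Nat.card (P : Subgroup G)).Coprime (Nat.card T) := hTcard ▸ hcop0
  let f : ↥(P : Subgroup G) × T →* C :=
    { toFun := fun z => Subgroup.inclusion hPC z.1 * (z.2 : C)
      map_one' := by simp
      map_mul' := fun a b => by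
        have h : (a.2 : C) * Subgroup.inclusion hPC b.1 = Subgroup.inclusion hPC b.1 * (a.2 : C) :=
          Subtype.ext (hcomm _ b.1.2 _ (a.2 : C).2).symm
        simp only [Prod.fst_mul, Prod.snd_mul, map_mul, Subgroup.coe_mul]
        rw [mul_assoc, mul_assoc (Subgroup.inclusion hPC a.1), ← mul_assoc (Subgroup.inclusion hPC b.1),
          ← h]
        simp only [mul_assoc] }
  have hf : Function.Bijective f := by
    refine ⟨(injective_iff_map_eq_one f).2 fun z hz => ?_, fun c => ?_⟩
    · have he : Subgroup.inclusion hPC z.1 * (z.2 : C) = 1 := hz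
      have h1 : (z.2 : C) ∈ P' ⊓ T := ⟨by
        rw [eq_inv_of_mul_eq_one_right he]
        exact P'.inv_mem (Subgroup.mem_subgroupOf.2 z.1.2), z.2.2⟩
      rw [hT.disjoint.eq_bot, Subgroup.mem_bot] at h1
      rw [h1, mul_one] at he
      exact Prod.ext (Subgroup.inclusion_injective hPC (he.trans (map_one _).symm)) (Subtype.ext h1)
    · obtain ⟨⟨x, t⟩, hxt⟩ := hT.2 c
      exact ⟨(⟨((x : C) : G), Subgroup.mem_subgroupOf.1 x.2⟩, t), hxt⟩
  let E := MulEquiv.ofBijective f hf
  let prP : C →* (P : Subgroup G) := (MonoidHom.fst (P : Subgroup G) T).comp E.symm.toMonoidHom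
  let prT : C →* T := (MonoidHom.snd (P : Subgroup G) T).comp E.symm.toMonoidHom
  have hval : ∀ z, prP (f z) = z.1 ∧ prT (f z) = z.2 := fun z => by
    have h : E.symm (f z) = z := E.symm_apply_apply z
    exact ⟨congrArg Prod.fst h, congrArg Prod.snd h⟩
  have hl : ∀ x : (P : Subgroup G), f (x, 1) = Subgroup.inclusion hPC x := fun x => mul_one _
  have hr : ∀ t : T, f (1, t) = (t : C) := fun t => by
    show Subgroup.inclusion hPC 1 * (t : C) = t
    rw [map_one, one_mul]
  refine ⟨T, prP, prT, hPC, Subgroup.centralizer_le_normalizer _, hcop, fun x => by rw [← hl, (hval _).1],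
    fun x => by rw [← hl, (hval _).2], fun t => by rw [← hr, (hval _).1],
    fun t => by rw [← hr, (hval _).2], fun c => E.apply_symm_apply c, hcomm, ?_, ?_, ?_, ?_⟩
  · intro n hn c hc
    refine Subgroup.mem_centralizer_iff.2 fun y hy => ?_
    have hy' : n⁻¹ * y * n ∈ (P : Subgroup G) := by
      have := (Subgroup.mem_normalizer_iff.1 (inv_mem hn) y).1 hy
      simpa using this
    have := hcomm _ hy' c hc
    calc y * (n * c * n⁻¹) = n * (n⁻¹ * y * n * c) * n⁻¹ := by group
      _ = n * c * n⁻¹ * y := by rw [this]; group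
  · intro n hn x hx
    exact (Subgroup.mem_normalizer_iff.1 hn x).1 hx
  · intro n _ x hx hx1 he
    rw [← hstar x hx hx1]
    exact Subgroup.mem_centralizer_singleton_iff.2 (mul_inv_eq_iff_eq_mul.1 he)
  · intro g c d hc hgd
    obtain ⟨k, hk1, hk0⟩ := Nat.chineseRemainder hcop 1 0
    obtain ⟨j, rfl⟩ := Nat.modEq_zero_iff_dvd.1 hk0
    have hpow : ∀ y : C, ((y ^ (Nat.card T * j) : C) : G) = (prP y : G) := by
      intro y
      have hy : E.symm (y ^ (Nat.card T * j)) = (prP y, 1) := by
        rw [map_pow]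
        refine Prod.ext ?_ ?_
        · show prP y ^ (Nat.card T * j) = prP y
          conv_rhs => rw [← pow_one (prP y)]
          exact pow_eq_pow_iff_modEq.2 (hk1.of_dvd (orderOf_dvd_natCard _))
        · show prT y ^ (Nat.card T * j) = 1
          rw [pow_mul, pow_card_eq_one', one_pow]
      rw [← E.apply_symm_apply (y ^ (Nat.card T * j)), hy]
      exact congrArg Subtype.val (hl (prP y))
    have hgx : g * (prP c : G) * g⁻¹ = (prP d : G) := by
      rw [← hpow c, ← hpow d, Subgroup.coe_pow, Subgroup.coe_pow, ← conj_pow, hgd]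
    have hd1 : (prP d : G) ≠ 1 := by
      intro e1
      rw [e1] at hgx
      exact hc (Subtype.ext (show (prP c : G) = 1 by
        have := mul_inv_eq_one.1 hgx
        exact mul_left_cancel (this.trans (mul_one g).symm)))
    have hmem : ∀ z ∈ (P : Subgroup G), g * z * g⁻¹ ∈ (P : Subgroup G) := by
      intro z hz
      have hw : g * z * g⁻¹ ∈ C := by
        rw [← hstar _ (prP d).2 hd1, Subgroup.mem_centralizer_singleton_iff, ← hgx]
        calc g * z * g⁻¹ * (g * (prP c : G) * g⁻¹) = g * (z * (prP c : G)) * g⁻¹ := by group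
          _ = g * ((prP c : G) * z) * g⁻¹ := by rw [hab z hz _ (prP c).2]
          _ = _ := by group
      have hwq : (⟨_, hw⟩ : C) ^ Nat.card (P : Subgroup G) = 1 := Subtype.ext (by
        rw [Subgroup.coe_pow, Subgroup.coe_one]
        show (g * z * g⁻¹) ^ _ = 1
        rw [conj_pow, orderOf_dvd_iff_pow_eq_one.1 (Subgroup.orderOf_dvd_natCard _ hz)]
        group)
      have ht1 : prT ⟨_, hw⟩ = 1 := by
        refine orderOf_eq_one_iff.1 (Nat.eq_one_of_dvd_coprimes hcop (orderOf_dvd_of_pow_eq_one ?_)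
          (orderOf_dvd_natCard _))
        rw [← map_pow, hwq, map_one]
      have := E.apply_symm_apply (⟨_, hw⟩ : C)
      have h2 : E.symm (⟨_, hw⟩ : C) = (prP ⟨_, hw⟩, 1) := Prod.ext rfl ht1
      rw [h2] at this
      have h3 := congrArg Subtype.val ((hl _).symm.trans this)
      rw [← show ((prP ⟨_, hw⟩ : (P : Subgroup G)) : G) = g * z * g⁻¹ from h3]
      exact (prP _).2
    refine Subgroup.mem_normalizer_iff.2 fun y => ⟨hmem y, fun hy => ?_⟩
    let cg : ↥(P : Subgroup G) → ↥(P : Subgroup G) := fun z => ⟨_, hmem z z.2⟩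
    obtain ⟨z, hz⟩ := (Finite.injective_iff_surjective (f := cg)).1 (fun a b e => Subtype.ext
      (mul_left_cancel (mul_right_cancel (congrArg Subtype.val e : g * a * g⁻¹ = g * b * g⁻¹)))) ⟨_, hy⟩
    have : g * (z : G) * g⁻¹ = g * y * g⁻¹ := congrArg Subtype.val hz
    rw [← mul_left_cancel (mul_right_cancel this)]
    exact z.2

/-- A character constant on a subgroup generating the group normally is trivial. -/
theorem eq_one_of_const_on_closure (S : Subgroup G) (htop : Subgroup.normalClosure (S : Set G) = ⊤)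
    (φ : IrrCharacter G) (hφ : ∀ x ∈ S, (φ : G → ℂ) x = (φ : G → ℂ) 1) :
    (φ : G → ℂ) = fun _ => 1 := by
  obtain ⟨K, hKn, hK⟩ := exists_charKernel (irr_isCharacter φ.2)
  haveI := hKn
  have hall : ∀ g, (φ : G → ℂ) g = (φ : G → ℂ) 1 := fun g => (hK g).1 (by
    have := Subgroup.normalClosure_le_normal (N := K) (fun x hx => (hK x).2 (hφ x hx))
    rw [htop] at this
    exact this trivial)
  by_contra hne
  have h1 := irrC_orth φ (⟨_, isIrrCharacter_one⟩ : IrrCharacter G)
  rw [if_neg fun e0 => hne (congrArg Subtype.val e0)] at h1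
  simp only [classInner, map_one, mul_one, hall, Finset.sum_const, Finset.card_univ, nsmul_eq_mul,
    ← Nat.card_eq_fintype_card] at h1
  rw [← mul_assoc, inv_mul_cancel₀ (Nat.cast_ne_zero.2 Nat.card_pos.ne'), one_mul] at h1
  exact irr_one_ne_zero φ.2 h1

theorem norm_linear_apply {X : Type u} [Group X] [Finite X] (l : X →* ℂˣ) (x : X) :
    ‖(l x : ℂ)‖ = 1 := by
  obtain ⟨m, hm, hm1⟩ :=
    isOfFinOrder_iff_pow_eq_one.1 (l.isOfFinOrder (isOfFinOrder_of_finite x))
  refine (pow_eq_one_iff_of_nonneg (norm_nonneg _) hm.ne').1 ?_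
  rw [← norm_pow, ← Units.val_pow_eq_pow_val, hm1, Units.val_one, norm_one]

open scoped Classical in
/-- The key statement for an irreducible character. -/
theorem irr_scalar_of_small {p : ℕ} [Fact p.Prime] (P : Sylow p G)
    (hstar : ∀ x ∈ (P : Subgroup G), x ≠ 1 →
      Subgroup.centralizer ({x} : Set G) = Subgroup.centralizer ((P : Subgroup G) : Set G))
    (hne : (P : Subgroup G) ≠ ⊥) (htop : Subgroup.normalClosure ((P : Subgroup G) : Set G) = ⊤)
    (ψ : IrrCharacter G) (hψ : (ψ : G → ℂ) ≠ fun _ => 1)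
    (hdeg : charDegree (ψ : G → ℂ) ^ 2 + 1 < Nat.card (P : Subgroup G)) :
    (∀ x ∈ (P : Subgroup G), ‖(ψ : G → ℂ) x‖ = charDegree (ψ : G → ℂ)) ∧
      Subgroup.normalizer ((P : Subgroup G) : Set G) ≤
        Subgroup.centralizer ((P : Subgroup G) : Set G) := by
  obtain ⟨T, prP, prT, h⟩ := exists_uctx P hstar hne
  set C := Subgroup.centralizer ((P : Subgroup G) : Set G)
  set N := Subgroup.normalizer ((P : Subgroup G) : Set G)
  set q := Nat.card (P : Subgroup G) with hq
  haveI := Fintype.ofFinite (P : Subgroup G)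
  haveI := Fintype.ofFinite C
  haveI := Fintype.ofFinite N
  haveI := Fintype.ofFinite T
  obtain ⟨e, he⟩ : ∃ e, Nat.card N = e * Nat.card C :=
    ⟨_, (Nat.div_mul_cancel (Subgroup.card_dvd_of_le h.le_N)).symm⟩
  -- degrees
  choose dC hdC using fun ν : IrrCharacter C => charOne_eq_natCast (irr_isCharacter ν.2)
  have hdC0 : ∀ ν, 1 ≤ dC ν := fun ν => Nat.one_le_iff_ne_zero.2 fun h0 =>
    irr_one_ne_zero ν.2 (by rw [hdC, h0, Nat.cast_zero])
  have hres : ∀ {φ : G → ℂ}, IsCharacter G φ → ∀ ν : IrrCharacter C, ∃ n : ℕ, mult C φ ν = n :=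
    fun hφ ν => classInner_natCast (isCharacter_comp C.subtype hφ) (irr_isCharacter ν.2)
  have hexp : ∀ {φ : G → ℂ} (hφ : IsCharacter G φ) (a : IrrCharacter C → ℕ),
      (∀ ν, mult C φ ν = a ν) → ∀ c : C, φ c = ∑ ν, (a ν : ℂ) * (ν : C → ℂ) c := by
    intro φ hφ a ha c
    have := congrFun (classFun_expansion (isClassFunction_character (isCharacter_comp C.subtype hφ))) c
    refine this.trans ?_
    rw [Finset.sum_apply]
    exact Finset.sum_congr rfl fun ν _ => congrArg (· * (ν : C → ℂ) c) (ha ν)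
  have hdegsum : ∀ {φ : G → ℂ} (hφ : IsCharacter G φ) (a : IrrCharacter C → ℕ),
      (∀ ν, mult C φ ν = a ν) → ∀ d : ℕ, φ 1 = d → ∑ ν, a ν * dC ν = d := by
    intro φ hφ a ha d hd
    have := hexp hφ a ha 1
    rw [OneMemClass.coe_one, hd] at this
    simp only [hdC] at this
    exact_mod_cast this.symm
  -- a constituent not trivial on `P`
  have hnon : ∀ (φ : IrrCharacter G) (a : IrrCharacter C → ℕ), (φ : G → ℂ) ≠ (fun _ => 1) →
      (∀ ν, mult C (φ : G → ℂ) ν = a ν) → ∃ ν, h.lamHom ν ≠ 1 ∧ a ν ≠ 0 := by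
    intro φ a hφ ha
    by_contra hno
    push Not at hno
    refine hφ (eq_one_of_const_on_closure _ htop φ fun x hx => ?_)
    have h1 := hexp (irr_isCharacter φ.2) a ha (Subgroup.inclusion h.le_C ⟨x, hx⟩)
    have h2 := hexp (irr_isCharacter φ.2) a ha 1
    refine h1.trans (Eq.trans (Finset.sum_congr rfl fun ν _ => ?_) h2.symm)
    by_cases hν : h.lamHom ν = 1
    · rw [← mul_one (Subgroup.inclusion h.le_C ⟨x, hx⟩), h.apply_mul, ← h.lamHom_val, hν,
        MonoidHom.one_apply, Units.val_one, one_mul]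
    · rw [hno ν hν, Nat.cast_zero, zero_mul, zero_mul]
  obtain ⟨d, hd⟩ := charOne_eq_natCast (irr_isCharacter ψ.2)
  have hdψ : charDegree (ψ : G → ℂ) = d := by
    rw [charDegree, hd]; simp
  rw [hdψ] at hdeg ⊢
  choose a ha using hres (irr_isCharacter ψ.2)
  obtain ⟨ν₀, hν₀, ha₀⟩ := hnon ψ a hψ ha
  have hsum := hdegsum (irr_isCharacter ψ.2) a ha d hd
  have hale : ∑ ν, a ν ≤ d :=
    hsum ▸ Finset.sum_le_sum fun ν _ => Nat.le_mul_of_pos_right _ (hdC0 ν)
  have hed : e ≤ d := by
    refine le_trans ?_ hale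
    rw [← Nat.eq_of_mul_eq_mul_right Nat.card_pos ((h.card_orb hν₀).trans he),
      Finset.card_eq_sum_ones]
    refine le_trans (Finset.sum_le_sum fun μ hμ => ?_) (Finset.sum_le_univ_sum_of_nonneg fun _ => Nat.zero_le _)
    obtain ⟨n, rfl⟩ := h.mem_orb.1 hμ
    have h1 := h.mult_tw (isClassFunction_character (irr_isCharacter ψ.2)) n ν₀
    rw [ha, ha, Nat.cast_inj] at h1
    exact Nat.one_le_iff_ne_zero.2 (h1 ▸ ha₀)
  have he0 : 0 < e := Nat.pos_of_ne_zero fun h0 =>
    (Nat.card_pos (α := N)).ne' (by rw [he, h0, zero_mul])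
  suffices hfin : e = 1 ∧ (d = 1 ∨ ∑ ν, a ν ^ 2 = 1) by
    refine ⟨fun x hx => ?_, ?_⟩
    · obtain ⟨ν, hν1, hν0⟩ : ∃ ν, a ν = 1 ∧ ∀ μ, μ ≠ ν → a μ = 0 := by
        have hν : ∑ ν, a ν ≤ 1 := by
          rcases hfin.2 with h1 | h1
          · exact h1 ▸ hale
          · exact h1 ▸ Finset.sum_le_sum fun ν _ => Nat.le_self_pow two_ne_zero _
        rw [← Finset.add_sum_erase _ _ (Finset.mem_univ ν₀)] at hν
        refine ⟨ν₀, by omega, fun μ hμ => ?_⟩
        have h0 : ∑ ν ∈ Finset.univ.erase ν₀, a ν = 0 := by omega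
        exact Finset.sum_eq_zero_iff.1 h0 μ (Finset.mem_erase.2 ⟨hμ, Finset.mem_univ _⟩)
      have hd1 : dC ν = d := by
        rw [← hsum, Finset.sum_eq_single ν (fun μ _ hμ => by rw [hν0 μ hμ, zero_mul]) (by simp), hν1,
          one_mul]
      have h1 := hexp (irr_isCharacter ψ.2) a ha (Subgroup.inclusion h.le_C ⟨x, hx⟩)
      rw [Finset.sum_eq_single ν (fun μ _ hμ => by rw [hν0 μ hμ, Nat.cast_zero, zero_mul]) (by simp),
        hν1, Nat.cast_one, one_mul, ← mul_one (Subgroup.inclusion h.le_C ⟨x, hx⟩), h.apply_mul,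
        ← h.lamHom_val, hdC, hd1] at h1
      rw [show (ψ : G → ℂ) x = _ from (congrArg (fun c : C => (ψ : G → ℂ) c) (mul_one _).symm).trans h1,
        norm_mul, norm_linear_apply, Complex.norm_natCast, one_mul]
    · refine (Subgroup.eq_of_le_of_card_ge h.le_N ?_).ge
      rw [he, hfin.1, one_mul]
  rcases Nat.eq_or_lt_of_le (show 1 ≤ d by omega) with hd1 | hd1
  · exact ⟨by omega, Or.inl hd1.symm⟩
  have hd4 : 2 * d ≤ d ^ 2 := by nlinarith
  have hd2 : d ^ 2 < q := by omega
  have hnorm : ∑ ν, a ν ^ 2 = e := h.small_norm he ψ hψ a ha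
    (lt_of_le_of_lt (Nat.add_le_add_right (Nat.add_le_add ((Finset.sum_le_sum_of_subset
      (Finset.subset_univ _)).trans hale) hed) 1) (show d + d + 1 < q by omega))
    (lt_of_le_of_lt (Nat.pow_le_pow_left hale 2) hd2) ν₀ hν₀ ha₀
  suffices he1 : e = 1 from ⟨he1, Or.inr (hnorm.trans he1)⟩
  -- the product with the conjugate
  let Θ : G → ℂ := (ψ : G → ℂ) * fun g => conj ((ψ : G → ℂ) g)
  have hΘ : IsCharacter G Θ := isCharacter_mul (irr_isCharacter ψ.2) (isCharacter_conj (irr_isCharacter ψ.2))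
  obtain ⟨m, hm⟩ := exists_decomposition hΘ
  choose A hA using hres hΘ
  choose af haf using fun φ : IrrCharacter G => hres (irr_isCharacter φ.2)
  have hAm : ∀ ν, A ν = ∑ φ, m φ * af φ ν := by
    intro ν
    have h1 : mult C Θ ν = ∑ φ, (m φ : ℂ) * mult C (φ : G → ℂ) ν := by
      simp only [mult]
      rw [show (fun c : C => Θ c) = ∑ φ, (m φ : ℂ) • (fun c : C => (φ : G → ℂ) c) by
        funext c
        rw [hm, Finset.sum_apply, Finset.sum_apply]
        exact Finset.sum_congr rfl fun φ _ => by simp, classInner_sum_left]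
      exact Finset.sum_congr rfl fun φ _ => classInner_smul_left _ _ _
    rw [hA] at h1
    simp only [haf] at h1
    exact_mod_cast h1
  have hAt : A (trivIrr C) = e := by
    have h1 := hA (trivIrr C)
    have h2 : mult C Θ (trivIrr C) = ((∑ ν, a ν ^ 2 : ℕ) : ℂ) := by
      have hc : (fun c : C => (ψ : G → ℂ) c) = ∑ ν, ((a ν : ℤ) : ℂ) • (ν : C → ℂ) := by
        funext c
        rw [Finset.sum_apply, hexp (irr_isCharacter ψ.2) a ha c]
        simp
      have := classInner_int_combination hc
      rw [show mult C Θ (trivIrr C) = classInner (fun c : C => (ψ : G → ℂ) c) (fun c : C => (ψ : G → ℂ) c)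
        by simp [mult, classInner, Θ, trivIrr], this]
      push_cast
      simp [pow_two]
    rw [h2, hnorm, Nat.cast_inj] at h1
    exact h1.symm
  have hΘd : Θ 1 = ((d * d : ℕ) : ℂ) := by
    show (ψ : G → ℂ) 1 * conj ((ψ : G → ℂ) 1) = _
    rw [hd, map_natCast, Nat.cast_mul]
  have hlam : ∑ ν ∈ Finset.univ.filter (fun ν => h.lamHom ν ≠ 1), A ν + e ≤ d * d := by
    rw [← hdegsum hΘ A hA _ hΘd, ← Finset.sum_filter_add_sum_filter_not Finset.univ
      (fun ν => h.lamHom ν ≠ 1) (fun ν => A ν * dC ν)]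
    refine Nat.add_le_add (Finset.sum_le_sum fun ν _ => Nat.le_mul_of_pos_right _ (hdC0 ν)) ?_
    refine le_trans ?_ (Finset.single_le_sum (fun _ _ => Nat.zero_le _)
      (a := trivIrr C) (Finset.mem_filter.2 ⟨Finset.mem_univ _, not_not.2 h.lamHom_triv⟩))
    rw [hAt]
    exact Nat.le_mul_of_pos_right _ (hdC0 _)
  let one : IrrCharacter G := ⟨_, isIrrCharacter_one⟩
  have hzero : ∀ φ : IrrCharacter G, φ ≠ one → m φ * af φ (trivIrr C) = 0 := by
    intro φ hφ
    by_contra hne0
    have hm0 : 1 ≤ m φ := Nat.one_le_iff_ne_zero.2 fun h0 => hne0 (by rw [h0, zero_mul])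
    have hφ1 : (φ : G → ℂ) ≠ fun _ => 1 := fun h0 => hφ (Subtype.ext h0)
    obtain ⟨μ, hμ, hμ0⟩ := hnon φ (af φ) hφ1 (haf φ)
    have hsmall : (∑ ν ∈ Finset.univ.filter (fun ν => h.lamHom ν ≠ 1), af φ ν) + e + 1 < q := by
      have h1 : ∑ ν ∈ Finset.univ.filter (fun ν => h.lamHom ν ≠ 1), af φ ν ≤
          ∑ ν ∈ Finset.univ.filter (fun ν => h.lamHom ν ≠ 1), A ν := Finset.sum_le_sum fun ν _ => by
        rw [hAm]
        exact le_trans (Nat.le_mul_of_pos_left _ hm0)
          (Finset.single_le_sum (f := fun φ => m φ * af φ ν) (fun _ _ => Nat.zero_le _) (Finset.mem_univ φ))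
      rw [pow_two] at hdeg
      omega
    have he2 : e ^ 2 + 1 < q := by
      have := Nat.pow_le_pow_left hed 2
      omega
    exact hne0 (by rw [h.triv_mult_eq_zero he φ hφ1 (af φ) (haf φ) hsmall he2 μ hμ hμ0, mul_zero])
  rw [← hAt, hAm, Finset.sum_eq_single one (fun φ _ hφ => hzero φ hφ) (by simp)]
  have hm1 : m one = 1 := by
    have h1 := decomposition_coeff m hm one
    have h2 : classInner Θ (one : G → ℂ) = 1 := by
      rw [← irr_self ψ.2]
      simp [classInner, Θ, one]
    rw [h2] at h1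
    exact_mod_cast h1.symm
  have ha1 : af one (trivIrr C) = 1 := by
    have h1 := haf one (trivIrr C)
    rw [show mult C (one : G → ℂ) (trivIrr C) = classInner (trivIrr C : C → ℂ) (trivIrr C : C → ℂ)
      from rfl, irr_self (trivIrr C).2] at h1
    exact_mod_cast h1.symm
  rw [hm1, ha1]

open scoped Classical in
theorem commute_of_scalar (ψ : IrrCharacter G) (x g : G)
    (hx : ‖(ψ : G → ℂ) x‖ = charDegree (ψ : G → ℂ)) :
    (ψ : G → ℂ) (g * x * g⁻¹ * x⁻¹) = (ψ : G → ℂ) 1 := by
  obtain ⟨d, ρ, -, e⟩ := id ψ.2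
  rw [← e] at hx ⊢
  rw [charDegree, Representation.char_one] at hx
  simp only [Complex.natCast_re, Nat.floor_natCast] at hx
  obtain ⟨w, hw⟩ := (eq_scalar_iff ρ x).1 hx
  rw [Representation.char_one, (eq_id_iff ρ _)]
  have hx1 : ρ x * ρ x⁻¹ = 1 := by rw [← map_mul, mul_inv_cancel, map_one]
  rw [map_mul, map_mul, map_mul, hw, ← Module.End.one_eq_id, mul_smul_comm, mul_one, smul_mul_assoc,
    ← map_mul, mul_inv_cancel, map_one, show w • (1 : Module.End ℂ _) = ρ x by
      rw [hw, Module.End.one_eq_id], hx1]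

theorem normal_of_small_degree {p : ℕ} [Fact p.Prime] :
    ∀ (n : ℕ) (G : Type u) [Group G] [Fintype G] (P : Sylow p G),
    Nat.card G = n → (∀ x ∈ (P : Subgroup G), x ≠ 1 →
      Subgroup.centralizer ({x} : Set G) = Subgroup.centralizer ((P : Subgroup G) : Set G)) →
    ∀ χ : G → ℂ, IsCharacter G χ → (∀ g : G, χ g = χ 1 → g = 1) →
      charDegree χ ^ 2 + 1 < Nat.card (P : Subgroup G) → (P : Subgroup G).Normal := by
  intro n
  induction n using Nat.strong_induction_on with
  | _ n ih =>
    intro G _ _ P hn hstar χ hχ hfaith hdeg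
    classical
    by_cases hbot : (P : Subgroup G) = ⊥
    · rw [hbot]; infer_instance
    set K := Subgroup.normalClosure ((P : Subgroup G) : Set G) with hKdef
    by_cases htop : K = ⊤
    · -- `P` is central
      obtain ⟨m, hm⟩ := exists_decomposition hχ
      have hcen : ∀ x ∈ (P : Subgroup G), ∀ g : G, g * x * g⁻¹ * x⁻¹ = 1 := by
        intro x hx g
        refine hfaith _ ?_
        rw [hm, Finset.sum_apply, Finset.sum_apply]
        refine Finset.sum_congr rfl fun φ _ => ?_
        simp only [Pi.smul_apply]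
        by_cases hm0 : m φ = 0
        · simp [hm0]
        congr 1
        by_cases h1 : (φ : G → ℂ) = fun _ => 1
        · rw [h1]
        refine commute_of_scalar φ x g ((irr_scalar_of_small P hstar hbot htop φ h1 ?_).1 x hx)
        have hle : charDegree (φ : G → ℂ) ≤ charDegree χ := by
          choose d hd using fun ψ : IrrCharacter G => charOne_eq_natCast (irr_isCharacter ψ.2)
          have he : χ 1 = ((∑ ψ, m ψ * d ψ : ℕ) : ℂ) := by
            rw [hm, Finset.sum_apply]
            push_cast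
            exact Finset.sum_congr rfl fun ψ _ => by simp [hd]
          rw [charDegree, charDegree, he, hd, Complex.natCast_re, Complex.natCast_re,
            Nat.floor_natCast, Nat.floor_natCast]
          exact le_trans (Nat.le_mul_of_pos_left _ (Nat.pos_of_ne_zero hm0))
            (Finset.single_le_sum (f := fun ψ => m ψ * d ψ) (fun _ _ => Nat.zero_le _) (Finset.mem_univ φ))
        have := Nat.pow_le_pow_left hle 2
        omega
      exact ⟨fun x hx g => by rw [mul_inv_eq_one.1 (hcen x hx g)]; exact hx⟩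
    · have hPK : (P : Subgroup G) ≤ K := Subgroup.le_normalClosure
      haveI : Fintype K := Fintype.ofFinite _
      let P' := P.subtype hPK
      have hmem : ∀ x : K, x ∈ (P' : Subgroup K) ↔ (x : G) ∈ (P : Subgroup G) := fun x => by
        show x ∈ (P.subtype hPK : Subgroup K) ↔ _
        rw [Sylow.coe_subtype, Subgroup.mem_subgroupOf]
      have hcard : Nat.card (P' : Subgroup K) = Nat.card (P : Subgroup G) := by
        show Nat.card ((P.subtype hPK : Sylow p K) : Subgroup K) = _
        rw [Sylow.coe_subtype]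
        exact Nat.card_congr (Subgroup.subgroupOfEquivOfLe hPK).toEquiv
      have hstar' : ∀ x ∈ (P' : Subgroup K), x ≠ 1 →
          Subgroup.centralizer ({x} : Set K) = Subgroup.centralizer ((P' : Subgroup K) : Set K) := by
        intro x hx hx1
        ext k
        constructor
        · intro hk
          refine Subgroup.mem_centralizer_iff.2 fun y hy => Subtype.ext ?_
          have h1 : (k : G) ∈ Subgroup.centralizer ((P : Subgroup G) : Set G) := by
            rw [← hstar x ((hmem x).1 hx) fun e0 => hx1 (Subtype.ext e0)]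
            exact Subgroup.mem_centralizer_singleton_iff.2
              (congrArg Subtype.val (Subgroup.mem_centralizer_singleton_iff.1 hk))
          exact Subgroup.mem_centralizer_iff.1 h1 _ ((hmem y).1 hy)
        · intro hk
          exact Subgroup.mem_centralizer_singleton_iff.2
            (Subgroup.mem_centralizer_iff.1 hk x hx).symm
      have hlt : Nat.card K < n := by
        rw [← hn]
        exact lt_of_le_of_ne (Subgroup.card_le_card_group K) fun e0 =>
          htop (Subgroup.eq_top_of_card_eq K e0)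
      haveI hPn := ih _ hlt K P' rfl hstar' (fun k : K => χ k) (isCharacter_comp K.subtype hχ)
        (fun k hk => Subtype.ext (hfaith _ (by simpa using hk))) (by
          rw [hcard]
          refine lt_of_eq_of_lt ?_ hdeg
          simp [charDegree])
      haveI : (P' : Subgroup K).Characteristic := P'.characteristic_of_normal hPn
      have hKn : K.Normal := Subgroup.normalClosure_normal
      haveI := hKn
      have := ConjAct.normal_of_characteristic_of_normal (H := K) (K := (P' : Subgroup K))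
      have e0 : (P' : Subgroup K).map K.subtype = (P : Subgroup G) := by
        show ((P.subtype hPK : Sylow p K) : Subgroup K).map K.subtype = _
        rw [Sylow.coe_subtype]
        exact Subgroup.map_subgroupOf_eq_of_le hPK
      rwa [e0] at this

theorem small_degree_alternative {p : ℕ} [Fact p.Prime] (P : Sylow p G)
    (hstar : ∀ x ∈ (P : Subgroup G), x ≠ 1 →
      Subgroup.centralizer ({x} : Set G) = Subgroup.centralizer ((P : Subgroup G) : Set G))
    (hbot : (P : Subgroup G) ≠ ⊥) (χ : IrrCharacter G) (h1 : (χ : G → ℂ) ≠ fun _ => 1)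
    (hdeg : charDegree (χ : G → ℂ) ^ 2 + 1 < Nat.card (P : Subgroup G))
    (htop : Subgroup.normalClosure ((P : Subgroup G) : Set G) = ⊤) :
    (∃ N : Subgroup G, N.Normal ∧ N.index = Nat.card (P : Subgroup G)) ∧
      charDegree (χ : G → ℂ) = 1 := by
  classical
  obtain ⟨hsc, hNC⟩ := irr_scalar_of_small P hstar hbot htop χ h1 hdeg
  refine ⟨⟨(MonoidHom.transferSylow P hNC).ker, MonoidHom.normal_ker _, ?_⟩, ?_⟩
  · exact (MonoidHom.ker_transferSylow_isComplement' P hNC).symm.index_eq_card
  · obtain ⟨d, ρ, -, e⟩ := id χ.2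
    have hd : charDegree (χ : G → ℂ) = d := by
      rw [← e, charDegree, Representation.char_one]; simp
    rw [hd] at hsc ⊢
    let S : Subgroup G :=
      { carrier := {g | ∃ w : ℂ, ρ g = w • LinearMap.id}
        one_mem' := ⟨1, by rw [map_one, one_smul, Module.End.one_eq_id]⟩
        mul_mem' := fun {a b} ⟨v, hv⟩ ⟨w, hw⟩ => ⟨v * w, by
          rw [map_mul, hv, hw, ← Module.End.one_eq_id, smul_mul_smul_comm, one_mul]⟩
        inv_mem' := fun {a} ⟨v, hv⟩ => by
          obtain ⟨k, hk, hk1⟩ := isOfFinOrder_iff_pow_eq_one.1 (isOfFinOrder_of_finite a)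
          refine ⟨v ^ (k - 1), ?_⟩
          rw [show a⁻¹ = a ^ (k - 1) by
            refine inv_eq_of_mul_eq_one_right ?_
            rw [← pow_succ', Nat.sub_add_cancel hk, hk1], map_pow, hv, ← Module.End.one_eq_id,
            smul_pow, one_pow] }
    haveI : S.Normal := ⟨fun a ⟨v, hv⟩ g => ⟨v, by
      rw [map_mul, map_mul, hv, ← Module.End.one_eq_id, mul_smul_comm, mul_one, smul_mul_assoc,
        ← map_mul, mul_inv_cancel, map_one]⟩⟩
    have hS : Subgroup.normalClosure ((P : Subgroup G) : Set G) ≤ S :=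
      Subgroup.normalClosure_le_normal fun x hx => (eq_scalar_iff ρ x).1 (by
        rw [Module.finrank_fin_fun, e]
        exact hsc x hx)
    rw [htop] at hS
    have hall : ∀ g, ‖(χ : G → ℂ) g‖ = (d : ℝ) := fun g => by
      have := (eq_scalar_iff ρ g).2 (hS (Subgroup.mem_top g))
      rwa [Module.finrank_fin_fun, e] at this
    have hn := irr_self χ.2
    rw [classInner, Finset.sum_congr rfl fun g _ =>
      show (χ : G → ℂ) g * conj ((χ : G → ℂ) g) = ((d : ℂ)) ^ 2 by
        rw [Complex.mul_conj, Complex.normSq_eq_norm_sq, hall]; push_cast; rfl,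
      Finset.sum_const, Finset.card_univ, nsmul_eq_mul, ← Nat.card_eq_fintype_card, ← mul_assoc,
      inv_mul_cancel₀ (Nat.cast_ne_zero.2 Nat.card_pos.ne'), one_mul] at hn
    have : d ^ 2 = 1 := by exact_mod_cast hn
    exact (Nat.pow_eq_one.1 this).resolve_right two_ne_zero

end Cfsg.Agent.Char
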