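import Cfsg.Agent.Lib.Char.SmallTIStats

/-!
# Small degree characters have no trivial constituent on the singular part
-/

set_option autoImplicit false
set_option linter.unusedSectionVars false
set_option linter.style.haveILetI false

namespace Cfsg.Agent.Char

open Cfsg Module
open scoped ComplexConjugate

universe u

variable {G : Type u} [Group G] [Fintype G] {P C N : Subgroup G} [Fintype P] [Fintype C]
  [Fintype N] {T : Subgroup C} [Fintype T] {prP : C →* P} {prT : C →* T}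

/-- The trivial character of `C`. -/
noncomputable def trivIrr (C : Subgroup G) : IrrCharacter C := ⟨fun _ => 1, isIrrCharacter_one⟩

theorem UCtx.lamHom_triv (h : UCtx P C N T prP prT) : h.lamHom (trivIrr C) = 1 :=
  MonoidHom.ext fun x => Units.ext (by
    show (1 : ℂ) / 1 = _
    simp)

theorem UCtx.lamHom_tw (h : UCtx P C N T prP prT) (n : N) (ν : IrrCharacter C) (x : P) :
    h.lamHom (h.tw n ν) x =
      h.lamHom ν ⟨(n : G) * x * (n : G)⁻¹, h.normP _ n.2 _ x.2⟩ := by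
  apply Units.ext
  rw [h.lamHom_val, h.lamHom_val, UCtx.lam, UCtx.lam]
  show (ν : C → ℂ) (h.conjC n _) / (ν : C → ℂ) (h.conjC n 1) = _
  rw [map_one]
  rfl

theorem UCtx.res_tw_triv (h : UCtx P C N T prP prT) (n : N) {ν : IrrCharacter C}
    (hν : h.res ν = h.res (trivIrr C)) : h.res (h.tw n ν) = h.res (trivIrr C) := by
  refine Subtype.ext (funext fun t => ?_)
  show (ν : C → ℂ) (h.conjC n (t : C)) = 1
  have hm : prP (h.conjC n (t : C)) = 1 := (h.prP_conjC_eq_one_iff n _).2 (h.prP_right t)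
  rw [h.apply_eq, hm, map_one, Units.val_one, one_mul]
  exact congrFun (congrArg Subtype.val hν) _

theorem UCtx.card_hom (h : UCtx P C N T prP prT) : Nat.card (P →* ℂˣ) = Nat.card P := by
  rw [card_hom_units, show commutator P = ⊥ from ?_, Subgroup.index_bot]
  rw [commutator_eq_bot_iff_center_eq_top, eq_top_iff]
  exact fun x _ => Subgroup.mem_center_iff.2 fun y => Subtype.ext (h.comm y y.2 x (h.le_C x.2))

/-- The number of conjugates divides the number of nontrivial linear characters. -/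
theorem UCtx.dvd_card_sub_one (h : UCtx P C N T prP prT) {e : ℕ}
    (he : Nat.card N = e * Nat.card C) : e ∣ Nat.card P - 1 := by
  classical
  haveI := finite_hom_units P
  haveI := Fintype.ofFinite (P →* ℂˣ)
  set η := h.res (trivIrr C)
  let F := (Finset.univ : Finset (IrrCharacter C)).filter fun ν => h.lamHom ν ≠ 1 ∧ h.res ν = η
  have hF : F.card = Nat.card P - 1 := by
    rw [← h.card_hom, Nat.card_eq_fintype_card, ← Finset.card_univ,
      ← Finset.card_erase_of_mem (Finset.mem_univ (1 : P →* ℂˣ))]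
    refine Finset.card_bij (fun ν _ => h.lamHom ν) (fun ν hν => Finset.mem_erase.2
      ⟨(Finset.mem_filter.1 hν).2.1, Finset.mem_univ _⟩) (fun a ha b hb e => h.ext_irr e
      ((Finset.mem_filter.1 ha).2.2.trans (Finset.mem_filter.1 hb).2.2.symm)) fun l hl => ?_
    exact ⟨h.pair l η, Finset.mem_filter.2 ⟨Finset.mem_univ _, by
      rw [h.lamHom_pair]; exact (Finset.mem_erase.1 hl).1, h.res_pair _ _⟩, h.lamHom_pair _ _⟩
  rw [← hF, Finset.card_eq_sum_card_image h.orb F]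
  refine Finset.dvd_sum fun O hO => dvd_of_eq ?_
  obtain ⟨ν, hν, rfl⟩ := Finset.mem_image.1 hO
  have hν' := (Finset.mem_filter.1 hν).2
  have hcard := h.card_orb hν'.1
  rw [he] at hcard
  rw [← Nat.eq_of_mul_eq_mul_right Nat.card_pos hcard]
  congr 1
  ext μ
  constructor
  · intro hμ
    obtain ⟨n, rfl⟩ := h.mem_orb.1 hμ
    refine Finset.mem_filter.2 ⟨Finset.mem_filter.2 ⟨Finset.mem_univ _,
      fun e1 => hν'.1 ((h.lamHom_tw_eq_one n ν).1 e1), h.res_tw_triv n hν'.2⟩, ?_⟩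
    ext ρ
    simp only [h.mem_orb, h.tw_mul]
    exact ⟨fun ⟨m, hm⟩ => ⟨n * m, hm⟩, fun ⟨m, hm⟩ => ⟨n⁻¹ * m, by rw [mul_inv_cancel_left, hm]⟩⟩
  · intro hμ
    rw [← (Finset.mem_filter.1 hμ).2, h.mem_orb]
    exact ⟨1, h.tw_mem (one_mem C) μ⟩

open scoped Classical in
/-- Two absent orbits of linear characters. -/
theorem UCtx.exists_absent (h : UCtx P C N T prP prT) {e : ℕ}
    (he : Nat.card N = e * Nat.card C) (a : IrrCharacter C → ℕ)
    (hsmall : (∑ ν ∈ Finset.univ.filter (fun ν => h.lamHom ν ≠ 1), a ν) + e + 1 < Nat.card P) :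
    ∃ l l' : P →* ℂˣ, l ≠ 1 ∧ l' ≠ 1 ∧
      (∀ ν : IrrCharacter C, (h.lamHom ν = l ∨ h.lamHom ν = l') → a ν = 0) ∧
      (∀ ν ν' : IrrCharacter C, h.lamHom ν = l → h.lamHom ν' = l' → ν' ∉ h.orb ν) := by
  haveI := finite_hom_units P
  haveI := Fintype.ofFinite (P →* ℂˣ)
  let A := ((Finset.univ : Finset (IrrCharacter C)).filter
    fun ν => h.lamHom ν ≠ 1 ∧ a ν ≠ 0).image h.lamHom
  have hA : A.card ≤ ∑ ν ∈ Finset.univ.filter (fun ν => h.lamHom ν ≠ 1), a ν := by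
    refine Finset.card_image_le.trans ?_
    rw [← Finset.filter_filter, Finset.card_filter]
    exact Finset.sum_le_sum fun ν _ => by split_ifs <;> omega
  have hq : Nat.card P = (Finset.univ : Finset (P →* ℂˣ)).card := by
    rw [Finset.card_univ, ← Nat.card_eq_fintype_card, h.card_hom]
  obtain ⟨l, hl⟩ : ∃ l, l ∉ A ∪ {1} := by
    by_contra hno
    push Not at hno
    have := Finset.card_le_card (fun x _ => hno x : (Finset.univ : Finset (P →* ℂˣ)) ⊆ A ∪ {1})
    have h2 := Finset.card_union_le A {1}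
    rw [Finset.card_singleton] at h2
    omega
  simp only [Finset.mem_union, Finset.mem_singleton, not_or] at hl
  set ν₀ := h.pair l (h.res (trivIrr C))
  let B := (h.orb ν₀).image h.lamHom
  have hν₀ : h.lamHom ν₀ ≠ 1 := by rw [h.lamHom_pair]; exact hl.2
  have hB : B.card ≤ e := by
    refine Finset.card_image_le.trans (le_of_eq ?_)
    exact Nat.eq_of_mul_eq_mul_right Nat.card_pos ((h.card_orb hν₀).trans he)
  obtain ⟨l', hl'⟩ : ∃ l', l' ∉ A ∪ B ∪ {1} := by
    by_contra hno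
    push Not at hno
    have := Finset.card_le_card (fun x _ => hno x : (Finset.univ : Finset (P →* ℂˣ)) ⊆ A ∪ B ∪ {1})
    have h2 := Finset.card_union_le (A ∪ B) {1}
    have h3 := Finset.card_union_le A B
    rw [Finset.card_singleton] at h2
    omega
  simp only [Finset.mem_union, Finset.mem_singleton, not_or] at hl'
  refine ⟨l, l', hl.2, hl'.2, fun ν hν => ?_, fun ν ν' hν hν' hmem => ?_⟩
  · by_contra h0
    rcases hν with e1 | e1
    · exact hl.1 (Finset.mem_image.2 ⟨ν, Finset.mem_filter.2 ⟨Finset.mem_univ _, e1 ▸ hl.2, h0⟩, e1⟩)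
    · exact hl'.1.1 (Finset.mem_image.2 ⟨ν, Finset.mem_filter.2 ⟨Finset.mem_univ _, e1 ▸ hl'.2, h0⟩, e1⟩)
  · obtain ⟨n, rfl⟩ := h.mem_orb.1 hmem
    refine hl'.1.2 (Finset.mem_image.2 ⟨h.tw n ν₀, h.mem_orb.2 ⟨n, rfl⟩, ?_⟩)
    rw [← hν']
    refine MonoidHom.ext fun x => ?_
    rw [h.lamHom_tw, h.lamHom_tw, hν, h.lamHom_pair]

open scoped Classical in
/-- The multiplicities of a small character. -/
theorem UCtx.mult_shape (h : UCtx P C N T prP prT) {e : ℕ}
    (he : Nat.card N = e * Nat.card C) (φ : IrrCharacter G) (a : IrrCharacter C → ℕ)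
    (ha : ∀ ν, mult C (φ : G → ℂ) ν = a ν)
    (hsmall : (∑ ν ∈ Finset.univ.filter (fun ν => h.lamHom ν ≠ 1), a ν) + e + 1 < Nat.card P)
    (ν₀ : IrrCharacter C) (h0 : h.lamHom ν₀ ≠ 1) (ha0 : a ν₀ ≠ 0) :
    (h.orb ν₀).card = e ∧ (∀ μ ∈ h.orb ν₀, h.lamHom μ ≠ 1 ∧ a μ = 1) ∧
      ∀ μ, h.lamHom μ ≠ 1 → μ ∉ h.orb ν₀ → a μ = 0 := by
  obtain ⟨l, l', hl, hl', habs, hdiff⟩ := h.exists_absent he a hsmall
  have habs' : ∀ ν : IrrCharacter C, (h.lamHom ν = l ∨ h.lamHom ν = l') →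
      mult C (φ : G → ℂ) ν = 0 := fun ν hν => by rw [ha, habs ν hν, Nat.cast_zero]
  have key : ∀ {μ μ'}, h.lamHom μ ≠ 1 → h.lamHom μ' ≠ 1 → a μ ≠ 0 → a μ' ≠ 0 →
      a μ = 1 ∧ μ' ∈ h.orb μ := fun {μ μ'} h1 h2 h3 h4 => by
    obtain ⟨e1, e2⟩ := h.single_orbit φ l l' hl hl' habs' hdiff μ μ' h1 h2
      (by rw [ha]; exact Nat.cast_ne_zero.2 h3) (by rw [ha]; exact Nat.cast_ne_zero.2 h4)
    rw [ha] at e1
    exact ⟨by exact_mod_cast e1, e2⟩
  refine ⟨Nat.eq_of_mul_eq_mul_right Nat.card_pos ((h.card_orb h0).trans he), fun μ hμ => ?_,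
    fun μ hμ hno => by_contra fun h1 => hno (key h0 hμ ha0 h1).2⟩
  obtain ⟨n, rfl⟩ := h.mem_orb.1 hμ
  refine ⟨fun e1 => h0 ((h.lamHom_tw_eq_one n ν₀).1 e1), ?_⟩
  have h1 := h.mult_tw (isClassFunction_character (irr_isCharacter φ.2)) n ν₀
  rw [ha, ha, (key h0 h0 ha0 ha0).1] at h1
  exact_mod_cast h1

open scoped Classical in
/-- The fibre of a function on the characters of `C` over a character of `T`. -/
theorem UCtx.sum_fibre (h : UCtx P C N T prP prT) (f : IrrCharacter C → ℕ) (O : Finset (IrrCharacter C))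
    (hO : ∀ μ ∈ O, h.lamHom μ ≠ 1 ∧ f μ = 1) (hno : ∀ μ, h.lamHom μ ≠ 1 → μ ∉ O → f μ = 0)
    (η : IrrCharacter T) :
    ∑ ν ∈ Finset.univ.filter (fun ν => h.res ν = η), f ν =
      (O.filter fun ν => h.res ν = η).card + f (h.pair 1 η) := by
  rw [← Finset.sum_filter_add_sum_filter_not (Finset.univ.filter fun ν => h.res ν = η) (· ∈ O)]
  congr 1
  · rw [show (Finset.univ.filter fun ν => h.res ν = η).filter (· ∈ O) =
      O.filter fun ν => h.res ν = η by ext x; simp [and_comm], Finset.card_eq_sum_ones]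
    exact Finset.sum_congr rfl fun x hx => (hO x (Finset.mem_filter.1 hx).1).2
  · refine Finset.sum_eq_single (h.pair 1 η) (fun ν hν hne => ?_) fun hn => absurd ?_ hn
    · simp only [Finset.mem_filter, Finset.mem_univ, true_and] at hν
      by_cases hl : h.lamHom ν = 1
      · exact absurd (h.ext_irr (hl.trans (h.lamHom_pair _ _).symm) (hν.1.trans (h.res_pair _ _).symm)) hne
      · exact hno ν hl hν.2
    · simp only [Finset.mem_filter, Finset.mem_univ, true_and]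
      exact ⟨h.res_pair _ _, fun hm => (hO _ hm).1 (h.lamHom_pair _ _)⟩

/-- The inequality deciding the critical case. -/
theorem small_ti_arith {q e b κ D E : ℝ} (hκ : 0 < κ) (hD : 0 < D) (he : 1 ≤ e) (hb : 1 ≤ b)
    (hq : e ^ 2 + e + 1 ≤ q) (hEpos : 0 ≤ E) (hE : E ≤ (e + b) ^ 2 - q * b ^ 2)
    (hCS : (κ * (q * b - (e + b)) + D) ^ 2 ≤
      (κ * (e * q - q + 1) - 1) * (κ * E - D ^ 2)) : False := by
  have hA : 0 ≤ q * b - (e + b) := by nlinarith
  have hV : 0 ≤ e * q - q + 1 := by nlinarith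
  have hkey : E * (e * q - q + 1) ≤ (q * b - (e + b)) ^ 2 := by
    refine (mul_le_mul_of_nonneg_right hE hV).trans ?_
    have h1 : 0 ≤ q * b ^ 2 - e * (e - 1) - 2 * e * b - b ^ 2 := by
      nlinarith [mul_le_mul_of_nonneg_right hq (sq_nonneg b), sq_nonneg (b - 1),
        mul_nonneg (sub_nonneg.2 hb) (sq_nonneg e), mul_nonneg (mul_nonneg (le_trans zero_le_one he)
          (sub_nonneg.2 hb)) (sub_nonneg.2 hb)]
    nlinarith [mul_nonneg (mul_nonneg (le_trans (by nlinarith : (0 : ℝ) ≤ e ^ 2 + e + 1) hq)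
      (le_trans zero_le_one he)) h1]
  have hV1 : 0 < e * q - q + 1 := by nlinarith
  have h1 : 0 < κ * (e * q - q + 1) * D ^ 2 := mul_pos (mul_pos hκ hV1) (pow_pos hD 2)
  have h2 : 0 ≤ κ * E := mul_nonneg hκ.le hEpos
  have h3 : 0 ≤ 2 * (κ * (q * b - (e + b))) * D :=
    mul_nonneg (mul_nonneg (by norm_num) (mul_nonneg hκ.le hA)) hD.le
  have h4 := mul_le_mul_of_nonneg_left hkey (mul_nonneg hκ.le hκ.le)
  linarith [show (κ * (q * b - (e + b)) + D) ^ 2 - (κ * (e * q - q + 1) - 1) * (κ * E - D ^ 2) =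
    κ * κ * (q * b - (e + b)) ^ 2 - κ * κ * (E * (e * q - q + 1)) + 2 * (κ * (q * b - (e + b))) * D +
      κ * E + κ * (e * q - q + 1) * D ^ 2 by ring]

open scoped Classical in
/-- A small character not trivial on `P` does not contain the trivial character of `C`. -/
theorem UCtx.triv_mult_eq_zero (h : UCtx P C N T prP prT) {e : ℕ}
    (he : Nat.card N = e * Nat.card C) (φ : IrrCharacter G) (hne : (φ : G → ℂ) ≠ fun _ => 1)
    (a : IrrCharacter C → ℕ) (ha : ∀ ν, mult C (φ : G → ℂ) ν = a ν)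
    (hsmall : (∑ ν ∈ Finset.univ.filter (fun ν => h.lamHom ν ≠ 1), a ν) + e + 1 < Nat.card P)
    (he2 : e ^ 2 + 1 < Nat.card P) (ν₀ : IrrCharacter C) (h0 : h.lamHom ν₀ ≠ 1)
    (ha0 : a ν₀ ≠ 0) : a (trivIrr C) = 0 := by
  by_contra hb0
  obtain ⟨hOc, hO, hno⟩ := h.mult_shape he φ a ha hsmall ν₀ h0 ha0
  set O := h.orb ν₀
  obtain ⟨κ, D, hκ, hD, hEpos, hCS⟩ := h.section_bound he φ hne a ha (trivIrr C) fun _ => rfl
  set η₁ := h.res (trivIrr C)
  have hp1 : h.pair 1 η₁ = trivIrr C :=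
    h.ext_irr ((h.lamHom_pair _ _).trans h.lamHom_triv.symm) (h.res_pair _ _)
  have hS : ∀ η, (∑ ν ∈ Finset.univ.filter (fun ν => h.res ν = η), (a ν : ℝ)) =
      ((O.filter fun ν => h.res ν = η).card : ℝ) + a (h.pair 1 η) := fun η => by
    exact_mod_cast h.sum_fibre a O hO hno η
  have hS2 : ∀ η, (∑ ν ∈ Finset.univ.filter (fun ν => h.res ν = η), (a ν : ℝ) ^ 2) =
      ((O.filter fun ν => h.res ν = η).card : ℝ) + (a (h.pair 1 η) : ℝ) ^ 2 := fun η => by
    have h2 := h.sum_fibre (fun ν => a ν ^ 2) O (fun μ hμ => ⟨(hO μ hμ).1, by simp [(hO μ hμ).2]⟩)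
      (fun μ h1 h2 => by simp [hno μ h1 h2]) η
    exact_mod_cast h2
  have hn : ∑ η : IrrCharacter T, ((O.filter fun ν => h.res ν = η).card : ℝ) = e := by
    have := Finset.card_eq_sum_card_fiberwise (f := h.res) (s := O) (t := Finset.univ)
      fun x _ => Finset.mem_univ _
    rw [hOc] at this
    exact_mod_cast this.symm
  have hsum2 : ∑ ν, (a ν : ℝ) ^ 2 = e + ∑ η : IrrCharacter T, (a (h.pair 1 η) : ℝ) ^ 2 := by
    rw [← Finset.sum_fiberwise Finset.univ h.res (fun ν => (a ν : ℝ) ^ 2),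
      Finset.sum_congr rfl fun η _ => hS2 η, Finset.sum_add_distrib, hn]
  simp only [hS, hsum2] at hEpos hCS
  rw [hp1] at hCS
  set n : IrrCharacter T → ℝ := fun η => ((O.filter fun ν => h.res ν = η).card : ℝ) with hndef
  set b : IrrCharacter T → ℝ := fun η => (a (h.pair 1 η) : ℝ) with hbdef
  set q : ℝ := (Nat.card P : ℝ) with hqdef
  set E : ℝ := (e : ℝ) * q - q * ((e : ℝ) + ∑ η, b η ^ 2) + ∑ η, (n η + b η) ^ 2 with hEdef
  have hEeq : E = ∑ η, ((n η + b η) ^ 2 - q * b η ^ 2) := by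
    rw [Finset.sum_sub_distrib, hEdef, ← Finset.mul_sum]; ring
  have hb1 : (1 : ℝ) ≤ a (trivIrr C) := by exact_mod_cast Nat.one_le_iff_ne_zero.2 hb0
  have hb1' : b η₁ = a (trivIrr C) := by rw [hbdef]; simp only [hp1]
  have he0 : 1 ≤ e := by
    rw [← hOc]
    exact Finset.card_pos.2 ⟨ν₀, h.mem_orb.2 ⟨1, h.tw_mem (one_mem C) _⟩⟩
  have hq : (e : ℝ) ^ 2 + e + 1 ≤ q := by
    obtain ⟨k, hk⟩ := h.dvd_card_sub_one he
    have hlt : e * e < e * k := by rw [← hk]; rw [pow_two] at he2; omega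
    have hk1 : e + 1 ≤ k := Nat.lt_of_mul_lt_mul_left hlt
    have h2 := Nat.mul_le_mul_left e hk1
    rw [← hk, mul_add, mul_one] at h2
    have : e ^ 2 + e + 1 ≤ Nat.card P := by rw [pow_two]; omega
    rw [hqdef]
    exact_mod_cast this
  have he1 : (1 : ℝ) ≤ e := by exact_mod_cast he0
  have hq1 : 1 < q := by nlinarith
  by_cases hcase : ∃ μ ∈ O, h.res μ = η₁
  · obtain ⟨μ, hμ, hμe⟩ := hcase
    obtain ⟨m, hm⟩ := h.mem_orb.1 hμ
    have hall : ∀ x ∈ O, h.res x = η₁ := fun x hx => by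
      obtain ⟨k, rfl⟩ := h.mem_orb.1 hx
      rw [show h.tw k ν₀ = h.tw (m⁻¹ * k) μ by rw [← hm, h.tw_mul, mul_inv_cancel_left]]
      exact h.res_tw_triv _ hμe
    have hn1 : n η₁ = e := by
      show ((O.filter fun ν => h.res ν = η₁).card : ℝ) = e
      rw [Finset.filter_true_of_mem hall, hOc]
    have hn0 : ∀ η, η ≠ η₁ → n η = 0 := fun η hη => by
      show ((O.filter fun ν => h.res ν = η).card : ℝ) = 0
      rw [Finset.filter_false_of_mem fun x hx e1 => hη (e1.symm.trans (hall x hx)), Finset.card_empty,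
        Nat.cast_zero]
    have hEle : E ≤ ((e : ℝ) + b η₁) ^ 2 - q * b η₁ ^ 2 := by
      rw [hEeq, ← Finset.add_sum_erase _ _ (Finset.mem_univ η₁), hn1]
      have : ∑ η ∈ Finset.univ.erase η₁, ((n η + b η) ^ 2 - q * b η ^ 2) ≤ 0 :=
        Finset.sum_nonpos fun η hη => by
          rw [hn0 η (Finset.ne_of_mem_erase hη)]
          nlinarith [sq_nonneg (b η)]
      linarith
    have hS1 : ((O.filter fun ν => h.res ν = η₁).card : ℝ) = e := hn1
    rw [hS1] at hCS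
    rw [hb1'] at hEle
    exact small_ti_arith hκ hD he1 hb1 hq hEpos.le hEle hCS
  · push Not at hcase
    have hn1 : n η₁ = 0 := by
      show ((O.filter fun ν => h.res ν = η₁).card : ℝ) = 0
      rw [Finset.filter_false_of_mem hcase, Finset.card_empty, Nat.cast_zero]
    have hEle : E * (q - 1) ≤ q * (e : ℝ) ^ 2 - (q - 1) ^ 2 * b η₁ ^ 2 := by
      rw [hEeq, Finset.sum_mul, ← Finset.add_sum_erase _ _ (Finset.mem_univ η₁), hn1]
      have hle : ∑ η ∈ Finset.univ.erase η₁, ((n η + b η) ^ 2 - q * b η ^ 2) * (q - 1) ≤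
          q * ∑ η ∈ Finset.univ.erase η₁, n η ^ 2 := by
        rw [Finset.mul_sum]
        exact Finset.sum_le_sum fun η _ => by nlinarith [sq_nonneg (n η - (q - 1) * b η)]
      have hsq : ∑ η ∈ Finset.univ.erase η₁, n η ^ 2 ≤ (e : ℝ) ^ 2 := by
        rw [← hn]
        refine (Finset.sum_le_sum_of_subset_of_nonneg (Finset.erase_subset _ _)
          (fun η _ _ => sq_nonneg _)).trans ?_
        exact Finset.sum_sq_le_sq_sum_of_nonneg fun η _ => Nat.cast_nonneg _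
      have := mul_le_mul_of_nonneg_left hsq (by linarith : (0 : ℝ) ≤ q)
      nlinarith
    have hpos : 0 < E * (q - 1) := mul_pos hEpos (by linarith)
    rw [hb1'] at hEle
    have he2' : (e : ℝ) ^ 2 + 1 + 1 ≤ q := by rw [hqdef]; exact_mod_cast he2
    nlinarith [mul_le_mul_of_nonneg_left (one_le_pow₀ hb1 : (1 : ℝ) ≤ (a (trivIrr C) : ℝ) ^ 2)
      (sq_nonneg (q - 1))]

open scoped Classical in
/-- A character of degree below the square root of `|P|` not trivial on `P`. -/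
theorem UCtx.small_norm (h : UCtx P C N T prP prT) {e : ℕ}
    (he : Nat.card N = e * Nat.card C) (φ : IrrCharacter G) (hne : (φ : G → ℂ) ≠ fun _ => 1)
    (a : IrrCharacter C → ℕ) (ha : ∀ ν, mult C (φ : G → ℂ) ν = a ν)
    (hsmall : (∑ ν ∈ Finset.univ.filter (fun ν => h.lamHom ν ≠ 1), a ν) + e + 1 < Nat.card P)
    (hd : (∑ ν, a ν) ^ 2 < Nat.card P) (ν₀ : IrrCharacter C) (h0 : h.lamHom ν₀ ≠ 1)
    (ha0 : a ν₀ ≠ 0) : ∑ ν, a ν ^ 2 = e := by
  obtain ⟨hOc, hO, hno⟩ := h.mult_shape he φ a ha hsmall ν₀ h0 ha0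
  set O := h.orb ν₀
  obtain ⟨κ, D, -, -, hEpos, -⟩ := h.section_bound he φ hne a ha (trivIrr C) fun _ => rfl
  have hsplit : ∑ ν, a ν ^ 2 = e + ∑ η : IrrCharacter T, a (h.pair 1 η) ^ 2 := by
    rw [← Finset.sum_fiberwise Finset.univ h.res, Finset.sum_congr rfl fun η _ =>
      h.sum_fibre (fun ν => a ν ^ 2) O (fun μ hμ => ⟨(hO μ hμ).1, by simp [(hO μ hμ).2]⟩)
        (fun μ h1 h2 => by simp [hno μ h1 h2]) η, Finset.sum_add_distrib, ← hOc,
      ← Finset.card_eq_sum_card_fiberwise fun x _ => Finset.mem_univ _]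
  suffices hB : ∑ η : IrrCharacter T, a (h.pair 1 η) ^ 2 = 0 by rw [hsplit, hB, add_zero]
  by_contra hB
  have hS : (∑ η : IrrCharacter T, (∑ ν ∈ Finset.univ.filter (fun ν => h.res ν = η), a ν) ^ 2) ≤
      (∑ ν, a ν) ^ 2 := by
    rw [← Finset.sum_fiberwise Finset.univ h.res a]
    exact Finset.sum_sq_le_sq_sum_of_nonneg fun η _ => Nat.zero_le _
  have h1 : Nat.card P * e + Nat.card P ≤ Nat.card P * ∑ ν, a ν ^ 2 := by
    rw [hsplit, mul_add]
    exact Nat.add_le_add_left (Nat.le_mul_of_pos_right _ (Nat.pos_of_ne_zero hB)) _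
  have hlt : ((∑ η : IrrCharacter T,
      (∑ ν ∈ Finset.univ.filter (fun ν => h.res ν = η), a ν) ^ 2 : ℕ) : ℝ) <
      (Nat.card P : ℝ) := by exact_mod_cast lt_of_le_of_lt hS hd
  have h1' : (Nat.card P : ℝ) * e + Nat.card P ≤ Nat.card P * ∑ ν, (a ν : ℝ) ^ 2 := by
    exact_mod_cast h1
  push_cast at hlt
  nlinarith

end Cfsg.Agent.Char
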