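import Cfsg.Agent.Lib.Char.SmallTIChar

/-!
# Induction from `P × T` and the single orbit lemma
-/

set_option autoImplicit false
set_option linter.unusedSectionVars false
set_option linter.style.haveILetI false

namespace Cfsg.Agent.Char

open Cfsg Module
open scoped ComplexConjugate

universe u

variable {G : Type u} [Group G] [Fintype G] {P C N : Subgroup G} [Fintype P] [Fintype C]
  [Fintype N] {T : Subgroup C} [Fintype T] {prP : C →* P} {prT : C →* T}

/-- Induced functions on the singular part of `C`. -/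
theorem UCtx.classInner_indFun (h : UCtx P C N T prP prT) (f g : C → ℂ)
    (hf : ∀ c, prP c = 1 → f c = 0) (hg : ∀ c, prP c = 1 → g c = 0) :
    classInner (indFun C f) (indFun C g) =
      (Nat.card C : ℂ)⁻¹ * ∑ n : N, classInner f (fun c => g (h.conjC n c)) := by
  classical
  rw [frobenius C f (isClassFunction_indFun C g)]
  simp only [classInner, ← Finset.mul_sum]
  congr 1
  rw [Finset.sum_comm, Finset.mul_sum]
  refine Finset.sum_congr rfl fun c _ => ?_
  by_cases hc : prP c = 1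
  · simp [hf c hc]
  rw [← Finset.mul_sum, mul_left_comm, ← map_sum]
  congr 1
  have hval : indFun C g (c : G) = (Nat.card C : ℂ)⁻¹ * ∑ n : N, g (h.conjC n c) := by
    simp only [indFun]
    congr 1
    rw [← Finset.sum_filter_of_ne (p := fun k : G => k⁻¹ ∈ N) (fun k _ hk => by
      by_contra hkN
      apply hk
      by_cases hm : k⁻¹ * (c : G) * k ∈ C
      · rw [extendByZero_mem C g hm]
        refine hg _ ?_
        by_contra hne
        exact hkN (h.ti k⁻¹ c ⟨_, hm⟩ hc (by simp))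
      · exact extendByZero_not_mem C g hm)]
    refine Finset.sum_bij' (fun k hk => (⟨k⁻¹, (Finset.mem_filter.1 hk).2⟩ : N))
      (fun n _ => (n : G)⁻¹) (fun k _ => Finset.mem_univ _)
      (fun n _ => Finset.mem_filter.2 ⟨Finset.mem_univ _, by simp⟩) (fun k _ => inv_inv k)
      (fun n _ => Subtype.ext (inv_inv _)) fun k hk => ?_
    have hm : k⁻¹ * (c : G) * k ∈ C := by
      simpa using h.normC _ (Finset.mem_filter.1 hk).2 _ c.2
    rw [extendByZero_mem C g hm]
    congr 1
    exact Subtype.ext (by simp [UCtx.conjC])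
  rw [hval, map_mul, map_inv₀, map_natCast]

/-- The pairs of characters of `C` agreeing away from the singular part. -/
theorem UCtx.diff_vanish (h : UCtx P C N T prP prT) {ν μ : IrrCharacter C} (he : h.res ν = h.res μ)
    (c : C) (hc : prP c = 1) : ((ν : C → ℂ) - (μ : C → ℂ)) c = 0 := by
  rw [Pi.sub_apply, h.apply_eq ν c, h.apply_eq μ c, hc, map_one, map_one,
    show (ν : C → ℂ) (prT c : C) = (μ : C → ℂ) (prT c : C) from
      congrFun (congrArg Subtype.val he) (prT c), sub_self]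

open scoped Classical in
/-- The inner product of two induced differences. -/
theorem UCtx.classInner_diff (h : UCtx P C N T prP prT) {ν μ ν' μ' : IrrCharacter C}
    (he : h.res ν = h.res μ) (he' : h.res ν' = h.res μ') :
    classInner (indFun C ((ν : C → ℂ) - (μ : C → ℂ))) (indFun C ((ν' : C → ℂ) - (μ' : C → ℂ))) =
      (Nat.card C : ℂ)⁻¹ * ∑ n : N, ((if ν = h.tw n ν' then (1 : ℂ) else 0) -
        (if ν = h.tw n μ' then 1 else 0) - (if μ = h.tw n ν' then 1 else 0) +
        (if μ = h.tw n μ' then 1 else 0)) := by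
  rw [h.classInner_indFun _ _ (h.diff_vanish he) (h.diff_vanish he')]
  congr 1
  refine Finset.sum_congr rfl fun n _ => ?_
  rw [show (fun c => ((ν' : C → ℂ) - (μ' : C → ℂ)) (h.conjC n c)) =
      (h.tw n ν' : C → ℂ) - (h.tw n μ' : C → ℂ) from rfl, classInner_sub_left, classInner_sub_right,
    classInner_sub_right, irrC_orth, irrC_orth, irrC_orth, irrC_orth]
  ring

/-- A constituent and a non-constituent with the same restriction to `T`. -/
theorem UCtx.exists_pair (h : UCtx P C N T prP prT) (φ : IrrCharacter G) {ν μ : IrrCharacter C}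
    (he : h.res ν = h.res μ) (hν : h.lamHom ν ≠ 1) (hμ : h.lamHom μ ≠ 1)
    (ha : mult C (φ : G → ℂ) ν ≠ 0) (hb : mult C (φ : G → ℂ) μ = 0) :
    mult C (φ : G → ℂ) ν = 1 ∧ ∃ x : IrrCharacter G, x ≠ φ ∧
      indFun C ((ν : C → ℂ) - (μ : C → ℂ)) = (φ : G → ℂ) - (x : G → ℂ) := by
  classical
  have hcf := isClassFunction_character (irr_isCharacter φ.2)
  have horb : ∀ n : N, ν ≠ h.tw n μ ∧ μ ≠ h.tw n ν := fun n => ⟨fun e => ha (by
    rw [e, h.mult_tw hcf, hb]), fun e => ha (by rw [← h.mult_tw hcf n ν, ← e, hb])⟩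
  have hnorm : classInner (indFun C ((ν : C → ℂ) - (μ : C → ℂ)))
      (indFun C ((ν : C → ℂ) - (μ : C → ℂ))) = 2 := by
    rw [h.classInner_diff he he]
    have key : ∀ {ρ : IrrCharacter C}, h.lamHom ρ ≠ 1 → ∀ n : N,
        (ρ = h.tw n ρ ↔ (n : G) ∈ C) := fun {ρ} hρ n =>
      ⟨fun e => h.mem_of_tw_fix hρ e.symm, fun hn => (h.tw_mem hn ρ).symm⟩
    simp only [if_neg (horb _).1, if_neg (horb _).2, sub_zero, key hν, key hμ]
    rw [Finset.sum_add_distrib, Finset.sum_boole]
    have hcard : ((Finset.univ : Finset N).filter (fun n : N => (n : G) ∈ C)).card = Nat.card C := by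
      rw [Nat.card_eq_fintype_card, ← Finset.card_univ]
      exact (Finset.card_bij (s := (Finset.univ : Finset C)) (fun c _ => (⟨(c : G), h.le_N c.2⟩ : N))
        (fun c _ => Finset.mem_filter.2 ⟨Finset.mem_univ _, c.2⟩)
        (fun a _ b _ e => Subtype.ext (congrArg (fun z : N => (z : G)) e))
        fun n hn => ⟨⟨n, (Finset.mem_filter.1 hn).2⟩, Finset.mem_univ _, rfl⟩).symm
    rw [hcard]
    have : (Nat.card C : ℂ) ≠ 0 := Nat.cast_ne_zero.2 Nat.card_pos.ne'
    field_simp
    ring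
  have hone : indFun C ((ν : C → ℂ) - (μ : C → ℂ)) 1 = 0 := by
    rw [indFun_one, h.diff_vanish he 1 (map_one _), mul_zero]
  have hgen : IsGeneralizedCharacter G (indFun C ((ν : C → ℂ) - (μ : C → ℂ))) :=
    ⟨_, _, isCharacter_indFun C (irr_isCharacter ν.2), isCharacter_indFun C (irr_isCharacter μ.2),
      indFun_sub C _ _⟩
  obtain ⟨a, b, hab, hθ⟩ := exists_pair_of_norm_two hgen hone hnorm
  have hA : classInner (φ : G → ℂ) (indFun C ((ν : C → ℂ) - (μ : C → ℂ))) =
      mult C (φ : G → ℂ) ν := by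
    rw [frobenius_right C _ hcf, classInner_sub_right]
    show mult C (φ : G → ℂ) ν - mult C (φ : G → ℂ) μ = _
    rw [hb, sub_zero]
  rw [hθ, classInner_sub_right, irrC_orth, irrC_orth] at hA
  have hφa : φ = a := by
    by_contra hne
    rw [if_neg hne] at hA
    split_ifs at hA with hb'
    · obtain ⟨k, hk⟩ := classInner_natCast (isCharacter_comp C.subtype (irr_isCharacter φ.2))
        (irr_isCharacter ν.2)
      have h2 := congrArg Complex.re (hA.trans hk)
      simp only [zero_sub, Complex.neg_re, Complex.one_re, Complex.natCast_re] at h2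
      have : (0 : ℝ) ≤ k := Nat.cast_nonneg k
      linarith
    · exact ha (by rw [← hA, sub_zero])
  subst hφa
  rw [if_pos rfl, if_neg hab, sub_zero] at hA
  exact ⟨hA.symm, b, Ne.symm hab, hθ⟩

open scoped Classical in
/-- With two absent orbits, the nontrivial constituents form one orbit of multiplicity one. -/
theorem UCtx.single_orbit (h : UCtx P C N T prP prT) (φ : IrrCharacter G) (l l' : P →* ℂˣ)
    (hl : l ≠ 1) (hl' : l' ≠ 1)
    (habs : ∀ ν : IrrCharacter C, (h.lamHom ν = l ∨ h.lamHom ν = l') → mult C (φ : G → ℂ) ν = 0)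
    (hdiff : ∀ (ν ν' : IrrCharacter C), h.lamHom ν = l → h.lamHom ν' = l' → ν' ∉ h.orb ν)
    (ν ν' : IrrCharacter C) (hν : h.lamHom ν ≠ 1) (hν' : h.lamHom ν' ≠ 1)
    (ha : mult C (φ : G → ℂ) ν ≠ 0) (ha' : mult C (φ : G → ℂ) ν' ≠ 0) :
    mult C (φ : G → ℂ) ν = 1 ∧ ν' ∈ h.orb ν := by
  have hcf := isClassFunction_character (irr_isCharacter φ.2)
  set μ := h.pair l (h.res ν) with hμdef
  set μ' := h.pair l' (h.res ν') with hμdef'
  have hr : h.res ν = h.res μ := (h.res_pair _ _).symm
  have hr' : h.res ν' = h.res μ' := (h.res_pair _ _).symm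
  have hb : mult C (φ : G → ℂ) μ = 0 := habs _ (Or.inl (h.lamHom_pair _ _))
  have hb' : mult C (φ : G → ℂ) μ' = 0 := habs _ (Or.inr (h.lamHom_pair _ _))
  obtain ⟨h1, x, hx, e⟩ := h.exists_pair φ hr hν (by rw [h.lamHom_pair]; exact hl) ha hb
  obtain ⟨-, y, hy, e'⟩ := h.exists_pair φ hr' hν' (by rw [h.lamHom_pair]; exact hl') ha' hb'
  refine ⟨h1, ?_⟩
  by_contra hno
  have hz : ∀ n : N, ν ≠ h.tw n ν' ∧ ν ≠ h.tw n μ' ∧ μ ≠ h.tw n ν' ∧ μ ≠ h.tw n μ' := by
    intro n
    refine ⟨fun e1 => hno (h.mem_orb.2 ⟨n⁻¹, ?_⟩), fun e1 => ha (by rw [e1, h.mult_tw hcf, hb']),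
      fun e1 => ha' (by rw [← h.mult_tw hcf n ν', ← e1, hb]),
      fun e1 => hdiff μ μ' (h.lamHom_pair _ _) (h.lamHom_pair _ _) (h.mem_orb.2 ⟨n⁻¹, ?_⟩)⟩
    · rw [e1, h.tw_mul, mul_inv_cancel]
      exact h.tw_mem (one_mem C) _
    · rw [e1, h.tw_mul, mul_inv_cancel]
      exact h.tw_mem (one_mem C) _
  have h0 := h.classInner_diff hr hr'
  simp only [if_neg (hz _).1, if_neg (hz _).2.1, if_neg (hz _).2.2.1, if_neg (hz _).2.2.2,
    sub_zero, add_zero, Finset.sum_const_zero, mul_zero, e, e'] at h0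
  rw [classInner_sub_left, classInner_sub_right, classInner_sub_right, irrC_orth, irrC_orth,
    irrC_orth, irrC_orth, if_pos rfl, if_neg (Ne.symm hy), if_neg hx] at h0
  split_ifs at h0 with hxy
  · norm_num at h0
  · norm_num at h0

end Cfsg.Agent.Char
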