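import Cfsg.Agent.Lib.Char.RelGlaubermanCentral
import Cfsg.Agent.Lib.Char.Linear
import Cfsg.Agent.Lib.Char.ProjRep
import Cfsg.Agent.Lib.Char.Exceptional
import Mathlib

/-!
# A trivial intersection Sylow subgroup with uniform centralizers
-/

set_option autoImplicit false
set_option linter.unusedSectionVars false
set_option linter.style.haveILetI false

namespace Cfsg.Agent.Char

open Cfsg Module
open scoped ComplexConjugate

universe u

/-- `C = P × T` with `N` acting freely on `P` and controlling the fusion of `P`-singular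
elements of `C`. -/
structure UCtx {G : Type u} [Group G] (P C N : Subgroup G) (T : Subgroup C) (prP : C →* P)
    (prT : C →* T) : Prop where
  le_C : P ≤ C
  le_N : C ≤ N
  cop : (Nat.card P).Coprime (Nat.card T)
  prP_left : ∀ x : P, prP (Subgroup.inclusion le_C x) = x
  prT_left : ∀ x : P, prT (Subgroup.inclusion le_C x) = 1
  prP_right : ∀ t : T, prP (t : C) = 1
  prT_right : ∀ t : T, prT (t : C) = t
  recon : ∀ c : C, Subgroup.inclusion le_C (prP c) * (prT c : C) = c
  comm : ∀ x ∈ P, ∀ c ∈ C, x * c = c * x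
  normC : ∀ n ∈ N, ∀ c ∈ C, n * c * n⁻¹ ∈ C
  normP : ∀ n ∈ N, ∀ x ∈ P, n * x * n⁻¹ ∈ P
  free : ∀ n ∈ N, ∀ x ∈ P, x ≠ 1 → n * x * n⁻¹ = x → n ∈ C
  ti : ∀ g : G, ∀ c d : C, prP c ≠ 1 → g * c * g⁻¹ = (d : G) → g ∈ N

variable {G : Type u} [Group G] {P C N : Subgroup G} {T : Subgroup C} {prP : C →* P}
  {prT : C →* T}

/-- Conjugation of `C` by an element of `N`. -/
def UCtx.conjC (h : UCtx P C N T prP prT) (n : N) : C →* C where
  toFun c := ⟨(n : G) * c * (n : G)⁻¹, h.normC _ n.2 _ c.2⟩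
  map_one' := Subtype.ext (by simp)
  map_mul' a b := Subtype.ext (by simp)

theorem UCtx.conjC_mul (h : UCtx P C N T prP prT) (m n : N) (c : C) :
    h.conjC (m * n) c = h.conjC m (h.conjC n c) := Subtype.ext (by
  show ((m * n : N) : G) * c * ((m * n : N) : G)⁻¹ = (m : G) * ((n : G) * c * (n : G)⁻¹) * (m : G)⁻¹
  rw [Subgroup.coe_mul]
  group)

theorem UCtx.conjC_bijective (h : UCtx P C N T prP prT) [Finite G] (n : N) :
    Function.Bijective (h.conjC n) := by
  refine Finite.injective_iff_bijective.1 fun a b e => ?_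
  have e' : (n : G) * a * (n : G)⁻¹ = (n : G) * b * (n : G)⁻¹ := congrArg Subtype.val e
  exact Subtype.ext (mul_left_cancel (mul_right_cancel e'))

theorem UCtx.prP_eq_one_iff (h : UCtx P C N T prP prT) (c : C) : prP c = 1 ↔ c ∈ T := by
  refine ⟨fun e => ?_, fun hc => h.prP_right ⟨c, hc⟩⟩
  have := h.recon c
  rw [e, map_one, one_mul] at this
  rw [← this]
  exact (prT c).2

theorem UCtx.pow_eq_one_iff (h : UCtx P C N T prP prT) [Finite G] (c : C) :
    c ^ Nat.card T = 1 ↔ prP c = 1 := by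
  refine ⟨fun e => ?_, fun e => ?_⟩
  · have h3 : prP c ^ Nat.card T = 1 := by rw [← map_pow, e, map_one]
    exact orderOf_eq_one_iff.1 (Nat.eq_one_of_dvd_coprimes h.cop (orderOf_dvd_natCard _)
      (orderOf_dvd_of_pow_eq_one h3))
  · exact congrArg Subtype.val (pow_card_eq_one' (x := (⟨c, (h.prP_eq_one_iff c).1 e⟩ : T)))

theorem UCtx.prP_conjC_eq_one_iff (h : UCtx P C N T prP prT) [Finite G] (n : N) (c : C) :
    prP (h.conjC n c) = 1 ↔ prP c = 1 := by
  rw [← h.pow_eq_one_iff, ← h.pow_eq_one_iff, ← map_pow]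
  exact ⟨fun e => (h.conjC_bijective n).1 (e.trans (map_one _).symm), fun e => by rw [e, map_one]⟩

end Cfsg.Agent.Char
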