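import Cfsg.Agent.Lib.Char.SmallTIOrbit

/-!
# Norms on and away from the singular sections
-/

set_option autoImplicit false
set_option linter.unusedSectionVars false
set_option linter.style.haveILetI false

namespace Cfsg.Agent.Char

open Cfsg Module
open scoped ComplexConjugate

universe u

variable {G : Type u} [Group G] [Fintype G] {P C N : Subgroup G} [Fintype P] [Fintype C]
  [Fintype N] {T : Subgroup C} [Fintype T] {prP : C →* P} {prT : C →* T}

/-- The indicator of the singular sections. -/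
noncomputable def UCtx.sec (_h : UCtx P C N T prP prT) (g : G) : ℂ := by
  classical exact if ∃ k : G, ∃ c : C, prP c ≠ 1 ∧ k * g * k⁻¹ = (c : G) then 1 else 0

open scoped Classical in
/-- Integration over the singular sections. -/
theorem UCtx.sum_sec (h : UCtx P C N T prP prT) (f : G → ℂ) (hf : IsClassFunction G f) :
    (Nat.card N : ℂ) * ∑ g : G, h.sec g * f g =
      (Nat.card G : ℂ) * ∑ c ∈ (Finset.univ : Finset C).filter (fun c => prP c ≠ 1), f c := by
  let D : G → Prop := fun y => ∃ c : C, prP c ≠ 1 ∧ y = (c : G)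
  have h1 : ∀ k : G, ∑ g : G, (if D (k * g * k⁻¹) then f g else 0) =
      ∑ c ∈ (Finset.univ : Finset C).filter (fun c => prP c ≠ 1), f c := by
    intro k
    rw [Fintype.sum_equiv (MulAut.conj k).toEquiv (fun g => if D (k * g * k⁻¹) then f g else 0)
      (fun y => if D y then f y else 0) (fun g => by
        show _ = if D (k * g * k⁻¹) then f (k * g * k⁻¹) else 0
        rw [hf]), ← Finset.sum_filter]
    refine (Finset.sum_bij (fun (c : C) _ => (c : G)) (fun c hc => Finset.mem_filter.2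
      ⟨Finset.mem_univ _, c, (Finset.mem_filter.1 hc).2, rfl⟩) (fun a _ b _ e => Subtype.ext e)
      (fun y hy => ?_) fun c _ => rfl).symm
    obtain ⟨c, hc, rfl⟩ := (Finset.mem_filter.1 hy).2
    exact ⟨c, Finset.mem_filter.2 ⟨Finset.mem_univ _, hc⟩, rfl⟩
  have h2 : ∀ g : G, ∑ k : G, (if D (k * g * k⁻¹) then f g else 0) =
      (Nat.card N : ℂ) * (h.sec g * f g) := by
    intro g
    by_cases hex : ∃ k : G, ∃ c : C, prP c ≠ 1 ∧ k * g * k⁻¹ = (c : G)
    · simp only [UCtx.sec, if_pos hex, one_mul]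
      obtain ⟨k0, c, hc, he⟩ := hex
      rw [← Finset.sum_filter, Finset.sum_const, nsmul_eq_mul]
      congr 2
      rw [Nat.card_eq_fintype_card, ← Finset.card_univ]
      refine (Finset.card_bij (s := (Finset.univ : Finset N)) (fun n _ => (n : G) * k0) ?_ ?_ ?_).symm
      · intro n _
        refine Finset.mem_filter.2 ⟨Finset.mem_univ _, h.conjC n c,
          fun e => hc ((h.prP_conjC_eq_one_iff n c).1 e), ?_⟩
        show (n : G) * k0 * g * ((n : G) * k0)⁻¹ = (n : G) * c * (n : G)⁻¹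
        rw [← he]
        group
      · intro a _ b _ e
        exact Subtype.ext (mul_right_cancel e)
      · intro k hk
        obtain ⟨d, hd, hde⟩ := (Finset.mem_filter.1 hk).2
        refine ⟨⟨k * k0⁻¹, h.ti _ c d hc ?_⟩, Finset.mem_univ _, by simp⟩
        rw [← he, ← hde]
        group
    · simp only [UCtx.sec, if_neg hex, zero_mul, mul_zero]
      refine Finset.sum_eq_zero fun k _ => if_neg ?_
      rintro ⟨c, hc, he⟩
      exact hex ⟨k, c, hc, he⟩
  rw [Finset.mul_sum, ← Finset.sum_congr rfl fun g _ => h2 g, Finset.sum_comm,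
    Finset.sum_congr rfl fun k _ => h1 k, Finset.sum_const, Finset.card_univ, nsmul_eq_mul,
    Nat.card_eq_fintype_card]

theorem UCtx.sec_cases (h : UCtx P C N T prP prT) (g : G) : h.sec g = 0 ∨ h.sec g = 1 := by
  unfold UCtx.sec
  split_ifs
  · exact Or.inr rfl
  · exact Or.inl rfl

theorem UCtx.sec_one (h : UCtx P C N T prP prT) : h.sec 1 = 0 := by
  unfold UCtx.sec
  rw [if_neg]
  rintro ⟨k, c, hc, he⟩
  rw [mul_one, mul_inv_cancel] at he
  exact hc (by rw [show c = 1 from Subtype.ext he.symm, map_one])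

open scoped Classical in
/-- The norm and inner product formulas and the resulting inequality away from the sections. -/
theorem UCtx.section_bound (h : UCtx P C N T prP prT) {e : ℕ}
    (he : Nat.card N = e * Nat.card C) (φ : IrrCharacter G)
    (hne : (φ : G → ℂ) ≠ fun _ => 1) (a : IrrCharacter C → ℕ)
    (ha : ∀ ν, mult C (φ : G → ℂ) ν = a ν) (one : IrrCharacter C)
    (hone : ∀ c, (one : C → ℂ) c = 1) :
    ∃ κ D : ℝ, 0 < κ ∧ 0 < D ∧
      0 < (e : ℝ) * Nat.card P - Nat.card P * ∑ ν, (a ν : ℝ) ^ 2 +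
        ∑ η : IrrCharacter T, (∑ ν ∈ Finset.univ.filter (fun ν => h.res ν = η), (a ν : ℝ)) ^ 2 ∧
      (κ * ((Nat.card P : ℝ) * a one -
          ∑ ν ∈ Finset.univ.filter (fun ν => h.res ν = h.res one), (a ν : ℝ)) + D) ^ 2 ≤
        (κ * ((e : ℝ) * Nat.card P - Nat.card P + 1) - 1) *
        (κ * ((e : ℝ) * Nat.card P - Nat.card P * ∑ ν, (a ν : ℝ) ^ 2 +
          ∑ η : IrrCharacter T,
            (∑ ν ∈ Finset.univ.filter (fun ν => h.res ν = η), (a ν : ℝ)) ^ 2) - D ^ 2) := by
  have hcf := isClassFunction_character (irr_isCharacter φ.2)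
  obtain ⟨dd, hdd⟩ := charOne_eq_natCast (irr_isCharacter φ.2)
  have hd0 : (0 : ℝ) < dd := by
    have : dd ≠ 0 := fun h0 => irr_one_ne_zero φ.2 (by rw [hdd, h0, Nat.cast_zero])
    exact_mod_cast Nat.pos_of_ne_zero this
  set q : ℕ := Nat.card P with hq
  set t : ℕ := Nat.card T with ht
  set g0 : ℕ := Nat.card G with hg0
  have hC : Nat.card C = q * t := h.card_C
  have hN : (Nat.card N : ℂ) = (e : ℂ) * q * t := by
    rw [he, hC]; push_cast; ring
  have hq0 : 0 < q := Nat.card_pos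
  have ht0 : 0 < t := Nat.card_pos
  have he0 : 0 < e := Nat.pos_of_ne_zero fun h0 => (Nat.card_pos (α := N)).ne' (by rw [he, h0, zero_mul])
  let S : IrrCharacter T → ℕ := fun η => ∑ ν ∈ Finset.univ.filter (fun ν => h.res ν = η), a ν
  -- the restriction to `C` and to `T`
  have hresC : (fun c : C => (φ : G → ℂ) c) = ∑ ν, ((a ν : ℤ) : ℂ) • (ν : C → ℂ) := by
    have hc := classFun_expansion
      (isClassFunction_character (isCharacter_comp C.subtype (irr_isCharacter φ.2)))
    refine hc.trans (Finset.sum_congr rfl fun ν _ => ?_)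
    rw [Int.cast_natCast]
    exact congrArg (· • (ν : C → ℂ)) (ha ν)
  have hresT : (fun x : T => (φ : G → ℂ) (x : C)) = ∑ η, ((S η : ℤ) : ℂ) • (η : T → ℂ) := by
    funext x
    have := congrFun hresC (x : C)
    show (φ : G → ℂ) (x : C) = _
    refine this.trans ?_
    rw [Finset.sum_apply, Finset.sum_apply, ← Finset.sum_fiberwise (Finset.univ : Finset (IrrCharacter C)) h.res]
    refine Finset.sum_congr rfl fun η _ => ?_
    simp only [Pi.smul_apply, smul_eq_mul, Int.cast_natCast, S, Nat.cast_sum, Int.cast_sum, Finset.sum_mul]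
    refine Finset.sum_congr rfl fun ν hν => ?_
    rw [← (Finset.mem_filter.1 hν).2]
    rfl
  have hC0 : (Nat.card C : ℂ) ≠ 0 := Nat.cast_ne_zero.2 Nat.card_pos.ne'
  have hT0 : (t : ℂ) ≠ 0 := Nat.cast_ne_zero.2 ht0.ne'
  have sumC2 : ∑ c : C, (φ : G → ℂ) c * conj ((φ : G → ℂ) c) =
      (q : ℂ) * t * ((∑ ν, a ν ^ 2 : ℕ) : ℂ) := by
    have := classInner_int_combination hresC
    rw [classInner] at this
    rw [inv_mul_eq_iff_eq_mul₀ hC0] at this
    rw [this, hC]
    push_cast
    simp [pow_two]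
  have sumT2 : ∑ x : T, (φ : G → ℂ) (x : C) * conj ((φ : G → ℂ) (x : C)) =
      (t : ℂ) * ((∑ η, S η ^ 2 : ℕ) : ℂ) := by
    have := classInner_int_combination hresT
    rw [classInner] at this
    rw [inv_mul_eq_iff_eq_mul₀ (Nat.cast_ne_zero.2 Nat.card_pos.ne')] at this
    rw [this]
    push_cast
    simp [pow_two, ht]
  have sumC1 : ∑ c : C, (φ : G → ℂ) c = (q : ℂ) * t * a one := by
    have := ha one
    simp only [mult, classInner, hone, map_one, mul_one] at this
    rw [inv_mul_eq_iff_eq_mul₀ hC0] at this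
    rw [this, hC]
    push_cast
    ring
  have sumT1 : ∑ x : T, (φ : G → ℂ) (x : C) = (t : ℂ) * S (h.res one) := by
    have h1 : classInner (fun x : T => (φ : G → ℂ) (x : C)) (h.res one : T → ℂ) = (S (h.res one) : ℂ) := by
      rw [hresT, classInner_sum_left, Finset.sum_eq_single (h.res one)]
      · rw [classInner_smul_left, irr_self (h.res one).2, mul_one, Int.cast_natCast]
      · intro η _ hη
        rw [classInner_smul_left, irrC_orth, if_neg hη, mul_zero]
      · simp
    have hv : ∀ x : T, (h.res one : T → ℂ) x = 1 := fun x => hone x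
    simp only [classInner, hv, map_one, mul_one] at h1
    rw [inv_mul_eq_iff_eq_mul₀ (Nat.cast_ne_zero.2 Nat.card_pos.ne')] at h1
    rw [h1, ht]
  have hsplit : ∀ F : G → ℂ, ∑ c ∈ (Finset.univ : Finset C).filter (fun c => prP c ≠ 1), F c =
      (∑ c : C, F c) - ∑ x : T, F (x : C) := by
    intro F
    rw [eq_sub_iff_add_eq]
    conv_rhs => rw [← Finset.sum_filter_add_sum_filter_not Finset.univ (fun c : C => prP c ≠ 1)]
    congr 1
    refine Finset.sum_bij (fun (x : T) _ => (x : C)) (fun x _ => Finset.mem_filter.2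
      ⟨Finset.mem_univ _, not_not.2 (h.prP_right x)⟩) (fun a _ b _ e => Subtype.ext e)
      (fun c hc => ?_) fun _ _ => rfl
    exact ⟨⟨c, (h.prP_eq_one_iff c).1 (not_not.1 (Finset.mem_filter.1 hc).2)⟩, Finset.mem_univ _, rfl⟩
  -- the three sums over the complement of the sections
  let W : Finset G := Finset.univ.filter fun g => h.sec g = 0
  have hW : ∀ F : G → ℂ, IsClassFunction G F → ((e : ℂ) * q * t) * ∑ g ∈ W, F g =
      ((e : ℂ) * q * t) * (∑ g, F g) -
        (g0 : ℂ) * ((∑ c : C, F c) - ∑ x : T, F (x : C)) := by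
    intro F hF
    have h1 := h.sum_sec F hF
    rw [hN, hsplit] at h1
    rw [← h1, ← mul_sub, ← Finset.sum_sub_distrib, Finset.sum_filter]
    congr 1
    refine Finset.sum_congr rfl fun g _ => ?_
    rcases h.sec_cases g with e0 | e0 <;> simp [e0]
  have hetc : (e : ℂ) * q * t ≠ 0 := by
    rw [← hN]
    exact Nat.cast_ne_zero.2 Nat.card_pos.ne'
  have htot2 : ∑ g : G, (φ : G → ℂ) g * conj ((φ : G → ℂ) g) = (g0 : ℂ) := by
    have := irr_self φ.2
    rw [classInner, inv_mul_eq_iff_eq_mul₀ (Nat.cast_ne_zero.2 Nat.card_pos.ne'), mul_one] at this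
    exact this
  have htot1 : ∑ g : G, (φ : G → ℂ) g = 0 := by
    have h1 := irrC_orth φ (⟨_, isIrrCharacter_one⟩ : IrrCharacter G)
    rw [if_neg fun e0 => hne (congrArg Subtype.val e0)] at h1
    simp only [classInner, map_one, mul_one] at h1
    exact (mul_eq_zero.1 h1).resolve_left (inv_ne_zero (Nat.cast_ne_zero.2 Nat.card_pos.ne'))
  set κ : ℝ := (g0 : ℝ) / ((e : ℝ) * q) with hκ
  have hκ0 : 0 < κ := by
    have : 0 < g0 := Nat.card_pos
    positivity
  have hκc : ((κ : ℝ) : ℂ) * ((e : ℂ) * q) = (g0 : ℂ) := by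
    have : (e : ℝ) * q ≠ 0 := by positivity
    rw [← Complex.ofReal_natCast g0, ← Complex.ofReal_natCast e, ← Complex.ofReal_natCast q,
      ← Complex.ofReal_mul, ← Complex.ofReal_mul, hκ, div_mul_cancel₀ _ this]
  set E : ℝ := (e : ℝ) * q - q * ((∑ ν, a ν ^ 2 : ℕ) : ℝ) + ((∑ η, S η ^ 2 : ℕ) : ℝ) with hE
  set A : ℝ := (q : ℝ) * a one - (S (h.res one) : ℝ) with hA
  have hcf2 : IsClassFunction G (fun g => (φ : G → ℂ) g * conj ((φ : G → ℂ) g)) := fun x k => by
    simp only [hcf x k]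
  have hW2 : ∑ g ∈ W, (φ : G → ℂ) g * conj ((φ : G → ℂ) g) = ((κ * E : ℝ) : ℂ) := by
    refine mul_left_cancel₀ hetc ((hW _ hcf2).trans ?_)
    rw [htot2, sumC2, sumT2, ← hκc, hE]
    push_cast
    ring
  have hW1 : ∑ g ∈ W, (φ : G → ℂ) g = ((-(κ * A) : ℝ) : ℂ) := by
    refine mul_left_cancel₀ hetc ((hW _ hcf).trans ?_)
    rw [htot1, sumC1, sumT1, ← hκc, hA]
    push_cast
    ring
  have hW0 : (W.card : ℂ) = ((κ * ((e : ℝ) * q - q + 1) : ℝ) : ℂ) := by
    have h1 := hW (fun _ => (1 : ℂ)) (fun _ _ => rfl)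
    simp only [Finset.sum_const, nsmul_eq_mul, mul_one, Finset.card_univ,
      ← Nat.card_eq_fintype_card, ← hg0, hC, ← ht] at h1
    refine mul_left_cancel₀ hetc (h1.trans ?_)
    rw [← hκc]
    push_cast
    ring
  -- Cauchy-Schwarz away from the identity
  have h1W : (1 : G) ∈ W := Finset.mem_filter.2 ⟨Finset.mem_univ _, h.sec_one⟩
  have hnsq : ∑ g ∈ W, ‖(φ : G → ℂ) g‖ ^ 2 = κ * E := by
    have : ((∑ g ∈ W, ‖(φ : G → ℂ) g‖ ^ 2 : ℝ) : ℂ) = ((κ * E : ℝ) : ℂ) := by
      rw [← hW2, Complex.ofReal_sum]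
      refine Finset.sum_congr rfl fun g _ => ?_
      rw [Complex.mul_conj, Complex.normSq_eq_norm_sq]
    exact_mod_cast this
  have hcard : ((W.erase 1).card : ℝ) = κ * ((e : ℝ) * q - q + 1) - 1 := by
    have h2 : (W.card : ℝ) = κ * ((e : ℝ) * q - q + 1) := by exact_mod_cast hW0
    rw [Finset.card_erase_of_mem h1W, Nat.cast_sub (Finset.card_pos.2 ⟨1, h1W⟩), h2, Nat.cast_one]
  have hsq : ∑ g ∈ W.erase 1, ‖(φ : G → ℂ) g‖ ^ 2 = κ * E - (dd : ℝ) ^ 2 := by
    rw [← hnsq, ← Finset.add_sum_erase _ _ h1W, hdd, Complex.norm_natCast]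
    ring
  have hs1 : ∑ g ∈ W.erase 1, (φ : G → ℂ) g = ((-(κ * A + dd) : ℝ) : ℂ) := by
    have := Finset.add_sum_erase W (fun g => (φ : G → ℂ) g) h1W
    rw [hW1, hdd] at this
    rw [eq_sub_of_add_eq' this]
    push_cast
    ring
  have hCS : (κ * A + dd) ^ 2 ≤ (κ * ((e : ℝ) * q - q + 1) - 1) * (κ * E - (dd : ℝ) ^ 2) := by
    rw [← hcard, ← hsq]
    refine le_trans ?_ sq_sum_le_card_mul_sum_sq
    have h2 := norm_sum_le (W.erase 1) (fun g => (φ : G → ℂ) g)
    rw [hs1, Complex.norm_real, Real.norm_eq_abs, abs_neg] at h2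
    nlinarith [sq_abs (κ * A + dd), abs_nonneg (κ * A + dd), h2,
      mul_self_le_mul_self (abs_nonneg (κ * A + dd)) h2]
  refine ⟨κ, dd, hκ0, hd0, ?_, ?_⟩
  · have h2 : (dd : ℝ) ^ 2 ≤ κ * E := by
      rw [← sub_nonneg, ← hsq]
      exact Finset.sum_nonneg fun g _ => sq_nonneg _
    have : 0 < E := by
      by_contra h3
      nlinarith [mul_nonpos_of_nonneg_of_nonpos hκ0.le (le_of_not_gt h3), pow_pos hd0 2]
    simpa [hE, S] using this
  · simpa [hE, hA, S] using hCS

end Cfsg.Agent.Char
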