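import Cfsg.Agent.Lib.Char.SmallDegreeSylow
import Cfsg.Agent.Lib.Char.Codegree
import Cfsg.Agent.Lib.Char.CoverBlocks
import Cfsg.Agent.Lib.Char.FongReynolds
import Cfsg.Agent.Lib.Solv.Basic
import Cfsg.Agent.S0887

/-!
# A solvable linear group with a non-normal Sylow `p`-subgroup: a prime power dividing the degree
-/

set_option autoImplicit false
set_option linter.unusedSectionVars false
set_option linter.style.haveILetI false

open scoped ComplexConjugate commutatorElement

namespace Cfsg.Agent.Char.SolvDiv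

open Cfsg Cfsg.Agent Cfsg.Agent.Char

universe u

/-- A prime power divisor congruent to `-1`, `0` or `1`. -/
def Quot (p n : ℕ) : Prop :=
  ∃ q : ℕ, IsPrimePow q ∧ q ∣ n ∧
    ((q : ℤ) ≡ -1 [ZMOD p] ∨ (q : ℤ) ≡ 0 [ZMOD p] ∨ (q : ℤ) ≡ 1 [ZMOD p])

variable {p : ℕ} [hp : Fact p.Prime] {G : Type u} [Group G] [Fintype G]

theorem quot_mono {m n : ℕ} (h : Quot p m) (hmn : m ∣ n) : Quot p n := by
  obtain ⟨q, h1, h2, h3⟩ := h
  exact ⟨q, h1, h2.trans hmn, h3⟩

theorem quot_of_dvd {n : ℕ} (h : p ∣ n) : Quot p n :=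
  ⟨p, hp.out.isPrimePow, h, Or.inr (Or.inl (Int.modEq_zero_iff_dvd.mpr dvd_rfl))⟩

theorem quot_of_pow {n r k : ℕ} (hr : r.Prime) (hk : k ≠ 0) (hd : r ^ k ∣ n)
    (h : p ∣ (r ^ k + 1) * (r ^ k - 1)) : Quot p n := by
  refine ⟨r ^ k, ⟨r, k, hr.prime, Nat.pos_of_ne_zero hk, rfl⟩, hd, ?_⟩
  have h1 : 1 ≤ r ^ k := Nat.one_le_pow _ _ hr.pos
  rcases hp.out.dvd_mul.mp h with h2 | h2
  · left
    refine (Int.modEq_iff_dvd.mpr ?_).symm
    rw [sub_neg_eq_add]
    exact_mod_cast h2
  · right; right
    refine (Int.modEq_iff_dvd.mpr ?_).symm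
    have h3 : ((p : ℤ)) ∣ ((r ^ k - 1 : ℕ) : ℤ) := Int.natCast_dvd_natCast.mpr h2
    rw [Nat.cast_sub h1, Nat.cast_one] at h3
    exact h3

/-- A proper subgroup whose index divides `n` gives the divisor. -/
theorem quot_of_index (hsolv : Group.IsSolvable G) (P : Sylow p G)
    (hall : ∀ K : Subgroup G, K.Normal → (P : Subgroup G) ≤ K → K = ⊤) {n : ℕ} (hn : ¬ p ∣ n)
    {H : Subgroup G} (hH : H ≠ ⊤) (hdvd : H.index ∣ n) : Quot p n := by
  classical
  obtain ⟨T, hT, hHT⟩ := (eq_top_or_exists_le_coatom H).resolve_left hH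
  have hTn : T.index ∣ n := (Subgroup.index_dvd_of_le hHT).trans hdvd
  set K := T.normalCore with hK
  set π := QuotientGroup.mk' K with hπ
  have hπs : Function.Surjective π := QuotientGroup.mk'_surjective K
  set Tb := T.map π with hTb
  have hKT : K ≤ T := Subgroup.normalCore_le T
  have hTcomap : Tb.comap π = T := by
    rw [hTb, Subgroup.comap_map_eq, hπ, QuotientGroup.ker_mk', sup_eq_left.mpr hKT]
  haveI : Nontrivial (G ⧸ K) := by
    rw [← not_subsingleton_iff_nontrivial]
    intro hs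
    refine hT.1 (eq_top_iff.mpr fun g _ => ?_)
    exact hKT ((QuotientGroup.eq_one_iff g).mp (Subsingleton.elim _ _))
  obtain ⟨V, hV, hVne, hVmin⟩ := Solv.exists_minimal_normal (G := G ⧸ K)
  haveI := hV
  haveI := hsolv
  obtain ⟨hVc, r, hr, -, hVr⟩ := Solv.minimal_normal_elementaryAbelian V inferInstance hVne hVmin
  haveI := Fact.mk hr
  have hcoreless : ∀ U : Subgroup (G ⧸ K), U.Normal → U ≤ Tb → U = ⊥ := by
    intro U hU hUT
    haveI : (U.comap π).Normal := hU.comap π
    have h1 : U.comap π ≤ K := Subgroup.normal_le_normalCore.mpr ((Subgroup.comap_mono hUT).trans hTcomap.le)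
    rw [← Subgroup.map_comap_eq_self_of_surjective hπs U, eq_bot_iff, Subgroup.map_le_iff_le_comap]
    refine h1.trans fun x hx => ?_
    rw [Subgroup.mem_comap, Subgroup.mem_bot]
    exact (QuotientGroup.eq_one_iff x).mpr hx
  have hVT : ¬ V ≤ Tb := fun h => hVne (hcoreless V hV h)
  have htop : V ⊔ Tb = ⊤ := by
    have hle : T ≤ (V ⊔ Tb).comap π := hTcomap.ge.trans (Subgroup.comap_mono le_sup_right)
    have hne : T ≠ (V ⊔ Tb).comap π := fun e => hVT fun v hv => by
      obtain ⟨g, rfl⟩ := hπs v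
      have : g ∈ (V ⊔ Tb).comap π := Subgroup.mem_sup_left hv
      rw [← e] at this
      exact ⟨g, this, rfl⟩
    have h1 := hT.2 _ (lt_of_le_of_ne hle hne)
    rw [← Subgroup.map_comap_eq_self_of_surjective hπs (V ⊔ Tb), h1,
      Subgroup.map_top_of_surjective π hπs]
  have hVab : ∀ a ∈ V, ∀ b ∈ V, a * b = b * a := fun a ha b hb =>
    congrArg Subtype.val (mul_comm' (⟨a, ha⟩ : V) ⟨b, hb⟩)
  -- subgroups of the complement normalized by it and centralized by `V`
  have hkey : ∀ U : Subgroup (G ⧸ K), U ≤ Tb → Tb ≤ Subgroup.normalizer (U : Set (G ⧸ K)) →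
      V ≤ Subgroup.normalizer (U : Set (G ⧸ K)) → U = ⊥ := fun U hU h1 h2 =>
    hcoreless U (Subgroup.normalizer_eq_top_iff.mp (eq_top_iff.mpr (htop ▸ sup_le h2 h1))) hU
  have hdisj : V ⊓ Tb = ⊥ := by
    refine hkey _ inf_le_right (fun t ht => ?_) fun v hv => ?_
    · rw [Subgroup.mem_normalizer_iff]
      intro y
      exact and_congr ((Subgroup.mem_normalizer_iff.mp
        ((Subgroup.normalizer_eq_top (H := V)).symm ▸ Subgroup.mem_top t)) y)
        ((Subgroup.mem_normalizer_iff.mp (Subgroup.le_normalizer ht)) y)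
    · exact Subgroup.centralizer_le_normalizer _ (Subgroup.mem_centralizer_iff.mpr fun y hy =>
        hVab y hy.1 v hv)
  have hidx : T.index = Nat.card V := by
    have h1 := Solv.card_sup_mul_card_inf' V Tb (by rw [Subgroup.normalizer_eq_top]; exact le_top)
    rw [hdisj, htop, Subgroup.card_bot, mul_one, Subgroup.card_top, ← Tb.card_mul_index,
      mul_comm (Nat.card V)] at h1
    rw [← Nat.eq_of_mul_eq_mul_left Nat.card_pos h1, hTb, Subgroup.index_map_eq T hπs
      (by rw [hπ, QuotientGroup.ker_mk']; exact hKT)]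
  have hpG : p ∣ Nat.card (G ⧸ K) := by
    by_contra hnd
    refine hT.1 (top_le_iff.mp ((hall K inferInstance fun u hu => ?_).ge.trans hKT))
    obtain ⟨b, hb⟩ := IsPGroup.iff_card.mp (P.isPGroup'.map π)
    have hb0 : b = 0 := by
      by_contra hb0
      exact hnd ((dvd_pow_self p hb0).trans (hb ▸ Subgroup.card_subgroup_dvd_card _))
    rw [hb0, pow_zero] at hb
    have h1 : π u ∈ (P : Subgroup G).map π := Subgroup.mem_map_of_mem π hu
    rw [Subgroup.card_eq_one.mp hb, Subgroup.mem_bot] at h1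
    exact (QuotientGroup.eq_one_iff u).mp h1
  have hpV : ¬ p ∣ Nat.card V := fun h => hn ((hidx ▸ h).trans hTn)
  have hpT : p ∣ Nat.card Tb := by
    rw [← Subgroup.card_top (G := G ⧸ K), ← htop] at hpG
    exact (hp.out.dvd_mul.mp (hpG.trans (Dvd.intro _
      (Solv.card_sup_mul_card_inf' V Tb (by rw [Subgroup.normalizer_eq_top]; exact le_top))))).resolve_left hpV
  obtain ⟨⟨x, hxT⟩, hx⟩ := exists_prime_orderOf_dvd_card' p hpT
  rw [Subgroup.orderOf_mk] at hx
  set A := Subgroup.zpowers x with hA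
  have hAp : IsPGroup p A := IsPGroup.of_card (n := 1) (by rw [hA, Nat.card_zpowers, hx, pow_one])
  letI : MulAction A V :=
    { smul := fun s v => ⟨(s : G ⧸ K) * v * (s : G ⧸ K)⁻¹, hV.conj_mem v v.2 s⟩
      one_smul := fun v => Subtype.ext
        (show ((1 : A) : G ⧸ K) * v * ((1 : A) : G ⧸ K)⁻¹ = v by simp)
      mul_smul := fun s t v => Subtype.ext
        (show ((s * t : A) : G ⧸ K) * v * ((s * t : A) : G ⧸ K)⁻¹ =
          (s : G ⧸ K) * ((t : G ⧸ K) * v * (t : G ⧸ K)⁻¹) * (s : G ⧸ K)⁻¹ by simp [mul_assoc]) }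
  set V0 := V ⊓ Subgroup.centralizer ({x} : Set (G ⧸ K)) with hV0
  have hfix : Nat.card (MulAction.fixedPoints A V) = Nat.card V0 :=
    Nat.card_congr
      { toFun := fun v => ⟨(v.1 : G ⧸ K), v.1.2, Subgroup.mem_centralizer_singleton_iff.mpr
          (mul_inv_eq_iff_eq_mul.mp (congrArg Subtype.val (v.2 ⟨x, Subgroup.mem_zpowers x⟩))).symm⟩
        invFun := fun v => ⟨⟨v.1, v.2.1⟩, fun s => by
          obtain ⟨i, hi⟩ := Subgroup.mem_zpowers_iff.mp s.2
          have hc : Commute x (v : G ⧸ K) :=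
            (Subgroup.mem_centralizer_singleton_iff.mp v.2.2).symm
          refine Subtype.ext ?_
          show (s : G ⧸ K) * (v : G ⧸ K) * (s : G ⧸ K)⁻¹ = v
          rw [← hi, (hc.zpow_left i).eq, mul_inv_cancel_right]⟩
        left_inv := fun v => rfl
        right_inv := fun v => rfl }
  have hlt : V0 ≠ V := by
    intro e
    have hU : Tb ⊓ Subgroup.centralizer (V : Set (G ⧸ K)) = ⊥ := by
      refine hkey _ inf_le_left (fun t ht => ?_) fun v hv => ?_
      · rw [Subgroup.mem_normalizer_iff]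
        intro y
        haveI : (Subgroup.centralizer (V : Set (G ⧸ K))).Normal := Subgroup.normal_centralizer (H := V)
        exact and_congr ((Subgroup.mem_normalizer_iff.mp (Subgroup.le_normalizer ht)) y)
          ((Subgroup.mem_normalizer_iff.mp
            ((Subgroup.normalizer_eq_top (H := Subgroup.centralizer (V : Set (G ⧸ K)))).symm ▸
              Subgroup.mem_top t)) y)
      · exact Subgroup.centralizer_le_normalizer _ (Subgroup.mem_centralizer_iff.mpr fun y hy =>
          (Subgroup.mem_centralizer_iff.mp hy.2 v hv).symm)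
    have hxm : x ∈ Tb ⊓ Subgroup.centralizer (V : Set (G ⧸ K)) := by
      refine ⟨hxT, Subgroup.mem_centralizer_iff.mpr fun v hv => ?_⟩
      have hv0 : v ∈ V0 := e.symm ▸ hv
      exact Subgroup.mem_centralizer_singleton_iff.mp hv0.2
    rw [hU, Subgroup.mem_bot] at hxm
    rw [hxm, orderOf_one] at hx
    exact hp.out.ne_one hx.symm
  obtain ⟨a, ha⟩ := IsPGroup.iff_card.mp hVr
  obtain ⟨b, hb⟩ := IsPGroup.iff_card.mp (hVr.to_le (inf_le_left : V0 ≤ V))
  have hba : b < a := by
    have h1 : Nat.card V0 < Nat.card V := lt_of_le_of_ne (Subgroup.card_le_of_le inf_le_left) fun e =>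
      hlt (Subgroup.eq_of_le_of_card_ge inf_le_left e.ge)
    rw [ha, hb] at h1
    exact (Nat.pow_lt_pow_iff_right hr.one_lt).mp h1
  have hmod := hAp.card_modEq_card_fixedPoints V
  rw [hfix, ha, hb] at hmod
  have h2 : p ∣ r ^ a - r ^ b := (Nat.modEq_iff_dvd' (Nat.pow_le_pow_right hr.pos hba.le)).mp hmod.symm
  have h3 : r ^ a - r ^ b = r ^ b * (r ^ (a - b) - 1) := by
    rw [Nat.mul_sub, mul_one, ← pow_add, Nat.add_sub_cancel' hba.le]
  rw [h3] at h2
  have hrp : ¬ p ∣ r ^ b := fun h => hpV (by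
    rw [ha]; exact h.trans (pow_dvd_pow r hba.le))
  refine quot_of_pow hr (Nat.sub_ne_zero_of_lt hba) ((pow_dvd_pow r (Nat.sub_le a b)).trans ?_)
    (Dvd.dvd.mul_left ((hp.out.dvd_mul.mp h2).resolve_left hrp) _)
  rw [← ha, ← hidx]
  exact hTn

/-- On a normal subgroup: either a proper subgroup of index dividing the degree, or invariance. -/
theorem invariant_or_index (χ : IrrCharacter G) (N : Subgroup G) [N.Normal] [Fintype N]
    (θ : IrrCharacter N) (hθ : classInner (fun n : N => (χ : G → ℂ) n) (θ : N → ℂ) ≠ 0) :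
    (∃ H : Subgroup G, H ≠ ⊤ ∧ H.index ∣ deg (χ : G → ℂ)) ∨
      ((∀ g : G, irrComp (MulAut.conjNormal g) θ = θ) ∧ deg (θ : N → ℂ) ∣ deg (χ : G → ℂ) ∧
        ∃ e : ℕ, ∀ n : N, (χ : G → ℂ) n = (e : ℂ) * (θ : N → ℂ) n) := by
  classical
  obtain ⟨m, hm⟩ := exists_decomposition (isCharacter_comp N.subtype (irr_isCharacter χ.2))
  have hco : classInner (fun n : N => (χ : G → ℂ) n) (θ : N → ℂ) = m θ := decomposition_coeff m hm θ
  by_cases hall : ∀ g : G, irrComp (MulAut.conjNormal g) θ = θ
  · right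
    have horb : cliffOrbit N θ = {θ} := Finset.eq_singleton_iff_unique_mem.mpr
      ⟨mem_cliffOrbit.mpr ⟨1, hall 1⟩, fun ψ hψ => by
        obtain ⟨g, rfl⟩ := mem_cliffOrbit.mp hψ
        exact hall g⟩
    have h1 := clifford_restrict χ θ hθ
    rw [horb, Finset.sum_singleton, hco] at h1
    refine ⟨hall, ⟨m θ, ?_⟩, m θ, fun n => congrFun h1 n⟩
    have h2 := congrFun h1 1
    rw [Pi.smul_apply, smul_eq_mul, Subgroup.coe_one, char_one_eq_deg (irr_isCharacter χ.2),
      char_one_eq_deg (irr_isCharacter θ.2)] at h2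
    rw [mul_comm]
    exact_mod_cast h2
  · left
    let I : Subgroup G :=
      { carrier := {g | irrComp (MulAut.conjNormal g) θ = θ}
        one_mem' := by
          show irrComp (MulAut.conjNormal (1 : G)) θ = θ
          exact irrComp_conj_one θ
        mul_mem' := fun {a b} (ha : _ = θ) (hb : _ = θ) => by
          show irrComp (MulAut.conjNormal (a * b)) θ = θ
          rw [← irrComp_conj_mul, ha, hb]
        inv_mem' := fun {a} (ha : _ = θ) => by
          show irrComp (MulAut.conjNormal a⁻¹) θ = θ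
          conv_rhs => rw [← irrComp_conj_one θ, ← mul_inv_cancel a, ← irrComp_conj_mul, ha] }
    refine ⟨I, fun e => hall fun g => (e ▸ Subgroup.mem_top g : g ∈ I), ?_⟩
    have hmul := card_cliffOrbit_mul θ
    rw [show Nat.card {g // irrComp (MulAut.conjNormal g) θ = θ} = Nat.card I from rfl] at hmul
    have hidx : (cliffOrbit N θ).card = I.index := by
      rw [← Subgroup.index_mul_card I] at hmul
      exact Nat.eq_of_mul_eq_mul_right Nat.card_pos hmul
    have h1 := congrFun (clifford_restrict χ θ hθ) 1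
    have hall' : ∀ ψ ∈ cliffOrbit N θ, (ψ : N → ℂ) 1 = (θ : N → ℂ) 1 := by
      intro ψ hψ
      obtain ⟨g, rfl⟩ := mem_cliffOrbit.mp hψ
      rw [irrComp_apply, map_one]
    rw [Pi.smul_apply, Finset.sum_apply, Finset.sum_congr rfl hall', Finset.sum_const, smul_eq_mul,
      nsmul_eq_mul, hco, Subgroup.coe_one, char_one_eq_deg (irr_isCharacter χ.2),
      char_one_eq_deg (irr_isCharacter θ.2), hidx] at h1
    refine ⟨m θ * deg (θ : N → ℂ), Nat.cast_injective (R := ℂ) ?_⟩
    push_cast
    linear_combination h1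

/-- An element of a normal subgroup killed by every constituent is killed by `χ`. -/
theorem value_of_constituents (χ : IrrCharacter G) (N : Subgroup G) [Fintype N] {y : N}
    (h : ∀ θ : IrrCharacter N, classInner (fun n : N => (χ : G → ℂ) n) (θ : N → ℂ) ≠ 0 →
      (θ : N → ℂ) y = (θ : N → ℂ) 1) : (χ : G → ℂ) y = (χ : G → ℂ) 1 := by
  obtain ⟨m, hm⟩ := exists_decomposition (isCharacter_comp N.subtype (irr_isCharacter χ.2))
  have e1 := congrFun hm y
  have e2 := congrFun hm 1
  simp only [Function.comp_apply, Subgroup.coe_subtype, OneMemClass.coe_one, Finset.sum_apply,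
    Pi.smul_apply] at e1 e2
  rw [e1, e2]
  refine Finset.sum_congr rfl fun θ _ => ?_
  by_cases h0 : m θ = 0
  · rw [h0, zero_smul, zero_smul]
  · rw [h θ (by
      rw [show (fun n : N => (χ : G → ℂ) n) = (χ : G → ℂ) ∘ N.subtype from rfl,
        decomposition_coeff m hm θ]
      exact Nat.cast_ne_zero.mpr h0)]

theorem main :
    ∀ (M : ℕ) (G : Type u) [Group G] [Fintype G] (χ : IrrCharacter G), Nat.card G = M →
      (∀ g : G, (χ : G → ℂ) g = (χ : G → ℂ) 1 → g = 1) → Group.IsSolvable G →
      ∀ P : Sylow p G, ¬ (P : Subgroup G).Normal → Quot p (deg (χ : G → ℂ)) := by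
  intro M
  induction M using Nat.strong_induction_on with
  | _ M ih =>
    intro G _ _ χ hM hfaith hsolv P hP
    classical
    haveI := hsolv
    by_contra hQ
    have hnd : ¬ p ∣ deg (χ : G → ℂ) := fun h => hQ (quot_of_dvd h)
    -- proper normal subgroups have normal Sylow subgroups
    have hprop : ∀ N : Subgroup G, N.Normal → N ≠ ⊤ → ∀ S : Sylow p N, (S : Subgroup N).Normal := by
      intro N hN hNne S
      haveI := hN
      haveI := Fintype.ofFinite N
      have hθn : ∀ θ : IrrCharacter N, classInner (fun n : N => (χ : G → ℂ) n) (θ : N → ℂ) ≠ 0 →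
          ∀ T T' : Sylow p N, ∀ y ∈ (T : Subgroup N) ⊔ (T' : Subgroup N),
            (θ : N → ℂ) (y ^ Nat.card T) = (θ : N → ℂ) 1 := by
        intro θ hθ T T' y hy
        obtain ⟨Kθ, hKn, hKθ⟩ := exists_charKernel (irr_isCharacter θ.2)
        haveI := hKn
        haveI := Fintype.ofFinite (N ⧸ Kθ)
        obtain ⟨θ', hθ'⟩ := exists_deflate Kθ θ.2 fun a ha => (hKθ a).mp ha
        have hfaith' : ∀ a : N ⧸ Kθ, (θ' : N ⧸ Kθ → ℂ) a = (θ' : N ⧸ Kθ → ℂ) 1 → a = 1 := by
          intro a ha
          obtain ⟨a, rfl⟩ := QuotientGroup.mk_surjective a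
          rw [hθ' a, ← QuotientGroup.mk_one, hθ' 1] at ha
          exact (QuotientGroup.eq_one_iff a).mpr ((hKθ a).mpr ha)
        have hdeg : deg (θ' : N ⧸ Kθ → ℂ) = deg (θ : N → ℂ) := Nat.cast_injective (R := ℂ) (by
          rw [← char_one_eq_deg (irr_isCharacter θ'.2), ← char_one_eq_deg (irr_isCharacter θ.2),
            ← QuotientGroup.mk_one, hθ'])
        have hlt : Nat.card (N ⧸ Kθ) < M := by
          refine lt_of_le_of_lt (Nat.le_of_dvd Nat.card_pos (Subgroup.card_quotient_dvd_card Kθ)) ?_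
          rw [← hM]
          exact lt_of_le_of_ne (Subgroup.card_le_card_group N) fun e =>
            hNne (Subgroup.eq_top_of_card_eq N e)
        have hdvd : deg (θ : N → ℂ) ∣ deg (χ : G → ℂ) :=
          (Cfsg.Agent.S0887.result N (χ : G → ℂ) χ.2 (θ : N → ℂ) θ.2 hθ _ _
            (char_one_eq_deg (irr_isCharacter χ.2)) (char_one_eq_deg (irr_isCharacter θ.2))).1
        have hs : Function.Surjective (QuotientGroup.mk' Kθ) := QuotientGroup.mk'_surjective Kθ
        have hnorm : ((T.mapSurjective hs : Sylow p (N ⧸ Kθ)) : Subgroup (N ⧸ Kθ)).Normal := by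
          by_contra hnn
          exact hQ (quot_mono (ih _ hlt (N ⧸ Kθ) θ' rfl hfaith'
            (Group.isSolvable_of_surjective hs) _ hnn) (hdeg ▸ hdvd))
        haveI := Sylow.unique_of_normal _ hnorm
        have he : T'.mapSurjective hs = T.mapSurjective hs := Subsingleton.elim _ _
        have hmem : QuotientGroup.mk' Kθ y ∈ (T : Subgroup N).map (QuotientGroup.mk' Kθ) := by
          have h1 := Subgroup.mem_map_of_mem (QuotientGroup.mk' Kθ) hy
          rw [Subgroup.map_sup] at h1
          have h2 : (T' : Subgroup N).map (QuotientGroup.mk' Kθ) =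
              (T : Subgroup N).map (QuotientGroup.mk' Kθ) := congrArg Sylow.toSubgroup he
          rwa [h2, sup_idem] at h1
        obtain ⟨t, ht, hty⟩ := hmem
        have ht1 : t ^ Nat.card T = 1 := congrArg Subtype.val (pow_card_eq_one' (x := (⟨t, ht⟩ : T)))
        have hyK : y ^ Nat.card T ∈ Kθ := by
          refine (QuotientGroup.eq_one_iff _).mp ?_
          show QuotientGroup.mk' Kθ (y ^ Nat.card T) = 1
          rw [map_pow, ← hty, ← map_pow, ht1, map_one]
        exact (hKθ _).mp hyK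
      haveI : Subsingleton (Sylow p N) := by
        refine ⟨fun T T' => Sylow.ext ?_⟩
        obtain ⟨k, hk⟩ := IsPGroup.iff_card.mp T.isPGroup'
        have hJ : IsPGroup p ((T : Subgroup N) ⊔ (T' : Subgroup N) : Subgroup N) := by
          rintro ⟨y, hy⟩
          refine ⟨k, Subtype.ext (Subtype.ext (hfaith _ ?_))⟩
          show (χ : G → ℂ) ((y ^ p ^ k : N) : G) = _
          rw [← hk]
          exact value_of_constituents χ N fun θ hθ => hθn θ hθ T T' y hy
        have h1 := T.is_maximal' hJ le_sup_left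
        have h2 := T'.is_maximal' hJ le_sup_right
        rw [← h1, h2]
      exact Sylow.normal_of_subsingleton S
    have hall : ∀ K : Subgroup G, K.Normal → (P : Subgroup G) ≤ K → K = ⊤ := fun K hK hPK => by
      by_contra hne
      haveI := hK
      exact hP (SmallSylow.normal_of_le P K hPK (hprop K hK hne))
    have hinv : ∀ (N : Subgroup G) [N.Normal] [Fintype N] (θ : IrrCharacter N),
        classInner (fun n : N => (χ : G → ℂ) n) (θ : N → ℂ) ≠ 0 →
        (∀ g : G, irrComp (MulAut.conjNormal g) θ = θ) ∧ deg (θ : N → ℂ) ∣ deg (χ : G → ℂ) ∧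
          ∃ e : ℕ, ∀ n : N, (χ : G → ℂ) n = (e : ℂ) * (θ : N → ℂ) n := fun N _ _ θ hθ =>
      (invariant_or_index χ N θ hθ).resolve_left fun ⟨H, hH, hd⟩ =>
        hQ (quot_of_index hsolv P hall hnd hH hd)
    -- the derived subgroup
    have hC0 : commutator G ≠ ⊤ := by
      rcases subsingleton_or_nontrivial G with hs | hnt
      · exact absurd ⟨fun a ha b => by rw [Subsingleton.elim (b * a * b⁻¹) a]; exact ha⟩ hP
      · exact (Group.IsSolvable.commutator_lt_top_of_nontrivial G).ne
    set C0 := commutator G with hC0def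
    haveI := Fintype.ofFinite C0
    obtain ⟨A0⟩ : Nonempty (Sylow p C0) := inferInstance
    haveI hA0n := hprop C0 inferInstance hC0 A0
    haveI : (A0 : Subgroup C0).Characteristic := A0.characteristic_of_normal hA0n
    set A := (A0 : Subgroup C0).map C0.subtype with hA
    haveI hAn : A.Normal := ConjAct.normal_of_characteristic_of_normal
    haveI := Fintype.ofFinite A
    have hApg : IsPGroup p A := A0.isPGroup'.map _
    -- `A` is central
    have hlinA : ∀ θ : IrrCharacter A, classInner (fun n : A => (χ : G → ℂ) n) (θ : A → ℂ) ≠ 0 →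
        (θ : A → ℂ) 1 = 1 := by
      intro θ hθ
      obtain ⟨k, hk⟩ := IsPGroup.iff_card.mp hApg
      obtain ⟨i, -, hi⟩ := (Nat.dvd_prime_pow hp.out).mp (hk ▸ deg_dvd_card θ.2)
      rw [char_one_eq_deg (irr_isCharacter θ.2), hi]
      rcases Nat.eq_zero_or_pos i with rfl | hi0
      · simp
      · exact absurd ((dvd_pow_self p hi0.ne').trans (hi ▸ (hinv A θ hθ).2.1)) hnd
    obtain ⟨θA, hθA⟩ := exists_constituent (N := A) χ
    obtain ⟨hfixA, -, eA, heA⟩ := hinv A θA hθA
    obtain ⟨lA, hlA⟩ := exists_hom_of_degree_one (irr_isCharacter θA.2) (hlinA θA hθA)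
    have hcen : ∀ a ∈ A, ∀ g : G, g * a * g⁻¹ = a := by
      intro a ha g
      refine mul_inv_eq_one.mp (hfaith _ ?_)
      have hmem : g * a * g⁻¹ * a⁻¹ ∈ A := A.mul_mem (hAn.conj_mem a ha g) (A.inv_mem ha)
      have h1 := heA ⟨_, hmem⟩
      have h2 := heA 1
      rw [show ((⟨_, hmem⟩ : A) : G) = g * a * g⁻¹ * a⁻¹ from rfl] at h1
      rw [OneMemClass.coe_one] at h2
      rw [h1, h2, hlA]
      congr 1
      have h3 := congrFun (congrArg Subtype.val (hfixA g)) ⟨a, ha⟩
      rw [irrComp_apply, hlA] at h3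
      have h4 : lA (MulAut.conjNormal g ⟨a, ha⟩) = lA ⟨a, ha⟩ := Units.ext h3
      show ((lA _ : ℂˣ) : ℂ) = ((lA 1 : ℂˣ) : ℂ)
      rw [show (⟨g * a * g⁻¹ * a⁻¹, hmem⟩ : A) = MulAut.conjNormal g ⟨a, ha⟩ * (⟨a, ha⟩ : A)⁻¹ from
        Subtype.ext (by rw [Subgroup.coe_mul, MulAut.conjNormal_apply, Subgroup.coe_inv]),
        map_mul, map_inv, h4, mul_inv_cancel, map_one]
    obtain ⟨K0, hK0⟩ := Subgroup.exists_right_complement'_of_coprime A0.card_coprime_index
    haveI hK0n : K0.Normal := by
      refine Subgroup.normalizer_eq_top_iff.mp (eq_top_iff.mpr (hK0.sup_eq_top ▸ sup_le ?_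
        Subgroup.le_normalizer))
      refine fun a ha => Subgroup.centralizer_le_normalizer _ (Subgroup.mem_centralizer_iff.mpr
        fun y _ => Subtype.ext ?_)
      exact mul_inv_eq_iff_eq_mul.mp (hcen (a : G) ⟨a, ha, rfl⟩ (y : G))
    have hK0p : ¬ p ∣ Nat.card K0 := by
      rw [← hK0.symm.index_eq_card]
      exact A0.not_dvd_index
    have hK0le : K0 ≤ pPrimeCore p C0 :=
      Fusion.le_pPrimeCore ((hp.out.coprime_iff_not_dvd.mpr hK0p).symm)
    haveI : (pPrimeCore p C0).Characteristic := Fusion.pPrimeCore_characteristic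
    set K := (pPrimeCore p C0).map C0.subtype with hK
    haveI hKn : K.Normal := ConjAct.normal_of_characteristic_of_normal
    have hKp : ¬ p ∣ Nat.card K := by
      rw [hK, Subgroup.card_map_of_injective C0.subtype_injective]
      exact hp.out.coprime_iff_not_dvd.mp (Fusion.card_pPrimeCore_coprime p C0).symm
    have hC0P : C0 ⊔ (P : Subgroup G) = ⊤ := by
      haveI : (C0 ⊔ (P : Subgroup G)).Normal := Subgroup.Normal.of_commutator_le _ le_sup_left
      exact hall _ inferInstance le_sup_right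
    have hAP : A ≤ (P : Subgroup G) := hApg.le_sylow_of_normal P
    have hnotK : ¬ ∀ u ∈ (P : Subgroup G), ∀ g ∈ K, Commute u g := by
      intro hc
      have hle : C0 ≤ K ⊔ (P : Subgroup G) := by
        have h1 : (⊤ : Subgroup C0).map C0.subtype ≤ K ⊔ (P : Subgroup G) := by
          rw [← hK0.sup_eq_top, Subgroup.map_sup]
          exact sup_le (hAP.trans le_sup_right) ((Subgroup.map_mono hK0le).trans le_sup_left)
        rwa [← MonoidHom.range_eq_map, Subgroup.range_subtype] at h1
      refine hP (Subgroup.normalizer_eq_top_iff.mp (eq_top_iff.mpr (hC0P ▸ sup_le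
        (hle.trans (sup_le ?_ Subgroup.le_normalizer)) Subgroup.le_normalizer)))
      exact fun g hg => Subgroup.centralizer_le_normalizer _ (Subgroup.mem_centralizer_iff.mpr
        fun u hu => (hc u hu g hg).eq)
    -- a minimal normal subgroup not centralized by `P`
    obtain ⟨R, hRK, hR⟩ := Finite.exists_le_minimal
      (p := fun R : Subgroup G => R ≤ K ∧ R.Normal ∧ ¬ ∀ u ∈ (P : Subgroup G), ∀ g ∈ R, Commute u g)
      (a := K) ⟨le_rfl, hKn, hnotK⟩
    obtain ⟨⟨-, hRn, hRc⟩, hRmin⟩ := hR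
    haveI := hRn
    haveI := Fintype.ofFinite R
    have hRp : ¬ p ∣ Nat.card R := fun h => hKp (h.trans (Subgroup.card_dvd_of_le hRK))
    have hsub : ∀ S : Subgroup G, S.Normal → S ≤ R → S ≠ R → S ≤ Subgroup.center G := by
      intro S hS hSR hne
      haveI := hS
      have hc : ∀ u ∈ (P : Subgroup G), ∀ g ∈ S, Commute u g := by
        by_contra hnc
        exact hne (le_antisymm hSR (hRmin ⟨hSR.trans hRK, hS, hnc⟩ hSR))
      haveI : (Subgroup.centralizer (S : Set G)).Normal := Subgroup.normal_centralizer (H := S)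
      have htop := hall _ inferInstance (fun u hu => Subgroup.mem_centralizer_iff.mpr fun g hg =>
        (hc u hu g hg).eq.symm : (P : Subgroup G) ≤ Subgroup.centralizer (S : Set G))
      refine fun s hs => Subgroup.mem_center_iff.mpr fun g => ?_
      have hg : g ∈ Subgroup.centralizer (S : Set G) := by rw [htop]; trivial
      exact (Subgroup.mem_centralizer_iff.mp hg s hs).symm
    haveI : Nontrivial R := by
      rw [← not_subsingleton_iff_nontrivial]
      intro hs
      refine hRc fun u _ g hg => ?_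
      rw [show g = 1 from congrArg Subtype.val (Subsingleton.elim (⟨g, hg⟩ : R) 1)]
      exact Commute.one_right u
    have hder : (commutator R).map R.subtype ≤ Subgroup.center G := by
      refine hsub _ ConjAct.normal_of_characteristic_of_normal (Subgroup.map_subtype_le _) fun e => ?_
      refine (Group.IsSolvable.commutator_lt_top_of_nontrivial R).ne
        (Subgroup.map_injective R.subtype_injective ?_)
      rw [e, ← MonoidHom.range_eq_map, Subgroup.range_subtype]
    haveI hnil : Group.IsNilpotent R := by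
      refine Subgroup.isNilpotent_of_ker_le_center (Abelianization.of (G := R)) fun z hz => ?_
      rw [Abelianization.ker_of] at hz
      have hzc : (z : G) ∈ Subgroup.center G := hder ⟨z, hz, rfl⟩
      exact Subgroup.mem_center_iff.mpr fun a => Subtype.ext (Subgroup.mem_center_iff.mp hzc a)
    obtain ⟨r, hr, hRr⟩ : ∃ r : ℕ, r.Prime ∧ IsPGroup r R := by
      by_contra hno
      refine hRc fun u hu g hg => ?_
      set D := R ⊓ Subgroup.centralizer ({u} : Set G) with hD
      have hDR : D = R := by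
        refine Subgroup.eq_of_le_of_card_ge inf_le_left (Nat.le_of_dvd Nat.card_pos ?_)
        rw [← Nat.factorization_le_iff_dvd Nat.card_pos.ne' Nat.card_pos.ne']
        intro r
        by_cases hr : r.Prime
        swap
        · rw [Nat.factorization_eq_zero_of_not_prime _ hr]; exact Nat.zero_le _
        haveI := Fact.mk hr
        obtain ⟨S0⟩ : Nonempty (Sylow r R) := inferInstance
        haveI hS0 : (S0 : Subgroup R).Normal :=
          Sylow.normal_of_normalizerCondition Group.normalizerCondition_of_isNilpotent S0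
        haveI : (S0 : Subgroup R).Characteristic := S0.characteristic_of_normal hS0
        have hne : (S0 : Subgroup R).map R.subtype ≠ R := fun e =>
          hno ⟨r, hr, e ▸ S0.isPGroup'.map _⟩
        have hSle := hsub _ ConjAct.normal_of_characteristic_of_normal (Subgroup.map_subtype_le _) hne
        have hSD : (S0 : Subgroup R).map R.subtype ≤ D := fun s hs =>
          ⟨Subgroup.map_subtype_le _ hs, Subgroup.mem_centralizer_singleton_iff.mpr
            (Subgroup.mem_center_iff.mp (hSle hs) u).symm⟩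
        have h1 := Subgroup.card_dvd_of_le hSD
        rw [Subgroup.card_map_of_injective R.subtype_injective, S0.card_eq_multiplicity] at h1
        exact (hr.pow_dvd_iff_le_factorization Nat.card_pos.ne').mp h1
      rw [← hDR] at hg
      exact (Subgroup.mem_centralizer_singleton_iff.mp hg.2).symm
    haveI := Fact.mk hr
    obtain ⟨θ, hθ⟩ := exists_constituent (N := R) χ
    obtain ⟨hfix, hθdvd, e0, he0⟩ := hinv R θ hθ
    -- some element of `P` moves `R`
    obtain ⟨x, hxP, g0, hg0, hg0x⟩ : ∃ x ∈ (P : Subgroup G), ∃ g ∈ R, ¬ Commute x g := by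
      by_contra hno
      push Not at hno
      exact hRc hno
    obtain ⟨kx, hkx⟩ := P.isPGroup' ⟨x, hxP⟩
    set Q := Subgroup.zpowers x with hQdef
    have hQp : IsPGroup p Q := P.isPGroup'.to_le (Subgroup.zpowers_le.mpr hxP)
    have hQR : Q ≤ Subgroup.normalizer (R : Set G) := by rw [Subgroup.normalizer_eq_top]; exact le_top
    obtain ⟨i, hi⟩ := IsPGroup.iff_card.mp hQp
    have hco : (Nat.card Q).Coprime (Nat.card R) := by
      rw [hi]
      exact Nat.Coprime.pow_left i (hp.out.coprime_iff_not_dvd.mpr hRp)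
    have hsol : Group.IsSolvable Q ∨ Group.IsSolvable R := Or.inr inferInstance
    obtain ⟨hWR, hRW, hQW⟩ := Solv.commutator_normal_in hQR
    set W := ⁅R, Q⁆ with hWdef
    -- the fixed points centralize `W`
    have hcw : ∀ c ∈ R, c ∈ Subgroup.centralizer (Q : Set G) → ∀ w ∈ W, c * w = w * c := by
      intro c hc hcQ
      have hle : W ≤ Subgroup.centralizer ({c} : Set G) := by
        rw [hWdef, Subgroup.commutator_le]
        intro g hg a ha
        rw [Subgroup.mem_centralizer_singleton_iff]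
        have hu : ⁅c, g⁆ ∈ Subgroup.center G :=
          hder ⟨⁅(⟨c, hc⟩ : R), ⟨g, hg⟩⁆, by
            rw [commutator_def]
            exact Subgroup.commutator_mem_commutator (Subgroup.mem_top _) (Subgroup.mem_top _),
            by simp [commutatorElement_def]⟩
        have hca : a * c = c * a := Subgroup.mem_centralizer_iff.mp hcQ a ha
        have h1 : c * ⁅g, a⁆ * c⁻¹ = ⁅g, a⁆ := by
          have e1 : c * ⁅g, a⁆ * c⁻¹ = ⁅c * g * c⁻¹, c * a * c⁻¹⁆ := by
            simp only [commutatorElement_def]; group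
          rw [e1, show c * a * c⁻¹ = a by rw [← hca, mul_inv_cancel_right],
            show c * g * c⁻¹ = ⁅c, g⁆ * g by simp [commutatorElement_def]]
          have hz := Subgroup.mem_center_iff.mp hu
          simp only [commutatorElement_def (⁅c, g⁆ * g), commutatorElement_def g, _root_.mul_inv_rev]
          calc ⁅c, g⁆ * g * a * (g⁻¹ * ⁅c, g⁆⁻¹) * a⁻¹
              = ⁅c, g⁆ * (g * a * g⁻¹) * ⁅c, g⁆⁻¹ * a⁻¹ := by group
            _ = _ := by rw [← hz (g * a * g⁻¹), mul_inv_cancel_right]
        exact (mul_inv_eq_iff_eq_mul.mp h1).symm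
      intro w hw
      exact (Subgroup.mem_centralizer_singleton_iff.mp (hle hw)).symm
    set W0 := W.subgroupOf R with hW0
    haveI hW0n : W0.Normal := (Subgroup.normal_subgroupOf_iff_le_normalizer hWR).mpr hRW
    haveI := Fintype.ofFinite W0
    obtain ⟨ψ, hψ⟩ := exists_constituent (N := W0) θ
    -- `ψ` is invariant under `R`
    have hψR : ∀ g : R, irrComp (MulAut.conjNormal g) ψ = ψ := by
      intro g
      obtain ⟨w, hw, c, hc, hgwc⟩ := Solv.exists_commutator_mul_fixed hQR hco hsol g.2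
      refine Subtype.ext (funext fun v => ?_)
      rw [irrComp_apply]
      have hcv := hcw c hc.1 hc.2 ((v : R) : G) v.2
      have e : MulAut.conjNormal g v =
          (⟨⟨w, hWR hw⟩, hw⟩ : W0) * v * (⟨⟨w, hWR hw⟩, hw⟩ : W0)⁻¹ := by
        refine Subtype.ext (Subtype.ext ?_)
        rw [MulAut.conjNormal_apply]
        show (g : G) * ((v : R) : G) * (g : G)⁻¹ = w * ((v : R) : G) * w⁻¹
        rw [hgwc, show w * c * ((v : R) : G) * (w * c)⁻¹ = w * (c * ((v : R) : G)) * c⁻¹ * w⁻¹ by group,
          hcv]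
        group
      rw [e]
      exact isClassFunction_character (irr_isCharacter ψ.2) _ _
    have hres : ∃ m : ℕ, m ≠ 0 ∧ ∀ v : W0, (θ : R → ℂ) v = (m : ℂ) * (ψ : W0 → ℂ) v := by
      obtain ⟨m, hm⟩ := exists_decomposition (isCharacter_comp W0.subtype (irr_isCharacter θ.2))
      have horb : cliffOrbit W0 ψ = {ψ} := Finset.eq_singleton_iff_unique_mem.mpr
        ⟨mem_cliffOrbit.mpr ⟨1, hψR 1⟩, fun φ hφ => by
          obtain ⟨g, rfl⟩ := mem_cliffOrbit.mp hφ
          exact hψR g⟩
      have h1 := clifford_restrict θ ψ hψ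
      have hco' : classInner (fun n : W0 => (θ : R → ℂ) n) (ψ : W0 → ℂ) = m ψ :=
        decomposition_coeff m hm ψ
      rw [horb, Finset.sum_singleton, hco'] at h1
      exact ⟨m ψ, fun h0 => hψ (by rw [hco', h0, Nat.cast_zero]), fun v => congrFun h1 v⟩
    obtain ⟨mψ, hmψ, hres⟩ := hres
    -- `ψ` is invariant under `Q`
    have hmemW : ∀ a ∈ Q, ∀ v : W0, a * ((v : R) : G) * a⁻¹ ∈ W := fun a ha v =>
      (Subgroup.mem_normalizer_iff.mp (hQW ha) _).mp v.2
    have hψQ : ∀ (a : G) (ha : a ∈ Q) (v : W0),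
        (ψ : W0 → ℂ) ⟨⟨a * ((v : R) : G) * a⁻¹, hWR (hmemW a ha v)⟩, hmemW a ha v⟩ = (ψ : W0 → ℂ) v := by
      intro a ha v
      refine mul_left_cancel₀ (Nat.cast_ne_zero.mpr hmψ : (mψ : ℂ) ≠ 0) ?_
      rw [← hres, ← hres]
      have h1 := congrFun (congrArg Subtype.val (hfix a)) (v : R)
      rw [irrComp_apply] at h1
      rw [← h1]
      exact congrArg _ (Subtype.ext (MulAut.conjNormal_apply a (v : R)).symm)
    set d := deg (ψ : W0 → ℂ) with hd
    have hdθ : deg (θ : R → ℂ) = mψ * d := by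
      have h1 := hres 1
      rw [OneMemClass.coe_one, char_one_eq_deg (irr_isCharacter θ.2),
        char_one_eq_deg (irr_isCharacter ψ.2)] at h1
      exact_mod_cast h1
    have hdχ : d ∣ deg (χ : G → ℂ) := (Dvd.intro_left _ hdθ.symm).trans hθdvd
    obtain ⟨kW, hkW⟩ := IsPGroup.iff_card.mp
      ((hRr.to_subgroup W0 : IsPGroup r W0))
    obtain ⟨t, -, hdt⟩ := (Nat.dvd_prime_pow hr).mp (hkW ▸ deg_dvd_card ψ.2)
    rw [← hd] at hdt
    rcases Nat.eq_zero_or_pos t with ht | ht
    · -- the linear case: `x` centralizes `R`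
      subst ht
      rw [pow_zero] at hdt
      obtain ⟨l, hl⟩ := exists_hom_of_degree_one (irr_isCharacter ψ.2)
        (by rw [char_one_eq_deg (irr_isCharacter ψ.2), ← hd, hdt, Nat.cast_one])
      obtain ⟨w, hw, c, hc, hgwc⟩ := Solv.exists_commutator_mul_fixed hQR hco hsol hg0
      refine hg0x ?_
      have hcx : Commute x c := Subgroup.mem_centralizer_iff.mp hc.2 x (Subgroup.mem_zpowers x)
      have hwx : Commute x w := by
        refine mul_inv_eq_iff_eq_mul.mp (mul_inv_eq_one.mp (hfaith _ ?_))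
        set v : W0 := ⟨⟨w, hWR hw⟩, hw⟩
        have hxw := hmemW x (Subgroup.mem_zpowers x) v
        set v' : W0 := ⟨⟨x * w * x⁻¹, hWR hxw⟩, hxw⟩
        have h1 := he0 ((v' * v⁻¹ : W0) : R)
        have h2 := he0 1
        rw [OneMemClass.coe_one] at h2
        have h3 : ((((v' * v⁻¹ : W0) : R)) : G) = x * w * x⁻¹ * w⁻¹ := rfl
        rw [h3, hres] at h1
        rw [h1, h2, show (θ : R → ℂ) 1 = (mψ : ℂ) * (ψ : W0 → ℂ) 1 from hres 1, hl]
        congr 2
        have h4 : l v' = l v := Units.ext (by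
          have := hψQ x (Subgroup.mem_zpowers x) v
          rw [hl] at this
          exact this)
        show ((l _ : ℂˣ) : ℂ) = ((l 1 : ℂˣ) : ℂ)
        rw [map_mul, map_inv, h4, mul_inv_cancel, map_one]
      rw [hgwc]
      exact hwx.mul_right hcx
    -- the congruence
    obtain ⟨Mp, hMp⟩ := exists_pModular hp.out
    letI : MulAction Q W0 :=
      { smul := fun s v => ⟨⟨(s : G) * ((v : R) : G) * (s : G)⁻¹, hWR (hmemW s s.2 v)⟩, hmemW s s.2 v⟩
        one_smul := fun v => Subtype.ext (Subtype.ext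
          (show ((1 : Q) : G) * ((v : R) : G) * ((1 : Q) : G)⁻¹ = ((v : R) : G) by simp))
        mul_smul := fun s s' v => Subtype.ext (Subtype.ext
          (show ((s * s' : Q) : G) * ((v : R) : G) * ((s * s' : Q) : G)⁻¹ =
            (s : G) * ((s' : G) * ((v : R) : G) * (s' : G)⁻¹) * (s : G)⁻¹ by simp [mul_assoc])) }
    set F : W0 → ℂ := fun v => (ψ : W0 → ℂ) v * conj ((ψ : W0 → ℂ) v) with hF
    have hFinv : ∀ (s : Q) (v : W0), F (s • v) = F v := fun s v => by
      have h1 : (ψ : W0 → ℂ) (s • v) = (ψ : W0 → ℂ) v := hψQ s s.2 v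
      simp only [hF, h1]
    have h1 := sum_fixedPoints_congr hMp hQp F (fun v => memLR_mul (pmod_prime hMp)
      (memLR_char (pmod_prime hMp) (irr_isCharacter ψ.2) v)
      (memLR_char (pmod_prime hMp) (isCharacter_conj (irr_isCharacter ψ.2)) v)) hFinv
    have h2 := sum_fixedPoints_congr (X := W0) hMp hQp (fun _ => ((d * d : ℕ) : ℂ))
      (fun _ => memLR_natCast (pmod_prime hMp) _) (fun _ _ => rfl)
    have hsum : ∑ v : W0, F v = (Nat.card W0 : ℂ) := by
      have := irr_self ψ.2
      rw [classInner, inv_mul_eq_one₀ (Nat.cast_ne_zero.mpr Nat.card_pos.ne')] at this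
      exact this.symm
    have hfixed : ∀ v : W0, v ∈ MulAction.fixedPoints Q W0 → F v = ((d * d : ℕ) : ℂ) := by
      intro v hv
      have hvQ : ((v : R) : G) ∈ Subgroup.centralizer (Q : Set G) :=
        Subgroup.mem_centralizer_iff.mpr fun a ha =>
          mul_inv_eq_iff_eq_mul.mp (congrArg (fun z : W0 => ((z : R) : G)) (hv ⟨a, ha⟩))
      obtain ⟨c, hc, hcm⟩ := AbTI.center_mul ψ (z := v) (Subgroup.mem_center_iff.mpr fun a =>
        Subtype.ext (Subtype.ext (hcw _ (v : R).2 hvQ _ a.2).symm))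
      have hv1 := hcm 1
      rw [one_mul, char_one_eq_deg (irr_isCharacter ψ.2), ← hd] at hv1
      simp only [hF, hv1, Complex.mul_conj, map_mul, hc, one_mul, Complex.normSq_natCast]
      push_cast
      rfl
    rw [hsum, Finset.sum_congr rfl fun v hv => hfixed v (Finset.mem_filter.mp hv).2] at h1
    rw [Finset.sum_const, Finset.card_univ, ← Nat.card_eq_fintype_card, nsmul_eq_mul] at h2
    have h3 := memLI_sub (pmod_prime hMp) h2 h1
    have hd0 : 0 < d := hdt ▸ pow_pos hr.pos t
    have h4 : MemLocalIdeal Mp ((Nat.card W0 * (d * d - 1) : ℕ) : ℂ) := by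
      convert h3 using 1
      rw [Nat.cast_mul, Nat.cast_sub (Nat.mul_pos hd0 hd0), Nat.cast_one]
      ring
    have h5 := (memLI_natCast_iff hMp _).mp h4
    have hW0p : ¬ p ∣ Nat.card W0 := fun h => hRp (h.trans (Subgroup.card_subgroup_dvd_card W0))
    have h6 : p ∣ (r ^ t + 1) * (r ^ t - 1) := by
      rw [← Nat.mul_self_sub_mul_self_eq, ← hdt]
      exact (hp.out.dvd_mul.mp h5).resolve_left hW0p
    exact hQ (quot_of_pow hr ht.ne' (hdt ▸ hdχ) h6)

end Cfsg.Agent.Char.SolvDiv
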