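import Cfsg.Agent.Lib.Char.OneBlock
import Cfsg.Agent.Lib.Char.PrincipalInflate
import Cfsg.Agent.Lib.Char.ItoConverse
import Cfsg.Agent.Lib.Fusion.Cores
import Mathlib

/-!
# Intersections of principal blocks of solvable groups
-/

set_option autoImplicit false
set_option linter.unusedSectionVars false

namespace Cfsg.Agent.Char.SolvPrincipal

open Cfsg Cfsg.Agent Cfsg.Agent.Char

universe u

variable {G : Type u} [Group G] [Fintype G]

/-- In a solvable group the principal block consists of the characters trivial on `O_{p'}`. -/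
theorem mem_principal_iff [Group.IsSolvable G] {p : ℕ} {M : Ideal AlgInt} (hM : IsPModular p M)
    (χ : IrrCharacter G) :
    χ ∈ principalBlock M G ↔ pPrimeCore p G ≤ blockKerSub {χ} := by
  classical
  haveI := Fact.mk hM.1
  haveI := Solv.pPrimeCore_normal (G := G) p
  have hN : ¬ p ∣ Nat.card (pPrimeCore p G) :=
    (hM.1.coprime_iff_not_dvd).mp (Fusion.card_pPrimeCore_coprime p G).symm
  constructor
  · intro h n hn φ hφ
    rw [Set.mem_singleton_iff.mp hφ]
    exact principal_trivial_on hM _ hN h n hn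
  · intro h
    haveI := Fintype.ofFinite (G ⧸ pPrimeCore p G)
    obtain ⟨ψ, hψ⟩ := (inflateEquiv (pPrimeCore p G)).surjective
      ⟨χ, fun n hn => h hn χ rfl⟩
    have e : (inflateEquiv (pPrimeCore p G) ψ).1 = χ := congrArg Subtype.val hψ
    rw [← e, inflate_mem_principal_iff hM _ hN]
    have hone : IsIrrCharacter (G ⧸ pPrimeCore p G) (fun _ => (1 : ℂ)) := isIrrCharacter_one
    refine sameBlock_of_constrained hM (centralizer_pCore_le_of_pSolvable ?_ ?_) ⟨_, hone⟩ ψ
    · exact isPSolvable_of_isSolvable hM.1 _ rfl inferInstance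
    · exact Fusion.pPrimeCore_quotient_eq_bot

/-- **Principal blocks of a solvable group meet trivially exactly when the cores fill it.** -/
theorem principal_meet_trivial_iff [Group.IsSolvable G] (π : Set ℕ) (M : ℕ → Ideal AlgInt)
    (hM : ∀ p ∈ π, IsPModular p (M p)) :
    (∀ χ : IrrCharacter G, (∀ p ∈ π, χ ∈ principalBlock (M p) G) → (χ : G → ℂ) = fun _ => 1) ↔
      ⨆ p ∈ π, pPrimeCore p G = ⊤ := by
  classical
  set N := ⨆ p ∈ π, pPrimeCore p G with hN
  constructor
  · intro h
    haveI : N.Normal := by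
      haveI : ∀ p : ℕ, (pPrimeCore p G).Normal := fun p => Solv.pPrimeCore_normal p
      infer_instance
    haveI := Fintype.ofFinite (G ⧸ N)
    haveI : Subsingleton (IrrCharacter (G ⧸ N)) := by
      refine ⟨fun a b => (inflateEquiv N).injective (Subtype.ext ?_)⟩
      have key : ∀ c : IrrCharacter (G ⧸ N), ((inflateEquiv N c).1 : G → ℂ) = fun _ => 1 := by
        intro c
        refine h _ fun p hp => (mem_principal_iff (hM p hp) _).mpr ?_
        refine (le_biSup (fun p => pPrimeCore p G) hp).trans fun n hn φ hφ => ?_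
        rw [Set.mem_singleton_iff.mp hφ]
        exact (inflateEquiv N c).2 n hn
      exact Subtype.ext ((key a).trans (key b).symm)
    have h1 : Nat.card (ConjClasses (G ⧸ N)) = 1 := by
      rw [← card_irr]
      exact Nat.card_eq_one_iff_unique.mpr ⟨inferInstance, ⟨⟨_, isIrrCharacter_one⟩⟩⟩
    refine Subgroup.eq_top_iff' N |>.mpr fun g => ?_
    haveI : Subsingleton (ConjClasses (G ⧸ N)) := (Nat.card_eq_one_iff_unique.mp h1).1
    rw [← QuotientGroup.eq_one_iff]
    exact isConj_one_right.mp (ConjClasses.mk_eq_mk_iff_isConj.mp (Subsingleton.elim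
      (ConjClasses.mk 1) (ConjClasses.mk (g : G ⧸ N))))
  · intro hT χ hχ
    have hle : N ≤ blockKerSub {χ} := iSup₂_le fun p hp => (mem_principal_iff (hM p hp) χ).mp (hχ p hp)
    rw [hT, top_le_iff] at hle
    have hval : ∀ g, (χ : G → ℂ) g = (χ : G → ℂ) 1 := fun g =>
      (show g ∈ blockKerSub {χ} by rw [hle]; trivial) χ rfl
    have h1 := irr_self χ.2
    rw [classInner] at h1
    simp only [hval, conj_char_one (irr_isCharacter χ.2), Finset.sum_const, Finset.card_univ,
      ← Nat.card_eq_fintype_card, nsmul_eq_mul] at h1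
    rw [← mul_assoc, inv_mul_cancel₀ (Nat.cast_ne_zero.mpr Nat.card_pos.ne'), one_mul,
      char_one_eq_deg (irr_isCharacter χ.2), ← Nat.cast_mul, Nat.cast_eq_one] at h1
    funext g
    rw [hval, char_one_eq_deg (irr_isCharacter χ.2), (_root_.mul_eq_one.mp h1).1, Nat.cast_one]

end Cfsg.Agent.Char.SolvPrincipal
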