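import Cfsg.Agent.Lib.Char.Height
import Cfsg.Agent.Lib.Char.BlockLink
import Cfsg.Agent.Lib.Char.Burnside
import Cfsg.Agent.Lib.Char.DihedralPrincipal

/-!
# Prime power degrees in groups with three primes, one to small exponent
-/

set_option autoImplicit false

namespace Cfsg.Agent.Char

open Cfsg

universe u

theorem exists_linear_nontrivial {G : Type u} [Group G] [Finite G] {g : G} (hg : g ∉ commutator G) :
    ∃ l : G →* ℂˣ, l g ≠ 1 := by
  haveI : NeZero (Monoid.exponent (Abelianization G)) :=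
    ⟨Monoid.exponent_ne_zero_of_finite⟩
  have hne : Abelianization.of g ≠ 1 := fun h => hg ((QuotientGroup.eq_one_iff g).1 h)
  obtain ⟨φ, hφ⟩ :=
    CommGroup.exists_apply_ne_one_of_hasEnoughRootsOfUnity (Abelianization G) ℂ hne
  exact ⟨φ.comp Abelianization.of, hφ⟩

theorem exists_prime_power_degree {G : Type u} [Group G] [Finite G] [Nontrivial G] (p q r a b c : ℕ)
    (hp : p.Prime) (hq : q.Prime) (hr : r.Prime) (hpr : p ≠ r) (ha : a ≤ 2)
    (hqp : q ≠ p) (hG : Nat.card G = p ^ a * q ^ b * r ^ c) :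
    ∃ χ : IrrCharacter G, (χ : G → ℂ) ≠ (fun _ => 1) ∧
      ∃ k : ℕ, charDegree (χ : G → ℂ) = q ^ k := by
  classical
  haveI := Fintype.ofFinite G
  by_cases hdiv : p ∣ Nat.card G
  · haveI := Fact.mk hp
    obtain ⟨M, hM⟩ := exists_pModular hp
    have hP := pmod_prime hM
    set B := principalBlock M G
    have hB : IsPBlock M B := isPBlock_principalBlock M
    have h1B : (irrOne : IrrCharacter G) ∈ B := irrOne_mem hP
    have hfa : (Nat.card G).factorization p ≤ 2 := by
      refine le_trans (le_of_eq ?_) ha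
      rw [hG, Nat.factorization_mul (mul_ne_zero (pow_ne_zero _ hp.ne_zero) (pow_ne_zero _ hq.ne_zero))
        (pow_ne_zero _ hr.ne_zero), Nat.factorization_mul (pow_ne_zero _ hp.ne_zero) (pow_ne_zero _ hq.ne_zero),
        Nat.Prime.factorization_pow hp, Nat.Prime.factorization_pow hq, Nat.Prime.factorization_pow hr]
      simp [hqp.symm, hpr]
    have hd1 : charDegree ((irrOne : IrrCharacter G) : G → ℂ) = 1 := by
      rw [charDegree, irrOne_apply]; simp
    have hinf : sInf ((fun ψ : IrrCharacter G => (charDegree (ψ : G → ℂ)).factorization p) '' B) = 0 :=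
      Nat.sInf_eq_zero.2 (Or.inl ⟨_, h1B, by simp [hd1]⟩)
    have hno : ∀ χ ∈ B, ¬ p ∣ charDegree (χ : G → ℂ) := by
      intro χ hχ hpd
      have h0 : blockHeight p B (χ : G → ℂ) = 0 := by
        by_contra h
        have := height_add_two_le hM hB hχ h
        have hd : blockDefect p B ≤ 2 := le_trans (Nat.sub_le _ _) hfa
        omega
      rw [blockHeight, hinf, Nat.sub_zero] at h0
      have hne : charDegree (χ : G → ℂ) ≠ 0 := by
        have := charDegree_pos' χ
        omega
      have := (hp.dvd_iff_one_le_factorization hne).1 hpd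
      omega
    obtain ⟨g, hg⟩ := exists_prime_orderOf_dvd_card' p hdiv
    have hg1 : g ≠ 1 := fun h => hp.ne_one (by rw [← hg, h, orderOf_one])
    have h0 := sum_block_column_orth hM hB (g := g) (z := g) (h := 1) (w := 1)
      ⟨1, mul_one g, Commute.one_right g, ⟨1, by rw [hg, pow_one]⟩, by simp [hp.ne_one]⟩
      ⟨1, mul_one 1, Commute.one_right 1, ⟨0, by simp⟩, by simp [hp.ne_one]⟩
      (fun hc => hg1 (isConj_one_left.1 hc))
    obtain ⟨χ, hχ, hχ1, hrd⟩ : ∃ χ ∈ B, χ ≠ irrOne ∧ ¬ r ∣ charDegree (χ : G → ℂ) := by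
      by_contra hall
      push Not at hall
      choose! t ht using fun χ (h : χ ∈ B ∧ χ ≠ irrOne) => hall χ h.1 h.2
      set S := Finset.univ.filter (fun χ : IrrCharacter G => χ ∈ B) with hS
      rw [← Finset.add_sum_erase S _ (show irrOne ∈ S by simp [hS, h1B]), irrOne_apply, irrOne_apply,
        map_one, one_mul, Finset.sum_congr rfl (g := fun χ : IrrCharacter G =>
          (r : ℂ) * ((t χ : ℂ) * (χ : G → ℂ) g)) (fun χ hχ => by
          obtain ⟨h1, h2⟩ := Finset.mem_erase.1 hχ
          rw [charDegree_spec, ht χ ⟨(Finset.mem_filter.1 h2).2, h1⟩, Nat.cast_mul, map_mul,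
            Complex.conj_natCast, Complex.conj_natCast]
          ring), ← Finset.mul_sum] at h0
      have hint : IsIntegral ℤ ((-(1 / (r : ℚ)) : ℚ) : ℂ) := by
        have hr0 : (r : ℂ) ≠ 0 := Nat.cast_ne_zero.2 hr.ne_zero
        have e : ((-(1 / (r : ℚ)) : ℚ) : ℂ) =
            ∑ χ ∈ S.erase irrOne, (t χ : ℂ) * (χ : G → ℂ) g := by
          refine mul_left_cancel₀ hr0 ?_
          rw [eq_neg_of_add_eq_zero_right h0]
          push_cast
          field_simp
        rw [e]
        exact IsIntegral.sum _ fun χ _ => IsIntegral.mul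
          (by simpa using isIntegral_algebraMap (R := ℤ) (A := ℂ) (x := (t χ : ℤ)))
          (char_isIntegral (irr_isCharacter χ.2) g)
      obtain ⟨z, hz⟩ := isIntegral_rat_cast_imp hint
      have hzr : (z : ℚ) * r = -1 := by
        rw [hz]; field_simp [hr.ne_zero]
      have hzr' : z * (r : ℤ) = -1 := by exact_mod_cast hzr
      have : (r : ℤ) ∣ 1 := ⟨-z, by rw [mul_neg, mul_comm, hzr', neg_neg]⟩
      exact hr.ne_one (Nat.dvd_one.1 (by exact_mod_cast this))
    refine ⟨χ, fun h => hχ1 (Subtype.ext h), ?_⟩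
    have hdvd : charDegree (χ : G → ℂ) ∣ q ^ b * (p ^ a * r ^ c) := by
      rw [charDegree_eq_deg]
      refine (deg_dvd_card χ.2).trans (dvd_of_eq ?_)
      rw [hG]; ring
    have hco : (charDegree (χ : G → ℂ)).Coprime (p ^ a * r ^ c) :=
      Nat.Coprime.mul_right ((Nat.coprime_comm.1 (hp.coprime_iff_not_dvd.2 (hno χ hχ))).pow_right a)
        ((Nat.coprime_comm.1 (hr.coprime_iff_not_dvd.2 hrd)).pow_right c)
    obtain ⟨k, -, hk⟩ := (Nat.dvd_prime_pow hq).1 (hco.dvd_of_dvd_mul_right hdvd)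
    exact ⟨k, hk⟩
  · have ha0 : a = 0 := by
      by_contra h
      exact hdiv (hG ▸ ((dvd_pow_self p h).mul_right _).mul_right _)
    have hs : Group.IsSolvable G := isSolvable_of_two_primes hq hr _ rfl fun s hs hsd => by
      rw [hG, ha0, pow_zero, one_mul] at hsd
      rcases (Nat.Prime.dvd_mul hs).1 hsd with h | h
      · exact Or.inl ((Nat.prime_dvd_prime_iff_eq hs hq).1 (hs.dvd_of_dvd_pow h))
      · exact Or.inr ((Nat.prime_dvd_prime_iff_eq hs hr).1 (hs.dvd_of_dvd_pow h))
    obtain ⟨g, hg⟩ : ∃ g, g ∉ commutator G := by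
      by_contra h
      push Not at h
      exact (Group.IsSolvable.commutator_lt_top_of_nontrivial G).ne (eq_top_iff.2 fun g _ => h g)
    obtain ⟨l, hl⟩ := exists_linear_nontrivial hg
    refine ⟨⟨_, isIrrCharacter_linear l⟩, fun h => hl (Units.ext (congrFun h g)), 0, ?_⟩
    simp [charDegree]

end Cfsg.Agent.Char
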