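import Cfsg.Agent.Lib.Char.AbelianTIDegree
import Cfsg.Agent.Lib.Char.KGVDelta
import Cfsg.Agent.Lib.Char.ThreePrimeDegree
import Cfsg.Agent.Lib.Perm.PermChar

/-!
# The permutation character of the special linear group on non-zero vectors

It has norm `q` and at least `q` constituents, so it is multiplicity free with `q` constituents.
-/

set_option autoImplicit false
set_option linter.unusedSectionVars false
set_option linter.style.haveILetI false

namespace Cfsg.Agent.Char.SLPerm

open Cfsg Matrix MulAction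
open scoped ComplexConjugate

universe u

variable {F : Type u} [Field F] [Fintype F] [DecidableEq F] {n : ℕ}

theorem exists_basis {v w : Fin n → F} (h : LinearIndependent F ![v, w]) :
    ∃ b : Module.Basis (Fin 2 ⊕ Fin (n - 2)) F (Fin n → F), ∀ i, b (Sum.inl i) = ![v, w] i := by
  classical
  let b := Module.Basis.sumExtend h
  have hb : ∀ i, b (Sum.inl i) = ![v, w] i := fun i => by
    simp [b, Module.Basis.sumExtend]
    rfl
  haveI : Finite (Fin 2 ⊕ Module.Basis.sumExtendIndex h) := Module.Finite.finite_basis b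
  haveI : Finite (Module.Basis.sumExtendIndex h) := Finite.sum_right (α := Fin 2)
  have e1 := Module.finrank_eq_nat_card_basis b
  rw [Nat.card_sum, Nat.card_fin, Module.finrank_fin_fun] at e1
  let ε : Module.Basis.sumExtendIndex h ≃ Fin (n - 2) := Finite.equivFinOfCardEq (by omega)
  refine ⟨b.reindex (Equiv.sumCongr (Equiv.refl (Fin 2)) ε), fun i => ?_⟩
  rw [Module.Basis.reindex_apply, ← hb i]
  exact congrArg b rfl

theorem exists_sl_pair (hn : 3 ≤ n) {v w v' w' : Fin n → F} (h : LinearIndependent F ![v, w])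
    (h' : LinearIndependent F ![v', w']) :
    ∃ g : SpecialLinearGroup (Fin n) F, g.1 *ᵥ v = v' ∧ g.1 *ᵥ w = w' := by
  classical
  obtain ⟨b, hb⟩ := exists_basis h
  obtain ⟨b', hb'⟩ := exists_basis h'
  let e := b.equiv b' (Equiv.refl _)
  have he : ∀ i : Fin 2, e (![v, w] i) = ![v', w'] i := by
    intro i
    rw [← hb, Module.Basis.equiv_apply, Equiv.refl_apply, hb']
  let M : Matrix (Fin n) (Fin n) F := LinearMap.toMatrix' e.toLinearMap
  have hM : ∀ x, M *ᵥ x = e x := fun x => LinearMap.toMatrix'_mulVec _ x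
  have hdet : M.det ≠ 0 := by
    rw [LinearMap.det_toMatrix']
    exact (LinearEquiv.isUnit_det' e).ne_zero
  let x : Fin 2 ⊕ Fin (n - 2) := Sum.inr ⟨0, by omega⟩
  let φ : (Fin n → F) →ₗ[F] F := b'.coord x
  let r : Fin n → F := fun i => φ (Pi.single i 1)
  have hr : ∀ z, r ⬝ᵥ z = φ z := fun z => by
    conv_rhs => rw [pi_eq_sum_univ' z]
    rw [map_sum, dotProduct]
    exact Finset.sum_congr rfl fun i _ => by rw [map_smul, smul_eq_mul, mul_comm]
  let c := M.det⁻¹
  let D : Matrix (Fin n) (Fin n) F :=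
    1 + replicateCol Unit ((c - 1) • b' x) * replicateRow Unit r
  have hD : D.det = c := by
    rw [det_one_add_replicateCol_mul_replicateRow, hr, map_smul]
    simp [φ]
  have hDfix : ∀ z, φ z = 0 → D *ᵥ z = z := by
    intro z hz
    rw [add_mulVec, one_mulVec, ← mulVec_mulVec]
    have : replicateRow Unit r *ᵥ z = 0 := funext fun _ => by
      show (fun j => r j) ⬝ᵥ z = 0
      rw [hr, hz]
    rw [this, mulVec_zero, add_zero]
  have hφ : ∀ i : Fin 2, φ (![v', w'] i) = 0 := by
    intro i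
    rw [← hb']
    show b'.repr (b' (Sum.inl i)) x = 0
    rw [b'.repr_self, Finsupp.single_apply, if_neg]
    simp [x]
  refine ⟨⟨D * M, by rw [det_mul, hD]; exact inv_mul_cancel₀ hdet⟩, ?_, ?_⟩
  · show (D * M) *ᵥ v = v'
    rw [← mulVec_mulVec, hM, show e v = v' from he 0]
    exact hDfix _ (hφ 0)
  · show (D * M) *ᵥ w = w'
    rw [← mulVec_mulVec, hM, show e w = w' from he 1]
    exact hDfix _ (hφ 1)

theorem inv_mulVec_cancel (g : SpecialLinearGroup (Fin n) F) (z : Fin n → F) :
    (g⁻¹).1 *ᵥ (g.1 *ᵥ z) = z := by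
  rw [mulVec_mulVec, show (g⁻¹).1 * g.1 = 1 from congrArg Subtype.val (inv_mul_cancel g), one_mulVec]

theorem mul_mulVec' (g h : SpecialLinearGroup (Fin n) F) (z : Fin n → F) :
    (g * h).1 *ᵥ z = g.1 *ᵥ (h.1 *ᵥ z) := by
  rw [mulVec_mulVec]; rfl

theorem one_mulVec' (z : Fin n → F) : (1 : SpecialLinearGroup (Fin n) F).1 *ᵥ z = z :=
  one_mulVec z

/-- The non-zero vectors. -/
abbrev Vec (F : Type u) [Zero F] (n : ℕ) : Type u := {v : Fin n → F // v ≠ 0}

noncomputable instance vecAction : MulAction (SpecialLinearGroup (Fin n) F) (Vec F n) where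
  smul g v := ⟨g.1 *ᵥ v.1, fun h => v.2 (by
    rw [← inv_mulVec_cancel g v.1, h, mulVec_zero])⟩
  one_smul v := Subtype.ext (one_mulVec' v.1)
  mul_smul g h v := Subtype.ext (mul_mulVec' g h v.1)

theorem smul_val (g : SpecialLinearGroup (Fin n) F) (v : Vec F n) : (g • v).1 = g.1 *ᵥ v.1 := rfl

theorem indep_of_not_smul {v w : Vec F n} (h : ¬ ∃ a : Fˣ, w.1 = (a : F) • v.1) :
    LinearIndependent F ![v.1, w.1] := by
  rw [LinearIndependent.pair_iff' v.2]
  intro a ha
  by_cases h0 : a = 0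
  · exact w.2 (by rw [← ha, h0, zero_smul])
  · exact h ⟨Units.mk0 a h0, ha.symm⟩

theorem exists_indep (hn : 3 ≤ n) (v : Vec F n) : ∃ w : Vec F n, ¬ ∃ a : Fˣ, w.1 = (a : F) • v.1 := by
  obtain ⟨i, hi⟩ := Function.ne_iff.1 v.2
  haveI : Nontrivial (Fin n) := Fin.nontrivial_iff_two_le.2 (by omega)
  obtain ⟨j, hj⟩ := exists_ne i
  refine ⟨⟨Pi.single j 1, by simp⟩, ?_⟩
  rintro ⟨a, ha⟩
  have := congrFun ha i
  change (Pi.single j (1 : F) : Fin n → F) i = (a : F) * v.1 i at this
  rw [Pi.single_eq_of_ne hj.symm] at this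
  exact (mul_ne_zero a.ne_zero hi) this.symm

theorem pretransitive (hn : 3 ≤ n) (v v' : Vec F n) :
    ∃ g : SpecialLinearGroup (Fin n) F, g • v = v' := by
  obtain ⟨w, hw⟩ := exists_indep hn v
  obtain ⟨w', hw'⟩ := exists_indep hn v'
  obtain ⟨g, hg, -⟩ := exists_sl_pair hn (indep_of_not_smul hw) (indep_of_not_smul hw')
  exact ⟨g, Subtype.ext hg⟩

/-- There are `q` orbits on pairs. -/
theorem card_pair_orbits (hn : 3 ≤ n) :
    Nat.card (Quotient (orbitRel (SpecialLinearGroup (Fin n) F) (Vec F n × Vec F n))) = Fintype.card F := by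
  classical
  let key : Vec F n × Vec F n → Option Fˣ := fun p =>
    if h : ∃ a : Fˣ, p.2.1 = (a : F) • p.1.1 then some h.choose else none
  have hkey : ∀ p a, key p = some a ↔ p.2.1 = ((a : Fˣ) : F) • p.1.1 := by
    intro p a
    simp only [key]
    split_ifs with h
    · rw [Option.some.injEq]
      refine ⟨fun e => e ▸ h.choose_spec, fun e => Units.ext ?_⟩
      exact smul_left_injective F p.1.2 (h.choose_spec.symm.trans e)
    · exact ⟨fun e => by simp at e, fun e => absurd ⟨a, e⟩ h⟩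
  have hinv : ∀ (g : SpecialLinearGroup (Fin n) F) p, key (g • p) = key p := by
    intro g p
    refine Option.ext fun a => ?_
    show key (g • p) = some a ↔ key p = some a
    rw [hkey, hkey, Prod.smul_fst, Prod.smul_snd, smul_val, smul_val, ← mulVec_smul]
    refine ⟨fun h => ?_, fun h => by rw [h]⟩
    have := congrArg (fun z => (g⁻¹).1 *ᵥ z) h
    simpa only [inv_mulVec_cancel] using this
  rw [← Nat.card_eq_fintype_card, show Nat.card F = Nat.card (Option Fˣ) by
    rw [Finite.card_option, Nat.card_units]; exact (Nat.succ_pred_eq_of_pos Nat.card_pos).symm]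
  refine Nat.card_eq_of_bijective (Quotient.lift key fun p p' h => ?_) ⟨?_, ?_⟩
  · obtain ⟨g, rfl⟩ := h
    exact hinv g p'
  · intro a b
    induction a using Quotient.inductionOn with | _ p =>
    induction b using Quotient.inductionOn with | _ p' =>
    intro h
    change key p = key p' at h
    refine Quotient.sound ?_
    cases hk : key p with
    | none =>
      have hp : ¬ ∃ a : Fˣ, p.2.1 = (a : F) • p.1.1 := fun ⟨a, ha⟩ => by
        rw [(hkey p a).2 ha] at hk; simp at hk
      have hp' : ¬ ∃ a : Fˣ, p'.2.1 = (a : F) • p'.1.1 := fun ⟨a, ha⟩ => by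
        rw [h, (hkey p' a).2 ha] at hk; simp at hk
      obtain ⟨g, hg1, hg2⟩ := exists_sl_pair hn (indep_of_not_smul hp') (indep_of_not_smul hp)
      exact ⟨g, Prod.ext (Subtype.ext hg1) (Subtype.ext hg2)⟩
    | some a =>
      obtain ⟨g, hg⟩ := pretransitive hn p'.1 p.1
      refine ⟨g, Prod.ext hg (Subtype.ext ?_)⟩
      rw [h] at hk
      have h1 := (hkey p' a).1 hk
      have h2 := (hkey p a).1 (h ▸ hk)
      show g.1 *ᵥ p'.2.1 = p.2.1
      rw [h1, h2, mulVec_smul, ← smul_val, hg]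
  · haveI : Nonempty (Fin n) := ⟨⟨0, by omega⟩⟩
    let v : Vec F n := ⟨fun _ => 1, fun e => one_ne_zero (congrFun e ⟨0, by omega⟩)⟩
    rintro (_ | a)
    · obtain ⟨w, hw⟩ := exists_indep hn v
      exact ⟨Quotient.mk _ (v, w), dif_neg hw⟩
    · exact ⟨Quotient.mk _ (v, ⟨(a : F) • v.1, smul_ne_zero a.ne_zero v.2⟩), (hkey _ _).2 rfl⟩

local notation "Π₀" => Perm.PermChar.permChar (SpecialLinearGroup (Fin n) F) (Vec F n)

theorem norm_perm (hn : 3 ≤ n) : classInner Π₀ Π₀ = (Fintype.card F : ℂ) := by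
  classical
  have h := MulAction.sum_card_fixedBy_eq_card_orbits_mul_card_group (SpecialLinearGroup (Fin n) F)
    (Vec F n × Vec F n)
  simp only [← Nat.card_eq_fintype_card] at h
  rw [card_pair_orbits hn] at h
  rw [classInner, inv_mul_eq_iff_eq_mul₀ (Nat.cast_ne_zero.2 Nat.card_pos.ne'), ← Nat.cast_mul,
    Nat.mul_comm (Nat.card (SpecialLinearGroup (Fin n) F)), ← h, Nat.cast_sum]
  refine Finset.sum_congr rfl fun g _ => ?_
  rw [Perm.PermChar.permChar, map_natCast, ← Nat.cast_mul, ← Nat.card_prod]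
  refine congrArg _ (Nat.card_congr ?_)
  exact
    { toFun := fun z => ⟨(z.1.1, z.2.1), Prod.ext z.1.2 z.2.2⟩
      invFun := fun z => (⟨z.1.1, congrArg Prod.fst z.2⟩, ⟨z.1.2, congrArg Prod.snd z.2⟩)
      left_inv := fun _ => rfl
      right_inv := fun _ => rfl }

/-- The pieces of the permutation character induced from the stabilizer of a line. -/
theorem perm_decomposition (hn : 3 ≤ n) :
    ∃ m : IrrCharacter (SpecialLinearGroup (Fin n) F) → ℕ,
      Π₀ = ∑ ψ, m ψ • (ψ : SpecialLinearGroup (Fin n) F → ℂ) ∧ Fintype.card F ≤ ∑ ψ, m ψ := by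
  classical
  let e : Vec F n := ⟨Pi.single ⟨0, by omega⟩ 1, by simp⟩
  let G := SpecialLinearGroup (Fin n) F
  let H : Subgroup G :=
    { carrier := {g | ∃ a : Fˣ, g.1 *ᵥ e.1 = (a : F) • e.1}
      one_mem' := ⟨1, by rw [one_mulVec', Units.val_one, one_smul]⟩
      mul_mem' := fun {g h} ⟨a, ha⟩ ⟨b, hb⟩ => ⟨a * b, by
        rw [mul_mulVec', hb, mulVec_smul, ha, smul_smul, Units.val_mul, mul_comm]⟩
      inv_mem' := fun {g} ⟨a, ha⟩ => ⟨a⁻¹, by
        have h1 : e.1 = (a : F) • ((g⁻¹).1 *ᵥ e.1) := by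
          rw [← mulVec_smul, ← ha, inv_mulVec_cancel]
        conv_rhs => rw [h1, smul_smul, Units.inv_mul, one_smul]⟩ }
  have hH : ∀ g : H, ∃ a : Fˣ, (g : G).1 *ᵥ e.1 = (a : F) • e.1 := fun g => g.2
  choose ev hev using hH
  have huniq : ∀ (g : H) (a : Fˣ), (g : G).1 *ᵥ e.1 = (a : F) • e.1 → ev g = a := fun g a ha =>
    Units.ext (smul_left_injective F e.2 ((hev g).symm.trans ha))
  let E : H →* Fˣ := MonoidHom.mk' ev fun g h => huniq _ _ (by
    rw [Subgroup.coe_mul, mul_mulVec', hev, mulVec_smul, hev, smul_smul,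
      Units.val_mul, mul_comm])
  have hEs : Function.Surjective E := fun a => by
    obtain ⟨g, hg⟩ := pretransitive hn e ⟨(a : F) • e.1, smul_ne_zero a.ne_zero e.2⟩
    exact ⟨⟨g, a, congrArg Subtype.val hg⟩, huniq _ _ (congrArg Subtype.val hg)⟩
  haveI : NeZero (Monoid.exponent Fˣ) := ⟨Monoid.exponent_ne_zero_of_finite⟩
  obtain ⟨d⟩ := CommGroup.monoidHom_mulEquiv_of_hasEnoughRootsOfUnity Fˣ ℂ
  haveI : Finite (Fˣ →* ℂˣ) := Finite.of_equiv _ d.symm.toEquiv
  haveI := Fintype.ofFinite (Fˣ →* ℂˣ)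
  have hΛ : Fintype.card (Fˣ →* ℂˣ) = Fintype.card Fˣ := Fintype.card_congr d.toEquiv
  let f : (Fˣ →* ℂˣ) → G → ℂ := fun l => indFun H (fun h => ((l (E h) : ℂˣ) : ℂ))
  have hfc : ∀ l, IsCharacter G (f l) := fun l =>
    isCharacter_indFun H (isCharacter_linear (l.comp E))
  have hsum : ∀ a : Fˣ, ∑ l : Fˣ →* ℂˣ, ((l a : ℂˣ) : ℂ) = if a = 1 then (Fintype.card Fˣ : ℂ) else 0 := by
    intro a
    split_ifs with ha
    · simp [ha, hΛ]
    · obtain ⟨l₀, hl₀⟩ := CommGroup.exists_apply_ne_one_of_hasEnoughRootsOfUnity Fˣ ℂ ha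
      have hne : ((l₀ a : ℂˣ) : ℂ) ≠ 1 := fun e => hl₀ (Units.ext e)
      refine eq_zero_of_mul_eq_self_left hne ?_
      rw [Finset.mul_sum]
      exact Fintype.sum_bijective (fun l => l₀ * l) (Group.mulLeft_bijective l₀) _ _ fun l => by simp
  have hmem : ∀ z : G, z • e = e ↔ ∃ hz : z ∈ H, E ⟨z, hz⟩ = 1 := fun z => by
    constructor
    · intro h
      have h1 : z.1 *ᵥ e.1 = ((1 : Fˣ) : F) • e.1 := by
        rw [Units.val_one, one_smul]; exact congrArg Subtype.val h
      exact ⟨⟨1, h1⟩, huniq _ _ h1⟩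
    · rintro ⟨hz, h1⟩
      refine Subtype.ext ?_
      have := hev ⟨z, hz⟩
      rw [show ev ⟨z, hz⟩ = 1 from h1, Units.val_one, one_smul] at this
      exact this
  have hstab : Nat.card (stabilizer G e) = Nat.card E.ker := Nat.card_congr
    { toFun := fun z => ⟨⟨z.1, ((hmem z.1).1 z.2).choose⟩, ((hmem z.1).1 z.2).choose_spec⟩
      invFun := fun z => ⟨z.1.1, (hmem z.1.1).2 ⟨z.1.2, z.2⟩⟩
      left_inv := fun _ => rfl
      right_inv := fun _ => rfl }
  have hcardH : (Nat.card H : ℂ) = (Fintype.card Fˣ : ℂ) * (Nat.card E.ker : ℂ) := by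
    rw [← Nat.cast_mul, ← E.ker.card_mul_index, Subgroup.index_ker, MonoidHom.range_eq_top.2 hEs,
      Subgroup.card_top, Nat.card_eq_fintype_card (α := Fˣ), Nat.mul_comm]
  have htot : Π₀ = ∑ l, f l := by
    funext g
    rw [Finset.sum_apply]
    simp only [f, indFun]
    rw [← Finset.mul_sum, Finset.sum_comm]
    have hterm : ∀ x : G, ∑ l : Fˣ →* ℂˣ, extendByZero H (fun h => ((l (E h) : ℂˣ) : ℂ)) (x⁻¹ * g * x) =
        if g • x • e = x • e then (Fintype.card Fˣ : ℂ) else 0 := by
      intro x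
      have hiff : g • x • e = x • e ↔ (x⁻¹ * g * x) • e = e := by
        rw [mul_smul, mul_smul, inv_smul_eq_iff]
      by_cases hx : x⁻¹ * g * x ∈ H
      · rw [Finset.sum_congr rfl fun l _ => extendByZero_mem H _ hx, hsum]
        refine if_congr ⟨fun h => hiff.2 ((hmem _).2 ⟨hx, h⟩), fun h => ?_⟩ rfl rfl
        obtain ⟨_, h1⟩ := (hmem _).1 (hiff.1 h)
        exact h1
      · rw [Finset.sum_congr rfl fun l _ => extendByZero_not_mem H _ hx, Finset.sum_const_zero, if_neg]
        exact fun h => hx ((hmem _).1 (hiff.1 h)).choose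
    rw [Finset.sum_congr rfl fun x _ => hterm x, ← Finset.sum_filter, Finset.sum_const, nsmul_eq_mul,
      hcardH]
    have hfib : (Finset.univ.filter fun x : G => g • x • e = x • e).card =
        Nat.card (fixedBy (Vec F n) g) * Nat.card (stabilizer G e) := by
      rw [Finset.card_eq_sum_card_fiberwise (f := fun x : G => x • e)
        (t := Finset.univ.filter fun v => g • v = v) (fun x hx => by simpa using hx),
        Finset.sum_congr rfl (g := fun _ => Nat.card (stabilizer G e)) fun v hv => ?_, Finset.sum_const,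
        smul_eq_mul, Nat.card_eq_fintype_card (α := fixedBy (Vec F n) g), ← Fintype.card_subtype]
      · rfl
      obtain ⟨t, rfl⟩ := pretransitive hn e v
      have hv' : g • t • e = t • e := by simpa using hv
      rw [Nat.card_eq_fintype_card (α := stabilizer G e),
        show Fintype.card (stabilizer G e) = (Finset.univ.filter fun s : G => s • e = e).card from
          Fintype.card_of_subtype _ fun s => by simp]
      refine Finset.card_bij' (fun x _ => t⁻¹ * x) (fun s _ => t * s) ?_ ?_ (fun x _ => by simp)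
        (fun s _ => by simp)
      · intro x hx
        simp only [Finset.mem_filter, Finset.mem_univ, true_and] at hx ⊢
        rw [mul_smul, hx.2, inv_smul_smul]
      · intro s hs
        simp only [Finset.mem_filter, Finset.mem_univ, true_and] at hs ⊢
        exact ⟨by rw [mul_smul, hs]; exact hv', by rw [mul_smul, hs]⟩
    rw [hfib, Nat.cast_mul, hstab]
    have h1 : (Fintype.card Fˣ : ℂ) ≠ 0 := Nat.cast_ne_zero.2 Fintype.card_ne_zero
    have h2 : (Nat.card E.ker : ℂ) ≠ 0 := Nat.cast_ne_zero.2 Nat.card_pos.ne'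
    show (Nat.card (fixedBy (Vec F n) g) : ℂ) = _
    field_simp
  choose M hM using fun l => exists_decomposition (hfc l)
  refine ⟨fun ψ => ∑ l, M l ψ, ?_, ?_⟩
  · rw [htot]
    simp only [Finset.sum_smul]
    rw [Finset.sum_comm]
    exact Finset.sum_congr rfl fun l _ => hM l
  · rw [Finset.sum_comm]
    have hpos : ∀ l, 1 ≤ ∑ ψ, M l ψ := fun l => by
      by_contra h
      have h0 : ∀ ψ, M l ψ = 0 := fun ψ =>
        Finset.sum_eq_zero_iff.1 (by omega : ∑ ψ, M l ψ = 0) ψ (Finset.mem_univ _)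
      have h1 := congrFun (hM l) 1
      rw [Finset.sum_apply, Finset.sum_eq_zero fun ψ _ => by rw [h0, zero_smul]; rfl] at h1
      simp only [f, indFun_one, map_one, Units.val_one, mul_one] at h1
      exact (Nat.cast_ne_zero.2 Subgroup.index_ne_zero_of_finite) h1
    have htwo : 2 ≤ ∑ ψ, M 1 ψ := by
      let one : IrrCharacter G := ⟨fun _ => 1, isIrrCharacter_one⟩
      have hone : M 1 one = 1 := by
        have h1 := decomposition_coeff (M 1) (hM 1) one
        rw [frobenius H _ (isClassFunction_character (irr_isCharacter one.2)),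
          show (fun h : H => (one : G → ℂ) (h : G)) = fun _ => (1 : ℂ) from rfl] at h1
        simp only [MonoidHom.one_apply, Units.val_one] at h1
        rw [irr_self isIrrCharacter_one] at h1
        exact_mod_cast h1.symm
      by_contra h
      have h1 := Finset.add_sum_erase _ (M 1) (Finset.mem_univ one)
      have h2 : ∀ ψ, ψ ≠ one → M 1 ψ = 0 := fun ψ hψ =>
        Finset.sum_eq_zero_iff.1 (by omega : ∑ ψ ∈ Finset.univ.erase one, M 1 ψ = 0) ψ (by simp [hψ])
      have h3 := congrFun (hM 1) 1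
      rw [Finset.sum_apply, Finset.sum_eq_single one (fun ψ _ hψ => by rw [h2 ψ hψ, zero_smul]; rfl)
        (fun h => absurd (Finset.mem_univ _) h), hone, one_smul] at h3
      simp only [f, indFun_one, MonoidHom.one_apply, Units.val_one, mul_one] at h3
      change (H.index : ℂ) = (1 : ℂ) at h3
      have h4 : H.index = 1 := by exact_mod_cast h3
      rw [Subgroup.index_eq_one] at h4
      obtain ⟨w, hw⟩ := exists_indep hn e
      obtain ⟨g, hg⟩ := pretransitive hn e w
      obtain ⟨a, ha⟩ : g ∈ H := h4 ▸ Subgroup.mem_top g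
      exact hw ⟨a, by rw [← ha, ← hg]; rfl⟩
    rw [← Finset.add_sum_erase _ _ (Finset.mem_univ (1 : Fˣ →* ℂˣ))]
    have h5 : (Finset.univ.erase (1 : Fˣ →* ℂˣ)).card • 1 ≤ ∑ l ∈ Finset.univ.erase 1, ∑ ψ, M l ψ :=
      Finset.card_nsmul_le_sum _ _ _ fun l _ => hpos l
    rw [Finset.card_erase_of_mem (Finset.mem_univ _), Finset.card_univ, hΛ, Fintype.card_units,
      smul_eq_mul, mul_one] at h5
    have := Fintype.one_lt_card (α := F)
    refine le_trans (b := 2 + (Fintype.card F - 1 - 1)) (by omega) ?_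
    convert Nat.add_le_add htwo h5 using 2

theorem main (hn : 3 ≤ n) :
    ∃ χ : Fin (Fintype.card F - 1) → (SpecialLinearGroup (Fin n) F → ℂ),
      (∀ i, IsIrrCharacter (SpecialLinearGroup (Fin n) F) (χ i)) ∧ Function.Injective χ ∧
      ∀ g : SpecialLinearGroup (Fin n) F,
        (Nat.card {v : Fin n → F // v ≠ 0 ∧ g.1 *ᵥ v = v} : ℂ) = 1 + ∑ i, χ i g := by
  classical
  obtain ⟨m, hm, hle⟩ := perm_decomposition (F := F) hn
  have hsq : ∑ ψ, m ψ * m ψ = Fintype.card F :=
    Nat.cast_injective (R := ℂ) ((AbTI.classInner_self_decomp m hm).symm.trans (norm_perm hn))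
  have h01 : ∀ ψ, m ψ ≤ 1 := by
    by_contra h
    push Not at h
    obtain ⟨ψ, hψ⟩ := h
    have h1 : ∑ φ, m φ < ∑ φ, m φ * m φ :=
      Finset.sum_lt_sum (fun φ _ => Nat.le_mul_self _) ⟨ψ, Finset.mem_univ _, lt_mul_self hψ⟩
    omega
  let G := SpecialLinearGroup (Fin n) F
  let one : IrrCharacter G := ⟨fun _ => 1, isIrrCharacter_one⟩
  let S := Finset.univ.filter fun ψ : IrrCharacter G => m ψ = 1
  have hval : ∀ ψ, m ψ = if ψ ∈ S then 1 else 0 := fun ψ => by
    simp only [S, Finset.mem_filter, Finset.mem_univ, true_and]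
    split_ifs with h
    · exact h
    · have := h01 ψ; omega
  have hS : S.card = Fintype.card F := by
    rw [← hsq, Finset.sum_congr rfl fun ψ _ => by rw [hval ψ]]
    simp
  have hπ : ∀ g : G, Perm.PermChar.permChar G (Vec F n) g = ∑ ψ ∈ S, (ψ : G → ℂ) g := fun g => by
    rw [hm, Finset.sum_apply, ← Finset.sum_filter_add_sum_filter_not Finset.univ (fun ψ => m ψ = 1),
      Finset.sum_eq_zero (s := Finset.univ.filter fun ψ => ¬ m ψ = 1) fun ψ hψ => by
        rw [show m ψ = 0 by have := h01 ψ; have := (Finset.mem_filter.1 hψ).2; omega, zero_smul]; rfl,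
      add_zero]
    exact Finset.sum_congr rfl fun ψ hψ => by rw [(Finset.mem_filter.1 hψ).2, one_smul]
  have hone : one ∈ S := by
    have h1 := decomposition_coeff m hm one
    have h2 : classInner (Perm.PermChar.permChar G (Vec F n)) (one : G → ℂ) ≠ 0 := by
      simp only [classInner, one, map_one, mul_one]
      refine mul_ne_zero (inv_ne_zero (Nat.cast_ne_zero.2 Nat.card_pos.ne')) ?_
      rw [← Nat.cast_sum, Nat.cast_ne_zero]
      refine (Finset.sum_pos' (fun _ _ => Nat.zero_le _) ⟨1, Finset.mem_univ _, ?_⟩).ne'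
      haveI : Nonempty (fixedBy (Vec F n) (1 : G)) :=
        ⟨⟨⟨fun _ => 1, fun e => one_ne_zero (congrFun e ⟨0, by omega⟩)⟩, one_smul G _⟩⟩
      exact Nat.card_pos
    have h3 : m one ≠ 0 := fun h0 => h2 (by rw [h1, h0, Nat.cast_zero])
    exact Finset.mem_filter.2 ⟨Finset.mem_univ _, by have := h01 one; omega⟩
  have hcard : (S.erase one).card = Fintype.card F - 1 := by
    rw [Finset.card_erase_of_mem hone, hS]
  let eF := (Finset.equivFinOfCardEq hcard).symm
  refine ⟨fun i => ((eF i).1 : G → ℂ), fun i => (eF i).1.2, ?_, fun g => ?_⟩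
  · exact fun i j h => eF.injective (Subtype.ext (Subtype.ext h))
  · rw [Equiv.sum_comp eF (fun ψ => (ψ.1 : G → ℂ) g),
      Finset.sum_coe_sort (S.erase one) (fun ψ : IrrCharacter G => (ψ : G → ℂ) g),
      show (1 : ℂ) = (one : G → ℂ) g from rfl,
      Finset.add_sum_erase S (fun ψ : IrrCharacter G => (ψ : G → ℂ) g) hone, ← hπ]
    refine congrArg _ (Nat.card_congr ?_)
    exact
      { toFun := fun v => ⟨⟨v.1, v.2.1⟩, Subtype.ext v.2.2⟩
        invFun := fun v => ⟨v.1.1, v.1.2, congrArg Subtype.val v.2⟩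
        left_inv := fun _ => rfl
        right_inv := fun _ => rfl }

end Cfsg.Agent.Char.SLPerm
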