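import Mathlib

/-!
The double cover of the alternating group inside a Clifford algebra over the rationals.
-/

set_option linter.style.haveILetI false

namespace Cfsg.Agent.Char

variable {n : ℕ}

/-- The sum of squares. -/
noncomputable abbrev spQ (n : ℕ) : QuadraticForm ℚ (Fin n → ℚ) :=
  QuadraticMap.weightedSumSquares ℚ fun _ : Fin n => (1 : ℚ)

/-- The algebra containing the double cover. -/
abbrev SpAlg (n : ℕ) := CliffordAlgebra (spQ n)

/-- The generator attached to a coordinate. -/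
noncomputable def spE (i : Fin n) : SpAlg n := CliffordAlgebra.ι (spQ n) (Pi.single i 1)

/-- The element inducing a transposition. -/
noncomputable def spT (a b : Fin n) : SpAlg n := spE a - spE b

theorem spQ_apply (x : Fin n → ℚ) : spQ n x = ∑ i, x i * x i := by
  simp [QuadraticMap.weightedSumSquares_apply]

theorem spE_sq (i : Fin n) : spE i * spE i = 1 := by
  classical
  rw [spE, CliffordAlgebra.ι_sq_scalar, spQ_apply, Finset.sum_eq_single i
    (fun j _ hj => by simp [hj]) (by simp)]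
  simp

theorem spE_swap {i j : Fin n} (h : i ≠ j) : spE i * spE j = -(spE j * spE i) := by
  classical
  rw [eq_neg_iff_add_eq_zero]
  refine CliffordAlgebra.ι_mul_ι_add_swap_of_isOrtho ?_
  rw [QuadraticMap.isOrtho_def, spQ_apply, spQ_apply, spQ_apply, ← Finset.sum_add_distrib]
  refine Finset.sum_congr rfl fun k _ => ?_
  by_cases hi : k = i
  · subst hi; simp [h]
  · simp [hi]

theorem sp_algebraMap_injective : Function.Injective (algebraMap ℚ (SpAlg n)) := by
  intro a b h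
  haveI : Invertible (2 : ℚ) := invertibleOfNonzero two_ne_zero
  have h' := congrArg (CliffordAlgebra.equivExterior (spQ n)) h
  simp only [CliffordAlgebra.equivExterior, CliffordAlgebra.changeFormEquiv_apply,
    CliffordAlgebra.changeForm_algebraMap] at h'
  exact (ExteriorAlgebra.algebraMap_inj _ a b).1 h'

theorem spι_injective : Function.Injective (CliffordAlgebra.ι (spQ n)) := by
  intro a b h
  haveI : Invertible (2 : ℚ) := invertibleOfNonzero two_ne_zero
  have h' := congrArg (CliffordAlgebra.equivExterior (spQ n)) h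
  simp only [CliffordAlgebra.equivExterior, CliffordAlgebra.changeFormEquiv_apply,
    CliffordAlgebra.changeForm_ι] at h'
  exact (ExteriorAlgebra.ι_inj _ a b).1 h'

theorem spE_smul_injective {r s : ℚ} {i j : Fin n} (hr : r ≠ 0) (h : r • spE i = s • spE j) :
    i = j ∧ r = s := by
  classical
  rw [spE, spE, ← map_smul, ← map_smul] at h
  have h1 := congrFun (spι_injective h) i
  rcases eq_or_ne i j with rfl | hij
  · exact ⟨rfl, by simpa using h1⟩
  · simp [hij] at h1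
    exact absurd h1 hr

theorem spT_sq {a b : Fin n} (h : a ≠ b) : spT a b * spT a b = 2 := by
  rw [spT, sub_mul, mul_sub, mul_sub, spE_sq, spE_sq, spE_swap h.symm, ← one_add_one_eq_two]
  abel

theorem spT_conj_spE {a b : Fin n} (h : a ≠ b) (c : Fin n) :
    spT a b * spE c = (-1 : ℚ) • (spE (Equiv.swap a b c) * spT a b) := by
  rw [spT, neg_one_smul]
  rcases eq_or_ne c a with rfl | hca
  · rw [Equiv.swap_apply_left, sub_mul, mul_sub, spE_sq, spE_sq]
    abel
  rcases eq_or_ne c b with rfl | hcb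
  · rw [Equiv.swap_apply_right, sub_mul, mul_sub, spE_sq, spE_sq]
    abel
  · rw [Equiv.swap_apply_of_ne_of_ne hca hcb, sub_mul, mul_sub, spE_swap hca, spE_swap hcb]
    abel

/-- The unit of the algebra attached to a transposition. -/
noncomputable def spU (a b : Fin n) (h : a ≠ b) : (SpAlg n)ˣ where
  val := spT a b
  inv := (2⁻¹ : ℚ) • spT a b
  val_inv := by
    rw [mul_smul_comm, spT_sq h, ← (map_ofNat (algebraMap ℚ (SpAlg n)) 2), Algebra.smul_def, ← map_mul,
      inv_mul_cancel₀ two_ne_zero, map_one]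
  inv_val := by
    rw [smul_mul_assoc, spT_sq h, ← (map_ofNat (algebraMap ℚ (SpAlg n)) 2), Algebra.smul_def, ← map_mul,
      inv_mul_cancel₀ two_ne_zero, map_one]

/-- The scalar units. -/
noncomputable def spScal (n : ℕ) : ℚˣ →* (SpAlg n)ˣ := Units.map (algebraMap ℚ (SpAlg n)).toMonoidHom

theorem spScal_central (c : ℚˣ) (g : (SpAlg n)ˣ) : g * spScal n c = spScal n c * g :=
  Units.ext (Algebra.commutes (c : ℚ) (g : SpAlg n)).symm

/-- `g` permutes the coordinates by `σ`, up to one sign. -/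
def SpAct (g : (SpAlg n)ˣ) (σ : Equiv.Perm (Fin n)) (s : ℚ) : Prop :=
  s ≠ 0 ∧ ∀ i, (g : SpAlg n) * spE i = s • (spE (σ i) * g)

theorem spAct_one : SpAct (1 : (SpAlg n)ˣ) 1 1 := ⟨one_ne_zero, fun i => by simp⟩

theorem spAct_mul {g h : (SpAlg n)ˣ} {σ τ : Equiv.Perm (Fin n)} {s t : ℚ} (hg : SpAct g σ s)
    (hh : SpAct h τ t) : SpAct (g * h) (σ * τ) (t * s) := by
  refine ⟨mul_ne_zero hh.1 hg.1, fun i => ?_⟩
  rw [Units.val_mul, mul_assoc, hh.2, mul_smul_comm, ← mul_assoc, hg.2, smul_mul_assoc, smul_smul,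
    mul_assoc]
  rfl

theorem spAct_inv {g : (SpAlg n)ˣ} {σ : Equiv.Perm (Fin n)} {s : ℚ} (hg : SpAct g σ s) :
    SpAct g⁻¹ σ⁻¹ s⁻¹ := by
  refine ⟨inv_ne_zero hg.1, fun i => ?_⟩
  have h := hg.2 (σ⁻¹ i)
  rw [show σ (σ⁻¹ i) = i from σ.apply_symm_apply i] at h
  have h2 : spE i * (g : SpAlg n) = s⁻¹ • ((g : SpAlg n) * spE (σ⁻¹ i)) := by
    rw [h, smul_smul, inv_mul_cancel₀ hg.1, one_smul]
  calc (↑g⁻¹ : SpAlg n) * spE i = ↑g⁻¹ * (spE i * g) * ↑g⁻¹ := by
        rw [mul_assoc, mul_assoc, Units.mul_inv, mul_one]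
    _ = s⁻¹ • (spE (σ⁻¹ i) * ↑g⁻¹) := by
        rw [h2, mul_smul_comm, smul_mul_assoc, ← mul_assoc (↑g⁻¹ : SpAlg n), Units.inv_mul, one_mul]

theorem spAct_unique {g : (SpAlg n)ˣ} {σ τ : Equiv.Perm (Fin n)} {s t : ℚ} (hg : SpAct g σ s)
    (hg' : SpAct g τ t) : σ = τ := by
  refine Equiv.ext fun i => ?_
  have h := (hg.2 i).symm.trans (hg'.2 i)
  rw [← smul_mul_assoc, ← smul_mul_assoc] at h
  exact (spE_smul_injective hg.1 (g.mul_left_inj.1 h)).1

theorem spAct_scal (c : ℚˣ) : SpAct (spScal n c) 1 1 :=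
  ⟨one_ne_zero, fun i => by
    rw [one_smul, Equiv.Perm.one_apply]
    exact Algebra.commutes (c : ℚ) (spE i)⟩

theorem spAct_spU {a b : Fin n} (h : a ≠ b) : SpAct (spU a b h) (Equiv.swap a b) (-1) :=
  ⟨neg_ne_zero.2 one_ne_zero, spT_conj_spE h⟩

/-- The group generated by scalars and transposition units inside `S`. -/
noncomputable def spW (S : Finset (Fin n)) : Subgroup (SpAlg n)ˣ :=
  Subgroup.closure (Set.range (spScal n) ∪ {u | ∃ a ∈ S, ∃ b ∈ S, ∃ h : a ≠ b, u = spU a b h})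

theorem spScal_mem (S : Finset (Fin n)) (c : ℚˣ) : spScal n c ∈ spW S :=
  Subgroup.subset_closure (Or.inl ⟨c, rfl⟩)

theorem spU_mem {S : Finset (Fin n)} {a b : Fin n} (ha : a ∈ S) (hb : b ∈ S) (h : a ≠ b) :
    spU a b h ∈ spW S :=
  Subgroup.subset_closure (Or.inr ⟨a, ha, b, hb, h, rfl⟩)

theorem spW_act {S : Finset (Fin n)} {g : (SpAlg n)ˣ} (hg : g ∈ spW S) :
    ∃ σ s, SpAct g σ s ∧ ∀ i, i ∉ S → σ i = i := by
  induction hg using Subgroup.closure_induction with
  | mem x hx =>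
    rcases hx with ⟨c, rfl⟩ | ⟨a, ha, b, hb, h, rfl⟩
    · exact ⟨1, 1, spAct_scal c, fun i _ => rfl⟩
    · exact ⟨_, _, spAct_spU h, fun i hi => Equiv.swap_apply_of_ne_of_ne
        (fun e => hi (e ▸ ha)) (fun e => hi (e ▸ hb))⟩
  | one => exact ⟨1, 1, spAct_one, fun i _ => rfl⟩
  | mul x y _ _ hx hy =>
    obtain ⟨σ, s, h1, h2⟩ := hx
    obtain ⟨τ, t, h3, h4⟩ := hy
    exact ⟨_, _, spAct_mul h1 h3, fun i hi => by rw [Equiv.Perm.mul_apply, h4 i hi, h2 i hi]⟩
  | inv x _ hx =>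
    obtain ⟨σ, s, h1, h2⟩ := hx
    exact ⟨_, _, spAct_inv h1, fun i hi => Equiv.Perm.inv_eq_iff_eq.2 (h2 i hi).symm⟩

theorem spU_symm {a b : Fin n} (h : a ≠ b) : spU b a h.symm = spScal n (-1) * spU a b h :=
  Units.ext (by simp [spScal, spU, spT])

theorem spU_conj {g : (SpAlg n)ˣ} {σ : Equiv.Perm (Fin n)} {s : ℚ} (hg : SpAct g σ s) {a b : Fin n}
    (h : a ≠ b) : ∃ c : ℚˣ, g * spU a b h = spScal n c * spU (σ a) (σ b) (σ.injective.ne h) * g := by
  refine ⟨Units.mk0 s hg.1, Units.ext ?_⟩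
  show (g : SpAlg n) * spT a b = algebraMap ℚ _ s * spT (σ a) (σ b) * g
  rw [spT, spT, mul_sub, hg.2, hg.2, ← smul_sub, ← sub_mul, ← Algebra.smul_def, smul_mul_assoc]

theorem spW_insert {S : Finset (Fin n)} {m : Fin n} (hm : m ∉ S) {g : (SpAlg n)ˣ}
    (hg : g ∈ spW (insert m S)) :
    g ∈ spW S ∨ ∃ i, ∃ h : i ≠ m, i ∈ S ∧ ∃ k ∈ spW S, g = spU i m h * k := by
  set P : (SpAlg n)ˣ → Prop := fun g =>
    g ∈ spW S ∨ ∃ i, ∃ h : i ≠ m, i ∈ S ∧ ∃ k ∈ spW S, g = spU i m h * k with hP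
  have hscal : ∀ c g, P g → P (spScal n c * g) := by
    rintro c g (hg | ⟨i, h, hi, k, hk, rfl⟩)
    · exact Or.inl (mul_mem (spScal_mem S c) hg)
    · exact Or.inr ⟨i, h, hi, spScal n c * k, mul_mem (spScal_mem S c) hk, by
        rw [← mul_assoc, ← mul_assoc, spScal_central]⟩
  have hin : ∀ x ∈ spW S, ∀ g, P g → P (x * g) := by
    rintro x hx g (hg | ⟨i, h, hi, k, hk, rfl⟩)
    · exact Or.inl (mul_mem hx hg)
    obtain ⟨σ, s, hσ, hfix⟩ := spW_act hx
    obtain ⟨c, hc⟩ := spU_conj hσ h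
    have hσi : σ i ∈ S := by
      by_contra hni
      exact hni (by rwa [σ.injective (hfix _ hni)])
    have e : spU (σ i) (σ m) (σ.injective.ne h) = spU (σ i) m (fun e => hm (e ▸ hσi)) := by
      simp only [hfix m hm]
    refine Or.inr ⟨σ i, fun e => hm (e ▸ hσi), hσi, spScal n c * (x * k),
      mul_mem (spScal_mem S c) (mul_mem hx hk), ?_⟩
    rw [← mul_assoc x, hc, e]
    simp only [← mul_assoc, spScal_central]
  have hstar : ∀ a, ∀ ha : a ≠ m, a ∈ S → ∀ g, P g → P (spU a m ha * g) := by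
    rintro a ha haS g (hg | ⟨i, h, hi, k, hk, rfl⟩)
    · exact Or.inr ⟨a, ha, haS, g, hg, rfl⟩
    rcases eq_or_ne a i with rfl | hai
    · refine Or.inl ?_
      have e : spU a m ha * spU a m h = spScal n (Units.mk0 2 two_ne_zero) :=
        Units.ext (by simp [spScal, spU, spT_sq ha, map_ofNat])
      rw [← mul_assoc, e]
      exact mul_mem (spScal_mem S _) hk
    -- move the moved point
    obtain ⟨c, hc⟩ := spU_conj (spAct_spU ha) h
    have e1 : spU ((Equiv.swap a m) i) ((Equiv.swap a m) m) ((Equiv.swap a m).injective.ne h) =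
        spU i a hai.symm := by
      simp only [Equiv.swap_apply_of_ne_of_ne hai.symm h, Equiv.swap_apply_right]
    rw [e1] at hc
    obtain ⟨d, hd⟩ := spU_conj (spAct_spU hai.symm) ha
    have e2 : spU ((Equiv.swap i a) a) ((Equiv.swap i a) m) ((Equiv.swap i a).injective.ne ha) =
        spU i m h := by
      simp only [Equiv.swap_apply_right, Equiv.swap_apply_of_ne_of_ne h.symm ha.symm]
    rw [e2] at hd
    refine Or.inr ⟨i, h, hi, spScal n c * spScal n d * (spU i a hai.symm * k),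
      mul_mem (mul_mem (spScal_mem S _) (spScal_mem S _)) (mul_mem (spU_mem hi haS _) hk), ?_⟩
    calc spU a m ha * (spU i m h * k) = spScal n c * (spU i a hai.symm * spU a m ha) * k := by
          rw [← mul_assoc, hc, mul_assoc (spScal n c)]
      _ = _ := by
          rw [hd]
          simp only [mul_assoc]
          rw [← mul_assoc (spU i m h) (spScal n c), spScal_central, mul_assoc,
            ← mul_assoc (spU i m h) (spScal n d), spScal_central, mul_assoc]
  change P g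
  have hgen : ∀ x ∈ Set.range (spScal n) ∪ {u | ∃ a ∈ insert m S, ∃ b ∈ insert m S, ∃ h : a ≠ b, u = spU a b h},
      ∀ g, P g → P (x * g) := by
    rintro x (⟨c, rfl⟩ | ⟨a, ha, b, hb, h, rfl⟩) g hg
    · exact hscal c g hg
    rcases Finset.mem_insert.1 ha with rfl | haS
    · have hbS := (Finset.mem_insert.1 hb).resolve_left h.symm
      rw [spU_symm h.symm, mul_assoc]
      exact hscal _ _ (hstar b h.symm hbS g hg)
    rcases Finset.mem_insert.1 hb with rfl | hbS
    · exact hstar a h haS g hg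
    · exact hin _ (spU_mem haS hbS h) g hg
  induction hg using Subgroup.closure_induction_left with
  | one => exact Or.inl (one_mem _)
  | mul_left x hx y _ ih => exact hgen x hx y ih
  | inv_mul_cancel x hx y _ ih =>
    rcases hx with ⟨c, rfl⟩ | ⟨a, ha, b, hb, h, rfl⟩
    · rw [← map_inv]
      exact hscal _ _ ih
    · have e : (spU a b h)⁻¹ = spScal n (Units.mk0 2⁻¹ (inv_ne_zero two_ne_zero)) * spU a b h :=
        Units.ext (by simp [spScal, spU, Algebra.smul_def])
      rw [e, mul_assoc]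
      exact hscal _ _ (hgen _ (Or.inr ⟨a, ha, b, hb, h, rfl⟩) y ih)

theorem spW_kernel (S : Finset (Fin n)) :
    ∀ g ∈ spW S, ∀ s, SpAct g 1 s → ∃ c : ℚˣ, g = spScal n c := by
  induction S using Finset.induction_on with
  | empty =>
    intro g hg _ _
    have hle : spW (∅ : Finset (Fin n)) ≤ (spScal n).range := by
      rw [spW, Subgroup.closure_le]
      rintro x (⟨c, rfl⟩ | ⟨a, ha, -⟩)
      · exact ⟨c, rfl⟩
      · simp at ha
    obtain ⟨c, hc⟩ := hle hg
    exact ⟨c, hc.symm⟩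
  | insert m S hm ih =>
    intro g hg s hs
    rcases spW_insert hm hg with hg | ⟨i, h, hi, k, hk, rfl⟩
    · exact ih g hg s hs
    obtain ⟨σ, t, hσ, hfix⟩ := spW_act hk
    have he := congrArg (fun π : Equiv.Perm (Fin n) => π m) (spAct_unique (spAct_mul (spAct_spU h) hσ) hs)
    simp [hfix m hm] at he
    exact absurd he h

/-- The generators of the double cover. -/
def spGens (n : ℕ) : Set (SpAlg n)ˣ :=
  {g | ∃ (a b c d : Fin n) (h : a ≠ b) (h' : c ≠ d),
    g = spScal n (Units.mk0 2⁻¹ (inv_ne_zero two_ne_zero)) * spU a b h * spU c d h'}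

/-- The double cover of the alternating group. -/
noncomputable def spGamma (n : ℕ) : Subgroup (SpAlg n)ˣ := Subgroup.closure (spGens n)

theorem spGamma_act {g : (SpAlg n)ˣ} (hg : g ∈ spGamma n) :
    ∃ σ : Equiv.Perm (Fin n), SpAct g σ 1 ∧ Equiv.Perm.sign σ = 1 ∧
      CliffordAlgebra.reverse (g : SpAlg n) * g = 1 ∧ g ∈ spW Finset.univ := by
  induction hg using Subgroup.closure_induction with
  | mem x hx =>
    obtain ⟨a, b, c, d, h, h', rfl⟩ := hx
    refine ⟨1 * Equiv.swap a b * Equiv.swap c d, ?_, ?_, ?_, ?_⟩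
    · have := spAct_mul (spAct_mul (spAct_scal (Units.mk0 (2⁻¹ : ℚ) (inv_ne_zero two_ne_zero))) (spAct_spU h)) (spAct_spU h')
      simpa using this
    · simp [h, h']
    · show CliffordAlgebra.reverse (algebraMap ℚ (SpAlg n) 2⁻¹ * spT a b * spT c d) *
          (algebraMap ℚ (SpAlg n) 2⁻¹ * spT a b * spT c d) = 1
      have hr : ∀ x y : Fin n, CliffordAlgebra.reverse (spT x y) = spT x y := fun x y => by
        rw [spT, spE, spE, ← map_sub, CliffordAlgebra.reverse_ι]
      rw [CliffordAlgebra.reverse.map_mul, CliffordAlgebra.reverse.map_mul, CliffordAlgebra.reverse.commutes, hr, hr,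
        Algebra.commutes (2⁻¹ : ℚ) (spT a b)]
      calc spT c d * (spT a b * algebraMap ℚ (SpAlg n) 2⁻¹) * (spT a b * algebraMap ℚ (SpAlg n) 2⁻¹ * spT c d)
          = algebraMap ℚ (SpAlg n) 2⁻¹ * algebraMap ℚ (SpAlg n) 2⁻¹ * (spT c d * (spT a b * spT a b) * spT c d) := by
            simp only [← Algebra.commutes, ← Algebra.smul_def, smul_mul_assoc, mul_smul_comm, smul_smul, mul_assoc]
        _ = 1 := by
            rw [spT_sq h, ← map_ofNat (algebraMap ℚ (SpAlg n)) 2, ← Algebra.commutes (2 : ℚ) (spT c d), mul_assoc _ (spT c d),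
              spT_sq h', ← map_ofNat (algebraMap ℚ (SpAlg n)) 2]
            rw [← map_mul, ← map_mul, ← map_mul]
            norm_num
    · exact mul_mem (mul_mem (spScal_mem _ _) (spU_mem (Finset.mem_univ _) (Finset.mem_univ _) _))
        (spU_mem (Finset.mem_univ _) (Finset.mem_univ _) _)
  | one => exact ⟨1, spAct_one, map_one _, by simp, one_mem _⟩
  | mul x y _ _ hx hy =>
    obtain ⟨σ, h1, h2, h3, h4⟩ := hx
    obtain ⟨τ, k1, k2, k3, k4⟩ := hy
    refine ⟨σ * τ, by simpa using spAct_mul h1 k1, by simp [h2, k2], ?_, mul_mem h4 k4⟩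
    rw [Units.val_mul, CliffordAlgebra.reverse.map_mul, mul_assoc, ← mul_assoc (CliffordAlgebra.reverse (x : SpAlg n)),
      h3, one_mul, k3]
  | inv x _ hx =>
    obtain ⟨σ, h1, h2, h3, h4⟩ := hx
    refine ⟨σ⁻¹, by simpa using spAct_inv h1, by simp [h2], ?_, inv_mem h4⟩
    rw [show (↑x⁻¹ : SpAlg n) = CliffordAlgebra.reverse (x : SpAlg n) from
      x.inv_eq_of_mul_eq_one_left h3, CliffordAlgebra.reverse_reverse,
      ← x.inv_eq_of_mul_eq_one_left h3, Units.mul_inv]

theorem spGamma_kernel {g : (SpAlg n)ˣ} (hg : g ∈ spGamma n) (h : SpAct g 1 1) :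
    g = 1 ∨ g = spScal n (-1) := by
  obtain ⟨σ, -, -, hr, hW⟩ := spGamma_act hg
  obtain ⟨c, rfl⟩ := spW_kernel Finset.univ g hW 1 h
  have h1 : (algebraMap ℚ (SpAlg n)) ((c : ℚ) * c) = algebraMap ℚ (SpAlg n) 1 := by
    rw [map_mul, map_one]
    calc _ = CliffordAlgebra.reverse (algebraMap ℚ (SpAlg n) c) * algebraMap ℚ (SpAlg n) c := by
          rw [CliffordAlgebra.reverse.commutes]
      _ = 1 := hr
  rcases mul_self_eq_one_iff.1 (sp_algebraMap_injective h1) with h | h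
  · exact Or.inl (by rw [show c = 1 from Units.ext h, map_one])
  · exact Or.inr (by rw [show c = -1 from Units.ext (by simpa using h)])

theorem spGamma_cover (n : ℕ) (hn : 4 ≤ n) :
    Finite (spGamma n) ∧ ∃ z : spGamma n, (z : (SpAlg n)ˣ) = spScal n (-1) ∧ z ∈ Subgroup.center (spGamma n) ∧
      orderOf z = 2 ∧ z ∈ commutator (spGamma n) ∧ ∃ _ : (Subgroup.zpowers z).Normal,
        Nonempty (spGamma n ⧸ Subgroup.zpowers z ≃* alternatingGroup (Fin n)) := by
  classical
  choose π hπ using fun g : spGamma n => spGamma_act g.2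
  let φ : spGamma n →* alternatingGroup (Fin n) :=
    { toFun := fun g => ⟨π g, Equiv.Perm.mem_alternatingGroup.2 (hπ g).2.1⟩
      map_one' := Subtype.ext (spAct_unique (hπ 1).1 spAct_one)
      map_mul' := fun g h => Subtype.ext (spAct_unique (hπ (g * h)).1 (spAct_mul (hπ g).1 (hπ h).1)) }
  have hφ : ∀ g : spGamma n, ∀ σ s, SpAct (g : (SpAlg n)ˣ) σ s → (φ g : Equiv.Perm (Fin n)) = σ :=
    fun g σ s h => spAct_unique (hπ g).1 h
  -- the generators
  have hgen : ∀ {a b c d : Fin n} (h : a ≠ b) (h' : c ≠ d), ∃ g : spGamma n,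
      (g : (SpAlg n)ˣ) = spScal n (Units.mk0 2⁻¹ (inv_ne_zero two_ne_zero)) * spU a b h * spU c d h' ∧
        (φ g : Equiv.Perm (Fin n)) = Equiv.swap a b * Equiv.swap c d := by
    intro a b c d h h'
    refine ⟨⟨_, Subgroup.subset_closure ⟨a, b, c, d, h, h', rfl⟩⟩, rfl, hφ _ _ 1 ?_⟩
    have := spAct_mul (spAct_mul (spAct_scal (Units.mk0 (2⁻¹ : ℚ) (inv_ne_zero two_ne_zero))) (spAct_spU h)) (spAct_spU h')
    simpa using this
  have hsurj : Function.Surjective φ := by
    suffices H : ∀ m, ∀ l : List (Equiv.Perm (Fin n)), l.length = 2 * m → (∀ g ∈ l, g.IsSwap) →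
        ∃ g : spGamma n, (φ g : Equiv.Perm (Fin n)) = l.prod by
      intro σ
      obtain ⟨l, hl, hls⟩ := (Equiv.Perm.truncSwapFactors (σ : Equiv.Perm (Fin n))).out
      have hsign := Equiv.Perm.sign_prod_list_swap hls
      rw [hl, Equiv.Perm.mem_alternatingGroup.1 σ.2] at hsign
      obtain ⟨m, hm⟩ := (neg_one_pow_eq_one_iff_even (R := ℤˣ) (by decide)).1 hsign.symm
      obtain ⟨g, hg⟩ := H m l (by omega) hls
      exact ⟨g, Subtype.ext (by rw [hg, hl])⟩
    intro m
    induction m with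
    | zero => exact fun l hl _ => ⟨1, by rw [List.length_eq_zero_iff.1 hl, map_one]; rfl⟩
    | succ m ih =>
      intro l hl hs
      match l, hl, hs with
      | [], hl, _ => simp at hl
      | [_], hl, _ => simp at hl; omega
      | x :: y :: l, hl, hs =>
        obtain ⟨a, b, hab, rfl⟩ := hs x (by simp)
        obtain ⟨c, d, hcd, rfl⟩ := hs y (by simp)
        obtain ⟨g, -, hg⟩ := hgen hab hcd
        obtain ⟨g', hg'⟩ := ih l (by simp at hl; omega) fun z hz => hs z (by simp [hz])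
        exact ⟨g * g', by rw [map_mul, Subgroup.coe_mul, hg, hg', List.prod_cons, List.prod_cons, mul_assoc]⟩
  -- two commuting involutions
  let i₀ : Fin n := ⟨0, by omega⟩
  let i₁ : Fin n := ⟨1, by omega⟩
  let i₂ : Fin n := ⟨2, by omega⟩
  let i₃ : Fin n := ⟨3, by omega⟩
  have d01 : i₀ ≠ i₁ := by simp [i₀, i₁]
  have d02 : i₀ ≠ i₂ := by simp [i₀, i₂]
  have d03 : i₀ ≠ i₃ := by simp [i₀, i₃]
  have d12 : i₁ ≠ i₂ := by simp [i₁, i₂]
  have d13 : i₁ ≠ i₃ := by simp [i₁, i₃]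
  have d23 : i₂ ≠ i₃ := by simp [i₂, i₃]
  obtain ⟨x, hx, hxφ⟩ := hgen d01 d23
  obtain ⟨y, hy, -⟩ := hgen d02 d13
  have hxact : SpAct (x : (SpAlg n)ˣ) (Equiv.swap i₀ i₁ * Equiv.swap i₂ i₃) 1 := by
    have := spAct_mul (spAct_mul (spAct_scal (Units.mk0 (2⁻¹ : ℚ) (inv_ne_zero two_ne_zero))) (spAct_spU d01)) (spAct_spU d23)
    rw [hx]
    simpa using this
  have hanti : ((x * y : spGamma n) : (SpAlg n)ˣ) = spScal n (-1) * ((y * x : spGamma n) : (SpAlg n)ˣ) := by
    refine Units.ext ?_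
    have hy' : ((y : (SpAlg n)ˣ) : SpAlg n) = algebraMap ℚ (SpAlg n) 2⁻¹ * spT i₀ i₂ * spT i₁ i₃ := by
      rw [hy]; rfl
    have hT : ∀ a b, ((x : (SpAlg n)ˣ) : SpAlg n) * spT a b =
        spT ((Equiv.swap i₀ i₁ * Equiv.swap i₂ i₃) a) ((Equiv.swap i₀ i₁ * Equiv.swap i₂ i₃) b) * (x : (SpAlg n)ˣ) :=
      fun a b => by rw [spT, spT, mul_sub, hxact.2, hxact.2, one_smul, one_smul, sub_mul]
    have e0 : (Equiv.swap i₀ i₁ * Equiv.swap i₂ i₃) i₀ = i₁ := by
      rw [Equiv.Perm.mul_apply, Equiv.swap_apply_of_ne_of_ne d02 d03, Equiv.swap_apply_left]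
    have e1 : (Equiv.swap i₀ i₁ * Equiv.swap i₂ i₃) i₁ = i₀ := by
      rw [Equiv.Perm.mul_apply, Equiv.swap_apply_of_ne_of_ne d12 d13, Equiv.swap_apply_right]
    have e2 : (Equiv.swap i₀ i₁ * Equiv.swap i₂ i₃) i₂ = i₃ := by
      rw [Equiv.Perm.mul_apply, Equiv.swap_apply_left, Equiv.swap_apply_of_ne_of_ne d03.symm d13.symm]
    have e3 : (Equiv.swap i₀ i₁ * Equiv.swap i₂ i₃) i₃ = i₂ := by
      rw [Equiv.Perm.mul_apply, Equiv.swap_apply_right, Equiv.swap_apply_of_ne_of_ne d02.symm d12.symm]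
    show ((x : (SpAlg n)ˣ) : SpAlg n) * ((y : (SpAlg n)ˣ) : SpAlg n) =
      algebraMap ℚ (SpAlg n) (-1) * (((y : (SpAlg n)ˣ) : SpAlg n) * ((x : (SpAlg n)ˣ) : SpAlg n))
    rw [map_neg, map_one, neg_one_mul, hy', mul_assoc (algebraMap ℚ (SpAlg n) 2⁻¹), ← mul_assoc _ (algebraMap ℚ (SpAlg n) 2⁻¹),
      ← Algebra.commutes, mul_assoc, ← mul_assoc _ (spT i₀ i₂), hT, mul_assoc (spT _ _), hT, e0, e1, e2, e3,
      ← mul_assoc (spT i₁ i₃)]
    have hT2 : spT i₁ i₃ * spT i₀ i₂ = -(spT i₀ i₂ * spT i₁ i₃) := by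
      simp only [spT, sub_mul, mul_sub]
      rw [spE_swap d01.symm, spE_swap d12, spE_swap d03.symm, spE_swap d23.symm]
      abel
    rw [hT2]
    noncomm_ring
  set z := x * y * x⁻¹ * y⁻¹ with hzdef
  have hzval : (z : (SpAlg n)ˣ) = spScal n (-1) := by
    rw [hzdef, Subgroup.coe_mul, Subgroup.coe_mul, hanti, Subgroup.coe_inv, Subgroup.coe_inv, Subgroup.coe_mul]
    group
  have hzc : z ∈ Subgroup.center (spGamma n) := Subgroup.mem_center_iff.2 fun g => Subtype.ext (by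
    show (g : (SpAlg n)ˣ) * (z : (SpAlg n)ˣ) = (z : (SpAlg n)ˣ) * (g : (SpAlg n)ˣ)
    rw [hzval, spScal_central])
  have hneg : spScal n (-1) ≠ 1 := fun h => by
    have h1 : algebraMap ℚ (SpAlg n) (-1) = algebraMap ℚ (SpAlg n) 1 := by
      rw [map_one (algebraMap ℚ (SpAlg n))]
      exact congrArg Units.val h
    exact absurd (sp_algebraMap_injective h1) (by norm_num)
  have hzord : orderOf z = 2 := orderOf_eq_prime (Subtype.ext (by
    rw [SubmonoidClass.coe_pow, hzval, ← map_pow]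
    simp)) (fun h => hneg (by rw [← hzval, h]; rfl))
  haveI hN : (Subgroup.zpowers z).Normal := ⟨fun a ha g => by
    have hc : a ∈ Subgroup.center (spGamma n) := (Subgroup.zpowers_le.2 hzc) ha
    rwa [Subgroup.mem_center_iff.1 hc g, mul_inv_cancel_right]⟩
  have hker : φ.ker = Subgroup.zpowers z := by
    refine le_antisymm (fun g hg => ?_) (Subgroup.zpowers_le.2 ?_)
    · have he : π g = 1 := congrArg Subtype.val (MonoidHom.mem_ker.1 hg)
      rcases spGamma_kernel g.2 (he ▸ (hπ g).1) with h | h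
      · rw [show g = 1 from Subtype.ext h]; exact one_mem _
      · rw [show g = z from Subtype.ext (h.trans hzval.symm)]; exact Subgroup.mem_zpowers z
    · exact MonoidHom.mem_ker.2 (Subtype.ext (hφ z 1 1 (hzval ▸ spAct_scal (-1))))
  let e : spGamma n ⧸ Subgroup.zpowers z ≃* alternatingGroup (Fin n) :=
    (QuotientGroup.quotientMulEquivOfEq hker.symm).trans (QuotientGroup.quotientKerEquivOfSurjective φ hsurj)
  haveI : Finite (Subgroup.zpowers z) := Nat.finite_of_card_ne_zero (by rw [Nat.card_zpowers, hzord]; norm_num)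
  haveI : Finite (spGamma n ⧸ Subgroup.zpowers z) := Finite.of_equiv _ e.symm.toEquiv
  refine ⟨Finite.of_equiv _ (Subgroup.groupEquivQuotientProdSubgroup (s := Subgroup.zpowers z)).symm,
    z, hzval, hzc, hzord, ?_, hN, ⟨e⟩⟩
  exact Subgroup.commutator_mem_commutator (Subgroup.mem_top x) (Subgroup.mem_top y)

theorem exists_double_cover (n : ℕ) (hn : 4 ≤ n) :
    ∃ (Γ : Type) (_ : Group Γ) (_ : Finite Γ) (z : Γ) (_ : z ∈ Subgroup.center Γ), orderOf z = 2 ∧
      z ∈ commutator Γ ∧ ∃ _ : (Subgroup.zpowers z).Normal,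
        Nonempty (Γ ⧸ Subgroup.zpowers z ≃* alternatingGroup (Fin n)) := by
  obtain ⟨hf, z, -, hzc, h⟩ := spGamma_cover n hn
  exact ⟨spGamma n, inferInstance, hf, z, hzc, h⟩

end Cfsg.Agent.Char
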