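import Cfsg.Agent.Lib.Char.SquareDerived
import Cfsg.Agent.Lib.Local.FS.SimplePSp

/-!
Sylow two-subgroups of linear and symplectic groups in characteristic two: squares are in the derived subgroup.
-/

set_option autoImplicit false
set_option linter.unusedSectionVars false
set_option linter.style.haveILetI false

namespace Cfsg.Agent.Char.SquareDerived.Classical

open Matrix

variable {F : Type*} [Field F] [Fintype F] [CharP F 2] {n m : ℕ}

section Linear

open Cfsg.Agent.Small.PSLn

theorem transvection_sq {i j : Fin n} (hij : i ≠ j) (t : F) :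
    (Matrix.SpecialLinearGroup.transvection hij t : Matrix.SpecialLinearGroup (Fin n) F) ^ 2 = 1 := by
  refine Subtype.ext ?_
  rw [pow_two, Matrix.SpecialLinearGroup.coe_mul, Matrix.SpecialLinearGroup.transvection_coe, mul_add, mul_one,
    add_mul, one_mul, Matrix.single_mul_single_of_ne (h := hij.symm), add_zero, add_assoc, ← Matrix.single_add,
    CharTwo.add_self_eq_zero, Matrix.single_zero, add_zero]
  rfl

theorem goal_psl (hn : 2 ≤ n) : Goal (Matrix.ProjectiveSpecialLinearGroup (Fin n) F) := by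
  haveI : Fact (Nat.Prime 2) := ⟨Nat.prime_two⟩
  haveI : NeZero n := ⟨by omega⟩
  haveI : Finite (Matrix.ProjectiveSpecialLinearGroup (Fin n) F) := Finite.of_surjective _ pr_surjective
  obtain ⟨f, -, hF⟩ := FiniteField.card F 2
  refine goal_of_sylow (sylU (n := n) f.pos hF) ?_
  rw [show ((sylU (n := n) f.pos hF : Sylow 2 _) : Subgroup _) = U n F from IsPGroup.toSylow_coe _ _]
  refine of_involutions (Cfsg.Agent.Local.FS.PSLnSimple.U_le_closure.trans (Subgroup.closure_mono ?_))
  rintro _ ⟨i, j, t, hij, rfl⟩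
  refine ⟨xx_mem_U hij t, ?_⟩
  rw [xx_eq (ne_of_lt hij), ← map_pow, transvection_sq, map_one]

end Linear

section Symplectic

open Cfsg.Agent.Small.PSpn Cfsg.Agent.Local.FS.PSpSimple
open Cfsg.Agent.Small.PSLn (IsUT UTg mem_UTg)

theorem goal_psp (hm : 1 ≤ m) : Goal (Cfsg.PSp m F) := by
  haveI : Fact (Nat.Prime 2) := ⟨Nat.prime_two⟩
  haveI : NeZero m := ⟨by omega⟩
  haveI : Finite (Cfsg.PSp m F) := Finite.of_surjective _ (ps_surjective (m := m) (F := F))
  refine goal_of_sylow syl (show Sq (U0 (F := F) (m := m)) from sq_map ps (of_involutions ?_))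
  intro g hg
  obtain ⟨D, S, hS, rfl, hD⟩ := decomp hg.1
  refine mul_mem ?_ (Subgroup.subset_closure ⟨sie_mem_U hS, by simpa using sie_pel (p := 2) hS⟩)
  have hDUT : IsUT D.1 := hD ▸ hg.2
  have hdet : D.1.det = 1 := by
    rw [Matrix.det_of_isUpperTriangular (M := D.1) (fun a b h => hDUT.2 a b h)]
    exact Finset.prod_eq_one fun a _ => hDUT.1 a
  have h1 := Subgroup.mem_map_of_mem (lv.comp Matrix.SpecialLinearGroup.toGL)
    (UT_le_closure (show (⟨D.1, hdet⟩ : Matrix.SpecialLinearGroup (Fin m) F) ∈ UTg m F from hDUT))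
  rw [MonoidHom.map_closure] at h1
  rw [show lv D = (lv.comp Matrix.SpecialLinearGroup.toGL) (⟨D.1, hdet⟩ : Matrix.SpecialLinearGroup (Fin m) F) from
    congrArg lv (Units.ext rfl)]
  refine Subgroup.closure_mono ?_ h1
  rintro _ ⟨_, ⟨i, j, hij, t, rfl⟩, rfl⟩
  refine ⟨lv_mem_U ?_, ?_⟩
  · change IsUT ((Matrix.SpecialLinearGroup.transvection (ne_of_lt hij) t :
      Matrix.SpecialLinearGroup (Fin m) F) : Matrix (Fin m) (Fin m) F)
    rw [Matrix.SpecialLinearGroup.transvection_coe]
    exact Cfsg.Agent.Local.FS.PSLnSimple.isUT_transvection hij t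
  · rw [← map_pow, transvection_sq, map_one]

end Symplectic

end Cfsg.Agent.Char.SquareDerived.Classical
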