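import Cfsg.Agent.Lib.Char.SquareDerived
import Cfsg.Agent.Lib.Local.FS.PSUnGen
import Cfsg.Agent.Lib.Classical.UnitaryForm
import Cfsg.Agent.Lib.Small.Hermitian
import Cfsg.Agent.Lib.Classical.UnitaryGroup

/-!
Sylow two-subgroups of unitary groups in characteristic two: squares are in the derived subgroup.
-/

set_option autoImplicit false
set_option linter.unusedSectionVars false
set_option linter.style.haveILetI false

namespace Cfsg.Agent.Char.SquareDerived.Unitary

open Matrix Cfsg.Agent.Small.Unitary Cfsg.Agent.Small.PSUn Cfsg.Agent.Local.FS.PSUnSimple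
open scoped commutatorElement

variable {F : Type*} [Field F] [Fintype F] [StarRing F] [CharP F 2] [Fact (Nat.Prime 2)] {n q : ℕ}

local notation "Gn" => Cfsg.SU n F q
local notation "Vn" => Fin n → F

variable (hstar : ∀ x : F, star x = x ^ q) (hF : Fintype.card F = q ^ 2)

include hstar in
theorem fix_scale {I : Finset (Fin n)} {e z : Vn} {a b c : F} (he0 : e ≠ 0) (hse : Supp I e)
    (h : EOk e z a) (hI : eich hstar e z a ∈ fixOut q I) (h' : EOk e (c • z) b) :
    eich hstar e (c • z) b ∈ fixOut q I := by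
  intro k hk
  have h1 := hI k hk
  have hek : herm e (Pi.single k 1 : Vn) = 0 := by simp [herm_single_right, hse k hk]
  rw [act_eich hstar h, hek, mul_zero, zero_sub, zero_smul, add_zero, add_eq_left, neg_smul, neg_eq_zero,
    smul_eq_zero] at h1
  rw [act_eich hstar h', hek, herm_smul_left, h1.resolve_right he0]
  simp

include hstar hF in
/-- Maximal two-subgroups supported in `I`. -/
theorem sq_max : ∀ (m : ℕ) (I : Finset (Fin n)), I.card = m → ∀ P : Subgroup Gn, P ≤ fixOut q I →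
    IsPGroup 2 P → (∀ Q : Subgroup Gn, Q ≤ fixOut q I → IsPGroup 2 Q → P ≤ Q → Q ≤ P) → Sq P := by
  intro m
  induction m using Nat.strong_induction_on with
  | _ m ih =>
  intro I hI P hPI hP hmax
  rcases lt_or_ge m 2 with hm2 | hm2
  · intro g hg
    have := hPI hg
    rw [fixOut_small hstar (by omega), Subgroup.mem_bot] at this
    rw [this, one_pow]; exact one_mem _
  obtain ⟨u, hu, hsu, hufix⟩ := exists_fixed_in hstar hF (by omega) P hP hPI
  obtain ⟨i, hi, j, hj, hij⟩ := Finset.one_lt_card.mp (show 1 < I.card by omega)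
  obtain ⟨e, f, Pr⟩ := exists_pair hstar hF hij
  obtain ⟨c, hc, x, hx, hxu⟩ := to_line (p := 2) hstar hF Pr hi hj hu.1 hu.2 hsu
  have hxI := KI_le I hx
  set c' : Gn →* Gn := (MulAut.conj x).toMonoidHom with hc'
  have hcap : ∀ y, c' y = x * y * x⁻¹ := fun y => rfl
  set P' := P.map c' with hP'def
  have hP'I : P' ≤ fixOut q I := by
    rintro _ ⟨y, hy, rfl⟩
    exact mul_mem (mul_mem hxI (hPI hy)) (inv_mem hxI)
  have hP' : IsPGroup 2 P' := hP.map _
  have hfixe : ∀ s ∈ P', act s e = e := by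
    rintro _ ⟨y, hy, rfl⟩
    have h1 : act (c' y) (c • e) = c • e := by
      rw [hcap, ← hxu, act_mul, act_mul, act_inv_act, hufix y hy]
    rw [act_smul] at h1
    exact smul_right_injective _ hc h1
  have hmax' : ∀ Q : Subgroup Gn, Q ≤ fixOut q I → IsPGroup 2 Q → P' ≤ Q → Q ≤ P' := by
    intro Q hQI hQ hle y hy
    have h1 : P ≤ Q.map (MulAut.conj x⁻¹).toMonoidHom := fun s hs =>
      ⟨c' s, hle ⟨s, hs, rfl⟩, by simp [hcap, mul_assoc]⟩
    have h2 := hmax _ (by
      rintro _ ⟨s, hs, rfl⟩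
      exact mul_mem (mul_mem (inv_mem hxI) (hQI hs)) (inv_mem (inv_mem hxI))) (hQ.map _) h1 ⟨y, hy, rfl⟩
    exact ⟨_, h2, by simp [hcap, mul_assoc]⟩
  let QI : Subgroup Gn := Qg hstar Pr.ee ⊓ fixOut q I
  have hnorm : ∀ R : Subgroup Gn, R ≤ fixOut q I → (∀ s ∈ R, act s e = e) →
      R ≤ Subgroup.normalizer (QI : Set Gn) := by
    intro R hRI hRe s hs
    refine Subgroup.mem_normalizer_fintype ?_
    rintro _ ⟨⟨z, a, hok, rfl⟩, hxI'⟩
    refine ⟨?_, Subgroup.mul_mem _ (Subgroup.mul_mem _ (hRI hs) hxI') (Subgroup.inv_mem _ (hRI hs))⟩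
    have h' := hok.act hstar s
    rw [hRe s hs] at h'
    exact ⟨_, _, h', by rw [eich_conj hstar s hok, hRe s hs]⟩
  have hQIP : IsPGroup 2 QI := (isPGroup_Qg hstar Pr.ee).to_le inf_le_left
  have hQIle : QI ≤ P' := le_sup_right.trans (hmax' (P' ⊔ QI) (sup_le hP'I inf_le_right)
    (IsPGroup.to_sup_of_normal_right' hP' hQIP (hnorm P' hP'I hfixe)) le_sup_left)
  have hsub : (I \ {i, j}) ⊆ I := Finset.sdiff_subset
  set P'' := P' ⊓ fixOut q (I \ {i, j}) with hP''
  have hdec : P' ≤ QI ⊔ P'' := by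
    intro g hg
    obtain ⟨z, a, m', hok, hE, hm', rfl⟩ := decomp_in hstar Pr hi hj (hP'I hg) (hfixe g hg)
    have h1 : eich hstar e z a ∈ QI := ⟨⟨z, a, hok, rfl⟩, hE⟩
    exact Subgroup.mul_mem_sup h1 ⟨(Subgroup.mul_mem_cancel_left P' (hQIle h1)).1 hg, hm'⟩
  have hcard : (I \ {i, j}).card < m := by
    rw [← hI]
    exact Finset.card_lt_card (Finset.ssubset_iff_of_subset hsub |>.2 ⟨i, hi, by simp⟩)
  have ih'' := ih _ hcard _ rfl P'' inf_le_right (hP'.to_le inf_le_left) fun Q hQI hQ hle => by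
    have hQI' : Q ≤ fixOut q I := hQI.trans (fixOut_mono hsub)
    have h1 : Q ⊔ QI ≤ P' := hmax' _ (sup_le hQI' inf_le_right)
      (IsPGroup.to_sup_of_normal_right' hQ hQIP (hnorm Q hQI' fun s hs => (fix_of_fixOut Pr (hQI hs)).1))
      (hdec.trans (sup_le le_sup_right (hle.trans le_sup_left)))
    exact le_inf (le_sup_left.trans h1) hQI
  obtain ⟨c₀, hc₀⟩ := exists_trace hstar hF (r := (1 : F)) (star_one F)
  have hQIsq : ∀ g ∈ QI, g ^ 2 ∈ ⁅P', P'⁆ := by
    intro g hg
    obtain ⟨⟨z, a, hok, rfl⟩, hgI⟩ := id hg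
    have hokc : EOk e (c₀ • z) (c₀ * star c₀ * a) := by
      refine ⟨hok.1, by rw [herm_smul_right, hok.2.1, mul_zero], ?_⟩
      rw [herm_smul_left, herm_smul_right, star_mul', star_mul', star_star]
      linear_combination (c₀ * star c₀) * hok.2.2
    have hY : eich hstar e (c₀ • z) (c₀ * star c₀ * a) ∈ QI :=
      ⟨⟨_, _, hokc, rfl⟩, fix_scale hstar (pair_isPt Pr).1.1 (supp_pair hi hj Pr.supp_e) hok hgI hokc⟩
    have h2 : (2 : F) = 0 := CharTwo.two_eq_zero
    have hzero : EOk e 0 (herm z z) := (EOk_zero_iff Pr.ee).2 (by rw [star_herm, CharTwo.neg_eq])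
    have hsq : eich hstar e z a ^ 2 = eich hstar e 0 (herm z z) := by
      rw [pow_two, eich_mul hstar hok hok, ← two_smul F z, h2, zero_smul, ← two_mul a, h2, zero_mul, zero_sub,
        CharTwo.neg_eq]
    have hcm : eich hstar e z a * eich hstar e (c₀ • z) (c₀ * star c₀ * a) =
        eich hstar e 0 (herm z z) * (eich hstar e (c₀ • z) (c₀ * star c₀ * a) * eich hstar e z a) := by
      rw [eich_mul hstar hok hokc, eich_mul hstar hokc hok, eich_mul hstar hzero (hokc.add hok), zero_add,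
        add_comm z, herm_zero_left, sub_zero]
      congr 1
      rw [herm_smul_left, herm_smul_right]
      linear_combination herm z z * hc₀ - herm z z * c₀ * h2
    have h3 := Subgroup.commutator_mem_commutator (hQIle hg) (hQIle hY)
    rw [hsq]
    rwa [commutatorElement_def, hcm, show ∀ X Y Z : Gn, Z * (Y * X) * X⁻¹ * Y⁻¹ = Z from fun X Y Z => by group]
      at h3
  have hP'sq : Sq P' := by
    refine of_closure (hdec.trans (sup_le ?_ ?_))
    · exact fun g hg => Subgroup.subset_closure ⟨hQIle hg, hQIsq g hg⟩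
    · exact fun g hg => Subgroup.subset_closure ⟨hg.1, Subgroup.commutator_mono inf_le_left inf_le_left (ih'' g hg)⟩
  exact sq_of_map c' (MulAut.conj x).injective hP'sq

include hstar hF in
theorem goal : Goal (Cfsg.PSU n F q) := by
  classical
  obtain ⟨S⟩ : Nonempty (Sylow 2 Gn) := inferInstance
  have htop : ∀ g : Gn, g ∈ fixOut q (Finset.univ : Finset (Fin n)) := fun g k hk => absurd (Finset.mem_univ k) hk
  refine goal_map pu pu_surjective S (sq_max hstar hF _ _ rfl _ (fun g _ => htop g) S.2 fun Q _ hQ hle => ?_)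
  exact (S.3 hQ hle).le

end Cfsg.Agent.Char.SquareDerived.Unitary
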