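import Cfsg.Agent.Lib.Char.SquareDerivedLie
import Cfsg.Agent.Lib.Char.SquareDerivedClassical
import Cfsg.Agent.Lib.Char.SquareDerivedUnitary
import Cfsg.Agent.Lib.Char.SquareDerivedOrth
import Cfsg.Agent.Lib.Classical.OrthPOmega
import Cfsg.Prelude.Def_LieTypeChar

/-!
Groups of Lie type in characteristic two: squares of a Sylow two-subgroup lie in its derived subgroup.
-/

set_option autoImplicit false
set_option linter.style.haveILetI false

namespace Cfsg.Agent.Char.SquareDerived

open Module QuadraticMap Cfsg.Agent.Classical Cfsg.Agent.Classical.OCount Cfsg.Agent.Classical.ORefl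
  Cfsg.Agent.Classical.OOmega

theorem goal_pomega {F : Type} [Field F] [Finite F] [CharP F 2] {ι : Type} [Fintype ι] [DecidableEq ι]
    {Q : QuadraticForm F (ι → F)} (hQ : PND Q) (h : Fintype.card ι ≠ 4) {f : (ι → F) → F} (hf : ⇑Q = f) :
    Goal (Cfsg.POmega F f) := by
  subst hf
  classical
  haveI : Fact (Nat.Prime 2) := ⟨Nat.prime_two⟩
  haveI : Finite ↥(Iso Q) := Finite.of_injective (fun g => (g.1 : (ι → F) → ι → F)) fun a b hab =>
    Subtype.ext (LinearEquiv.ext (congrFun hab))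
  have e : ↥(commutator ↥(Iso Q)) ≃* ↥(Cfsg.Omega F ⇑Q) :=
    ((commutator ↥(Iso Q)).equivMapOfInjective _ (toMat Q).injective).trans
      (MulEquiv.subgroupCongr (omega_eq_map (Q := Q)).symm)
  have hg : Goal ↥(Cfsg.Omega F ⇑Q) :=
    goal_congr e (Orth.goal_omega hQ (Or.inr (by rw [finrank_fintype_fun_eq_card]; exact h)))
  haveI : Finite ↥(Cfsg.Omega F ⇑Q) := Finite.of_equiv _ e.toEquiv
  obtain ⟨S⟩ : Nonempty (Sylow 2 ↥(Cfsg.Omega F ⇑Q)) := inferInstance
  exact goal_map (QuotientGroup.mk' _) (QuotientGroup.mk'_surjective _) S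
    fun x hx => (commutator_iff hx).2 (hg S ⟨x, hx⟩)

/-- Groups of Lie type in characteristic two. -/
theorem goal {G : Type*} [Group G] [Finite G] (hG : Cfsg.IsLieTypeChar 2 G) : Goal G := by
  classical
  haveI : Fact (Nat.Prime 2) := ⟨Nat.prime_two⟩
  rcases hG with h | h | h | h | h | h | h | h | ⟨-, h⟩ | ⟨-, h⟩ | ⟨h3, -⟩
  · obtain ⟨F, _, _, _, n, hn, -, ⟨e⟩⟩ := h
    haveI := Finite.of_equiv G e.toEquiv
    exact goal_congr e.symm (Classical.goal_psl hn)
  · obtain ⟨F, _, _, _, m, hm, -, ⟨e⟩⟩ := h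
    haveI := Finite.of_equiv G e.toEquiv
    exact goal_congr e.symm (Classical.goal_psp (by omega))
  · obtain ⟨F, _, _, _, n, q, hq, -, -, ⟨e⟩⟩ := h
    obtain ⟨p', e', τ, -, -, -, -, hτ⟩ := Cfsg.Agent.Classical.exists_usigma hq
    letI : StarRing F := Cfsg.Agent.Small.Hermitian.starRingOfInvolution (τ : F →+* F) hτ.involutive
    have hstar : ∀ x : F, star x = x ^ q := fun x => hτ.apply_eq x
    haveI := Finite.of_equiv G e.toEquiv
    exact goal_congr e.symm (Unitary.goal hstar hq)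
  · obtain ⟨F, _, _, _, m, -, ho, -⟩ := h
    exact absurd (FiniteField.even_card_of_char_two (F := F) (ringChar.eq F 2)) (by
      rw [Nat.odd_iff] at ho; omega)
  · obtain ⟨F, _, _, _, m, hm, ⟨e⟩⟩ := h
    haveI := Finite.of_equiv G e.toEquiv
    exact goal_congr e.symm (goal_pomega (formOf_pnd pnd_empty) (by simp; omega) (coe_plus m))
  · obtain ⟨F, _, _, _, m, a, b, hm, hab, ⟨e⟩⟩ := h
    haveI := Finite.of_equiv G e.toEquiv
    exact goal_congr e.symm (goal_pomega (formOf_pnd (pnd_plane hab)) (by simp; omega) (coe_minus (m - 1) a b))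
  · exact goal_exceptional h
  · exact goal_twisted h
  · exact goal_suzuki h
  · exact goal_ree_two h
  · omega

end Cfsg.Agent.Char.SquareDerived
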