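import Cfsg.Agent.Lib.Char.SquareDerived
import Cfsg.Agent.Lib.Small.LieOrderBound
import Cfsg.Agent.Lib.Lie.SuzukiSylow
import Cfsg.Agent.Lib.Lie.SuzukiSp4
import Cfsg.Agent.Lib.Lie.TwistF4S
import Cfsg.Agent.Lib.Lie.TwistE6S
import Cfsg.Agent.Lib.Lie.TwistD4S
import Cfsg.Agent.Lib.Lie.AllFacts

/-!
Sylow two-subgroups of exceptional and twisted groups in characteristic two: squares are in the
derived subgroup.
-/

set_option autoImplicit false
set_option linter.style.haveILetI false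
set_option maxRecDepth 4000

namespace Cfsg.Agent.Char.SquareDerived

open Cfsg.Lie Cfsg.Agent.Lie Matrix
open scoped MatrixGroups commutatorElement

/-- From an order formula and a two-subgroup of the right order. -/
theorem goal_of_formula {G H : Type*} [Group G] [Group H] [Finite H] (e : G ≃* H) {q f N D c M : ℕ}
    (hq : q = 2 ^ f) (h : c * Nat.card H = q ^ N * M) (hc : ¬ 2 ∣ c)
    (hM : Small.LieOrderBound.Below 2 q M D) (U : Subgroup H) (hU : Nat.card U = q ^ N) (hs : Sq U) : Goal G := by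
  refine goal_congr e.symm (goal_of_card U (k := f * N) (by rw [hU, hq, ← pow_mul]) ?_ hs)
  exact (Small.LieOrderBound.bound Nat.prime_two hq h hc hM).1

section Twisted

variable {D : ChevalleyDatum} {F : Type*} [Field F] {hF : Facts D}

theorem sq_xg (h2 : (2 : F) = 0) (r : ℕ) (t : F) : hF.xg r t ^ 2 = 1 := by
  rw [pow_two, ← hF.xg_add, ← two_mul, h2, zero_mul, hF.xg_zero]

theorem sq_US (h2 : (2 : F) = 0) (L : List ℕ) : Sq ((hF.tsys F).US L) := by
  refine of_involutions (CommSys.US_le _ fun r hr t => Subgroup.subset_closure ⟨CommSys.x_mem_US _ hr t, ?_⟩)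
  rw [hF.tsys_x]
  exact sq_xg h2 r t

theorem sq_one_of_comm (h2 : (2 : F) = 0) {L : List ℕ} (hL : okComm D L = true) {x : GL D.Idx F}
    (hx : x ∈ (hF.tsys F).US L) : x ^ 2 = 1 := by
  have hc : (hF.tsys F).US L ≤ Subgroup.centralizer ((hF.tsys F).US L : Set (GL D.Idx F)) := by
    refine CommSys.US_le _ fun r hr t => ?_
    rw [Subgroup.mem_centralizer_iff]
    intro y hy
    have hle : (hF.tsys F).US L ≤ Subgroup.centralizer {(hF.tsys F).x r t} := by
      refine CommSys.US_le _ fun s hs u => Subgroup.mem_centralizer_singleton_iff.2 ?_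
      rw [hF.tsys_x]
      exact (hF.xg_commute hL hs hr u t).eq
    exact Subgroup.mem_centralizer_singleton_iff.1 (hle hy)
  have hx' := hx
  induction hx using Subgroup.closure_induction with
  | mem g hg =>
    obtain ⟨r, -, t, rfl⟩ := hg
    rw [hF.tsys_x]
    exact sq_xg h2 r t
  | one => exact one_pow 2
  | mul a b ha hb iha ihb =>
    have hab : Commute a b := (Subgroup.mem_centralizer_iff.1 (hc hb) a ha)
    rw [hab.mul_pow, iha ha, ihb hb, one_mul]
  | inv a ha iha => rw [inv_pow, iha ha, inv_one]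

variable [Finite F] {T : Twist hF F} {Os : List (List (Fin D.rank))}

/-- The fixed elements of the unipotent group inherit the property from the orbit groups. -/
theorem sq_fix (X : TwData T Os)
    (horb : ∀ ω ∈ Os, Sq ((hF.tsys F).US (orbL D (ω.map Fin.val)) ⊓ T.fix)) :
    Sq ((hF.tsys F).U ⊓ T.fix) := by
  obtain ⟨w, hw, hL⟩ := T.exists_longest
  suffices key : ∀ w, T.PiFix w → Sq ((hF.tsys F).US (TorusSys.invList w) ⊓ T.fix) by
    have := key w hw
    rwa [hL] at this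
  intro w hw
  refine T.piFix_induction X.hOs (P := fun w => Sq ((hF.tsys F).US (TorusSys.invList w) ⊓ T.fix)) ?_ ?_ w hw
  · intro g hg
    have : g = 1 := by
      have h1 : (hF.tsys F).US (TorusSys.invList (1 : hF.weyl)) ≤ ⊥ := CommSys.US_le _ fun r hr t => by
        obtain ⟨h, hi⟩ := TorusSys.mem_invList.1 hr
        rw [RefSystem.inv_one] at hi
        exact absurd hi (Finset.notMem_empty _)
      exact Subgroup.mem_bot.1 (h1 hg.1)
    subst this
    rw [one_pow]; exact one_mem _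
  · intro ω hω v hv hv' hlen hpos ih
    have hS : T.SplitHyp ω v := ⟨hv, hv', hlen, hpos⟩
    obtain ⟨a, ha, hn⟩ := X.exists_nO hω
    set n := a * (hF.tsys F).nW (T.wO ω) with hn'
    have hnf := X.le_fix hn
    set W := (hF.tsys F).US (TorusSys.invList (v * T.wO ω)) ⊓ T.fix with hW
    have hv1 : ((hF.tsys F).US (TorusSys.invList v) ⊓ T.fix).map (MulAut.conj n⁻¹).toMonoidHom ≤ W := by
      rintro _ ⟨y, ⟨hy, hyf⟩, rfl⟩
      simp only [MulEquiv.coe_toMonoidHom, MulAut.conj_apply, inv_inv]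
      exact ⟨(T.conj_US X.hOs hω ha (fun s hs => (hS.wO_inv T hω X.hOs s hs).imp fun _ h => h.1) hy).1,
        Subgroup.mul_mem _ (Subgroup.mul_mem _ (Subgroup.inv_mem _ hnf) hyf) hnf⟩
    have hv2 : (hF.tsys F).US (orbL D (ω.map Fin.val)) ⊓ T.fix ≤ W :=
      inf_le_inf_right _ (CommSys.US_mono _ (hS.L_sub T hω X.hOs))
    refine of_closure fun g hg => ?_
    obtain ⟨y, hy, hyf, x, hx, hxf, rfl⟩ := hS.fixed T hω X.hOs ha hnf hg.1 hg.2
    refine mul_mem (Subgroup.subset_closure ⟨?_, ?_⟩) (Subgroup.subset_closure ⟨hv2 ⟨hx, hxf⟩,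
      Subgroup.commutator_mono hv2 hv2 (horb ω hω x ⟨hx, hxf⟩)⟩)
    · simpa only [MulEquiv.coe_toMonoidHom, MulAut.conj_apply, inv_inv] using hv1 (Subgroup.mem_map_of_mem _ ⟨hy, hyf⟩)
    · have h := Subgroup.commutator_mono hv1 hv1
        (sq_map (MulAut.conj n⁻¹).toMonoidHom ih _ (Subgroup.mem_map_of_mem _ ⟨hy, hyf⟩))
      simpa only [MulEquiv.coe_toMonoidHom, MulAut.conj_apply, inv_inv] using h

/-- The unipotent subgroup of a twisted group. -/
theorem twisted_data (X : TwData T Os)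
    (horb : ∀ ω ∈ Os, Sq ((hF.tsys F).US (orbL D (ω.map Fin.val)) ⊓ T.fix)) :
    ∃ U : Subgroup X.G1, Nat.card U ^ X.d = X.q ^ (D.nroots / 2) ∧ Sq U := by
  refine ⟨(D.posUnipotent F ⊓ X.G1).subgroupOf X.G1, ?_, ?_⟩
  · rw [Nat.card_congr (Subgroup.subgroupOfEquivOfLe inf_le_right).toEquiv]
    exact X.card_U
  · refine sq_of_map X.G1.subtype X.G1.subtype_injective ?_
    rw [Subgroup.map_subgroupOf_eq_of_le inf_le_right, X.U_eq]
    exact sq_fix X horb

end Twisted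

/-- Untwisted groups. -/
theorem chev_data {D : ChevalleyDatum} {F : Type*} [Field F] (hF : Facts D) (h2 : (2 : F) = 0) :
    ∃ U : Subgroup (D.group F), Nat.card U = Nat.card F ^ (D.nroots / 2) ∧ Sq U := by
  have hle : (hF.tsys F).US (Facts.posL D) ≤ D.group F := CommSys.US_le _ fun r _ t => hF.xg_mem_group r t
  refine ⟨((hF.tsys F).US (Facts.posL D)).subgroupOf (D.group F), ?_, ?_⟩
  · rw [Nat.card_congr (Subgroup.subgroupOfEquivOfLe hle).toEquiv, hF.card_US hF.closedList_posL,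
      hF.length_posL]
  · refine sq_of_map (D.group F).subtype (D.group F).subtype_injective ?_
    rw [Subgroup.map_subgroupOf_eq_of_le hle]
    exact sq_US h2 _

theorem E6_orb {K : Type*} [Field K] [Fintype K] {q : ℕ} (S : E6.Setup K q) (h2 : (2 : K) = 0) :
    ∀ ω ∈ E6.Os, Sq ((factsE6.tsys K).US (orbL chevE6 (ω.map Fin.val)) ⊓ S.T.fix) := by
  intro ω hω x hx
  have hm := List.mem_map_of_mem (f := fun ω => orbL chevE6 (ω.map Fin.val)) hω
  rw [E6.orbLs] at hm
  rw [sq_one_of_comm h2 (E6.okComm' (L := orbL chevE6 (ω.map Fin.val)) ?_) hx.1]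
  · exact one_mem _
  · simp only [List.mem_cons, List.not_mem_nil, or_false] at hm
    rcases hm with h | h | h | h <;> rw [h] <;> simp [E6.Ls]

theorem D4_orb {K : Type*} [Field K] [Fintype K] {q : ℕ} (S : D4.Setup K q) (h2 : (2 : K) = 0) :
    ∀ ω ∈ D4.Os, Sq ((factsD4.tsys K).US (orbL chevD4 (ω.map Fin.val)) ⊓ S.T.fix) := by
  intro ω hω x hx
  have hm := List.mem_map_of_mem (f := fun ω => orbL chevD4 (ω.map Fin.val)) hω
  rw [D4.orbLs] at hm
  rw [sq_one_of_comm h2 (D4.okComm' (L := orbL chevD4 (ω.map Fin.val)) ?_) hx.1]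
  · exact one_mem _
  · simp only [List.mem_cons, List.not_mem_nil, or_false] at hm
    rcases hm with h | h <;> rw [h] <;> simp

theorem F4_orb {K : Type*} [Field K] [Fintype K] {m : ℕ} (S : F4.Setup K m) (hm : 1 ≤ m) :
    ∀ ω ∈ F4.Os, Sq ((factsF4.tsys K).US (orbL chevF4 (ω.map Fin.val)) ⊓ S.T.fix) := by
  intro ω hω x hx
  have hmem := List.mem_map_of_mem (f := fun ω => orbL chevF4 (ω.map Fin.val)) hω
  have hcl := S.closed hω
  rw [F4.orbLs] at hmem
  simp only [List.mem_cons, List.not_mem_nil, or_false] at hmem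
  rcases hmem with h | h
  · rw [h] at hx ⊢
    rw [sq_one_of_comm S.h2 (S.pairOk (L := [24, 33]) (by simp)).1 hx.1]
    exact one_mem _
  rw [h] at hx hcl ⊢
  set O := (factsF4.tsys K).US [25, 27, 28, 30] ⊓ S.T.fix
  obtain ⟨t, u, rfl⟩ := S.fix_b2 hcl hx.1 hx.2
  have hO : ∀ s v : K, S.w4F 27 25 28 30 s v ∈ O := fun s v =>
    ⟨S.w4F_mem_US s v, S.b2_fix (Or.inl ⟨rfl, rfl, rfl, rfl⟩) s v⟩
  have hsq : S.w4F 27 25 28 30 t u ^ 2 = S.w4F 27 25 28 30 0 (t ^ 2 ^ m * t) := by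
    rw [pow_two, S.w4F_mul, ← two_mul, ← two_mul, S.h2, zero_mul, zero_mul, zero_add]
  have hcomm : ∀ a s : K, ⁅S.w4F 27 25 28 30 a 0, S.w4F 27 25 28 30 s 0⁆ =
      S.w4F 27 25 28 30 0 (a ^ 2 ^ m * s + s ^ 2 ^ m * a) := by
    intro a s
    have e : S.w4F 27 25 28 30 a 0 * S.w4F 27 25 28 30 s 0 =
        S.w4F 27 25 28 30 0 (a ^ 2 ^ m * s + s ^ 2 ^ m * a) *
          (S.w4F 27 25 28 30 s 0 * S.w4F 27 25 28 30 a 0) := by
      simp only [S.w4F_mul, zero_pow (pow_ne_zero m two_ne_zero), zero_mul, add_zero, zero_add]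
      rw [add_comm a s, add_assoc, ← two_mul (s ^ 2 ^ m * a), S.h2, zero_mul, add_zero]
    rw [commutatorElement_def, e]
    group
  obtain ⟨k, hk⟩ : ∃ k : K, k + k ^ 2 ^ m ≠ 0 := by
    obtain ⟨z, hz⟩ := S.exists_unit hm
    refine ⟨z, fun h => hz ?_⟩
    have h1 : (z : K) ^ 2 ^ m = z := by linear_combination h - (z : K) * S.h2
    have h3 := (S.pow_twist (z : K)).1
    rw [h1, pow_mul', h1] at h3
    exact Units.ext (mul_left_cancel₀ z.ne_zero (by rw [← pow_two, h3, Units.val_one, mul_one]))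
  obtain ⟨a, ha⟩ : ∃ a : K, a ^ (2 ^ m + 1) = t ^ 2 ^ m * t / (k + k ^ 2 ^ m) := by
    generalize t ^ 2 ^ m * t / (k + k ^ 2 ^ m) = c
    rcases eq_or_ne c 0 with rfl | hc
    · exact ⟨0, zero_pow (Nat.succ_ne_zero _)⟩
    obtain ⟨b, hb⟩ := (powCoprime S.coprime_exp).surjective ((Units.mk0 c hc) ^ 2)
    refine ⟨b, ?_⟩
    have hb' : b ^ (2 * 2 ^ m + 2) = (Units.mk0 c hc) ^ 2 := hb
    have h2' := congrArg Units.val hb'
    simp only [Units.val_pow_eq_pow_val, Units.val_mk0] at h2'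
    rw [show 2 * 2 ^ m + 2 = (2 ^ m + 1) * 2 by ring, pow_mul] at h2'
    haveI := F4.charP_two (K := K) (m := m) (by rw [← Nat.card_eq_fintype_card, S.hK])
    exact CharTwo.sq_injective h2'
  rw [hsq, show t ^ 2 ^ m * t = a ^ 2 ^ m * (a * k) + (a * k) ^ 2 ^ m * a by
    rw [pow_succ] at ha
    rw [eq_div_iff hk] at ha
    rw [mul_pow]
    linear_combination -ha, ← hcomm]
  exact Subgroup.commutator_mem_commutator (hO _ _) (hO _ _)

section Groups

open Cfsg.Agent.Small.LieOrderBound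

variable {G : Type*} [Group G] [Finite G]

theorem two_eq {F : Type*} [Field F] [CharP F 2] : (2 : F) = 0 := CharTwo.two_eq_zero

theorem goal_exceptional (hG : Cfsg.IsExceptionalChevChar 2 G) : Goal G := by
  obtain ⟨F, _, _, _, h⟩ := hG
  obtain ⟨f, -, hp, hq, h1, hpq⟩ := card_data (p := 2) (F := F)
  have hb : ∀ d, 1 ≤ d → Below 2 (Fintype.card F) (Fintype.card F ^ d - 1) d := fun d hd =>
    below_sub hp hpq (by omega) hd
  have hc : ∀ a, ¬ 2 ∣ Nat.gcd a (Fintype.card F - 1) := fun a =>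
    coprime_gcd_left (by simpa using not_dvd_pow_sub hp hpq (by omega) (d := 1) le_rfl)
  have key : ∀ {D : ChevalleyDatum} (hF : Facts D) (N : ℕ), D.nroots / 2 = N →
      ∃ U : Subgroup (D.group F), Nat.card U = Fintype.card F ^ N ∧ Sq U := fun hF N hN => by
    obtain ⟨U, hU, hs⟩ := chev_data (F := F) hF two_eq
    exact ⟨U, by rw [hU, hN, Nat.card_eq_fintype_card], hs⟩
  rcases h with ⟨-, ⟨e⟩⟩ | ⟨⟨e⟩⟩ | ⟨⟨e⟩⟩ | ⟨⟨e⟩⟩ | ⟨⟨e⟩⟩
  · obtain ⟨U, hU, hs⟩ := key nonempty_factsG2.some 6 rfl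
    exact goal_of_formula e hq (c := 1) ((one_mul _).trans ((Cfsg.Agent.S1059.result rfl).trans (mul_assoc _ _ _)))
      hp.not_dvd_one ((hb 2 (by norm_num)).mul hp (hb 6 (by norm_num))) U hU hs
  · obtain ⟨U, hU, hs⟩ := key nonempty_factsF4.some 24 rfl
    exact goal_of_formula e hq (c := 1) (N := 24) (M := _ * _ * _ * _)
      ((one_mul _).trans ((Cfsg.Agent.S1062.result rfl).trans (by simp only [mul_assoc])))
      hp.not_dvd_one ((((hb 2 (by norm_num)).mul hp (hb 6 (by norm_num))).mul hp (hb 8 (by norm_num))).mul hp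
        (hb 12 (by norm_num))) U hU hs
  · obtain ⟨U, hU, hs⟩ := key nonempty_factsE6.some 36 rfl
    exact goal_of_formula e hq (N := 36) (M := _ * _ * _ * _ * _ * _)
      ((Cfsg.Agent.S1063.result rfl).trans (by simp only [mul_assoc])) (hc 3)
      ((((((hb 2 (by norm_num)).mul hp (hb 5 (by norm_num))).mul hp (hb 6 (by norm_num))).mul hp
        (hb 8 (by norm_num))).mul hp (hb 9 (by norm_num))).mul hp (hb 12 (by norm_num))) U hU hs
  · obtain ⟨U, hU, hs⟩ := key nonempty_factsE7.some 63 rfl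
    exact goal_of_formula e hq (N := 63) (M := _ * _ * _ * _ * _ * _ * _)
      ((Cfsg.Agent.S1064.result rfl).trans (by simp only [mul_assoc])) (hc 2)
      (((((((hb 2 (by norm_num)).mul hp (hb 6 (by norm_num))).mul hp (hb 8 (by norm_num))).mul hp
        (hb 10 (by norm_num))).mul hp (hb 12 (by norm_num))).mul hp (hb 14 (by norm_num))).mul hp
        (hb 18 (by norm_num))) U hU hs
  · obtain ⟨U, hU, hs⟩ := key nonempty_factsE8.some 120 rfl
    exact goal_of_formula e hq (c := 1) (N := 120) (M := _ * _ * _ * _ * _ * _ * _ * _)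
      ((one_mul _).trans ((Cfsg.Agent.S1065.result rfl).trans (by simp only [mul_assoc])))
      hp.not_dvd_one ((((((((hb 2 (by norm_num)).mul hp (hb 8 (by norm_num))).mul hp (hb 12 (by norm_num))).mul hp
        (hb 14 (by norm_num))).mul hp (hb 18 (by norm_num))).mul hp (hb 20 (by norm_num))).mul hp
        (hb 24 (by norm_num))).mul hp (hb 30 (by norm_num))) U hU hs

theorem goal_twisted (hG : Cfsg.IsTwistedE6D4Char 2 G) : Goal G := by
  obtain ⟨K, _, _, _, k, hk, h⟩ := hG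
  obtain ⟨f, -, hp, hq, -, hpq⟩ := card_data (p := 2) (F := K)
  have hk1 := hk.one_lt
  have key : ∀ e : ℕ, e ≠ 0 → Fintype.card K = k ^ e → (∃ f', k = 2 ^ f') ∧ 2 ∣ k := fun e he h' =>
    ⟨((Nat.dvd_prime_pow hp).1 (show k ∣ 2 ^ f from hq ▸ h' ▸ dvd_pow_self k he)).imp fun _ h => h.2,
      hp.dvd_of_dvd_pow (h' ▸ hpq)⟩
  rcases h with ⟨hK, ⟨e⟩⟩ | ⟨hK, ⟨e⟩⟩
  · obtain ⟨⟨f', hf'⟩, hpk⟩ := key 2 two_ne_zero hK
    obtain ⟨S⟩ := E6.nonempty_setup hk hK
    obtain ⟨U, hU, hs⟩ := twisted_data S.data (E6_orb S two_eq)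
    exact goal_of_formula e hf' (M := ((k ^ 5 + 1) * (k ^ 2 - 1)) * ((k ^ 9 + 1) * (k ^ 6 - 1)) *
        (k ^ 8 - 1) * (k ^ 12 - 1)) (N := 36) ((Cfsg.Agent.S1066.result hk hK).trans (by ring))
      (coprime_gcd_left (by simpa using not_dvd_pow_add hp hpk (d := 1) le_rfl))
      ((((below_pair_sub hp hpk hk1 (by norm_num) (by norm_num)).mul hp
        (below_pair_sub hp hpk hk1 (by norm_num) (by norm_num))).mul hp
        (below_sub hp hpk (by omega) (d := 8) (by norm_num))).mul hp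
        (below_sub hp hpk (by omega) (d := 12) (by norm_num))) U ((pow_one _).symm.trans hU) hs
  · obtain ⟨⟨f', hf'⟩, hpk⟩ := key 3 three_ne_zero hK
    obtain ⟨S⟩ := D4.nonempty_setup hk hK
    obtain ⟨U, hU, hs⟩ := twisted_data S.data (D4_orb S two_eq)
    have hb8 : Below 2 k ((k ^ 2 - 1) * (k ^ 8 + k ^ 4 + 1)) 11 := by
      refine ⟨fun hd => (hp.dvd_mul.1 hd).elim (not_dvd_pow_sub hp hpk (by omega) (by norm_num)) fun h3 =>
        hp.ne_one (Nat.dvd_one.1 ((Nat.dvd_add_right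
          ((dvd_pow hpk (by norm_num : 8 ≠ 0)).add (dvd_pow hpk (by norm_num : 4 ≠ 0)))).1 h3)), ?_⟩
      calc (k ^ 2 - 1) * (k ^ 8 + k ^ 4 + 1) < k ^ 2 * (k ^ 8 + k ^ 4 + 1) :=
            Nat.mul_lt_mul_of_pos_right (by have := Nat.one_le_pow 2 k (by omega); omega) (by positivity)
        _ ≤ k ^ 2 * k ^ 9 := by
            have e1 : k ^ 4 + 1 ≤ k ^ 8 := Nat.pow_lt_pow_right hk1 (by norm_num)
            have e2 : k ^ 8 + k ^ 8 ≤ k ^ 9 := by
              rw [pow_succ k 8, ← mul_two]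
              exact Nat.mul_le_mul_left _ hk1
            exact Nat.mul_le_mul_left _ (by omega)
        _ = k ^ 11 := by ring
    exact goal_of_formula e hf' (c := 1) (N := 12) (M := (k ^ 2 - 1) * (k ^ 8 + k ^ 4 + 1) * (k ^ 6 - 1))
      ((one_mul _).trans ((Cfsg.Agent.S1067.result hk hK).trans (by ring))) hp.not_dvd_one
      (hb8.mul hp (below_sub hp hpk (by omega) (d := 6) (by norm_num))) U ((pow_one _).symm.trans hU) hs

theorem goal_suzuki (hG : Cfsg.Lie.IsoSuzuki G) : Goal G := by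
  haveI : Fact (Nat.Prime 2) := ⟨Nat.prime_two⟩
  obtain ⟨F, _, _, m, hm, hF, ⟨e⟩⟩ := hG
  obtain ⟨e'⟩ := Cfsg.Agent.Lie.Suzuki.lie_sz_equiv hF hm
  refine goal_congr (e'.trans e.symm) (goal_of_sylow
    ((Suzuki.uSub_isPGroup hF).toSylow (Suzuki.not_two_dvd_index hF hm)) ?_)
  rw [IsPGroup.toSylow_coe]
  intro x hx
  refine (commutator_iff hx).2 ?_
  rw [Suzuki.uSub_commutator hF hm, Subgroup.mem_subgroupOf]
  obtain ⟨a, b, rfl⟩ := hx
  refine ⟨a ^ 2 ^ (m + 1) * a, ?_⟩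
  show Suzuki.tS hF a b ^ 2 = _
  rw [pow_two, Suzuki.tS_mul hF, Suzuki.add_self hF, Suzuki.add_self hF, zero_add]

theorem goal_ree_two (hG : Cfsg.Lie.Iso2F4 G) : Goal G := by
  obtain ⟨K, _, _, m, hm, hK, ⟨e⟩⟩ := hG
  obtain ⟨S⟩ := F4.nonempty_setup hK
  obtain ⟨U, hU, hs⟩ := twisted_data S.data (F4_orb S hm)
  have h := Cfsg.Agent.S1068.result hK
  set k := 2 ^ (2 * m + 1) with hk
  have hk1 : 1 < k := hk ▸ Nat.one_lt_two_pow (by omega)
  have hpk : 2 ∣ k := hk ▸ dvd_pow_self 2 (by omega)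
  refine goal_of_formula e hk (c := 1) (N := 12)
    (M := (k ^ 3 + 1) * (k ^ 1 - 1) * ((k ^ 6 + 1) * (k ^ 4 - 1)))
    ((one_mul _).trans (h.trans (by ring))) (by norm_num)
    ((below_pair_sub Nat.prime_two hpk hk1 le_rfl (by norm_num)).mul Nat.prime_two
      (below_pair_sub Nat.prime_two hpk hk1 (by norm_num) (by norm_num))) U ?_ hs
  refine Nat.pow_left_injective two_ne_zero ?_
  show Nat.card U ^ 2 = (k ^ 12) ^ 2
  rw [← pow_mul]
  exact hU

end Groups

end Cfsg.Agent.Char.SquareDerived
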