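import Cfsg.Agent.Lib.Char.CoverDefect
import Cfsg.Agent.Lib.Char.FongReynolds

/-!
# Stabilizers under covering blocks with defect group inside
-/

set_option autoImplicit false

namespace Cfsg.Agent.Char

open Cfsg Module
open scoped ComplexConjugate Classical

universe u

variable {G : Type u} [Group G] [Fintype G] {M : Ideal AlgInt} {p : ℕ}
variable {N : Subgroup G} [hN : N.Normal] [Fintype N]

/-- With `p`-power index and defect group in `N`, only `N` stabilizes a covered block. -/
theorem mem_of_stabilizes (hM : IsPModular p M) {k : ℕ} (hk : N.index = p ^ k)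
    {c : Set (IrrCharacter N)} (hc : IsPBlock M c) {B : Set (IrrCharacter G)} (hB : IsPBlock M B)
    (hcov : Covers B c) {D : Subgroup G} (hD : IsDefectGroup p M B D) (hDN : D ≤ N)
    {x : G} (hx : StabilizesBlock N c x) : x ∈ N := by
  have hP := pmod_prime hM
  haveI := Fact.mk hM.1
  let H : Subgroup G :=
    { carrier := {g | irrTransport (MulAut.conjNormal g : N ≃* N) '' c = c}
      one_mem' := by
        show irrTransport (MulAut.conjNormal (1 : G) : N ≃* N) '' c = c
        exact (Set.image_congr fun η _ => irrComp_conj_one η).trans (Set.image_id _)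
      mul_mem' := fun {a b} ha hb => by
        show irrTransport (MulAut.conjNormal (a * b) : N ≃* N) '' c = c
        conv_rhs => rw [← hb, ← ha]
        rw [Set.image_image]
        exact Set.image_congr fun η _ => (irrComp_conj_mul a b η).symm
      inv_mem' := fun {a} ha => by
        show irrTransport (MulAut.conjNormal a⁻¹ : N ≃* N) '' c = c
        conv_lhs => rw [← ha]
        rw [Set.image_image]
        refine (Set.image_congr fun η _ => ?_).trans (Set.image_id _)
        show irrComp (MulAut.conjNormal a⁻¹) (irrComp (MulAut.conjNormal a) η) = η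
        rw [irrComp_conj_mul, mul_inv_cancel, irrComp_conj_one] }
  have := Fintype.ofFinite H
  have hNH : N ≤ H := fun n hn => by
    show irrTransport (MulAut.conjNormal n : N ≃* N) '' c = c
    refine (Set.image_congr fun η _ => ?_).trans (Set.image_id _)
    refine Subtype.ext (funext fun m => ?_)
    show (η : N → ℂ) (MulAut.conjNormal n m) = (η : N → ℂ) m
    rw [← isClassFunction_character (irr_isCharacter η.2) m ⟨n, hn⟩]
    exact congrArg _ (Subtype.ext (by simp [MulAut.conjNormal_apply]))
  have hxH : x ∈ H := by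
    have h1 : x⁻¹ ∈ H := (stabilizesBlock_iff hP hc x).mp hx
    simpa using H.inv_mem h1
  set N' := N.subgroupOf H with hN'
  have := Fintype.ofFinite N'
  let e : N' ≃* N := Subgroup.subgroupOfEquivOfLe hNH
  set c' := irrTransport e '' c with hc'
  have hc'B : IsPBlock M c' := isPBlock_transport e hc
  have hst : ∀ h : H, StabilizesBlock N' c' h := fun h => by
    rw [stabilizesBlock_iff hP hc'B]
    conv_rhs => rw [hc', ← show irrTransport (MulAut.conjNormal (h : G)⁻¹ : N ≃* N) '' c = c from
      H.inv_mem h.2]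
    rw [hc', Set.image_image, Set.image_image]
    refine Set.image_congr fun η _ => Subtype.ext (funext fun m => ?_)
    simp only [irrTransport_apply]
    exact congrArg _ (Subtype.ext rfl)
  obtain ⟨P₀, hidx, -, ⟨g, hg, hgP⟩, -, -⟩ := exists_max_cover hM hc'B hst
  have hindex : ∃ j, N'.index = p ^ j := by
    have h1 : N'.index ∣ p ^ k := hk ▸ Subgroup.relIndex_dvd_index_of_normal N H
    obtain ⟨j, -, hj⟩ := (Nat.dvd_prime_pow hM.1).mp h1
    exact ⟨j, hj⟩
  have htop : P₀ ⊔ N' = ⊤ := by
    obtain ⟨j, hj⟩ := hindex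
    obtain ⟨i, -, hi⟩ := (Nat.dvd_prime_pow hM.1).mp
      (hj ▸ Subgroup.index_dvd_of_le (le_sup_right : N' ≤ P₀ ⊔ N'))
    refine Subgroup.index_eq_one.mp ?_
    rw [hi]
    rcases Nat.eq_zero_or_pos i with h | h
    · rw [h, pow_zero]
    · exact absurd (hi ▸ dvd_pow_self p h.ne') hidx
  set R := P₀.map H.subtype with hR
  have hRp : IsPGroup p R := hgP.isPGroup.map _
  set g₀ : N := e g with hg₀
  have hg₀C : (g₀ : G) ∈ Subgroup.centralizer (R : Set G) := by
    rw [Subgroup.mem_centralizer_iff]
    rintro _ ⟨r, hr, rfl⟩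
    exact congrArg Subtype.val
      (Subgroup.mem_centralizer_iff.mp hgP.self_mem_centralizer r hr)
  -- the covering block is the orbit sum
  obtain ⟨χ, hχ, θ, hθ, hcon⟩ := hcov
  set U := blockCoeff (orbU M θ) with hU
  have hinv := ginv_blockCoeff_orbU (M := M) θ
  have hUI := intClassFun_orbU hM θ
  have hBU : blockCoeff B = extendByZero N U := by
    rw [classFun_eq_sum_idem (isClassFunction_blockCoeff B),
      classFun_eq_sum_idem (isClassFunction_extend hinv)]
    refine Finset.sum_congr rfl fun ψ _ => ?_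
    obtain ⟨η, hη⟩ := exists_constituent (N := N) ψ
    rw [lam_blockCoeff, lam_extend_of_constituent hη hinv, lam_blockCoeff]
    congr 1
    refine if_congr ⟨fun hψ => mem_orbU_of_sameBlock hM (block_sameBlock hP hB hχ hψ) hcon hη,
      fun hη' => ?_⟩ rfl rfl
    obtain ⟨a, ha⟩ := hη'
    exact (mem_block_iff hP hB hχ ψ).mpr
      (sameBlock_of_pIndex hM hk ha hcon (constituent_irrComp hη a))
  -- detection
  set F := extendByZero N (blockCoeff c) with hF
  have hcI := isIntClassFun_blockCoeff hM hc
  have hprod : conv (blockCoeff c) U = blockCoeff c := by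
    conv_rhs => rw [classFun_eq_sum_idem hcI.1]
    rw [classFun_eq_sum_idem (isClassFunction_conv hcI.1 hUI.1)]
    refine Finset.sum_congr rfl fun η _ => ?_
    rw [lam_conv η.2 hcI.1 hUI.1, lam_blockCoeff, lam_blockCoeff]
    by_cases hη : η ∈ c
    · rw [if_pos hη, if_pos, one_mul]
      exact ⟨1, by rw [irrComp_conj_one]; exact block_sameBlock hP hc hθ hη⟩
    · rw [if_neg hη, zero_mul]
  obtain ⟨y, hy, hyu⟩ : ∃ y ∈ Subgroup.centralizer (R : Set G),
      ¬ MemLocalIdeal M (blockCoeff B y) := by
    by_contra hno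
    push Not at hno
    refine hg.2.1 ?_
    have e0 : blockCoeff c' g = conv F (blockCoeff B) (g₀ : G) := by
      rw [hBU, hF, extendByZero_conv, extendByZero_mem N _ g₀.2, hprod, hc', blockCoeff_transport]
    rw [e0]
    have hFr : ∀ z, MemLocalRing M (F z) := memLR_extendByZero hP hcI.2
    have hBr := (isIntClassFun_blockCoeff hM hB).2
    refine memLI_congr hP (sum_centralizer_congr hM hRp
      (fun z => F z * blockCoeff B (z⁻¹ * (g₀ : G))) (fun z => memLR_mul hP (hFr _) (hBr _)) ?_)
      (memLI_sum hP _ _ fun z hz => memLI_mul_left hP (hFr _) (hno _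
        ((Subgroup.centralizer (R : Set G)).mul_mem
          (Subgroup.inv_mem _ (Finset.mem_filter.mp hz).2) hg₀C)))
    rintro u hu z
    obtain ⟨r, hr, rfl⟩ := hu
    have hc2 : (r : G) * (g₀ : G) = (g₀ : G) * r :=
      Subgroup.mem_centralizer_iff.mp hg₀C _ ⟨r, hr, rfl⟩
    simp only [Subgroup.coe_subtype]
    congr 1
    · by_cases hz : z ∈ N
      · rw [hF, extendByZero_mem N _ hz, extendByZero_mem N _ (hN.conj_mem z hz r)]
        have h1 := blockCoeff_transport (MulAut.conjNormal (r : G) : N ≃* N) c ⟨z, hz⟩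
        rw [show irrTransport (MulAut.conjNormal (r : G) : N ≃* N) '' c = c from r.2] at h1
        rw [h1]
        exact congrArg _ (Subtype.ext (MulAut.conjNormal_apply (r : G) (⟨z, hz⟩ : N)).symm)
      · rw [hF, extendByZero_not_mem N _ hz, extendByZero_not_mem]
        exact fun h => hz (by simpa [mul_assoc] using hN.conj_mem _ h (r : G)⁻¹)
    · rw [show ((r : G) * z * (r : G)⁻¹)⁻¹ * (g₀ : G) = (r : G) * (z⁻¹ * g₀) * (r : G)⁻¹ by
        calc ((r : G) * z * (r : G)⁻¹)⁻¹ * (g₀ : G)
            = (r : G) * z⁻¹ * ((r : G)⁻¹ * ((g₀ : G) * r)) * (r : G)⁻¹ := by group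
          _ = (r : G) * z⁻¹ * ((r : G)⁻¹ * ((r : G) * g₀)) * (r : G)⁻¹ := by rw [hc2]
          _ = (r : G) * (z⁻¹ * g₀) * (r : G)⁻¹ := by group]
      exact (isClassFunction_blockCoeff B _ _)
  obtain ⟨gB, hgB, hgBD⟩ := (isDefectGroup_iff B D).mp hD
  obtain ⟨t, ht⟩ := le_defect_of_detect hM hB hgB hgBD hRp hy hyu
  have hle : (⊤ : Subgroup H) ≤ N' := by
    rw [← htop]
    refine sup_le (fun r hr => ?_) le_rfl
    obtain ⟨d, hd, hdr⟩ := ht ⟨r, hr, rfl⟩
    show (r : G) ∈ N
    have h2 : t * d * t⁻¹ = (r : G) := hdr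
    rw [← h2]
    exact hN.conj_mem d (hDN hd) t
  exact hle (Subgroup.mem_top (⟨x, hxH⟩ : H))

end Cfsg.Agent.Char
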