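import Cfsg.Agent.Lib.Char.FirstMain

/-!
# Stable blocks of centralizers inside the whole group
-/

set_option autoImplicit false

namespace Cfsg.Agent.Char

open Cfsg Module
open scoped ComplexConjugate

universe u

variable {G : Type u} [Group G] [Fintype G] {M : Ideal AlgInt} {p : ℕ}

omit [Fintype G] in
theorem eq_of_inf_eq {Q C R : Subgroup G} (hQC : Q ≤ Subgroup.normalizer (C : Set G)) (hQR : Q ≤ R)
    (hR : R ≤ Q ⊔ C) (h : Q ⊓ C = R ⊓ C) : R = Q := by
  refine le_antisymm (fun r hr => ?_) hQR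
  have h1 : r ∈ ((Q ⊔ C : Subgroup G) : Set G) := hR hr
  rw [Subgroup.coe_mul_of_left_le_normalizer_right _ _ hQC] at h1
  obtain ⟨q, hq, c, hc, rfl⟩ := Set.mem_mul.mp h1
  have hca : c ∈ R ⊓ C := ⟨by simpa using mul_mem (inv_mem (hQR hq)) hr, hc⟩
  rw [← h] at hca
  exact mul_mem hq hca.1

theorem mem_of_relIndex_coprime {C H : Subgroup G} [(C.subgroupOf H).Normal] {x : H} {n : ℕ}
    (hn : x ^ n = 1) (hco : n.Coprime (C.relIndex H)) : (x : G) ∈ C := by
  have h1 : (x : H ⧸ C.subgroupOf H) ^ C.relIndex H = 1 :=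
    pow_card_eq_one' (G := H ⧸ C.subgroupOf H)
  have h2 : (x : H ⧸ C.subgroupOf H) ^ n = 1 := by
    rw [← QuotientGroup.mk_pow, hn, QuotientGroup.mk_one]
  have h3 := pow_gcd_eq_one.mpr ⟨h1, h2⟩
  rwa [Nat.Coprime.gcd_eq_one hco.symm, pow_one, QuotientGroup.eq_one_iff] at h3

theorem block_coeff_of_stable_top (hM : IsPModular p M) {Q : Subgroup G}
    {f : Set (IrrCharacter (Subgroup.centralizer (Q : Set G)))} {B : Set (IrrCharacter G)}
    (hB : IsBrauerPairOf p M B Q f)
    (hst : ∀ x : G, x ∈ Subgroup.normalizer (Q : Set G) ∧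
      StabilizesBlock (Subgroup.centralizer (Q : Set G)) f x) :
    ∀ g : G, blockCoeff B g = subgroupBlockCoeff (Subgroup.centralizer (Q : Set G)) f g := by
  haveI := Fintype.ofFinite (⊤ : Subgroup G)
  have hc : StabCtx p M Q f ⊤ := ⟨hB.1.1, hB.1.2, le_top, le_top, fun u _ => hst u⟩
  obtain ⟨b, hb, hbc⟩ := hc.exists_block hM
  set B' := irrTransport (Subgroup.topEquiv (G := G)).symm '' b
  have hB'c : ∀ g : G, blockCoeff B' g = subgroupBlockCoeff (Subgroup.centralizer (Q : Set G)) f g :=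
    fun g => by rw [blockCoeff_transport, hbc]; rfl
  have hpair : IsBrauerPairOf p M B' Q f := by
    refine ⟨hB.1, isPBlock_transport _ hb, ?_⟩
    rw [show blockCoeff B' = subgroupBlockCoeff (Subgroup.centralizer (Q : Set G)) f from funext hB'c]
    exact (isNormalSubpair_self hM hB.1.1 hB.1.2).2.2.2.2.2
  rw [pairOf_unique hM hB hpair]
  exact hB'c

/-- A stable block over a centric subgroup: the block of `Q C(Q)` is nilpotent. -/
theorem nilpotent_of_centric (hM : IsPModular p M) {Q H : Subgroup G} [Fintype H]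
    {f : Set (IrrCharacter (Subgroup.centralizer (Q : Set G)))}
    (hH : H = Q ⊔ Subgroup.centralizer (Q : Set G)) (hQ : IsPGroup p Q) (hf : IsPBlock M f)
    (hdef : IsDefectGroup p M f
      ((Q ⊓ Subgroup.centralizer (Q : Set G)).subgroupOf (Subgroup.centralizer (Q : Set G)))) :
    ∃ F' : Set (IrrCharacter H), IsPBlock M F' ∧
      (∀ t : H, blockCoeff F' t = subgroupBlockCoeff (Subgroup.centralizer (Q : Set G)) f (t : G)) ∧
      IsNilpotentBlock p M F' := by
  classical
  haveI := Fact.mk hM.1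
  have hMp := pmod_prime hM
  have htop := stabCtx_pairStab hM hQ hf
  have hQH : Q ≤ H := le_sup_left.trans hH.ge
  have hCH : Subgroup.centralizer (Q : Set G) ≤ H := le_sup_right.trans hH.ge
  have hHT : H ≤ pairStab hMp hf := hH.le.trans (sup_le htop.le htop.cent)
  have hc : StabCtx p M Q f H := ⟨hQ, hf, hQH, hCH, fun u hu => htop.stab u (hHT hu)⟩
  have hQC : Q ≤ Subgroup.normalizer ((Subgroup.centralizer (Q : Set G) : Subgroup G) : Set G) :=
    fun u hu => (htop.stab u (htop.le hu)).2.1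
  obtain ⟨F', hF', hF'c⟩ := hc.exists_block hM
  refine ⟨F', hF', hF'c, hF', fun R g hR x hx _ hreg => ?_⟩
  obtain ⟨d, hd⟩ := hc.exists_maxOver hM
  have hcard := (hc.inf_defect_iff hM (a := (⟨Q, f⟩ : BrauerPairIdx G))
    (isNormalSubpair_self hM hQ hf) hd).mp hdef
  have hdQ : d.1 = Q := eq_of_inf_eq hQC hd.1.1.2.2.1 (hd.1.2.trans hH.le)
    (Subgroup.eq_of_le_of_card_ge (inf_le_inf_right _ hd.1.1.2.2.1) hcard)
  have hDef := hc.maxOver_defect hM hF' hF'c hd
  rw [hdQ] at hDef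
  obtain ⟨t, ht⟩ := card_pairOf_le hM hDef hR
  haveI : (Q.subgroupOf H).Normal :=
    (Subgroup.normal_subgroupOf_iff_le_normalizer hQH).mpr hc.le_norm
  have hRQ : ∀ r ∈ R, (r : G) ∈ Q := by
    intro r hr
    obtain ⟨w, hw, hwr⟩ := ht hr
    rw [← hwr]
    exact Subgroup.mem_subgroupOf.mp ((inferInstance : (Q.subgroupOf H).Normal).conj_mem w hw t)
  haveI : ((Subgroup.centralizer (Q : Set G)).subgroupOf H).Normal :=
    (Subgroup.normal_subgroupOf_iff_le_normalizer hCH).mpr fun u hu => (hc.stab u hu).2.1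
  have hrel : (Subgroup.centralizer (Q : Set G)).relIndex H ∣ Nat.card Q := by
    rw [hH, sup_comm, relIndex_sup_of_normalizes hQC]
    exact ⟨_, (card_eq_inf_mul_relIndex _ Q).trans (mul_comm _ _)⟩
  obtain ⟨k, hk⟩ := IsPGroup.iff_card.mp hQ
  have hxC : (x : G) ∈ Subgroup.centralizer (Q : Set G) :=
    mem_of_relIndex_coprime (pow_orderOf_eq_one x)
      (Nat.Coprime.coprime_dvd_right hrel (hk ▸ (Nat.Coprime.pow_right k
        (hM.1.coprime_iff_not_dvd.mpr hreg).symm)))
  intro r hr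
  exact Subtype.ext (hxC (r : G) (hRQ r hr))

end Cfsg.Agent.Char
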