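import Cfsg.Agent.Lib.Char.CoverDefect
import Cfsg.Agent.Lib.Char.BlockDim

/-!
# A height zero character fixed by a Sylow subgroup of the stabilizer
-/

set_option autoImplicit false

namespace Cfsg.Agent.Char

open Cfsg Module
open scoped ComplexConjugate Classical

universe u

variable {G : Type u} [Group G] [Fintype G] {M : Ideal AlgInt} {p : ℕ}
variable {N : Subgroup G} [hN : N.Normal] [Fintype N]

/-- A `p`-subgroup stabilizing a block and normalizing a Sylow subgroup of `N` fixes a height zero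
character of the block. -/
theorem exists_fixed_height_zero (hM : IsPModular p M) {b : Set (IrrCharacter N)} (hb : IsPBlock M b)
    {P : Subgroup G} (hP : IsPGroup p P) (S : Subgroup N) [Fintype S]
    (hSp : IsPGroup p S) (hS : ¬ p ∣ S.index)
    (hnorm : ∀ u ∈ P, ∀ s : N, s ∈ S → (MulAut.conjNormal u s : N) ∈ S)
    (hst : ∀ u ∈ P, irrTransport (MulAut.conjNormal u : N ≃* N) '' b = b) :
    ∃ θ ∈ b, blockHeight p b (θ : N → ℂ) = 0 ∧
      ∀ u ∈ P, irrComp (MulAut.conjNormal u) θ = θ := by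
  have hMp := pmod_prime hM
  haveI := Fact.mk hM.1
  have hp := hM.1
  let X := {θ : IrrCharacter N // θ ∈ b}
  choose m hm using fun θ : IrrCharacter N => classInner_natCast
    (isCharacter_comp S.subtype (irr_isCharacter θ.2)) (isCharacter_one (G := S))
  choose d hd using fun θ : IrrCharacter N => charOne_eq_natCast (irr_isCharacter θ.2)
  set v := dmin p b with hv
  have hdeg : ∀ θ : IrrCharacter N, charDegree (θ : N → ℂ) = d θ := fun θ => by
    rw [charDegree, hd, Complex.natCast_re, Nat.floor_natCast]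
  have hdvd : ∀ θ ∈ b, p ^ v ∣ d θ * m θ := fun θ hθ => by
    refine dvd_mul_of_dvd_left ?_ _
    have h0 : d θ ≠ 0 := fun h => irr_one_ne_zero θ.2 (by rw [hd, h, Nat.cast_zero])
    refine (hp.pow_dvd_iff_le_factorization h0).mpr ?_
    rw [← hdeg]
    exact dmin_le hθ
  set a := (Nat.card N).factorization p with ha
  have hScard : Nat.card S = p ^ a := by
    obtain ⟨k, hk⟩ := IsPGroup.iff_card.mp hSp
    have h1 : (Nat.card N).factorization p = k := by
      rw [← S.card_mul_index, Nat.factorization_mul Nat.card_pos.ne'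
        Subgroup.index_ne_zero_of_finite, Finsupp.add_apply, hk, Nat.factorization_pow_self hp,
        Nat.factorization_eq_zero_of_not_dvd hS, add_zero]
    rw [ha, h1, hk]
  -- the degree sum
  have hsum : (∑ θ : X, (d θ.1 * m θ.1 : ℕ)) * p ^ a = ∑ᶠ θ ∈ b, charDegree (θ : N → ℂ) ^ 2 := by
    rw [finsum_mem_irr b]
    have hfilter : ∀ f : IrrCharacter N → ℕ, ∑ θ : X, f θ.1 =
        ∑ θ : IrrCharacter N with θ ∈ b, f θ := fun f =>
      (Finset.sum_subtype _ (fun x => by simp) f).symm
    rw [hfilter fun θ => d θ * m θ, Finset.sum_mul]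
    have hC : ((∑ θ : IrrCharacter N with θ ∈ b, d θ * m θ * p ^ a : ℕ) : ℂ) =
        ((∑ θ : IrrCharacter N with θ ∈ b, charDegree (θ : N → ℂ) ^ 2 : ℕ) : ℂ) := by
      push_cast
      have e1 : ∀ θ : IrrCharacter N, (d θ : ℂ) * (m θ : ℂ) * (p : ℂ) ^ a =
          ∑ s : S, (θ : N → ℂ) 1 * (θ : N → ℂ) (s : N) := fun θ => by
        rw [← hd, ← hm, ← Finset.mul_sum, mul_assoc, classInner]
        congr 1
        rw [mul_comm _ ((p : ℂ) ^ a), ← mul_assoc, hScard, Nat.cast_pow,
          mul_inv_cancel₀ (pow_ne_zero _ (Nat.cast_ne_zero.mpr hp.ne_zero)), one_mul]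
        refine Finset.sum_congr rfl fun s _ => ?_
        simp
      simp only [e1]
      rw [Finset.sum_comm, Finset.sum_eq_single (1 : S) (fun s _ hs => ?_)
        (fun h => absurd (Finset.mem_univ _) h)]
      · refine Finset.sum_congr rfl fun θ _ => ?_
        rw [OneMemClass.coe_one, hd, hdeg, sq]
      · have hsing : p ∣ orderOf (s : N)⁻¹ := by
          obtain ⟨k, hk⟩ := (IsPGroup.iff_orderOf.mp hSp) s
          rw [orderOf_inv, Subgroup.orderOf_coe, hk]
          exact dvd_pow_self p fun h0 => hs (orderOf_eq_one_iff.mp (by rw [hk, h0, pow_zero]))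
        have h0 := weak_orthogonality hM hb (x := (1 : N)) (by simp [hp.ne_one]) hsing
        rw [finsum_mem_irr] at h0
        rw [← h0]
        refine Finset.sum_congr rfl fun θ _ => ?_
        rw [char_inv (irr_isCharacter θ.2), Complex.conj_conj]
    exact_mod_cast hC
  have hv2 : (∑ θ : X, (d θ.1 * m θ.1 : ℕ)).factorization p = v := by
    have h1 := factorization_sum_sq hM hb
    have h2 := dmin_add_defect (p := p) (block_nonempty hMp hb)
    rw [← hsum] at h1
    have hne : (∑ θ : X, (d θ.1 * m θ.1 : ℕ)) ≠ 0 := by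
      intro h0
      rw [h0, zero_mul] at hsum
      obtain ⟨θ, hθ⟩ := block_nonempty hMp hb
      rw [finsum_mem_irr b] at hsum
      have h3 := Finset.sum_eq_zero_iff.mp hsum.symm θ (by simp [hθ])
      rw [hdeg] at h3
      exact irr_one_ne_zero θ.2 (by rw [hd, pow_eq_zero_iff two_ne_zero |>.mp h3, Nat.cast_zero])
    rw [Nat.factorization_mul hne (pow_ne_zero _ hp.ne_zero), Finsupp.add_apply,
      Nat.factorization_pow_self hp] at h1
    omega
  -- the action
  let act : MulAction P X :=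
    { smul := fun u θ => ⟨irrComp (MulAut.conjNormal (u : G)⁻¹) θ.1, by
        have h := hst (u : G)⁻¹ (P.inv_mem u.2)
        exact h.subset ⟨θ.1, θ.2, rfl⟩⟩
      one_smul := fun θ => Subtype.ext (by
        show irrComp (MulAut.conjNormal ((1 : P) : G)⁻¹) θ.1 = θ.1
        rw [OneMemClass.coe_one, inv_one, irrComp_conj_one])
      mul_smul := fun u w θ => Subtype.ext (by
        show irrComp (MulAut.conjNormal ((u * w : P) : G)⁻¹) θ.1 =
          irrComp (MulAut.conjNormal (u : G)⁻¹) (irrComp (MulAut.conjNormal (w : G)⁻¹) θ.1)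
        rw [irrComp_conj_mul, Subgroup.coe_mul, mul_inv_rev]) }
  have hinv : ∀ (u : P) (θ : X), d (u • θ).1 * m (u • θ).1 = d θ.1 * m θ.1 := by
    intro u θ
    have e1 : d (u • θ).1 = d θ.1 := by
      have h1 := hd (u • θ).1
      rw [show ((u • θ).1 : N → ℂ) 1 = (θ.1 : N → ℂ) (MulAut.conjNormal (u : G)⁻¹ 1) from rfl,
        map_one, hd] at h1
      exact_mod_cast h1.symm
    have e2 : m (u • θ).1 = m θ.1 := by
      let β : S ≃ S :=
        { toFun := fun s => ⟨MulAut.conjNormal (u : G)⁻¹ (s : N), hnorm _ (P.inv_mem u.2) _ s.2⟩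
          invFun := fun s => ⟨MulAut.conjNormal (u : G) (s : N), hnorm _ u.2 _ s.2⟩
          left_inv := fun s => Subtype.ext (by
            show MulAut.conjNormal (u : G) (MulAut.conjNormal (u : G)⁻¹ (s : N)) = (s : N)
            rw [map_inv, MulAut.apply_inv_self])
          right_inv := fun s => Subtype.ext (by
            show MulAut.conjNormal (u : G)⁻¹ (MulAut.conjNormal (u : G) (s : N)) = (s : N)
            rw [map_inv, MulAut.inv_apply_self]) }
      have h1 : classInner (((u • θ).1 : N → ℂ) ∘ S.subtype) (fun _ => 1) =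
          classInner ((θ.1 : N → ℂ) ∘ S.subtype) (fun _ => 1) := by
        simp only [classInner]
        congr 1
        exact Fintype.sum_equiv β _ _ fun s => rfl
      rw [hm, hm] at h1
      exact_mod_cast h1
    rw [e1, e2]
  have h1 := sum_fixedPoints_congr (X := X) (S := P) hM hP
    (fun θ => (((d θ.1 * m θ.1) / p ^ v : ℕ) : ℂ)) (fun θ => memLR_natCast hMp _)
    (fun u θ => by simp only [hinv u θ])
  obtain ⟨θ, hfix, hθ⟩ : ∃ θ : X, θ ∈ MulAction.fixedPoints P X ∧ ¬ p ∣ (d θ.1 * m θ.1) / p ^ v := by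
    by_contra hno
    push Not at hno
    have h2 := memLI_congr hMp h1 (memLI_sum hMp _ _ fun θ hθ =>
      (memLI_natCast_iff hM _).mpr (hno θ (Finset.mem_filter.mp hθ).2))
    rw [← Nat.cast_sum, memLI_natCast_iff hM] at h2
    have h3 : p ^ (v + 1) ∣ ∑ θ : X, (d θ.1 * m θ.1 : ℕ) := by
      rw [pow_succ, Finset.sum_congr rfl fun θ (_ : θ ∈ Finset.univ) =>
        (Nat.mul_div_cancel' (hdvd θ.1 θ.2)).symm, ← Finset.mul_sum]
      exact Nat.mul_dvd_mul_left _ h2
    by_cases h0 : (∑ θ : X, (d θ.1 * m θ.1 : ℕ)) = 0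
    · rw [h0, zero_mul, finsum_mem_irr b] at hsum
      obtain ⟨θ, hθ⟩ := block_nonempty hMp hb
      have h4 := Finset.sum_eq_zero_iff.mp hsum.symm θ (by simp [hθ])
      rw [hdeg] at h4
      exact irr_one_ne_zero θ.2 (by rw [hd, pow_eq_zero_iff two_ne_zero |>.mp h4, Nat.cast_zero])
    · have := (hp.pow_dvd_iff_le_factorization h0).mp h3
      omega
  refine ⟨θ.1, θ.2, (blockHeight_eq_zero_iff θ.2).mpr ?_, fun u hu => ?_⟩
  · refine le_antisymm ?_ (dmin_le θ.2)
    have h0 : d θ.1 ≠ 0 := fun h => irr_one_ne_zero θ.1.2 (by rw [hd, h, Nat.cast_zero])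
    show (charDegree (θ.1 : N → ℂ)).factorization p ≤ v
    rw [hdeg]
    by_contra hlt
    obtain ⟨q, hq⟩ : p ^ (v + 1) ∣ d θ.1 := (hp.pow_dvd_iff_le_factorization h0).mpr (by omega)
    exact hθ ⟨q * m θ.1, by
      rw [hq, pow_succ, mul_assoc, mul_assoc, Nat.mul_div_cancel_left _ (pow_pos hp.pos _)]⟩
  · have h2 := congrArg Subtype.val (hfix (⟨u, hu⟩⁻¹ : P))
    have h3 : irrComp (MulAut.conjNormal (u⁻¹ : G)⁻¹) θ.1 = θ.1 := h2
    rwa [inv_inv] at h3

end Cfsg.Agent.Char
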