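import Cfsg.Agent.Lib.Char.StarInteger
import Cfsg.Agent.Lib.Char.CentralPairs

/-!
# Linear characters of a defect group trivial on the focal subgroup permute the characters of the block

The permutation is free on the characters of height zero; in each height the stabilizers are trivial on the
centre of the defect group. So the numbers of characters of a given height are divisible by the orbit lengths.
-/

set_option autoImplicit false
set_option linter.unusedSectionVars false
set_option linter.style.haveILetI false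

namespace Cfsg.Agent.Char.Star

open Cfsg Module Relation
open scoped ComplexConjugate

universe u

variable {G : Type u} [Group G] [Fintype G] {M : Ideal AlgInt} {p : ℕ} {B : Set (IrrCharacter G)}
  {P : Subgroup G} {e : Set (IrrCharacter (Subgroup.centralizer (P : Set G)))}

open scoped Classical in
/-- The extension of a linear character of `P` by zero. -/
noncomputable def linFun (l : P →* ℂˣ) (g : G) : ℂ := if h : g ∈ P then (l ⟨g, h⟩ : ℂ) else 0

theorem linFun_mem (l : P →* ℂˣ) (x : P) : linFun l (x : G) = (l x : ℂ) := by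
  rw [linFun, dif_pos x.2]

theorem linFun_mul (l l' : P →* ℂˣ) : linFun (l * l') = linFun l * linFun l' := by
  funext g
  rw [Pi.mul_apply, linFun, linFun, linFun]
  split_ifs with h
  · rfl
  · rw [mul_zero]

theorem isCharacter_linFun (l : P →* ℂˣ) : IsCharacter P fun x : P => linFun l (x : G) := by
  simp only [linFun_mem]
  exact isCharacter_linear l

theorem integral_linFun (l : P →* ℂˣ) : ∀ v ∈ P, IsIntegral ℤ (linFun l v) := fun v hv => by
  haveI := Fintype.ofFinite P
  rw [show linFun l v = _ from linFun_mem l ⟨v, hv⟩]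
  exact char_isIntegral (isCharacter_linear l) _

theorem normSq_linFun (l : P →* ℂˣ) {v : G} (hv : v ∈ P) : linFun l v * conj (linFun l v) = 1 := by
  rw [show linFun l v = _ from linFun_mem l ⟨v, hv⟩]
  have h1 : (l ⟨v, hv⟩ : ℂ) ^ orderOf (⟨v, hv⟩ : P) = 1 := by
    rw [← Units.val_pow_eq_pow_val, ← map_pow, pow_orderOf_eq_one, map_one, Units.val_one]
  rw [conj_root (orderOf_pos _).ne' h1, mul_inv_cancel₀ (Units.ne_zero _)]

section Fix

variable (hM : IsPModular p M) (hmax : IsMaximalBrauerPair p M B P e)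

include hM hmax in
theorem stable_linFun {F : FusionSystem P} (hF : IsBlockFusionSystemOn p M B P e F) {l : P →* ℂˣ}
    (hl : ∀ x : P, (x : G) ∈ F.focalSubgroup → l x = 1) : Stable p M P e (linFun l) := by
  intro a v k ha h1 h2
  obtain ⟨Q, f⟩ := a
  dsimp only at ha
  subst ha
  have hv : v ∈ P := subpair_rel_le h1 (Subgroup.mem_zpowers v)
  have hkv : k * v * k⁻¹ ∈ P := subpair_rel_le h2 ⟨v, Subgroup.mem_zpowers v, rfl⟩
  have hφ : conjHom (Subgroup.zpowers v) k ∈ F.Hom (Subgroup.zpowers v) :=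
    (hF.2 _ _).mpr ⟨subpair_rel_le h1, k, fun u => rfl, subpair_rel_le h2, f, h1, h2⟩
  have hmem : v⁻¹ * (k * v * k⁻¹) ∈ F.focalSubgroup :=
    Subgroup.subset_closure ⟨_, conjHom (Subgroup.zpowers v) k, ⟨v, Subgroup.mem_zpowers v⟩, hφ, rfl⟩
  have h := hl ((⟨v, hv⟩ : P)⁻¹ * ⟨k * v * k⁻¹, hkv⟩) hmem
  rw [map_mul, map_inv, inv_mul_eq_one] at h
  rw [show linFun l (k * v * k⁻¹) = _ from linFun_mem l ⟨_, hkv⟩, show linFun l v = _ from linFun_mem l ⟨v, hv⟩, h]

variable {l : P →* ℂˣ} (hlam : Stable p M P e (linFun l))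

include hM hmax hlam in
theorem inner_linFun (χ φ : IrrCharacter G) (hχ : χ ∈ B) (hφ : φ ∈ B) :
    classInner (theta p M B P e (linFun l) (χ : G → ℂ)) (theta p M B P e (linFun l) (φ : G → ℂ)) =
      classInner (χ : G → ℂ) (φ : G → ℂ) := by
  conv_rhs => rw [← theta_one hM hmax hχ, ← theta_one hM hmax hφ]
  rw [inner_theta hM _ _ (irr_isCharacter χ.2) (irr_isCharacter φ.2),
    inner_theta hM _ _ (irr_isCharacter χ.2) (irr_isCharacter φ.2)]
  congr 1
  refine Finset.sum_congr rfl fun u _ => Finset.sum_congr rfl fun a ha => ?_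
  obtain ⟨g, hg, -, hw⟩ := exists_into hM hmax hlam ha
  rw [hw, normSq_linFun l hg, wt_one hM hmax ha, map_one, mul_one]

include hM hmax hlam in
theorem exists_act (χ : IrrCharacter G) (hχ : χ ∈ B) :
    ∃ ψ : IrrCharacter G, ψ ∈ B ∧ theta p M B P e (linFun l) (χ : G → ℂ) = (ψ : G → ℂ) ∧
      blockHeight p B (ψ : G → ℂ) = blockHeight p B (χ : G → ℂ) := by
  haveI := Fintype.ofFinite P
  have hdeg : theta p M B P e (linFun l) (χ : G → ℂ) 1 = (χ : G → ℂ) 1 := by
    rw [theta_degree hM hmax hlam hχ, show linFun l (1 : G) = _ from linFun_mem l 1, map_one, Units.val_one, one_mul]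
  obtain ⟨ψ, hψ, e⟩ := exists_irr hM hmax hlam (intComb_char (pmod_prime hM) (isCharacter_linFun l))
    (galOn_char (isCharacter_linFun l)) (integral_linFun l) (irr_isCharacter χ.2)
    (by rw [inner_linFun hM hmax hlam χ χ hχ hχ, irr_orth χ.2 χ.2, if_pos rfl])
    (hdeg.trans (char_one_eq_deg (irr_isCharacter χ.2)))
  refine ⟨ψ, hψ, e, ?_⟩
  unfold blockHeight charDegree
  rw [← e, hdeg]

open scoped Classical in
include hM hmax hlam in
/-- A fixed character sees only pairs where the weight is one. -/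
theorem weight_one_of_fixed {χ : IrrCharacter G} (hχ : χ ∈ B)
    (hfix : theta p M B P e (linFun l) (χ : G → ℂ) = (χ : G → ℂ)) {v : G} (hv : v ∈ P)
    {f : Set (IrrCharacter (Subgroup.centralizer (Subgroup.zpowers v : Set G)))}
    (hf : SubpairLE p M (Subgroup.zpowers v) f P e) {s : G} (hs : s ∈ regC p v)
    (hne : pc (χ : G → ℂ) (v * s) ⟨Subgroup.zpowers v, f⟩ ≠ 0) : linFun l v = 1 := by
  haveI := Fact.mk hM.1
  have hfb : IsBrauerPair p M (Subgroup.zpowers v) f := isBrauerPair_of_le hmax.1.1 hf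
  obtain ⟨k, hk⟩ := IsPGroup.iff_card.mp hfb.1
  have hu : ∃ k : ℕ, orderOf v = p ^ k := ⟨k, by rwa [Nat.card_zpowers] at hk⟩
  have hmem : (⟨Subgroup.zpowers v, f⟩ : BrauerPairIdx G) ∈ prs p M B v :=
    mem_prs.mpr ⟨rfl, (brauerPairOf_subpair hM hmax.1.2.1 hf).mpr hmax.1⟩
  have h := pc_theta hM hlam (isClassFunction_character (irr_isCharacter χ.2)) hu hmem hs
  rw [hfix] at h
  have hw : wt p M P e (linFun l) v (⟨Subgroup.zpowers v, f⟩ : BrauerPairIdx G) = linFun l v := by
    have h1 : ReflTransGen (NormalSubpairRel p M) (conjIdx 1 (⟨Subgroup.zpowers v, f⟩ : BrauerPairIdx G)) ⟨P, e⟩ :=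
      (conjIdx_one (pmod_prime hM) (⟨Subgroup.zpowers v, f⟩ : BrauerPairIdx G) hfb.2).symm ▸ hf
    rw [wt_eq hM hlam (a := (⟨Subgroup.zpowers v, f⟩ : BrauerPairIdx G)) rfl hfb.2 h1, one_mul, inv_one, mul_one]
  rw [hw] at h
  exact (mul_eq_right₀ hne).mp h.symm

end Fix

section Unit

variable {v : G}

open scoped Classical in
/-- A non-zero contribution gives a non-zero part. -/
theorem exists_part_ne (hM : IsPModular p M) (hv : ∃ k : ℕ, orderOf v = p ^ k)
    {f : Set (IrrCharacter (Subgroup.centralizer (Subgroup.zpowers v : Set G)))} (hfb : IsPBlock M f)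
    (hind : IsInducedBlock M (Subgroup.centralizer (Subgroup.zpowers v : Set G)) f B)
    {χ : IrrCharacter G} (hχ : χ ∈ B)
    (h : blockHeight p B (χ : G → ℂ) = 0 ∨ blockDefect p f = blockDefect p B) :
    ∃ s ∈ regC p v, pc (χ : G → ℂ) (v * s) ⟨Subgroup.zpowers v, f⟩ ≠ 0 := by
  have hP := pmod_prime hM
  haveI : Fintype (Subgroup.centralizer ({v} : Set G)) := Fintype.ofFinite _
  obtain ⟨φ, hφb, hφd, hφc, hφi⟩ := CentralPairs.exists_same (B := B) (p := p) (centralizer_zp v) f hfb
  have hind' := hφi hind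
  obtain ⟨k, hk⟩ := hv
  obtain ⟨ω, hω⟩ : ∃ ω : ℂ, IsPrimitiveRoot ω (p ^ k) :=
    ⟨_, Complex.isPrimitiveRoot_exp (p ^ k) (pow_ne_zero k hM.1.ne_zero)⟩
  obtain ⟨j, -, hz⟩ := MajorSub.exists_expo hk hω
  set z : IrrCharacter (Subgroup.centralizer ({v} : Set G)) → ℂ := fun η => ω ^ j η with hzd
  have hzk : ∀ η, z η ^ p ^ k = 1 := fun η => by
    rw [hzd, ← pow_mul, mul_comm, pow_mul, hω.pow_eq_one, one_pow]
  have hzc : ∀ η, conj (z η) = (z η)⁻¹ := fun η => conj_root (pow_ne_zero k hM.1.ne_zero) (hzk η)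
  by_contra hall
  push Not at hall
  have hloc : ∀ s : Subgroup.centralizer ({v} : Set G), ¬ p ∣ orderOf s →
      MajorSub.locFun φ z χ s = 0 := by
    intro s hs
    rw [← MajorSub.blockPart_secFun_eq hz, ← sum_blockCoeff_shift φ
      (isClassFunction_secFun (isClassFunction_character (irr_isCharacter χ.2))) s]
    have h0 := hall (s : G) (mem_regC.mpr ⟨(Subgroup.mem_centralizer_singleton_iff.mp s.2).symm,
      by rwa [Subgroup.orderOf_coe]⟩)
    rw [pc, ← hφc, subgroupBlockCoeff_eq, sum_extendByZero_mul] at h0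
    rw [← h0]
    refine Finset.sum_congr rfl fun c _ => ?_
    congr 1
    show (χ : G → ℂ) (v * ((c : G) * (s : G))) = (χ : G → ℂ) ((c : G) * (v * (s : G)))
    rw [← mul_assoc, ← mul_assoc, cent_mul_comm c]
  have hctr : ∀ ψ : IrrCharacter G, ctr p φ z χ ψ = 0 := fun ψ => by
    rw [← MajorSub.sum_locFun_mul_conj hzc hM hφb χ ψ, Finset.sum_eq_zero fun s hs => ?_, mul_zero]
    rw [hloc s (Finset.mem_filter.mp hs).2, zero_mul]
  rcases h with h | h
  · refine ctr_one_unit hM hind' hχ hχ h h (memLI_congr hP (memLI_symm hP (MajorSub.ctr_congr_one hM hzk χ χ)) ?_)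
    rw [hctr]
    exact memLI_zero hP
  · obtain ⟨χ0, hχ0, h0⟩ := exists_height_zero (p := p) (block_nonempty hP hind.2.1)
    obtain ⟨w, -, hw, hwiff⟩ := MajorSub.major_unit hz hzk hM hk hind' (hφd.trans h) hχ hχ0
    rw [hctr] at hw
    rcases mul_eq_zero.mp hw.symm with h1 | h1
    · exact pow_ne_zero _ (Nat.cast_ne_zero.mpr hM.1.ne_zero) h1
    · exact hwiff.mp (by rw [h1]; exact memLI_zero hP) h0

end Unit

/-- A group acting with stabilizers inside `K` has the index of `K` dividing the number of points. -/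
theorem index_dvd_card {A X : Type*} [Group A] [Finite A] [Finite X] [MulAction A X] (K : Subgroup A)
    (h : ∀ x : X, MulAction.stabilizer A x ≤ K) : K.index ∣ Nat.card X := by
  classical
  haveI := Fintype.ofFinite (MulAction.orbitRel.Quotient A X)
  rw [Nat.card_congr (MulAction.selfEquivSigmaOrbits A X), Nat.card_sigma]
  refine Finset.dvd_sum fun ω _ => ?_
  rw [Nat.card_coe_set_eq, ← MulAction.index_stabilizer]
  exact Subgroup.index_dvd_of_le (h ω.out)

/-- The number of characters of a height is divisible by the index of the focal subgroup inside a subgroup on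
which the stabilizers are trivial. -/
theorem count_dvd (hM : IsPModular p M) {F : FusionSystem P} (hF : IsBlockFusionSystemOn p M B P e F) (h : ℕ)
    (Z : Subgroup P)
    (hfree : ∀ (l : P →* ℂˣ), Stable p M P e (linFun l) → ∀ χ : IrrCharacter G, χ ∈ B →
      blockHeight p B (χ : G → ℂ) = h → theta p M B P e (linFun l) (χ : G → ℂ) = (χ : G → ℂ) →
      ∀ z ∈ Z, l z = 1) :
    (F.focalSubgroup.subgroupOf P).relIndex Z ∣
      Nat.card {χ : IrrCharacter G // χ ∈ B ∧ blockHeight p B (χ : G → ℂ) = h} := by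
  classical
  have hmax := hF.1
  set N := F.focalSubgroup.subgroupOf P with hN
  have hcomm : ∀ x y : P, x⁻¹ * (y * x * y⁻¹) ∈ N := fun x y =>
    Subgroup.subset_closure ⟨P, conjHom P (y : G), x, F.conj_mem le_rfl y.2, rfl⟩
  haveI hNn : N.Normal := ⟨fun n hn g => by
    have h1 := mul_mem hn (hcomm n g)
    rwa [mul_inv_cancel_left] at h1⟩
  letI : CommGroup (P ⧸ N) :=
    { (inferInstance : Group (P ⧸ N)) with
      mul_comm := fun a b => by
        induction a using QuotientGroup.induction_on with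
        | H a =>
          induction b using QuotientGroup.induction_on with
          | H b =>
            rw [← QuotientGroup.mk_mul, ← QuotientGroup.mk_mul, QuotientGroup.eq]
            have h1 := hcomm b a⁻¹
            rw [inv_inv] at h1
            rwa [mul_inv_rev, ← mul_assoc, mul_assoc b⁻¹, mul_assoc b⁻¹] at * }
  haveI : NeZero (Monoid.exponent (P ⧸ N)) := ⟨Monoid.exponent_ne_zero_of_finite⟩
  haveI : Finite ((P ⧸ N) →* ℂˣ) := Nat.finite_of_card_ne_zero (by
    rw [CommGroup.card_monoidHom_of_hasEnoughRootsOfUnity]; exact Nat.card_pos.ne')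
  let lf : ((P ⧸ N) →* ℂˣ) → (P →* ℂˣ) := fun μ => μ.comp (QuotientGroup.mk' N)
  have hst : ∀ μ, Stable p M P e (linFun (lf μ)) := fun μ => stable_linFun hM hmax hF fun x hx => by
    show μ (QuotientGroup.mk x) = 1
    rw [(QuotientGroup.eq_one_iff x).mpr hx, map_one]
  let X := {χ : IrrCharacter G // χ ∈ B ∧ blockHeight p B (χ : G → ℂ) = h}
  choose act hactB hact hacth using fun (μ : (P ⧸ N) →* ℂˣ) (χ : X) =>
    exists_act hM hmax (hst μ) χ.1 χ.2.1
  letI : MulAction ((P ⧸ N) →* ℂˣ) X :=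
    { smul := fun μ χ => ⟨act μ χ, hactB μ χ, (hacth μ χ).trans χ.2.2⟩
      one_smul := fun χ => Subtype.ext (Subtype.ext (by
        show (act 1 χ : G → ℂ) = _
        rw [← hact]
        conv_rhs => rw [← theta_one hM hmax χ.2.1]
        funext g
        refine Finset.sum_congr rfl fun a ha => ?_
        obtain ⟨w, hw, -, e1⟩ := exists_into hM hmax (hst 1) ha
        rw [e1, wt_one hM hmax ha, show linFun (lf 1) _ = _ from linFun_mem (lf 1) ⟨_, hw⟩]
        rfl))
      mul_smul := fun μ ν χ => Subtype.ext (Subtype.ext (by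
        show (act (μ * ν) χ : G → ℂ) = (act μ ⟨act ν χ, _⟩ : G → ℂ)
        rw [← hact, ← hact]
        show _ = theta p M B P e (linFun (lf μ)) (act ν χ : G → ℂ)
        rw [← hact, theta_theta hM _ (hst ν) (isClassFunction_character (irr_isCharacter χ.1.2)),
          ← linFun_mul]
        rfl)) }
  set Z' := Z.map (QuotientGroup.mk' N) with hZ'
  let R : ((P ⧸ N) →* ℂˣ) →* (Z' →* ℂˣ) := MonoidHom.domRestrictHom Z' ℂˣ
  have hstab : ∀ χ : X, MulAction.stabilizer ((P ⧸ N) →* ℂˣ) χ ≤ R.ker := by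
    intro χ μ hμ
    rw [MonoidHom.mem_ker]
    refine MonoidHom.ext fun ⟨q, hq⟩ => ?_
    obtain ⟨z, hz, rfl⟩ := hq
    refine hfree (lf μ) (hst μ) χ.1 χ.2.1 χ.2.2 ?_ z hz
    rw [hact μ χ]
    exact congrArg (fun c : X => (c.1 : G → ℂ)) hμ
  haveI : NeZero (Monoid.exponent Z') := ⟨Monoid.exponent_ne_zero_of_finite⟩
  have h1 : R.ker.index = Nat.card Z' := by
    rw [Subgroup.index_ker, MonoidHom.range_eq_top.mpr (MonoidHom.domRestrict_surjective ℂ Z'),
      Subgroup.card_top, CommGroup.card_monoidHom_of_hasEnoughRootsOfUnity]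
  have h2 : N.relIndex Z = Nat.card Z' := by
    rw [← Subgroup.relIndex_ker, QuotientGroup.ker_mk']
  rw [h2, ← h1]
  exact index_dvd_card R.ker hstab

/-- The height zero characters. -/
theorem height_zero_count (hM : IsPModular p M) {F : FusionSystem P} (hF : IsBlockFusionSystemOn p M B P e F) :
    (F.focalSubgroup.subgroupOf P).index ∣
      Nat.card {χ : IrrCharacter G // χ ∈ B ∧ blockHeight p B (χ : G → ℂ) = 0} := by
  haveI := Fact.mk hM.1
  rw [← Subgroup.relIndex_top_right]
  refine count_dvd hM hF 0 ⊤ fun l hl χ hχ h0 hfix z _ => ?_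
  have hmax := hF.1
  have hle : Subgroup.zpowers (z : G) ≤ P := Subgroup.zpowers_le.mpr z.2
  obtain ⟨f, ⟨hfb, hf⟩, -⟩ := existsUnique_subpair hM hmax.1.1 hle
  have hS := (isBrauerPair_of_le hmax.1.1 hf).1
  obtain ⟨k, hk⟩ := IsPGroup.iff_card.mp hS
  have hQ : Subgroup.zpowers (z : G) ≤ Subgroup.centralizer (Subgroup.zpowers (z : G) : Set G) :=
    Subgroup.zpowers_le.mpr (mem_czp.mpr (Commute.refl _))
  have hind := CentralPairs.induced_of_pair hM hQ ((brauerPairOf_subpair hM hmax.1.2.1 hf).mpr hmax.1)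
  obtain ⟨s, hs, hne⟩ := exists_part_ne hM ⟨k, by rwa [Nat.card_zpowers] at hk⟩ hfb hind hχ (Or.inl h0)
  have h := weight_one_of_fixed hM hmax hl hχ hfix z.2 hf hs hne
  rw [linFun_mem] at h
  exact Units.val_eq_one.mp h

/-- All heights. -/
theorem height_count (hM : IsPModular p M) {F : FusionSystem P} (hF : IsBlockFusionSystemOn p M B P e F) (h : ℕ) :
    ((P ⊓ Subgroup.centralizer (P : Set G) ⊓ F.focalSubgroup).subgroupOf (P ⊓ Subgroup.centralizer (P : Set G))).index ∣
      Nat.card {χ : IrrCharacter G // χ ∈ B ∧ blockHeight p B (χ : G → ℂ) = h} := by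
  haveI := Fact.mk hM.1
  rw [show ((P ⊓ Subgroup.centralizer (P : Set G) ⊓ F.focalSubgroup).subgroupOf
      (P ⊓ Subgroup.centralizer (P : Set G))).index =
      (F.focalSubgroup.subgroupOf P).relIndex ((P ⊓ Subgroup.centralizer (P : Set G)).subgroupOf P) by
    rw [Subgroup.relIndex_subgroupOf inf_le_left, ← Subgroup.inf_relIndex_left]
    exact congrArg (fun H : Subgroup G => (H.subgroupOf (P ⊓ Subgroup.centralizer (P : Set G))).index) rfl]
  refine count_dvd hM hF h _ fun l hl χ hχ _ hfix z hz => ?_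
  have hmax := hF.1
  have hzD : ∀ d ∈ P, d * (z : G) = (z : G) * d := fun d hd => (Subgroup.mem_subgroupOf.mp hz).2 d hd
  obtain ⟨f, hn, -, hind, hdef⟩ := CentralPairs.exists_below hM hmax z.2 hzD
  obtain ⟨k, hk⟩ := IsPGroup.iff_card.mp hn.1.1
  obtain ⟨s, hs, hne⟩ := exists_part_ne hM ⟨k, by rwa [Nat.card_zpowers] at hk⟩ hn.1.2 hind hχ (Or.inr hdef)
  have h := weight_one_of_fixed hM hmax hl hχ hfix z.2 (ReflTransGen.single hn) hs hne
  rw [linFun_mem] at h
  exact Units.val_eq_one.mp h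

end Cfsg.Agent.Char.Star
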