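import Cfsg.Agent.Lib.Char.Rational
import Cfsg.Agent.Lib.Char.Galois
import Cfsg.Agent.Lib.Char.Central
import Cfsg.Agent.Lib.Char.ContributionBound

/-!
# Families of algebraic integers of total norm their number
-/

set_option autoImplicit false
set_option linter.unusedSectionVars false

open scoped ComplexConjugate

namespace Cfsg.Agent.Char.StarNorm

open Cfsg

universe u

variable {A : Type u} [Group A] [Fintype A] {ι : Type*} [Fintype ι]

theorem eq_one_of_sum_le {ι : Type*} [Fintype ι] (f : ι → ℝ) (hf : ∀ i, 0 < f i)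
    (h : 1 ≤ ∏ i, f i) (hs : ∑ i, f i ≤ Fintype.card ι) (i : ι) : f i = 1 := by
  have h1 : 0 ≤ ∑ i, Real.log (f i) := by
    rw [← Real.log_prod fun i _ => (hf i).ne']
    exact Real.log_nonneg h
  have h2 : ∀ j, 0 ≤ f j - 1 - Real.log (f j) := fun j => by
    have := Real.log_le_sub_one_of_pos (hf j); linarith
  have h3 : ∑ j, (f j - 1 - Real.log (f j)) = 0 := by
    refine le_antisymm ?_ (Finset.sum_nonneg fun j _ => h2 j)
    rw [Finset.sum_sub_distrib, Finset.sum_sub_distrib, Finset.sum_const, Finset.card_univ, nsmul_one]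
    linarith
  have h4 := (Finset.sum_eq_zero_iff_of_nonneg fun j _ => h2 j).mp h3 i (Finset.mem_univ i)
  by_contra hne
  have := Real.log_lt_sub_one_of_pos (hf i) hne
  linarith

open scoped Classical in
/-- Equivariant algebraic integers whose conjugate squares add up to their number have absolute value one. -/
theorem mul_conj_eq_one (a : ι → A → ℂ) (hgal : ∀ i, GalEquiv (a i)) (y : A)
    (hint : ∀ i, ∀ k : ℕ, k.Coprime (Nat.card A) → IsIntegral ℤ (a i (y ^ k)))
    (hne : ∀ i, ∀ k : ℕ, k.Coprime (Nat.card A) → a i (y ^ k) ≠ 0)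
    (hsum : ∀ k : ℕ, k.Coprime (Nat.card A) →
      ∑ i, a i (y ^ k) * conj (a i (y ^ k)) = (Fintype.card ι : ℂ)) (i : ι) :
    a i y * conj (a i y) = 1 := by
  set N := Nat.card A with hN
  have hN0 : N ≠ 0 := Nat.card_pos.ne'
  set K : Finset ℕ := (Finset.range N).filter fun k => k.Coprime N with hK
  have hKc : ∀ k ∈ K, k.Coprime N := fun k hk => (Finset.mem_filter.mp hk).2
  have hpow : ∀ k, y ^ (k % N) = y ^ k := fun k => by rw [hN, pow_mod_natCard]
  have hmem : ∀ i k, a i (y ^ k) ∈ cyc N := fun i k => (hgal i (y ^ k)).1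
  set X0 : cyc N := ∏ x ∈ (Finset.univ : Finset ι) ×ˢ K, ⟨a x.1 (y ^ x.2), hmem _ _⟩ with hX0
  have hX0v : (X0 : ℂ) = ∏ x ∈ (Finset.univ : Finset ι) ×ˢ K, a x.1 (y ^ x.2) := by
    rw [hX0]
    show (cyc N).val _ = _
    rw [map_prod]
    rfl
  obtain ⟨r, hr⟩ := exists_rat_of_fixed hN0 X0.2 fun φ => by
    obtain ⟨j, hj, hφ⟩ := exists_power_of_embedding hN0 φ
    show φ X0 = (X0 : ℂ)
    rw [hX0v, hX0, map_prod]
    rw [Finset.prod_congr rfl fun x _ => (hgal x.1 (y ^ x.2)).2 φ j hj hφ]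
    have hinjK : Set.InjOn (fun k => k * j % N) K := by
      intro k hk k' hk' h
      have h1 : k ≡ k' [MOD N] := Nat.ModEq.cancel_right_of_coprime (by rwa [Nat.Coprime, Nat.gcd_comm] at hj) h
      have hk1 := Finset.mem_range.mp (Finset.mem_filter.mp hk).1
      have hk2 := Finset.mem_range.mp (Finset.mem_filter.mp hk').1
      rwa [Nat.ModEq, Nat.mod_eq_of_lt hk1, Nat.mod_eq_of_lt hk2] at h1
    have hmaps : ∀ k ∈ K, k * j % N ∈ K := fun k hk => Finset.mem_filter.mpr
      ⟨Finset.mem_range.mpr (Nat.mod_lt _ (Nat.pos_of_ne_zero hN0)), by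
        rw [Nat.Coprime, ← Nat.gcd_rec, Nat.gcd_comm]
        exact (hKc k hk).mul_left hj⟩
    refine Finset.prod_bij (fun x _ => (x.1, x.2 * j % N))
      (fun x hx => Finset.mem_product.mpr ⟨Finset.mem_univ _, hmaps _ (Finset.mem_product.mp hx).2⟩)
      (fun x hx x' hx' h => ?_) (fun x hx => ?_) (fun x _ => by rw [hpow, pow_mul])
    · simp only [Prod.mk.injEq] at h
      exact Prod.ext h.1 (hinjK (Finset.mem_product.mp hx).2 (Finset.mem_product.mp hx').2 h.2)
    · obtain ⟨k, hk, hkx⟩ := Finset.surjOn_of_injOn_of_card_le _ hmaps hinjK le_rfl (Finset.mem_product.mp hx).2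
      exact ⟨(x.1, k), Finset.mem_product.mpr ⟨Finset.mem_univ _, hk⟩, by simp [show k * j % N = x.2 from hkx]⟩
  rw [hX0v] at hr
  obtain ⟨z, hz⟩ := isIntegral_rat_cast_imp (q := r) (hr ▸ IsIntegral.prod _ fun x hx =>
    hint x.1 x.2 (hKc _ (Finset.mem_product.mp hx).2))
  have hz0 : z ≠ 0 := fun e => by
    rw [← hz, e, Int.cast_zero, Rat.cast_zero, Finset.prod_eq_zero_iff] at hr
    obtain ⟨x, hx, hx0⟩ := hr
    exact hne x.1 x.2 (hKc _ (Finset.mem_product.mp hx).2) hx0
  let f : ι × K → ℝ := fun x => Complex.normSq (a x.1 (y ^ (x.2 : ℕ)))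
  have hf : ∀ x, 0 < f x := fun x => Complex.normSq_pos.mpr (hne x.1 _ (hKc _ x.2.2))
  have hprod : 1 ≤ ∏ x, f x := by
    have e : ∏ x, f x = Complex.normSq (∏ x ∈ (Finset.univ : Finset ι) ×ˢ K, a x.1 (y ^ x.2)) := by
      rw [map_prod, Finset.prod_product, Fintype.prod_prod_type]
      exact Finset.prod_congr rfl fun i _ => Finset.prod_coe_sort K fun k => Complex.normSq (a i (y ^ k))
    rw [e, hr, ← hz]
    push_cast
    rw [Complex.normSq_intCast]
    have : (1 : ℤ) ≤ z * z := by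
      have := mul_self_pos.mpr hz0
      omega
    exact_mod_cast this
  have hsum' : ∑ x, f x ≤ Fintype.card (ι × K) := by
    refine le_of_eq ?_
    rw [Fintype.sum_prod_type_right, Finset.sum_congr rfl (g := fun _ => (Fintype.card ι : ℝ)) fun k _ => ?_,
      Finset.sum_const, Finset.card_univ, Fintype.card_prod, nsmul_eq_mul, Nat.cast_mul, mul_comm]
    have h1 := hsum k (hKc _ k.2)
    simp only [Complex.mul_conj] at h1
    exact_mod_cast h1
  have h1K : 1 % N ∈ K := Finset.mem_filter.mpr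
    ⟨Finset.mem_range.mpr (Nat.mod_lt _ (Nat.pos_of_ne_zero hN0)), by
      rw [Nat.Coprime, ← Nat.gcd_rec, Nat.gcd_comm]; simp⟩
  have h2 := eq_one_of_sum_le f hf hprod hsum' (i, ⟨1 % N, h1K⟩)
  simp only [f, hpow, pow_one] at h2
  rw [Complex.mul_conj, h2, Complex.ofReal_one]

end Cfsg.Agent.Char.StarNorm
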