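import Cfsg.Agent.Lib.Char.StarLevels
import Cfsg.Agent.Lib.Char.StarNorm
import Cfsg.Agent.Lib.Char.CentralPairs

/-!
# Sections between the levels

Between two levels the traces have constant absolute value; on the group they are orthogonal on the orbits of
the stabilizer of the pair.
-/

set_option autoImplicit false
set_option linter.unusedSectionVars false
set_option linter.style.haveILetI false

namespace Cfsg.Agent.Char.StarLevels

open Cfsg Module IdemAlg IdemSub
open scoped ComplexConjugate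

universe u

variable {G : Type u} [Group G] [Fintype G] {M : Ideal AlgInt} {p : ℕ}

theorem range_inclusion_eq {K L : Subgroup G} (hLK : L ≤ K) {w : G} (hw : w ∈ L)
    (hL : ∀ g ∈ K, g ∈ L ↔ Commute g w) :
    (Subgroup.inclusion hLK).range =
      Subgroup.centralizer ({Subgroup.inclusion hLK ⟨w, hw⟩} : Set K) := by
  ext x
  rw [Subgroup.mem_centralizer_singleton_iff, MonoidHom.mem_range]
  refine ⟨fun ⟨l, hl⟩ => ?_, fun h => ⟨⟨x, (hL x x.2).mpr (congrArg Subtype.val h)⟩, rfl⟩⟩
  subst hl
  exact Subtype.ext ((hL _ (Subgroup.inclusion hLK l).2).mp l.2).eq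

theorem conjIdx_eq_iff_mem (hP : M.IsPrime) {Q Q' : Subgroup G} {g : G}
    (hQ : Q.map (MulAut.conj g).toMonoidHom = Q')
    {f : Set (IrrCharacter (Subgroup.centralizer (Q : Set G)))} (hf : IsPBlock M f)
    {f' : Set (IrrCharacter (Subgroup.centralizer (Q' : Set G)))} (hf' : IsPBlock M f')
    {ξ : IrrCharacter (Subgroup.centralizer (Q : Set G))} (hξ : ξ ∈ f)
    {ξ' : IrrCharacter (Subgroup.centralizer (Q' : Set G))}
    (h : ∀ (a : Subgroup.centralizer (Q : Set G)) (a' : Subgroup.centralizer (Q' : Set G)),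
      (a' : G) = g * (a : G) * g⁻¹ → (ξ' : _ → ℂ) a' = (ξ : Subgroup.centralizer (Q : Set G) → ℂ) a) :
    conjIdx g (⟨Q, f⟩ : BrauerPairIdx G) = ⟨Q', f'⟩ ↔ ξ' ∈ f' := by
  subst hQ
  have hmem : ξ' ∈ conjBlock Q g f := ⟨ξ, hξ, h⟩
  refine ⟨fun e => ?_, fun hm => ?_⟩
  · have := eq_of_heq (Sigma.mk.inj_iff.mp e).2
    rwa [← show conjBlock Q g f = f' from this]
  · show (⟨_, conjBlock Q g f⟩ : BrauerPairIdx G) = _
    rw [block_eq_blockOf hP (isPBlock_conjBlock g hf) hmem, ← block_eq_blockOf hP hf' hm]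

variable {hP : M.IsPrime}

open scoped Classical in
/-- Sections of non-conjugate elements are orthogonal, through embeddings. -/
theorem edge_ne (hM : IsPModular p M) {H H' : Type u} [Group H] [Fintype H] [Group H'] [Fintype H']
    (φ : H →* G) (hφ : Function.Injective φ) {y : H}
    (hy : ∃ k : ℕ, orderOf y = p ^ k) (hrange : φ.range = Subgroup.centralizer ({φ y} : Set G))
    (φ' : H' →* G) (hφ' : Function.Injective φ') {y' : H'}
    (hy' : ∃ k : ℕ, orderOf y' = p ^ k) (hrange' : φ'.range = Subgroup.centralizer ({φ' y'} : Set G))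
    (hne : ¬ IsConj (φ y) (φ' y'))
    {κ : OA hP H} {κ' : OA hP H'} (hκ : IsIdempotentElem κ) (hκ' : IsIdempotentElem κ') :
    ∑ χ : IrrCharacter G, trC (χ : G → ℂ) (gen hP (φ y) * push φ κ) *
        conj (trC (χ : G → ℂ) (gen hP (φ' y') * push φ' κ')) = 0 := by
  haveI := Fintype.ofFinite (Subgroup.centralizer ({φ y} : Set G))
  haveI := Fintype.ofFinite (Subgroup.centralizer ({φ' y'} : Set G))
  let ε : H ≃* Subgroup.centralizer ({φ y} : Set G) :=
    (MonoidHom.ofInjective hφ).trans (MulEquiv.subgroupCongr hrange)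
  let ε' : H' ≃* Subgroup.centralizer ({φ' y'} : Set G) :=
    (MonoidHom.ofInjective hφ').trans (MulEquiv.subgroupCongr hrange')
  have hsub : ∀ x : OA hP H, push (Subgroup.centralizer ({φ y} : Set G)).subtype (push ε.toMonoidHom x) = push φ x := by
    intro x
    rw [push_push]
    rfl
  have hsub' : ∀ x : OA hP H', push (Subgroup.centralizer ({φ' y'} : Set G)).subtype (push ε'.toMonoidHom x) = push φ' x := by
    intro x
    rw [push_push]
    rfl
  have h := SectionTrace.sum_section_ne hM (by rwa [orderOf_injective φ hφ])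
    (by rwa [orderOf_injective φ' hφ']) hne (hκ.map (push ε.toMonoidHom)) (hκ'.map (push ε'.toMonoidHom))
  simpa only [hsub, hsub'] using h

variable (hM : IsPModular p M) {B : Set (IrrCharacter G)} {D : Subgroup G}
  {c : Set (IrrCharacter (Subgroup.centralizer (D : Set G)))} {ι : OA (pmod_prime hM) G}

/-- The trace of a character against an element and the idempotent. -/
noncomputable def secVal (ι : OA (pmod_prime hM) G) (χ : IrrCharacter G) (z : G) : ℂ :=
  trC (χ : G → ℂ) (gen (pmod_prime hM) z * ι)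

variable (hmax : IsMaximalBrauerPair p M B D c)
  (hab : ∀ x ∈ D, ∀ y ∈ D, x * y = y * x) (hd : LocalIdem.Data hM ι hmax.1.2.1 D c)
include hmax hab hd

theorem pElem {z : G} (hz : z ∈ D) : ∃ k : ℕ, orderOf z = p ^ k := by
  haveI := Fact.mk hM.1
  obtain ⟨k, hk⟩ := IsPGroup.iff_orderOf.mp hmax.1.1.1 ⟨z, hz⟩
  exact ⟨k, by rwa [Subgroup.orderOf_mk] at hk⟩

theorem isCharacter_secVal (χ : IrrCharacter G) : IsCharacter D fun z : D => secVal hM ι χ (z : G) :=
  IdemTrace.isCharacter_trC (irr_isCharacter χ.2) hd.idem D hd.comm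

theorem secVal_congr (χ : IrrCharacter G) {z : G} (hz : z ∈ D) :
    MemLocalIdeal M (secVal hM ι χ z - trC (χ : G → ℂ) ι) := by
  obtain ⟨k, hk⟩ := pElem hM hmax hab hd hz
  have h := char_congr_deg hM (isCharacter_secVal hM hmax hab hd χ) (g := (⟨z, hz⟩ : D))
    ⟨k, by rwa [Subgroup.orderOf_mk]⟩
  simpa [secVal, gen_one] using h

open scoped Classical in
theorem secVal_outside {χ : IrrCharacter G} (hχ : χ ∉ B) (z : G) : secVal hM ι χ z = 0 :=
  trC_eq_zero_of_not_mem hM hmax.1.2.1 hχ (by rw [mul_assoc, hd.block])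

section OneLevel

variable {S : Subgroup G} [Fintype (Subgroup.centralizer (S : Set G))]
  {fS : Set (IrrCharacter (Subgroup.centralizer (S : Set G)))}
  {κS : OA (pmod_prime hM) (Subgroup.centralizer (S : Set G))} {mS : ℕ} (lS : Level hM ι D c B S fS κS mS)
include lS

theorem secVal_eq {z : G} (hz : z ∈ D) (hzS : Subgroup.zpowers z = S) (χ : IrrCharacter G) :
    ∃ hzC : z ∈ Subgroup.centralizer (S : Set G),
      secVal hM ι χ z = trC (χ : G → ℂ) (gen (pmod_prime hM) ((Subgroup.centralizer (S : Set G)).subtype ⟨z, hzC⟩) *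
        push (Subgroup.centralizer (S : Set G)).subtype κS) := by
  have hzC : z ∈ Subgroup.centralizer (S : Set G) :=
    BelowData.le_centralizer hab lS.below.2.2.1 hz
  refine ⟨hzC, IdemTrace.trC_eq_of_congr hM z (pElem hM hmax hab hd hz) hd.idem (lS.idem.map _) (hd.comm z hz)
    ?_ (fun g hg => ?_) (irr_isCharacter χ.2)⟩
  · have h := (lS.comm ⟨z, hzC⟩ hz).map (push (Subgroup.centralizer (S : Set G)).subtype)
    rwa [push_gen] at h
  · have hgC : g ∈ Subgroup.centralizer (S : Set G) := by
      rw [← hzS, centralizer_zpowers_eq]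
      exact Subgroup.mem_centralizer_singleton_iff.mpr hg.eq.symm
    rw [show co (push (Subgroup.centralizer (S : Set G)).subtype κS) g = co κS ⟨g, hgC⟩ from
      co_push (Subgroup.centralizer (S : Set G)).subtype Subtype.val_injective κS ⟨g, hgC⟩]
    exact memLI_symm (pmod_prime hM) (lS.congr ⟨g, hgC⟩)

theorem secVal_mul {z : G} (hz : z ∈ D) (hzS : Subgroup.zpowers z = S) (χ : IrrCharacter G) :
    ∃ a : ℂ, IsIntegral ℤ a ∧ secVal hM ι χ z = (mS : ℂ) * a := by
  classical
  obtain ⟨hzC, h⟩ := secVal_eq hM hmax hab hd lS hz hzS χ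
  obtain ⟨n, hn⟩ := exists_decomposition (isCharacter_comp (Subgroup.centralizer (S : Set G)).subtype (irr_isCharacter χ.2))
  obtain ⟨a, ha, hT, -⟩ := SectionTrace.trC_level hM (κ := κS) (y := (⟨z, hzC⟩ : Subgroup.centralizer (S : Set G)))
    (fun g => Subtype.ext (g.2 z (hzS ▸ Subgroup.mem_zpowers z)))
    (by simpa [Subgroup.orderOf_mk] using pElem hM hmax hab hd hz) lS.trace_in lS.trace_out hn
  exact ⟨a, ha, by rw [h, trC_edge]; exact hT⟩

open scoped Classical in
theorem trace_sum (g : IrrCharacter (Subgroup.centralizer (S : Set G)) → ℂ) :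
    ∑ ξ : IrrCharacter (Subgroup.centralizer (S : Set G)),
        trC (ξ : Subgroup.centralizer (S : Set G) → ℂ) κS * g ξ =
      (mS : ℂ) * ∑ ξ : IrrCharacter (Subgroup.centralizer (S : Set G)) with ξ ∈ fS, g ξ := by
  rw [Finset.mul_sum, Finset.sum_filter]
  refine Finset.sum_congr rfl fun ξ _ => ?_
  split_ifs with hξ
  · rw [lS.trace_in ξ hξ]
  · rw [lS.trace_out ξ hξ, zero_mul]

open scoped Classical in
theorem card_below : (Finset.univ.filter (· ∈ fS)).card = Nat.card D := by
  rw [← lS.count, Nat.card_eq_card_toFinset]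
  congr 1
  ext ξ
  simp

end OneLevel

open scoped Classical in
/-- Orthogonality on the orbits. -/
theorem secVal_orth {z z' : G} (hz : z ∈ D) (hz' : z' ∈ D)
    [Fintype (Subgroup.centralizer (Subgroup.zpowers z : Set G))]
    [Fintype (Subgroup.centralizer (Subgroup.zpowers z' : Set G))]
    {f f' κ κ'} {m m' : ℕ} (l : Level hM ι D c B (Subgroup.zpowers z) f κ m)
    (l' : Level hM ι D c B (Subgroup.zpowers z') f' κ' m') :
    ∑ χ : IrrCharacter G, secVal hM ι χ z * conj (secVal hM ι χ z') =
      (m : ℂ) * m' * Nat.card D *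
        if ∃ t ∈ pairStab (pmod_prime hM) hmax.1.1.2, t * z * t⁻¹ = z' then 1 else 0 := by
  have hP := pmod_prime hM
  obtain ⟨hzC, -⟩ := secVal_eq hM hmax hab hd l hz rfl (⟨fun _ => 1, isIrrCharacter_one⟩ : IrrCharacter G)
  obtain ⟨hzC', -⟩ := secVal_eq hM hmax hab hd l' hz' rfl (⟨fun _ => 1, isIrrCharacter_one⟩ : IrrCharacter G)
  have hT : ∀ χ : IrrCharacter G, secVal hM ι χ z =
      trC (χ : G → ℂ) (gen hP ((Subgroup.centralizer (Subgroup.zpowers z : Set G)).subtype ⟨z, hzC⟩) * push (Subgroup.centralizer (Subgroup.zpowers z : Set G)).subtype κ) := fun χ =>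
    (secVal_eq hM hmax hab hd l hz rfl χ).choose_spec
  have hT' : ∀ χ : IrrCharacter G, secVal hM ι χ z' =
      trC (χ : G → ℂ) (gen hP ((Subgroup.centralizer (Subgroup.zpowers z' : Set G)).subtype ⟨z', hzC'⟩) * push (Subgroup.centralizer (Subgroup.zpowers z' : Set G)).subtype κ') := fun χ =>
    (secVal_eq hM hmax hab hd l' hz' rfl χ).choose_spec
  have hrange : ∀ {w : G} (hw : w ∈ Subgroup.centralizer (Subgroup.zpowers w : Set G)),
      (Subgroup.centralizer (Subgroup.zpowers w : Set G)).subtype.range =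
        Subgroup.centralizer ({(Subgroup.centralizer (Subgroup.zpowers w : Set G)).subtype ⟨w, hw⟩} : Set G) := by
    intro w hw
    rw [Subgroup.range_subtype]
    exact centralizer_zpowers_eq
  have hpz : ∃ k : ℕ, orderOf (⟨z, hzC⟩ : (Subgroup.centralizer (Subgroup.zpowers z : Set G))) = p ^ k := by
    simpa [Subgroup.orderOf_mk] using pElem hM hmax hab hd hz
  have hpz' : ∃ k : ℕ, orderOf (⟨z', hzC'⟩ : (Subgroup.centralizer (Subgroup.zpowers z' : Set G))) = p ^ k := by
    simpa [Subgroup.orderOf_mk] using pElem hM hmax hab hd hz'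
  by_cases hconj : IsConj z z'
  swap
  · rw [if_neg fun ⟨t, _, ht⟩ => hconj (isConj_iff.mpr ⟨t, ht⟩), mul_zero]
    simp only [hT, hT']
    exact edge_ne hM (Subgroup.centralizer (Subgroup.zpowers z : Set G)).subtype Subtype.val_injective hpz (hrange hzC) (Subgroup.centralizer (Subgroup.zpowers z' : Set G)).subtype Subtype.val_injective hpz'
      (hrange hzC') hconj l.idem l'.idem
  -- the idempotent moved into the first section
  have hgoal : ∀ g : G, g * z * g⁻¹ = z' →
      ∑ χ : IrrCharacter G, secVal hM ι χ z * conj (secVal hM ι χ z') = (m : ℂ) * m' * Nat.card D *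
        if conjIdx g (⟨Subgroup.zpowers z, f⟩ : BrauerPairIdx G) = ⟨Subgroup.zpowers z', f'⟩ then 1 else 0 := by
    intro g hg
    have hmap : (Subgroup.zpowers z).map (MulAut.conj g).toMonoidHom = Subgroup.zpowers z' := by
      simp only [MonoidHom.map_zpowers, MulEquiv.coe_toMonoidHom, MulAut.conj_apply, hg]
    have hto : ∀ x ∈ (Subgroup.centralizer (Subgroup.zpowers z' : Set G)), g⁻¹ * x * g ∈ (Subgroup.centralizer (Subgroup.zpowers z : Set G)) := fun x hx => by
      simp only [centralizer_zpowers_eq, Subgroup.mem_centralizer_singleton_iff] at hx ⊢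
      calc g⁻¹ * x * g * z = g⁻¹ * (x * (g * z * g⁻¹)) * g := by group
        _ = g⁻¹ * ((g * z * g⁻¹) * x) * g := by rw [hg, hx]
        _ = z * (g⁻¹ * x * g) := by group
    have hfrom : ∀ x ∈ (Subgroup.centralizer (Subgroup.zpowers z : Set G)), g * x * g⁻¹ ∈ (Subgroup.centralizer (Subgroup.zpowers z' : Set G)) := fun x hx => by
      simp only [centralizer_zpowers_eq, Subgroup.mem_centralizer_singleton_iff] at hx ⊢
      calc g * x * g⁻¹ * z' = g * (x * z) * g⁻¹ := by rw [← hg]; group
        _ = g * (z * x) * g⁻¹ := by rw [hx]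
        _ = z' * (g * x * g⁻¹) := by rw [← hg]; group
    let ψ : (Subgroup.centralizer (Subgroup.zpowers z' : Set G)) ≃* (Subgroup.centralizer (Subgroup.zpowers z : Set G)) :=
      { toFun := fun x => ⟨g⁻¹ * x * g, hto x x.2⟩
        invFun := fun x => ⟨g * x * g⁻¹, hfrom x x.2⟩
        left_inv := fun x => Subtype.ext (by show g * (g⁻¹ * x * g) * g⁻¹ = (x : G); group)
        right_inv := fun x => Subtype.ext (by show g⁻¹ * (g * x * g⁻¹) * g = (x : G); group)
        map_mul' := fun x y => Subtype.ext (by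
          show g⁻¹ * (x * y : G) * g = g⁻¹ * x * g * (g⁻¹ * y * g); group) }
    have hmove : ∀ χ : IrrCharacter G, secVal hM ι χ z' =
        trC (χ : G → ℂ) (gen hP ((Subgroup.centralizer (Subgroup.zpowers z : Set G)).subtype ⟨z, hzC⟩) * push (Subgroup.centralizer (Subgroup.zpowers z : Set G)).subtype (push ψ.toMonoidHom κ')) := by
      intro χ
      have e2 : ((MulAut.conj g⁻¹).toMonoidHom.comp (Subgroup.centralizer (Subgroup.zpowers z' : Set G)).subtype : (Subgroup.centralizer (Subgroup.zpowers z' : Set G)) →* G) = (Subgroup.centralizer (Subgroup.zpowers z : Set G)).subtype.comp ψ.toMonoidHom :=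
        MonoidHom.ext fun x => by
          show g⁻¹ * (x : G) * g⁻¹⁻¹ = g⁻¹ * (x : G) * g
          rw [inv_inv]
      have e1 : gen hP g⁻¹ * (gen hP ((Subgroup.centralizer (Subgroup.zpowers z' : Set G)).subtype ⟨z', hzC'⟩) * push (Subgroup.centralizer (Subgroup.zpowers z' : Set G)).subtype κ') * gen hP g⁻¹⁻¹ =
          gen hP ((Subgroup.centralizer (Subgroup.zpowers z : Set G)).subtype ⟨z, hzC⟩) * push (Subgroup.centralizer (Subgroup.zpowers z : Set G)).subtype (push ψ.toMonoidHom κ') := by
        rw [push_push, ← e2, ← SectionTrace.push_conj, inv_inv, ← mul_assoc, ← gen_mul,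
          show (Subgroup.centralizer (Subgroup.zpowers z : Set G)).subtype ⟨z, hzC⟩ = g⁻¹ * z' * g by rw [← hg]; show z = _; group,
          gen_mul (g⁻¹ * z') g, mul_assoc (gen hP (g⁻¹ * z')), ← mul_assoc (gen hP g) _ (gen hP g),
          ← mul_assoc (gen hP g) (gen hP g⁻¹), ← gen_mul, mul_inv_cancel, gen_one, one_mul, ← mul_assoc]
        rfl
      rw [hT', ← e1, SectionTrace.trC_conj (irr_isCharacter χ.2)]
    simp only [hT, hmove]
    rw [edge_norm (Subgroup.centralizer (Subgroup.zpowers z : Set G)).subtype hM Subtype.val_injective hpz (hrange hzC) l.idem (l'.idem.map _), trace_sum hM hmax hab hd l]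
    have hval : ∀ ξ ∈ f, trC (ξ : (Subgroup.centralizer (Subgroup.zpowers z : Set G)) → ℂ) (push ψ.toMonoidHom κ') =
        if conjIdx g (⟨Subgroup.zpowers z, f⟩ : BrauerPairIdx G) = ⟨Subgroup.zpowers z', f'⟩ then (m' : ℂ) else 0 := by
      intro ξ hξ
      rw [trC_push]
      have hiff := conjIdx_eq_iff_mem hP hmap l.below.1.2 l'.below.1.2 hξ (ξ' := irrTransport ψ ξ) fun a a' e => by
        rw [irrTransport_apply]
        refine congrArg _ (Subtype.ext ?_)
        show g⁻¹ * (a' : G) * g = a
        rw [e]; group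
      split_ifs with hc
      · exact l'.trace_in _ (hiff.mp hc)
      · exact l'.trace_out (irrTransport ψ ξ) (fun hmem => hc (hiff.mpr hmem))
    rw [Finset.sum_congr rfl fun ξ hξ => hval ξ (Finset.mem_filter.mp hξ).2, Finset.sum_const,
      card_below hM hmax hab hd l, nsmul_eq_mul]
    split_ifs <;> ring
  by_cases hT0 : ∃ t ∈ pairStab hP hmax.1.1.2, t * z * t⁻¹ = z'
  · obtain ⟨t, ht, htz⟩ := hT0
    have hc : conjIdx t (⟨Subgroup.zpowers z, f⟩ : BrauerPairIdx G) = ⟨Subgroup.zpowers z', f'⟩ := by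
      have h1 : IsNormalSubpair p M (conjIdx t (⟨Subgroup.zpowers z, f⟩ : BrauerPairIdx G)).1
          (conjIdx t (⟨Subgroup.zpowers z, f⟩ : BrauerPairIdx G)).2
          (⟨D, c⟩ : BrauerPairIdx G).1 (⟨D, c⟩ : BrauerPairIdx G).2 :=
        Eq.mp (congrArg (fun a : BrauerPairIdx G => IsNormalSubpair p M
          (conjIdx t (⟨Subgroup.zpowers z, f⟩ : BrauerPairIdx G)).1
          (conjIdx t (⟨Subgroup.zpowers z, f⟩ : BrauerPairIdx G)).2 a.1 a.2)
            (show conjIdx t (⟨D, c⟩ : BrauerPairIdx G) = ⟨D, c⟩ from ht)) (normalSubpair_conj hM t l.below)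
      obtain ⟨Q, F, hQF⟩ : ∃ Q F, (⟨Q, F⟩ : BrauerPairIdx G) =
          conjIdx t (⟨Subgroup.zpowers z, f⟩ : BrauerPairIdx G) := ⟨_, _, rfl⟩
      have hQ : Q = Subgroup.zpowers z' := by
        rw [show Q = (Subgroup.zpowers z).map (MulAut.conj t).toMonoidHom from (Sigma.mk.inj_iff.mp hQF).1]
        simp only [MonoidHom.map_zpowers, MulEquiv.coe_toMonoidHom, MulAut.conj_apply, htz]
      rw [← hQF] at h1 ⊢
      subst hQ
      have hF : F = f' := SubsectionOrbits.below_unique hM h1 l'.below
      rw [hF]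
    rw [hgoal t htz, if_pos hc, if_pos ⟨t, ht, htz⟩]
  · obtain ⟨g, hg⟩ := isConj_iff.mp hconj
    rw [hgoal g hg, if_neg hT0, if_neg]
    exact fun he => hT0 (CentralPairs.fuse hM hmax l.below l'.below (fun d hd' => hab d hd' z hz)
      (fun d hd' => hab d hd' z' hz') hg he)

section TwoLevels

variable {R : Subgroup G} [Fintype (Subgroup.centralizer (R : Set G))]
  {fR : Set (IrrCharacter (Subgroup.centralizer (R : Set G)))}
  {κR : OA (pmod_prime hM) (Subgroup.centralizer (R : Set G))} {mR : ℕ} (lR : Level hM ι D c B R fR κR mR)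
include lR

/-- The character of the defect group on the idempotent of a level. -/
noncomputable def levelChar (η : IrrCharacter (Subgroup.centralizer (R : Set G))) (d : D) : ℂ :=
  trC (η : Subgroup.centralizer (R : Set G) → ℂ)
    (gen (pmod_prime hM) ⟨(d : G), BelowData.le_centralizer hab lR.below.2.2.1 d.2⟩ * κR)

theorem isCharacter_levelChar (η : IrrCharacter (Subgroup.centralizer (R : Set G))) :
    IsCharacter D (levelChar hM hab lR η) := by
  have hDC : D ≤ Subgroup.centralizer (R : Set G) := BelowData.le_centralizer hab lR.below.2.2.1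
  exact isCharacter_comp (Subgroup.subgroupOfEquivOfLe hDC).symm.toMonoidHom
    (IdemTrace.isCharacter_trC (irr_isCharacter η.2) lR.idem (D.subgroupOf _)
      fun a ha => lR.comm a (Subgroup.mem_subgroupOf.mp ha))

theorem levelChar_one (η : IrrCharacter (Subgroup.centralizer (R : Set G))) :
    levelChar hM hab lR η 1 = trC (η : Subgroup.centralizer (R : Set G) → ℂ) κR := by
  unfold levelChar
  rw [show (⟨((1 : D) : G), _⟩ : Subgroup.centralizer (R : Set G)) = 1 from Subtype.ext rfl, gen_one, one_mul]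

theorem levelChar_out {η : IrrCharacter (Subgroup.centralizer (R : Set G))} (hη : η ∉ fR) (d : D) :
    levelChar hM hab lR η d = 0 := by
  have h1 := levelChar_one hM hmax hab hd lR η
  rw [lR.trace_out η hη] at h1
  obtain ⟨n, ρ, hρ⟩ := isCharacter_levelChar hM hmax hab hd lR η
  rw [← hρ, Representation.char_one, Nat.cast_eq_zero, Module.finrank_pi, Fintype.card_fin] at h1
  subst h1
  rw [← hρ]
  show LinearMap.trace ℂ (Fin 0 → ℂ) (ρ d) = 0
  rw [Subsingleton.elim (ρ d) 0, map_zero]

open scoped Classical in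
set_option maxHeartbeats 800000 in
/-- The square of a level is the squared absolute value of a character at the level below. -/
theorem level_sq {S : Subgroup G} [Fintype (Subgroup.centralizer (S : Set G))]
    {fS : Set (IrrCharacter (Subgroup.centralizer (S : Set G)))}
    {κS : OA (pmod_prime hM) (Subgroup.centralizer (S : Set G))} {mS : ℕ}
    (lS : Level hM ι D c B S fS κS mS) (y : D) (hyS : R ⊔ Subgroup.zpowers (y : G) = S)
    {η : IrrCharacter (Subgroup.centralizer (R : Set G))} (hη : η ∈ fR) :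
    IsIntegral ℤ (levelChar hM hab lR η y / (mS : ℂ)) ∧
      levelChar hM hab lR η y * conj (levelChar hM hab lR η y) = (mS : ℂ) ^ 2 := by
  have hP := pmod_prime hM
  haveI := Fact.mk hM.1
  have hm0 : (mS : ℂ) ≠ 0 := Nat.cast_ne_zero.mpr fun h => lS.unit (h ▸ dvd_zero p)
  set T := levelChar hM hab lR with hTdef
  have hzk : ∀ k : ℕ, k.Coprime (Nat.card D) → R ⊔ Subgroup.zpowers ((y ^ k : D) : G) = S := by
    intro k hk
    rw [← hyS]
    congr 1
    have hco : (orderOf (y : G)).Coprime k := by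
      rw [Subgroup.orderOf_coe]
      exact (hk.coprime_dvd_right (orderOf_dvd_natCard y)).symm
    rw [SubmonoidClass.coe_pow]
    refine le_antisymm (Subgroup.zpowers_le.mpr (Subgroup.pow_mem _ (Subgroup.mem_zpowers _) k))
      (Subgroup.zpowers_le.mpr ?_)
    obtain ⟨j, hj⟩ := exists_pow_eq_self_of_coprime hco.symm
    exact Subgroup.mem_zpowers_iff.mpr ⟨(j : ℤ), by rw [zpow_natCast]; exact hj⟩
  have key : ∀ w : D, R ⊔ Subgroup.zpowers (w : G) = S →
      (∀ η, IsIntegral ℤ (T η w / (mS : ℂ))) ∧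
      ∑ η, T η w * conj (T η w) = (Nat.card D : ℂ) * (mS : ℂ) ^ 2 := by
    intro w hwS
    have hRS : R ≤ S := hwS ▸ le_sup_left
    have hwmem : (w : G) ∈ S := hwS ▸ Subgroup.mem_sup_right (Subgroup.mem_zpowers _)
    have hwR : (w : G) ∈ Subgroup.centralizer (R : Set G) := BelowData.le_centralizer hab lR.below.2.2.1 w.2
    have hwS' : (w : G) ∈ Subgroup.centralizer (S : Set G) := BelowData.le_centralizer hab lS.below.2.2.1 w.2
    have hle : Subgroup.centralizer (S : Set G) ≤ Subgroup.centralizer (R : Set G) := Subgroup.centralizer_le hRS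
    have hmemC : ∀ g ∈ Subgroup.centralizer (R : Set G),
        g ∈ Subgroup.centralizer (S : Set G) ↔ Commute g (w : G) := by
      intro g hg
      refine ⟨fun h => (h _ hwmem).symm, fun h => ?_⟩
      have h1 : R ⊔ Subgroup.zpowers (w : G) ≤ Subgroup.centralizer ({g} : Set G) :=
        sup_le (fun r hr => Subgroup.mem_centralizer_singleton_iff.mpr (hg r hr))
          (Subgroup.zpowers_le.mpr (Subgroup.mem_centralizer_singleton_iff.mpr h.eq.symm))
      exact fun x hx => Subgroup.mem_centralizer_singleton_iff.mp (h1 (hwS.symm ▸ hx))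
    set φ := Subgroup.inclusion hle with hφ
    have hrange : φ.range = Subgroup.centralizer ({φ ⟨(w : G), hwS'⟩} : Set (Subgroup.centralizer (R : Set G))) :=
      range_inclusion_eq hle hwS' hmemC
    have hpw : ∃ k : ℕ, orderOf (⟨(w : G), hwS'⟩ : Subgroup.centralizer (S : Set G)) = p ^ k := by
      simpa [Subgroup.orderOf_mk] using pElem hM hmax hab hd w.2
    have hT : ∀ η : IrrCharacter (Subgroup.centralizer (R : Set G)), T η w =
        trC (η : Subgroup.centralizer (R : Set G) → ℂ) (gen hP (φ ⟨(w : G), hwS'⟩) * push φ κS) := by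
      intro η
      rw [show φ ⟨(w : G), hwS'⟩ = (⟨(w : G), hwR⟩ : Subgroup.centralizer (R : Set G)) from rfl, hTdef]
      unfold levelChar
      have hpR : ∃ k : ℕ, orderOf (⟨(w : G), hwR⟩ : Subgroup.centralizer (R : Set G)) = p ^ k := by
        simpa [Subgroup.orderOf_mk] using pElem hM hmax hab hd w.2
      have hcR : Commute (gen hP (⟨(w : G), hwR⟩ : Subgroup.centralizer (R : Set G))) κR := lR.comm _ w.2
      have hκ' : IsIdempotentElem (push φ κS) := lS.idem.map _
      refine IdemTrace.trC_eq_of_congr hM (⟨(w : G), hwR⟩ : Subgroup.centralizer (R : Set G)) hpR lR.idem hκ'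
        hcR ?_ (fun g hg => ?_) (irr_isCharacter η.2)
      · have h := (lS.comm ⟨(w : G), hwS'⟩ w.2).map (push φ)
        rwa [push_gen] at h
      · have hgS : (g : G) ∈ Subgroup.centralizer (S : Set G) :=
          (hmemC g g.2).mpr (congrArg Subtype.val hg.eq.symm)
        rw [show co (push φ κS) g = co κS ⟨(g : G), hgS⟩ from
          co_push φ (Subgroup.inclusion_injective hle) κS ⟨(g : G), hgS⟩]
        exact memLI_trans hP (lR.congr g) (memLI_symm hP (lS.congr ⟨(g : G), hgS⟩))
    refine ⟨fun η => ?_, ?_⟩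
    · obtain ⟨n, hn⟩ := exists_decomposition (isCharacter_comp φ (irr_isCharacter η.2))
      obtain ⟨a, ha, hTa, -⟩ := SectionTrace.trC_level hM (κ := κS)
        (y := (⟨(w : G), hwS'⟩ : Subgroup.centralizer (S : Set G)))
        (fun g => Subtype.ext (g.2 _ hwmem)) hpw lS.trace_in lS.trace_out hn
      rw [show T η w = (mS : ℂ) * a by rw [hT, trC_edge]; exact hTa, mul_div_cancel_left₀ _ hm0]
      exact ha
    · simp only [hT]
      rw [edge_norm φ hM (Subgroup.inclusion_injective hle) hpw hrange lS.idem lS.idem,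
        trace_sum hM hmax hab hd lS,
        Finset.sum_congr rfl fun ξ hξ => lS.trace_in ξ (Finset.mem_filter.mp hξ).2, Finset.sum_const,
        card_below hM hmax hab hd lS, nsmul_eq_mul]
      ring
  refine ⟨(key y hyS).1 η, ?_⟩
  let a : {η // η ∈ fR} → D → ℂ := fun η d => T η.1 d / (mS : ℂ)
  have hgal : ∀ i, GalEquiv (a i) := by
    intro i
    have h := galEquiv_mul (galEquiv_char (isCharacter_levelChar hM hmax hab hd lR i.1))
      (galEquiv_rat (G := D) (fun _ => ((mS : ℚ))⁻¹) fun _ _ _ => rfl)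
    convert h using 1
    funext d
    simp [a, div_eq_mul_inv, hTdef]
  have hne : ∀ (i : {η // η ∈ fR}) (d : D), a i d ≠ 0 := by
    intro i d h
    have h0 : T i.1 d = 0 := by simpa [a, hm0] using h
    obtain ⟨k, hk⟩ := pElem hM hmax hab hd d.2
    have h1 := char_congr_deg hM (isCharacter_levelChar hM hmax hab hd lR i.1) (g := d)
      ⟨k, by rwa [← Subgroup.orderOf_coe]⟩
    rw [levelChar_one hM hmax hab hd lR, lR.trace_in _ i.2, show levelChar hM hab lR i.1 d = 0 from h0, zero_sub] at h1
    exact lR.unit ((memLI_natCast_iff hM mR).mp (by simpa using memLI_neg hP h1))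
  have h := StarNorm.mul_conj_eq_one a hgal y (fun i k hk => (key _ (hzk k hk)).1 i.1) (fun i k _ => hne i _)
    (fun k hk => ?_) ⟨η, hη⟩
  · simp only [a, map_div₀, map_natCast] at h
    field_simp at h
    linear_combination h
  · simp only [a, map_div₀, map_natCast, div_mul_div_comm, ← Finset.sum_div]
    have e : ∑ i : {η // η ∈ fR}, T i.1 (y ^ k) * conj (T i.1 (y ^ k)) = ∑ η, T η (y ^ k) * conj (T η (y ^ k)) := by
      rw [← Finset.sum_subtype (Finset.univ.filter (· ∈ fR)) (fun η => by simp)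
        (fun η => T η (y ^ k) * conj (T η (y ^ k)))]
      refine Finset.sum_subset (Finset.subset_univ _) fun η _ hη' => ?_
      rw [show T η (y ^ k) = 0 from levelChar_out hM hmax hab hd lR (by simpa using hη') _, zero_mul]
    rw [e, (key _ (hzk k hk)).2, ← Nat.card_eq_fintype_card, ← lR.count]
    field_simp

end TwoLevels

end Cfsg.Agent.Char.StarLevels
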