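import Cfsg.Agent.Lib.Char.StarValues

/-!
# The products of characters with stable characters are integral combinations

Local integrality on the elementary subgroups gives local integrality on the group; the values are compatible
with the Galois action, and the `p`-part of the group order clears the denominators.
-/

set_option autoImplicit false
set_option linter.unusedSectionVars false
set_option linter.style.haveILetI false

namespace Cfsg.Agent.Char.Star

open Cfsg Module Relation IdemAlg IdemSub Fixed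
open scoped ComplexConjugate

universe u

variable {G : Type u} [Group G] [Fintype G] {M : Ideal AlgInt} {p : ℕ} {B : Set (IrrCharacter G)}
  {P : Subgroup G} {e : Set (IrrCharacter (Subgroup.centralizer (P : Set G)))}

/-- An embedding of the cyclotomic field carries one number to another. -/
def Sends {N : ℕ} (φ : cyc N →ₐ[ℚ] ℂ) (z z' : ℂ) : Prop := ∃ hm : z ∈ cyc N, φ ⟨z, hm⟩ = z'

theorem Sends.add {N : ℕ} {φ : cyc N →ₐ[ℚ] ℂ} {a a' b b' : ℂ} (h : Sends φ a a') (h' : Sends φ b b') :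
    Sends φ (a + b) (a' + b') := by
  obtain ⟨m, e⟩ := h
  obtain ⟨m', e'⟩ := h'
  exact ⟨add_mem m m', by rw [show (⟨a + b, add_mem m m'⟩ : cyc N) = ⟨a, m⟩ + ⟨b, m'⟩ from rfl, map_add, e, e']⟩

theorem Sends.mul {N : ℕ} {φ : cyc N →ₐ[ℚ] ℂ} {a a' b b' : ℂ} (h : Sends φ a a') (h' : Sends φ b b') :
    Sends φ (a * b) (a' * b') := by
  obtain ⟨m, e⟩ := h
  obtain ⟨m', e'⟩ := h'
  exact ⟨mul_mem m m', by rw [show (⟨a * b, mul_mem m m'⟩ : cyc N) = ⟨a, m⟩ * ⟨b, m'⟩ from rfl, map_mul, e, e']⟩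

theorem Sends.natCast {N : ℕ} (φ : cyc N →ₐ[ℚ] ℂ) (n : ℕ) : Sends φ (n : ℂ) (n : ℂ) := by
  refine ⟨natCast_mem (cyc N) n, ?_⟩
  rw [show (⟨(n : ℂ), natCast_mem (cyc N) n⟩ : cyc N) = (n : cyc N) from Subtype.ext (by simp), map_natCast]

theorem Sends.sum {N : ℕ} {φ : cyc N →ₐ[ℚ] ℂ} {ι : Type*} (s : Finset ι) (f f' : ι → ℂ)
    (h : ∀ i ∈ s, Sends φ (f i) (f' i)) : Sends φ (∑ i ∈ s, f i) (∑ i ∈ s, f' i) := by
  classical
  induction s using Finset.induction_on with
  | empty => simpa using Sends.natCast φ 0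
  | insert a s ha ih =>
    rw [Finset.sum_insert ha, Finset.sum_insert ha]
    exact (h a (Finset.mem_insert_self a s)).add (ih fun i hi => h i (Finset.mem_insert_of_mem hi))

/-- The power action on roots of unity. -/
def PowAct {N : ℕ} (φ : cyc N →ₐ[ℚ] ℂ) (k : ℕ) : Prop :=
  ∀ (μ : ℂ) (hμ : μ ^ N = 1), φ ⟨μ, mem_cyc hμ⟩ = μ ^ k

theorem sends_char {N : ℕ} {φ : cyc N →ₐ[ℚ] ℂ} {k : ℕ} (hk : PowAct φ k) {H : Type u} [Group H] [Finite H]
    (hN : Nat.card H ∣ N) {χ : H → ℂ} (h : IsCharacter H χ) (g : H) : Sends φ (χ g) (χ (g ^ k)) := by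
  obtain ⟨n, ρ, rfl⟩ := h
  obtain ⟨μ, hμ, htr, -⟩ := exists_eigenvalues ρ g
  have hμn : ∀ i, μ i ^ N = 1 := fun i => by
    obtain ⟨c, hc⟩ := (orderOf_dvd_natCard g).trans hN
    rw [hc, pow_mul, hμ i, one_pow]
  have h1 := htr 1
  simp only [pow_one] at h1
  rw [h1, htr k]
  exact Sends.sum _ _ _ fun i _ => ⟨mem_cyc (hμn i), hk _ (hμn i)⟩

/-- Compatible with the Galois action on a subgroup. -/
def GalOn (P : Subgroup G) (lam : G → ℂ) : Prop :=
  ∀ v ∈ P, ∀ (φ : cyc (Nat.card G) →ₐ[ℚ] ℂ) (k : ℕ), k.Coprime (Nat.card G) → PowAct φ k →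
    Sends φ (lam v) (lam (v ^ k))

theorem galOn_char {lam : G → ℂ} (h : IsCharacter P fun x : P => lam x) : GalOn P lam :=
  fun v hv φ k _ hk => by
    have := sends_char hk (Subgroup.card_subgroup_dvd_card P) h ⟨v, hv⟩
    rwa [SubgroupClass.coe_pow] at this

theorem intComb_value (hP : M.IsPrime) {H : Type u} [Group H] [Fintype H] {f : H → ℂ} (hf : IntComb M f) (x : H) :
    MemLocalRing M (f x) := by
  classical
  rw [congrFun (classFun_expansion hf.1) x, Finset.sum_apply]
  exact memLR_sum hP _ _ fun η _ => by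
    rw [Pi.smul_apply, smul_eq_mul]
    exact memLR_mul hP (hf.2 η) (memLR_char hP (irr_isCharacter η.2) x)

variable (hM : IsPModular p M) (hmax : IsMaximalBrauerPair p M B P e) {lam : G → ℂ}
  (hlam : Stable p M P e lam)

include hM hmax hlam in
theorem exists_into {u : G} {a : BrauerPairIdx G} (ha : a ∈ prs p M B u) :
    ∃ g, g * u * g⁻¹ ∈ P ∧ (∀ k : ℕ, a ∈ prs p M B (u ^ k) →
      wt p M P e lam (u ^ k) a = lam ((g * u * g⁻¹) ^ k)) ∧ wt p M P e lam u a = lam (g * u * g⁻¹) := by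
  obtain ⟨h1, h2⟩ := mem_prs.mp ha
  obtain ⟨g, hg⟩ := pairs_conj_into_maximal hM hmax h2
  refine ⟨g, subpair_le hg ⟨u, h1 ▸ Subgroup.mem_zpowers u, rfl⟩, fun k hk => ?_, wt_eq hM hlam h1 h2.1.2 hg⟩
  rw [wt_eq hM hlam (mem_prs.mp hk).1 h2.1.2 hg, conj_pow]

include hM hmax hlam in
theorem memLR_theta [Fintype P] (hlamP : IntComb M fun x : P => lam x) {χ : G → ℂ} (hχ : IsCharacter G χ)
    (g : G) : MemLocalRing M (theta p M B P e lam χ g) := by
  have hP := pmod_prime hM
  refine memLR_sum hP _ _ fun a ha => memLR_mul hP ?_ (memLR_sum hP _ _ fun k _ => memLR_mul hP ?_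
    (memLR_char hP hχ _))
  · obtain ⟨w, hw, -, e⟩ := exists_into hM hmax hlam ha
    rw [e]
    exact intComb_value hP hlamP ⟨_, hw⟩
  · rw [← co_bElt hM (mem_prs.mp ha).2.1.2]
    exact memLR_co _ _

include hM hmax hlam in
theorem galEquiv_theta (hgal : GalOn P lam) {χ : G → ℂ} (hχ : IsCharacter G χ) :
    GalEquiv (theta p M B P e lam χ) := by
  classical
  intro x
  have hp := hM.1
  suffices key : ∀ (φ : cyc (Nat.card G) →ₐ[ℚ] ℂ) (k : ℕ), k.Coprime (Nat.card G) → PowAct φ k →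
      Sends φ (theta p M B P e lam χ x) (theta p M B P e lam χ (x ^ k)) by
    obtain ⟨hm, -⟩ := key (cyc (Nat.card G)).val 1 (Nat.coprime_one_left _) fun μ hμ => (pow_one μ).symm
    exact ⟨hm, fun φ k hk hμ => (key φ k hk hμ).2⟩
  intro φ k hk hφ
  set u := ppt p x with hu
  set s := preg p x with hs
  have hu' := ppt_ppower hp x
  obtain ⟨hcomm, hsr⟩ := mem_regC.mp (preg_mem_regC hp x)
  have hxe : x = u * s := (self_eq x).symm
  have hxk : x ^ k = u ^ k * s ^ k := by rw [hxe]; exact hcomm.mul_pow k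
  have hord : orderOf (u ^ k) = orderOf u :=
    Nat.Coprime.orderOf_pow ((hk.coprime_dvd_right (orderOf_dvd_natCard u)).symm)
  have huk : ∃ j, orderOf (u ^ k) = p ^ j := by rw [hord]; exact hu'
  have hsk : s ^ k ∈ regC p (u ^ k) := mem_regC.mpr ⟨hcomm.pow_pow k k, fun h => hsr (h.trans (orderOf_pow_dvd k))⟩
  have hz : Subgroup.zpowers (u ^ k) = Subgroup.zpowers u :=
    Subgroup.eq_of_le_of_card_ge (Subgroup.zpowers_le.mpr (pow_mem (Subgroup.mem_zpowers u) k))
      (by rw [Nat.card_zpowers, Nat.card_zpowers, hord])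
  have hprs : prs p M B (u ^ k) = prs p M B u := Finset.ext fun a => by rw [mem_prs, mem_prs, hz]
  rw [hxk, theta_mul hp lam χ huk hsk, hprs, hxe, theta_mul hp lam χ hu' (preg_mem_regC hp x)]
  refine Sends.sum _ _ _ fun a ha => Sends.mul ?_ ?_
  · obtain ⟨g, hg, hk', e⟩ := exists_into hM hmax hlam ha
    rw [hk' k (hprs ▸ ha), e]
    exact hgal _ hg φ k hk hφ
  · obtain ⟨h1, -⟩ := mem_prs.mp ha
    obtain ⟨Q, f⟩ := a
    dsimp only at h1
    subst h1
    haveI := Fintype.ofFinite (Subgroup.centralizer (Subgroup.zpowers u : Set G))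
    obtain ⟨m, ζ, hζ, h⟩ := exists_expand hχ u
    set s' : Subgroup.centralizer (Subgroup.zpowers u : Set G) := ⟨s, mem_czp.mpr hcomm⟩ with hs'
    have e1 := h 1 f s'
    have e2 := h k f (s' ^ k)
    simp only [pow_one, hs', SubgroupClass.coe_pow] at e1 e2
    rw [e1, e2]
    refine Sends.sum _ _ _ fun η _ => ((Sends.natCast φ _).mul ?_).mul
      (sends_char hφ (Subgroup.card_subgroup_dvd_card _) (irr_isCharacter η.2) s')
    have hz : ζ η ^ Nat.card G = 1 := by
      obtain ⟨c, hc⟩ := orderOf_dvd_natCard u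
      rw [hc, pow_mul, hζ η, one_pow]
    exact ⟨mem_cyc hz, hφ _ hz⟩

include hM hmax hlam in
theorem intComb_elem [Fintype P] (hlamP : IntComb M fun x : P => lam x) {χ : G → ℂ} (hχ : IsCharacter G χ)
    {s : G} (hs : ¬ p ∣ orderOf s) {Q : Subgroup G} (hQC : Q ≤ Subgroup.centralizer ({s} : Set G))
    (hQ : IsPGroup p Q) [Fintype (elemSub s Q)] :
    IntComb M fun x : elemSub s Q => theta p M B P e lam χ x := by
  classical
  have hP := pmod_prime hM
  haveI := Fact.mk hM.1
  have hχc := isClassFunction_character hχ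
  haveI := Fintype.ofFinite Q
  haveI := Fintype.ofFinite (Subgroup.zpowers s)
  refine ⟨fun a k => isClassFunction_theta hM hlam hχc (a : G) k, fun ψ => ?_⟩
  set sE : elemSub s Q := ⟨s, self_mem_elemSub s Q⟩ with hsE
  have hcE : ∀ c ∈ Subgroup.zpowers s, c ∈ elemSub s Q := fun c hc => (le_sup_left : Subgroup.zpowers s ≤ elemSub s Q) hc
  have hvE : ∀ v ∈ Q, v ∈ elemSub s Q := fun v hv => (le_sup_right : Q ≤ elemSub s Q) hv
  have hcent : ∀ c : Subgroup.zpowers s, ∀ x : elemSub s Q,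
      (⟨c, hcE c c.2⟩ : elemSub s Q) * x = x * ⟨c, hcE c c.2⟩ := by
    intro c x
    obtain ⟨d, hd, v, hv, hx⟩ := elemSub_mem hQC x.2
    obtain ⟨i, hi⟩ := Subgroup.mem_zpowers_iff.mp c.2
    obtain ⟨j, hj⟩ := Subgroup.mem_zpowers_iff.mp hd
    refine Subtype.ext ?_
    show (c : G) * x = x * c
    rw [hx, ← hi, ← hj]
    exact ((Commute.refl s).zpow_zpow i j).mul_right ((commute_of_le_centralizer hQC hv).zpow_left i)
  choose ζ hζ1 hζ using fun c => exists_central_root (hcent c) ψ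
  have hψ1 : (ψ : elemSub s Q → ℂ) 1 ≠ 0 := irr_one_ne_zero ψ.2
  have hmul : ∀ c d, ζ (c * d) = ζ c * ζ d := fun c d => by
    refine mul_right_cancel₀ hψ1 ?_
    rw [← hζ, mul_assoc (ζ c), ← hζ d, ← hζ c, ← mul_assoc]
    rfl
  have hone : ζ 1 = 1 := mul_right_cancel₀ hψ1 (by rw [← hζ, one_mul]; exact congrArg _ (Subtype.ext (one_mul _)))
  have hinv : ∀ c, conj (ζ c) = ζ c⁻¹ := fun c => by
    rw [conj_root (orderOf_pos _).ne' (hζ1 c)]
    exact inv_eq_of_mul_eq_one_right (by rw [← hmul, mul_inv_cancel, hone])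
  set n : ℕ := Nat.card (Subgroup.zpowers s) with hn
  have hpn : ¬ p ∣ n := by rwa [hn, Nat.card_zpowers]
  have hn0 : (n : ℂ) ≠ 0 := Nat.cast_ne_zero.mpr Nat.card_pos.ne'
  have hcoR : ∀ c : Subgroup.zpowers s, MemLocalRing M ((n : ℂ)⁻¹ * ζ c⁻¹) := fun c =>
    memLR_mul hP (memLR_inv_natCast hM hpn)
      (memLocalRing_of_isIntegral hP.ne_top (root_of_unity_isIntegral (orderOf_pos _).ne' (hζ1 _)))
  set π : OA hP G := ∑ c : Subgroup.zpowers s, (⟨(n : ℂ)⁻¹ * ζ c⁻¹, hcoR c⟩ : locRing hP) • gen hP (c : G) with hπ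
  have hcomm : ∀ v ∈ Q, ∀ c : Subgroup.zpowers s, Commute v (c : G) := fun v hv c => by
    obtain ⟨i, hi⟩ := Subgroup.mem_zpowers_iff.mp c.2
    rw [← hi]
    exact ((commute_of_le_centralizer hQC hv).symm).zpow_right i
  have hπfix : π ∈ fix hP Q := mem_fix.mpr fun v hv => Commute.sum_right _ _ _ fun c _ => by
    refine Commute.smul_right ?_ _
    show gen hP v * gen hP (c : G) = gen hP (c : G) * gen hP v
    rw [← gen_mul, ← gen_mul, (hcomm v hv c).eq]
  have hπi : IsIdempotentElem π := by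
    show π * π = π
    conv_lhs => rw [hπ, Finset.sum_mul_sum]
    simp only [smul_mul_smul_comm, ← gen_mul]
    rw [hπ]
    have e : ∀ c : Subgroup.zpowers s,
        ∑ d : Subgroup.zpowers s, ((⟨(n : ℂ)⁻¹ * ζ c⁻¹, hcoR c⟩ : locRing hP) * ⟨(n : ℂ)⁻¹ * ζ d⁻¹, hcoR d⟩) •
            gen hP ((c : G) * (d : G)) =
          ∑ d : Subgroup.zpowers s, ((⟨(n : ℂ)⁻¹, memLR_inv_natCast hM hpn⟩ : locRing hP) *
            ⟨(n : ℂ)⁻¹ * ζ d⁻¹, hcoR d⟩) • gen hP (d : G) := by
      intro c
      refine Fintype.sum_equiv (Equiv.mulLeft c) _ _ fun d => ?_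
      simp only [Equiv.coe_mulLeft, Subgroup.coe_mul]
      congr 1
      refine Subtype.ext ?_
      show (n : ℂ)⁻¹ * ζ c⁻¹ * ((n : ℂ)⁻¹ * ζ d⁻¹) = (n : ℂ)⁻¹ * ((n : ℂ)⁻¹ * ζ (c * d)⁻¹)
      rw [mul_inv_rev, hmul]
      ring
    rw [Finset.sum_congr rfl fun c _ => e c, Finset.sum_const, Finset.card_univ, Finset.smul_sum]
    refine Finset.sum_congr rfl fun d _ => ?_
    rw [← smul_assoc, nsmul_eq_mul, ← mul_assoc]
    congr 1
    refine Subtype.ext ?_
    show ((Fintype.card (Subgroup.zpowers s) : locRing hP) : ℂ) * (n : ℂ)⁻¹ * ((n : ℂ)⁻¹ * ζ d⁻¹) = _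
    push_cast
    rw [← Nat.card_eq_fintype_card, ← hn, mul_inv_cancel₀ hn0, one_mul]
  have hord : ∀ v ∈ Q, ∃ k : ℕ, orderOf v = p ^ k := fun v hv => by
    obtain ⟨k, hk⟩ := IsPGroup.iff_card.mp (hQ.to_le (Subgroup.zpowers_le.mpr hv))
    exact ⟨k, by rwa [Nat.card_zpowers] at hk⟩
  have hth : ∀ v ∈ Q, thetaJ B P e hM lam χ π v =
      ∑ c : Subgroup.zpowers s, (n : ℂ)⁻¹ * ζ c⁻¹ * theta p M B P e lam χ (v * (c : G)) := by
    intro v hv
    have hreg : ∀ c : Subgroup.zpowers s, (c : G) ∈ regC p v := fun c => mem_regC.mpr ⟨hcomm v hv c,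
      fun h => hpn (h.trans (by rw [Subgroup.orderOf_coe]; exact orderOf_dvd_natCard c))⟩
    simp only [theta_mul hM.1 lam χ (hord v hv) (hreg _), Finset.mul_sum]
    rw [Finset.sum_comm, thetaJ]
    refine Finset.sum_congr rfl fun a ha => ?_
    obtain ⟨h1, h2⟩ := mem_prs.mp ha
    have hπv : π ∈ fix hP (Subgroup.zpowers v) := fix_antitone (Subgroup.zpowers_le.mpr hv) hπfix
    have hXc : Commute π (bElt hM a) := by
      obtain ⟨Q', f⟩ := a
      dsimp only at h1
      subst h1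
      refine Commute.sum_left _ _ _ fun c _ => Commute.smul_left ?_ _
      exact commute_bElt_of_mem hM (mem_czp.mpr (hcomm v hv c))
    rw [part_eq hM (hord v hv) h1 hπi hπv hχ (ε := π * bElt hM a)
      ⟨hπi.mul_of_commute hXc (isIdem_bElt hM a), mul_mem hπv (bElt_mem_fix_of_eq hM h1),
        by rw [← mul_assoc, hπi.eq], by rw [mul_assoc, ← hXc.eq, ← mul_assoc, hπi.eq], Eqv.refl _ _⟩,
      hπ, Finset.sum_mul, Finset.mul_sum, trC_sum, Finset.mul_sum]
    refine Finset.sum_congr rfl fun c _ => ?_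
    rw [smul_mul_assoc, mul_smul_comm, trC_smul, ← mul_assoc (gen hP v), ← gen_mul, trC_gen_mul, co_bElt hM h2.1.2,
      show ∑ k, subgroupBlockCoeff (Subgroup.centralizer (a.1 : Set G)) a.2 k * χ (v * (c : G) * k) =
        pc χ (v * (c : G)) a from Finset.sum_congr rfl fun k _ => by rw [class_mul_comm hχc]]
    ring
  -- the inner product factors
  let σ : Subgroup.zpowers s × Q → elemSub s Q := fun x =>
    ⟨(x.1 : G) * x.2, mul_mem (hcE _ x.1.2) (hvE _ x.2.2)⟩
  have hbij : Function.Bijective σ := by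
    refine (Fintype.bijective_iff_surjective_and_card σ).mpr ⟨fun x => ?_, ?_⟩
    · obtain ⟨c, hc, v, hv, hx⟩ := elemSub_mem hQC x.2
      exact ⟨(⟨c, hc⟩, ⟨v, hv⟩), Subtype.ext hx.symm⟩
    · rw [Fintype.card_prod, ← Nat.card_eq_fintype_card, ← Nat.card_eq_fintype_card, ← Nat.card_eq_fintype_card,
        card_elemSub hM.1 hs hQC hQ, Nat.card_zpowers]
  let ι : Q →* elemSub s Q := Subgroup.inclusion (le_sup_right : Q ≤ elemSub s Q)
  have hI := intComb_inner hP (intComb_thetaJ hM hlam hχ hmax hlamP Q hQ π hπi hπfix)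
    (isCharacter_comp ι (irr_isCharacter ψ.2))
  convert hI using 1
  rw [classInner, classInner, ← hbij.sum_comp, Fintype.sum_prod_type, Finset.sum_comm,
    card_elemSub hM.1 hs hQC hQ, ← Nat.card_zpowers, ← hn, Nat.cast_mul, mul_inv, mul_comm (n : ℂ)⁻¹, mul_assoc]
  congr 1
  rw [Finset.mul_sum]
  refine Finset.sum_congr rfl fun v _ => ?_
  rw [hth v v.2, Finset.mul_sum, Finset.sum_mul]
  refine Finset.sum_congr rfl fun c _ => ?_
  have e1 : σ (c, v) = (⟨c, hcE c c.2⟩ : elemSub s Q) * ι v := rfl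
  simp only [e1, hζ c, map_mul, hinv, Function.comp_apply]
  rw [Subgroup.coe_mul, show ((ι v : elemSub s Q) : G) = (v : G) from rfl, (hcomm v v.2 c).eq]
  ring

include hM hmax hlam in
theorem intComb_theta [Fintype P] (hlamP : IntComb M fun x : P => lam x) {χ : G → ℂ} (hχ : IsCharacter G χ) :
    IntComb M (theta p M B P e lam χ) := by
  classical
  have hP := pmod_prime hM
  set θ := theta p M B P e lam χ with hθ
  have hθc : IsClassFunction G θ := isClassFunction_theta hM hlam (isClassFunction_character hχ)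
  have hsec : ∀ s : G, ¬ p ∣ orderOf s → IntComb M (θ * secInd p s) := by
    intro s hs
    obtain ⟨Q, N, hQC, hQp, happ⟩ := secInd_approx hM hs
    haveI := Fintype.ofFinite (elemSub s Q)
    set f := indFun (elemSub s Q) (cosetFun s Q (elemSub s Q)) with hf
    have hφ := intComb_cosetFun hM hs hQC hQp
    have hθf : IntComb M (θ * f) := by
      rw [hf, indFun_mul_restrict _ _ hθc]
      exact intComb_ind hP _ (intComb_mul hP (intComb_elem hM hmax hlam hlamP hχ hs hQC hQp) hφ)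
    have hpow : IntComb M (θ * f ^ (N + 1)) := by
      rw [pow_succ', ← mul_assoc]
      exact intComb_mul hP hθf (intComb_pow hP (intComb_ind hP _ hφ) N)
    have herr : IntComb M (θ * f ^ (N + 1) - θ * secInd p s) := by
      refine intComb_of_dvd hM (fun a k => ?_) fun x => ?_
      · simp only [Pi.sub_apply, Pi.mul_apply, hθc a k, isClassFunction_secInd hM.1 s a k]
        have := hpow.1 a k
        simp only [Pi.mul_apply, hθc a k] at this
        rw [this]
      · obtain ⟨y, hy, e⟩ := happ x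
        refine ⟨θ x * y, memLR_mul hP (memLR_theta hM hmax hlam hlamP hχ x) hy, ?_⟩
        simp only [Pi.sub_apply, Pi.mul_apply, Pi.pow_apply]
        rw [← mul_sub, e]; ring
    have := intComb_sub hP hpow herr
    rwa [sub_sub_cancel] at this
  have := Fintype.ofFinite (ConjClasses G)
  obtain ⟨rep, hrep⟩ := exists_preg_expansion (G := G) hM.1
  have h1 := hrep (fun _ => 1) (fun _ _ => rfl)
  have e : θ = ∑ c : ConjClasses G, if ¬ p ∣ orderOf (rep c) then θ * secInd p (rep c) else 0 := by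
    funext x
    have := congrFun h1 x
    rw [Finset.sum_apply] at this ⊢
    calc θ x = θ x * 1 := (mul_one _).symm
      _ = _ := by
        rw [this, Finset.mul_sum]
        refine Finset.sum_congr rfl fun c _ => ?_
        split_ifs <;> simp
  rw [e]
  refine intComb_sum hP _ _ fun c _ => ?_
  split_ifs with h
  · exact intComb_zero hP
  · exact hsec _ h

theorem sct_conj {χ φ : G → ℂ} (hχ : IsClassFunction G χ) (hφ : IsClassFunction G φ) (w u : G) (a : BrauerPairIdx G) :
    sct p χ φ (w * u * w⁻¹) (conjIdx w a) = sct p χ φ u a := by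
  refine (Finset.sum_bij (fun s _ => w * s * w⁻¹) (fun s hs => ?_)
    (fun a _ b _ h => mul_left_cancel (mul_right_cancel h)) (fun s hs => ?_) fun s _ => ?_).symm
  · obtain ⟨h1, h2⟩ := mem_regC.mp hs
    exact mem_regC.mpr ⟨by simpa using h1.map (MulAut.conj w).toMonoidHom, by
      rwa [← MulAut.conj_apply, MulEquiv.orderOf_eq]⟩
  · obtain ⟨h1, h2⟩ := mem_regC.mp hs
    refine ⟨w⁻¹ * s * w, mem_regC.mpr ⟨?_, ?_⟩, by group⟩
    · have := h1.map (MulAut.conj w⁻¹).toMonoidHom
      simpa [mul_assoc] using this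
    · rwa [show w⁻¹ * s * w = MulAut.conj w⁻¹ s by simp, MulEquiv.orderOf_eq]
  · rw [show w * u * w⁻¹ * (w * s * w⁻¹) = w * (u * s) * w⁻¹ by group, pc_conj hχ, pc_conj hφ]

include hM hmax hlam in
open scoped Classical in
theorem pow_mul_inner_integral (hlamI : ∀ v ∈ P, IsIntegral ℤ (lam v)) {χ : G → ℂ} (hχ : IsCharacter G χ)
    {φ : IrrCharacter G} (hφ : φ ∈ B) :
    IsIntegral ℤ ((p : ℂ) ^ (Nat.card G).factorization p *
      classInner (theta p M B P e lam χ) (φ : G → ℂ)) := by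
  have hp := hM.1
  have hχc := isClassFunction_character hχ
  have hφc := isClassFunction_character (irr_isCharacter φ.2)
  let X : G → ℂ := fun g => if g ∈ pels G p then
    (Nat.card (Subgroup.centralizer ({g} : Set G)) : ℂ)⁻¹ * ((p : ℂ) ^ (Nat.card G).factorization p *
      ∑ a ∈ prs p M B g, wt p M P e lam g a * sct p χ (φ : G → ℂ) g a) else 0
  have hC0 : ∀ g : G, (Nat.card (Subgroup.centralizer ({g} : Set G)) : ℂ) ≠ 0 := fun g =>
    Nat.cast_ne_zero.mpr Nat.card_pos.ne'
  have hXi : ∀ g, IsIntegral ℤ (X g) := by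
    intro g
    by_cases hg : g ∈ pels G p
    swap
    · simp only [X, if_neg hg]; exact isIntegral_zero
    simp only [X, if_pos hg, Finset.mul_sum]
    refine IsIntegral.sum _ fun a ha => ?_
    obtain ⟨z, hz, ez⟩ := sct_integral hp hχ (irr_isCharacter φ.2) (mem_prs.mp ha).1
    obtain ⟨w, hw, -, ew⟩ := exists_into hM hmax hlam ha
    rw [mul_left_comm ((p : ℂ) ^ _), ez, mul_left_comm (wt p M P e lam g a), inv_mul_cancel_left₀ (hC0 g), ew]
    exact (hlamI _ hw).mul hz
  have hXc : ∀ w g : G, X (w * g * w⁻¹) = X g := by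
    intro w g
    have hmem : w * g * w⁻¹ ∈ pels G p ↔ g ∈ pels G p := by
      rw [mem_pels, mem_pels, ← MulAut.conj_apply, MulEquiv.orderOf_eq]
    simp only [X, hmem]
    split_ifs with hg
    · have hcard : Nat.card (Subgroup.centralizer ({w * g * w⁻¹} : Set G)) =
          Nat.card (Subgroup.centralizer ({g} : Set G)) := by
        have h1 := card_conjClass_mul_centralizer g
        rw [← card_conjClass_mul_centralizer (w * g * w⁻¹),
          Nat.card_congr (Equiv.subtypeEquivRight fun x => ⟨fun h => IsConj.trans (isConj_iff.mpr ⟨w, rfl⟩) h,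
            fun h => IsConj.trans (IsConj.symm (isConj_iff.mpr ⟨w, rfl⟩)) h⟩ :
            {x : G // IsConj (w * g * w⁻¹) x} ≃ {x : G // IsConj g x})] at h1
        exact (Nat.eq_of_mul_eq_mul_left (Nat.pos_of_ne_zero (card_conjClass_ne_zero g)) h1).symm
      rw [hcard, sum_prs_conj (pmod_prime hM)]
      congr 2
      refine Finset.sum_congr rfl fun a ha => ?_
      rw [wt_conj hM hlam (mem_prs.mp ha).1 (mem_prs.mp ha).2.1.2, sct_conj hχc hφc]
    · rfl
  have hsum : (p : ℂ) ^ (Nat.card G).factorization p *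
      classInner (theta p M B P e lam χ) (φ : G → ℂ) = ∑ c : ConjClasses G, X c.out := by
    rw [inner_theta_irr hM hmax lam hχ hφ, mul_left_comm]
    have h1 : (p : ℂ) ^ (Nat.card G).factorization p * ∑ u ∈ pels G p, ∑ a ∈ prs p M B u,
        wt p M P e lam u a * sct p χ (φ : G → ℂ) u a =
        ∑ g : G, (Nat.card (Subgroup.centralizer ({g} : Set G)) : ℂ) * X g := by
      simp only [X, mul_ite, mul_zero, mul_inv_cancel_left₀ (hC0 _)]
      rw [Finset.mul_sum, Finset.sum_ite_mem, Finset.univ_inter]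
    rw [h1, ← Finset.sum_fiberwise_of_maps_to (t := Finset.univ) (g := ConjClasses.mk) fun _ _ => Finset.mem_univ _,
      Finset.mul_sum]
    refine Finset.sum_congr rfl fun c _ => ?_
    have hc : ConjClasses.mk c.out = c := Quotient.out_eq c
    have hcst : ∀ g ∈ Finset.univ.filter (fun g : G => ConjClasses.mk g = c),
        (Nat.card (Subgroup.centralizer ({g} : Set G)) : ℂ) * X g =
          (Nat.card (Subgroup.centralizer ({g} : Set G)) : ℂ) * X c.out := fun g hg => by
      obtain ⟨w, hw⟩ := isConj_iff.mp (ConjClasses.mk_eq_mk_iff_isConj.mp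
        (hc.trans (Finset.mem_filter.mp hg).2.symm))
      rw [← hw, hXc]
    rw [Finset.sum_congr rfl hcst, ← Finset.sum_mul, ← mul_assoc]
    convert one_mul (X c.out)
    have hcl : ∀ g ∈ Finset.univ.filter (fun g : G => ConjClasses.mk g = c),
        (Nat.card (Subgroup.centralizer ({g} : Set G)) : ℂ) =
          (Nat.card G : ℂ) / Nat.card {x : G // IsConj c.out x} := fun g hg => by
      have hgc := ConjClasses.mk_eq_mk_iff_isConj.mp ((Finset.mem_filter.mp hg).2.trans hc.symm)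
      rw [eq_div_iff (Nat.cast_ne_zero.mpr (card_conjClass_ne_zero _)),
        ← Nat.card_congr (Equiv.subtypeEquivRight fun x => ⟨fun h => hgc.symm.trans h, fun h => hgc.trans h⟩ :
          {x : G // IsConj g x} ≃ {x : G // IsConj c.out x}), ← Nat.cast_mul, mul_comm,
        card_conjClass_mul_centralizer]
    rw [Finset.sum_congr rfl hcl, Finset.sum_const, nsmul_eq_mul]
    have hn : (Finset.univ.filter (fun g : G => ConjClasses.mk g = c)).card =
        Nat.card {x : G // IsConj c.out x} := by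
      rw [Nat.card_eq_fintype_card, Fintype.card_subtype]
      congr 1
      refine Finset.filter_congr fun x _ => ?_
      conv_lhs => rw [← hc]
      rw [ConjClasses.mk_eq_mk_iff_isConj]
      exact ⟨fun h => h.symm, fun h => h.symm⟩
    rw [hn, mul_div_cancel₀ _ (Nat.cast_ne_zero.mpr (card_conjClass_ne_zero _)),
      inv_mul_cancel₀ (Nat.cast_ne_zero.mpr Nat.card_pos.ne')]
  rw [hsum]
  exact IsIntegral.sum _ fun c _ => hXi _

include hM hmax hlam in
/-- The coefficients are integers. -/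
theorem inner_int [Fintype P] (hlamP : IntComb M fun x : P => lam x) (hgal : GalOn P lam)
    (hlamI : ∀ v ∈ P, IsIntegral ℤ (lam v)) {χ : G → ℂ} (hχ : IsCharacter G χ) (φ : IrrCharacter G) :
    ∃ z : ℤ, classInner (theta p M B P e lam χ) (φ : G → ℂ) = (z : ℂ) := by
  have hP := pmod_prime hM
  by_cases hφ : φ ∈ B
  swap
  · exact ⟨0, by rw [inner_theta_not_mem hM hmax.1.2.1 lam hχ hφ, Int.cast_zero]⟩
  obtain ⟨q, hq⟩ := classInner_rat (galEquiv_theta hM hmax hlam hgal hχ) (irr_isCharacter φ.2)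
  have hloc := (intComb_theta hM hmax hlam hlamP hχ).2 φ
  have hint := pow_mul_inner_integral hM hmax hlam hlamI hχ hφ
  rw [hq] at hint hloc
  suffices key : ∀ (v : ℕ) (z : ℤ), (p : ℂ) ^ v * (q : ℂ) = z → ∃ y : ℤ, (q : ℂ) = y by
    obtain ⟨z, hz⟩ := isIntegral_rat_cast_imp (q := (p : ℚ) ^ (Nat.card G).factorization p * q)
      (by push_cast; exact hint)
    obtain ⟨y, hy⟩ := key _ z (by
      have := congrArg (fun r : ℚ => (r : ℂ)) hz
      push_cast at this
      exact this.symm)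
    exact ⟨y, hq.trans hy⟩
  intro v
  induction v with
  | zero => intro z hz; exact ⟨z, by rwa [pow_zero, one_mul] at hz⟩
  | succ v ih =>
    intro z hz
    obtain ⟨y, rfl⟩ : (p : ℤ) ∣ z := (memLI_intCast_iff hM z).mp (by
      rw [← hz, pow_succ', mul_assoc]
      exact memLI_mul_right hP (memLI_p hM) (memLR_mul hP (memLR_pow hP (memLR_natCast hP p) v) hloc))
    refine ih y (mul_left_cancel₀ (Nat.cast_ne_zero.mpr hM.1.ne_zero : (p : ℂ) ≠ 0) ?_)
    rw [← mul_assoc, ← pow_succ', hz]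
    push_cast
    rfl

include hM hmax hlam in
open scoped Classical in
/-- A product of norm one and positive degree is an irreducible character of the block. -/
theorem exists_irr [Fintype P] (hlamP : IntComb M fun x : P => lam x) (hgal : GalOn P lam)
    (hlamI : ∀ v ∈ P, IsIntegral ℤ (lam v)) {χ : G → ℂ} (hχ : IsCharacter G χ)
    (hnorm : classInner (theta p M B P e lam χ) (theta p M B P e lam χ) = 1) {n : ℕ}
    (hdeg : theta p M B P e lam χ 1 = (n : ℂ)) :
    ∃ ψ : IrrCharacter G, ψ ∈ B ∧ theta p M B P e lam χ = (ψ : G → ℂ) := by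
  set θ := theta p M B P e lam χ with hθ
  choose z hz using inner_int hM hmax hlam hlamP hgal hlamI hχ
  have hexp := classFun_expansion (isClassFunction_theta (B := B) hM hlam (isClassFunction_character hχ))
  rw [← hθ] at hexp
  have hsq : ∑ φ : IrrCharacter G, z φ * z φ = 1 := by
    have h1 : classInner θ θ = ∑ φ : IrrCharacter G, ((z φ * z φ : ℤ) : ℂ) := by
      conv_lhs => arg 1; rw [hexp]
      rw [classInner_sum_left]
      refine Finset.sum_congr rfl fun φ _ => ?_
      rw [classInner_smul_left, ← classInner_symm θ, hz, map_intCast, Int.cast_mul]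
    rw [hnorm] at h1
    exact_mod_cast h1.symm
  obtain ⟨ψ, hψ⟩ : ∃ ψ, z ψ ≠ 0 := by
    by_contra h
    push Not at h
    simp [h] at hsq
  have hge : 1 ≤ z ψ * z ψ := by
    have := mul_self_pos.mpr hψ
    omega
  have hrest : ∀ φ, φ ≠ ψ → z φ = 0 := by
    intro φ hne
    by_contra h0
    have h1 := Finset.sum_le_sum_of_subset_of_nonneg (f := fun φ => z φ * z φ)
      (Finset.subset_univ {φ, ψ}) fun i _ _ => mul_self_nonneg _
    rw [Finset.sum_pair hne, hsq] at h1
    have := mul_self_pos.mpr h0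
    omega
  rw [Finset.sum_eq_single ψ (fun φ _ hne => by rw [hrest φ hne, mul_zero])
    (fun h => absurd (Finset.mem_univ _) h)] at hsq
  have heq : θ = (z ψ : ℂ) • (ψ : G → ℂ) := by
    rw [hexp, Finset.sum_eq_single ψ (fun φ _ hne => by rw [hz, hrest φ hne, Int.cast_zero, zero_smul])
      (fun h => absurd (Finset.mem_univ _) h), hz]
  have hψB : ψ ∈ B := by
    by_contra h
    have := hz ψ
    rw [inner_theta_not_mem hM hmax.1.2.1 lam hχ h] at this
    exact hψ (by exact_mod_cast this.symm)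
  refine ⟨ψ, hψB, ?_⟩
  rcases Int.mul_eq_one_iff_eq_one_or_neg_one.mp hsq with ⟨h, -⟩ | ⟨h, -⟩
  · rw [heq, h, Int.cast_one, one_smul]
  · exfalso
    have h1 := congrFun heq 1
    rw [hdeg, h, Pi.smul_apply, smul_eq_mul, char_one_eq_deg (irr_isCharacter ψ.2)] at h1
    have h2 : ((n + deg (ψ : G → ℂ) : ℕ) : ℂ) = ((0 : ℕ) : ℂ) := by push_cast; rw [h1]; push_cast; ring
    have := deg_pos ψ.2
    have := Nat.cast_injective h2
    omega

end Cfsg.Agent.Char.Star
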