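import Cfsg.Agent.Lib.Char.LocalIdem
import Cfsg.Agent.Lib.Char.SectionTrace
import Cfsg.Agent.Lib.Char.BrauerConj

/-!
# The multiplicities of the local idempotents at the levels below an abelian maximal pair

Each nontrivial subgroup of the defect group carries an idempotent of its local block with one multiplicity
prime to `p`; the sections relative to these idempotents have norm the order times the squared multiplicity.
-/

set_option autoImplicit false
set_option linter.unusedSectionVars false
set_option linter.style.haveILetI false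

namespace Cfsg.Agent.Char.StarLevels

open Cfsg Module Polynomial IdemAlg IdemSub
open scoped ComplexConjugate

universe u

variable {G : Type u} [Group G] [Fintype G] {M : Ideal AlgInt} {p : ℕ}

theorem trC_fun_sum {hP : M.IsPrime} {n : IrrCharacter G → ℕ} (x : OA hP G) :
    trC (∑ η : IrrCharacter G, n η • (η : G → ℂ)) x = ∑ η : IrrCharacter G, (n η : ℂ) * trC (η : G → ℂ) x := by
  simp only [trC, Finset.sum_apply, nsmul_eq_mul, Pi.mul_apply, Pi.natCast_apply, Finset.mul_sum]
  rw [Finset.sum_comm]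
  exact Finset.sum_congr rfl fun η _ => Finset.sum_congr rfl fun g _ => by ring

theorem trC_mul_blockElt (hM : IsPModular p M) {f : Set (IrrCharacter G)} (hf : IsPBlock M f) (ξ : IrrCharacter G)
    (x : OA (pmod_prime hM) G) :
    trC (ξ : G → ℂ) (x * blockElt hM hf) = lam (ξ : G → ℂ) (blockCoeff f) * trC (ξ : G → ℂ) x := by
  induction x using MonoidAlgebra.induction_linear with
  | zero => simp [trC_zero]
  | add x y hx hy => rw [add_mul, trC_add, trC_add, hx, hy, mul_add]
  | single h r =>
    have e : (MonoidAlgebra.single h r : OA (pmod_prime hM) G) = r • gen (pmod_prime hM) h := by simp [gen]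
    rw [e, smul_mul_assoc, trC_smul, trC_smul, trC_gen_mul_blockElt, trC_gen]
    ring

theorem trC_eq_zero_of_not_mem (hM : IsPModular p M) {f : Set (IrrCharacter G)} (hf : IsPBlock M f)
    {ξ : IrrCharacter G} (hξ : ξ ∉ f) {x : OA (pmod_prime hM) G} (hx : x * blockElt hM hf = x) :
    trC (ξ : G → ℂ) x = 0 := by
  rw [← hx, trC_mul_blockElt, lam_blockCoeff, if_neg hξ, zero_mul]

section Edge

variable {hP : M.IsPrime} {H : Type u} [Group H] [Fintype H] (φ : H →* G)

theorem push_push {K : Type u} [Group K] (ψ : K →* H) (x : OA hP K) :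
    push φ (push ψ x) = push (φ.comp ψ) x := by
  induction x using MonoidAlgebra.induction_linear with
  | zero => simp
  | add x y hx hy => rw [map_add, map_add, map_add, hx, hy]
  | single h r =>
    have e : (MonoidAlgebra.single h r : OA hP K) = r • gen hP h := by simp [gen]
    rw [e, map_smul, map_smul, map_smul, push_gen, push_gen, push_gen]
    rfl

theorem trC_edge (f : G → ℂ) (y : H) (κ : OA hP H) :
    trC f (gen hP (φ y) * push φ κ) = trC (fun h => f (φ h)) (gen hP y * κ) := by
  rw [← push_gen φ y, ← map_mul, trC_push]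

open scoped Classical in
/-- Orthogonality inside one section, through an embedding of the centralizer. -/
theorem edge_norm (hM : IsPModular p M) (hφ : Function.Injective φ) {y : H}
    (hy : ∃ k : ℕ, orderOf y = p ^ k) (hrange : φ.range = Subgroup.centralizer ({φ y} : Set G))
    {κ κ' : OA hP H} (hκ : IsIdempotentElem κ) (hκ' : IsIdempotentElem κ') :
    ∑ χ : IrrCharacter G, trC (χ : G → ℂ) (gen hP (φ y) * push φ κ) *
        conj (trC (χ : G → ℂ) (gen hP (φ y) * push φ κ')) =
      ∑ ξ : IrrCharacter H, trC (ξ : H → ℂ) κ * trC (ξ : H → ℂ) κ' := by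
  haveI := Fintype.ofFinite (Subgroup.centralizer ({φ y} : Set G))
  let ε : H ≃* Subgroup.centralizer ({φ y} : Set G) :=
    (MonoidHom.ofInjective hφ).trans (MulEquiv.subgroupCongr hrange)
  have hsub : ∀ x : OA hP H, push (Subgroup.centralizer ({φ y} : Set G)).subtype (push ε.toMonoidHom x) = push φ x := by
    intro x
    rw [push_push]
    rfl
  have hz : ∃ k : ℕ, orderOf (φ y) = p ^ k := by rwa [orderOf_injective φ hφ]
  have h := SectionTrace.sum_section_same hM hz (hκ.map (push ε.toMonoidHom)) (hκ'.map (push ε.toMonoidHom))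
  simp only [hsub] at h
  rw [h]
  refine Fintype.sum_bijective (irrTransport ε) ⟨irrTransport_injective ε, fun ξ => ⟨irrTransport ε.symm ξ, ?_⟩⟩
    _ _ fun ξ => ?_
  · simpa using irrTransport_symm ε.symm ξ
  · rw [trC_push, trC_push]
    rfl

end Edge

variable (hM : IsPModular p M) {B : Set (IrrCharacter G)} {D : Subgroup G}
  {c : Set (IrrCharacter (Subgroup.centralizer (D : Set G)))}

/-- An idempotent of a local block with its multiplicity. -/
structure Level (ι : OA (pmod_prime hM) G) (D : Subgroup G)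
    (c : Set (IrrCharacter (Subgroup.centralizer (D : Set G)))) (B : Set (IrrCharacter G)) (S : Subgroup G)
    [Fintype (Subgroup.centralizer (S : Set G))] (f : Set (IrrCharacter (Subgroup.centralizer (S : Set G))))
    (κ : OA (pmod_prime hM) (Subgroup.centralizer (S : Set G))) (m : ℕ) : Prop where
  below : IsNormalSubpair p M S f D c
  idem : IsIdempotentElem κ
  congr : ∀ h, MemLocalIdeal M (co κ h - co ι (h : G))
  comm : ∀ a : Subgroup.centralizer (S : Set G), (a : G) ∈ D → Commute (gen (pmod_prime hM) a) κ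
  trace_in : ∀ ξ ∈ f, trC (ξ : Subgroup.centralizer (S : Set G) → ℂ) κ = m
  trace_out : ∀ ξ, ξ ∉ f → trC (ξ : Subgroup.centralizer (S : Set G) → ℂ) κ = 0
  unit : ¬ p ∣ m
  count : Nat.card f = Nat.card D

theorem isPGroup_le {S : Subgroup G} (hmax : IsMaximalBrauerPair p M B D c) (hSD : S ≤ D) : IsPGroup p S :=
  hmax.1.1.1.to_le hSD

variable {ι : OA (pmod_prime hM) G} (hmax : IsMaximalBrauerPair p M B D c)
  (hab : ∀ x ∈ D, ∀ y ∈ D, x * y = y * x) (hd : LocalIdem.Data hM ι hmax.1.2.1 D c)
  (hfree : ∀ t ∈ pairStab (pmod_prime hM) hmax.1.1.2, ∀ x ∈ D, x ≠ 1 → t * x * t⁻¹ = x →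
    t ∈ Subgroup.centralizer (D : Set G))
include hmax hab hd hfree

open scoped Classical in
/-- The congruence between the trace on the group and on a centralizer. -/
theorem restr_congr {S : Subgroup G} [Fintype (Subgroup.centralizer (S : Set G))] (hSD : S ≤ D)
    {χ : G → ℂ} (hχ : IsCharacter G χ) :
    MemLocalIdeal M (trC χ ι -
      trC (fun h : Subgroup.centralizer (S : Set G) => χ h) (res (Subgroup.centralizer (S : Set G)) ι)) := by
  have hP := pmod_prime hM
  have h := sum_centralizer_congr hM (isPGroup_le hmax hSD) (fun g => co ι g * χ g)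
    (fun g => memLR_mul hP (memLR_co ι g) (memLR_char hP hχ g)) (fun u hu x => by
      rw [(commute_gen_iff u ι).mp (hd.comm u (hSD hu)) x, isClassFunction_character hχ x u])
  have e : trC (fun h : Subgroup.centralizer (S : Set G) => χ h) (res (Subgroup.centralizer (S : Set G)) ι) =
      ∑ g : G with g ∈ Subgroup.centralizer (S : Set G), co ι g * χ g := by
    rw [Finset.sum_subtype (Finset.univ.filter fun g => g ∈ Subgroup.centralizer (S : Set G))
      (p := fun g => g ∈ Subgroup.centralizer (S : Set G)) (fun g => by simp) (fun g => co ι g * χ g), trC]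
    exact Finset.sum_congr rfl fun x _ => by rw [co_res]
  rw [e]
  exact h

open scoped Classical in
/-- Idempotents with one multiplicity; the unit property comes afterwards. -/
theorem exists_pre {S : Subgroup G} [Fintype (Subgroup.centralizer (S : Set G))] (hSD : S ≤ D) (hS : S ≠ ⊥) :
    ∃ (f : Set (IrrCharacter (Subgroup.centralizer (S : Set G))))
      (κ : OA (pmod_prime hM) (Subgroup.centralizer (S : Set G))) (m : ℕ), IsNormalSubpair p M S f D c ∧ IsIdempotentElem κ ∧
      (∀ h, MemLocalIdeal M (co κ h - co ι (h : G))) ∧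
      (∀ a : Subgroup.centralizer (S : Set G), (a : G) ∈ D → Commute (gen (pmod_prime hM) a) κ) ∧
      (∀ ξ ∈ f, trC (ξ : Subgroup.centralizer (S : Set G) → ℂ) κ = (m : ℂ)) ∧
      (∀ ξ, ξ ∉ f → trC (ξ : Subgroup.centralizer (S : Set G) → ℂ) κ = 0) ∧ Nat.card f = Nat.card D ∧
      (∀ χ ∈ B, blockHeight p B (χ : G → ℂ) = 0 → ∃ w : ℕ, ¬ p ∣ w ∧
        MemLocalIdeal M (trC (χ : G → ℂ) ι - (w : ℂ) * (m : ℂ))) := by
  have hP := pmod_prime hM
  obtain ⟨f, hf⟩ := BelowData.exists_below hM hmax hab hSD
  set E := blockElt hM hf.1.2 with hE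
  have hEc : ∀ w, Commute E w := commute_blockElt hM hf.1.2
  set y := res (Subgroup.centralizer (S : Set G)) ι with hy
  set x := y * E with hx
  have hSp : IsPGroup p S := isPGroup_le hmax hSD
  have hxy : ∀ h, MemLocalIdeal M (co x h - co y h) := hd.local_block S f hf
  let J : Submodule (locRing hP) (OA hP (Subgroup.centralizer (S : Set G))) :=
    { carrier := {j | ∀ h, MemLocalIdeal M (co j h)}
      add_mem' := fun {a b} ha hb h => by rw [co_add]; exact memLI_add hP (ha h) (hb h)
      zero_mem' := fun h => by rw [co_zero]; exact memLI_zero hP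
      smul_mem' := fun r j hj h => by rw [co_smul]; exact memLI_mul_left hP r.2 (hj h) }
  have hmul : ∀ a j : OA hP (Subgroup.centralizer (S : Set G)), j ∈ J → a * j ∈ J ∧ j * a ∈ J := fun a j hj => by
    constructor <;> intro h <;> rw [co_mul, conv]
    · exact memLI_sum hP _ _ fun w _ => memLI_mul_left hP (memLR_co a _) (hj _)
    · exact memLI_sum hP _ _ fun w _ => memLI_mul_right hP (hj _) (memLR_co a _)
  have hyy : y * y - y ∈ J := by
    intro h
    rw [co_sub, Pi.sub_apply]
    have := LocalIdem.res_mul hM hSp (fun u hu => hd.comm u (hSD hu)) (fun u hu => hd.comm u (hSD hu)) h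
    rw [hd.idem.eq] at this
    exact memLI_symm hP this
  have hxx : x * x - x ∈ J := by
    have e : x * x - x = (y * y - y) * E := by
      rw [hx, sub_mul, mul_assoc y E, ← mul_assoc E y E, (hEc y).eq, mul_assoc y E E,
        (isIdem_blockElt hM hf.1.2).eq, ← mul_assoc]
    rw [e]
    exact (hmul E _ hyy).2
  obtain ⟨P, hPm, hPx⟩ := exists_monic x
  obtain ⟨g, hg0, hgd, hg1⟩ := IdemLift.exists_separator hP hPm
  set κ := aeval x g with hκ
  have hκx : κ - x ∈ J := IdemLift.aeval_sub_mem hg0 hg1 hPx J (fun j hj => (hmul x j hj).1)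
    (fun a ha h => by rw [co_smul]; exact memLI_mul_right hP ha (memLR_co x h)) hxx
  have hκi : IsIdempotentElem κ := IdemLift.idem_of_dvd hgd hPx
  obtain ⟨f', hf'⟩ : (Polynomial.X : (locRing hP)[X]) ∣ g :=
    X_dvd_iff.mpr (by rw [coeff_zero_eq_eval_zero, hg0])
  have hκE : κ * E = κ := by
    rw [hκ, hf', mul_comm, map_mul, aeval_X, mul_assoc, hx, mul_assoc y, (isIdem_blockElt hM hf.1.2).eq]
  have hcomm : ∀ a : (Subgroup.centralizer (S : Set G)), (a : G) ∈ D → Commute (gen hP a) κ := fun a ha => by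
    have h1 : Commute (gen hP a) x := (LocalIdem.commute_res hM hd.comm a ha).mul_right (hEc _).symm
    rw [hκ, aeval_eq_sum_range]
    exact Commute.sum_right _ _ _ fun i _ => (h1.pow_right i).smul_right _
  have hcongr : ∀ h, MemLocalIdeal M (co κ h - co ι (h : G)) := fun h => by
    rw [← co_res (Subgroup.centralizer (S : Set G)) ι h]
    refine memLI_trans hP ?_ (hxy h)
    have := hκx h
    rwa [co_sub] at this
  obtain ⟨θ, hθ⟩ := block_nonempty hP hf.1.2
  obtain ⟨m, hm⟩ := exists_nat_trC (irr_isCharacter θ.2) hκi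
  have hQfree : ∀ t ∈ pairStab hP hmax.1.1.2, (∀ u ∈ S, t * u = u * t) → t ∈ Subgroup.centralizer (D : Set G) := by
    intro t ht htS
    obtain ⟨u, hu, hu1⟩ := S.ne_bot_iff_exists_ne_one.mp hS |> fun ⟨a, ha⟩ => (⟨(a : G), a.2, fun h => ha (Subtype.ext h)⟩ : ∃ u ∈ S, u ≠ 1)
    exact hfree t ht u (hSD hu) hu1 (by rw [htS u hu, mul_inv_cancel_right])
  have hin : ∀ ξ ∈ f, trC (ξ : (Subgroup.centralizer (S : Set G)) → ℂ) κ = m := fun ξ hξ => by
    rw [← hm]
    exact IdemTrace.trC_eq_of_regular hM hκi (isClassFunction_character (irr_isCharacter ξ.2))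
      (isClassFunction_character (irr_isCharacter θ.2)) fun g hg =>
        BelowData.regular hM hmax hab hf hQfree hξ hθ hg
  have hout : ∀ ξ, ξ ∉ f → trC (ξ : (Subgroup.centralizer (S : Set G)) → ℂ) κ = 0 := fun ξ hξ =>
    trC_eq_zero_of_not_mem hM hf.1.2 hξ hκE
  have hcount : Nat.card f = Nat.card D := by
    rw [BelowData.counts hM hmax hab hf hQfree, card_defectGroup hM hmax.1.2.1 (maximal_pair_defect hM hmax)]
  refine ⟨f, κ, m, hf, hκi, hcongr, hcomm, hin, hout, hcount, fun χ hχ h0 => ?_⟩
  obtain ⟨n, hn⟩ := exists_decomposition (isCharacter_comp (Subgroup.centralizer (S : Set G)).subtype (irr_isCharacter χ.2))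
  refine ⟨∑ η : IrrCharacter (Subgroup.centralizer (S : Set G)) with η ∈ f, n η, fun hdvd =>
    (BelowData.mult_unit hM hmax hab hf hQfree hχ h0 hn).1 ((memLI_natCast_iff hM _).mpr hdvd), ?_⟩
  have e : trC (fun h : (Subgroup.centralizer (S : Set G)) => (χ : G → ℂ) h) κ = ((∑ η : IrrCharacter (Subgroup.centralizer (S : Set G)) with η ∈ f, n η : ℕ) : ℂ) * (m : ℂ) := by
    rw [show (fun h : (Subgroup.centralizer (S : Set G)) => (χ : G → ℂ) h) = ∑ η, n η • (η : (Subgroup.centralizer (S : Set G)) → ℂ) from hn, trC_fun_sum, Nat.cast_sum,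
      Finset.sum_mul, Finset.sum_filter]
    refine Finset.sum_congr rfl fun η _ => ?_
    split_ifs with h
    · rw [hin η h]
    · rw [hout η h, mul_zero]
  rw [← e]
  refine memLI_trans hP (restr_congr hM hmax hab hd hfree hSD (irr_isCharacter χ.2))
    (memLI_trC_sub (fun k => memLR_char hP (irr_isCharacter χ.2) _) fun h => ?_)
  rw [co_res]
  exact memLI_symm hP (hcongr h)

open scoped Classical in
/-- The trace of a height zero character on the idempotent is a unit. -/
theorem top_unit (hD : D ≠ ⊥) {χ : IrrCharacter G} (hχ : χ ∈ B) (h0 : blockHeight p B (χ : G → ℂ) = 0) :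
    ¬ MemLocalIdeal M (trC (χ : G → ℂ) ι) := by
  have hP := pmod_prime hM
  haveI : Fintype (Subgroup.centralizer (D : Set G)) := Fintype.ofFinite _
  obtain ⟨f, κ, m, hf, hκi, hcongr, -, hin, -, -, hw⟩ := exists_pre hM hmax hab hd hfree le_rfl hD
  have hfc : f = c := eq_of_heq (Sigma.mk.inj_iff.mp (eq_of_rel_card hM (a := (⟨D, f⟩ : BrauerPairIdx G))
    (b := (⟨D, c⟩ : BrauerPairIdx G))
    (Relation.ReflTransGen.single (show NormalSubpairRel p M (⟨D, f⟩ : BrauerPairIdx G) ⟨D, c⟩ from hf))
    le_rfl)).2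
  subst hfc
  obtain ⟨θ, hθ, hθu⟩ := hd.top
  obtain ⟨w, hpw, hwc⟩ := hw χ hχ h0
  intro h
  have h1 : MemLocalIdeal M ((w : ℂ) * (m : ℂ)) := by
    have := memLI_sub hP h hwc
    rwa [sub_sub_cancel] at this
  rw [← Nat.cast_mul, memLI_natCast_iff hM, hM.1.dvd_mul] at h1
  refine hθu (memLI_congr hP (memLI_symm hP (memLI_trC_sub (fun k => memLR_char hP (irr_isCharacter θ.2) k)
    (x := κ) fun h => ?_)) ?_)
  · rw [co_res]
    exact hcongr h
  · rw [hin θ hθ]
    exact (memLI_natCast_iff hM m).mpr (h1.resolve_left hpw)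

/-- Every nontrivial subgroup has a level. -/
theorem exists_level {S : Subgroup G} [Fintype (Subgroup.centralizer (S : Set G))] (hSD : S ≤ D) (hS : S ≠ ⊥) :
    ∃ (f : Set (IrrCharacter (Subgroup.centralizer (S : Set G))))
      (κ : OA (pmod_prime hM) (Subgroup.centralizer (S : Set G))) (m : ℕ), Level hM ι D c B S f κ m := by
  classical
  have hP := pmod_prime hM
  obtain ⟨f, κ, m, hf, hκi, hcongr, hcomm, hin, hout, hcount, hw⟩ := exists_pre hM hmax hab hd hfree hSD hS
  obtain ⟨χ, hχ, h0⟩ := exists_height_zero (p := p) (block_nonempty hP hmax.1.2.1)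
  refine ⟨f, κ, m, hf, hκi, hcongr, hcomm, hin, hout, fun hdvd => ?_, hcount⟩
  obtain ⟨w, -, hwc⟩ := hw χ hχ h0
  refine top_unit hM hmax hab hd hfree (fun e => hS (le_bot_iff.mp (e ▸ hSD))) hχ h0 ?_
  refine memLI_congr hP hwc ?_
  exact memLI_mul_left hP (memLR_natCast hP w) ((memLI_natCast_iff hM m).mpr hdvd)

end Cfsg.Agent.Char.StarLevels
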