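import Cfsg.Agent.Lib.Char.FixedLocal
import Cfsg.Agent.Lib.Char.SectionTrace
import Cfsg.Agent.Lib.Char.BlockNilpotent
import Cfsg.Agent.Lib.Char.MonomialNilp
import Cfsg.Agent.Lib.Char.IntComb
import Cfsg.Agent.Lib.Char.Central

/-!
# Products of characters with stable functions on a defect group, locally

For a function on the group of a maximal pair which is constant on the fusion classes, the parts of a character
at the pairs of a `p`-element are weighted by its values. Against a fixed idempotent of the group algebra the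
result is a local-integral combination of characters on every `p`-subgroup fixing the idempotent.
-/

set_option autoImplicit false
set_option linter.unusedSectionVars false
set_option linter.style.haveILetI false

namespace Cfsg.Agent.Char.Star

open Cfsg Module Relation IdemAlg IdemSub Fixed
open scoped ComplexConjugate

universe u

variable {G : Type u} [Group G] [Fintype G] {M : Ideal AlgInt} {p : ℕ} {B : Set (IrrCharacter G)}
  {P : Subgroup G} {e : Set (IrrCharacter (Subgroup.centralizer (P : Set G)))}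

/-- Constant on the fusion classes below the pair. -/
def Stable (p : ℕ) (M : Ideal AlgInt) (P : Subgroup G)
    (e : Set (IrrCharacter (Subgroup.centralizer (P : Set G)))) (lam : G → ℂ) : Prop :=
  ∀ (a : BrauerPairIdx G) (v k : G), a.1 = Subgroup.zpowers v →
    ReflTransGen (NormalSubpairRel p M) a ⟨P, e⟩ →
    ReflTransGen (NormalSubpairRel p M) (conjIdx k a) ⟨P, e⟩ → lam (k * v * k⁻¹) = lam v

open scoped Classical in
/-- The value carried to a pair of `u`. -/
noncomputable def wt (p : ℕ) (M : Ideal AlgInt) (P : Subgroup G)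
    (e : Set (IrrCharacter (Subgroup.centralizer (P : Set G)))) (lam : G → ℂ) (u : G)
    (a : BrauerPairIdx G) : ℂ :=
  if h : ∃ g, ReflTransGen (NormalSubpairRel p M) (conjIdx g a) ⟨P, e⟩ then
    lam (h.choose * u * h.choose⁻¹) else 0

theorem wt_eq (hM : IsPModular p M) {lam : G → ℂ} (hlam : Stable p M P e lam) {u : G} {a : BrauerPairIdx G}
    (hau : a.1 = Subgroup.zpowers u) (hab : IsPBlock M a.2) {g : G}
    (hg : ReflTransGen (NormalSubpairRel p M) (conjIdx g a) ⟨P, e⟩) :
    wt p M P e lam u a = lam (g * u * g⁻¹) := by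
  have h : ∃ g, ReflTransGen (NormalSubpairRel p M) (conjIdx g a) ⟨P, e⟩ := ⟨g, hg⟩
  rw [wt, dif_pos h]
  have := hlam (conjIdx g a) (g * u * g⁻¹) (h.choose * g⁻¹)
    (by show a.1.map _ = _
        rw [hau, MonoidHom.map_zpowers]; rfl) hg
    (by rw [conjIdx_mul (pmod_prime hM) _ _ _ hab, inv_mul_cancel_right]; exact h.choose_spec)
  rwa [show h.choose * g⁻¹ * (g * u * g⁻¹) * (h.choose * g⁻¹)⁻¹ = h.choose * u * h.choose⁻¹ by group] at this

theorem wt_conj (hM : IsPModular p M) {lam : G → ℂ} (hlam : Stable p M P e lam) {u : G} {a : BrauerPairIdx G}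
    (hau : a.1 = Subgroup.zpowers u) (hab : IsPBlock M a.2) (w : G) :
    wt p M P e lam (w * u * w⁻¹) (conjIdx w a) = wt p M P e lam u a := by
  have hP := pmod_prime hM
  by_cases h : ∃ g, ReflTransGen (NormalSubpairRel p M) (conjIdx g a) ⟨P, e⟩
  · obtain ⟨g, hg⟩ := h
    have hg' : ReflTransGen (NormalSubpairRel p M) (conjIdx (g * w⁻¹) (conjIdx w a)) ⟨P, e⟩ := by
      rwa [conjIdx_mul hP _ _ _ hab, inv_mul_cancel_right]
    rw [wt_eq hM hlam hau hab hg, wt_eq hM hlam ?_ (show IsPBlock M (conjIdx w a).2 from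
      isPBlock_conjBlock w hab) hg']
    · congr 1; group
    · show a.1.map _ = _
      rw [hau, MonoidHom.map_zpowers]; rfl
  · rw [wt, dif_neg, wt, dif_neg h]
    rintro ⟨g, hg⟩
    exact h ⟨g * w, by rwa [conjIdx_mul hP _ _ _ hab] at hg⟩

/-- The pairs of the block at a `p`-element. -/
noncomputable def prs (p : ℕ) (M : Ideal AlgInt) (B : Set (IrrCharacter G)) (u : G) :
    Finset (BrauerPairIdx G) :=
  (Set.toFinite {a : BrauerPairIdx G | a.1 = Subgroup.zpowers u ∧ IsBrauerPairOf p M B a.1 a.2}).toFinset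

theorem mem_prs {u : G} {a : BrauerPairIdx G} :
    a ∈ prs p M B u ↔ a.1 = Subgroup.zpowers u ∧ IsBrauerPairOf p M B a.1 a.2 := by
  simp [prs]

theorem prs_conj_mem {u : G} {a : BrauerPairIdx G} (w : G) (ha : a ∈ prs p M B u) :
    conjIdx w a ∈ prs p M B (w * u * w⁻¹) := by
  obtain ⟨h1, h2⟩ := mem_prs.mp ha
  refine mem_prs.mpr ⟨?_, brauerPairOf_conj w h2⟩
  show a.1.map _ = _
  rw [h1, MonoidHom.map_zpowers]
  rfl

theorem sum_prs_conj (hP : M.IsPrime) (u w : G) (f : BrauerPairIdx G → ℂ) :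
    ∑ a ∈ prs p M B (w * u * w⁻¹), f a = ∑ a ∈ prs p M B u, f (conjIdx w a) := by
  have hinv : ∀ (w : G) (a : BrauerPairIdx G), IsPBlock M a.2 → conjIdx w⁻¹ (conjIdx w a) = a :=
    fun w a ha => by rw [conjIdx_mul hP _ _ _ ha, inv_mul_cancel, conjIdx_one hP _ ha]
  refine Finset.sum_nbij' (fun a => conjIdx w⁻¹ a) (fun a => conjIdx w a) (fun a ha => ?_)
    (fun a ha => prs_conj_mem w ha) (fun a ha => ?_) (fun a ha => hinv w a (mem_prs.mp ha).2.1.2)
    (fun a ha => ?_)
  · have := prs_conj_mem w⁻¹ ha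
    rwa [show w⁻¹ * (w * u * w⁻¹) * w⁻¹⁻¹ = u by group] at this
  · have := hinv w⁻¹ a (mem_prs.mp ha).2.1.2
    rwa [inv_inv] at this
  · have := hinv w⁻¹ a (mem_prs.mp ha).2.1.2
    rw [inv_inv] at this
    rw [this]

section Part

variable (hM : IsPModular p M)

/-- An idempotent inside `j` congruent on `C(u)` to its product with a block. -/
structure IsCut (u : G) (j : OA (pmod_prime hM) G) (a : BrauerPairIdx G) (ε : OA (pmod_prime hM) G) : Prop where
  idem : IsIdempotentElem ε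
  mem : ε ∈ fix _ (Subgroup.zpowers u)
  left : j * ε = ε
  right : ε * j = ε
  eqv : Eqv (Subgroup.zpowers u) ε (j * bElt hM a)

theorem bElt_mem_fix_of_eq {u : G} {a : BrauerPairIdx G} (ha : a.1 = Subgroup.zpowers u) :
    bElt hM a ∈ fix _ (Subgroup.zpowers u) := by
  obtain ⟨S, f⟩ := a
  dsimp only at ha
  subst ha
  exact bElt_mem_fix_self hM

theorem bElt_central {u : G} (hu : ∃ k : ℕ, orderOf u = p ^ k) {a : BrauerPairIdx G}
    (ha : a.1 = Subgroup.zpowers u) {x : OA (pmod_prime hM) G} (hx : x ∈ fix _ (Subgroup.zpowers u)) :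
    Eqv (Subgroup.zpowers u) (x * bElt hM a) (bElt hM a * x) := by
  obtain ⟨S, f⟩ := a
  dsimp only at ha
  subst ha
  exact eqv_central hM (isPGroup_zpowers hM.1 hu) hx

variable {u : G} (hu : ∃ k : ℕ, orderOf u = p ^ k) {a : BrauerPairIdx G} (ha : a.1 = Subgroup.zpowers u)
  {j : OA (pmod_prime hM) G} (hj : IsIdempotentElem j) (hjm : j ∈ fix _ (Subgroup.zpowers u))

include hu ha hj hjm in
theorem exists_cut : ∃ ε, IsCut hM u j a ε := by
  have hP := pmod_prime hM
  have hS := isPGroup_zpowers hM.1 hu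
  set X := bElt hM a with hX
  have hXm : X ∈ fix hP (Subgroup.zpowers u) := bElt_mem_fix_of_eq hM ha
  set y := j * X * j with hy
  have hym : y ∈ fix hP (Subgroup.zpowers u) := mul_mem (mul_mem hjm hXm) hjm
  have hjy : j * y = y := by rw [hy, ← mul_assoc, ← mul_assoc, hj.eq]
  have hyj : y * j = y := by rw [hy, mul_assoc _ j j, hj.eq]
  have hc : Eqv (Subgroup.zpowers u) y (j * X) := by
    have h1 := (Eqv.refl (Subgroup.zpowers u) j).mul hM hS hjm hjm (mul_mem hXm hjm) (mul_mem hjm hXm)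
      (bElt_central hM hu ha hjm).symm
    rwa [← mul_assoc, ← mul_assoc, hj.eq] at h1
  have hyy : Eqv (Subgroup.zpowers u) (y * y) y := by
    have h1 := hc.mul hM hS hym (mul_mem hjm hXm) hym hym (Eqv.refl _ y)
    rw [mul_assoc j X y] at h1
    have h2 := (Eqv.refl (Subgroup.zpowers u) j).mul hM hS hjm hjm (mul_mem hXm hym) (mul_mem hym hXm)
      (bElt_central hM hu ha hym).symm
    rw [← mul_assoc j y X, hjy] at h2
    have h3 := hc.mul hM hS hym (mul_mem hjm hXm) hXm hXm (Eqv.refl _ X)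
    rw [mul_assoc j X X, (isIdem_bElt hM a).eq] at h3
    exact h1.trans (h2.trans (h3.trans hc.symm))
  obtain ⟨R, hRm, hRy⟩ := exists_monic y
  obtain ⟨sep, hs0, hsd, hs1⟩ := IdemLift.exists_separator hP hRm
  have hkey : Polynomial.aeval y sep - y ∈ LocalIdem.kerS hM (Subgroup.zpowers u) :=
    IdemLift.aeval_sub_mem hs0 hs1 hRy (LocalIdem.kerS hM (Subgroup.zpowers u))
      (fun i hi => (LocalIdem.kerS_mul hM hS (mem_fix.mp hym) hi).1)
      (fun c hc => ⟨fun v hv => (mem_fix.mp hym v hv).smul_right c, fun k _ => by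
        rw [co_smul]; exact memLI_mul_right hP hc (memLR_co y k)⟩)
      ⟨mem_fix.mp (sub_mem (mul_mem hym hym) hym), fun g hg => by rw [co_sub]; exact hyy g hg⟩
  obtain ⟨f, hf⟩ : (Polynomial.X : Polynomial (locRing hP)) ∣ sep :=
    Polynomial.X_dvd_iff.mpr (by rw [Polynomial.coeff_zero_eq_eval_zero, hs0])
  refine ⟨Polynomial.aeval y sep, IdemLift.idem_of_dvd hsd hRy, ?_, ?_, ?_, ?_⟩
  · rw [Polynomial.aeval_eq_sum_range]
    exact sum_mem fun i _ => (fix hP _).smul_mem (pow_mem hym i) _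
  · rw [hf, map_mul, Polynomial.aeval_X, ← mul_assoc, hjy]
  · rw [hf, mul_comm Polynomial.X f, map_mul, Polynomial.aeval_X, mul_assoc, hyj]
  · refine Eqv.trans (fun g hg => ?_) hc
    have := hkey.2 g hg
    rwa [co_sub, Pi.sub_apply] at this

open scoped Classical in
/-- The trace of `u` against the part of `j` in a block of `C(u)`. -/
noncomputable def part (χ : G → ℂ) (u : G) (j : OA (pmod_prime hM) G) (a : BrauerPairIdx G) : ℂ :=
  trC χ (gen (pmod_prime hM) u * Classical.epsilon (IsCut hM u j a))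

variable {χ : G → ℂ} (hχ : IsCharacter G χ)

theorem commute_of_mem_fix {x : OA (pmod_prime hM) G} (hx : x ∈ fix _ (Subgroup.zpowers u)) :
    Commute (gen _ u) x := mem_fix.mp hx u (Subgroup.mem_zpowers u)

include hu ha hj hjm hχ in
theorem part_eq {ε : OA (pmod_prime hM) G} (h : IsCut hM u j a ε) :
    part hM χ u j a = trC χ (gen (pmod_prime hM) u * ε) := by
  have hc := Classical.epsilon_spec (exists_cut hM hu ha hj hjm)
  refine IdemTrace.trC_eq_of_congr hM u hu hc.idem h.idem (commute_of_mem_fix hM hc.mem)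
    (commute_of_mem_fix hM h.mem) (fun g hg => ?_) hχ
  exact (hc.eqv.trans h.eqv.symm) g (IdemTrace.mem_centralizer_zpowers_iff.mpr hg)

include hu ha hj hjm hχ in
theorem part_of_single (h : Eqv (Subgroup.zpowers u) (j * bElt hM a) j) :
    part hM χ u j a = trC χ (gen (pmod_prime hM) u * j) :=
  part_eq hM hu ha hj hjm hχ ⟨hj, hjm, hj.eq, hj.eq, h.symm⟩

include hu ha hj hjm hχ in
theorem part_eq_zero (h : Eqv (Subgroup.zpowers u) (j * bElt hM a) 0) : part hM χ u j a = 0 := by
  rw [part_eq hM hu ha hj hjm hχ (ε := 0) ⟨IsIdempotentElem.zero, zero_mem _, mul_zero _, zero_mul _, h.symm⟩,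
    mul_zero, trC_zero]

include hu ha hj hjm hχ in
theorem part_of_zero (h : Eqv (Subgroup.zpowers u) j 0) : part hM χ u j a = 0 := by
  refine part_eq_zero hM hu ha hj hjm hχ ?_
  have := h.mul hM (isPGroup_zpowers hM.1 hu) hjm (zero_mem _) (bElt_mem_fix_of_eq hM ha)
    (bElt_mem_fix_of_eq hM ha) (Eqv.refl _ (bElt hM a))
  rwa [zero_mul] at this

end Part

section Laws

variable (hM : IsPModular p M) {u : G} (hu : ∃ k : ℕ, orderOf u = p ^ k) {a : BrauerPairIdx G}
  (ha : a.1 = Subgroup.zpowers u) {χ : G → ℂ} (hχ : IsCharacter G χ)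

include hu ha hχ in
theorem part_add {j k : OA (pmod_prime hM) G} (hj : IsIdempotentElem j) (hk : IsIdempotentElem k)
    (hjm : j ∈ fix _ (Subgroup.zpowers u)) (hkm : k ∈ fix _ (Subgroup.zpowers u)) (h1 : j * k = 0)
    (h2 : k * j = 0) : part hM χ u (j + k) a = part hM χ u j a + part hM χ u k a := by
  obtain ⟨ε, hε⟩ := exists_cut hM hu ha hj hjm
  obtain ⟨δ, hδ⟩ := exists_cut hM hu ha hk hkm
  have e1 : ε * δ = 0 := by rw [← hε.right, ← hδ.left, mul_assoc, ← mul_assoc j, h1, zero_mul, mul_zero]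
  have e2 : δ * ε = 0 := by rw [← hδ.right, ← hε.left, mul_assoc, ← mul_assoc k, h2, zero_mul, mul_zero]
  have e3 : j * δ = 0 := by rw [← hδ.left, ← mul_assoc, h1, zero_mul]
  have e4 : k * ε = 0 := by rw [← hε.left, ← mul_assoc, h2, zero_mul]
  have e5 : δ * j = 0 := by rw [← hδ.right, mul_assoc, h2, mul_zero]
  have e6 : ε * k = 0 := by rw [← hε.right, mul_assoc, h1, mul_zero]
  rw [part_eq hM hu ha hj hjm hχ hε, part_eq hM hu ha hk hkm hχ hδ,
    part_eq hM hu ha (ε := ε + δ) (show (j + k) * (j + k) = j + k by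
      rw [add_mul, mul_add, mul_add, hj.eq, hk.eq, h1, h2, add_zero, zero_add]) (add_mem hjm hkm) hχ
      ⟨show (ε + δ) * (ε + δ) = ε + δ by
          rw [add_mul, mul_add, mul_add, hε.idem.eq, hδ.idem.eq, e1, e2, add_zero, zero_add],
        add_mem hε.mem hδ.mem,
        by rw [add_mul, mul_add, mul_add, hε.left, hδ.left, e3, e4, add_zero, zero_add],
        by rw [add_mul, mul_add, mul_add, hε.right, hδ.right, e5, e6, add_zero, zero_add],
        by rw [add_mul]; exact hε.eqv.add hδ.eqv⟩,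
    mul_add, trC_add]

include hu ha hχ in
theorem part_assoc {j j' x y : OA (pmod_prime hM) G} (hj : IsIdempotentElem j) (hj' : IsIdempotentElem j')
    (hjm : j ∈ fix _ (Subgroup.zpowers u)) (hj'm : j' ∈ fix _ (Subgroup.zpowers u))
    (hx : x ∈ fix _ (Subgroup.zpowers u)) (hy : y ∈ fix _ (Subgroup.zpowers u)) (hjx : j * x = x)
    (hxj : x * j' = x) (hjy : j' * y = y) (hyj : y * j = y) (hxy : x * y = j) (hyx : y * x = j') :
    part hM χ u j' a = part hM χ u j a := by
  have hS := isPGroup_zpowers hM.1 hu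
  obtain ⟨ε, hε⟩ := exists_cut hM hu ha hj hjm
  set X := bElt hM a with hX
  have hXm : X ∈ fix (pmod_prime hM) (Subgroup.zpowers u) := bElt_mem_fix_of_eq hM ha
  have heqv : Eqv (Subgroup.zpowers u) (y * ε * x) (j' * X) := by
    have h1 := ((Eqv.refl (Subgroup.zpowers u) y).mul hM hS hy hy hε.mem (mul_mem hjm hXm) hε.eqv).mul hM hS
      (mul_mem hy hε.mem) (mul_mem hy (mul_mem hjm hXm)) hx hx (Eqv.refl _ x)
    rw [← mul_assoc y j X, hyj, mul_assoc y X x] at h1
    have h2 := (Eqv.refl (Subgroup.zpowers u) y).mul hM hS hy hy (mul_mem hXm hx) (mul_mem hx hXm)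
      (bElt_central hM hu ha hx).symm
    rw [← mul_assoc y x X, hyx] at h2
    exact h1.trans h2
  rw [part_eq hM hu ha hj' hj'm hχ (ε := y * ε * x)
      ⟨show y * ε * x * (y * ε * x) = y * ε * x by
        calc y * ε * x * (y * ε * x) = y * (ε * (x * y)) * ε * x := by simp only [mul_assoc]
          _ = y * (ε * ε) * x := by rw [hxy, hε.right]; simp only [mul_assoc]
          _ = y * ε * x := by rw [hε.idem.eq],
        mul_mem (mul_mem hy hε.mem) hx, by rw [← mul_assoc, ← mul_assoc, hjy],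
        by rw [mul_assoc, hxj], heqv⟩,
    part_eq hM hu ha hj hjm hχ hε, ← mul_assoc, ← mul_assoc, (commute_of_mem_fix hM hy).eq,
    mul_assoc y, mul_assoc y, trC_mul_comm hχ, mul_assoc (gen (pmod_prime hM) u * ε), hxy,
    mul_assoc, hε.right]

include hu ha hχ in
theorem part_conj (hab : IsPBlock M a.2) (w : G) {j : OA (pmod_prime hM) G} (hj : IsIdempotentElem j)
    (hjm : j ∈ fix _ (Subgroup.zpowers u)) :
    part hM χ (w * u * w⁻¹) (conjA w j) (conjIdx w a) = part hM χ u j a := by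
  obtain ⟨ε, hε⟩ := exists_cut hM hu ha hj hjm
  have hfix : ∀ z ∈ fix (pmod_prime hM) (Subgroup.zpowers u),
      conjA w z ∈ fix (pmod_prime hM) (Subgroup.zpowers (w * u * w⁻¹)) := by
    intro z hz
    refine mem_fix.mpr fun v hv => commute_iff_conjA.mpr ?_
    obtain ⟨i, rfl⟩ := Subgroup.mem_zpowers_iff.mp hv
    rw [conjA_conjA, conj_zpow, inv_mul_cancel_right, ← conjA_conjA,
      commute_iff_conjA.mp (mem_fix.mp hz _ (zpow_mem (Subgroup.mem_zpowers u) i))]
  have hwu : (conjIdx w a).1 = Subgroup.zpowers (w * u * w⁻¹) := by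
    show a.1.map _ = _
    rw [ha, MonoidHom.map_zpowers]; rfl
  have heqv : Eqv (Subgroup.zpowers (w * u * w⁻¹)) (conjA w ε) (conjA w j * bElt hM (conjIdx w a)) := by
    rw [← conjA_bElt hM w hab, ← conjA_mul]
    intro g hg
    rw [co_conjA, co_conjA]
    refine hε.eqv _ (IdemTrace.mem_centralizer_zpowers_iff.mpr ?_)
    have := (IdemTrace.mem_centralizer_zpowers_iff.mp hg).map (MulAut.conj w⁻¹).toMonoidHom
    simpa [mul_assoc] using this
  rw [part_eq hM hu ha hj hjm hχ hε,
    part_eq hM (u := w * u * w⁻¹) (ε := conjA w ε) ?_ hwu (show conjA w j * conjA w j = _ by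
        rw [← conjA_mul, hj.eq]) (hfix j hjm) hχ
      ⟨show conjA w ε * conjA w ε = _ by rw [← conjA_mul, hε.idem.eq], hfix ε hε.mem,
        by rw [← conjA_mul, hε.left], by rw [← conjA_mul, hε.right], heqv⟩]
  · rw [show gen (pmod_prime hM) (w * u * w⁻¹) * conjA w ε = conjA w (gen (pmod_prime hM) u * ε) by
      rw [conjA_mul]; congr 1; rw [conjA, ← gen_mul, ← gen_mul]]
    exact SectionTrace.trC_conj hχ w _
  · rw [← MulAut.conj_apply, MulEquiv.orderOf_eq]; exact hu

end Laws

section Theta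

variable (hM : IsPModular p M) (B P e)

/-- The weighted sum of the parts at the pairs of `u`. -/
noncomputable def thetaJ (lam : G → ℂ) (χ : G → ℂ) (j : OA (pmod_prime hM) G) (u : G) : ℂ :=
  ∑ a ∈ prs p M B u, wt p M P e lam u a * part hM χ u j a

variable {B P e} {lam : G → ℂ} (hlam : Stable p M P e lam) {χ : G → ℂ} (hχ : IsCharacter G χ)

include hlam hχ in
theorem thetaJ_conj {u : G} (hu : ∃ k : ℕ, orderOf u = p ^ k) (w : G) {j : OA (pmod_prime hM) G}
    (hj : IsIdempotentElem j) (hjm : j ∈ fix _ (Subgroup.zpowers u)) :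
    thetaJ B P e hM lam χ (conjA w j) (w * u * w⁻¹) = thetaJ B P e hM lam χ j u := by
  rw [thetaJ, thetaJ, sum_prs_conj (pmod_prime hM)]
  refine Finset.sum_congr rfl fun a ha => ?_
  obtain ⟨h1, h2⟩ := mem_prs.mp ha
  rw [wt_conj hM hlam h1 h2.1.2, part_conj hM hu h1 hχ h2.1.2 w hj hjm]

include hχ in
theorem thetaJ_assoc {u : G} (hu : ∃ k : ℕ, orderOf u = p ^ k) {j j' x y : OA (pmod_prime hM) G}
    (hj : IsIdempotentElem j) (hj' : IsIdempotentElem j')
    (hjm : j ∈ fix _ (Subgroup.zpowers u)) (hj'm : j' ∈ fix _ (Subgroup.zpowers u))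
    (hx : x ∈ fix _ (Subgroup.zpowers u)) (hy : y ∈ fix _ (Subgroup.zpowers u)) (hjx : j * x = x)
    (hxj : x * j' = x) (hjy : j' * y = y) (hyj : y * j = y) (hxy : x * y = j) (hyx : y * x = j') :
    thetaJ B P e hM lam χ j' u = thetaJ B P e hM lam χ j u :=
  Finset.sum_congr rfl fun a ha => by
    rw [part_assoc hM hu (mem_prs.mp ha).1 hχ hj hj' hjm hj'm hx hy hjx hxj hjy hyj hxy hyx]

include hχ in
theorem thetaJ_of_zero {u : G} (hu : ∃ k : ℕ, orderOf u = p ^ k) {j : OA (pmod_prime hM) G}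
    (hj : IsIdempotentElem j) (hjm : j ∈ fix _ (Subgroup.zpowers u))
    (h : Eqv (Subgroup.zpowers u) j 0) : thetaJ B P e hM lam χ j u = 0 :=
  Finset.sum_eq_zero fun a ha => by
    rw [part_of_zero hM hu (mem_prs.mp ha).1 hj hjm hχ h, mul_zero]

open scoped Classical in
include hχ in
theorem thetaJ_decomp {u : G} (hu : ∃ k : ℕ, orderOf u = p ^ k) {A : Subalgebra (locRing (pmod_prime hM)) (OA (pmod_prime hM) G)}
    (hA : A ≤ fix _ (Subgroup.zpowers u)) {j : OA (pmod_prime hM) G} {J : Finset (OA (pmod_prime hM) G)}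
    (hJ : Decomp A j J) : thetaJ B P e hM lam χ j u = ∑ k ∈ J, thetaJ B P e hM lam χ k u := by
  suffices key : ∀ s ⊆ J, IsIdempotentElem (∑ k ∈ s, k) ∧
      (∀ l ∈ J, l ∉ s → (∑ k ∈ s, k) * l = 0 ∧ l * (∑ k ∈ s, k) = 0) ∧
      thetaJ B P e hM lam χ (∑ k ∈ s, k) u = ∑ k ∈ s, thetaJ B P e hM lam χ k u by
    conv_lhs => rw [← hJ.sum]
    exact (key J subset_rfl).2.2
  intro s
  induction s using Finset.induction_on with
  | empty =>
    intro _
    refine ⟨by simp [IsIdempotentElem.zero], by simp, ?_⟩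
    rw [Finset.sum_empty, Finset.sum_empty]
    exact thetaJ_of_zero hM hχ hu IsIdempotentElem.zero (zero_mem _) (Eqv.refl _ _)
  | insert b s hb ih =>
    intro hs
    obtain ⟨hi, ho, hsum⟩ := ih ((Finset.subset_insert b s).trans hs)
    have hbJ := hs (Finset.mem_insert_self b s)
    have hbm := hJ.min b hbJ
    have hsm : (∑ k ∈ s, k) ∈ fix (pmod_prime hM) (Subgroup.zpowers u) :=
      sum_mem fun k hk => hA (hJ.min k (hs (Finset.mem_insert_of_mem hk))).mem
    obtain ⟨h1, h2⟩ := ho b hbJ hb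
    rw [Finset.sum_insert hb, Finset.sum_insert hb]
    refine ⟨show (b + ∑ k ∈ s, k) * (b + ∑ k ∈ s, k) = _ by
      rw [add_mul, mul_add, mul_add, hbm.idem.eq, hi.eq, h1, h2, add_zero, zero_add],
      fun l hl hls => ?_, ?_⟩
    · have hne : b ≠ l := fun h => hls (h ▸ Finset.mem_insert_self b s)
      obtain ⟨h3, h4⟩ := ho l hl fun h => hls (Finset.mem_insert_of_mem h)
      exact ⟨by rw [add_mul, h3, hJ.orth b hbJ l hl hne, add_zero],
        by rw [mul_add, h4, hJ.orth l hl b hbJ hne.symm, add_zero]⟩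
    · rw [← hsum, thetaJ, thetaJ, thetaJ, ← Finset.sum_add_distrib]
      refine Finset.sum_congr rfl fun a ha => ?_
      rw [part_add hM hu (mem_prs.mp ha).1 hχ hbm.idem hi (hA hbm.mem) hsm h2 h1, mul_add]

theorem bElt_mul_ne {Q : Subgroup G} {f f' : Set (IrrCharacter (Subgroup.centralizer (Q : Set G)))}
    (hf : IsPBlock M f) (hf' : IsPBlock M f') (hne : f ≠ f') :
    bElt hM (⟨Q, f⟩ : BrauerPairIdx G) * bElt hM ⟨Q, f'⟩ = 0 := by
  haveI := Fintype.ofFinite (Subgroup.centralizer (Q : Set G))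
  rw [bElt_eq hM hf, bElt_eq hM hf', ← map_mul]
  rw [show blockElt hM hf * blockElt hM hf' = 0 from ext_co fun h => by
    rw [co_mul, co_blockElt, co_blockElt, conv_blockCoeff_ne (pmod_prime hM) hf hf' hne, co_zero], map_zero]

include hlam hχ in
/-- Where the idempotent sees one block it is the product of a transported function and a character. -/
theorem thetaJ_single (hmax : IsMaximalBrauerPair p M B P e) {Q : Subgroup G} (hQ : IsPGroup p Q)
    {j : OA (pmod_prime hM) G} (hj : Min (fix _ Q) j) (hnz : ¬ Eqv Q j 0) :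
    (∃ g, Q.map (MulAut.conj g).toMonoidHom ≤ P ∧ ∀ u ∈ Q, thetaJ B P e hM lam χ j u =
        lam (g * u * g⁻¹) * trC χ (gen (pmod_prime hM) u * j)) ∨
      ∀ u ∈ Q, thetaJ B P e hM lam χ j u = 0 := by
  have hP := pmod_prime hM
  obtain ⟨f, hf, hs⟩ := exists_single hM hQ hj hnz
  have hQf : IsBrauerPair p M Q f := ⟨hQ, hf⟩
  have hword : ∀ {u : G}, u ∈ Q → ∃ k : ℕ, orderOf u = p ^ k := fun {u} hu => by
    haveI := Fact.mk hM.1
    obtain ⟨n, hn⟩ := IsPGroup.iff_card.mp (hQ.to_le (Subgroup.zpowers_le.mpr hu))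
    exact ⟨n, by rwa [Nat.card_zpowers] at hn⟩
  have hother : ∀ {u : G}, u ∈ Q → ∀ f' : Set (IrrCharacter (Subgroup.centralizer (Subgroup.zpowers u : Set G))),
      IsPBlock M f' → ¬ SubpairLE p M (Subgroup.zpowers u) f' Q f →
      part hM χ u j ⟨Subgroup.zpowers u, f'⟩ = 0 := by
    intro u hu f' hf' hnot
    have hle : Subgroup.zpowers u ≤ Q := Subgroup.zpowers_le.mpr hu
    obtain ⟨fS, ⟨hfS, hfSQ⟩, -⟩ := existsUnique_subpair hM hQf hle
    have hjS := fix_antitone hle hj.mem
    refine part_eq_zero hM (hword hu) rfl hj.idem hjS hχ ?_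
    have h1 := (single_below hM hQ hj hnz hf hs hle hfSQ).symm.mul hM (hQ.to_le hle) hjS
      (mul_mem hjS (bElt_mem_fix_self hM)) (bElt_mem_fix_self hM) (bElt_mem_fix_self hM)
      (Eqv.refl _ (bElt hM ⟨Subgroup.zpowers u, f'⟩))
    rwa [mul_assoc, bElt_mul_ne hM hfS hf' fun h : fS = f' => hnot (h ▸ hfSQ), mul_zero] at h1
  by_cases hBQ : IsBrauerPairOf p M B Q f
  · left
    obtain ⟨g, hg⟩ := pairs_conj_into_maximal hM hmax hBQ
    refine ⟨g, subpair_le hg, fun u hu => ?_⟩
    have hle : Subgroup.zpowers u ≤ Q := Subgroup.zpowers_le.mpr hu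
    obtain ⟨fS, ⟨hfS, hfSQ⟩, huniq⟩ := existsUnique_subpair hM hQf hle
    have hmem : (⟨Subgroup.zpowers u, fS⟩ : BrauerPairIdx G) ∈ prs p M B u :=
      mem_prs.mpr ⟨rfl, (brauerPairOf_subpair hM hmax.1.2.1 hfSQ).mpr hBQ⟩
    rw [thetaJ, Finset.sum_eq_single _ (fun a ha hne => ?_) (fun h => absurd hmem h),
      part_of_single hM (hword hu) rfl hj.idem (fix_antitone hle hj.mem) hχ
        (single_below hM hQ hj hnz hf hs hle hfSQ),
      wt_eq hM hlam rfl hfS ((subpair_rel_conj hM g hfSQ).trans hg)]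
    obtain ⟨h1, h2⟩ := mem_prs.mp ha
    obtain ⟨S, f'⟩ := a
    dsimp only at h1
    subst h1
    rw [hother hu f' h2.1.2 fun h => hne (by rw [huniq f' ⟨h2.1.2, h⟩]), mul_zero]
  · right
    intro u hu
    refine Finset.sum_eq_zero fun a ha => ?_
    obtain ⟨h1, h2⟩ := mem_prs.mp ha
    obtain ⟨S, f'⟩ := a
    dsimp only at h1
    subst h1
    rw [hother hu f' h2.1.2 fun h => hBQ ((brauerPairOf_subpair hM hmax.1.2.1 h).mp h2), mul_zero]

end Theta

section IntComb

theorem intComb_comp {H K : Type u} [Group H] [Fintype H] [Group K] [Fintype K] (hP : M.IsPrime) (φ : H →* K)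
    {f : K → ℂ} (hf : IntComb M f) : IntComb M (fun h => f (φ h)) := by
  classical
  have e : (fun h => f (φ h)) =
      ∑ η : IrrCharacter K, classInner f (η : K → ℂ) • ((η : K → ℂ) ∘ φ) := by
    funext h
    conv_lhs => rw [classFun_expansion hf.1]
    simp
  rw [e]
  exact intComb_sum hP _ _ fun η _ => intComb_smul hP (hf.2 η) (intComb_char hP (isCharacter_comp φ (irr_isCharacter η.2)))

variable (hM : IsPModular p M) {lam : G → ℂ} (hlam : Stable p M P e lam) {χ : G → ℂ} (hχ : IsCharacter G χ)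

set_option maxHeartbeats 1000000 in
include hlam hχ in
open scoped Classical in
/-- Local integrality on `p`-subgroups fixing the idempotent. -/
theorem intComb_thetaJ (hmax : IsMaximalBrauerPair p M B P e) [Fintype P]
    (hlamP : IntComb M fun x : P => lam x) :
    ∀ (Q : Subgroup G) [Fintype Q], IsPGroup p Q → ∀ j : OA (pmod_prime hM) G, IsIdempotentElem j →
      j ∈ fix _ Q → IntComb M fun u : Q => thetaJ B P e hM lam χ j (u : G) := by
  have hP := pmod_prime hM
  haveI := Fact.mk hM.1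
  suffices key : ∀ (n : ℕ) (Q : Subgroup G) [Fintype Q], Nat.card Q = n → IsPGroup p Q →
      ∀ j : OA (pmod_prime hM) G, IsIdempotentElem j → j ∈ fix _ Q →
        IntComb M fun u : Q => thetaJ B P e hM lam χ j (u : G) from fun Q _ => key _ Q rfl
  intro n
  induction n using Nat.strong_induction_on with
  | _ n ih =>
  intro Q _ hn hQ j hj hjm
  have hword : ∀ {R : Subgroup G}, IsPGroup p R → ∀ {u : G}, u ∈ R → ∃ k : ℕ, orderOf u = p ^ k :=
    fun {R} hR {u} hu => by
      obtain ⟨m, hm⟩ := IsPGroup.iff_card.mp (hR.to_le (Subgroup.zpowers_le.mpr hu))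
      exact ⟨m, by rwa [Nat.card_zpowers] at hm⟩
  have hcl : ∀ j : OA (pmod_prime hM) G, IsIdempotentElem j → j ∈ fix _ Q →
      IsClassFunction Q fun u : Q => thetaJ B P e hM lam χ j (u : G) := fun j hj hjm x y => by
    show thetaJ B P e hM lam χ j ((y : G) * x * (y : G)⁻¹) = _
    conv_lhs => rw [← commute_iff_conjA.mp (mem_fix.mp hjm _ y.2)]
    exact thetaJ_conj hM hlam hχ (hword hQ x.2) _ hj
      (fix_antitone (Subgroup.zpowers_le.mpr x.2) hjm)
  obtain ⟨J, hJ⟩ := exists_decomp hjm hj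
  have hdec : (fun u : Q => thetaJ B P e hM lam χ j (u : G)) =
      ∑ k ∈ J, fun u : Q => thetaJ B P e hM lam χ k (u : G) := by
    funext u
    rw [Finset.sum_apply]
    exact thetaJ_decomp hM hχ (hword hQ u.2) (fun x hx => fix_antitone (Subgroup.zpowers_le.mpr u.2) hx) hJ
  rw [hdec]
  refine intComb_sum hP _ _ fun k hk => ?_
  clear hdec
  have hkm := hJ.min k hk
  clear hJ hk hjm hj j J
  by_cases hnz : Eqv Q k 0
  swap
  · rcases thetaJ_single hM hlam hχ hmax hQ hkm hnz with ⟨g, hgP, hg⟩ | h0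
    · let c : Q →* P := MonoidHom.codRestrict ((MulAut.conj g).toMonoidHom.comp Q.subtype) P
        fun u => hgP ⟨u, u.2, rfl⟩
      have e : (fun u : Q => thetaJ B P e hM lam χ k (u : G)) =
          (fun u : Q => lam (c u : G)) * fun u : Q => trC χ (gen hP (u : G) * k) :=
        funext fun u => hg u u.2
      rw [e]
      exact intComb_mul hP (intComb_comp hP c hlamP)
        (intComb_char hP (IdemTrace.isCharacter_trC hχ hkm.idem Q fun h hh => mem_fix.mp hkm.mem h hh))
    · have e : (fun u : Q => thetaJ B P e hM lam χ k (u : G)) = 0 := funext fun u => h0 u u.2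
      rw [e]
      exact intComb_zero hP
  -- a relative trace
  obtain ⟨T, v, a, hTQ, hTi, hTN, hvQ, hvT, ha, hsum, hout⟩ := exists_trace hM hQ hkm hnz
  set θ := fun u : Q => thetaJ B P e hM lam χ k (u : G) with hθ
  have hθc := hcl k hkm.idem hkm.mem
  refine ⟨hθc, fun ψ => ?_⟩
  haveI : Group.IsNilpotent Q := hQ.isNilpotent
  obtain ⟨H, ν, hψ⟩ := monomial_of_nilpotent _ Q rfl _ ψ.2
  haveI := Fintype.ofFinite H
  rw [hψ, frobenius_right H _ hθc]
  rcases eq_or_ne H ⊤ with rfl | hH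
  swap
  · -- a proper subgroup
    haveI := Fintype.ofFinite (H.map Q.subtype)
    have hlt : Nat.card (H.map Q.subtype) < n := by
      rw [Subgroup.card_map_of_injective Subtype.val_injective, ← hn]
      exact lt_of_le_of_ne (Subgroup.card_le_card_group H) fun h => hH (Subgroup.eq_top_of_card_eq H h)
    let c : H →* (H.map Q.subtype) := MonoidHom.codRestrict (Q.subtype.comp H.subtype) _ fun u => ⟨u, u.2, rfl⟩
    have hle : H.map Q.subtype ≤ Q := Subgroup.map_subtype_le H
    exact intComb_inner hP (intComb_comp hP c (ih _ hlt _ rfl (hQ.to_le hle) k hkm.idem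
      (fix_antitone hle hkm.mem))) (isCharacter_linear ν)
  -- a linear character
  haveI := Fintype.ofFinite T
  have hcardT : Nat.card T * p = n := by
    have h := (T.subgroupOf Q).card_mul_index
    rw [Nat.card_congr (Subgroup.subgroupOfEquivOfLe hTQ).toEquiv, hn] at h
    rwa [← hTi]
  have hT0 : 0 < Nat.card T := Nat.card_pos
  have hTlt : Nat.card T < n := by
    rw [← hcardT]
    exact lt_mul_of_one_lt_right hT0 hM.1.one_lt
  let nu : Q →* ℂˣ := ν.comp (Subgroup.topEquiv.symm.toMonoidHom)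
  let val : OA (pmod_prime hM) G → ℂ := fun i =>
    classInner (fun t : T => thetaJ B P e hM lam χ i (t : G)) (fun t : T => (nu (Subgroup.inclusion hTQ t) : ℂ))
  have h1 : classInner (fun h : (⊤ : Subgroup Q) => θ h) (fun h => (ν h : ℂ)) = (p : ℂ)⁻¹ * val k := by
    have e1 : ∑ h : (⊤ : Subgroup Q), θ h * conj (ν h : ℂ) = ∑ u : Q, θ u * conj (nu u : ℂ) :=
      Fintype.sum_equiv Subgroup.topEquiv.toEquiv _ _ fun h => rfl
    have e2 : ∑ u : Q, θ u * conj (nu u : ℂ) =
        ∑ t : T, θ (Subgroup.inclusion hTQ t) * conj (nu (Subgroup.inclusion hTQ t) : ℂ) := by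
      refine (Finset.sum_bij_ne_zero (fun t _ _ => Subgroup.inclusion hTQ t) (fun _ _ _ => Finset.mem_univ _)
        (fun _ _ _ _ _ _ h => Subgroup.inclusion_injective hTQ h) (fun u _ hne => ?_) fun _ _ _ => rfl).symm
      by_cases huT : (u : G) ∈ T
      · exact ⟨⟨u, huT⟩, Finset.mem_univ _, hne, Subtype.ext rfl⟩
      · refine absurd ?_ hne
        show thetaJ B P e hM lam χ k (u : G) * _ = 0
        rw [thetaJ_of_zero hM hχ (hword hQ u.2) hkm.idem
          (fix_antitone (Subgroup.zpowers_le.mpr u.2) hkm.mem) (hout u u.2 huT), zero_mul]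
    simp only [classInner, val, e1, e2, Nat.card_congr (Subgroup.topEquiv (G := Q)).toEquiv]
    rw [hn, ← hcardT, Nat.cast_mul, mul_inv, mul_comm (Nat.card T : ℂ)⁻¹, mul_assoc]
    rfl
  rw [h1]
  obtain ⟨K, hK⟩ := exists_decomp (fix_antitone hTQ hkm.mem) hkm.idem
  have hval : val k = ∑ i ∈ K, val i := by
    simp only [val]
    rw [← classInner_sum_left]
    congr 1
    funext t
    rw [Finset.sum_apply]
    exact thetaJ_decomp hM hχ (hword hQ (hTQ t.2)) (fun x hx => fix_antitone (Subgroup.zpowers_le.mpr t.2) hx) hK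
  have hloc : ∀ i ∈ K, MemLocalRing M (val i) := fun i hi =>
    intComb_inner hP (ih _ hTlt T rfl (hQ.to_le hTQ) i (hK.min i hi).idem (hK.min i hi).mem)
      (isCharacter_linear (nu.comp (Subgroup.inclusion hTQ)))
  have hvN := hTN hvQ
  have hvA : ∀ z ∈ fix (pmod_prime hM) T, conjA v z ∈ fix _ T ∧ conjA v⁻¹ z ∈ fix _ T := fun z hz =>
    ⟨conjA_mem_fix hvN hz, conjA_mem_fix (inv_mem hvN) hz⟩
  have hσ : ∀ i, Min (fix _ T) i → val (conjA v i) = val i := by
    intro i hi
    simp only [val, classInner]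
    refine congrArg (HMul.hMul (Nat.card T : ℂ)⁻¹) ?_
    have hmem : ∀ t : T, v * (t : G) * v⁻¹ ∈ T := fun t => (Subgroup.mem_normalizer_iff.mp hvN _).mp t.2
    let σ : T ≃ T :=
      { toFun := fun t => ⟨v * t * v⁻¹, hmem t⟩
        invFun := fun t => ⟨v⁻¹ * t * v, by
          simpa using (Subgroup.mem_normalizer_iff.mp (inv_mem hvN) _).mp t.2⟩
        left_inv := fun t => Subtype.ext (by group)
        right_inv := fun t => Subtype.ext (by group) }
    refine (Fintype.sum_equiv σ _ _ fun t => ?_).symm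
    have e1 : thetaJ B P e hM lam χ (conjA v i) (σ t : G) = thetaJ B P e hM lam χ i (t : G) :=
      thetaJ_conj hM hlam hχ (hword hQ (hTQ t.2)) v hi.idem (fix_antitone (Subgroup.zpowers_le.mpr t.2) hi.mem)
    have e2 : nu (Subgroup.inclusion hTQ (σ t)) = nu (Subgroup.inclusion hTQ t) := by
      rw [show Subgroup.inclusion hTQ (σ t) = ⟨v, hvQ⟩ * Subgroup.inclusion hTQ t * (⟨v, hvQ⟩ : Q)⁻¹ from
        Subtype.ext rfl, map_mul, map_mul, map_inv, mul_comm, inv_mul_cancel_left]
    rw [e1, e2]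
  have hassoc : ∀ i i', Min (fix _ T) i → Min (fix _ T) i' → ∀ x ∈ fix _ T, ∀ y ∈ fix (pmod_prime hM) T,
      i * x = x → x * i' = x → i' * y = y → y * i = y → x * y = i → y * x = i' → val i = val i' := by
    intro i i' hi hi' x hx y hy h1 h2 h3 h4 h5 h6
    simp only [val]
    congr 1
    funext t
    have hz : Subgroup.zpowers (t : G) ≤ T := Subgroup.zpowers_le.mpr t.2
    exact (thetaJ_assoc hM hχ (hword hQ (hTQ t.2)) hi.idem hi'.idem (fix_antitone hz hi.mem)
      (fix_antitone hz hi'.mem) (fix_antitone hz hx) (fix_antitone hz hy) h1 h2 h3 h4 h5 h6).symm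
  have hdvd : ∀ α : ℂ, p ∣ (K.filter fun i => val i = α).card := fun α => by
    rw [Finset.card_filter]
    exact dvd_sum hM hvA (fix_antitone hTQ hkm.mem) hkm.idem
      (commute_iff_conjA.mp (mem_fix.mp hkm.mem v hvQ)) ha hsum hK (fun i => if val i = α then 1 else 0)
      (fun i i' hi hi' x hx y hy h1 h2 h3 h4 h5 h6 => by
        show (if val i = α then 1 else 0) = if val i' = α then 1 else 0
        rw [hassoc i i' hi hi' x hx y hy h1 h2 h3 h4 h5 h6])
      (fun i hi => by
        show (if val (conjA v i) = α then 1 else 0) = if val i = α then 1 else 0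
        rw [hσ i hi])
  rw [hval, Finset.sum_comp (fun α : ℂ => α) val, Finset.mul_sum]
  refine memLR_sum hP _ _ fun α hα => ?_
  obtain ⟨i, hi, rfl⟩ := Finset.mem_image.mp hα
  obtain ⟨m, hm⟩ := hdvd (val i)
  rw [hm, nsmul_eq_mul, Nat.cast_mul, ← mul_assoc, ← mul_assoc,
    inv_mul_cancel₀ (Nat.cast_ne_zero.mpr hM.1.ne_zero), one_mul]
  exact memLR_mul hP (memLR_natCast hP _) (hloc i hi)

end IntComb

end Cfsg.Agent.Char.Star
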