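import Cfsg.Agent.Lib.Char.StarAction
import Cfsg.Agent.Lib.Char.CentralizerPairs
import Cfsg.Agent.Lib.Char.FirstMain

/-!
# The subsections of a nilpotent block

Up to conjugation they are parametrised by the classes of the defect group, so the inner products of products
with class functions of the defect group become averages over it.
-/

set_option autoImplicit false
set_option linter.unusedSectionVars false
set_option linter.style.haveILetI false

namespace Cfsg.Agent.Char.Star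

open Cfsg Module Relation
open scoped ComplexConjugate

universe u

variable {G : Type u} [Group G] [Fintype G] {M : Ideal AlgInt} {p : ℕ} {B : Set (IrrCharacter G)}
  {P : Subgroup G} {e : Set (IrrCharacter (Subgroup.centralizer (P : Set G)))}

theorem card_centralizer_conj (w g : G) :
    Nat.card (Subgroup.centralizer ({w * g * w⁻¹} : Set G)) = Nat.card (Subgroup.centralizer ({g} : Set G)) := by
  have h1 := card_conjClass_mul_centralizer g
  rw [← card_conjClass_mul_centralizer (w * g * w⁻¹),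
    Nat.card_congr (Equiv.subtypeEquivRight fun x => ⟨fun h => IsConj.trans (isConj_iff.mpr ⟨w, rfl⟩) h,
      fun h => IsConj.trans (IsConj.symm (isConj_iff.mpr ⟨w, rfl⟩)) h⟩ :
      {x : G // IsConj (w * g * w⁻¹) x} ≃ {x : G // IsConj g x})] at h1
  exact (Nat.eq_of_mul_eq_mul_left (Nat.pos_of_ne_zero (card_conjClass_ne_zero g)) h1).symm

/-- The order of the centralizer in `P`. -/
noncomputable def cP (P : Subgroup G) (v : G) : ℕ :=
  Nat.card (P ⊓ Subgroup.centralizer (Subgroup.zpowers v : Set G) : Subgroup G)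

/-- The order of the centralizer. -/
noncomputable def cG (v : G) : ℕ := Nat.card (Subgroup.centralizer (Subgroup.zpowers v : Set G))

theorem cG_eq (v : G) : cG v = Nat.card (Subgroup.centralizer ({v} : Set G)) :=
  Nat.card_congr (MulEquiv.subgroupCongr (centralizer_zp v)).toEquiv

theorem cP_eq (v : P) : cP P (v : G) = Nat.card (Subgroup.centralizer ({v} : Set P)) := by
  refine Nat.card_congr ⟨fun x => ⟨⟨x, x.2.1⟩, Subgroup.mem_centralizer_singleton_iff.mpr
    (Subtype.ext (mem_czp.mp x.2.2).eq.symm)⟩,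
    fun x => ⟨((x : P) : G), (x : P).2, mem_czp.mpr
      (congrArg Subtype.val (Subgroup.mem_centralizer_singleton_iff.mp x.2)).symm⟩, fun _ => rfl, fun _ => rfl⟩

theorem cP_conj (v s : P) : cP P ((s : G) * v * (s : G)⁻¹) = cP P (v : G) := by
  rw [show (s : G) * v * (s : G)⁻¹ = ((s * v * s⁻¹ : P) : G) from rfl, cP_eq, cP_eq]
  haveI := Fintype.ofFinite P
  exact card_centralizer_conj s v

open scoped Classical in
/-- The pair below the maximal one at an element of `P`. -/
noncomputable def pairAt (p : ℕ) (M : Ideal AlgInt) (P : Subgroup G)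
    (e : Set (IrrCharacter (Subgroup.centralizer (P : Set G)))) (v : G) : BrauerPairIdx G :=
  ⟨Subgroup.zpowers v, Classical.epsilon fun f => IsPBlock M f ∧ SubpairLE p M (Subgroup.zpowers v) f P e⟩

theorem pairAt_congr {v v' : G} (h : Subgroup.zpowers v = Subgroup.zpowers v') :
    pairAt p M P e v = pairAt p M P e v' :=
  congrArg (fun Q : Subgroup G => (⟨Q, Classical.epsilon fun f => IsPBlock M f ∧ SubpairLE p M Q f P e⟩ :
    BrauerPairIdx G)) h

variable (hM : IsPModular p M) (hmax : IsMaximalBrauerPair p M B P e)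

include hM hmax in
theorem pairAt_spec {v : G} (hv : v ∈ P) :
    IsPBlock M (pairAt p M P e v).2 ∧
      ReflTransGen (NormalSubpairRel p M) (pairAt p M P e v) ⟨P, e⟩ :=
  Classical.epsilon_spec (existsUnique_subpair hM hmax.1.1 (Subgroup.zpowers_le.mpr hv)).exists

include hM hmax in
theorem pairAt_mem {v : G} (hv : v ∈ P) : pairAt p M P e v ∈ prs p M B v :=
  mem_prs.mpr ⟨rfl, (brauerPairOf_rel hM hmax.1.2.1 (pairAt_spec hM hmax hv).2).mpr hmax.1⟩

include hM hmax in
theorem pairAt_eq {v : G} (hv : v ∈ P) {a : BrauerPairIdx G} (ha : a.1 = Subgroup.zpowers v)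
    (hb : IsPBlock M a.2) (hr : ReflTransGen (NormalSubpairRel p M) a ⟨P, e⟩) : a = pairAt p M P e v := by
  obtain ⟨Q, f⟩ := a
  dsimp only at ha
  subst ha
  exact congrArg (fun r => (⟨Subgroup.zpowers v, r⟩ : BrauerPairIdx G))
    ((existsUnique_subpair hM hmax.1.1 (Subgroup.zpowers_le.mpr hv)).unique ⟨hb, hr⟩ (pairAt_spec hM hmax hv))

include hM hmax in
theorem pairAt_conj {v s : G} (hv : v ∈ P) (hs : s ∈ P) :
    conjIdx s (pairAt p M P e v) = pairAt p M P e (s * v * s⁻¹) := by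
  refine pairAt_eq hM hmax (P.mul_mem (P.mul_mem hs hv) (P.inv_mem hs)) ?_
    (isPBlock_conjBlock s (pairAt_spec hM hmax hv).1) (rel_conj_fix hM hmax.1.1 hs (pairAt_spec hM hmax hv).2)
  show (Subgroup.zpowers v).map _ = _
  rw [MonoidHom.map_zpowers]
  rfl

include hM hmax in
theorem pairAt_fix {v c : G} (hv : v ∈ P) (hc : Commute v c) :
    conjIdx c (pairAt p M P e v) = pairAt p M P e v := by
  have hb := (pairAt_spec hM hmax hv).1
  haveI := Fintype.ofFinite (Subgroup.centralizer (Subgroup.zpowers v : Set G))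
  refine idx_ext (pmod_prime hM) ?_ (isPBlock_conjBlock c hb) hb fun y => ?_
  · show (Subgroup.zpowers v).map _ = Subgroup.zpowers v
    rw [MonoidHom.map_zpowers]
    congr 1
    show c * v * c⁻¹ = v
    rw [← hc.eq, mul_inv_cancel_right]
  · obtain ⟨w, rfl⟩ : ∃ w, y = c * w * c⁻¹ := ⟨c⁻¹ * y * c, by group⟩
    rw [show subgroupBlockCoeff _ (conjBlock _ c (pairAt p M P e v).2) (c * w * c⁻¹) = _ from
      subgroupBlockCoeff_conj _ c _ w, subgroupBlockCoeff_eq, subgroupBlockCoeff_eq]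
    show extendByZero (Subgroup.centralizer (Subgroup.zpowers v : Set G)) (blockCoeff (Classical.epsilon fun f => IsPBlock M f ∧ SubpairLE p M (Subgroup.zpowers v) f P e)) w =
      extendByZero (Subgroup.centralizer (Subgroup.zpowers v : Set G)) (blockCoeff (Classical.epsilon fun f => IsPBlock M f ∧ SubpairLE p M (Subgroup.zpowers v) f P e)) (c * w * c⁻¹)
    have hcC : c ∈ Subgroup.centralizer (Subgroup.zpowers v : Set G) := mem_czp.mpr hc
    by_cases hw : w ∈ Subgroup.centralizer (Subgroup.zpowers v : Set G)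
    · rw [extendByZero_mem _ _ hw, extendByZero_mem _ _ (mul_mem (mul_mem hcC hw) (inv_mem hcC))]
      exact (isClassFunction_blockCoeff (Classical.epsilon fun f => IsPBlock M f ∧ SubpairLE p M (Subgroup.zpowers v) f P e) (⟨w, hw⟩ : Subgroup.centralizer (Subgroup.zpowers v : Set G)) ⟨c, hcC⟩).symm
    · rw [extendByZero_not_mem _ _ hw, extendByZero_not_mem]
      exact fun h => hw (by simpa [mul_assoc] using mul_mem (mul_mem (inv_mem hcC) h) hcC)

variable (hnil : IsNilpotentBlock p M B)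

include hM hmax hnil in
open scoped Classical in
/-- Sums over subsections as sums over the defect group. -/
theorem sum_pairs [Fintype P] (F : G → BrauerPairIdx G → ℂ)
    (hF : ∀ (w u : G), ∀ a ∈ prs p M B u, F (w * u * w⁻¹) (conjIdx w a) = F u a) :
    ∑ u ∈ pels G p, ∑ a ∈ prs p M B u, F u a =
      (Nat.card G : ℂ) * ((Nat.card P : ℂ)⁻¹ *
        ∑ v : P, (cP P (v : G) : ℂ) / (cG (v : G) : ℂ) * F v (pairAt p M P e v)) := by
  have hP := pmod_prime hM
  haveI := Fact.mk hM.1
  let w : P → ℂ := fun v => (Nat.card P : ℂ)⁻¹ * ((cP P (v : G) : ℂ) / (cG (v : G) : ℂ))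
  let Φ : P × G → Σ _ : G, BrauerPairIdx G := fun x =>
    ⟨x.2 * x.1 * x.2⁻¹, conjIdx x.2 (pairAt p M P e x.1)⟩
  have hmaps : ∀ x ∈ (Finset.univ : Finset (P × G)), Φ x ∈ (pels G p).sigma (prs p M B) := by
    intro x _
    refine Finset.mem_sigma.mpr ⟨mem_pels.mpr ?_, prs_conj_mem x.2 (pairAt_mem hM hmax x.1.2)⟩
    obtain ⟨k, hk⟩ := IsPGroup.iff_orderOf.mp hmax.1.1.1 x.1
    refine ⟨k, ?_⟩
    show orderOf (x.2 * (x.1 : G) * x.2⁻¹) = p ^ k
    rw [show x.2 * (x.1 : G) * x.2⁻¹ = MulAut.conj x.2 x.1 from rfl, MulEquiv.orderOf_eq,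
      Subgroup.orderOf_coe, hk]
  have htot : ∑ x : P × G, w x.1 * F (Φ x).1 (Φ x).2 =
      (Nat.card G : ℂ) * ((Nat.card P : ℂ)⁻¹ *
        ∑ v : P, (cP P (v : G) : ℂ) / (cG (v : G) : ℂ) * F v (pairAt p M P e v)) := by
    rw [Fintype.sum_prod_type, Finset.mul_sum, Finset.mul_sum]
    refine Finset.sum_congr rfl fun v _ => ?_
    rw [Finset.sum_congr rfl (g := fun _ => w v * F v (pairAt p M P e v)) fun g _ => by
      show w v * F (g * v * g⁻¹) (conjIdx g (pairAt p M P e v)) = _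
      rw [hF g v _ (pairAt_mem hM hmax v.2)], Finset.sum_const, Finset.card_univ, nsmul_eq_mul,
      ← Nat.card_eq_fintype_card]
    ring
  rw [← htot, ← Finset.sum_fiberwise_of_maps_to hmaps, Finset.sum_sigma]
  refine Finset.sum_congr rfl fun u hu => Finset.sum_congr rfl fun a ha => ?_
  rw [Finset.sum_congr rfl (g := fun x => w x.1 * F u a) fun x hx => by
    rw [(Finset.mem_filter.mp hx).2], ← Finset.sum_mul]
  convert (one_mul (F u a)).symm using 2
  -- the fibre
  obtain ⟨h1, h2⟩ := mem_prs.mp ha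
  obtain ⟨g, hg⟩ := pairs_conj_into_maximal hM hmax h2
  have hv0 : g * u * g⁻¹ ∈ P := subpair_rel_le hg ⟨u, h1 ▸ Subgroup.mem_zpowers u, rfl⟩
  set v0 : P := ⟨g * u * g⁻¹, hv0⟩ with hv0d
  have hp0 : conjIdx g a = pairAt p M P e (v0 : G) := pairAt_eq hM hmax hv0
    (by show a.1.map _ = _; rw [h1, MonoidHom.map_zpowers]; rfl) (isPBlock_conjBlock g h2.1.2) hg
  have hw : ∀ x ∈ Finset.univ.filter (fun x : P × G => Φ x = ⟨u, a⟩), IsConj v0 x.1 := by
    intro x hx
    obtain ⟨hx1, hx2⟩ := Sigma.mk.inj_iff.mp (Finset.mem_filter.mp hx).2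
    have hx2' : conjIdx x.2 (pairAt p M P e x.1) = a := eq_of_heq hx2
    set k := g * x.2 with hk
    have hk1 : k * (x.1 : G) * k⁻¹ = (v0 : G) := by
      rw [hk, hv0d]
      show g * x.2 * (x.1 : G) * (g * x.2)⁻¹ = g * u * g⁻¹
      rw [← hx1]; group
    have hk2 : ReflTransGen (NormalSubpairRel p M) (conjIdx k (pairAt p M P e x.1)) ⟨P, e⟩ := by
      rw [hk, ← conjIdx_mul hP _ _ _ (pairAt_spec hM hmax x.1.2).1, hx2']
      exact hg
    obtain ⟨s, hs, hsu⟩ := maps_inner_of_nilpotent hM hmax hnil _ (Subgroup.zpowers (x.1 : G)) _ rfl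
      (pairAt_spec hM hmax x.1.2).2 k hk2
    refine (isConj_iff.mpr ⟨⟨s, hs⟩, Subtype.ext ?_⟩ : IsConj x.1 v0).symm
    show s * (x.1 : G) * s⁻¹ = _
    rw [← hsu _ (Subgroup.mem_zpowers _), hk1]
  have hwv : ∀ v : P, IsConj v0 v → w v = w v0 := by
    intro v hv
    obtain ⟨s, rfl⟩ := isConj_iff.mp hv
    simp only [w, Subgroup.coe_mul, Subgroup.coe_inv, cP_conj, cG_eq, card_centralizer_conj]
  rw [Finset.sum_congr rfl (g := fun _ => w v0) fun x hx => hwv _ (hw x hx), Finset.sum_const, nsmul_eq_mul,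
    Finset.card_eq_sum_card_fiberwise (f := Prod.fst) (t := Finset.univ.filter fun v : P => IsConj v0 v)
      fun x hx => Finset.mem_filter.mpr ⟨Finset.mem_univ _, hw x hx⟩,
    Finset.sum_congr rfl (g := fun _ => cG (v0 : G)) fun v hv => ?_, Finset.sum_const, smul_eq_mul]
  · have hcl : (Finset.univ.filter fun v : P => IsConj v0 v).card * cP P (v0 : G) = Nat.card P := by
      rw [cP_eq, ← card_conjClass_mul_centralizer v0, Nat.card_eq_fintype_card (α := {x : P // IsConj v0 x}),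
        Fintype.card_subtype]
    have hne : (cG (v0 : G) : ℂ) ≠ 0 := Nat.cast_ne_zero.mpr Nat.card_pos.ne'
    have hP0 : (Nat.card P : ℂ) ≠ 0 := Nat.cast_ne_zero.mpr Nat.card_pos.ne'
    have hcl' := congrArg (fun n : ℕ => (n : ℂ)) hcl
    push_cast at hcl'
    simp only [w]
    push_cast
    field_simp
    linear_combination hcl'
  obtain ⟨s, rfl⟩ := isConj_iff.mp (Finset.mem_filter.mp hv).2
  rw [cG, ← Nat.card_eq_finsetCard]
  refine (Nat.card_congr (Equiv.ofBijective (fun c : Subgroup.centralizer (Subgroup.zpowers (v0 : G) : Set G) =>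
    (⟨(s * v0 * s⁻¹, g⁻¹ * (c : G) * (s : G)⁻¹), ?_⟩ :
      {x // x ∈ (Finset.univ.filter fun x : P × G => Φ x = ⟨u, a⟩).filter fun x => x.1 = s * v0 * s⁻¹})) ⟨?_, ?_⟩)).symm
  · have hc := mem_czp.mp c.2
    refine Finset.mem_filter.mpr ⟨Finset.mem_filter.mpr ⟨Finset.mem_univ _, ?_⟩, rfl⟩
    simp only [Φ, Subgroup.coe_mul, Subgroup.coe_inv]
    rw [← pairAt_conj hM hmax v0.2 s.2, conjIdx_mul hP _ _ _ (pairAt_spec hM hmax v0.2).1,
      show g⁻¹ * (c : G) * (s : G)⁻¹ * s = g⁻¹ * (c : G) by group,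
      ← conjIdx_mul hP _ _ _ (pairAt_spec hM hmax v0.2).1, pairAt_fix hM hmax v0.2 hc, ← hp0,
      conjIdx_mul hP _ _ _ h2.1.2, inv_mul_cancel, conjIdx_one hP _ h2.1.2,
      show g⁻¹ * (c : G) * (s : G)⁻¹ * ((s : G) * (v0 : G) * (s : G)⁻¹) * (g⁻¹ * (c : G) * (s : G)⁻¹)⁻¹ =
        g⁻¹ * ((c : G) * (v0 : G) * (c : G)⁻¹) * g by group,
      show (c : G) * (v0 : G) * (c : G)⁻¹ = v0 by rw [← hc.eq, mul_inv_cancel_right], hv0d]
    congr 1
    group
  · intro c c' h
    have h' := congrArg (fun x : {x // x ∈ (Finset.univ.filter fun x : P × G => Φ x = ⟨u, a⟩).filter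
      fun x => x.1 = s * v0 * s⁻¹} => x.1.2) h
    exact Subtype.ext (mul_left_cancel (mul_right_cancel h'))
  · rintro ⟨⟨v, y⟩, hx⟩
    obtain ⟨hx1, hx2⟩ := Finset.mem_filter.mp hx
    dsimp only at hx2
    subst hx2
    obtain ⟨hy, -⟩ := Sigma.mk.inj_iff.mp (Finset.mem_filter.mp hx1).2
    simp only [Subgroup.coe_mul, Subgroup.coe_inv] at hy
    refine ⟨⟨g * y * (s : G), mem_czp.mpr ?_⟩, Subtype.ext (Prod.ext rfl (show g⁻¹ * (g * y * (s : G)) * (s : G)⁻¹ = y by group))⟩
    show (v0 : G) * (g * y * (s : G)) = g * y * (s : G) * (v0 : G)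
    calc (v0 : G) * (g * y * (s : G)) = g * u * g⁻¹ * (g * y * (s : G)) := by rw [hv0d]
      _ = g * (y * ((s : G) * v0 * (s : G)⁻¹) * y⁻¹) * y * (s : G) := by rw [hy]; group
      _ = _ := by group

/-- The weighted product at an element of `P`. -/
noncomputable def cval (p : ℕ) (M : Ideal AlgInt) (P : Subgroup G)
    (e : Set (IrrCharacter (Subgroup.centralizer (P : Set G)))) (χ φ : G → ℂ) (v : G) : ℂ :=
  (cP P v : ℂ) / (cG v : ℂ) * sct p χ φ v (pairAt p M P e v)

include hM hmax hnil in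
/-- Inner products as averages over the defect group. -/
theorem inner_average [Fintype P] {lam mu : G → ℂ} (hlam : Stable p M P e lam) (hmu : Stable p M P e mu)
    {χ φ : G → ℂ} (hχ : IsCharacter G χ) (hφ : IsCharacter G φ) :
    classInner (theta p M B P e lam χ) (theta p M B P e mu φ) =
      (Nat.card P : ℂ)⁻¹ * ∑ v : P, lam v * conj (mu v) * cval p M P e χ φ v := by
  rw [inner_theta hM lam mu hχ hφ, sum_pairs hM hmax hnil
    (fun u a => wt p M P e lam u a * conj (wt p M P e mu u a) * sct p χ φ u a) fun w u a ha => by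
      obtain ⟨h1, h2⟩ := mem_prs.mp ha
      rw [wt_conj hM hlam h1 h2.1.2, wt_conj hM hmu h1 h2.1.2,
        sct_conj (isClassFunction_character hχ) (isClassFunction_character hφ)],
    inv_mul_cancel_left₀ (Nat.cast_ne_zero.mpr Nat.card_pos.ne')]
  congr 1
  refine Finset.sum_congr rfl fun v _ => ?_
  have hb := pairAt_spec hM hmax v.2
  have hr : ReflTransGen (NormalSubpairRel p M) (conjIdx 1 (pairAt p M P e (v : G))) ⟨P, e⟩ := by
    rw [conjIdx_one (pmod_prime hM) _ hb.1]; exact hb.2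
  rw [cval, wt_eq hM hlam rfl hb.1 hr, wt_eq hM hmu rfl hb.1 hr, one_mul, inv_one, mul_one]
  ring

end Cfsg.Agent.Char.Star
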