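import Cfsg.Agent.Lib.Char.CliffordInd
import Cfsg.Agent.Lib.Char.FreeTrace
import Cfsg.Agent.Lib.Char.Indicator

/-!
# Strongly real characters of an odd elementary abelian group extended by a `2`-group
-/

set_option autoImplicit false
set_option linter.unusedSectionVars false
set_option linter.style.haveILetI false

namespace Cfsg.Agent.Char.SRAvg

open Cfsg
open scoped ComplexConjugate

universe u

theorem average_bound {G : Type u} [Group G] [Fintype G] (N P : Subgroup G) [hN : N.Normal] (q : ℕ)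
    [hq : Fact q.Prime] (hq2 : q ≠ 2) (hNab : ∀ a ∈ N, ∀ b ∈ N, a * b = b * a) (hNexp : ∀ a ∈ N, a ^ q = 1)
    (hP : IsPGroup 2 P) (hP1 : P ≠ ⊥) (hdisj : N ⊓ P = ⊥) (hprod : N ⊔ P = ⊤) (hN1 : N ≠ ⊥)
    (hmin : ∀ M : Subgroup G, M.Normal → M ≠ ⊥ → N ≤ M) (S : Finset (IrrCharacter G))
    (hS : ∀ χ : IrrCharacter G, χ ∈ S ↔ ((deg (χ : G → ℂ) = 1 ∨ 2 ∣ deg (χ : G → ℂ)) ∧
      indicator2 (χ : G → ℂ) = 1)) :
    4 * S.card ≤ 3 * ∑ χ ∈ S, deg (χ : G → ℂ) := by
  classical
  haveI := Fintype.ofFinite N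
  haveI := Fintype.ofFinite P
  have hq2' : Nat.Coprime q 2 := (Nat.coprime_primes hq.out Nat.prime_two).2 hq2
  -- coordinates
  have hcoord : ∀ g : G, ∃ n ∈ N, ∃ u ∈ P, g = n * u := fun g => by
    have hg : g ∈ ((N ⊔ P : Subgroup G) : Set G) := hprod ▸ Subgroup.mem_top g
    rw [Subgroup.normal_mul] at hg
    obtain ⟨n, hn, u, hu, rfl⟩ := hg
    exact ⟨n, hn, u, hu, rfl⟩
  have hNP : ∀ x, x ∈ N → x ∈ P → x = 1 := fun x h h' => Subgroup.mem_bot.1 (hdisj ▸ (⟨h, h'⟩ : x ∈ N ⊓ P))
  have huniq : ∀ (n n' : N) (u u' : P), (n : G) * u = n' * u' → n = n' ∧ u = u' := by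
    intro n n' u u' h
    have h1 : (n' : G)⁻¹ * n = u' * (u : G)⁻¹ := by
      rw [eq_mul_inv_iff_mul_eq, mul_assoc, h, inv_mul_cancel_left]
    have h2 := hNP _ (N.mul_mem (N.inv_mem n'.2) n.2) (h1 ▸ P.mul_mem u'.2 (P.inv_mem u.2))
    have h3 : n = n' := Subtype.ext (inv_mul_eq_one.1 h2).symm
    subst h3
    exact ⟨rfl, Subtype.ext (mul_left_cancel h)⟩
  have hbij : Function.Bijective fun nu : N × P => (nu.1 : G) * nu.2 :=
    ⟨fun a b h => Prod.ext (huniq _ _ _ _ h).1 (huniq _ _ _ _ h).2, fun g => by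
      obtain ⟨n, hn, u, hu, rfl⟩ := hcoord g
      exact ⟨(⟨n, hn⟩, ⟨u, hu⟩), rfl⟩⟩
  let E := Equiv.ofBijective _ hbij
  let π : G → P := fun g => (E.symm g).2
  let ν : G → N := fun g => (E.symm g).1
  have hπν : ∀ g, (ν g : G) * π g = g := fun g => E.apply_symm_apply g
  have hval : ∀ (n : N) (u : P), π ((n : G) * u) = u ∧ ν ((n : G) * u) = n := fun n u => by
    obtain ⟨h1, h2⟩ := huniq (ν ((n : G) * u)) n (π ((n : G) * u)) u (hπν _)
    exact ⟨h2, h1⟩
  let act : P → N → N := fun u n => ⟨(u : G) * n * (u : G)⁻¹, hN.conj_mem n n.2 u⟩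
  have hmulc : ∀ (n m : N) (u v : P), (n : G) * u * ((m : G) * v) = ((n * act u m : N) : G) * ((u * v : P) : G) := by
    intro n m u v
    show _ = (n : G) * ((u : G) * m * (u : G)⁻¹) * ((u : G) * v)
    group
  have hπmul : ∀ g h, π (g * h) = π g * π h ∧ ν (g * h) = ν g * act (π g) (ν h) := fun g h => by
    have h0 := hval (ν g * act (π g) (ν h)) (π g * π h)
    rw [← hmulc, hπν, hπν] at h0
    exact h0
  let πh : G →* P := MonoidHom.mk' π fun g h => (hπmul g h).1
  -- a central involution inverting `N`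
  obtain ⟨z, hz2, hzc⟩ : ∃ z : P, orderOf z = 2 ∧ z ∈ Subgroup.center P := by
    haveI : Nontrivial P := (Subgroup.nontrivial_iff_ne_bot P).2 hP1
    haveI := hP.center_nontrivial
    have hpc : IsPGroup 2 (Subgroup.center P) := hP.to_subgroup _
    obtain ⟨k, hk⟩ := IsPGroup.iff_card.1 hpc
    have hk0 : k ≠ 0 := fun h => by
      rw [h, pow_zero] at hk
      exact (Finite.one_lt_card (α := Subgroup.center P)).ne' hk
    obtain ⟨z, hz⟩ := exists_prime_orderOf_dvd_card' 2 (G := Subgroup.center P) (hk ▸ dvd_pow_self 2 hk0)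
    exact ⟨(z : P), by rw [← hz, orderOf_submonoid], z.2⟩
  have hzc' : ∀ u : P, (u : G) * z = z * u := fun u => congrArg Subtype.val (Subgroup.mem_center_iff.1 hzc u)
  have hzsq : (z : G) * z = 1 := by
    have h := pow_orderOf_eq_one z
    rw [hz2, pow_two] at h
    exact congrArg Subtype.val h
  have hzinv : ∀ n : N, act z n = n⁻¹ := by
    set F : Subgroup G := N ⊓ Subgroup.centralizer ({(z : G)} : Set G) with hF
    have hFn : F.Normal := ⟨fun f hf g => by
      obtain ⟨n, hn, u, hu, rfl⟩ := hcoord g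
      have hf2 := Subgroup.mem_centralizer_singleton_iff.1 hf.2
      have h1 : u * f * u⁻¹ ∈ N := hN.conj_mem _ hf.1 u
      have h2 : n * u * f * (n * u)⁻¹ = u * f * u⁻¹ := by
        rw [show n * u * f * (n * u)⁻¹ = n * (u * f * u⁻¹) * n⁻¹ by group, hNab n hn _ h1, mul_inv_cancel_right]
      rw [h2]
      refine ⟨h1, Subgroup.mem_centralizer_singleton_iff.2 ?_⟩
      have hu' : u * (z : G) = z * u := hzc' ⟨u, hu⟩
      have hu'' : u⁻¹ * (z : G) = z * u⁻¹ := hzc' ⟨u⁻¹, P.inv_mem hu⟩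
      calc u * f * u⁻¹ * z = u * (f * z) * u⁻¹ := by rw [mul_assoc, hu'']; group
        _ = u * (z * f) * u⁻¹ := by rw [hf2]
        _ = z * (u * f * u⁻¹) := by rw [← mul_assoc u, hu']; group⟩
    have hFbot : F = ⊥ := by
      by_contra hne
      have hle := hmin F hFn hne
      have hM : (Subgroup.zpowers (z : G)).Normal := ⟨fun m hm g => by
        obtain ⟨n, hn, u, hu, rfl⟩ := hcoord g
        obtain ⟨i, rfl⟩ := Subgroup.mem_zpowers_iff.1 hm
        have hu' : Commute u (z : G) := hzc' ⟨u, hu⟩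
        have hn' : Commute n (z : G) := Subgroup.mem_centralizer_singleton_iff.1 (hle hn).2
        rw [((hn'.mul_left hu').zpow_right i).eq, mul_inv_cancel_right]
        exact Subgroup.zpow_mem _ (Subgroup.mem_zpowers _) i⟩
      have hzne : Subgroup.zpowers (z : G) ≠ ⊥ := fun h => by
        rw [Subgroup.zpowers_eq_bot] at h
        rw [show z = 1 from Subtype.ext h, orderOf_one] at hz2
        omega
      obtain ⟨a, ha, ha1⟩ := (Subgroup.ne_bot_iff_exists_ne_one.1 hN1).elim fun a ha =>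
        (⟨(a : G), a.2, fun h => ha (Subtype.ext h)⟩ : ∃ a, a ∈ N ∧ a ≠ 1)
      obtain ⟨i, hi⟩ := Subgroup.mem_zpowers_iff.1 (hmin _ hM hzne ha)
      exact ha1 (hNP a ha (hi ▸ P.zpow_mem z.2 i))
    intro n
    have hmem : ((n * act z n : N) : G) ∈ F := by
      refine ⟨(n * act z n).2, Subgroup.mem_centralizer_singleton_iff.2 ?_⟩
      show (n : G) * ((z : G) * n * (z : G)⁻¹) * z = z * ((n : G) * ((z : G) * n * (z : G)⁻¹))
      have hzi : (z : G)⁻¹ = z := inv_eq_of_mul_eq_one_left hzsq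
      calc (n : G) * ((z : G) * n * (z : G)⁻¹) * z = (n : G) * (act z n : G) * z := rfl
        _ = (act z n : G) * n * z := by rw [hNab _ n.2 _ (act z n).2]
        _ = z * n * (z : G)⁻¹ * n * z := rfl
        _ = _ := by rw [hzi]; group
    rw [hFbot, Subgroup.mem_bot] at hmem
    exact eq_inv_of_mul_eq_one_right (Subtype.ext hmem)
  -- a nontrivial character of `N` and its stabilizer
  letI : CommGroup N := { (inferInstance : Group N) with mul_comm := fun a b => Subtype.ext (hNab a a.2 b b.2) }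
  haveI : NeZero (Monoid.exponent N) := ⟨Monoid.exponent_ne_zero_of_finite⟩
  obtain ⟨n₀, hn₀⟩ := Subgroup.ne_bot_iff_exists_ne_one.1 hN1
  obtain ⟨lam, hlam⟩ := CommGroup.exists_apply_ne_one_of_hasEnoughRootsOfUnity N ℂ hn₀
  have hact_mul : ∀ (u : P) (a b : N), act u (a * b) = act u a * act u b := fun u a b =>
    Subtype.ext (conj_mul.symm)
  have hact_comp : ∀ (u v : P) (a : N), act (u * v) a = act u (act v a) := fun u v a => Subtype.ext (by
    show ((u * v : P) : G) * a * ((u * v : P) : G)⁻¹ = (u : G) * ((v : G) * a * (v : G)⁻¹) * (u : G)⁻¹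
    rw [Subgroup.coe_mul]; group)
  have hact_one : ∀ a : N, act 1 a = a := fun a => Subtype.ext (by simp [act])
  let T : Subgroup P :=
    { carrier := {u | ∀ a, lam (act u a) = lam a}
      one_mem' := fun a => by rw [hact_one]
      mul_mem' := fun {u v} hu hv a => by rw [hact_comp, hu, hv]
      inv_mem' := fun {u} hu a => by
        rw [← hu (act u⁻¹ a), ← hact_comp, mul_inv_cancel, hact_one] }
  have hzT : z ∉ T := fun h => hlam (by
    have h1 := h n₀
    rw [hzinv, map_inv, inv_eq_iff_mul_eq_one, ← sq] at h1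
    have h2 : lam n₀ ^ q = 1 := by
      rw [← map_pow, show n₀ ^ q = 1 from Subtype.ext (by rw [Subgroup.coe_pow]; exact hNexp _ n₀.2), map_one]
    exact (pow_eq_one_iff_of_coprime hq2').1 ⟨h2, h1⟩)
  set m := T.index with hm
  have hm2 : 2 ≤ m := by
    have h1 : m ≠ 0 := Subgroup.index_ne_zero_of_finite
    have h2 : m ≠ 1 := fun h => hzT ((Subgroup.index_eq_one.1 h) ▸ Subgroup.mem_top z)
    omega
  have heven : 2 ∣ m := by
    obtain ⟨k, hk⟩ := IsPGroup.iff_card.1 hP
    obtain ⟨j, -, hj⟩ := (Nat.dvd_prime_pow Nat.prime_two).1 (hk ▸ T.index_dvd_card)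
    rw [hm, hj]
    exact dvd_pow_self 2 fun h => by rw [hm, hj, h, pow_zero] at hm2; omega
  let H : Subgroup G := T.comap πh
  haveI : Fintype H := Fintype.ofFinite _
  haveI := Fintype.ofFinite T
  have hH : Nat.card H = Nat.card N * Nat.card T := by
    rw [← Nat.card_prod]
    exact Nat.card_congr
      { toFun := fun g => (ν g.1, ⟨π g.1, g.2⟩)
        invFun := fun nt => ⟨(nt.1 : G) * ((nt.2 : P) : G), show π _ ∈ T by rw [(hval _ _).1]; exact nt.2.2⟩
        left_inv := fun g => Subtype.ext (hπν _)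
        right_inv := fun nt => Prod.ext (hval _ _).2 (Subtype.ext (hval _ _).1) }
  have hGcard : Nat.card G = Nat.card N * Nat.card P := by
    rw [← Nat.card_prod]; exact (Nat.card_congr E).symm
  have hHidx : H.index = m := Subgroup.index_comap_of_surjective _ fun u => ⟨((1 : N) : G) * u, (hval 1 u).1⟩
  -- the real linear characters of `P`
  haveI := finite_hom_units P
  haveI := Fintype.ofFinite (P →* ℂˣ)
  set Ep : Finset (P →* ℂˣ) := Finset.univ.filter fun ε => ∀ u, ε u * ε u = 1 with hEp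
  let ψ : (P →* ℂˣ) → (H →* ℂˣ) := fun ε => MonoidHom.mk' (fun g => lam (ν g.1) * ε (π g.1)) fun g h => by
    show lam (ν (g.1 * h.1)) * ε (π (g.1 * h.1)) = _
    rw [(hπmul _ _).1, (hπmul _ _).2, map_mul, map_mul, show lam (act (π g.1) (ν h.1)) = lam (ν h.1) from g.2 (ν h.1)]
    exact mul_mul_mul_comm _ _ _ _
  let χf : (P →* ℂˣ) → G → ℂ := fun ε => indFun H fun g => (ψ ε g : ℂ)
  have hext : ∀ (ε : P →* ℂˣ) (n : N) (u : P), extendByZero H (fun g => (ψ ε g : ℂ)) ((n : G) * u) =
      if u ∈ T then (lam n : ℂ) * ε u else 0 := fun ε n u => by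
    obtain ⟨h1, h2⟩ := hval n u
    split_ifs with hu
    · have hmem : (n : G) * u ∈ H := show π _ ∈ T by rw [h1]; exact hu
      rw [extendByZero_mem H _ hmem]
      show ((lam (ν ((n : G) * u)) * ε (π ((n : G) * u)) : ℂˣ) : ℂ) = _
      rw [h1, h2, Units.val_mul]
    · have hmem : (n : G) * u ∉ H := fun h => hu (by
        have h' : π ((n : G) * u) ∈ T := h
        rwa [h1] at h')
      rw [extendByZero_not_mem H _ hmem]
  have hsumN : ∀ l : N →* ℂˣ, ∑ n : N, (l n : ℂ) = if l = 1 then (Nat.card N : ℂ) else 0 := fun l => by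
    by_cases hl : l = 1
    · rw [if_pos hl, hl]
      simp [Nat.card_eq_fintype_card]
    · rw [if_neg hl]
      exact sum_hom_units_eq_zero ((Units.coeHom ℂ).comp l) fun e => hl
        (MonoidHom.ext fun a => Units.ext (DFunLike.congr_fun e a))
  -- conjugates of `lam`
  let conjl : P → (N →* ℂˣ) := fun u => MonoidHom.mk' (fun a => lam (act u a)) fun a b => by
    rw [hact_mul, map_mul]
  have hconjl : ∀ u v : P, conjl u = conjl v ↔ u * v⁻¹ ∈ T := fun u v => by
    constructor
    · intro h a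
      have h' := DFunLike.congr_fun h (act v⁻¹ a)
      show lam (act (u * v⁻¹) a) = lam a
      rw [hact_comp]
      refine h'.trans ?_
      show lam (act v (act v⁻¹ a)) = lam a
      rw [← hact_comp, mul_inv_cancel, hact_one]
    · intro h
      refine MonoidHom.ext fun a => ?_
      show lam (act u a) = lam (act v a)
      rw [← h (act v a), ← hact_comp, inv_mul_cancel_right]
  have hx : ∀ (b : N) (v : P) (n : N) (t : P), ((b : G) * v) * ((n : G) * t) * ((b : G) * v)⁻¹ =
      ((b * act v n * act (v * t * v⁻¹) b⁻¹ : N) : G) * ((v * t * v⁻¹ : P) : G) := fun b v n t => by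
    show _ = (b : G) * ((v : G) * n * (v : G)⁻¹) * (((v : G) * t * (v : G)⁻¹) * (b : G)⁻¹ *
      ((v : G) * t * (v : G)⁻¹)⁻¹) * ((v : G) * t * (v : G)⁻¹)
    group
  -- the values on `N t` against `lam`
  have hcoef : ∀ (ε : P →* ℂˣ) (t : P), t ∈ T →
      ∑ n : N, χf ε ((n : G) * t) * conj ((lam n : ℂˣ) : ℂ) = (Nat.card N : ℂ) * ε t := fun ε t ht => by
    have hconjlam : ∀ n : N, conj ((lam n : ℂˣ) : ℂ) = ((lam n⁻¹ : ℂˣ) : ℂ) := fun n =>
      (char_inv (isCharacter_linear lam) n).symm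
    have hval' : ∀ n : N, χf ε ((n : G) * t) = (Nat.card H : ℂ)⁻¹ * ∑ b : N, ∑ v : P,
        extendByZero H (fun g => (ψ ε g : ℂ)) (((b : G) * v) * ((n : G) * t) * ((b : G) * v)⁻¹) := fun n => by
      rw [← Fintype.sum_prod_type']
      show indFun H _ _ = _
      unfold indFun
      congr 1
      refine (Fintype.sum_equiv (E.trans (Equiv.inv G)) _ _ fun bv => ?_).symm
      simp only [Equiv.trans_apply, Equiv.inv_apply, inv_inv]
      rfl
    simp only [hval', hconjlam, Finset.mul_sum, Finset.sum_mul, hx, hext, mul_ite, mul_zero, ite_mul, zero_mul,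
      map_mul, Units.val_mul]
    rw [Finset.sum_comm, Finset.sum_congr rfl fun b _ => Finset.sum_comm, Finset.sum_comm]
    have hterm : ∀ (v : P) (b : N), (∑ n : N, if v * t * v⁻¹ ∈ T then
        (Nat.card H : ℂ)⁻¹ * ((lam b : ℂ) * (lam (act v n) : ℂ) * (lam (act (v * t * v⁻¹) b⁻¹) : ℂ) *
          ((ε v : ℂ) * (ε t : ℂ) * (ε v⁻¹ : ℂ))) * (lam n⁻¹ : ℂ) else 0) =
        if v ∈ T then (Nat.card H : ℂ)⁻¹ * (ε t : ℂ) * (Nat.card N : ℂ) else 0 := by
      intro v b
      have he : (ε v : ℂ) * (ε t : ℂ) * (ε v⁻¹ : ℂ) = (ε t : ℂ) := by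
        rw [← Units.val_mul, ← Units.val_mul, map_inv, mul_comm (ε v), mul_inv_cancel_right]
      have hl : ∀ n : N, (lam (act v n) : ℂ) * (lam n⁻¹ : ℂ) = ((conjl v * lam⁻¹) n : ℂ) := fun n => by
        rw [MonoidHom.mul_apply, MonoidHom.inv_apply, Units.val_mul, map_inv]
        rfl
      have hv : conjl v * lam⁻¹ = 1 ↔ v ∈ T := by
        constructor
        · intro h a
          have h1 := DFunLike.congr_fun h a
          rw [MonoidHom.mul_apply, MonoidHom.inv_apply, MonoidHom.one_apply, mul_inv_eq_one] at h1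
          exact h1
        · intro h
          refine MonoidHom.ext fun a => ?_
          rw [MonoidHom.mul_apply, MonoidHom.inv_apply, MonoidHom.one_apply, mul_inv_eq_one]
          exact h a
      by_cases hvt : v * t * v⁻¹ ∈ T
      · have hb : (lam b : ℂ) * (lam (act (v * t * v⁻¹) b⁻¹) : ℂ) = 1 := by
          rw [hvt, ← Units.val_mul, ← map_mul, mul_inv_cancel, map_one, Units.val_one]
        simp only [if_pos hvt, he]
        calc ∑ n : N, (Nat.card H : ℂ)⁻¹ * ((lam b : ℂ) * (lam (act v n) : ℂ) *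
              (lam (act (v * t * v⁻¹) b⁻¹) : ℂ) * (ε t : ℂ)) * (lam n⁻¹ : ℂ)
            = (Nat.card H : ℂ)⁻¹ * (ε t : ℂ) * ∑ n : N, ((conjl v * lam⁻¹) n : ℂ) := by
              rw [Finset.mul_sum]
              refine Finset.sum_congr rfl fun n _ => ?_
              rw [← hl]
              linear_combination ((Nat.card H : ℂ)⁻¹ * (ε t : ℂ) * (lam (act v n) : ℂ) * (lam n⁻¹ : ℂ)) * hb
          _ = _ := by
              rw [hsumN]
              simp only [hv, mul_ite, mul_zero]
      · have hvn : v ∉ T := fun h => hvt (T.mul_mem (T.mul_mem h ht) (T.inv_mem h))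
        simp [hvt, hvn]
    simp only [hterm, Finset.sum_const, Finset.card_univ, nsmul_eq_mul]
    rw [← Finset.mul_sum, ← Finset.sum_filter, Finset.sum_const, nsmul_eq_mul, hH, ← Fintype.card_subtype,
      ← Nat.card_eq_fintype_card, ← Nat.card_eq_fintype_card]
    have hN0 : (Nat.card N : ℂ) ≠ 0 := Nat.cast_ne_zero.2 Nat.card_pos.ne'
    have hT0 : (Nat.card T : ℂ) ≠ 0 := Nat.cast_ne_zero.2 Nat.card_pos.ne'
    rw [show (Nat.card {x : P // x ∈ T} : ℂ) = Nat.card T from rfl]
    push_cast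
    field_simp
  have hchar : ∀ ε, IsCharacter G (χf ε) := fun ε => isCharacter_indFun H (isCharacter_linear (ψ ε))
  have hone : ∀ ε, χf ε 1 = (m : ℂ) := fun ε => by
    show indFun H _ 1 = _
    rw [indFun_one, hHidx, map_one, Units.val_one, mul_one]
  -- every constituent has degree at least `m`
  have hbig : ∀ (ε : P →* ℂˣ) (θ : IrrCharacter G), classInner (χf ε) (θ : G → ℂ) ≠ 0 →
      m ≤ deg (θ : G → ℂ) := by
    intro ε θ hθ
    set r : N → ℂ := fun n => (θ : G → ℂ) n
    have hr : IsCharacter N r := isCharacter_comp N.subtype (irr_isCharacter θ.2)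
    let lamI : (N →* ℂˣ) → IrrCharacter N := fun l => ⟨fun n => (l n : ℂ), isIrrCharacter_linear l⟩
    choose a ha using fun μ : IrrCharacter N => classInner_natCast hr (irr_isCharacter μ.2)
    have hinv : ∀ u : P, a (lamI (conjl u)) = a (lamI lam) := fun u => by
      have h1 : classInner r (lamI (conjl u) : N → ℂ) = classInner r (lamI lam : N → ℂ) := by
        simp only [classInner]
        congr 1
        refine Fintype.sum_equiv ⟨act u, act u⁻¹, fun a => by rw [← hact_comp, inv_mul_cancel, hact_one],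
          fun a => by rw [← hact_comp, mul_inv_cancel, hact_one]⟩ _ _ fun n => ?_
        show r n * conj ((lam (act u n) : ℂˣ) : ℂ) = r (act u n) * conj ((lam (act u n) : ℂˣ) : ℂ)
        congr 1
        exact (isClassFunction_character (irr_isCharacter θ.2) (n : G) (u : G)).symm
      exact_mod_cast ((ha _).symm.trans h1).trans (ha _)
    have hpos : a (lamI lam) ≠ 0 := by
      intro h0
      refine hθ ?_
      show classInner (indFun H _) _ = 0
      rw [frobenius H _ (isClassFunction_character (irr_isCharacter θ.2))]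
      have h0' : ∑ n : N, (θ : G → ℂ) n * conj ((lam n : ℂˣ) : ℂ) = 0 := by
        have h := ha (lamI lam)
        rw [h0, Nat.cast_zero, classInner] at h
        exact (mul_eq_zero.1 h).resolve_left (inv_ne_zero (Nat.cast_ne_zero.2 Nat.card_pos.ne'))
      -- the restriction of `θ` to `N t` averaged against `lam` vanishes
      obtain ⟨d, σ, hσ⟩ := irr_isCharacter θ.2
      let Pl : Module.End ℂ (Fin d → ℂ) := ∑ n : N, conj ((lam n : ℂˣ) : ℂ) • σ (n : G)
      have hidem : Pl * Pl = (Nat.card N : ℂ) • Pl := by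
        simp only [Pl, Finset.sum_mul, Finset.mul_sum, smul_mul_smul_comm, ← map_mul]
        rw [show (Nat.card N : ℂ) • ∑ n : N, conj ((lam n : ℂˣ) : ℂ) • σ (n : G) =
          ∑ _a : N, ∑ n : N, conj ((lam n : ℂˣ) : ℂ) • σ (n : G) by
            rw [Finset.sum_const, Finset.card_univ, ← Nat.cast_smul_eq_nsmul ℂ, Nat.card_eq_fintype_card]]
        refine Finset.sum_congr rfl fun a _ => ?_
        refine Fintype.sum_equiv (Equiv.mulRight a) _ _ fun b => ?_
        show _ = conj ((lam (b * a) : ℂˣ) : ℂ) • σ ((b * a : N) : G)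
        rw [map_mul lam, Units.val_mul, map_mul, Subgroup.coe_mul]
      have htr0 : LinearMap.trace ℂ _ Pl = 0 := by
        simp only [Pl, map_sum, map_smul, smul_eq_mul]
        rw [← h0']
        refine Finset.sum_congr rfl fun n _ => ?_
        rw [← hσ, mul_comm]
        rfl
      have hPl : Pl = 0 := by
        have hN0 : (Nat.card N : ℂ) ≠ 0 := Nat.cast_ne_zero.2 Nat.card_pos.ne'
        set Q := (Nat.card N : ℂ)⁻¹ • Pl with hQ
        have hQQ : IsIdempotentElem Q := by
          show Q * Q = Q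
          rw [hQ, smul_mul_smul_comm, hidem, smul_smul, mul_assoc, inv_mul_cancel₀ hN0, mul_one]
        have hproj : LinearMap.IsProj (LinearMap.range Q) Q :=
          ⟨fun x => LinearMap.mem_range_self _ x, fun x hx => by
            obtain ⟨y, rfl⟩ := hx
            exact LinearMap.congr_fun hQQ y⟩
        have hdim := hproj.trace
        rw [hQ, map_smul, htr0, smul_zero] at hdim
        have hr0 : Module.finrank ℂ (LinearMap.range Q) = 0 := by
          rw [← hQ] at hdim
          exact_mod_cast hdim.symm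
        have hQ0 : Q = 0 := LinearMap.range_eq_bot.1 (Submodule.finrank_eq_zero.1 hr0)
        rw [hQ] at hQ0
        exact (smul_eq_zero.1 hQ0).resolve_left (inv_ne_zero hN0)
      have hsum0 : ∀ x : G, ∑ n : N, conj ((lam n : ℂˣ) : ℂ) * (θ : G → ℂ) ((n : G) * x) = 0 := fun x => by
        have h1 : LinearMap.trace ℂ _ (Pl * σ x) = 0 := by rw [hPl, zero_mul, map_zero]
        rw [← h1]
        simp only [Pl, Finset.sum_mul, smul_mul_assoc, map_sum, map_smul, smul_eq_mul, ← map_mul]
        refine Finset.sum_congr rfl fun n _ => ?_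
        rw [← hσ]
        rfl
      have hsplit : ∑ g : H, (ψ ε g : ℂ) * conj ((θ : G → ℂ) g) =
          ∑ t : T, (ε (t : P) : ℂ) * conj (∑ n : N, conj ((lam n : ℂˣ) : ℂ) * (θ : G → ℂ) ((n : G) * (t : P))) := by
        simp only [map_sum, map_mul, Complex.conj_conj, Finset.mul_sum]
        rw [Finset.sum_comm, ← Fintype.sum_prod_type']
        refine (Fintype.sum_equiv
          { toFun := fun nt : N × T => (⟨(nt.1 : G) * ((nt.2 : P) : G),
              show π _ ∈ T by rw [(hval _ _).1]; exact nt.2.2⟩ : H)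
            invFun := fun g => (ν g.1, ⟨π g.1, g.2⟩)
            left_inv := fun nt => Prod.ext (hval _ _).2 (Subtype.ext (hval _ _).1)
            right_inv := fun g => Subtype.ext (hπν _) } _ _ fun nt => ?_).symm
        show (ε (nt.2 : P) : ℂ) * ((lam nt.1 : ℂ) * _) =
          ((lam (ν ((nt.1 : G) * ((nt.2 : P) : G))) * ε (π ((nt.1 : G) * ((nt.2 : P) : G))) : ℂˣ) : ℂ) * _
        rw [(hval _ _).1, (hval _ _).2, Units.val_mul]
        simp only [Equiv.coe_fn_mk]
        ring
      rw [classInner, hsplit]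
      simp [hsum0]
    have hexp := congrFun (char_expansion hr) 1
    have hμ1 : ∀ μ : IrrCharacter N, (μ : N → ℂ) 1 = (deg (μ : N → ℂ) : ℂ) := fun μ => char_one_eq_deg (irr_isCharacter μ.2)
    simp only [Finset.sum_apply, Pi.smul_apply, smul_eq_mul, ha, hμ1] at hexp
    have hr1 : r 1 = (deg (θ : G → ℂ) : ℂ) := (show r 1 = (θ : G → ℂ) 1 from congrArg _ (Subgroup.coe_one N)).trans (char_one_eq_deg (irr_isCharacter θ.2))
    rw [hr1] at hexp
    have hexp' : deg (θ : G → ℂ) = ∑ μ : IrrCharacter N, a μ * deg (μ : N → ℂ) := by exact_mod_cast hexp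
    rw [hexp']
    set orb : Finset (IrrCharacter N) := Finset.univ.image fun u : P => lamI (conjl u)
    have horb : m ≤ orb.card := by
      haveI := Fintype.ofFinite (Quotient (QuotientGroup.rightRel T))
      rw [hm, Subgroup.index, Nat.card_congr (QuotientGroup.quotientRightRelEquivQuotientLeftRel T).symm,
        Nat.card_eq_fintype_card]
      refine Finset.card_le_card_of_injOn (fun c => lamI (conjl c.out)) (fun c _ =>
        Finset.mem_image_of_mem _ (Finset.mem_univ _)) fun c _ c' _ h => ?_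
      have h' : conjl c.out = conjl c'.out := MonoidHom.ext fun n =>
        Units.ext (congrFun (congrArg Subtype.val h) n)
      rw [← Quotient.out_eq c, ← Quotient.out_eq c']
      exact (Quotient.sound (QuotientGroup.rightRel_apply.2 ((hconjl _ _).1 h'.symm)))
    calc m ≤ orb.card := horb
      _ = ∑ _μ ∈ orb, 1 := by simp
      _ ≤ ∑ μ ∈ orb, a μ * deg (μ : N → ℂ) := Finset.sum_le_sum fun μ hμ => by
          obtain ⟨u, -, rfl⟩ := Finset.mem_image.1 hμ
          have h1 : a (lamI (conjl u)) ≠ 0 := by rw [hinv]; exact hpos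
          exact Nat.one_le_iff_ne_zero.2 (mul_ne_zero h1 (deg_pos (lamI (conjl u)).2).ne')
      _ ≤ _ := Finset.sum_le_univ_sum_of_nonneg fun _ => Nat.zero_le _
  have hirr : ∀ ε, IsIrrCharacter G (χf ε) := fun ε => by
    choose a ha using fun μ : IrrCharacter G => classInner_natCast (hchar ε) (irr_isCharacter μ.2)
    have hexp := char_expansion (hchar ε)
    simp only [ha] at hexp
    have h1 := congrFun hexp 1
    have hμ1 : ∀ μ : IrrCharacter G, (μ : G → ℂ) 1 = (deg (μ : G → ℂ) : ℂ) := fun μ => char_one_eq_deg (irr_isCharacter μ.2)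
    simp only [Finset.sum_apply, Pi.smul_apply, smul_eq_mul, hone, hμ1] at h1
    have h1' : m = ∑ μ : IrrCharacter G, a μ * deg (μ : G → ℂ) := by exact_mod_cast h1
    obtain ⟨θ, hθ⟩ : ∃ θ, a θ ≠ 0 := by
      by_contra hh
      push Not at hh
      simp [hh] at h1'
      omega
    have hdθ := hbig ε θ (by rw [ha]; exact_mod_cast hθ)
    rw [← Finset.add_sum_erase _ _ (Finset.mem_univ θ)] at h1'
    have ha1 : 1 ≤ a θ := Nat.one_le_iff_ne_zero.2 hθ
    have hdp := deg_pos θ.2
    have haθ : a θ = 1 := by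
      have hle : a θ * deg (θ : G → ℂ) ≤ 1 * deg (θ : G → ℂ) := by omega
      exact le_antisymm (Nat.le_of_mul_le_mul_right hle hdp) ha1
    have hrest : ∀ μ, μ ≠ θ → a μ = 0 := fun μ hμ => by
      have h2 : ∑ x ∈ Finset.univ.erase θ, a x * deg (x : G → ℂ) = 0 := by rw [haθ, one_mul] at h1'; omega
      have h3 := Finset.sum_eq_zero_iff.1 h2 μ (Finset.mem_erase.2 ⟨hμ, Finset.mem_univ _⟩)
      exact (mul_eq_zero.1 h3).resolve_right (deg_pos μ.2).ne'
    rw [hexp, Finset.sum_eq_single θ (fun μ _ hμ => by rw [hrest μ hμ, Nat.cast_zero, zero_smul])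
      (fun h => absurd (Finset.mem_univ _) h), haθ, Nat.cast_one, one_smul]
    exact θ.2
  have hindic : ∀ ε ∈ Ep, indicator2 (χf ε) = 1 := fun ε hε => by
    have hε' : ∀ u, ε u * ε u = 1 := (Finset.mem_filter.1 hε).2
    have hflip : ∑ s : G, χf ε (s * s) =
        (Nat.card G : ℂ) * (Nat.card H : ℂ)⁻¹ * ∑ s : G, extendByZero H (fun g => (ψ ε g : ℂ)) (s * s) := by
      show ∑ s : G, (Nat.card H : ℂ)⁻¹ * ∑ x : G, extendByZero H _ (x⁻¹ * (s * s) * x) = _
      rw [← Finset.mul_sum, Finset.sum_comm, Finset.sum_congr rfl fun x _ =>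
        Fintype.sum_equiv (MulAut.conj x⁻¹).toEquiv (fun s => extendByZero H (fun g => (ψ ε g : ℂ)) (x⁻¹ * (s * s) * x))
          (fun s => extendByZero H (fun g => (ψ ε g : ℂ)) (s * s)) fun s => by
            congr 1
            show x⁻¹ * (s * s) * x = x⁻¹ * s * x⁻¹⁻¹ * (x⁻¹ * s * x⁻¹⁻¹)
            group]
      rw [Finset.sum_const, Finset.card_univ, nsmul_eq_mul, ← Nat.card_eq_fintype_card]
      ring
    rw [indicator2, hflip, ← mul_assoc, ← mul_assoc, inv_mul_cancel₀ (Nat.cast_ne_zero.2 Nat.card_pos.ne'), one_mul,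
      ← E.sum_comp, Fintype.sum_prod_type, Finset.sum_comm]
    have hu : ∀ u : P, (∑ n : N, extendByZero H (fun g => (ψ ε g : ℂ)) ((E (n, u)) * (E (n, u)))) =
        if u * z⁻¹ ∈ T then (Nat.card N : ℂ) else 0 := by
      intro u
      have hzu : u * z⁻¹ ∈ T ↔ conjl u = conjl z := ((hconjl u z)).symm
      have hcz : conjl z = lam⁻¹ := MonoidHom.ext fun a => by
        show lam (act z a) = (lam a)⁻¹
        rw [hzinv, map_inv]
      calc ∑ n : N, extendByZero H (fun g => (ψ ε g : ℂ)) ((E (n, u)) * (E (n, u)))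
          = ∑ n : N, (if u * u ∈ T then ((lam n : ℂ) * (lam (act u n) : ℂ)) else 0) :=
            Finset.sum_congr rfl fun n _ => by
              show extendByZero H _ ((n : G) * u * ((n : G) * u)) = _
              rw [hmulc, hext, map_mul, map_mul, hε' u, Units.val_mul, Units.val_one, mul_one]
        _ = if u * u ∈ T then ∑ n : N, ((lam * conjl u) n : ℂ) else 0 := by
            split_ifs
            · rfl
            · simp
        _ = _ := by
            rw [hsumN]
            by_cases h : u * z⁻¹ ∈ T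
            · have h' := hzu.1 h
              have huu : u * u ∈ T := fun a => by
                have h1 : ∀ b, lam (act u b) = (lam b)⁻¹ := fun b => DFunLike.congr_fun (h'.trans hcz) b
                rw [hact_comp, h1, h1, inv_inv]
              rw [if_pos huu, if_pos h, if_pos (by rw [h', hcz, mul_inv_cancel])]
            · rw [if_neg h]
              split_ifs with h1 h2
              · exact absurd (hzu.2 ((eq_inv_of_mul_eq_one_right h2).trans hcz.symm)) h
              · rfl
              · rfl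
    rw [Finset.sum_congr rfl fun u _ => hu u, ← Finset.sum_filter, Finset.sum_const, nsmul_eq_mul,
      ← Fintype.card_subtype, ← Nat.card_eq_fintype_card,
      Nat.card_congr (Equiv.subtypeEquiv (Equiv.mulRight z⁻¹) fun u => Iff.rfl : {u : P // u * z⁻¹ ∈ T} ≃ T),
      hH, Nat.cast_mul]
    have hN0 : (Nat.card N : ℂ) ≠ 0 := Nat.cast_ne_zero.2 Nat.card_pos.ne'
    have hT0 : (Nat.card T : ℂ) ≠ 0 := Nat.cast_ne_zero.2 Nat.card_pos.ne'
    field_simp
  have hdet : ∀ ε ε', χf ε = χf ε' → ∀ t ∈ T, ε t = ε' t := fun ε ε' h t ht => by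
    have h1 := (hcoef ε t ht).symm.trans ((by rw [h] : _ = _).trans (hcoef ε' t ht))
    exact Units.ext (mul_left_cancel₀ (Nat.cast_ne_zero.2 Nat.card_pos.ne') h1)
  -- counting
  let R : (P →* ℂˣ) → (T →* ℂˣ) := fun ε => ε.comp T.subtype
  haveI := finite_hom_units T
  haveI := Fintype.ofFinite (T →* ℂˣ)
  let I : Finset (T →* ℂˣ) := Ep.image R
  have hEI : Ep.card ≤ m * I.card := by
    refine Finset.card_le_mul_card_image _ _ fun b hb => ?_
    obtain ⟨ε₀, -, rfl⟩ := Finset.mem_image.1 hb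
    let Φ : Subgroup P := commutator P ⊔ T
    haveI : Φ.Normal := ⟨fun x hx g => by
      have h1 : g * x * g⁻¹ * x⁻¹ ∈ Φ := Subgroup.mem_sup_left (by
        rw [commutator_def, ← commutatorElement_def]
        exact Subgroup.commutator_mem_commutator (Subgroup.mem_top g) (Subgroup.mem_top x))
      simpa using Φ.mul_mem h1 hx⟩
    haveI := finite_hom_units (P ⧸ Φ)
    have hle : Nat.card (P ⧸ Φ →* ℂˣ) ≤ m := by
      rw [card_hom_units]
      calc (commutator (P ⧸ Φ)).index ≤ Nat.card (P ⧸ Φ) := Nat.le_of_dvd Nat.card_pos (Subgroup.index_dvd_card _)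
        _ = Φ.index := rfl
        _ ≤ m := Nat.le_of_dvd (Nat.pos_of_ne_zero Subgroup.index_ne_zero_of_finite)
              (Subgroup.index_dvd_of_le le_sup_right)
    haveI := Fintype.ofFinite (P ⧸ Φ →* ℂˣ)
    rw [Nat.card_eq_fintype_card] at hle
    refine le_trans ?_ hle
    have hker : ∀ ε ∈ Ep.filter (fun ε => R ε = R ε₀), Φ ≤ (ε * ε₀⁻¹).ker := fun ε hε => by
      refine sup_le (Abelianization.commutator_subset_ker _) fun t ht => ?_
      rw [MonoidHom.mem_ker, MonoidHom.mul_apply, MonoidHom.inv_apply, mul_inv_eq_one]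
      exact DFunLike.congr_fun (Finset.mem_filter.1 hε).2 ⟨t, ht⟩
    refine Finset.card_le_card_of_injOn (fun ε => if h : Φ ≤ (ε * ε₀⁻¹).ker then QuotientGroup.lift Φ _ h else 1)
      (fun _ _ => Finset.mem_univ _) fun ε hε ε' hε' h => ?_
    simp only [Finset.mem_coe] at hε hε'
    simp only [dif_pos (hker ε hε), dif_pos (hker ε' hε')] at h
    have h' : ε * ε₀⁻¹ = ε' * ε₀⁻¹ := MonoidHom.ext fun x => DFunLike.congr_fun h (x : P ⧸ Φ)
    exact mul_right_cancel h'
  set A := S.filter fun χ : IrrCharacter G => deg (χ : G → ℂ) = 1 with hA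
  set B := S.filter fun χ : IrrCharacter G => ¬ deg (χ : G → ℂ) = 1 with hB
  have hAE : A.card ≤ Ep.card := by
    choose l hl using fun χ : {χ : IrrCharacter G // χ ∈ A} => exists_hom_of_degree_one (irr_isCharacter χ.1.2)
      (by rw [char_one_eq_deg (irr_isCharacter χ.1.2), (Finset.mem_filter.1 χ.2).2, Nat.cast_one])
    have hlN : ∀ χ, (∀ g, l χ g * l χ g = 1) ∧ ∀ n : N, l χ (n : G) = 1 := fun χ => by
      have hind := ((hS χ.1).1 (Finset.mem_filter.1 χ.2).1).2
      rw [indicator2, hl] at hind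
      have h1 : (l χ * l χ) = 1 := by
        by_contra hne
        have h2 : ∑ g : G, ((l χ * l χ) g : ℂ) = 0 := sum_hom_units_eq_zero ((Units.coeHom ℂ).comp (l χ * l χ))
          fun e => hne (MonoidHom.ext fun a => Units.ext (DFunLike.congr_fun e a))
        simp only [map_mul] at hind
        simp only [MonoidHom.mul_apply] at h2
        rw [h2, mul_zero] at hind
        exact zero_ne_one hind
      refine ⟨fun g => DFunLike.congr_fun h1 g, fun n => ?_⟩
      have h2 : l χ (n : G) ^ q = 1 := by rw [← map_pow, hNexp _ n.2, map_one]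
      exact (pow_eq_one_iff_of_coprime hq2').1 ⟨h2, by rw [sq]; exact DFunLike.congr_fun h1 (n : G)⟩
    rw [← Fintype.card_coe A, ← Fintype.card_coe Ep]
    refine Fintype.card_le_of_injective (fun χ => ⟨(l χ).comp P.subtype,
      Finset.mem_filter.2 ⟨Finset.mem_univ _, fun u => (hlN χ).1 u⟩⟩) fun χ χ' h => ?_
    refine Subtype.ext (Subtype.ext ?_)
    rw [hl χ, hl χ']
    funext g
    obtain ⟨n, hn, u, hu, rfl⟩ := hcoord g
    simp only [map_mul, show l χ n = 1 from (hlN χ).2 ⟨n, hn⟩, show l χ' n = 1 from (hlN χ').2 ⟨n, hn⟩]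
    rw [show l χ u = l χ' u from DFunLike.congr_fun (congrArg Subtype.val h) ⟨u, hu⟩]
  choose pre hpre hpre' using fun b : {b // b ∈ I} => Finset.mem_image.1 b.2
  let fam : {b // b ∈ I} → IrrCharacter G := fun b => ⟨χf (pre b), hirr _⟩
  have hfinj : Function.Injective fam := fun b b' h => Subtype.ext (by
    rw [← hpre' b, ← hpre' b']
    exact MonoidHom.ext fun t => hdet _ _ (congrArg Subtype.val h) t t.2)
  have hdfam : ∀ b, deg (fam b : G → ℂ) = m := fun b => by
    have h1 : (fam b : G → ℂ) 1 = (deg (fam b : G → ℂ) : ℂ) := char_one_eq_deg (irr_isCharacter (fam b).2)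
    have h2 : (fam b : G → ℂ) 1 = (m : ℂ) := hone _
    exact_mod_cast h1.symm.trans h2
  have hsub : Finset.univ.image fam ⊆ B := fun χ hχ => by
    obtain ⟨b, -, rfl⟩ := Finset.mem_image.1 hχ
    refine Finset.mem_filter.2 ⟨(hS _).2 ⟨Or.inr ?_, hindic _ (hpre b)⟩, ?_⟩
    · rw [hdfam]; exact heven
    · rw [hdfam]; omega
  have hB2 : ∀ χ ∈ B, (4 : ℤ) ≤ 3 * (deg (χ : G → ℂ) : ℤ) := fun χ hχ => by
    have h1 := (Finset.mem_filter.1 hχ)
    have h2 := deg_pos χ.2
    omega
  have hfamsum : (I.card : ℤ) * (3 * (m : ℤ) - 4) ≤ ∑ χ ∈ B, (3 * (deg (χ : G → ℂ) : ℤ) - 4) := by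
    refine le_trans ?_ (Finset.sum_le_sum_of_subset_of_nonneg hsub fun χ hχ _ => sub_nonneg.2 (hB2 χ hχ))
    rw [Finset.sum_image hfinj.injOn, Finset.sum_congr rfl fun b _ => by rw [hdfam b], Finset.sum_const,
      Finset.card_univ, Fintype.card_coe, nsmul_eq_mul]
  have hsplitS : ∑ χ ∈ S, (3 * (deg (χ : G → ℂ) : ℤ) - 4) =
      ∑ χ ∈ A, (3 * (deg (χ : G → ℂ) : ℤ) - 4) + ∑ χ ∈ B, (3 * (deg (χ : G → ℂ) : ℤ) - 4) :=
    (Finset.sum_filter_add_sum_filter_not S _ _).symm
  have hAsum : ∑ χ ∈ A, (3 * (deg (χ : G → ℂ) : ℤ) - 4) = -(A.card : ℤ) := by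
    have e : ∀ χ ∈ A, (3 * (deg (χ : G → ℂ) : ℤ) - 4) = -1 := fun χ hχ => by
      rw [(Finset.mem_filter.1 hχ).2]; norm_num
    rw [Finset.sum_congr rfl e]
    simp
  have hAI : (A.card : ℤ) ≤ (m : ℤ) * I.card := by exact_mod_cast hAE.trans hEI
  have htot : (0 : ℤ) ≤ ∑ χ ∈ S, (3 * (deg (χ : G → ℂ) : ℤ) - 4) := by
    have hm' : (2 : ℤ) ≤ m := by exact_mod_cast hm2
    nlinarith
  rw [Finset.sum_sub_distrib, ← Finset.mul_sum, Finset.sum_const, nsmul_eq_mul] at htot
  zify
  push_cast
  linarith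

end Cfsg.Agent.Char.SRAvg
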