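import Mathlib
import Cfsg.Prelude.Def_Solvable
import Cfsg.Prelude.Def_Transfer
import Cfsg.Agent.Lib.Char.SuzukiField
import Cfsg.Agent.Lib.Fusion.Cores

/-!
The automorphism group of the coordinate group of a Sylow two-subgroup of a Suzuki group.
-/

set_option autoImplicit false

namespace Cfsg.Agent.Char.SuzukiAut

open Finset SuzukiField

variable {F : Type*} [Field F]

/-- The coordinate group: `(x, z) * (x', z') = (x + x', z + z' + x ^ θ * x')`. -/
@[ext] structure Pt (F : Type*) [Field F] (s : ℕ) where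
  /-- first coordinate -/
  xc : F
  /-- second coordinate -/
  zc : F

variable [Fintype F] [CharP F 2] {n s : ℕ}

instance : Group (Pt F s) where
  mul g h := ⟨g.xc + h.xc, g.zc + h.zc + g.xc ^ 2 ^ s * h.xc⟩
  one := ⟨0, 0⟩
  inv g := ⟨g.xc, g.zc + g.xc ^ 2 ^ s * g.xc⟩
  mul_assoc g h k := by
    apply Pt.ext
    · show g.xc + h.xc + k.xc = g.xc + (h.xc + k.xc); ring
    · show g.zc + h.zc + g.xc ^ 2 ^ s * h.xc + k.zc + (g.xc + h.xc) ^ 2 ^ s * k.xc =
        g.zc + (h.zc + k.zc + h.xc ^ 2 ^ s * k.xc) + g.xc ^ 2 ^ s * (h.xc + k.xc)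
      rw [add_pow']; ring
  one_mul g := by
    apply Pt.ext
    · show 0 + g.xc = g.xc; ring
    · show 0 + g.zc + (0 : F) ^ 2 ^ s * g.xc = g.zc
      rw [zero_pow (by positivity)]; ring
  mul_one g := by
    apply Pt.ext
    · show g.xc + 0 = g.xc; ring
    · show g.zc + 0 + g.xc ^ 2 ^ s * 0 = g.zc; ring
  inv_mul_cancel g := by
    apply Pt.ext
    · show g.xc + g.xc = 0; exact CharTwo.add_self_eq_zero _
    · show g.zc + g.xc ^ 2 ^ s * g.xc + g.zc + g.xc ^ 2 ^ s * g.xc = 0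
      linear_combination (g.zc + g.xc ^ 2 ^ s * g.xc) * (CharTwo.two_eq_zero : (2 : F) = 0)

theorem xc_mul (g h : Pt F s) : (g * h).xc = g.xc + h.xc := rfl
theorem zc_mul (g h : Pt F s) : (g * h).zc = g.zc + h.zc + g.xc ^ 2 ^ s * h.xc := rfl
theorem xc_one : (1 : Pt F s).xc = 0 := rfl
theorem zc_one : (1 : Pt F s).zc = 0 := rfl
theorem xc_inv (g : Pt F s) : g⁻¹.xc = g.xc := rfl

/-- a point over the first coordinate -/
def sec (s : ℕ) (x : F) : Pt F s := ⟨x, 0⟩
/-- a central point -/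
def cen (s : ℕ) (z : F) : Pt F s := ⟨0, z⟩

theorem sq_eq (g : Pt F s) : g * g = cen s (g.xc ^ 2 ^ s * g.xc) := by
  apply Pt.ext
  · exact CharTwo.add_self_eq_zero _
  · show g.zc + g.zc + g.xc ^ 2 ^ s * g.xc = g.xc ^ 2 ^ s * g.xc
    rw [CharTwo.add_self_eq_zero, zero_add]

theorem xc_eq_zero_iff (g : Pt F s) : g.xc = 0 ↔ g * g = 1 := by
  rw [sq_eq, Pt.ext_iff]
  constructor
  · intro h; exact ⟨rfl, by simp [cen, h, zc_one]⟩
  · rintro ⟨-, h⟩
    have h' : g.xc ^ 2 ^ s * g.xc = 0 := h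
    rcases mul_eq_zero.1 h' with e | e
    · exact (pow_eq_zero_iff (by positivity)).1 e
    · exact e

theorem xc_aut (φ : MulAut (Pt F s)) {g : Pt F s} (h : g.xc = 0) : (φ g).xc = 0 := by
  rw [xc_eq_zero_iff] at h ⊢
  rw [← map_mul, h, map_one]

/-- the induced map -/
def gfun (φ : MulAut (Pt F s)) (x : F) : F := (φ (sec s x)).xc

theorem gfun_spec (φ : MulAut (Pt F s)) (g : Pt F s) : (φ g).xc = gfun φ g.xc := by
  have h : ((sec s g.xc)⁻¹ * g).xc = 0 := by
    rw [xc_mul, xc_inv]; exact CharTwo.add_self_eq_zero _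
  have h1 := xc_aut φ h
  rw [map_mul, map_inv, xc_mul, xc_inv, CharTwo.add_eq_zero] at h1
  exact h1.symm

theorem gfun_mul (φ ψ : MulAut (Pt F s)) (x : F) : gfun (φ * ψ) x = gfun φ (gfun ψ x) := by
  conv_lhs => rw [gfun, MulAut.mul_apply, gfun_spec]
  rfl

theorem gfun_one (x : F) : gfun (1 : MulAut (Pt F s)) x = x := rfl

/-- the induced permutation -/
def lam : MulAut (Pt F s) →* Equiv.Perm F :=
  MonoidHom.mk' (fun φ => ⟨gfun φ, gfun φ⁻¹, fun x => by rw [← gfun_mul, inv_mul_cancel, gfun_one],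
      fun x => by rw [← gfun_mul, mul_inv_cancel, gfun_one]⟩)
    (fun φ ψ => Equiv.ext fun x => gfun_mul φ ψ x)

theorem lam_spec (φ : MulAut (Pt F s)) (g : Pt F s) : (φ g).xc = lam φ g.xc := gfun_spec φ g

/-- A vanishing quadratic form in the Frobenius powers has alternating coefficients. -/
theorem quad_coeff (hF : Fintype.card F = 2 ^ n) (c : ℕ → ℕ → F)
    (h : ∀ x : F, ∑ a ∈ range n, ∑ b ∈ range n, c a b * x ^ 2 ^ a * x ^ 2 ^ b = 0) :
    (∀ a < n, ∀ b < n, c a b + c b a = 0) ∧ ∀ a < n, c a a = 0 := by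
  have hpol : ∀ x y : F, ∑ a ∈ range n, (∑ b ∈ range n, (c a b + c b a) * y ^ 2 ^ b) * x ^ 2 ^ a = 0 := by
    intro x y
    have h1 := h (x + y)
    simp only [add_pow', mul_add, add_mul, Finset.sum_add_distrib, h x, h y, zero_add, add_zero] at h1
    simp only [add_mul, Finset.sum_mul, Finset.sum_add_distrib]
    rw [Finset.sum_comm (f := fun a b => c a b * y ^ 2 ^ a * x ^ 2 ^ b)] at h1
    refine Eq.trans ?_ h1
    rw [add_comm]
    congr 1 <;> exact Finset.sum_congr rfl fun a _ => Finset.sum_congr rfl fun b _ => by ring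
  have hsym : ∀ a < n, ∀ b < n, c a b + c b a = 0 := fun a ha b hb =>
    frob_indep hF (fun b => c a b + c b a)
      (fun y => frob_indep hF (fun a => ∑ b ∈ range n, (c a b + c b a) * y ^ 2 ^ b) (fun x => hpol x y) a ha) b hb
  refine ⟨hsym, frob_indep hF (fun a => c a a) fun t => ?_⟩
  obtain ⟨x, rfl⟩ : ∃ x : F, x * x = t := Finite.surjective_of_injective
    (f := fun x : F => x * x) (fun u v (e : u * u = v * v) => CharTwo.sq_inj.1 (by rw [sq, sq]; exact e)) t
  have h1 := h x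
  rw [← Finset.sum_product'] at h1
  rw [← Finset.sum_filter_add_sum_filter_not (range n ×ˢ range n) (fun p => p.1 = p.2)] at h1
  have hoff : ∑ p ∈ (range n ×ˢ range n).filter (fun p => ¬ p.1 = p.2), c p.1 p.2 * x ^ 2 ^ p.1 * x ^ 2 ^ p.2 = 0 := by
    refine Finset.sum_involution (fun p _ => (p.2, p.1)) (fun p hp => ?_) (fun p hp _ e => ?_) (fun p hp => ?_)
      (fun p _ => rfl)
    · obtain ⟨hp, -⟩ := Finset.mem_filter.1 hp
      obtain ⟨ha, hb⟩ := Finset.mem_product.1 hp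
      linear_combination (x ^ 2 ^ p.1 * x ^ 2 ^ p.2) * hsym p.1 (Finset.mem_range.1 ha) p.2 (Finset.mem_range.1 hb)
    · exact (Finset.mem_filter.1 hp).2 (congrArg Prod.fst e).symm
    · obtain ⟨hp, hne⟩ := Finset.mem_filter.1 hp
      obtain ⟨ha, hb⟩ := Finset.mem_product.1 hp
      exact Finset.mem_filter.2 ⟨Finset.mem_product.2 ⟨hb, ha⟩, fun e => hne e.symm⟩
  rw [hoff, add_zero] at h1
  refine Eq.trans ?_ h1
  refine Finset.sum_nbij' (fun a => (a, a)) Prod.fst ?_ ?_ ?_ ?_ ?_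
  · intro a ha; simp at ha ⊢; exact ha
  · intro p hp; simp at hp ⊢; exact hp.1.1
  · intro a _; rfl
  · intro p hp; simp at hp; exact Prod.ext rfl hp.2
  · intro a _; rw [mul_pow]; ring

theorem lam_form (hn : 3 ≤ n) (hs : 2 * s = n + 1) (hF : Fintype.card F = 2 ^ n) (φ : MulAut (Pt F s)) :
    ∃ c : F, c ≠ 0 ∧ ∃ i : ℕ, i < n ∧ ∀ x, lam φ x = c * x ^ 2 ^ i := by
  classical
  have hsn : s < n := by omega
  have hLadd : ∀ x y, lam φ (x + y) = lam φ x + lam φ y := fun x y => by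
    have h := lam_spec φ (sec s x * sec s y)
    rw [map_mul, xc_mul, lam_spec, lam_spec] at h
    exact h.symm
  have hMadd : ∀ x y : F, (φ (cen s (x + y))).zc = (φ (cen s x)).zc + (φ (cen s y)).zc := fun x y => by
    have e : cen s (x + y) = cen s x * cen s y := by
      apply Pt.ext
      · show (0 : F) = 0 + 0; ring
      · show x + y = x + y + (0 : F) ^ 2 ^ s * 0; ring
    rw [e, map_mul, zc_mul, xc_aut φ (show (cen s x).xc = 0 from rfl), zero_pow (by positivity), zero_mul, add_zero]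
  obtain ⟨w, hw⟩ := frob_expand (by omega) hF (AddMonoidHom.mk' (fun x => lam φ x) hLadd)
  obtain ⟨μ, hμ⟩ := frob_expand (by omega) hF (AddMonoidHom.mk' (fun z => (φ (cen s z)).zc) hMadd)
  simp only [AddMonoidHom.mk'_apply] at hw hμ
  set u : ℕ → F := fun a => ∑ i ∈ range n, if (i + s) % n = a then w i ^ 2 ^ s else 0 with hu
  have huL : ∀ x, lam φ x ^ 2 ^ s = ∑ a ∈ range n, u a * x ^ 2 ^ a := by
    intro x
    haveI : ExpChar F 2 := ExpChar.prime Nat.prime_two
    rw [hw, sum_pow_char_pow]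
    simp only [hu, Finset.sum_mul, ite_mul, zero_mul]
    rw [Finset.sum_comm]
    refine Finset.sum_congr rfl fun i _ => ?_
    rw [Finset.sum_ite_eq, if_pos (Finset.mem_range.2 (Nat.mod_lt _ (by omega))), mul_pow, ← pow_mul, ← pow_add 2 i s,
      ← pow_mod' hF x (i + s)]
  have hform : ∀ x : F, ∑ a ∈ range n, ∑ b ∈ range n,
      (u a * w b + if a = (b + s) % n then μ b else 0) * x ^ 2 ^ a * x ^ 2 ^ b = 0 := by
    intro x
    have h := sq_eq (φ (sec s x))
    rw [← map_mul, sq_eq, lam_spec] at h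
    have h' : (φ (cen s (x ^ 2 ^ s * x))).zc = lam φ x ^ 2 ^ s * lam φ x := congrArg Pt.zc h
    rw [hμ, huL, hw, Finset.sum_mul_sum] at h'
    simp only [add_mul, Finset.sum_add_distrib, ite_mul, zero_mul]
    rw [CharTwo.add_eq_zero, Finset.sum_comm (f := fun a b => if a = (b + s) % n then _ else _)]
    refine Eq.trans ?_ (h'.symm.trans ?_)
    · exact Finset.sum_congr rfl fun a _ => Finset.sum_congr rfl fun b _ => by ring
    · refine Finset.sum_congr rfl fun b _ => ?_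
      rw [Finset.sum_ite_eq', if_pos (Finset.mem_range.2 (Nat.mod_lt _ (by omega))), ← pow_mod' hF, mul_pow,
        ← pow_mul, ← pow_add 2 s b, add_comm s b]
      ring
  obtain ⟨hsym, hdiag⟩ := quad_coeff hF _ hform
  have hmodne : ∀ a < n, a ≠ (a + s) % n := fun a ha e => by
    rcases Nat.lt_or_ge (a + s) n with h | h
    · rw [Nat.mod_eq_of_lt h] at e; omega
    · rw [Nat.mod_eq_sub_mod h, Nat.mod_eq_of_lt (by omega)] at e; omega
  have hu0 : ∀ a < n, w a ≠ 0 → u a = 0 := fun a ha hwa => by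
    have h := hdiag a ha
    rw [if_neg (hmodne a ha), add_zero] at h
    exact (mul_eq_zero.1 h).resolve_right hwa
  have huval : ∀ i < n, u ((i + s) % n) = w i ^ 2 ^ s := fun i hi => by
    simp only [hu]
    rw [Finset.sum_eq_single i (fun j hj hne => ?_) (fun h => absurd (Finset.mem_range.2 hi) h), if_pos rfl]
    rw [if_neg]
    intro e
    have e' : j ≡ i [MOD n] := Nat.ModEq.add_right_cancel' s (show j + s ≡ i + s [MOD n] from e)
    exact hne ((Nat.mod_eq_of_lt (Finset.mem_range.1 hj)).symm.trans (Eq.trans e' (Nat.mod_eq_of_lt hi)))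
  have hone : ∀ k < n, ∀ l < n, w k ≠ 0 → w l ≠ 0 → k ≠ l → l = ((k + s) % n + s) % n := by
    intro k hk l hl hwk hwl hne
    by_contra hcon
    have h := hsym ((k + s) % n) (Nat.mod_lt _ (by omega)) l hl
    rw [huval k hk, hu0 l hl hwl, zero_mul, if_neg hcon,
      if_neg (show ¬ ((k + s) % n = (l + s) % n) from fun e => hne ((Nat.mod_eq_of_lt hk).symm.trans
        (Eq.trans (Nat.ModEq.add_right_cancel' s (show k + s ≡ l + s [MOD n] from e)) (Nat.mod_eq_of_lt hl)))),
      add_zero, add_zero, add_zero] at h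
    exact mul_ne_zero (pow_ne_zero _ hwk) hwl h
  have hshift : ∀ k, ((k + s) % n + s) % n = (k + 1) % n := fun k => by
    rw [Nat.mod_add_mod, show k + s + s = k + 1 + n by omega, Nat.add_mod_right]
  have huniq : ∀ k < n, ∀ l < n, w k ≠ 0 → w l ≠ 0 → k = l := by
    intro k hk l hl hwk hwl
    by_contra hne
    have e1 := (hone k hk l hl hwk hwl hne).trans (hshift k)
    have e2 := (hone l hl k hk hwl hwk (Ne.symm hne)).trans (hshift l)
    rcases Nat.lt_or_ge (k + 1) n with h | h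
    · rw [Nat.mod_eq_of_lt h] at e1
      rcases Nat.lt_or_ge (l + 1) n with h' | h'
      · rw [Nat.mod_eq_of_lt h'] at e2; omega
      · rw [show l + 1 = n by omega, Nat.mod_self] at e2; omega
    · rw [show k + 1 = n by omega, Nat.mod_self] at e1
      rcases Nat.lt_or_ge (l + 1) n with h' | h'
      · rw [Nat.mod_eq_of_lt h'] at e2; omega
      · omega
  obtain ⟨i, hi, hwi⟩ : ∃ i < n, w i ≠ 0 := by
    by_contra hcon
    push Not at hcon
    have h0 : ∀ x, lam φ x = 0 := fun x => by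
      rw [hw]; exact Finset.sum_eq_zero fun i hi => by rw [hcon i (Finset.mem_range.1 hi), zero_mul]
    exact one_ne_zero ((lam φ).injective ((h0 1).trans (h0 0).symm))
  refine ⟨w i, hwi, i, hi, fun x => ?_⟩
  rw [hw, Finset.sum_eq_single i (fun j hj hne => ?_) (fun h => absurd (Finset.mem_range.2 hi) h)]
  by_contra hcon
  exact hne (huniq j (Finset.mem_range.1 hj) i hi (fun e => hcon (by rw [e, zero_mul])) hwi)

theorem exists_lift (c : F) (hc : c ≠ 0) (i : ℕ) : ∃ φ : MulAut (Pt F s), ∀ x, lam φ x = c * x ^ 2 ^ i := by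
  let f : Pt F s → Pt F s := fun g => ⟨c * g.xc ^ 2 ^ i, c ^ 2 ^ s * c * g.zc ^ 2 ^ i⟩
  let F' : Pt F s →* Pt F s := MonoidHom.mk' f (fun g h => by
    apply Pt.ext
    · show c * (g * h).xc ^ 2 ^ i = c * g.xc ^ 2 ^ i + c * h.xc ^ 2 ^ i
      rw [xc_mul, add_pow']; ring
    · show c ^ 2 ^ s * c * (g * h).zc ^ 2 ^ i =
        c ^ 2 ^ s * c * g.zc ^ 2 ^ i + c ^ 2 ^ s * c * h.zc ^ 2 ^ i + (c * g.xc ^ 2 ^ i) ^ 2 ^ s * (c * h.xc ^ 2 ^ i)
      rw [zc_mul, add_pow', add_pow', mul_pow, mul_pow, ← pow_mul g.xc, ← pow_mul g.xc, mul_comm (2 ^ i) (2 ^ s)]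
      ring)
  haveI : Finite (Pt F s) := Finite.of_injective (fun g : Pt F s => (g.xc, g.zc)) fun a b e =>
    Pt.ext (congrArg Prod.fst e) (congrArg Prod.snd e)
  have hinj : Function.Injective F' := by
    intro g h e
    exact Pt.ext (pow_two_inj i (mul_left_cancel₀ hc (congrArg Pt.xc e)))
      (pow_two_inj i (mul_left_cancel₀ (mul_ne_zero (pow_ne_zero _ hc) hc) (congrArg Pt.zc e)))
  refine ⟨MulEquiv.ofBijective F' (Finite.injective_iff_bijective.1 hinj), fun x => rfl⟩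

/-- shift by an additive map -/
def shift (f : F →+ F) : MulAut (Pt F s) where
  toFun g := ⟨g.xc, g.zc + f g.xc⟩
  invFun g := ⟨g.xc, g.zc + f g.xc⟩
  left_inv g := Pt.ext rfl (by simp [add_assoc, CharTwo.add_self_eq_zero])
  right_inv g := Pt.ext rfl (by simp [add_assoc, CharTwo.add_self_eq_zero])
  map_mul' g h := Pt.ext rfl (by simp only [zc_mul, xc_mul, map_add]; ring)

theorem shift_mem (f : F →+ F) : shift (s := s) f ∈ (lam (s := s) (F := F)).ker :=
  MonoidHom.mem_ker.2 (Equiv.ext fun _ => rfl)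

theorem ker_eq_shift (hn : n ≠ 0) (hF : Fintype.card F = 2 ^ n) (hsn : 2 * s = n + 1) {φ : MulAut (Pt F s)}
    (h : φ ∈ (lam (s := s) (F := F)).ker) : ∃ f : F →+ F, φ = shift f := by
  have hxc : ∀ g, (φ g).xc = g.xc := fun g => by rw [lam_spec, MonoidHom.mem_ker.1 h]; rfl
  have hnorm : Function.Surjective fun y : F => y ^ 2 ^ s * y := by
    refine Finite.surjective_of_injective fun a b e => ?_
    have key : ∀ y : F, (y ^ 2 ^ s * y) ^ 2 ^ s = y * y * y ^ 2 ^ s := fun y => by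
      rw [mul_pow, ← pow_mul, ← pow_add 2 s s, show s + s = n + 1 by omega, pow_succ, pow_mul, pow_card' hF, sq]
    have e' : a ^ 2 ^ s * a = b ^ 2 ^ s * b := e
    have ha := key a
    rw [e', key b] at ha
    by_cases hb : b = 0
    · subst hb
      rcases mul_eq_zero.1 (e'.trans (mul_zero _)) with h0 | h0
      · exact (pow_eq_zero_iff (by positivity)).1 h0
      · exact h0
    have hb' : b ^ 2 ^ s * b ≠ 0 := mul_ne_zero (pow_ne_zero _ hb) hb
    exact mul_right_cancel₀ hb' (show a * (b ^ 2 ^ s * b) = b * (b ^ 2 ^ s * b) by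
      linear_combination a * (e'.symm) - ha)
  have hcen : ∀ {g : Pt F s}, g.xc = 0 → φ g = g := by
    intro g hg
    obtain ⟨y, hy⟩ := hnorm g.zc
    have e : g = sec s y * sec s y := by
      rw [sq_eq]; exact Pt.ext hg hy.symm
    rw [e, map_mul, sq_eq, sq_eq, hxc]
  let d : F → F := fun x => (φ (sec s x)).zc
  have hd : ∀ g : Pt F s, φ g = ⟨g.xc, g.zc + d g.xc⟩ := by
    intro g
    have e : g = sec s g.xc * cen s g.zc := by
      apply Pt.ext
      · show g.xc = g.xc + 0; ring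
      · show g.zc = 0 + g.zc + g.xc ^ 2 ^ s * 0; ring
    conv_lhs => rw [e, map_mul, hcen (show (cen s g.zc).xc = 0 from rfl)]
    apply Pt.ext
    · show (φ (sec s g.xc)).xc + 0 = g.xc
      rw [hxc]; exact add_zero _
    · show (φ (sec s g.xc)).zc + g.zc + (φ (sec s g.xc)).xc ^ 2 ^ s * 0 = g.zc + d g.xc
      ring
  refine ⟨AddMonoidHom.mk' d fun x y => ?_, MulEquiv.ext hd⟩
  have h1 := congrArg Pt.zc (map_mul φ (sec s x) (sec s y))
  rw [hd, hd, hd] at h1
  simp only [zc_mul, xc_mul, sec] at h1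
  linear_combination h1

theorem card_ker (hn : n ≠ 0) (hF : Fintype.card F = 2 ^ n) (hsn : 2 * s = n + 1) :
    Nat.card (lam (s := s) (F := F)).ker = 2 ^ (n ^ 2) := by
  classical
  let e : (F →+ F) → (lam (s := s) (F := F)).ker := fun f => ⟨shift f, shift_mem f⟩
  have he : Function.Bijective e := ⟨fun a b h => AddMonoidHom.ext fun x => by
      have h1 := congrArg (fun w : (lam (s := s) (F := F)).ker => ((w : MulAut (Pt F s)) (sec s x)).zc) h
      exact add_left_cancel (show (0 : F) + a x = 0 + b x from h1),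
    fun φ => by obtain ⟨f, hf⟩ := ker_eq_shift hn hF hsn φ.2; exact ⟨f, Subtype.ext hf.symm⟩⟩
  rw [← Nat.card_congr (Equiv.ofBijective e he)]
  let Ψ : (Fin n → F) → (F →+ F) := fun w =>
    AddMonoidHom.mk' (fun t => ∑ i : Fin n, w i * t ^ 2 ^ (i : ℕ)) fun a b => by
      simp only [add_pow', mul_add, Finset.sum_add_distrib]
  have hΨ : Function.Bijective Ψ := by
    refine ⟨fun w w' h => funext fun i => ?_, fun f => ?_⟩
    · have h' := frob_indep hF (fun j => if hj : j < n then w ⟨j, hj⟩ - w' ⟨j, hj⟩ else 0) (fun t => by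
        rw [← Fin.sum_univ_eq_sum_range (fun j => (if hj : j < n then w ⟨j, hj⟩ - w' ⟨j, hj⟩ else 0) * t ^ 2 ^ j)]
        simp only [Fin.is_lt, dif_pos, sub_mul, Finset.sum_sub_distrib, Fin.eta]
        exact sub_eq_zero.2 (DFunLike.congr_fun h t)) i.1 i.2
      simpa [sub_eq_zero] using h'
    · obtain ⟨w, hw⟩ := frob_expand hn hF f
      refine ⟨fun i => w i, AddMonoidHom.ext fun t => ?_⟩
      rw [hw]
      exact Fin.sum_univ_eq_sum_range (fun i => w i * t ^ 2 ^ i) n
  rw [← Nat.card_congr (Equiv.ofBijective Ψ hΨ), Nat.card_fun, Nat.card_fin, Nat.card_eq_fintype_card, hF, ← pow_mul,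
    sq]

theorem ker_elementary (hn : n ≠ 0) (hF : Fintype.card F = 2 ^ n) (hsn : 2 * s = n + 1) :
    Cfsg.IsElementaryAbelian 2 (lam (s := s) (F := F)).ker := by
  refine ⟨⟨⟨fun a b => Subtype.ext ?_⟩⟩, fun a ha => ?_⟩
  · obtain ⟨f, hf⟩ := ker_eq_shift hn hF hsn a.2
    obtain ⟨g, hg⟩ := ker_eq_shift hn hF hsn b.2
    rw [Subgroup.coe_mul, Subgroup.coe_mul, hf, hg]
    exact MulEquiv.ext fun x => Pt.ext rfl (by
      show x.zc + g x.xc + f x.xc = x.zc + f x.xc + g x.xc
      ring)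
  · obtain ⟨f, rfl⟩ := ker_eq_shift hn hF hsn ha
    rw [pow_two]
    exact MulEquiv.ext fun x => (shift f).left_inv x

theorem frob_eq (hF : Fintype.card F = 2 ^ n) {i j : ℕ} (hi : i < n) (hj : j < n)
    (h : ∀ x : F, x ^ 2 ^ i = x ^ 2 ^ j) : i = j := by
  classical
  by_contra hne
  have := frob_indep hF (fun k => (if k = i then (1 : F) else 0) - (if k = j then 1 else 0)) (fun t => by
    simp only [sub_mul, Finset.sum_sub_distrib, ite_mul, one_mul, zero_mul, Finset.sum_ite_eq', Finset.mem_range,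
      hi, hj, if_true, h, sub_self]) i hi
  rw [if_pos rfl, if_neg hne, sub_zero] at this
  exact one_ne_zero this

theorem card_range (hn : 3 ≤ n) (hs : 2 * s = n + 1) (hF : Fintype.card F = 2 ^ n) :
    Nat.card (lam (s := s) (F := F)).range = (2 ^ n - 1) * n := by
  classical
  have hl : ∀ p : Fˣ × Fin n, ∃ e : (lam (s := s) (F := F)).range,
      ∀ x, (e : Equiv.Perm F) x = (p.1 : F) * x ^ 2 ^ (p.2 : ℕ) := fun p => by
    obtain ⟨φ, hφ⟩ := exists_lift (s := s) (p.1 : F) p.1.ne_zero p.2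
    exact ⟨⟨_, ⟨φ, rfl⟩⟩, hφ⟩
  choose e he using hl
  have hb : Function.Bijective e := by
    refine ⟨fun a b hab => ?_, fun ⟨_, φ, rfl⟩ => ?_⟩
    · have h := fun x => (he a x).symm.trans
        ((congrArg (fun w : (lam (s := s) (F := F)).range => (w : Equiv.Perm F) x) hab).trans (he b x))
      have h1 : a.1 = b.1 := Units.ext (by simpa using h 1)
      refine Prod.ext h1 (Fin.ext (frob_eq hF a.2.2 b.2.2 fun x => ?_))
      have h2 := h x
      rw [h1] at h2
      exact mul_left_cancel₀ b.1.ne_zero h2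
    · obtain ⟨c, hc, i, hi, hφ⟩ := lam_form hn hs hF φ
      exact ⟨(Units.mk0 c hc, ⟨i, hi⟩), Subtype.ext (Equiv.ext fun x => (he _ x).trans (hφ x).symm)⟩
  rw [← Nat.card_congr (Equiv.ofBijective e hb), Nat.card_prod, Nat.card_units, Nat.card_fin,
    Nat.card_eq_fintype_card, hF]

theorem pCore_eq (hn : 3 ≤ n) (hs : 2 * s = n + 1) (hF : Fintype.card F = 2 ^ n) :
    Cfsg.pCore 2 (MulAut (Pt F s)) = (lam (s := s) (F := F)).ker := by
  haveI : Finite (Pt F s) := Finite.of_injective (fun g : Pt F s => (g.xc, g.zc)) fun a b e =>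
    Pt.ext (congrArg Prod.fst e) (congrArg Prod.snd e)
  haveI : Finite (MulAut (Pt F s)) := Finite.of_injective (fun e => e.toEquiv) MulEquiv.toEquiv_injective
  have hel := ker_elementary (by omega) hF hs
  have hpk : IsPGroup 2 (lam (s := s) (F := F)).ker := fun g => ⟨1, Subtype.ext (by
    rw [pow_one]; exact hel.2 _ g.2)⟩
  refine le_antisymm (fun φ hφ => ?_) (Cfsg.Agent.Fusion.le_pCore hpk)
  have hM := Cfsg.Agent.Fusion.isPGroup_pCore 2 (MulAut (Pt F s))
  haveI hMn : (Cfsg.pCore 2 (MulAut (Pt F s))).Normal := inferInstance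
  have two : ∀ ψ ∈ Cfsg.pCore 2 (MulAut (Pt F s)), ∀ c : F, (∀ x, lam ψ x = c * x) → c = 1 := by
    intro ψ hψ c hc
    obtain ⟨k, hk⟩ := hM ⟨ψ, hψ⟩
    have hk' : ψ ^ 2 ^ k = 1 := congrArg Subtype.val hk
    have hp : ∀ m : ℕ, ∀ x, lam (ψ ^ m) x = c ^ m * x := by
      intro m
      induction m with
      | zero => intro x; rw [pow_zero, map_one, pow_zero, one_mul]; rfl
      | succ m ih => intro x; rw [pow_succ, map_mul, Equiv.Perm.mul_apply, hc, ih]; ring
    have h1 := hp (2 ^ k) 1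
    rw [hk', map_one (lam (s := s) (F := F)), Equiv.Perm.one_apply, mul_one] at h1
    exact pow_two_inj k (h1.symm.trans (one_pow _).symm)
  obtain ⟨c, hc, i, hi, hg⟩ := lam_form hn hs hF φ
  have hi0 : i = 0 := by
    refine frob_eq hF hi (by omega) fun d => ?_
    by_cases hd : d = 0
    · rw [hd, zero_pow (by positivity), zero_pow (by norm_num)]
    obtain ⟨μ, hμ⟩ := exists_lift (s := s) d hd 0
    have hcm : φ * μ * φ⁻¹ * μ⁻¹ ∈ Cfsg.pCore 2 (MulAut (Pt F s)) := by
      have h1 := hMn.conj_mem _ (Subgroup.inv_mem _ hφ) μ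
      have h2 := Subgroup.mul_mem _ hφ h1
      simpa [mul_assoc] using h2
    have hval : ∀ x, lam (φ * μ * φ⁻¹ * μ⁻¹) x = d ^ 2 ^ i / d * x := by
      intro x
      obtain ⟨y, rfl⟩ := (lam (μ * φ)).surjective x
      rw [← Equiv.Perm.mul_apply, ← map_mul, show φ * μ * φ⁻¹ * μ⁻¹ * (μ * φ) = φ * μ by group, map_mul, map_mul,
        Equiv.Perm.mul_apply, Equiv.Perm.mul_apply, hg, hμ, hμ, hg, pow_zero, pow_one, pow_one, mul_pow]
      field_simp
    have h1 := two _ hcm _ hval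
    rw [div_eq_one_iff_eq hd] at h1
    rw [h1, pow_zero, pow_one]
  have hc1 : c = 1 := two φ hφ c fun x => by rw [hg, hi0, pow_zero, pow_one]
  exact MonoidHom.mem_ker.2 (Equiv.ext fun x => by rw [hg, hi0, hc1, pow_zero, pow_one, one_mul]; rfl)

theorem aut_structure (hn : 3 ≤ n) (hs : 2 * s = n + 1) (hF : Fintype.card F = 2 ^ n) :
    Cfsg.IsElementaryAbelian 2 (Cfsg.pCore 2 (MulAut (Pt F s))) ∧
      Nat.card ↥(Cfsg.pCore 2 (MulAut (Pt F s))) = 2 ^ (n ^ 2) ∧
      Nat.card (MulAut (Pt F s)) = 2 ^ (n ^ 2) * (n * (2 ^ n - 1)) := by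
  rw [pCore_eq hn hs hF]
  refine ⟨ker_elementary (by omega) hF hs, card_ker (by omega) hF hs, ?_⟩
  rw [← (lam (s := s) (F := F)).ker.card_mul_index, Subgroup.index_ker, card_ker (by omega) hF hs,
    card_range hn hs hF, mul_comm n]

end Cfsg.Agent.Char.SuzukiAut
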