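import Mathlib
import Cfsg.Agent.Lib.Char.SuzukiSylowAut
import Cfsg.Agent.Lib.Lie.SuzukiSylow
import Cfsg.Agent.Lib.Lie.SuzukiSp4

/-!
A Sylow two-subgroup of a Suzuki group in coordinates.
-/

set_option autoImplicit false

namespace Cfsg.Agent.Char.SuzukiAut

open Cfsg.Agent.Lie.Suzuki

theorem sylow_model {F : Type*} [Field F] [Fintype F] [CharP F 2] {m : ℕ} (hm : 1 ≤ m)
    (hF : Fintype.card F = 2 ^ (2 * m + 1)) (P : Sylow 2 ↥(Cfsg.Lie.Sz F (2 ^ (m + 1)))) :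
    Nonempty (Pt F (m + 1) ≃* ↥(P : Subgroup ↥(Cfsg.Lie.Sz F (2 ^ (m + 1))))) := by
  classical
  haveI : Fact (Nat.Prime 2) := ⟨Nat.prime_two⟩
  obtain ⟨e⟩ := lie_sz_equiv hF hm
  let f : Pt F (m + 1) →* Cfsg.Sz F m :=
    MonoidHom.mk' (fun g => tS hF g.xc g.zc) (fun g h => (tS_mul hF g.xc g.zc h.xc h.zc).symm)
  have hf : Function.Injective f := fun g h eq => by
    obtain ⟨h1, h2⟩ := tM_injective (m := m) (congrArg Subtype.val eq : tM m g.xc g.zc = tM m h.xc h.zc)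
    exact Pt.ext h1 h2
  have hrange : f.range = uSub hF := by
    ext x
    constructor
    · rintro ⟨g, rfl⟩; exact ⟨g.xc, g.zc, rfl⟩
    · rintro ⟨a, b, rfl⟩; exact ⟨⟨a, b⟩, rfl⟩
  let U : Subgroup ↥(Cfsg.Lie.Sz F (2 ^ (m + 1))) := (uSub hF).map e.toMonoidHom
  have hU2 : IsPGroup 2 U := (uSub_isPGroup hF).map _
  have hUidx : ¬ 2 ∣ U.index := by
    rw [show U.index = (uSub (m := m) hF).index from Subgroup.index_map_equiv (uSub (m := m) hF) e]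
    exact not_two_dvd_index hF hm
  haveI : Finite ↥(Cfsg.Lie.Sz F (2 ^ (m + 1))) := inferInstance
  let Q : Sylow 2 ↥(Cfsg.Lie.Sz F (2 ^ (m + 1))) := hU2.toSylow hUidx
  exact ⟨(((MonoidHom.ofInjective hf).trans (MulEquiv.subgroupCongr hrange)).trans
    (e.subgroupMap (uSub hF))).trans (Sylow.equiv Q P)⟩

end Cfsg.Agent.Char.SuzukiAut
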