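import Mathlib
import Cfsg.Agent.Lib.Char.SuzukiTwoStruct
import Cfsg.Agent.Lib.Local.FS.Normal

/-!
A Suzuki two-group is normal in every saturated fusion system on it.
-/

set_option autoImplicit false

namespace Cfsg.Agent.Char.SuzukiFusion

open Cfsg Cfsg.FusionSystem
open scoped commutatorElement

theorem suzuki_normal {Ω : Type*} [Group Ω] {S : Subgroup Ω} [Finite S] (hS : IsPGroup 2 S)
    (F : Cfsg.FusionSystem S) (hF : F.IsSaturated 2) (hsz : Cfsg.IsSuzukiTwoGroup ↥S) : F.IsNormal S := by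
  obtain ⟨hinvc, hzc⟩ := Cfsg.Agent.Lie.SuzukiTwo.center_elementary hsz
  let Z : Subgroup Ω := (Subgroup.center ↥S).map S.subtype
  have hZmem : ∀ x : Ω, x ∈ Z ↔ x ∈ S ∧ x * x = 1 := by
    intro x
    constructor
    · rintro ⟨z, hz, rfl⟩
      exact ⟨z.2, congrArg Subtype.val (hzc z hz)⟩
    · rintro ⟨hx, h1⟩
      exact ⟨⟨x, hx⟩, hinvc _ (Subtype.ext h1), rfl⟩
  have hZS : Z ≤ S := fun x hx => ((hZmem x).1 hx).1
  have hScl : F.StronglyClosed S := ⟨le_rfl, fun R _ φ hφ x => (F.le_of_mem hφ).2 x⟩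
  have hZcl : F.StronglyClosed Z := ⟨hZS, fun R hR φ hφ x => (hZmem _).2 ⟨(F.le_of_mem hφ).2 x, by
    rw [← map_mul, show x * x = 1 from Subtype.ext ((hZmem x).1 (hR x.2)).2, map_one]⟩⟩
  let C : ℕ → Subgroup Ω := fun i => if i = 0 then ⊥ else if i = 1 then Z else S
  refine Cfsg.Agent.Local.FS.normal_of_series hS hF C 2 rfl rfl (monotone_nat_of_le_succ fun i => ?_) hScl
    (fun i hi => ?_) (fun i hi => ?_)
  · match i with
    | 0 => simp [C]
    | 1 => simpa [C] using hZS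
    | i + 2 => simp [C]
  · match i, hi with
    | 0, _ => simpa [C] using hZcl
    | 1, _ => simpa [C] using hScl
  · match i, hi with
    | 0, _ =>
      simp only [C, if_true, zero_add, one_ne_zero, if_false]
      rw [Subgroup.commutator_le]
      intro g hg h hh
      obtain ⟨z, hz, rfl⟩ := hh
      have := congrArg Subtype.val (Subgroup.mem_center_iff.1 hz ⟨g, hg⟩)
      rw [Subgroup.mem_bot]
      exact commutatorElement_eq_one_iff_mul_comm.2 this
    | 1, _ =>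
      show ⁅S, S⁆ ≤ Z
      rw [Subgroup.commutator_le]
      intro g hg h hh
      refine ⟨(⟨g, hg⟩ : S) * ⟨h, hh⟩ * (⟨g, hg⟩ : S)⁻¹ * (⟨h, hh⟩ : S)⁻¹, ?_, rfl⟩
      have := SuzukiStruct.comm_central hsz (⟨g, hg⟩ : S)⁻¹ ⟨h, hh⟩
      rwa [inv_inv] at this

end Cfsg.Agent.Char.SuzukiFusion
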