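import Cfsg.Agent.Lib.Char.BlockCount
import Cfsg.Agent.Lib.Char.CoverBlocks
import Cfsg.Agent.Lib.Char.SupportNormalP
import Cfsg.Agent.Lib.Fusion.PConstrained

/-!
# Blocks of a group with a normal Sylow subgroup
-/

set_option autoImplicit false
set_option linter.style.haveILetI false

namespace Cfsg.Agent.Char

open Cfsg Module
open scoped ComplexConjugate

universe u

variable {G : Type u} [Group G] [Fintype G] {M : Ideal AlgInt} {p : ℕ}

omit [Fintype G] in
/-- The regular elements centralizing a normal Sylow subgroup form a normal `p'`-subgroup. -/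
theorem exists_regular_part [Finite G] [hp : Fact p.Prime] (P : Sylow p G)
    [(P : Subgroup G).Normal] : ∃ K : Subgroup G, K.Normal ∧ ¬ p ∣ Nat.card K ∧
      ∀ x : G, x ∈ K ↔ ¬ p ∣ orderOf x ∧ x ∈ Subgroup.centralizer ((P : Subgroup G) : Set G) := by
  set C := Subgroup.centralizer ((P : Subgroup G) : Set G) with hC
  haveI : C.Normal := Subgroup.normal_centralizer
  have hn : HasNormalPComplement p C := by
    obtain ⟨Q⟩ : Nonempty (Sylow p C) := inferInstance
    refine Fusion.hnpc_of_normalizer_le_centralizer Q fun c _ => ?_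
    refine Subgroup.mem_centralizer_iff.2 fun y hy => Subtype.ext ?_
    have hQ : (Q : Subgroup C).map C.subtype ≤ (P : Subgroup G) := by
      obtain ⟨g, hg⟩ := (Q.isPGroup'.map C.subtype).exists_le_sylow
      exact hg.trans (le_of_eq (congrArg Sylow.toSubgroup
        ((Sylow.unique_of_normal P inferInstance).uniq g |>.trans
          ((Sylow.unique_of_normal P inferInstance).uniq P).symm)))
    exact Subgroup.mem_centralizer_iff.1 c.2 _ (hQ (Subgroup.mem_map_of_mem _ hy))
  rw [Fusion.hnpc_iff] at hn
  have hK : ¬ p ∣ Nat.card (pResidual p C) := (hp.out.coprime_iff_not_dvd).mp hn.symm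
  obtain ⟨k, hk⟩ : ∃ k, (pResidual p C).index = p ^ k := by
    obtain ⟨k, hk⟩ := IsPGroup.iff_card.mp (Fusion.isPGroup_quotient_pResidual (p := p) (G := C))
    exact ⟨k, (Subgroup.index_eq_card _).trans hk⟩
  haveI := Fintype.ofFinite C
  refine ⟨(pResidual p C).map C.subtype, inferInstance,
    by rwa [Subgroup.card_map_of_injective C.subtype_injective], fun x => ⟨?_, fun ⟨hreg, hx⟩ => ?_⟩⟩
  · rintro ⟨y, hy, rfl⟩
    refine ⟨?_, y.2⟩
    rw [Subgroup.coe_subtype, Subgroup.orderOf_coe]
    exact (regular_iff_mem_of_index hp.out _ hK hk y).mpr hy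
  · exact ⟨⟨x, hx⟩, (regular_iff_mem_of_index hp.out _ hK hk _).mp
      (by rwa [← Subgroup.orderOf_coe]), rfl⟩

/-- With a normal Sylow subgroup the block idempotents span the class sums of regular elements
centralizing it, modulo the local ideal. -/
theorem classes_le_blocks (hM : IsPModular p M) (P : Sylow p G) [(P : Subgroup G).Normal] :
    Nat.card {C : ConjClasses G //
      ¬ p ∣ orderOf C.out ∧ C.out ∈ Subgroup.centralizer ((P : Subgroup G) : Set G)} ≤
      Nat.card {B : Set (IrrCharacter G) // IsPBlock M B} := by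
  classical
  haveI := Fact.mk hM.1
  have hP := pmod_prime hM
  haveI := Fintype.ofFinite (ConjClasses G)
  obtain ⟨K, hKn, hKp, hK⟩ := exists_regular_part P
  haveI := hKn
  haveI := Fintype.ofFinite K
  rw [Nat.card_eq_fintype_card, Nat.card_eq_fintype_card]
  choose χ hχ using fun B : {B : Set (IrrCharacter G) // IsPBlock M B} => block_nonempty hP B.2
  refine card_le_of_congr_one hP (fun C B => omega (χ B : G → ℂ) C.1.out)
    (fun B C => blockCoeff B.1 C.1.out) (fun _ B => memLR_omega hP (χ B).2 _)
    (fun B _ => memLR_blockCoeff hM B.2 _) fun C C' => ?_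
  set D : G → ℂ := (∑ B, omega (χ B : G → ℂ) C.1.out • blockCoeff B.1) - classInd C.1.out with hD
  suffices h : MemLocalIdeal M (D C'.1.out) by
    have e : classInd C.1.out C'.1.out = if C = C' then (1 : ℂ) else 0 := by
      simp only [classInd]
      refine if_congr ⟨fun h => Subtype.ext ?_, fun h => h ▸ IsConj.refl _⟩ rfl rfl
      rw [← Quotient.out_eq C.1, ← Quotient.out_eq C'.1]
      exact ConjClasses.mk_eq_mk_iff_isConj.mpr h
    rw [hD, Pi.sub_apply, e, Finset.sum_apply] at h
    simpa using h
  have hbI : ∀ B : {B : Set (IrrCharacter G) // IsPBlock M B}, IsIntClassFun M (blockCoeff B.1) :=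
    fun B => isIntClassFun_blockCoeff hM B.2
  have hDc : IsClassFunction G D := fun a k => by
    simp only [hD, Pi.sub_apply, Finset.sum_apply, Pi.smul_apply, fun B => (hbI B).1 a k,
      (intClassFun_classInd hP C.1.out).1 a k]
  have hoff : ∀ x, x ∉ K → D x = 0 := by
    intro x hx
    have h1 : classInd C.1.out x = 0 := by
      simp only [classInd]
      rw [if_neg]
      intro hc
      obtain ⟨k, rfl⟩ := isConj_iff.mp hc
      exact hx (hKn.conj_mem _ ((hK _).mpr C.2) k)
    have h2 : ∀ B : {B : Set (IrrCharacter G) // IsPBlock M B}, blockCoeff B.1 x = 0 := by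
      intro B
      by_cases hd : p ∣ orderOf x
      · rw [blockCoeff, weak_orthogonality hM B.2 (by simp [hM.1.ne_one]) hd, mul_zero]
      · exact blockCoeff_eq_zero_of_not_centralizing hM (P : Subgroup G) P.isPGroup' B.2
          fun h => hx ((hK x).mpr ⟨hd, h⟩)
    simp [hD, h1, h2]
  set f : K → ℂ := fun n => D n with hf
  have hext : extendByZero K f = D := by
    funext x
    by_cases hx : x ∈ K
    · rw [extendByZero_mem K f hx]
    · rw [extendByZero_not_mem K f hx, hoff x hx]
  have hinv : GInvariant K f := fun g n => by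
    show D (MulAut.conjNormal g n : G) = _
    rw [MulAut.conjNormal_apply, hDc]
  have hlam : ∀ θ : IrrCharacter K, MemLocalIdeal M (lam (θ : K → ℂ) f) := by
    intro θ
    obtain ⟨ψ, hψ⟩ := exists_constituent_over K θ
    rw [← lam_extend_of_constituent hψ hinv, hext, hD, lam_sub, lam_sum,
      lam_classInd' (isClassFunction_character (irr_isCharacter ψ.2))]
    rw [Finset.sum_eq_single ⟨blockOf M (ψ : G → ℂ), isPBlock_blockOf M ψ⟩]
    · rw [lam_smul, lam_blockCoeff, if_pos (self_mem_blockOf hP ψ), mul_one]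
      exact omega_congr hM (isPBlock_blockOf M ψ)
        (hχ ⟨blockOf M (ψ : G → ℂ), isPBlock_blockOf M ψ⟩) (self_mem_blockOf hP ψ) _
    · intro B _ hB
      rw [lam_smul, lam_blockCoeff, if_neg, mul_zero]
      exact fun h => hB (Subtype.ext (block_eq_blockOf hP B.2 h))
    · exact fun h => absurd (Finset.mem_univ _) h
  have hmem : C'.1.out ∈ K := (hK _).mpr C'.2
  rw [show D C'.1.out = f ⟨_, hmem⟩ from rfl, classFun_eq_sum_idem (classFun_of_ginv hinv),
    Finset.sum_apply]
  refine memLI_sum hP _ _ fun θ _ => ?_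
  rw [Pi.smul_apply, smul_eq_mul]
  refine memLI_mul_right hP (hlam θ) ?_
  rw [idem]
  exact memLR_mul hP (memLR_inv_natCast hM hKp)
    (memLR_mul hP (memLR_char hP (irr_isCharacter θ.2) _) (conj_char_memLR hP (irr_isCharacter θ.2) _))

/-- With a normal Sylow subgroup every block has full defect. -/
theorem isDefectGroup_of_normal_sylow (hM : IsPModular p M) (P : Sylow p G)
    [(P : Subgroup G).Normal] {B : Set (IrrCharacter G)} (hB : IsPBlock M B) :
    IsDefectGroup p M B (P : Subgroup G) := by
  haveI := Fact.mk hM.1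
  obtain ⟨D, hD⟩ := exists_isDefectGroup hM hB
  have hle := pCore_le_defectGroup hM hB hD (P : Subgroup G) P.isPGroup'
  obtain ⟨g, hg, hDg⟩ := (isDefectGroup_iff B D).mp hD
  exact P.is_maximal' hDg.isPGroup hle ▸ hD

theorem card_blocks_normal_sylow (hM : IsPModular p M) (P : Sylow p G)
    [(P : Subgroup G).Normal] :
    Nat.card {B : Set (IrrCharacter G) // IsPBlock M B} =
      Nat.card {C : ConjClasses G //
        ¬ p ∣ orderOf C.out ∧ C.out ∈ Subgroup.centralizer ((P : Subgroup G) : Set G)} := by
  haveI := Fact.mk hM.1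
  refine le_antisymm ?_ (classes_le_blocks hM P)
  have hd : ∀ B : Set (IrrCharacter G), IsPBlock M B →
      blockDefect p B = (Nat.card G).factorization p := fun B hB => by
    have h := card_defectGroup hM hB (isDefectGroup_of_normal_sylow hM P hB)
    rw [P.card_eq_multiplicity] at h
    exact (Nat.pow_right_injective hM.1.two_le h).symm
  refine le_trans (le_of_eq (Nat.card_congr (Equiv.subtypeEquivRight fun B =>
    ⟨fun h => ⟨h, hd B h⟩, And.left⟩))) ((card_blocks_le (G := G) hM _).trans
      (Nat.card_le_card_of_injective (fun C => ⟨C.1, C.2.1, ?_⟩) fun C C' h =>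
        Subtype.ext (congrArg (fun x => x.1) h :)))
  obtain ⟨Q, hQ⟩ := exists_isSylCent p C.1.out
  have hcard : Nat.card Q = p ^ (Nat.card G).factorization p := by rw [hQ.card hM.1, C.2.2]
  haveI := Sylow.unique_of_normal P inferInstance
  have e : Q = (P : Subgroup G) :=
    (Sylow.coe_ofCard Q hcard).symm.trans (congrArg Sylow.toSubgroup (Subsingleton.elim _ P))
  exact e ▸ hQ.self_mem_centralizer

end Cfsg.Agent.Char
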