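import Cfsg.Agent.Lib.Char.Green
import Cfsg.Agent.Lib.Char.BlockDim

/-!
# Counting pairs of class elements differing by an element of a Sylow subgroup
-/

set_option autoImplicit false

namespace Cfsg.Agent.Char

open Cfsg Module
open scoped ComplexConjugate

universe u

section RankMap

open Matrix

/-- The rank of a matrix does not change under a homomorphism of fields. -/
theorem matrix_rank_map_ringHom {k K : Type*} [Field k] [Field K] (f : k →+* K) {m n : Type*}
    [Fintype m] [Fintype n] (A : Matrix m n k) : (A.map f).rank = A.rank := by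
  classical
  set b := Module.finBasis k (LinearMap.range A.mulVecLin) with hb
  set g := (LinearMap.range A.mulVecLin).subtype ∘ₗ b.equivFun.symm.toLinearMap
  set c := b.equivFun.toLinearMap ∘ₗ A.mulVecLin.rangeRestrict
  have hgc : g ∘ₗ c = A.mulVecLin := LinearMap.ext fun v => by simp [g, c]
  have hg : LinearMap.ker g = ⊥ := LinearMap.ker_eq_bot.mpr fun x y h =>
    b.equivFun.symm.injective (Subtype.ext (by simpa [g] using h))
  have hc : LinearMap.range c = ⊤ := LinearMap.range_eq_top.mpr fun x => by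
    obtain ⟨v, hv⟩ := LinearMap.surjective_rangeRestrict A.mulVecLin (b.equivFun.symm x)
    refine ⟨v, ?_⟩
    simp only [c, LinearMap.comp_apply, hv]
    exact b.equivFun.apply_symm_apply x
  obtain ⟨s, hs⟩ := LinearMap.exists_leftInverse_of_injective g hg
  obtain ⟨q, hq⟩ := LinearMap.exists_rightInverse_of_surjective c hc
  have hA : LinearMap.toMatrix' g * LinearMap.toMatrix' c = A := by
    rw [← LinearMap.toMatrix'_comp, hgc, ← Matrix.toLin'_apply', LinearMap.toMatrix'_toLin']
  have hone : LinearMap.toMatrix' s * A * LinearMap.toMatrix' q = 1 := by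
    have h1 : LinearMap.toMatrix' s * (LinearMap.toMatrix' g * LinearMap.toMatrix' c) *
        LinearMap.toMatrix' q = 1 := by
      rw [← Matrix.mul_assoc, ← LinearMap.toMatrix'_comp, hs, LinearMap.toMatrix'_id,
        Matrix.one_mul, ← LinearMap.toMatrix'_comp, hq, LinearMap.toMatrix'_id]
    rwa [hA] at h1
  have hr : A.rank = finrank k (LinearMap.range A.mulVecLin) := rfl
  refine le_antisymm ?_ ?_
  · rw [← hA, Matrix.map_mul, hA]
    refine (Matrix.rank_mul_le_left _ _).trans ((Matrix.rank_le_card_width _).trans ?_)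
    rw [Fintype.card_fin, hr]
  · have h := congrArg (fun X => X.map f) hone
    simp only [Matrix.map_mul, Matrix.map_one _ (map_zero f) (map_one f)] at h
    have h1 := (Matrix.rank_mul_le_left ((LinearMap.toMatrix' s).map f * A.map f) ((LinearMap.toMatrix' q).map f)).trans
      (Matrix.rank_mul_le_right _ _)
    rwa [h, Matrix.rank_one, Fintype.card_fin, ← hr] at h1

end RankMap

variable {G : Type u} [Group G] [Fintype G] {M : Ideal AlgInt} {p : ℕ}
  {B : Set (IrrCharacter G)}

/-- The multiplicity of the trivial character in the restriction. -/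
noncomputable def subMult (P : Subgroup G) (χ : G → ℂ) : ℂ :=
  (Nat.card P : ℂ)⁻¹ * ∑ᶠ u : P, χ u

theorem subMult_natCast (P : Subgroup G) {χ : G → ℂ} (hχ : IsCharacter G χ) :
    ∃ n : ℕ, subMult P χ = n := by
  classical
  have := Fintype.ofFinite P
  obtain ⟨n, hn⟩ := classInner_natCast (isCharacter_comp P.subtype hχ)
    (isCharacter_one (G := P))
  refine ⟨n, ?_⟩
  rw [← hn, subMult, classInner, finsum_eq_sum_of_fintype]
  simp [Nat.card_eq_fintype_card]

open scoped Classical in
/-- The number of pairs in two classes differing by an element of `P`. -/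
noncomputable def pairCount (P : Subgroup G) (x y : G) : ℕ :=
  Nat.card {gh : G × G // IsConj x gh.1 ∧ IsConj y gh.2 ∧ gh.2 * gh.1⁻¹ ∈ P}

/-- The character sum behind `pairCount`. -/
noncomputable def pairSum (P : Subgroup G) (x y : G) : ℂ :=
  ∑ χ : IrrCharacter G, omega (χ : G → ℂ) y * (χ : G → ℂ) x⁻¹ * subMult P (χ : G → ℂ)

theorem card_conjClass_inv_elem (x : G) :
    Nat.card {g : G // IsConj x⁻¹ g} = Nat.card {g : G // IsConj x g} := by
  refine Nat.card_congr ((Equiv.inv G).subtypeEquiv fun g => ?_)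
  rw [Equiv.inv_apply]
  constructor
  · intro h
    obtain ⟨c, rfl⟩ := isConj_iff.mp h
    exact isConj_iff.mpr ⟨c, by group⟩
  · intro h
    obtain ⟨c, hc⟩ := isConj_iff.mp h
    exact isConj_iff.mpr ⟨c, by rw [← inv_inv g, ← hc]; group⟩

theorem pairCount_eq (P : Subgroup G) (x y : G) :
    (pairCount P x y : ℂ) * (Nat.card G : ℂ) =
      (Nat.card {g : G // IsConj x g} : ℂ) * (Nat.card P : ℂ) * pairSum P x y := by
  classical
  have := Fintype.ofFinite P
  have hG : (Nat.card G : ℂ) ≠ 0 := Nat.cast_ne_zero.mpr Nat.card_pos.ne'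
  have hN : (pairCount P x y : ℂ) = ∑ g : G, (if IsConj x g then (1 : ℂ) else 0) *
      ∑ u : P, (if IsConj y ((u : G) * g) then (1 : ℂ) else 0) := by
    simp only [Finset.mul_sum, ite_mul, one_mul, zero_mul, ← ite_and]
    rw [← Fintype.sum_prod_type' (f := fun (g : G) (u : P) =>
      if IsConj x g ∧ IsConj y ((u : G) * g) then (1 : ℂ) else 0), ← Finset.sum_filter,
      Finset.sum_const, nsmul_eq_mul, mul_one, ← Fintype.card_subtype, ← Nat.card_eq_fintype_card]
    refine congrArg Nat.cast (Nat.card_congr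
      { toFun := fun t => ⟨(t.1.1, ⟨t.1.2 * t.1.1⁻¹, t.2.2.2⟩), t.2.1, by simpa using t.2.2.1⟩
        invFun := fun t => ⟨(t.1.1, (t.1.2 : G) * t.1.1), t.2.1, t.2.2, by simp⟩
        left_inv := fun t => by simp
        right_inv := fun t => by simp })
  have hy : ∀ z : G, (if IsConj y z then (1 : ℂ) else 0) = ∑ χ : IrrCharacter G,
      omega (χ : G → ℂ) y * ((Nat.card G : ℂ)⁻¹ * ((χ : G → ℂ) 1 * conj ((χ : G → ℂ) z))) := by
    intro z
    have hc := (intClassFun_classInd (G := G) (M := ⊥) Ideal.isPrime_bot y).1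
    have h := congrFun (classFun_eq_sum_idem hc) z
    simp only [classInd, Finset.sum_apply, Pi.smul_apply, smul_eq_mul] at h
    rw [h]
    refine Finset.sum_congr rfl fun χ _ => ?_
    rw [idem, ← lam_classInd' (isClassFunction_character (irr_isCharacter χ.2))]
  have hx : ∀ χ : IrrCharacter G, ∀ u : G,
      ∑ g : G, (if IsConj x g then (1 : ℂ) else 0) * (χ : G → ℂ) (u * g) =
        omega (χ : G → ℂ) x * (χ : G → ℂ) u := by
    intro χ u
    have hc := (intClassFun_classInd (G := G) (M := ⊥) Ideal.isPrime_bot x).1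
    have h := sum_mul_shift χ.2 hc u
    rw [lam_classInd' (isClassFunction_character (irr_isCharacter χ.2))] at h
    rw [← h]
    refine Finset.sum_congr rfl fun g _ => ?_
    simp only [classInd]
    congr 1
    have h2 := isClassFunction_character (irr_isCharacter χ.2) (g * u) g⁻¹
    rw [← isClassFunction_character (irr_isCharacter χ.2) (g * u) u]
    group
  rw [hN]
  simp only [hy, Finset.mul_sum, Finset.sum_mul, pairSum]
  rw [Finset.sum_comm]
  conv_lhs => arg 2; ext u; rw [Finset.sum_comm]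
  rw [Finset.sum_comm]
  refine Finset.sum_congr rfl fun χ _ => ?_
  calc _ = omega (χ : G → ℂ) y * (χ : G → ℂ) 1 *
        ∑ u : P, conj (∑ g : G, (if IsConj x g then (1 : ℂ) else 0) * (χ : G → ℂ) ((u : G) * g)) := by
        simp only [map_sum, Finset.mul_sum, map_mul]
        refine Finset.sum_congr rfl fun u _ => Finset.sum_congr rfl fun g _ => ?_
        split_ifs <;> simp <;> field_simp
    _ = _ := by
      simp only [hx, map_mul, ← Finset.mul_sum, ← map_sum]
      have hsum : ∑ u : P, (χ : G → ℂ) u = (Nat.card P : ℂ) * subMult P (χ : G → ℂ) := by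
        rw [subMult, finsum_eq_sum_of_fintype,
          mul_inv_cancel_left₀ (Nat.cast_ne_zero.mpr Nat.card_pos.ne')]
      obtain ⟨n, hn⟩ := subMult_natCast P (irr_isCharacter χ.2)
      rw [hsum, hn]
      simp only [omega, map_mul, map_natCast, map_div₀, conj_char_one (irr_isCharacter χ.2),
        char_inv (irr_isCharacter χ.2) x]
      have := irr_one_ne_zero χ.2
      field_simp

theorem blockCount_data (hp : p.Prime) (P : Sylow p G) {x : G} {d : ℕ}
    (hx : (Nat.card (Subgroup.centralizer ({x} : Set G))).factorization p = d) :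
    ∃ k c g' : ℕ, ¬ p ∣ k ∧ ¬ p ∣ c ∧ ¬ p ∣ g' ∧
      Nat.card G = p ^ (Nat.card G).factorization p * g' ∧
      Nat.card {g : G // IsConj x g} = p ^ ((Nat.card G).factorization p - d) * k ∧
      Nat.card (Subgroup.centralizer ({x} : Set G)) = p ^ d * c ∧ k * c = g' ∧
      d ≤ (Nat.card G).factorization p := by
  have := Fact.mk hp
  set a := (Nat.card G).factorization p
  set C := Nat.card (Subgroup.centralizer ({x} : Set G)) with hC
  set K := Nat.card {g : G // IsConj x g} with hK
  have hfac := card_conjClass_factorization (p := p) x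
  rw [← hK, hx] at hfac
  have hKe : K.factorization p = a - d := by omega
  refine ⟨K / p ^ K.factorization p, C / p ^ C.factorization p, Nat.card G / p ^ a,
    Nat.not_dvd_ordCompl hp (card_conjClass_ne_zero x),
    Nat.not_dvd_ordCompl hp Nat.card_pos.ne', Nat.not_dvd_ordCompl hp Nat.card_pos.ne',
    (Nat.ordProj_mul_ordCompl_eq_self _ _).symm, ?_, ?_, ?_, by omega⟩
  · rw [← hKe]; exact (Nat.ordProj_mul_ordCompl_eq_self _ _).symm
  · rw [← hx]; exact (Nat.ordProj_mul_ordCompl_eq_self _ _).symm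
  · rw [← Nat.ordCompl_mul K C p, hK, hC, card_conjClass_mul_centralizer]

/-- `pairCount` is a power of `p` times a local integer given by `pairSum`. -/
theorem pairCount_pow (hp : p.Prime) (P : Sylow p G) {x : G} {d : ℕ}
    (hx : (Nat.card (Subgroup.centralizer ({x} : Set G))).factorization p = d) (y : G) :
    ∃ c : ℕ, ¬ p ∣ c ∧ Nat.card (Subgroup.centralizer ({x} : Set G)) = p ^ d * c ∧
      (pairCount (P : Subgroup G) x y : ℂ) * c =
      (p : ℂ) ^ ((Nat.card G).factorization p - d) * pairSum (P : Subgroup G) x y := by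
  have := Fact.mk hp
  obtain ⟨k, c, g', hk, hc, hg', hG, hK, hC, hkc, hd⟩ := blockCount_data hp P hx
  refine ⟨c, hc, hC, ?_⟩
  have h := pairCount_eq (P : Subgroup G) x y
  rw [hG, hK, P.card_eq_multiplicity, ← hkc] at h
  have hp0 : ((p : ℂ) ^ (Nat.card G).factorization p * k) ≠ 0 := mul_ne_zero
    (pow_ne_zero _ (Nat.cast_ne_zero.mpr hp.ne_zero))
    (Nat.cast_ne_zero.mpr fun h => hk (h ▸ dvd_zero p))
  refine mul_left_cancel₀ hp0 ?_
  push_cast at h ⊢
  linear_combination h

open scoped Classical in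
theorem sum_mult_mul_deg (hM : IsPModular p M) (hB : IsPBlock M B) {P : Subgroup G}
    (hP : IsPGroup p P) :
    ∑ χ : IrrCharacter G with χ ∈ B, subMult P (χ : G → ℂ) * (χ : G → ℂ) 1 =
      (Nat.card P : ℂ)⁻¹ *
        ∑ χ : IrrCharacter G with χ ∈ B, (χ : G → ℂ) 1 * (χ : G → ℂ) 1 := by
  classical
  have := Fintype.ofFinite P
  simp only [subMult, finsum_eq_sum_of_fintype, mul_assoc, ← Finset.mul_sum, Finset.sum_mul]
  rw [Finset.sum_comm]
  congr 1
  rw [Fintype.sum_eq_single (1 : P)]
  · rfl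
  · intro u hu
    have hsing : p ∣ orderOf (u : G) := by
      have := Fact.mk hM.1
      obtain ⟨k, hk⟩ := IsPGroup.iff_orderOf.mp hP u
      rw [Subgroup.orderOf_coe, hk]
      refine dvd_pow_self p fun h0 => hu ?_
      rw [← orderOf_eq_one_iff, hk, h0, pow_zero]
    have h := weak_orthogonality_inv hM hB (x := (1 : G)) (by simp [hM.1.ne_one]) hsing
    rw [finsum_mem_irr, Finset.sum_filter] at h
    rw [← h, Finset.sum_filter]
    refine Finset.sum_congr rfl fun χ _ => ?_
    split_ifs
    · rw [char_inv (irr_isCharacter χ.2), Complex.conj_conj, mul_comm]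
    · rfl

open scoped Classical in
/-- The part of `pairSum` belonging to a block, reduced modulo `M`. -/
theorem block_part_congr (hM : IsPModular p M) (hB : IsPBlock M B) (P : Sylow p G) {x : G} {d : ℕ}
    (hx : (Nat.card (Subgroup.centralizer ({x} : Set G))).factorization p = d)
    (hBd : blockDefect p B ≤ d) {χ₀ : IrrCharacter G} (h₀ : χ₀ ∈ B) (y : G) :
    ∃ u : ℂ, MemLocalRing M u ∧ (MemLocalIdeal M u ↔ blockDefect p B ≠ d) ∧
      u * (Nat.card {g : G // IsConj x g} : ℂ) =
        ∑ χ : IrrCharacter G with χ ∈ B, subMult (P : Subgroup G) (χ : G → ℂ) * (χ : G → ℂ) 1 ∧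
      MemLocalIdeal M ((∑ χ : IrrCharacter G with χ ∈ B,
        omega (χ : G → ℂ) y * (χ : G → ℂ) x⁻¹ * subMult (P : Subgroup G) (χ : G → ℂ)) -
        u * omega (χ₀ : G → ℂ) y * omega (χ₀ : G → ℂ) x⁻¹) := by
  have hMp := pmod_prime hM
  have hp := hM.1
  have := Fact.mk hp
  obtain ⟨k, c, g', hk, hc, hg', hG, hK, -, hkc, hd⟩ := blockCount_data hp P hx
  set a := (Nat.card G).factorization p
  have hsum := dmin_add_defect (p := p) (block_nonempty hMp hB)
  have hk0 : (k : ℂ) ≠ 0 := Nat.cast_ne_zero.mpr fun h => hk (h ▸ dvd_zero p)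
  have hp0 : ∀ n : ℕ, (p : ℂ) ^ n ≠ 0 := fun n => pow_ne_zero _ (Nat.cast_ne_zero.mpr hp.ne_zero)
  -- each degree is divisible by `p ^ (a - d)`
  have hw : ∀ χ : IrrCharacter G, χ ∈ B → ∃ w : ℂ, MemLocalRing M w ∧
      subMult (P : Subgroup G) (χ : G → ℂ) * (χ : G → ℂ) 1 = (p : ℂ) ^ (a - d) * k * w := by
    intro χ hχ
    obtain ⟨e, he⟩ : p ^ (a - d) ∣ deg (χ : G → ℂ) :=
      (Nat.pow_dvd_pow p (show a - d ≤ dexp p (χ : G → ℂ) by
        have := dmin_le (p := p) hχ; omega)).trans (Nat.ordProj_dvd _ _)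
    obtain ⟨n, hn⟩ := subMult_natCast (P : Subgroup G) (irr_isCharacter χ.2)
    refine ⟨(n : ℂ) * e * (k : ℂ)⁻¹, memLR_mul hMp (memLR_mul hMp (memLR_natCast hMp n)
      (memLR_natCast hMp e)) (memLR_inv_natCast hM hk), ?_⟩
    rw [hn, char_one_eq_deg (irr_isCharacter χ.2), he]
    push_cast
    field_simp
  choose! w hw hwe using hw
  refine ⟨∑ χ : IrrCharacter G with χ ∈ B, w χ,
    memLR_sum hMp _ _ fun χ hχ => hw χ (Finset.mem_filter.mp hχ).2, ?_, ?_, ?_⟩
  · obtain ⟨t, ht, htu, hte⟩ := exists_unit_sum_sq hM hB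
    have h := sum_mult_mul_deg hM hB P.isPGroup'
    rw [Finset.sum_congr rfl fun χ hχ => hwe χ (Finset.mem_filter.mp hχ).2, ← Finset.mul_sum,
      hte, P.card_eq_multiplicity] at h
    simp only [show (Nat.card G).factorization p = a from rfl] at h
    rw [hG] at h
    obtain ⟨j, hj⟩ : ∃ j, dmin p B = (a - d) + j := ⟨dmin p B - (a - d), by omega⟩
    have e : ∑ χ : IrrCharacter G with χ ∈ B, w χ =
        (p : ℂ) ^ j * ((g' : ℂ) * (k : ℂ)⁻¹ * t) := by
      refine mul_left_cancel₀ (mul_ne_zero (hp0 (a - d)) hk0) ?_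
      rw [h, hj]
      push_cast
      rw [pow_add]
      have := hp0 a
      field_simp
    rw [e]
    constructor
    · intro hI hd'
      have hj0 : j = 0 := by omega
      rw [hj0, pow_zero, one_mul] at hI
      rcases memLI_mul_mem hMp (memLR_mul hMp (memLR_natCast hMp g') (memLR_inv_natCast hM hk))
        ht hI with h1 | h1
      · rcases memLI_mul_mem hMp (memLR_natCast hMp g') (memLR_inv_natCast hM hk) h1 with h2 | h2
        · exact hg' ((memLI_natCast_iff hM g').mp h2)
        · exact memLI_one_iff hMp (by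
            simpa [inv_mul_cancel₀ hk0] using memLI_mul_right hMp h2 (memLR_natCast hMp k))
      · exact htu h1
    · intro hne
      obtain ⟨i, rfl⟩ : ∃ i, j = i + 1 := ⟨j - 1, by omega⟩
      rw [pow_succ', mul_assoc]
      exact memLI_mul_right hMp (memLI_p hM) (memLR_mul hMp (memLR_pow hMp (memLR_natCast hMp p) i)
        (memLR_mul hMp (memLR_mul hMp (memLR_natCast hMp g') (memLR_inv_natCast hM hk)) ht))
  · rw [Finset.sum_congr rfl fun χ hχ => hwe χ (Finset.mem_filter.mp hχ).2, ← Finset.mul_sum, hK]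
    push_cast
    ring
  · simp only [Finset.sum_mul, ← Finset.sum_sub_distrib]
    refine memLI_sum hMp _ _ fun χ hχ => ?_
    have hχB := (Finset.mem_filter.mp hχ).2
    have e : (χ : G → ℂ) x⁻¹ * subMult (P : Subgroup G) (χ : G → ℂ) =
        omega (χ : G → ℂ) x⁻¹ * w χ := by
      have h1 := hwe χ hχB
      have h0 := irr_one_ne_zero χ.2
      rw [omega, card_conjClass_inv_elem, hK]
      push_cast
      rw [div_mul_eq_mul_div, eq_div_iff h0]
      linear_combination (χ : G → ℂ) x⁻¹ * h1
    rw [mul_assoc, e, show omega (χ : G → ℂ) y * (omega (χ : G → ℂ) x⁻¹ * w χ) -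
        w χ * omega (χ₀ : G → ℂ) y * omega (χ₀ : G → ℂ) x⁻¹ =
      w χ * (omega (χ : G → ℂ) y * omega (χ : G → ℂ) x⁻¹ -
        omega (χ₀ : G → ℂ) y * omega (χ₀ : G → ℂ) x⁻¹) by ring]
    exact memLI_mul_left hMp (hw χ hχB) (memLI_congr_mul hMp (memLR_omega hMp χ.2 _)
      (memLR_omega hMp χ₀.2 _) (omega_congr hM hB hχB h₀ y) (omega_congr hM hB hχB h₀ x⁻¹))

end Cfsg.Agent.Char
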