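import Cfsg.Agent.Lib.Char.SylowMatrixBlocks

/-!
# Blocks with a given defect group from the pair-count matrix
-/

set_option autoImplicit false

namespace Cfsg.Agent.Char

open Cfsg Module
open scoped ComplexConjugate

-- the type synonym `CStarMatrix` otherwise captures products of rectangular matrices
attribute [-instance] CStarMatrix.instHMulOfFintypeOfMulOfAddCommMonoid

universe u v

variable {G : Type u} [Group G] [Fintype G] {M : Ideal AlgInt} {p : ℕ}

/-- Blocks attached to a family of classes separated by `p`-elements. -/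
theorem exists_blocks_of_separated (hM : IsPModular p M) (D : Subgroup G) {r : ℕ} (x : Fin r → G)
    (hx : ∀ i j : Fin r, IsConj (x i) (x j) → i = j) (hD : ∀ i, IsSylCent p (x i) D)
    (hsep : ∀ i j : Fin r, ∀ g h : G, IsConj (x i) g → IsConj (x j) h → ∀ k : ℕ, 0 < k →
      orderOf (g * h⁻¹) ≠ p ^ k) :
    ∃ B : Fin r → Set (IrrCharacter G), Function.Injective B ∧
      (∀ i, IsPBlock M (B i) ∧ IsDefectGroup p M (B i) D) ∧
      ∀ χ : Fin r → IrrCharacter G,
        (∀ i, χ i ∈ B i ∧ blockHeight p (B i) (χ i : G → ℂ) = 0) →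
          ¬ MemLocalIdeal M (Matrix.det (Matrix.of fun i j : Fin r => (χ i : G → ℂ) (x j))) := by
  classical
  have hP := pmod_prime hM
  have hp := hM.1
  have := Fact.mk hp
  haveI := charP_res hP hM
  let P : Sylow p G := default
  set a := (Nat.card G).factorization p
  set d := (Nat.card D).factorization p with hd
  have hcent : ∀ i, (Nat.card (Subgroup.centralizer ({x i} : Set G))).factorization p = d := by
    intro i
    rw [hd, (hD i).card hp, Nat.factorization_pow, Finsupp.smul_apply, hp.factorization_self,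
      smul_eq_mul, mul_one]
  have hdata : ∀ i, ∃ k : ℕ, ¬ p ∣ k ∧ Nat.card {g : G // IsConj (x i) g} = p ^ (a - d) * k := by
    intro i
    obtain ⟨k, c, g', hk, -, -, -, hK, -, -, -⟩ := blockCount_data hp P (hcent i)
    exact ⟨k, hk, hK⟩
  choose k hk hK using hdata
  have hpairs : ∀ i j, pairCount (P : Subgroup G) (x i) (x j) =
      if i = j then Nat.card {g : G // IsConj (x i) g} else 0 := by
    intro i j
    have key : ∀ g h : G, IsConj (x i) g → IsConj (x j) h → h * g⁻¹ ∈ (P : Subgroup G) → g = h := by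
      intro g h hg hh hmem
      obtain ⟨n, hn⟩ := IsPGroup.iff_orderOf.mp P.isPGroup' ⟨_, hmem⟩
      rw [Subgroup.orderOf_mk] at hn
      have hn0 : n = 0 := by
        by_contra h0
        refine hsep i j g h hg hh n (Nat.pos_of_ne_zero h0) ?_
        rw [← orderOf_inv, mul_inv_rev, inv_inv, hn]
      rw [hn0, pow_zero, orderOf_eq_one_iff] at hn
      exact (mul_inv_eq_one.mp hn).symm
    split_ifs with hij
    · subst hij
      exact Nat.card_congr
        { toFun := fun t => ⟨t.1.1, t.2.1⟩
          invFun := fun g => ⟨(g.1, g.1), g.2, g.2, by simp⟩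
          left_inv := fun t => Subtype.ext
            (Prod.ext rfl (key _ _ t.2.1 t.2.2.1 t.2.2.2))
          right_inv := fun g => rfl }
    · haveI : IsEmpty {gh : G × G // IsConj (x i) gh.1 ∧ IsConj (x j) gh.2 ∧
          gh.2 * gh.1⁻¹ ∈ (P : Subgroup G)} :=
        ⟨fun t => hij (hx i j (t.2.1.trans ((key _ _ t.2.1 t.2.2.1 t.2.2.2) ▸ t.2.2.1.symm)))⟩
      exact Nat.card_of_isEmpty
  let L : Matrix (DefBlocks p M D) (Fin r) (Res hP) :=
    Matrix.of fun B j => blockLambda hP B (x j)
  let W : Matrix (Fin r) (DefBlocks p M D) (Res hP) :=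
    Matrix.of fun i B => blockUnit hP (P : Subgroup G) B * blockLambda hP B (x i)⁻¹
  have hprod : W * L = Matrix.diagonal fun i => (k i : Res hP) := by
    ext i j
    obtain ⟨-, -, h⟩ := pairCount_congr hM hP P (hD i) (hD j)
    rw [Matrix.mul_apply, Finset.sum_congr rfl fun B _ => show W i B * L B j =
      blockUnit hP (P : Subgroup G) B * blockLambda hP B (x j) * blockLambda hP B (x i)⁻¹ from
        mul_right_comm _ _ _, ← h, hpairs, Matrix.diagonal_apply]
    split_ifs with hij
    · rw [hK, ← hd, Nat.mul_div_cancel_left _ (pow_pos hp.pos _)]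
    · rw [Nat.zero_div, Nat.cast_zero]
  have hk0 : ∀ i, (k i : Res hP) ≠ 0 := fun i h =>
    hk i ((CharP.cast_eq_zero_iff (Res hP) p (k i)).mp h)
  have hrank : L.rank = r := by
    refine le_antisymm ((L.rank_le_card_width).trans (Fintype.card_fin r).le) ?_
    have h := Matrix.rank_mul_le_right W L
    have hdet0 : (Matrix.diagonal fun i => (k i : Res hP)).det ≠ 0 := by
      rw [Matrix.det_diagonal]; exact Finset.prod_ne_zero_iff.mpr fun i _ => hk0 i
    rw [hprod, Matrix.rank_of_det_ne_zero hdet0, Fintype.card_fin] at h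
    exact h
  obtain ⟨b, hbsub, hbspan, hbli⟩ := exists_linearIndependent (Res hP) (Set.range L)
  have hbfin : b.Finite := (Set.finite_range L).subset hbsub
  haveI := hbfin.fintype
  have hbcard : Fintype.card b = r := by
    refine Eq.trans ?_ hrank
    rw [Matrix.rank_eq_finrank_span_row, show L.row = (L : DefBlocks p M D → _) from rfl,
      ← hbspan, finrank_span_set_eq_card hbli, Set.toFinset_card]
  set e := Fintype.equivFinOfCardEq hbcard
  choose Bl hBl using fun i : Fin r => hbsub (e.symm i).2
  refine ⟨fun i => (Bl i).1, fun i j hij => ?_, fun i => (Bl i).2, fun χ hχ hdet => ?_⟩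
  · have h : Bl i = Bl j := Subtype.ext hij
    exact e.symm.injective (Subtype.ext (by rw [← hBl i, ← hBl j, h]))
  -- reduce the values of the height zero characters
  have hdeg : ∀ i, ∃ q : ℕ, ¬ p ∣ q ∧ deg (χ i : G → ℂ) = p ^ (a - d) * q := by
    intro i
    obtain ⟨q, hq, hdq⟩ := deg_eq_pow_mul hp (χ i).2
    refine ⟨q, hq, ?_⟩
    have h1 := (blockDefect_of_defBlocks hM (Bl i) (hD i)).trans (hcent i)
    have h2 := dmin_add_defect (p := p) (block_nonempty hP (Bl i).2.1)
    have hmem : χ i ∈ (Bl i).1 := (hχ i).1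
    have hh : blockHeight p (Bl i).1 (χ i : G → ℂ) = 0 := (hχ i).2
    rw [hdq, (blockHeight_eq_zero_iff hmem).mp hh]
    congr 2
    omega
  choose q hq hdq using hdeg
  let A : Matrix (Fin r) (Fin r) (locRing hP) := Matrix.of fun i j =>
    (⟨(χ i : G → ℂ) (x j), memLR_char hP (irr_isCharacter (χ i).2) _⟩ : locRing hP)
  have hAdet : ((A.det : locRing hP) : ℂ) =
      Matrix.det (Matrix.of fun i j : Fin r => (χ i : G → ℂ) (x j)) := by
    rw [show ((A.det : locRing hP) : ℂ) = (locRing hP).subtype A.det from rfl, RingHom.map_det]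
    rfl
  have h0 : redHom hP A.det = 0 := by
    rw [redHom_apply, red_eq_zero_iff hP A.det.2, hAdet]
    exact hdet
  rw [RingHom.map_det] at h0
  have hval : (redHom hP).mapMatrix A =
      Matrix.diagonal (fun i => (q i : Res hP)) * L.submatrix Bl id *
        Matrix.diagonal (fun j => ((k j : Res hP))⁻¹) := by
    ext i j
    rw [Matrix.mul_diagonal, Matrix.diagonal_mul, Matrix.submatrix_apply, id_eq]
    show redHom hP (A i j) = _
    rw [redHom_apply, show ((A i j : locRing hP) : ℂ) = (χ i : G → ℂ) (x j) from rfl]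
    rw [eq_mul_inv_iff_mul_eq₀ (hk0 j), ← red_natCast hP, ← red_natCast hP,
      ← red_mul hP (memLR_char hP (irr_isCharacter (χ i).2) _) (memLR_natCast hP _)]
    show _ = red hP _ * blockLambda hP (Bl i) (x j)
    rw [blockLambda, ← red_mul hP (memLR_natCast hP _) (memLR_omega hP (blockRep hP (Bl i)).2 _),
      (red_eq_iff hP (memLR_mul hP (memLR_char hP (irr_isCharacter (χ i).2) _) (memLR_natCast hP _))
        (memLR_mul hP (memLR_natCast hP _) (memLR_omega hP (blockRep hP (Bl i)).2 _)))]
    have e1 : (χ i : G → ℂ) (x j) * (k j : ℂ) = (q i : ℂ) * omega (χ i : G → ℂ) (x j) := by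
      rw [omega, hK, char_one_eq_deg (irr_isCharacter (χ i).2), hdq]
      have := pow_ne_zero (a - d) (Nat.cast_ne_zero.mpr hp.ne_zero : (p : ℂ) ≠ 0)
      have hq0 : (q i : ℂ) ≠ 0 := Nat.cast_ne_zero.mpr fun h => hq i (h ▸ dvd_zero p)
      push_cast
      field_simp
    rw [e1, ← mul_sub]
    exact memLI_mul_left hP (memLR_natCast hP _)
      (omega_congr hM (Bl i).2.1 (hχ i).1 (blockRep_mem hP (Bl i)) (x j))
  have hunit : IsUnit (L.submatrix Bl id) := by
    rw [← Matrix.linearIndependent_rows_iff_isUnit]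
    have : (fun i => L (Bl i)) = fun i => ((e.symm i : b) : Fin r → Res hP) := funext hBl
    show LinearIndependent (Res hP) fun i => L (Bl i)
    rw [this]
    exact hbli.comp _ e.symm.injective
  rw [Matrix.isUnit_iff_isUnit_det, isUnit_iff_ne_zero] at hunit
  rw [hval, Matrix.det_mul, Matrix.det_mul, Matrix.det_diagonal, Matrix.det_diagonal] at h0
  simp only [mul_eq_zero, Finset.prod_eq_zero_iff, inv_eq_zero] at h0
  rcases h0 with (⟨i, -, h⟩ | h) | ⟨i, -, h⟩
  · exact hq i ((CharP.cast_eq_zero_iff (Res hP) p (q i)).mp h)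
  · exact hunit h
  · exact hk0 i h

/-- Blocks with a normal defect group are counted by the rank of the pair-count matrix. -/
theorem card_blocks_eq_rank (hM : IsPModular p M) [Fact p.Prime] (D : Subgroup G) [D.Normal]
    (hD : IsPGroup p D) (S : Sylow p G) {ι : Type v} [Fintype ι] [DecidableEq ι] (x : ι → G)
    (hinj : ∀ i j, IsConj (x i) (x j) → i = j)
    (hx : ∀ y : G, (∃ i, IsConj (x i) y) ↔ (¬ p ∣ orderOf y ∧ IsSylCent p y D)) :
    Nat.card {B : Set (IrrCharacter G) // IsPBlock M B ∧ IsDefectGroup p M B D} =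
      (Matrix.of fun i j : ι => ((pairCount (S : Subgroup G) (x i) (x j) /
        p ^ ((Nat.card G).factorization p - (Nat.card D).factorization p) : ℕ) : ZMod p)).rank := by
  classical
  have hP := pmod_prime hM
  have hp := hM.1
  haveI := charP_res hP hM
  have hxD : ∀ i, IsSylCent p (x i) D := fun i => ((hx _).mp ⟨i, IsConj.refl _⟩).2
  let L : Matrix (DefBlocks p M D) ι (Res hP) := Matrix.of fun B j => blockLambda hP B (x j)
  let W : Matrix ι (DefBlocks p M D) (Res hP) :=
    Matrix.of fun i B => blockUnit hP (S : Subgroup G) B * blockLambda hP B (x i)⁻¹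
  have hmap : (Matrix.of fun i j : ι => ((pairCount (S : Subgroup G) (x i) (x j) /
      p ^ ((Nat.card G).factorization p - (Nat.card D).factorization p) : ℕ) : ZMod p)).map
        (ZMod.castHom (dvd_refl p) (Res hP)) = W * L := by
    ext i j
    rw [Matrix.map_apply, Matrix.of_apply, map_natCast,
      (pairCount_congr hM hP S (hxD i) (hxD j)).2.2, Matrix.mul_apply]
    exact Finset.sum_congr rfl fun B _ => mul_right_comm _ _ _
  -- the idempotents give a right inverse of `L`
  let A : Matrix ι (DefBlocks p M D) (Res hP) := Matrix.of fun i B => red hP (blockCoeff B.1 (x i))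
  have hLA : L * A = 1 := by
    ext B B'
    have := Fintype.ofFinite (ConjClasses G)
    set χ := blockRep hP B
    have hbI := isIntClassFun_blockCoeff hM B'.2.1
    have h := lam_eq_sum_omega (isClassFunction_character (irr_isCharacter χ.2)) hbI.1
    rw [lam_blockCoeff] at h
    have h2 := congrArg (red hP) h
    rw [red_sum hP Finset.univ
      (fun C : ConjClasses G => blockCoeff B'.1 C.out * omega (χ : G → ℂ) C.out)
      (fun C _ => memLR_mul hP (hbI.2 _) (memLR_omega hP χ.2 _))] at h2
    rw [Matrix.mul_apply, Matrix.one_apply]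
    have hcls : ∀ (y z : G), IsConj y z →
        blockCoeff B'.1 y * omega (χ : G → ℂ) y = blockCoeff B'.1 z * omega (χ : G → ℂ) z := by
      intro y z hyz
      rw [← lam_classInd' (isClassFunction_character (irr_isCharacter χ.2)),
        ← lam_classInd' (isClassFunction_character (irr_isCharacter χ.2))]
      obtain ⟨c, rfl⟩ := isConj_iff.mp hyz
      rw [hbI.1]
      congr 2
      funext w
      exact if_congr ⟨fun h => hyz.symm.trans h, fun h => hyz.trans h⟩ rfl rfl
    have hinjK : Function.Injective fun i => ConjClasses.mk (x i) :=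
      fun i j hij => hinj i j (ConjClasses.mk_eq_mk_iff_isConj.mp hij)
    rw [show (if B = B' then (1 : Res hP) else 0) =
        red hP (if χ ∈ B'.1 then (1 : ℂ) else 0) by
      by_cases hBB : B = B'
      · rw [if_pos hBB, if_pos (hBB ▸ blockRep_mem hP B), red_one]
      · rw [if_neg hBB, if_neg (fun hmem => hBB (Subtype.ext (by
          rw [block_eq_blockOf hP B.2.1 (blockRep_mem hP B), block_eq_blockOf hP B'.2.1 hmem]))),
          red_zero], h2]
    refine Fintype.sum_of_injective (fun i => ConjClasses.mk (x i)) hinjK _ _ (fun C hC => ?_)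
      (fun i => ?_)
    · rw [red_eq_zero_iff hP (memLR_mul hP (hbI.2 _) (memLR_omega hP χ.2 _))]
      by_contra hne
      have ha : ¬ MemLocalIdeal M (blockCoeff B'.1 C.out) := fun h1 =>
        hne (memLI_mul_right hP h1 (memLR_omega hP χ.2 _))
      have ho : ¬ MemLocalIdeal M (omega (χ : G → ℂ) C.out) := fun h1 =>
        hne (memLI_mul_left hP (hbI.2 _) h1)
      obtain ⟨g, hg, hDg⟩ := (isDefectGroup_iff B.1 D).mp B.2.2
      obtain ⟨h', hconj, hc⟩ := exists_conj_mem_centralizer hM B.2.1 hDg.isPGroup
        hDg.self_mem_centralizer hg.2.1 (blockRep_mem hP B) ho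
      obtain ⟨c, rfl⟩ := isConj_iff.mp hconj
      have hcD : C.out ∈ Subgroup.centralizer (D : Set G) := by
        intro w hw
        have h1 := hc (c * w * c⁻¹) (Subgroup.Normal.conj_mem inferInstance w hw c)
        calc w * C.out = c⁻¹ * (c * w * c⁻¹ * (c * C.out * c⁻¹)) * c := by group
          _ = c⁻¹ * (c * C.out * c⁻¹ * (c * w * c⁻¹)) * c := by rw [h1]
          _ = C.out * w := by group
      have hreg : ¬ p ∣ orderOf C.out := fun h1 =>
        ha (blockCoeff_eq_zero_of_singular hM B'.2.1 h1 ▸ memLI_zero hP)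
      obtain ⟨i, hi⟩ := (hx C.out).mpr ⟨hreg, isSylCent_of_detect hM B'.2.1 B'.2.2 hcD ha⟩
      exact hC ⟨i, (ConjClasses.mk_eq_mk_iff_isConj.mpr hi).trans (Quotient.out_eq C)⟩
    · rw [show L B i * A i B' = red hP (omega (χ : G → ℂ) (x i)) * red hP (blockCoeff B'.1 (x i))
        from rfl, ← red_mul hP (memLR_omega hP χ.2 _) (hbI.2 _), mul_comm,
        hcls (x i) (ConjClasses.mk (x i)).out]
      exact ConjClasses.mk_eq_mk_iff_isConj.mp (Quotient.out_eq _).symm
  -- inverse classes
  have hinvc : ∀ i, ∃ j, IsConj (x j) (x i)⁻¹ := by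
    intro i
    refine (hx _).mpr ⟨by rw [orderOf_inv]; exact ((hx _).mp ⟨i, IsConj.refl _⟩).1, ?_⟩
    have hcent : Subgroup.centralizer ({(x i)⁻¹} : Set G) = Subgroup.centralizer ({x i} : Set G) := by
      ext g
      simp only [Subgroup.mem_centralizer_singleton_iff]
      exact ⟨fun h => (Commute.inv_right_iff.mp h), fun h => Commute.inv_right h⟩
    show IsSylCent p (x i)⁻¹ D
    unfold IsSylCent
    rw [hcent]
    exact hxD i
  choose σ hσ using hinvc
  have hσinj : Function.Injective σ := fun i j hij => hinj i j (by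
    have h : IsConj (x i)⁻¹ (x j)⁻¹ := (hσ i).symm.trans (hij ▸ hσ j)
    obtain ⟨c, hc⟩ := isConj_iff.mp h
    exact isConj_iff.mpr ⟨c, by rw [← inv_inj, ← hc]; group⟩)
  let τ : ι ≃ ι := Equiv.ofBijective σ (Finite.injective_iff_bijective.mp hσinj)
  have hW : ∀ i B, W i B = blockLambda hP B (x (σ i)) * blockUnit hP (S : Subgroup G) B := by
    intro i B
    show _ * blockLambda hP B (x i)⁻¹ = _
    rw [mul_comm]
    congr 1
    simp only [blockLambda]
    rw [← lam_classInd' (isClassFunction_character (irr_isCharacter (blockRep hP B).2)),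
      ← lam_classInd' (isClassFunction_character (irr_isCharacter (blockRep hP B).2))]
    congr 2
    funext w
    exact if_congr ⟨fun h => (hσ i).trans h, fun h => (hσ i).symm.trans h⟩ rfl rfl
  have hunit : ∀ B : DefBlocks p M D, blockUnit hP (S : Subgroup G) B ≠ 0 := fun B => by
    obtain ⟨g, hg, hDg⟩ := (isDefectGroup_iff B.1 D).mp B.2.2
    exact (pairCount_congr hM hP S hDg hDg).1 B
  rw [← matrix_rank_map_ringHom (ZMod.castHom (dvd_refl p) (Res hP)), hmap,
    show {B : Set (IrrCharacter G) // IsPBlock M B ∧ IsDefectGroup p M B D} = DefBlocks p M D from rfl,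
    Nat.card_eq_fintype_card]
  refine le_antisymm ?_ ((Matrix.rank_mul_le_left W L).trans (W.rank_le_card_width))
  have hone : (A.submatrix τ id).transpose * (W * L) * A =
      Matrix.diagonal fun B => blockUnit hP (S : Subgroup G) B := by
    rw [Matrix.mul_assoc, Matrix.mul_assoc, hLA, Matrix.mul_one]
    ext B B'
    rw [Matrix.mul_apply, Matrix.diagonal_apply]
    have h1 := congrFun (congrFun hLA B') B
    rw [Matrix.mul_apply, Matrix.one_apply] at h1
    rw [show (∑ i, (A.submatrix τ id).transpose B i * W i B') =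
        (∑ j, L B' j * A j B) * blockUnit hP (S : Subgroup G) B' by
      rw [Finset.sum_mul, ← Equiv.sum_comp τ (fun j => L B' j * A j B * _)]
      refine Finset.sum_congr rfl fun i _ => ?_
      rw [hW]
      show A (σ i) B * (blockLambda hP B' (x (σ i)) * _) =
        blockLambda hP B' (x (σ i)) * A (σ i) B * _
      ring, h1]
    by_cases hBB : B = B'
    · subst hBB
      rw [if_pos rfl, if_pos rfl, one_mul]
    · rw [if_neg (Ne.symm hBB), if_neg hBB, zero_mul]
  have h := (Matrix.rank_mul_le_left ((A.submatrix τ id).transpose * (W * L)) A).trans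
    (Matrix.rank_mul_le_right _ _)
  have hdet0 : (Matrix.diagonal fun B : DefBlocks p M D => blockUnit hP (S : Subgroup G) B).det ≠ 0 := by
    rw [Matrix.det_diagonal]; exact Finset.prod_ne_zero_iff.mpr fun B _ => hunit B
  rw [hone, Matrix.rank_of_det_ne_zero hdet0] at h
  exact h

end Cfsg.Agent.Char
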