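import Cfsg.Agent.Lib.Char.SylowMatrix

/-!
# The pair-count matrix modulo `M` in terms of the blocks with a given defect group
-/

set_option autoImplicit false

namespace Cfsg.Agent.Char

open Cfsg Module
open scoped ComplexConjugate

universe u

variable {G : Type u} [Group G] [Fintype G] {M : Ideal AlgInt} {p : ℕ}
  {B : Set (IrrCharacter G)}

theorem blockDefect_le_of_omega (hM : IsPModular p M) (hB : IsPBlock M B) {y : G} {D : Subgroup G}
    (hy : IsSylCent p y D) {χ : IrrCharacter G} (hχ : χ ∈ B)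
    (h : ¬ MemLocalIdeal M (omega (χ : G → ℂ) y)) :
    blockDefect p B ≤ (Nat.card (Subgroup.centralizer ({y} : Set G))).factorization p ∧
      (blockDefect p B = (Nat.card (Subgroup.centralizer ({y} : Set G))).factorization p →
        IsDefectGroup p M B D) := by
  obtain ⟨g, hg⟩ := exists_defectClass hM hB
  obtain ⟨E, hE⟩ := exists_isSylCent p g
  obtain ⟨x, hx⟩ := defect_le_of_omega hM hB hg hE hχ h hy
  have h1 := Subgroup.card_le_of_le hx
  rw [Subgroup.card_map_of_injective (MulEquiv.injective _), hE.card hM.1, hy.card hM.1,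
    factorization_centralizer_defectClass hM hB hg] at h1
  refine ⟨(Nat.pow_le_pow_iff_right hM.1.one_lt).mp h1, fun heq => ?_⟩
  have hEg : IsDefectGroup p M B E := (isDefectGroup_iff B E).mpr ⟨g, hg, hE⟩
  have h2 : E = D.map (MulAut.conj x).toMonoidHom := Subgroup.eq_of_le_of_card_ge hx (by
    rw [Subgroup.card_map_of_injective (MulEquiv.injective _), hE.card hM.1, hy.card hM.1,
      factorization_centralizer_defectClass hM hB hg, heq])
  have h3 := isDefectGroup_conj hM hEg x⁻¹
  rw [h2, Subgroup.map_map] at h3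
  convert h3 using 1
  ext w
  simp [Subgroup.mem_map, mul_assoc]

/-- The blocks with defect group `D`. -/
def DefBlocks (p : ℕ) (M : Ideal AlgInt) (D : Subgroup G) : Type u :=
  {B : Set (IrrCharacter G) // IsPBlock M B ∧ IsDefectGroup p M B D}

noncomputable instance (p : ℕ) (M : Ideal AlgInt) (D : Subgroup G) :
    Fintype (DefBlocks p M D) :=
  haveI : Finite (IrrCharacter G) := inferInstance
  Fintype.ofInjective (fun B : DefBlocks p M D => B.1) fun _ _ h => Subtype.ext h

/-- A chosen character of a block with defect group `D`. -/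
noncomputable def blockRep (hP : M.IsPrime) {D : Subgroup G} (B : DefBlocks p M D) :
    IrrCharacter G :=
  (block_nonempty hP B.2.1).choose

theorem blockRep_mem (hP : M.IsPrime) {D : Subgroup G} (B : DefBlocks p M D) :
    blockRep hP B ∈ B.1 :=
  (block_nonempty hP B.2.1).choose_spec

/-- The reduced central character of a block. -/
noncomputable def blockLambda (hP : M.IsPrime) {D : Subgroup G} (B : DefBlocks p M D) (y : G) :
    Res hP :=
  red hP (omega (blockRep hP B : G → ℂ) y)

open scoped Classical in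
/-- The unit attached to a block in the pair-count matrix. -/
noncomputable def blockUnit (hP : M.IsPrime) (P : Subgroup G) {D : Subgroup G}
    (B : DefBlocks p M D) : Res hP :=
  red hP ((∑ χ : IrrCharacter G with χ ∈ B.1, subMult P (χ : G → ℂ) * (χ : G → ℂ) 1) *
    ((Nat.card D : ℂ) * (Nat.card G : ℂ)⁻¹))

theorem blockDefect_of_defBlocks (hM : IsPModular p M) {D : Subgroup G} (B : DefBlocks p M D)
    {y : G} (hy : IsSylCent p y D) :
    blockDefect p B.1 = (Nat.card (Subgroup.centralizer ({y} : Set G))).factorization p :=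
  Nat.pow_right_injective hM.1.two_le
    ((card_defectGroup hM B.2.1 B.2.2).symm.trans (hy.card hM.1))

open scoped Classical in
/-- The pair count divided by its power of `p`, modulo `M`. -/
theorem pairCount_congr (hM : IsPModular p M) (hP : M.IsPrime) (P : Sylow p G) {D : Subgroup G}
    {x y : G} (hx : IsSylCent p x D) (hy : IsSylCent p y D) :
    (∀ B : DefBlocks p M D, blockUnit hP (P : Subgroup G) B ≠ 0) ∧
    p ^ ((Nat.card G).factorization p - (Nat.card D).factorization p) ∣
        pairCount (P : Subgroup G) x y ∧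
      ((pairCount (P : Subgroup G) x y /
          p ^ ((Nat.card G).factorization p - (Nat.card D).factorization p) : ℕ) : Res hP) =
        ∑ B : DefBlocks p M D,
          blockUnit hP (P : Subgroup G) B * blockLambda hP B y * blockLambda hP B x⁻¹ := by
  have hp := hM.1
  set d := (Nat.card D).factorization p with hd
  have hcardD : Nat.card D = p ^ d := by
    rw [hd, hx.card hp, Nat.factorization_pow, Finsupp.smul_apply, hp.factorization_self,
      smul_eq_mul, mul_one]
  have hxd : (Nat.card (Subgroup.centralizer ({x} : Set G))).factorization p = d := by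
    rw [hd, hx.card hp, Nat.factorization_pow, Finsupp.smul_apply, hp.factorization_self,
      smul_eq_mul, mul_one]
  have hyd : (Nat.card (Subgroup.centralizer ({y} : Set G))).factorization p = d := by
    rw [hd, hy.card hp, Nat.factorization_pow, Finsupp.smul_apply, hp.factorization_self,
      smul_eq_mul, mul_one]
  obtain ⟨c, hc, hC, hN⟩ := pairCount_pow hp P hxd y
  set e := (Nat.card G).factorization p - d with he
  set T := pairSum (P : Subgroup G) x y
  have hTR : ∀ χ : IrrCharacter G, MemLocalRing M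
      (omega (χ : G → ℂ) y * (χ : G → ℂ) x⁻¹ * subMult (P : Subgroup G) (χ : G → ℂ)) := fun χ => by
    obtain ⟨n, hn⟩ := subMult_natCast (P : Subgroup G) (irr_isCharacter χ.2)
    rw [hn]
    exact memLR_mul hP (memLR_mul hP (memLR_omega hP χ.2 _)
      (memLR_char hP (irr_isCharacter χ.2) _)) (memLR_natCast hP n)
  have hTR' : MemLocalRing M T := memLR_sum hP _ _ fun χ _ => hTR χ
  have hc0 : (c : ℂ) ≠ 0 := Nat.cast_ne_zero.mpr fun h => hc (h ▸ dvd_zero p)
  have hdvd : p ^ e ∣ pairCount (P : Subgroup G) x y := by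
    refine (Int.natCast_dvd_natCast (m := p ^ e)).mp ?_
    have hq : ((((pairCount (P : Subgroup G) x y : ℚ) / (p : ℚ) ^ e) : ℚ) : ℂ) = T * (c : ℂ)⁻¹ := by
      push_cast
      have hp0 := pow_ne_zero e (Nat.cast_ne_zero.mpr hp.ne_zero : (p : ℂ) ≠ 0)
      rw [div_eq_iff hp0]
      field_simp
      linear_combination hN
    have hden := rat_den_not_dvd hM (q := (pairCount (P : Subgroup G) x y : ℚ) / (p : ℚ) ^ e)
      (by rw [hq]; exact memLR_mul hP hTR' (memLR_inv_natCast hM hc))
    have h1 : ((pairCount (P : Subgroup G) x y : ℤ) : ℚ) / ((p ^ e : ℕ) : ℤ) =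
        (pairCount (P : Subgroup G) x y : ℚ) / (p : ℚ) ^ e := by push_cast; rfl
    have h2 := Rat.den_dvd (pairCount (P : Subgroup G) x y : ℤ) ((p ^ e : ℕ) : ℤ)
    rw [← Rat.intCast_div_eq_divInt, h1, Int.natCast_dvd_natCast,
      Nat.dvd_prime_pow hp] at h2
    obtain ⟨i, -, hi⟩ := h2
    have hi0 : i = 0 := by
      by_contra h0
      exact hden (hi ▸ dvd_pow_self p h0)
    rw [hi0, pow_zero, Rat.den_eq_one_iff, ← h1] at hi
    have h3 : (((p ^ e : ℕ) : ℤ) : ℚ) ≠ 0 := by
      push_cast
      exact pow_ne_zero e (Nat.cast_ne_zero.mpr hp.ne_zero)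
    rw [eq_comm, div_eq_iff h3] at hi
    exact ⟨_, by exact_mod_cast hi.trans (mul_comm _ _)⟩
  -- the blockwise reduction
  have hmem : ∀ (B : Set (IrrCharacter G)) (hB : IsPBlock M B) (χ : IrrCharacter G),
      blockOf M (χ : G → ℂ) = B ↔ χ ∈ B := fun B hB χ =>
    ⟨fun h => h ▸ self_mem_blockOf hP χ, fun h => (block_eq_blockOf hP hB h).symm⟩
  set Bl := {B : Set (IrrCharacter G) // IsPBlock M B}
  haveI : Fintype Bl := Fintype.ofFinite _
  set part : Bl → ℂ := fun B => ∑ χ : IrrCharacter G with χ ∈ B.1,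
    omega (χ : G → ℂ) y * (χ : G → ℂ) x⁻¹ * subMult (P : Subgroup G) (χ : G → ℂ)
  have hpartR : ∀ B, MemLocalRing M (part B) := fun B => memLR_sum hP _ _ fun χ _ => hTR χ
  have hT : T = ∑ B : Bl, part B := by
    rw [show T = ∑ χ : IrrCharacter G,
      omega (χ : G → ℂ) y * (χ : G → ℂ) x⁻¹ * subMult (P : Subgroup G) (χ : G → ℂ) from rfl,
      ← Finset.sum_fiberwise Finset.univ
        (fun χ : IrrCharacter G => (⟨blockOf M (χ : G → ℂ), isPBlock_blockOf M χ⟩ : Bl))]
    exact Finset.sum_congr rfl fun B _ => Finset.sum_congr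
      (Finset.filter_congr fun χ _ => by rw [Subtype.ext_iff]; exact hmem B.1 B.2 χ) fun _ _ => rfl
  have hunit : ∀ B : DefBlocks p M D, blockUnit hP (P : Subgroup G) B ≠ 0 ∧
      red hP (part ⟨B.1, B.2.1⟩ * (c : ℂ)⁻¹) =
        blockUnit hP (P : Subgroup G) B * blockLambda hP B y * blockLambda hP B x⁻¹ := by
    intro B
    have hBd : blockDefect p B.1 = d := (blockDefect_of_defBlocks hM B hx).trans hxd
    obtain ⟨u, hu, huI, huK, hcg⟩ :=
      block_part_congr hM B.2.1 P hxd hBd.le (blockRep_mem hP B) y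
    have hcU : MemLocalRing M (c : ℂ)⁻¹ := memLR_inv_natCast hM hc
    have e : blockUnit hP (P : Subgroup G) B = red hP (u * (c : ℂ)⁻¹) := by
      rw [blockUnit, ← huK, hcardD, ← card_conjClass_mul_centralizer x, hC]
      congr 1
      have := Nat.cast_ne_zero (R := ℂ).mpr (card_conjClass_ne_zero x)
      have hp0 := pow_ne_zero d (Nat.cast_ne_zero.mpr hp.ne_zero : (p : ℂ) ≠ 0)
      push_cast
      field_simp
    refine ⟨fun h0 => ?_, ?_⟩
    · rw [e, red_eq_zero_iff hP (memLR_mul hP hu hcU)] at h0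
      rcases memLI_mul_mem hP hu hcU h0 with h1 | h1
      · exact huI.mp h1 hBd
      · exact memLI_one_iff hP (by
          simpa [inv_mul_cancel₀ hc0] using memLI_mul_right hP h1 (memLR_natCast hP c))
    · have hoy := memLR_omega hP (blockRep hP B).2 y
      have hox := memLR_omega hP (blockRep hP B).2 x⁻¹
      rw [red_mul hP (hpartR _) hcU, (red_eq_iff hP (hpartR _) (memLR_mul hP (memLR_mul hP hu hoy) hox)).mpr
        hcg, red_mul hP (memLR_mul hP hu hoy) hox, red_mul hP hu hoy, e, red_mul hP hu hcU,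
        blockLambda, blockLambda]
      ring
  refine ⟨fun B => (hunit B).1, hdvd, ?_⟩
  obtain ⟨m, hm⟩ := hdvd
  rw [hm, Nat.mul_div_cancel_left _ (pow_pos hp.pos e), ← red_natCast hP]
  have hmT : (m : ℂ) = T * (c : ℂ)⁻¹ := by
    have hp0 := pow_ne_zero e (Nat.cast_ne_zero.mpr hp.ne_zero : (p : ℂ) ≠ 0)
    rw [eq_mul_inv_iff_mul_eq₀ hc0]
    refine mul_left_cancel₀ hp0 ?_
    rw [← hN, hm]
    push_cast
    ring
  have hcU : MemLocalRing M (c : ℂ)⁻¹ := memLR_inv_natCast hM hc
  rw [hmT, hT, Finset.sum_mul, red_sum hP _ _ fun B _ => memLR_mul hP (hpartR B) hcU]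
  let ι : DefBlocks p M D → Bl := fun B => ⟨B.1, B.2.1⟩
  have hι : Function.Injective ι := fun _ _ h => Subtype.ext (congrArg Subtype.val h :)
  refine (Fintype.sum_of_injective ι hι _ _ (fun B hB => ?_) (fun B => (hunit B).2.symm)).symm
  rw [red_eq_zero_iff hP (memLR_mul hP (hpartR B) hcU)]
  refine memLI_mul_right hP ?_ hcU
  obtain ⟨χ₀, hχ₀⟩ := block_nonempty hP B.2
  by_cases h0 : MemLocalIdeal M (omega (χ₀ : G → ℂ) y)
  · refine memLI_sum hP _ _ fun χ hχ => ?_
    obtain ⟨n, hn⟩ := subMult_natCast (P : Subgroup G) (irr_isCharacter χ.2)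
    rw [mul_assoc, hn]
    exact memLI_mul_right hP
      (memLI_congr hP (omega_congr hM B.2 (Finset.mem_filter.mp hχ).2 hχ₀ y) h0)
      (memLR_mul hP (memLR_char hP (irr_isCharacter χ.2) _) (memLR_natCast hP n))
  · obtain ⟨h1, h2⟩ := blockDefect_le_of_omega hM B.2 hy hχ₀ h0
    rw [hyd] at h1 h2
    obtain ⟨u, hu, huI, -, hcg⟩ := block_part_congr hM B.2 P hxd h1 hχ₀ y
    refine memLI_congr hP hcg (memLI_mul_right hP (memLI_mul_right hP (huI.mpr fun hd' => hB
      ⟨⟨B.1, B.2, h2 hd'⟩, rfl⟩) (memLR_omega hP χ₀.2 _)) (memLR_omega hP χ₀.2 _))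

end Cfsg.Agent.Char
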