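import Cfsg.Agent.Lib.Char.SylowTwoLinear

/-!
# Monomial Sylow two-subgroups of `SL` when `q ≡ 1 (mod 4)`
-/

set_option autoImplicit false
set_option linter.unusedSectionVars false
set_option linter.style.haveILetI false

open Matrix
open scoped commutatorElement

namespace Cfsg.Agent.Char.TwoWreath

variable {F : Type*} [Field F] {n : ℕ}

/-- Diagonal matrices. -/
def phiD (F : Type*) [Field F] (n : ℕ) : (Fin n → Fˣ) →* GL (Fin n) F :=
  MonoidHom.toHomUnits
    { toFun := fun v => Matrix.diagonal fun i => (v i : F)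
      map_one' := by simp
      map_mul' := fun u v => by simp [Matrix.diagonal_mul_diagonal] }

/-- Permutation matrices. -/
def psiD (F : Type*) [Field F] (n : ℕ) : Equiv.Perm (Fin n) →* GL (Fin n) F :=
  MonoidHom.toHomUnits
    { toFun := fun h => pm F h
      map_one' := pm_one
      map_mul' := fun g h => (pm_mul g h).symm }

theorem phi_psiD (h : Equiv.Perm (Fin n)) (v : Fin n → Fˣ) :
    phiD F n v * psiD F n h = psiD F n h * phiD F n (v ∘ h) := by
  refine Units.ext ?_
  show Matrix.diagonal _ * pm F h = pm F h * Matrix.diagonal _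
  rw [diag_pm]
  rfl

theorem psi_phiD_inj (h : Equiv.Perm (Fin n)) (v : Fin n → Fˣ)
    (e : psiD F n h * phiD F n v = 1) : h = 1 ∧ v = 1 := by
  have e' : pm F h * Matrix.diagonal (fun i => (v i : F)) = 1 := congrArg Units.val e
  have hh : h = 1 := by
    refine Equiv.ext fun j => ?_
    by_contra hne
    have h1 := congrFun (congrFun e' j) j
    rw [Matrix.mul_diagonal, Matrix.one_apply_eq, pm, Matrix.of_apply,
      if_neg (show ¬ h j = j from hne), zero_mul] at h1
    exact zero_ne_one h1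
  subst hh
  rw [pm_one, Matrix.one_mul] at e'
  refine ⟨rfl, funext fun i => Units.ext ?_⟩
  have a1 := congrFun (congrFun e' i) i
  simpa using a1

/-- The sign in `F`. -/
def sgnF (F : Type*) [Field F] (n : ℕ) : Equiv.Perm (Fin n) →* Fˣ :=
  (Units.map (Int.castRingHom F : ℤ →+* F).toMonoidHom).comp Equiv.Perm.sign

theorem det_phiD (v : Fin n → Fˣ) : GeneralLinearGroup.det (phiD F n v) = ∏ i, v i := by
  refine Units.ext ?_
  rw [Units.coe_prod]
  exact Matrix.det_diagonal

theorem det_psiD (h : Equiv.Perm (Fin n)) : GeneralLinearGroup.det (psiD F n h) = sgnF F n h :=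
  Units.ext (det_pm h)

variable [Fintype F]

theorem sylow_SL_two (hF : Odd (Fintype.card F)) (P : Sylow 2 (SpecialLinearGroup (Fin 2) F)) :
    ∀ x : (P : Subgroup (SpecialLinearGroup (Fin 2) F)),
      x ^ 2 ∈ commutator (P : Subgroup (SpecialLinearGroup (Fin 2) F)) := by
  obtain ⟨k, hk, ⟨eS⟩⟩ := Classical.SL2Four.sylow_two_quaternion
    (Classical.SL2Four.two_ne_zero_of_odd rfl hF) P
  intro x
  have h := quaternion_sq hk (eS x)
  have h1 := Subgroup.mem_map_of_mem eS.symm.toMonoidHom h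
  rw [commutator_def, Subgroup.map_commutator, Subgroup.map_top_of_surjective _ eS.symm.surjective,
    map_pow] at h1
  rw [commutator_def]
  simpa using h1

theorem v_two_mul_succ (hq : 4 ∣ Fintype.card F - 1) :
    (Fintype.card F ^ 2 - 1).factorization 2 = (Fintype.card F - 1).factorization 2 + 1 := by
  have hq1 : 1 < Fintype.card F := Fintype.one_lt_card
  obtain ⟨k, hk⟩ := hq
  have h : Fintype.card F ^ 2 - 1 = (Fintype.card F - 1) * (2 * (2 * k + 1)) := by
    rw [show Fintype.card F ^ 2 - 1 = (Fintype.card F + 1) * (Fintype.card F - 1) by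
      rw [← Nat.sq_sub_sq, one_pow], mul_comm, show Fintype.card F + 1 = 2 * (2 * k + 1) by omega]
  rw [h, Nat.factorization_mul (by omega) (by omega), Nat.factorization_mul two_ne_zero (by omega)]
  simp only [Finsupp.add_apply, Nat.prime_two.factorization_self]
  rw [Nat.factorization_eq_zero_of_not_dvd (show ¬ 2 ∣ 2 * k + 1 by omega)]

theorem sylow_SL_even_one (hF : Odd (Fintype.card F)) (hq : 4 ∣ Fintype.card F - 1) {m j : ℕ}
    (hm : m = 2 ^ (j + 1)) (P : Sylow 2 (SpecialLinearGroup (Fin (2 * m)) F)) :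
    ∀ x : (P : Subgroup (SpecialLinearGroup (Fin (2 * m)) F)),
      x ^ 2 ∈ commutator (P : Subgroup (SpecialLinearGroup (Fin (2 * m)) F)) := by
  classical
  haveI : Fact (Nat.Prime 2) := ⟨Nat.prime_two⟩
  have hq1 : 1 < Fintype.card F := Fintype.one_lt_card
  -- the two-part of the units
  obtain ⟨C⟩ : Nonempty (Sylow 2 Fˣ) := inferInstance
  haveI : (C : Subgroup Fˣ).Normal := ⟨fun a ha g => by rw [mul_inv_cancel_comm]; exact ha⟩
  obtain ⟨ι, hι⟩ : ∃ ι : Fˣ, orderOf ι = 4 := by
    obtain ⟨g, hg⟩ := IsCyclic.exists_ofOrder_eq_natCard (α := Fˣ)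
    obtain ⟨k, hk⟩ : 4 ∣ orderOf g := by
      rw [hg, Nat.card_eq_fintype_card, Fintype.card_units]
      exact hq
    have hk0 : k ≠ 0 := by
      rintro rfl
      have := orderOf_pos g
      omega
    exact ⟨g ^ k, by rw [orderOf_pow_of_dvd hk0 ⟨4, by rw [hk, mul_comm]⟩, hk,
      Nat.mul_div_cancel _ (Nat.pos_of_ne_zero hk0)]⟩
  have hιC : ι ∈ (C : Subgroup Fˣ) := by
    have hp : IsPGroup 2 (Subgroup.zpowers ι) :=
      IsPGroup.of_card (n := 2) (by rw [Nat.card_zpowers, hι]; norm_num)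
    haveI : (Subgroup.zpowers ι).Normal := ⟨fun a ha g => by rw [mul_inv_cancel_comm]; exact ha⟩
    exact hp.le_sylow_of_normal C (Subgroup.mem_zpowers ι)
  have hι2 : ι ^ 2 = -1 := by
    have h1 : ((ι ^ 2 : Fˣ) : F) * ((ι ^ 2 : Fˣ) : F) = 1 := by
      rw [← Units.val_mul, ← pow_add, show 2 + 2 = orderOf ι by rw [hι], pow_orderOf_eq_one, Units.val_one]
    rcases mul_self_eq_one_iff.mp h1 with h | h
    · exfalso
      have : orderOf ι ∣ 2 := orderOf_dvd_of_pow_eq_one (Units.ext h)
      rw [hι] at this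
      omega
    · exact Units.ext (by rw [h, Units.val_neg, Units.val_one])
  -- a transitive Sylow subgroup
  have hN : Fintype.card (Fin (2 * m)) = Fintype.card (Fin (j + 2) → ZMod 2) := by
    rw [Fintype.card_fin, Fintype.card_fun, ZMod.card, Fintype.card_fin, hm]
    ring
  set e := Fintype.equivOfCardEq hN with he
  let tr : Multiplicative (Fin (j + 2) → ZMod 2) →* Equiv.Perm (Fin (2 * m)) :=
    { toFun := fun a => e.symm.permCongr (Equiv.addLeft (Multiplicative.toAdd a))
      map_one' := by ext x; simp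
      map_mul' := fun a b => by ext x; simp [add_assoc] }
  have htr : IsPGroup 2 tr.range := by
    have h1 : IsPGroup 2 (Multiplicative (Fin (j + 2) → ZMod 2)) :=
      IsPGroup.of_card (n := j + 2) (by
        rw [Nat.card_congr (Multiplicative.toAdd : _ ≃ (Fin (j + 2) → ZMod 2)), Nat.card_fun,
          Nat.card_zmod, Nat.card_fin])
    exact h1.of_surjective tr.rangeRestrict tr.rangeRestrict_surjective
  obtain ⟨T0, hT0⟩ := htr.exists_le_sylow
  obtain ⟨W0, hW0, hgen0, -⟩ := SymGen.exists_gen (p := 2) (2 * m)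
  obtain ⟨g, hg⟩ := MulAction.exists_smul_eq (Equiv.Perm (Fin (2 * m)))
    (Sylow.ofCard W0 (by rw [hW0, Nat.card_perm, Nat.card_fin])) T0
  set T : Subgroup (Equiv.Perm (Fin (2 * m))) := T0.toSubgroup with hT
  have hTW : T = W0.map (MulAut.conj g).toMonoidHom := by rw [hT, ← hg]; rfl
  have hTgen : SymGen.GenP 2 T := hTW ▸ SymGen.genP_map _ hgen0
  have hTcard : Nat.card T = 2 ^ (2 * m).factorial.factorization 2 := by
    rw [hTW, Subgroup.card_map_of_injective (MulAut.conj g).injective, hW0]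
  set W := wr (phiD F (2 * m)) (psiD F (2 * m)) phi_psiD (C : Subgroup Fˣ) T with hW
  have hrange : (SpecialLinearGroup.toGL : SpecialLinearGroup (Fin (2 * m)) F →* _).range =
      (GeneralLinearGroup.det : GL (Fin (2 * m)) F →* Fˣ).ker := by
    ext A
    constructor
    · rintro ⟨B, rfl⟩
      exact Units.ext B.2
    · intro h
      exact ⟨⟨(A : Matrix (Fin (2 * m)) (Fin (2 * m)) F), congrArg Units.val h⟩, Units.ext rfl⟩
  haveI : (SpecialLinearGroup.toGL : SpecialLinearGroup (Fin (2 * m)) F →* _).range.Normal := by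
    rw [hrange]; infer_instance
  refine comap_sylow _ SpecialLinearGroup.toGL_injective W ?_ ?_ P
  · have hC : Nat.card C = 2 ^ (Fintype.card F - 1).factorization 2 := by
      rw [C.card_eq_multiplicity, Nat.card_eq_fintype_card, Fintype.card_units]
    rw [hW, card_wr _ _ _ psi_phiD_inj, show Nat.card (C : Subgroup Fˣ) = Nat.card C from rfl, hC,
      hTcard, ← pow_mul, ← pow_add, v_GL_even hF m, v_two_mul_succ hq]
    congr 1
    rw [Nat.factorization_def (2 * m).factorial Nat.prime_two,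
      padicValNat_factorial_mul, ← Nat.factorization_def m.factorial Nat.prime_two]
    ring
  rw [hrange]
  set K := (GeneralLinearGroup.det : GL (Fin (2 * m)) F →* Fˣ).ker with hK
  have hmem : ∀ (h : Equiv.Perm (Fin (2 * m))) (v : Fin (2 * m) → Fˣ), h ∈ T →
      (∀ i, v i ∈ (C : Subgroup Fˣ)) → sgnF F (2 * m) h * ∏ i, v i = 1 →
      psiD F (2 * m) h * phiD F (2 * m) v ∈ W ⊓ K := fun h v hh hv hp =>
    ⟨⟨h, hh, v, hv, rfl⟩, MonoidHom.mem_ker.mpr (by rw [map_mul, det_psiD, det_phiD]; exact hp)⟩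
  have hsingle : ∀ (i : Fin (2 * m)) (a : Fˣ), a ∈ (C : Subgroup Fˣ) →
      ∀ l, Pi.mulSingle (M := fun _ => Fˣ) i a l ∈ (C : Subgroup Fˣ) := fun i a ha l => by
    rw [Pi.mulSingle_apply]
    split_ifs
    exacts [ha, one_mem _]
  have hprodsingle : ∀ (i : Fin (2 * m)) (a : Fˣ),
      ∏ l, Pi.mulSingle (M := fun _ => Fˣ) i a l = a := fun i a => Fintype.prod_pi_mulSingle' i a
  have hpm : ∀ h : Equiv.Perm (Fin (2 * m)), sgnF F (2 * m) h = 1 ∨ sgnF F (2 * m) h = -1 := by
    intro h
    rcases Int.units_eq_one_or (Equiv.Perm.sign h) with h1 | h1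
    · left; simp [sgnF, h1]
    · right; refine Units.ext ?_; simp [sgnF, h1]
  have hm1C : (-1 : Fˣ) ∈ (C : Subgroup Fˣ) := hι2 ▸ pow_mem hιC 2
  -- squares of pairs
  have key : ∀ (i k : Fin (2 * m)) (a : Fˣ), a ∈ (C : Subgroup Fˣ) →
      phiD F (2 * m) ((Pi.mulSingle i a * Pi.mulSingle k a⁻¹) ^ 2) ∈ ⁅W ⊓ K, W ⊓ K⁆ := by
    intro i k a ha
    set τ := tr (Multiplicative.ofAdd (e i + e k)) with hτ
    have hτT : τ ∈ T := hT0 ⟨_, rfl⟩
    have h2 : ∀ x : Fin (j + 2) → ZMod 2, x + x = 0 := fun x => funext fun l => CharTwo.add_self_eq_zero (x l)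
    have hτi : τ i = k := by
      show e.symm.permCongr (Equiv.addLeft (e i + e k)) i = k
      simp only [Equiv.permCongr_apply, Equiv.symm_symm, Equiv.coe_addLeft]
      rw [add_comm (e i) (e k),
        add_assoc, h2, add_zero, Equiv.symm_apply_apply]
    have hττ : ∀ l, τ (τ l) = l := by
      intro l
      show e.symm.permCongr (Equiv.addLeft (e i + e k)) (e.symm.permCongr (Equiv.addLeft (e i + e k)) l) = l
      simp only [Equiv.permCongr_apply, Equiv.symm_symm, Equiv.coe_addLeft, Equiv.apply_symm_apply]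
      rw [← add_assoc, h2, zero_add, Equiv.symm_apply_apply]
    set c : Fin (2 * m) → Fˣ := Pi.mulSingle i (sgnF F (2 * m) τ) with hc
    set x : Fin (2 * m) → Fˣ := Pi.mulSingle k a * Pi.mulSingle i a⁻¹ with hx
    have hcC : ∀ l, c l ∈ (C : Subgroup Fˣ) := hsingle i _ (by
      rcases hpm τ with h | h <;> rw [h]
      exacts [one_mem _, hm1C])
    have g1 : psiD F (2 * m) τ * phiD F (2 * m) c ∈ W ⊓ K := hmem τ c hτT hcC (by
      rw [hc, hprodsingle]
      rcases hpm τ with h | h <;> rw [h] <;> simp)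
    have g2 : phiD F (2 * m) x ∈ W ⊓ K := by
      have := hmem 1 x T.one_mem (fun l => Subgroup.mul_mem _ (hsingle k a ha l)
        (hsingle i a⁻¹ (inv_mem ha) l)) (by
          rw [map_one, one_mul, hx]
          simp only [Pi.mul_apply]
          rw [Finset.prod_mul_distrib, hprodsingle, hprodsingle, mul_inv_cancel])
      rwa [map_one, one_mul] at this
    have hswap : x ∘ τ = x⁻¹ := by
      have hτk : τ k = i := by rw [← hτi, hττ]
      funext l
      by_cases hki : k = i
      · have hx1 : x = 1 := by rw [hx, hki, ← Pi.mulSingle_mul, mul_inv_cancel, Pi.mulSingle_one]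
        simp [hx1]
      · by_cases hl : l = i
        · subst hl
          simp [hx, hτi, Pi.mulSingle_apply, hki, Ne.symm hki]
        · by_cases hl' : l = k
          · subst hl'
            simp [hx, hτk, Pi.mulSingle_apply, hl, Ne.symm hl]
          · have n1 : τ l ≠ i := fun h => hl' (τ.injective (h.trans hτk.symm))
            have n2 : τ l ≠ k := fun h => hl (τ.injective (h.trans hτi.symm))
            simp [hx, Pi.mulSingle_apply, hl, hl', n1, n2]
    have hsymm : (⇑τ⁻¹ : Fin (2 * m) → Fin (2 * m)) = ⇑τ := funext fun l => by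
      rw [Equiv.Perm.inv_eq_iff_eq]
      exact (hττ l).symm
    have hconjD : ∀ v : Fin (2 * m) → Fˣ,
        psiD F (2 * m) τ * phiD F (2 * m) v * (psiD F (2 * m) τ)⁻¹ = phiD F (2 * m) (v ∘ τ) := by
      intro v
      rw [← map_inv, mul_assoc, phi_psiD, hsymm, ← mul_assoc, ← map_mul, mul_inv_cancel, map_one, one_mul]
    have hcomm : ⁅psiD F (2 * m) τ * phiD F (2 * m) c, phiD F (2 * m) x⁆ =
        phiD F (2 * m) ((Pi.mulSingle i a * Pi.mulSingle k a⁻¹) ^ 2) := by
      rw [commutatorElement_def, _root_.mul_inv_rev]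
      calc psiD F (2 * m) τ * phiD F (2 * m) c * phiD F (2 * m) x *
            ((phiD F (2 * m) c)⁻¹ * (psiD F (2 * m) τ)⁻¹) * (phiD F (2 * m) x)⁻¹
          = psiD F (2 * m) τ * (phiD F (2 * m) c * phiD F (2 * m) x * (phiD F (2 * m) c)⁻¹) *
              (psiD F (2 * m) τ)⁻¹ * (phiD F (2 * m) x)⁻¹ := by group
        _ = _ := by
          rw [← map_mul, ← map_inv, ← map_mul, mul_inv_cancel_comm, hconjD, hswap, ← map_inv, ← map_mul]
          congr 1
          rw [hx, _root_.mul_inv_rev, ← Pi.mulSingle_inv, ← Pi.mulSingle_inv, inv_inv, pow_two]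
    rw [← hcomm]
    exact Subgroup.commutator_mem_commutator g1 g2
  have hNe : Nonempty (Fin (2 * m)) := ⟨⟨0, by rw [hm]; positivity⟩⟩
  obtain ⟨o⟩ := hNe
  -- generators
  have hbase : ∀ v : Fin (2 * m) → Fˣ, (∀ i, v i ∈ (C : Subgroup Fˣ)) → ∏ i, v i = 1 →
      phiD F (2 * m) v ∈ Subgroup.closure {y | y ∈ W ⊓ K ∧ y ^ 2 ∈ ⁅W ⊓ K, W ⊓ K⁆} := by
    intro v hv hp
    have hv' : v = ∏ i, (Pi.mulSingle i (v i) * Pi.mulSingle o (v i)⁻¹) := by
      rw [Finset.prod_mul_distrib, Finset.univ_prod_mulSingle]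
      have h1 : ∏ i, Pi.mulSingle (M := fun _ => Fˣ) o (v i)⁻¹ = Pi.mulSingle o (∏ i, (v i)⁻¹) :=
        (map_prod (MonoidHom.mulSingle (fun _ : Fin (2 * m) => Fˣ) o) _ _).symm
      rw [h1, Finset.prod_inv_distrib, hp, inv_one, Pi.mulSingle_one, mul_one]
    rw [hv']
    refine Subgroup.mem_comap.mp (Subgroup.prod_mem _ fun i _ =>
      Subgroup.mem_comap.mpr (Subgroup.subset_closure ⟨?_, ?_⟩))
    · have := hmem 1 (Pi.mulSingle i (v i) * Pi.mulSingle o (v i)⁻¹) T.one_mem
        (fun l => Subgroup.mul_mem _ (hsingle i _ (hv i) l) (hsingle o _ (inv_mem (hv i)) l)) (by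
          simp only [map_one, one_mul, Pi.mul_apply]
          rw [Finset.prod_mul_distrib, hprodsingle, hprodsingle, mul_inv_cancel])
      rwa [map_one, one_mul] at this
    · rw [← map_pow]
      exact key i o (v i) (hv i)
  rintro y ⟨⟨h, hh, v, hv, rfl⟩, hyk⟩
  replace hyk : sgnF F (2 * m) h * ∏ i, v i = 1 := by
    have h1 : GeneralLinearGroup.det (psiD F (2 * m) h * phiD F (2 * m) v) = 1 := hyk
    rwa [map_mul, det_psiD, det_phiD] at h1
  have hlift : ∀ h' : Equiv.Perm (Fin (2 * m)), h' ∈ Subgroup.closure {t | t ∈ T ∧ t ^ 2 = 1} →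
      ∀ v : Fin (2 * m) → Fˣ, (∀ i, v i ∈ (C : Subgroup Fˣ)) → sgnF F (2 * m) h' * ∏ i, v i = 1 →
        psiD F (2 * m) h' * phiD F (2 * m) v ∈
          Subgroup.closure {y | y ∈ W ⊓ K ∧ y ^ 2 ∈ ⁅W ⊓ K, W ⊓ K⁆} := by
    intro h' hh'
    induction hh' using Subgroup.closure_induction with
    | one =>
      intro v hv hp
      rw [map_one, one_mul] at hp
      rw [map_one, one_mul]
      exact hbase v hv hp
    | mem t ht =>
      intro v hv hp
      obtain ⟨htT, ht2⟩ := ht
      set c : Fin (2 * m) → Fˣ := Pi.mulSingle o (sgnF F (2 * m) t) with hc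
      have hs : sgnF F (2 * m) t * sgnF F (2 * m) t = 1 := by rcases hpm t with h | h <;> rw [h] <;> simp
      have hcC : ∀ l, c l ∈ (C : Subgroup Fˣ) := hsingle o _ (by
        rcases hpm t with h | h <;> rw [h]
        exacts [one_mem _, hm1C])
      rw [show psiD F (2 * m) t * phiD F (2 * m) v =
        (psiD F (2 * m) t * phiD F (2 * m) c) * phiD F (2 * m) (c⁻¹ * v) by
          rw [mul_assoc, ← map_mul, mul_inv_cancel_left]]
      refine Subgroup.mul_mem _ (Subgroup.subset_closure ⟨hmem t c htT hcC (by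
        rw [hc, hprodsingle, hs]), ?_⟩) (hbase _ (fun l => Subgroup.mul_mem _ (inv_mem (hcC l)) (hv l)) ?_)
      · have ht' : psiD F (2 * m) t * psiD F (2 * m) t = 1 := by
          rw [← map_mul, ← pow_two, ht2, map_one]
        have e1 : (psiD F (2 * m) t * phiD F (2 * m) c) ^ 2 = phiD F (2 * m) ((c ∘ t) * c) := by
          rw [pow_two, map_mul, mul_assoc, ← mul_assoc (phiD F (2 * m) c), phi_psiD, ← mul_assoc,
            ← mul_assoc, ht', one_mul]
        rw [e1]
        rcases hpm t with h | h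
        · rw [hc, h, Pi.mulSingle_one, Pi.one_comp, one_mul, map_one]
          exact one_mem _
        · have e2 : (c ∘ t) * c = (Pi.mulSingle (t⁻¹ o) ι * Pi.mulSingle o ι⁻¹) ^ 2 := by
            funext l
            simp only [hc, h, Pi.mul_apply, Pi.pow_apply, Function.comp_apply, Pi.mulSingle_apply,
              mul_pow]
            have hiff : t l = o ↔ l = t⁻¹ o := by rw [eq_comm (a := l), Equiv.Perm.inv_eq_iff_eq, eq_comm]
            congr 1
            · simp only [hiff]
              split_ifs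
              · exact hι2.symm
              · rw [one_pow]
            · split_ifs
              · rw [inv_pow, hι2, inv_neg, inv_one]
              · rw [one_pow]
          rw [e2]
          exact key _ _ _ hιC
      · simp only [Pi.mul_apply, Pi.inv_apply]
        rw [Finset.prod_mul_distrib, Finset.prod_inv_distrib, hc, hprodsingle,
          show (sgnF F (2 * m) t)⁻¹ = sgnF F (2 * m) t from inv_eq_of_mul_eq_one_right hs]
        exact hp
    | mul x y hxc hyc ihx ihy =>
      intro v hv hp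
      set c : Fin (2 * m) → Fˣ := Pi.mulSingle o (sgnF F (2 * m) x) with hc
      have hs : sgnF F (2 * m) x * sgnF F (2 * m) x = 1 := by rcases hpm x with h | h <;> rw [h] <;> simp
      have hcC : ∀ l, c l ∈ (C : Subgroup Fˣ) := hsingle o _ (by
        rcases hpm x with h | h <;> rw [h]
        exacts [one_mem _, hm1C])
      have e1 : psiD F (2 * m) (x * y) * phiD F (2 * m) v =
          (psiD F (2 * m) x * phiD F (2 * m) c) *
            (psiD F (2 * m) y * phiD F (2 * m) ((c ∘ y)⁻¹ * v)) := by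
        rw [map_mul, mul_assoc, mul_assoc, ← mul_assoc (phiD F (2 * m) c), phi_psiD, mul_assoc,
          ← map_mul, mul_inv_cancel_left]
      rw [e1]
      refine Subgroup.mul_mem _ (ihx c hcC (by rw [hc, hprodsingle, hs]))
        (ihy _ (fun l => Subgroup.mul_mem _ (inv_mem (hcC _)) (hv l)) ?_)
      simp only [Pi.mul_apply, Pi.inv_apply, Function.comp_apply]
      rw [Finset.prod_mul_distrib, Finset.prod_inv_distrib, Equiv.prod_comp y c, hc, hprodsingle]
      rw [map_mul] at hp
      rw [show (sgnF F (2 * m) x)⁻¹ = sgnF F (2 * m) x from inv_eq_of_mul_eq_one_right hs,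
        ← mul_assoc, mul_comm (sgnF F (2 * m) y)]
      exact hp
    | inv x hxc ihx =>
      intro v hv hp
      have e1 : psiD F (2 * m) x⁻¹ * phiD F (2 * m) v =
          (psiD F (2 * m) x * phiD F (2 * m) (v⁻¹ ∘ x))⁻¹ := by
        rw [← phi_psiD, _root_.mul_inv_rev, map_inv, map_inv, inv_inv]
      rw [e1]
      refine Subgroup.inv_mem _ (ihx _ (fun l => inv_mem (hv _)) ?_)
      simp only [Function.comp_apply, Pi.inv_apply]
      rw [Equiv.prod_comp x fun i => (v i)⁻¹, Finset.prod_inv_distrib, ← _root_.inv_inj,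
        _root_.mul_inv_rev, inv_inv, inv_one, ← map_inv, mul_comm]
      exact hp
  exact hlift h (hTgen hh) v hv hyk

theorem sylow_SL_even (hF : Odd (Fintype.card F)) (m : ℕ)
    (hq : 4 ∣ Fintype.card F + 1 ∨ (4 ∣ Fintype.card F - 1 ∧ ∃ j : ℕ, m = 2 ^ j))
    (P : Sylow 2 (SpecialLinearGroup (Fin (2 * m)) F)) :
    ∀ x : (P : Subgroup (SpecialLinearGroup (Fin (2 * m)) F)),
      x ^ 2 ∈ commutator (P : Subgroup (SpecialLinearGroup (Fin (2 * m)) F)) := by
  rcases hq with h | ⟨h, j, hj⟩
  · exact sylow_SL_even_three hF h m P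
  cases j with
  | zero =>
    rw [pow_zero] at hj
    subst hj
    exact sylow_SL_two hF P
  | succ j => exact sylow_SL_even_one hF h hj P

end Cfsg.Agent.Char.TwoWreath
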