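import Cfsg.Agent.Lib.Char.SylowTwoWreath
import Cfsg.Agent.Lib.Classical.SymplecticCount
import Cfsg.Agent.Lib.Classical.SL2FourSylow
import Cfsg.Agent.Lib.Small.SL2.Classes

/-!
# Sylow two-subgroups of symplectic groups in odd characteristic
-/

set_option autoImplicit false
set_option linter.unusedSectionVars false
set_option linter.style.haveILetI false

open Matrix

namespace Cfsg.Agent.Char.TwoWreath

variable {F : Type*} [Field F] {n : ℕ}

/-- A permutation matrix. -/
def pm (R : Type*) [Zero R] [One R] (h : Equiv.Perm (Fin n)) : Matrix (Fin n) (Fin n) R :=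
  Matrix.of fun i j => if h j = i then 1 else 0

theorem pm_mul {R : Type*} [CommRing R] (g h : Equiv.Perm (Fin n)) : pm R g * pm R h = pm R (g * h) := by
  ext i j
  simp [pm, Matrix.mul_apply]
  congr

theorem pm_one {R : Type*} [CommRing R] : pm R (1 : Equiv.Perm (Fin n)) = 1 := by
  ext i j
  simp [pm, Matrix.one_apply, eq_comm]

theorem pm_transpose {R : Type*} [CommRing R] (h : Equiv.Perm (Fin n)) : (pm R h)ᵀ = pm R h⁻¹ := by
  ext i j
  simp only [pm, Matrix.transpose_apply, Matrix.of_apply]
  congr 1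
  exact propext ⟨fun e => by rw [← e]; simp, fun e => by rw [← e]; simp⟩

theorem diag_pm {R : Type*} [CommRing R] (a : Fin n → R) (h : Equiv.Perm (Fin n)) :
    Matrix.diagonal a * pm R h = pm R h * Matrix.diagonal (a ∘ h) := by
  ext i j
  simp only [Matrix.diagonal_mul, Matrix.mul_diagonal, pm, Matrix.of_apply, Function.comp_apply]
  split_ifs with e
  · rw [e]; ring
  · ring

/-- Four diagonal blocks. -/
def blk (v : Fin n → Matrix (Fin 2) (Fin 2) F) : Matrix (Fin n ⊕ Fin n) (Fin n ⊕ Fin n) F :=
  Matrix.fromBlocks (diagonal fun i => v i 0 0) (diagonal fun i => v i 0 1)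
    (diagonal fun i => v i 1 0) (diagonal fun i => v i 1 1)

theorem blk_mul (u v : Fin n → Matrix (Fin 2) (Fin 2) F) :
    blk u * blk v = blk (fun i => u i * v i) := by
  simp only [blk, Matrix.fromBlocks_multiply, Matrix.diagonal_mul_diagonal, Matrix.diagonal_add,
    Matrix.mul_apply, Fin.sum_univ_two]

theorem blk_one : blk (fun _ : Fin n => (1 : Matrix (Fin 2) (Fin 2) F)) = 1 := by
  simp [blk, ← Matrix.fromBlocks_one]

theorem blk_mem (v : Fin n → SpecialLinearGroup (Fin 2) F) :
    blk (fun i => ((v i : SpecialLinearGroup (Fin 2) F) : Matrix (Fin 2) (Fin 2) F)) ∈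
      Matrix.symplecticGroup (Fin n) F := by
  have hd : ∀ i, (v i).1 0 0 * (v i).1 1 1 - (v i).1 0 1 * (v i).1 1 0 = 1 := fun i => by
    have := (v i).2
    rwa [Matrix.det_fin_two] at this
  rw [SymplecticGroup.mem_iff, blk, Matrix.J, Matrix.fromBlocks_transpose, Matrix.fromBlocks_multiply,
    Matrix.fromBlocks_multiply]
  simp only [Matrix.diagonal_transpose, Matrix.mul_zero, zero_add, add_zero, Matrix.mul_neg,
    Matrix.mul_one, Matrix.neg_mul, Matrix.diagonal_mul_diagonal, Matrix.diagonal_neg,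
    Matrix.diagonal_add]
  rw [← Matrix.diagonal_one, Matrix.diagonal_neg, ← Matrix.diagonal_zero]
  congr 1 <;> congr 1 <;> funext i
  · ring
  · linear_combination -(hd i)
  · linear_combination hd i
  · ring

/-- The block hom. -/
def phiSp (F : Type*) [Field F] (n : ℕ) :
    (Fin n → SpecialLinearGroup (Fin 2) F) →* Matrix.symplecticGroup (Fin n) F where
  toFun v := ⟨_, blk_mem v⟩
  map_one' := Subtype.ext (by
    show blk _ = 1
    exact blk_one)
  map_mul' u v := Subtype.ext (by
    show blk _ = blk _ * blk _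
    rw [blk_mul]
    rfl)

theorem perm_mem (h : Equiv.Perm (Fin n)) :
    Matrix.fromBlocks (pm F h) 0 0 (pm F h) ∈ Matrix.symplecticGroup (Fin n) F := by
  rw [SymplecticGroup.mem_iff, Matrix.J, Matrix.fromBlocks_transpose, Matrix.fromBlocks_multiply,
    Matrix.fromBlocks_multiply]
  simp [pm_transpose, pm_mul, pm_one]

/-- The permutation hom. -/
def psiSp (F : Type*) [Field F] (n : ℕ) :
    Equiv.Perm (Fin n) →* Matrix.symplecticGroup (Fin n) F where
  toFun h := ⟨_, perm_mem h⟩
  map_one' := Subtype.ext (by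
    show Matrix.fromBlocks _ _ _ _ = 1
    rw [pm_one, Matrix.fromBlocks_one])
  map_mul' g h := Subtype.ext (by
    show Matrix.fromBlocks _ _ _ _ = Matrix.fromBlocks _ _ _ _ * Matrix.fromBlocks _ _ _ _
    simp [Matrix.fromBlocks_multiply, pm_mul])

theorem phi_psi (h : Equiv.Perm (Fin n)) (v : Fin n → SpecialLinearGroup (Fin 2) F) :
    phiSp F n v * psiSp F n h = psiSp F n h * phiSp F n (v ∘ h) := by
  refine Subtype.ext ?_
  show blk _ * Matrix.fromBlocks _ _ _ _ = Matrix.fromBlocks _ _ _ _ * blk _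
  simp only [blk, Matrix.fromBlocks_multiply, Matrix.mul_zero, Matrix.zero_mul, add_zero, zero_add,
    diag_pm]
  rfl

theorem psi_phi_inj (h : Equiv.Perm (Fin n)) (v : Fin n → SpecialLinearGroup (Fin 2) F)
    (e : psiSp F n h * phiSp F n v = 1) : h = 1 ∧ v = 1 := by
  have e' : Matrix.fromBlocks (pm F h) 0 0 (pm F h) *
      blk (fun i => (v i : Matrix (Fin 2) (Fin 2) F)) = 1 := congrArg Subtype.val e
  simp only [blk, Matrix.fromBlocks_multiply, Matrix.zero_mul, add_zero, zero_add,
    ← Matrix.fromBlocks_one, Matrix.fromBlocks_inj] at e'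
  obtain ⟨e1, e2, e3, e4⟩ := e'
  have hh : h = 1 := by
    refine Equiv.ext fun j => ?_
    by_contra hne
    have h1 := congrFun (congrFun e1 j) j
    rw [Matrix.mul_diagonal, Matrix.one_apply_eq, pm, Matrix.of_apply, if_neg (show ¬ h j = j from hne), zero_mul] at h1
    exact zero_ne_one h1
  subst hh
  rw [pm_one, Matrix.one_mul] at e1 e2 e3 e4
  refine ⟨rfl, funext fun i => Subtype.ext ?_⟩
  have a1 := congrFun (congrFun e1 i) i
  have a2 := congrFun (congrFun e2 i) i
  have a3 := congrFun (congrFun e3 i) i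
  have a4 := congrFun (congrFun e4 i) i
  simp only [Matrix.diagonal_apply_eq, Matrix.one_apply_eq, Matrix.zero_apply] at a1 a2 a3 a4
  ext a b
  fin_cases a <;> fin_cases b <;> simp [a1, a2, a3, a4]

variable [Fintype F]

theorem sq_sub_one (hF : Odd (Fintype.card F)) (k : ℕ) (hk : k ≠ 0) :
    padicValNat 2 (Fintype.card F ^ (2 * k) - 1) =
      padicValNat 2 (Fintype.card F ^ 2 - 1) + padicValNat 2 k := by
  haveI : Fact (Nat.Prime 2) := ⟨Nat.prime_two⟩
  obtain ⟨a, ha⟩ := hF
  have hq : 1 < Fintype.card F := Fintype.one_lt_card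
  have h := padicValNat.pow_two_sub_pow (x := Fintype.card F) (y := 1) hq
    ⟨a, by omega⟩ (by omega) (n := 2 * k) (by omega) (even_two_mul k)
  rw [one_pow, padicValNat.mul (by norm_num) hk, padicValNat.self (by norm_num)] at h
  have h2 : Fintype.card F ^ 2 - 1 = (Fintype.card F + 1) * (Fintype.card F - 1) := by
    rw [← Nat.sq_sub_sq, one_pow]
  rw [h2, padicValNat.mul (by omega) (by omega)]
  omega

theorem odd_card_pow {q : ℕ} (hq : Odd q) (k : ℕ) : (q ^ k).factorization 2 = 0 :=
  Nat.factorization_eq_zero_of_not_dvd (fun h => by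
    have := Odd.pow (n := k) hq
    rcases this with ⟨c, hc⟩
    omega)

theorem sylow_symplectic (hF : Odd (Fintype.card F)) (P : Sylow 2 (Matrix.symplecticGroup (Fin n) F)) :
    ∀ x : (P : Subgroup (Matrix.symplecticGroup (Fin n) F)),
      x ^ 2 ∈ commutator (P : Subgroup (Matrix.symplecticGroup (Fin n) F)) := by
  classical
  haveI : Fact (Nat.Prime 2) := ⟨Nat.prime_two⟩
  have h2 : (2 : F) ≠ 0 := Classical.SL2Four.two_ne_zero_of_odd rfl hF
  obtain ⟨S⟩ : Nonempty (Sylow 2 (SpecialLinearGroup (Fin 2) F)) := inferInstance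
  obtain ⟨k, hk, ⟨eS⟩⟩ := Classical.SL2Four.sylow_two_quaternion h2 S
  have hSgen : Gen2 (S : Subgroup (SpecialLinearGroup (Fin 2) F)) := gen2_of_all fun x => by
    have h := quaternion_sq hk (eS x)
    have h1 := Subgroup.mem_map_of_mem eS.symm.toMonoidHom h
    rw [commutator_def, Subgroup.map_commutator, Subgroup.map_top_of_surjective _ eS.symm.surjective,
      map_pow] at h1
    rw [commutator_def]
    simpa using h1
  obtain ⟨T, hT, hTgen, -⟩ := SymGen.exists_gen (p := 2) n
  refine of_card _ ?_ (gen2_wr (phiSp F n) (psiSp F n) phi_psi hSgen hTgen) P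
  rw [card_wr _ _ _ psi_phi_inj, S.card_eq_multiplicity, hT, ← pow_mul, ← pow_add,
    Classical.SpCount.card_symplecticGroup, Small.SL2C.card_SL2]
  congr 1
  have hq2 : 2 ≤ Fintype.card F := Fintype.one_lt_card
  have hpow : ∀ i : ℕ, Fintype.card F ^ (2 * (i + 1)) - 1 ≠ 0 := fun i => by
    have : 1 < Fintype.card F ^ (2 * (i + 1)) := Nat.one_lt_pow (by omega) (by omega)
    omega
  rw [Nat.factorization_mul (pow_ne_zero _ (by omega)) (Finset.prod_ne_zero_iff.mpr fun i _ => hpow i),
    Nat.factorization_mul (by omega) (by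
      have : 1 < Fintype.card F ^ 2 := Nat.one_lt_pow (by omega) (by omega)
      omega),
    Nat.factorization_prod fun i _ => hpow i]
  simp only [Finsupp.add_apply, Finsupp.finsetSum_apply]
  rw [odd_card_pow hF, Nat.factorization_eq_zero_of_not_dvd
    (n := Fintype.card F) (fun h => by rcases hF with ⟨c, hc⟩; omega), zero_add, zero_add,
    Finset.sum_congr rfl (g := fun i => (Fintype.card F ^ 2 - 1).factorization 2 + (i + 1).factorization 2)
      fun i _ => by
        simp only [Nat.factorization_def _ Nat.prime_two]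
        exact sq_sub_one hF (i + 1) (by omega),
    Finset.sum_add_distrib, Finset.sum_const, Finset.card_range, smul_eq_mul, mul_comm]
  congr 1
  rw [← Finset.prod_range_add_one_eq_factorial, Nat.factorization_prod fun i _ => by omega,
    Finsupp.finsetSum_apply]

end Cfsg.Agent.Char.TwoWreath
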