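import Cfsg.Agent.Lib.Char.SymmetricSylowGen
import Mathlib

/-!
# Wreath products whose `2`-power elements square into the commutator subgroup
-/

set_option autoImplicit false
set_option linter.unusedSectionVars false
set_option linter.style.haveILetI false

open scoped commutatorElement

namespace Cfsg.Agent.Char.TwoWreath

/-- `H` is generated by elements whose squares lie in `⁅H, H⁆`. -/
def Gen2 {X : Type*} [Group X] (H : Subgroup X) : Prop :=
  H ≤ Subgroup.closure {x | x ∈ H ∧ x ^ 2 ∈ ⁅H, H⁆}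

theorem gen2_map {X Y : Type*} [Group X] [Group Y] (f : X →* Y) {H : Subgroup X} (h : Gen2 H) :
    Gen2 (H.map f) := by
  refine (Subgroup.map_mono h).trans ?_
  rw [MonoidHom.map_closure]
  refine Subgroup.closure_mono ?_
  rintro y ⟨x, ⟨hx, hx1⟩, rfl⟩
  refine ⟨Subgroup.mem_map_of_mem f hx, ?_⟩
  rw [← map_pow, ← Subgroup.map_commutator]
  exact Subgroup.mem_map_of_mem f hx1

theorem mem_commutator_iff {X : Type*} [Group X] (H : Subgroup X) (x : H) :
    x ∈ commutator H ↔ (x : X) ∈ ⁅H, H⁆ := by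
  have e : (commutator H).map H.subtype = ⁅H, H⁆ := by
    rw [commutator_def, Subgroup.map_commutator, ← MonoidHom.range_eq_map, Subgroup.range_subtype]
  rw [← e]
  exact ⟨fun h => ⟨x, h, rfl⟩, fun ⟨y, hy, e⟩ => Subtype.ext (show (y : X) = x from e) ▸ hy⟩

theorem sq_mem_commutator {X : Type*} [Group X] {H : Subgroup X} (h : Gen2 H) (x : H) :
    x ^ 2 ∈ commutator H := by
  set f : H →* Abelianization H := (powMonoidHom 2).comp Abelianization.of with hf
  have htop : Subgroup.closure {y : H | y ^ 2 ∈ commutator H} = ⊤ := by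
    refine eq_top_iff.mpr fun y _ => ?_
    have h1 : (y : X) ∈ (Subgroup.closure {y : H | y ^ 2 ∈ commutator H}).map H.subtype := by
      rw [MonoidHom.map_closure]
      refine Subgroup.closure_mono ?_ (h y.2)
      rintro z ⟨hz, hz1⟩
      exact ⟨⟨z, hz⟩, (mem_commutator_iff H _).mpr (by push_cast; exact hz1), rfl⟩
    obtain ⟨z, hz, hzy⟩ := h1
    exact Subtype.ext (show (z : X) = y from hzy) ▸ hz
  have hker : Subgroup.closure {y : H | y ^ 2 ∈ commutator H} ≤ f.ker := by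
    rw [Subgroup.closure_le]
    intro y hy
    show f y = 1
    rw [hf, MonoidHom.comp_apply, powMonoidHom_apply, ← map_pow, ← MonoidHom.mem_ker,
      Abelianization.ker_of]
    exact hy
  have hx : f x = 1 := (htop ▸ hker) (Subgroup.mem_top x)
  rw [hf, MonoidHom.comp_apply, powMonoidHom_apply, ← map_pow] at hx
  rw [← Abelianization.ker_of]
  exact hx

theorem gen2_of_all {X : Type*} [Group X] {H : Subgroup X}
    (h : ∀ x : H, x ^ 2 ∈ commutator H) : Gen2 H := fun x hx =>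
  Subgroup.subset_closure ⟨hx, (mem_commutator_iff H ⟨x, hx⟩ |> fun e => by
    have := h ⟨x, hx⟩
    rw [mem_commutator_iff] at this
    simpa using this)⟩

section Wreath

variable {n : ℕ} {K : Type*} [Group K] {X : Type*} [Group X]
  (φ : (Fin n → K) →* X) (ψ : Equiv.Perm (Fin n) →* X)
  (hc : ∀ (h : Equiv.Perm (Fin n)) (v : Fin n → K), φ v * ψ h = ψ h * φ (v ∘ h))

/-- The wreath product of `S` and `T` inside `X`. -/
def wr (S : Subgroup K) (T : Subgroup (Equiv.Perm (Fin n))) : Subgroup X where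
  carrier := {g | ∃ h ∈ T, ∃ v : Fin n → K, (∀ i, v i ∈ S) ∧ g = ψ h * φ v}
  one_mem' := ⟨1, T.one_mem, 1, fun _ => S.one_mem, by rw [map_one, map_one, mul_one]⟩
  mul_mem' := by
    rintro _ _ ⟨h, hh, v, hv, rfl⟩ ⟨h', hh', v', hv', rfl⟩
    refine ⟨h * h', T.mul_mem hh hh', (v ∘ h') * v', fun i => S.mul_mem (hv _) (hv' i), ?_⟩
    rw [map_mul, map_mul, mul_assoc, ← mul_assoc (φ v), hc]
    group
  inv_mem' := by
    rintro _ ⟨h, hh, v, hv, rfl⟩
    refine ⟨h⁻¹, T.inv_mem hh, (v⁻¹ : Fin n → K) ∘ ⇑h⁻¹, fun i => S.inv_mem (hv _), ?_⟩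
    rw [← hc, mul_inv_rev, map_inv, map_inv]

theorem card_wr (hinj : ∀ h v, ψ h * φ v = 1 → h = 1 ∧ v = 1) (S : Subgroup K)
    (T : Subgroup (Equiv.Perm (Fin n))) :
    Nat.card (wr φ ψ hc S T) = Nat.card S ^ n * Nat.card T := by
  have e : (Fin n → S) × T ≃ wr φ ψ hc S T :=
    Equiv.ofBijective
      (fun x => ⟨ψ (x.2 : Equiv.Perm (Fin n)) * φ (fun i => (x.1 i : K)), _, x.2.2, _,
        fun i => (x.1 i).2, rfl⟩)
      ⟨fun x y hxy => by
        have h1 : ψ (x.2 : Equiv.Perm (Fin n)) * φ (fun i => (x.1 i : K)) =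
            ψ (y.2 : Equiv.Perm (Fin n)) * φ (fun i => (y.1 i : K)) := congrArg Subtype.val hxy
        have h2 := hinj ((y.2 : Equiv.Perm (Fin n))⁻¹ * x.2)
          ((fun i => (x.1 i : K)) * (fun i => (y.1 i : K))⁻¹) (by
            rw [map_mul, map_mul, map_inv, map_inv,
              show (ψ (y.2 : Equiv.Perm (Fin n)))⁻¹ * ψ (x.2 : Equiv.Perm (Fin n)) *
                (φ (fun i => (x.1 i : K)) * (φ (fun i => (y.1 i : K)))⁻¹) =
                (ψ (y.2 : Equiv.Perm (Fin n)))⁻¹ * (ψ (x.2 : Equiv.Perm (Fin n)) *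
                φ (fun i => (x.1 i : K))) * (φ (fun i => (y.1 i : K)))⁻¹ by group, h1]
            group)
        exact Prod.ext (funext fun i => Subtype.ext (mul_inv_eq_one.mp (congrFun h2.2 i)))
          (Subtype.ext (inv_mul_eq_one.mp h2.1).symm),
      fun g => by
        obtain ⟨h, hh, v, hv, e⟩ := g.2
        exact ⟨(fun i => ⟨v i, hv i⟩, ⟨h, hh⟩), Subtype.ext e.symm⟩⟩
  rw [← Nat.card_congr e, Nat.card_prod, Nat.card_fun, Nat.card_fin]

theorem gen2_wr {S : Subgroup K} {T : Subgroup (Equiv.Perm (Fin n))} (hS : Gen2 S)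
    (hT : SymGen.GenP 2 T) : Gen2 (wr φ ψ hc S T) := by
  have hbase : (Subgroup.pi Set.univ fun _ : Fin n => S).map φ ≤ wr φ ψ hc S T := by
    rintro _ ⟨v, hv, rfl⟩
    exact ⟨1, T.one_mem, v, fun i => hv i trivial, by rw [map_one, one_mul]⟩
  rintro g ⟨h, hh, v, hv, rfl⟩
  refine Subgroup.mul_mem _ ?_ (Subgroup.subset_closure ⟨hbase ⟨v, fun i _ => hv i, rfl⟩, ?_⟩)
  · refine Subgroup.closure_mono ?_ (SymGen.genP_map ψ hT (Subgroup.mem_map_of_mem ψ hh))
    rintro x ⟨⟨y, hy, rfl⟩, hx⟩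
    refine ⟨⟨y, hy, 1, fun _ => S.one_mem, by rw [map_one, mul_one]⟩, ?_⟩
    rw [hx]
    exact one_mem _
  · refine Subgroup.commutator_mono hbase hbase ?_
    rw [← Subgroup.map_commutator, Subgroup.commutator_pi_pi_of_finite, ← map_pow]
    refine ⟨v ^ 2, fun i _ => ?_, rfl⟩
    have := sq_mem_commutator hS ⟨v i, hv i⟩
    rw [mem_commutator_iff] at this
    simpa using this

end Wreath

/-- A Sylow subgroup conjugate to a `Gen2` group of the same order. -/
theorem of_card {X : Type*} [Group X] [Finite X] (W : Subgroup X)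
    (hW : Nat.card W = 2 ^ (Nat.card X).factorization 2) (hgen : Gen2 W) (P : Sylow 2 X) :
    ∀ x : (P : Subgroup X), x ^ 2 ∈ commutator (P : Subgroup X) := by
  haveI : Fact (Nat.Prime 2) := ⟨Nat.prime_two⟩
  obtain ⟨g, hg⟩ := MulAction.exists_smul_eq X (Sylow.ofCard W hW) P
  have h : (P : Subgroup X) = W.map (MulAut.conj g).toMonoidHom := by rw [← hg]; rfl
  exact sq_mem_commutator (h ▸ gen2_map _ hgen)

theorem quaternion_sq {k : ℕ} (hk : 1 ≤ k) (x : QuaternionGroup (2 ^ k)) :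
    x ^ 2 ∈ commutator (QuaternionGroup (2 ^ k)) := by
  have key : ∀ i : ZMod (2 * 2 ^ k), QuaternionGroup.a (i + i) ∈ commutator (QuaternionGroup (2 ^ k)) := by
    intro i
    have e : QuaternionGroup.a (i + i) = ⁅QuaternionGroup.a i, QuaternionGroup.xa 0⁆ := by
      rw [commutatorElement_def, eq_mul_inv_iff_mul_eq, eq_mul_inv_iff_mul_eq]
      simp
    rw [e, commutator_def]
    exact Subgroup.commutator_mem_commutator (Subgroup.mem_top _) (Subgroup.mem_top _)
  rw [pow_two]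
  cases x with
  | a i => rw [QuaternionGroup.a_mul_a]; exact key i
  | xa i =>
    rw [QuaternionGroup.xa_mul_xa, add_sub_cancel_right]
    have h1 : ((2 ^ k : ℕ) : ZMod (2 * 2 ^ k)) = ((2 ^ (k - 1) : ℕ) : ZMod (2 * 2 ^ k)) + ((2 ^ (k - 1) : ℕ) : ZMod (2 * 2 ^ k)) := by
      rw [← Nat.cast_add]
      congr 1
      obtain ⟨j, rfl⟩ : ∃ j, k = j + 1 := ⟨k - 1, by omega⟩
      rw [Nat.add_sub_cancel, pow_succ]
      ring
    rw [h1]
    exact key _

end Cfsg.Agent.Char.TwoWreath
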