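import Mathlib

/-!
# Sylow subgroups of symmetric and alternating groups are generated by elements of order `p`
-/

set_option autoImplicit false
set_option linter.unusedSectionVars false
set_option linter.style.haveILetI false

namespace Cfsg.Agent.Char.SymGen

/-- `H` is generated by its elements with trivial `p`-th power. -/
def GenP {X : Type*} [Group X] (p : ℕ) (H : Subgroup X) : Prop :=
  H ≤ Subgroup.closure {x | x ∈ H ∧ x ^ p = 1}

theorem genP_map {X Y : Type*} [Group X] [Group Y] (f : X →* Y) {p : ℕ} {H : Subgroup X}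
    (h : GenP p H) : GenP p (H.map f) := by
  refine (Subgroup.map_mono h).trans ?_
  rw [MonoidHom.map_closure]
  refine Subgroup.closure_mono ?_
  rintro y ⟨x, ⟨hx, hx1⟩, rfl⟩
  exact ⟨Subgroup.mem_map_of_mem f hx, by rw [← map_pow, hx1, map_one]⟩

theorem genP_bot {X : Type*} [Group X] (p : ℕ) : GenP p (⊥ : Subgroup X) := bot_le

theorem pow_mem_commutator {X : Type*} [Group X] {p : ℕ} {H : Subgroup X} (h : GenP p H) (x : H) :
    x ^ p ∈ commutator H := by
  set f : H →* Abelianization H := (powMonoidHom p).comp Abelianization.of with hf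
  have htop : Subgroup.closure {y : H | y ^ p = 1} = ⊤ := by
    refine eq_top_iff.mpr fun y _ => ?_
    have h1 : (y : X) ∈ (Subgroup.closure {y : H | y ^ p = 1}).map H.subtype := by
      rw [MonoidHom.map_closure]
      refine Subgroup.closure_mono ?_ (h y.2)
      rintro z ⟨hz, hz1⟩
      exact ⟨⟨z, hz⟩, Subtype.ext (by push_cast; exact hz1), rfl⟩
    obtain ⟨z, hz, hzy⟩ := h1
    exact Subtype.ext (show (z : X) = y from hzy) ▸ hz
  have hker : Subgroup.closure {y : H | y ^ p = 1} ≤ f.ker := by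
    rw [Subgroup.closure_le]
    intro y hy
    show f y = 1
    rw [hf, MonoidHom.comp_apply, powMonoidHom_apply, ← map_pow, show y ^ p = 1 from hy, map_one]
  have hx : f x = 1 := (htop ▸ hker) (Subgroup.mem_top x)
  rw [hf, MonoidHom.comp_apply, powMonoidHom_apply, ← map_pow] at hx
  rw [← Abelianization.ker_of]
  exact hx

variable {p : ℕ} [hp : Fact p.Prime]

section Block

variable {m : ℕ}

/-- Translations inside the blocks. -/
def base : (Fin m → Multiplicative (ZMod p)) →* Equiv.Perm (Fin m × ZMod p) where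
  toFun v := Equiv.prodCongrRight fun i => Equiv.addRight (Multiplicative.toAdd (v i))
  map_one' := by
    ext x <;> simp
  map_mul' u v := by
    ext x
    · rfl
    · simp [add_comm, add_left_comm]

/-- Permutations of the blocks. -/
def lift : Equiv.Perm (Fin m) →* Equiv.Perm (Fin m × ZMod p) where
  toFun h := Equiv.prodCongr h (Equiv.refl _)
  map_one' := by
    ext x <;> rfl
  map_mul' g h := by
    ext x <;> rfl

theorem base_apply (v : Fin m → Multiplicative (ZMod p)) (i : Fin m) (j : ZMod p) :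
    base v (i, j) = (i, j + Multiplicative.toAdd (v i)) := rfl

theorem lift_apply (h : Equiv.Perm (Fin m)) (i : Fin m) (j : ZMod p) :
    lift h (i, j) = (h i, j) := rfl

theorem base_lift (h : Equiv.Perm (Fin m)) (v : Fin m → Multiplicative (ZMod p)) :
    base v * lift h = lift h * base (v ∘ h) := by
  refine Equiv.ext fun x => ?_
  obtain ⟨i, j⟩ := x
  rfl

theorem base_pow (v : Fin m → Multiplicative (ZMod p)) : base v ^ p = 1 := by
  rw [← map_pow]
  convert map_one (base (p := p) (m := m))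
  funext i
  rw [Pi.pow_apply, Pi.one_apply]
  apply Multiplicative.toAdd.injective
  rw [toAdd_pow, toAdd_one, nsmul_eq_mul, ZMod.natCast_self, zero_mul]

/-- The wreath product. -/
def wr (S : Subgroup (Equiv.Perm (Fin m))) : Subgroup (Equiv.Perm (Fin m × ZMod p)) where
  carrier := {g | ∃ h ∈ S, ∃ v : Fin m → Multiplicative (ZMod p), g = lift h * base v}
  one_mem' := ⟨1, S.one_mem, 1, by rw [map_one, map_one, mul_one]⟩
  mul_mem' := by
    rintro _ _ ⟨h, hh, v, rfl⟩ ⟨h', hh', v', rfl⟩
    refine ⟨h * h', S.mul_mem hh hh', (v ∘ h') * v', ?_⟩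
    rw [map_mul, map_mul, mul_assoc, ← mul_assoc (base v), base_lift]
    group
  inv_mem' := by
    rintro _ ⟨h, hh, v, rfl⟩
    refine ⟨h⁻¹, S.inv_mem hh, (v⁻¹ : Fin m → Multiplicative (ZMod p)) ∘ ⇑h⁻¹, ?_⟩
    rw [← base_lift, mul_inv_rev, map_inv, map_inv]

theorem card_wr (S : Subgroup (Equiv.Perm (Fin m))) :
    Nat.card (wr (p := p) S) = p ^ m * Nat.card S := by
  haveI : NeZero p := ⟨hp.out.ne_zero⟩
  have e : (Fin m → Multiplicative (ZMod p)) × S ≃ wr (p := p) S :=
    Equiv.ofBijective (fun x => ⟨lift (x.2 : Equiv.Perm (Fin m)) * base x.1, _, x.2.2, _, rfl⟩)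
      ⟨fun x y hxy => by
        have hf : ∀ i : Fin m, ((x.2 : Equiv.Perm (Fin m)) i, (0 : ZMod p) + Multiplicative.toAdd (x.1 i)) =
            ((y.2 : Equiv.Perm (Fin m)) i, (0 : ZMod p) + Multiplicative.toAdd (y.1 i)) := fun i =>
          congrArg (fun f : Equiv.Perm (Fin m × ZMod p) => f (i, 0)) (congrArg Subtype.val hxy)
        refine Prod.ext (funext fun i => Multiplicative.toAdd.injective ?_)
          (Subtype.ext (Equiv.ext fun i => (Prod.mk.inj (hf i)).1))
        exact add_left_cancel (Prod.mk.inj (hf i)).2,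
      fun g => by
        obtain ⟨h, hh, v, e⟩ := g.2
        exact ⟨(v, ⟨h, hh⟩), Subtype.ext e.symm⟩⟩
  rw [← Nat.card_congr e, Nat.card_prod, Nat.card_fun, Nat.card_fin,
    Nat.card_congr (Multiplicative.toAdd : Multiplicative (ZMod p) ≃ ZMod p), Nat.card_zmod]

theorem genP_wr {S : Subgroup (Equiv.Perm (Fin m))} (hS : GenP p S) : GenP p (wr (p := p) S) := by
  rintro g ⟨h, hh, v, rfl⟩
  refine Subgroup.mul_mem _ ?_ (Subgroup.subset_closure
    ⟨⟨1, S.one_mem, v, by rw [map_one, one_mul]⟩, base_pow v⟩)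
  refine Subgroup.closure_mono ?_ (genP_map lift hS (Subgroup.mem_map_of_mem lift hh))
  rintro x ⟨⟨y, hy, rfl⟩, hx⟩
  exact ⟨⟨y, hy, 1, by rw [map_one, mul_one]⟩, hx⟩

theorem sign_lift_two (hp2 : p = 2) (h : Equiv.Perm (Fin m)) :
    haveI : NeZero p := ⟨hp.out.ne_zero⟩
    Equiv.Perm.sign (lift (p := p) h) = 1 := by
  haveI : NeZero p := ⟨hp.out.ne_zero⟩
  have e : lift (p := p) h = Equiv.prodCongrLeft fun _ : ZMod p => h := Equiv.ext fun x => rfl
  rw [e, Equiv.Perm.sign_prodCongrLeft, Finset.prod_const, Finset.card_univ, ZMod.card, hp2,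
    Int.units_sq]

theorem genP_wr_even (hp2 : p = 2) {S : Subgroup (Equiv.Perm (Fin m))} (hS : GenP p S) :
    haveI : NeZero p := ⟨hp.out.ne_zero⟩
    GenP p (wr (p := p) S ⊓ alternatingGroup (Fin m × ZMod p)) := by
  haveI : NeZero p := ⟨hp.out.ne_zero⟩
  rintro g ⟨⟨h, hh, v, rfl⟩, hA⟩
  replace hA : Equiv.Perm.sign (lift h * base v) = 1 := Equiv.Perm.mem_alternatingGroup.mp hA
  rw [map_mul, sign_lift_two hp2, one_mul] at hA
  refine Subgroup.mul_mem _ ?_ (Subgroup.subset_closure
    ⟨⟨⟨1, S.one_mem, v, by rw [map_one, one_mul]⟩, Equiv.Perm.mem_alternatingGroup.mpr hA⟩,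
      base_pow v⟩)
  refine Subgroup.closure_mono ?_ (genP_map lift hS (Subgroup.mem_map_of_mem lift hh))
  rintro x ⟨⟨y, hy, rfl⟩, hx⟩
  exact ⟨⟨⟨y, hy, 1, by rw [map_one, mul_one]⟩,
    Equiv.Perm.mem_alternatingGroup.mpr (sign_lift_two hp2 y)⟩, hx⟩

end Block

theorem exists_gen : ∀ n : ℕ, ∃ W : Subgroup (Equiv.Perm (Fin n)),
    Nat.card W = p ^ (n.factorial.factorization p) ∧ GenP p W ∧
      GenP p (W ⊓ alternatingGroup (Fin n)) := by
  intro n
  induction n using Nat.strong_induction_on with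
  | _ n ih =>
    haveI : NeZero p := ⟨hp.out.ne_zero⟩
    rcases Nat.lt_or_ge n p with hlt | hge
    · refine ⟨⊥, ?_, genP_bot p, by rw [bot_inf_eq]; exact genP_bot p⟩
      rw [Subgroup.card_bot, Nat.factorization_eq_zero_of_not_dvd
        (fun h => absurd (hp.out.dvd_factorial.mp h) (not_le.mpr hlt)), pow_zero]
    obtain ⟨m, r, hm, hr⟩ : ∃ m r, n = p * m + r ∧ r < p :=
      ⟨n / p, n % p, (Nat.div_add_mod n p).symm, Nat.mod_lt _ hp.out.pos⟩
    have hmn : m < n := by
      have h2 := hp.out.two_le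
      have hm0 : 0 < m := by
        by_contra h
        rw [Nat.eq_zero_of_not_pos h, mul_zero] at hm
        omega
      nlinarith
    obtain ⟨S, hScard, hSgen, -⟩ := ih m hmn
    let e : (Fin m × ZMod p) ⊕ Fin r ≃ Fin n :=
      Fintype.equivFinOfCardEq (by
        rw [Fintype.card_sum, Fintype.card_prod, Fintype.card_fin, Fintype.card_fin, ZMod.card, hm,
          mul_comm])
    let F : Equiv.Perm (Fin m × ZMod p) →* Equiv.Perm (Fin n) :=
      (Equiv.permCongrHom e).toMonoidHom.comp
        ((Equiv.Perm.sumCongrHom (Fin m × ZMod p) (Fin r)).comp (MonoidHom.inl _ _))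
    have hF : Function.Injective F := (Equiv.permCongrHom e).injective.comp
      (Equiv.Perm.sumCongrHom_injective.comp fun a b h => (Prod.mk.inj h).1)
    have hsign : ∀ x, Equiv.Perm.sign (F x) = Equiv.Perm.sign x := by
      intro x
      show Equiv.Perm.sign (e.permCongr (Equiv.Perm.sumCongr x 1)) = _
      rw [Equiv.Perm.sign_permCongr, Equiv.Perm.sign_sumCongr, map_one, mul_one]
    refine ⟨(wr S).map F, ?_, genP_map F (genP_wr hSgen), ?_⟩
    · have h1 : n.factorial.factorization p = m + m.factorial.factorization p := by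
        rw [Nat.factorization_def _ hp.out, Nat.factorization_def _ hp.out, hm,
          padicValNat_factorial_mul_add m hr, padicValNat_factorial_mul, add_comm]
      rw [Subgroup.card_map_of_injective hF, card_wr, hScard, h1, pow_add]
    · rcases hp.out.eq_two_or_odd' with h2 | hodd
      · have he : (wr S).map F ⊓ alternatingGroup (Fin n) =
            (wr (p := p) S ⊓ alternatingGroup (Fin m × ZMod p)).map F := by
          refine le_antisymm ?_ ?_
          · rintro g ⟨⟨x, hx, rfl⟩, hA⟩
            exact ⟨x, ⟨hx, Equiv.Perm.mem_alternatingGroup.mpr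
              ((hsign x).symm.trans (Equiv.Perm.mem_alternatingGroup.mp hA))⟩, rfl⟩
          · rintro g ⟨x, ⟨hx, hA⟩, rfl⟩
            exact ⟨⟨x, hx, rfl⟩, Equiv.Perm.mem_alternatingGroup.mpr
              ((hsign x).trans (Equiv.Perm.mem_alternatingGroup.mp hA))⟩
        rw [he]
        exact genP_map F (genP_wr_even h2 hSgen)
      · have hle : (wr S).map F ≤ alternatingGroup (Fin n) := by
          refine (genP_map F (genP_wr hSgen)).trans ((Subgroup.closure_le _).mpr ?_)
          rintro x ⟨-, hx⟩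
          rw [SetLike.mem_coe, Equiv.Perm.mem_alternatingGroup]
          have h1 : Equiv.Perm.sign x ^ p = 1 := by rw [← map_pow, hx, map_one]
          rcases Int.units_eq_one_or (Equiv.Perm.sign x) with h | h
          · exact h
          · rw [h, hodd.neg_one_pow] at h1
            exact absurd h1 (by decide)
        rw [inf_eq_left.mpr hle]
        exact genP_map F (genP_wr hSgen)

theorem main (n : ℕ) (P : Sylow p (Equiv.Perm (Fin n))) (Q : Sylow p (alternatingGroup (Fin n))) :
    (∀ x : (P : Subgroup (Equiv.Perm (Fin n))), x ^ p ∈ commutator (P : Subgroup (Equiv.Perm (Fin n)))) ∧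
    (∀ x : (Q : Subgroup (alternatingGroup (Fin n))), x ^ p ∈ commutator (Q : Subgroup (alternatingGroup (Fin n)))) := by
  obtain ⟨W, hW, hgen, hgenA⟩ := exists_gen (p := p) n
  set W' : Sylow p (Equiv.Perm (Fin n)) := Sylow.ofCard W (by
    rw [hW, Nat.card_perm, Nat.card_fin]) with hW'
  have hconj : ∀ P' : Sylow p (Equiv.Perm (Fin n)), ∃ g : Equiv.Perm (Fin n),
      (P' : Subgroup (Equiv.Perm (Fin n))) = W.map (MulAut.conj g).toMonoidHom := by
    intro P'
    obtain ⟨g, hg⟩ := MulAction.exists_smul_eq (Equiv.Perm (Fin n)) W' P'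
    refine ⟨g, ?_⟩
    rw [← hg]
    rfl
  refine ⟨?_, ?_⟩
  · obtain ⟨g, hg⟩ := hconj P
    exact pow_mem_commutator (hg ▸ genP_map _ hgen)
  · obtain ⟨P', hP'⟩ := (Q.isPGroup'.map (alternatingGroup (Fin n)).subtype).exists_le_sylow
    obtain ⟨g, hg⟩ := hconj P'
    have hQ : (Q : Subgroup (alternatingGroup (Fin n))) =
        (P' : Subgroup (Equiv.Perm (Fin n))).subgroupOf (alternatingGroup (Fin n)) :=
      (Q.is_maximal' ((P'.isPGroup').comap_of_injective _ Subtype.val_injective)
        fun x hx => hP' (Subgroup.mem_map_of_mem _ hx)).symm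
    refine pow_mem_commutator ?_
    have hAn : (alternatingGroup (Fin n)).Normal := inferInstance
    have hAconj : (alternatingGroup (Fin n)).map (MulAut.conj g).toMonoidHom =
        alternatingGroup (Fin n) := by
      refine le_antisymm ?_ fun y hy => ⟨g⁻¹ * y * g, ?_, ?_⟩
      · rintro y ⟨z, hz, rfl⟩
        exact hAn.conj_mem z hz g
      · have := hAn.conj_mem y hy g⁻¹
        rwa [inv_inv] at this
      · show g * (g⁻¹ * y * g) * g⁻¹ = y
        group
    have h1 : GenP p ((P' : Subgroup (Equiv.Perm (Fin n))) ⊓ alternatingGroup (Fin n)) := by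
      rw [hg, show alternatingGroup (Fin n) =
        (alternatingGroup (Fin n)).map (MulAut.conj g).toMonoidHom from
        hAconj.symm, ← Subgroup.map_inf _ _ _ (MulAut.conj g).injective]
      exact genP_map _ hgenA
    intro x hx
    rw [hQ, Subgroup.mem_subgroupOf] at hx
    have h2 := h1 ⟨hx, x.2⟩
    have h3 : {y : Equiv.Perm (Fin n) | y ∈ (P' : Subgroup (Equiv.Perm (Fin n))) ⊓ alternatingGroup (Fin n) ∧
        y ^ p = 1} ⊆ (alternatingGroup (Fin n)).subtype '' {y | y ∈ (Q : Subgroup (alternatingGroup (Fin n))) ∧ y ^ p = 1} := by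
      rintro y ⟨⟨hy1, hy2⟩, hy3⟩
      exact ⟨⟨y, hy2⟩, ⟨by rw [hQ, Subgroup.mem_subgroupOf]; exact hy1, Subtype.ext (by push_cast; exact hy3)⟩, rfl⟩
    have h4 := Subgroup.closure_mono h3 h2
    rw [← MonoidHom.map_closure] at h4
    obtain ⟨z, hz, hzx⟩ := h4
    exact Subtype.ext (show (z : Equiv.Perm (Fin n)) = x from hzx) ▸ hz

end Cfsg.Agent.Char.SymGen
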