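import Cfsg.Agent.Lib.Char.CoherenceExt
import Cfsg.Agent.Lib.Char.FrobInd
import Cfsg.Agent.Lib.Char.IndValue
import Cfsg.Agent.Lib.Char.Linear
import Cfsg.Prelude.Def_OddOrderLocal

/-!
TI subgroups with Frobenius normalizer.
-/

set_option linter.unusedSectionVars false

open scoped ComplexConjugate
open Cfsg

namespace Cfsg.Agent.Char

universe u

section Frobenius

variable {N : Type u} [Group N] [Fintype N] (K : Subgroup N) [K.Normal] [Fintype K]

theorem exists_induced_of_nonconst (hC : ∀ n ∈ K, n ≠ 1 → Subgroup.centralizer ({n} : Set N) ≤ K)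
    (χ : IrrCharacter N) (h : ∃ k ∈ K, (χ : N → ℂ) k ≠ (χ : N → ℂ) 1) :
    ∃ θ : IrrCharacter K, (θ : K → ℂ) ≠ (fun _ => 1) ∧ (χ : N → ℂ) = indFun K (θ : K → ℂ) := by
  classical
  have hres : IsCharacter K (fun k : K => (χ : N → ℂ) k) := isCharacter_comp K.subtype (irr_isCharacter χ.2)
  obtain ⟨θ, hθ, hne⟩ : ∃ θ : IrrCharacter K, (θ : K → ℂ) ≠ (fun _ => 1) ∧
      classInner (fun k : K => (χ : N → ℂ) k) (θ : K → ℂ) ≠ 0 := by
    by_contra hcon
    push Not at hcon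
    set e : IrrCharacter K := ⟨fun _ => 1, isIrrCharacter_one⟩ with he
    have hexp := char_expansion hres
    rw [Finset.sum_eq_single e (fun θ _ hne => by
      rw [hcon θ fun h' => hne (Subtype.ext h'), zero_smul]) (fun h' => absurd (Finset.mem_univ e) h')]
      at hexp
    obtain ⟨k, hk, hk'⟩ := h
    refine hk' ?_
    have h1 := congrFun hexp (⟨k, hk⟩ : K)
    have h2 := congrFun hexp 1
    simp only [he, Pi.smul_apply, smul_eq_mul, mul_one, OneMemClass.coe_one] at h1 h2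
    rw [h1, h2]
  refine ⟨θ, hθ, ?_⟩
  have hirr := isIrr_indFun_of_inertia K θ fun g hg => inertia_le_of_centralizer K hC θ hθ g hg
  by_contra hne'
  apply hne
  rw [← frobenius_right K _ (isClassFunction_character (irr_isCharacter χ.2)),
    irr_orth χ.2 hirr, if_neg hne']

theorem vanish_of_nonconst (hC : ∀ n ∈ K, n ≠ 1 → Subgroup.centralizer ({n} : Set N) ≤ K)
    (χ : IrrCharacter N) (h : ∃ k ∈ K, (χ : N → ℂ) k ≠ (χ : N → ℂ) 1) {x : N} (hx : x ∉ K) :
    (χ : N → ℂ) x = 0 := by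
  obtain ⟨θ, -, e⟩ := exists_induced_of_nonconst K hC χ h
  rw [e, indFun_normal_not_mem K _ hx]

theorem nonconst_one_of_comm (hC : ∀ n ∈ K, n ≠ 1 → Subgroup.centralizer ({n} : Set N) ≤ K)
    (hab : ∀ a b : K, a * b = b * a) (χ : IrrCharacter N)
    (h : ∃ k ∈ K, (χ : N → ℂ) k ≠ (χ : N → ℂ) 1) : (χ : N → ℂ) 1 = (K.index : ℂ) := by
  obtain ⟨θ, -, e⟩ := exists_induced_of_nonconst K hC χ h
  rw [e, indFun_one, forall_linear_iff_comm.1 hab θ, mul_one]

end Frobenius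

section TI

variable {G : Type u} [Group G] [Fintype G] (K : Subgroup G)


/-- The irreducible characters of the normalizer that are not constant on `K`. -/
def tifnSet : Set (↥(Subgroup.normalizer (K : Set G)) → ℂ) :=
  {χ | IsIrrCharacter ↥(Subgroup.normalizer (K : Set G)) χ ∧ ∃ k : ↥(Subgroup.normalizer (K : Set G)), (k : G) ∈ K ∧ χ k ≠ χ 1}

variable [Fintype ↥(Subgroup.normalizer (K : Set G))]

theorem tifn_centralizer (hC : ∀ k ∈ K, k ≠ 1 → Subgroup.centralizer ({k} : Set G) ≤ K) :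
    ∀ n ∈ K.subgroupOf (Subgroup.normalizer (K : Set G)), n ≠ 1 → Subgroup.centralizer ({n} : Set ↥(Subgroup.normalizer (K : Set G))) ≤ K.subgroupOf (Subgroup.normalizer (K : Set G)) := by
  intro n hn hn1 x hx
  rw [Subgroup.mem_subgroupOf] at hn ⊢
  refine hC _ hn (fun e => hn1 (Subtype.ext e)) ?_
  rw [Subgroup.mem_centralizer_singleton_iff] at hx ⊢
  exact congrArg Subtype.val hx

theorem tifn_vanish (hC : ∀ k ∈ K, k ≠ 1 → Subgroup.centralizer ({k} : Set G) ≤ K) {χ : ↥(Subgroup.normalizer (K : Set G)) → ℂ}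
    (hχ : χ ∈ tifnSet K) {x : ↥(Subgroup.normalizer (K : Set G))} (hx : (x : G) ∉ K) : χ x = 0 := by
  classical
  haveI : (K.subgroupOf (Subgroup.normalizer (K : Set G))).Normal := Subgroup.normal_in_normalizer
  haveI := Fintype.ofFinite (K.subgroupOf (Subgroup.normalizer (K : Set G)))
  obtain ⟨hi, k, hk, hne⟩ := hχ
  exact vanish_of_nonconst (K.subgroupOf (Subgroup.normalizer (K : Set G))) (tifn_centralizer K hC) ⟨χ, hi⟩ ⟨k, hk, hne⟩
    (fun h => hx (Subgroup.mem_subgroupOf.1 h))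

theorem tifn_degree (hC : ∀ k ∈ K, k ≠ 1 → Subgroup.centralizer ({k} : Set G) ≤ K)
    (hab : ∀ a ∈ K, ∀ b ∈ K, a * b = b * a) {χ : ↥(Subgroup.normalizer (K : Set G)) → ℂ} (hχ : χ ∈ tifnSet K) :
    χ 1 = ((K.subgroupOf (Subgroup.normalizer (K : Set G))).index : ℂ) := by
  classical
  haveI : (K.subgroupOf (Subgroup.normalizer (K : Set G))).Normal := Subgroup.normal_in_normalizer
  haveI := Fintype.ofFinite (K.subgroupOf (Subgroup.normalizer (K : Set G)))
  obtain ⟨hi, k, hk, hne⟩ := hχ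
  exact nonconst_one_of_comm (K.subgroupOf (Subgroup.normalizer (K : Set G))) (tifn_centralizer K hC)
    (fun a b => Subtype.ext (Subtype.ext (hab _ (Subgroup.mem_subgroupOf.1 a.2) _
      (Subgroup.mem_subgroupOf.1 b.2)))) ⟨χ, hi⟩ ⟨k, hk, hne⟩

theorem zspan_class_vanish {P : ↥(Subgroup.normalizer (K : Set G)) → Prop} {S : Set (↥(Subgroup.normalizer (K : Set G)) → ℂ)}
    (hS : ∀ χ ∈ S, IsCharacter ↥(Subgroup.normalizer (K : Set G)) χ ∧ ∀ x, P x → χ x = 0) {α : ↥(Subgroup.normalizer (K : Set G)) → ℂ} (hα : α ∈ zspan S) :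
    IsGeneralizedCharacter ↥(Subgroup.normalizer (K : Set G)) α ∧ ∀ x, P x → α x = 0 := by
  induction hα using Submodule.span_induction with
  | mem χ h => exact ⟨⟨χ, 0, (hS χ h).1, isCharacter_zero, (sub_zero χ).symm⟩, (hS χ h).2⟩
  | zero => exact ⟨isGenChar_zero, fun x _ => rfl⟩
  | add a b _ _ ha hb =>
    refine ⟨?_, fun x hx => by rw [Pi.add_apply, ha.2 x hx, hb.2 x hx, add_zero]⟩
    simpa [sub_neg_eq_add] using isGenChar_sub ha.1 (isGenChar_sub isGenChar_zero hb.1)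
  | smul m a _ ha =>
    refine ⟨?_, fun x hx => by rw [Pi.smul_apply, ha.2 x hx, smul_zero]⟩
    rw [← Int.cast_smul_eq_zsmul ℂ]
    exact isGenChar_int_smul ha.1 m

theorem tifn_zspan (hC : ∀ k ∈ K, k ≠ 1 → Subgroup.centralizer ({k} : Set G) ≤ K) {α : ↥(Subgroup.normalizer (K : Set G)) → ℂ}
    (hα : α ∈ zspan (tifnSet K)) :
    IsGeneralizedCharacter ↥(Subgroup.normalizer (K : Set G)) α ∧ ∀ x : ↥(Subgroup.normalizer (K : Set G)), (x : G) ∉ K → α x = 0 :=
  zspan_class_vanish K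
    (fun χ h => ⟨irr_isCharacter h.1, fun _ hx => tifn_vanish K hC h hx⟩) hα

/-- Induction is an isometry on the degree zero part. -/
theorem tifn_isometry
    (hTI : ∀ g : G, g ∉ (Subgroup.normalizer (K : Set G)) → ∀ k ∈ K, g * k * g⁻¹ ∈ K → k = 1)
    (hC : ∀ k ∈ K, k ≠ 1 → Subgroup.centralizer ({k} : Set G) ≤ K) :
    IsLinearIsometryOn (zspanOn (tifnSet K) {1}ᶜ) (fun α => indFun (Subgroup.normalizer (K : Set G)) α) ∧
      ∀ α ∈ zspanOn (tifnSet K) {1}ᶜ, indFun (Subgroup.normalizer (K : Set G)) α 1 = 0 := by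
  refine ⟨⟨fun a _ b _ => indFun_add _ a b, fun a _ m => ?_, fun a ha b hb => ?_, fun a ha => ?_⟩,
    fun a ha => by rw [indFun_one, zspanOn_one ha, mul_zero]⟩
  · show indFun (Subgroup.normalizer (K : Set G)) (m • a) = m • indFun (Subgroup.normalizer (K : Set G)) a
    rw [← Int.cast_smul_eq_zsmul ℂ, indFun_smul, Int.cast_smul_eq_zsmul]
  · obtain ⟨p, q, hp, hq, e⟩ := (tifn_zspan K hC hb.1).1
    refine classInner_indFun_ti (K : Set G) hTI a b (tifn_zspan K hC ha.1).2 ?_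
      (tifn_zspan K hC hb.1).2 (zspanOn_one ha)
    rw [e]
    intro g h
    simp only [Pi.sub_apply, isClassFunction_character hp g h, isClassFunction_character hq g h]
  · obtain ⟨p, q, hp, hq, e⟩ := (tifn_zspan K hC ha.1).1
    exact ⟨indFun (Subgroup.normalizer (K : Set G)) p, indFun (Subgroup.normalizer (K : Set G)) q, isCharacter_indFun _ hp, isCharacter_indFun _ hq,
      by subst e; exact indFun_sub _ _ _⟩

/-- Exceptional characters for an abelian TI subgroup. -/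
theorem tifn_exceptional
    (hTI : ∀ g : G, g ∉ (Subgroup.normalizer (K : Set G)) → ∀ k ∈ K, g * k * g⁻¹ ∈ K → k = 1)
    (hC : ∀ k ∈ K, k ≠ 1 → Subgroup.centralizer ({k} : Set G) ≤ K)
    (hab : ∀ a ∈ K, ∀ b ∈ K, a * b = b * a) :
    ∃ (ε : ℂ) (f : {χ : IrrCharacter ↥(Subgroup.normalizer (K : Set G)) // ∃ k : ↥(Subgroup.normalizer (K : Set G)), (k : G) ∈ K ∧ (χ : ↥(Subgroup.normalizer (K : Set G)) → ℂ) k ≠ (χ : ↥(Subgroup.normalizer (K : Set G)) → ℂ) 1} →
      IrrCharacter G), (ε = 1 ∨ ε = -1) ∧ Function.Injective f ∧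
      ∀ χ ξ, indFun (Subgroup.normalizer (K : Set G)) ((χ.1 : ↥(Subgroup.normalizer (K : Set G)) → ℂ) - (ξ.1 : ↥(Subgroup.normalizer (K : Set G)) → ℂ)) = ε • ((f χ : G → ℂ) - (f ξ : G → ℂ)) := by
  classical
  set T := {χ : IrrCharacter ↥(Subgroup.normalizer (K : Set G)) // ∃ k : ↥(Subgroup.normalizer (K : Set G)), (k : G) ∈ K ∧ (χ : ↥(Subgroup.normalizer (K : Set G)) → ℂ) k ≠ (χ : ↥(Subgroup.normalizer (K : Set G)) → ℂ) 1}
  rcases isEmpty_or_nonempty T with he | hne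
  · exact ⟨1, fun χ => isEmptyElim χ, Or.inl rfl, fun χ => isEmptyElim χ, fun χ => isEmptyElim χ⟩
  haveI : Fintype T := Fintype.ofFinite T
  obtain ⟨e⟩ := (Fintype.truncEquivFin T).nonempty
  obtain ⟨χ₀⟩ := hne
  have hmem : ∀ χ : T, (χ.1 : ↥(Subgroup.normalizer (K : Set G)) → ℂ) ∈ tifnSet K := fun χ => ⟨χ.1.2, χ.2⟩
  have hd : ∀ χ ξ : T, (χ.1 : ↥(Subgroup.normalizer (K : Set G)) → ℂ) - (ξ.1 : ↥(Subgroup.normalizer (K : Set G)) → ℂ) ∈ zspanOn (tifnSet K) {1}ᶜ := fun χ ξ =>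
    cohSys_diff_mem (hmem χ) (hmem ξ)
      (by rw [tifn_degree K hC hab (hmem χ), tifn_degree K hC hab (hmem ξ)])
  obtain ⟨hiso, h1⟩ := tifn_isometry K hTI hC
  set t : Fin (Fintype.card T) → (G → ℂ) := fun i =>
    indFun (Subgroup.normalizer (K : Set G)) (((e.symm i).1 : ↥(Subgroup.normalizer (K : Set G)) → ℂ) - (χ₀.1 : ↥(Subgroup.normalizer (K : Set G)) → ℂ)) with ht
  have h0 : t (e χ₀) = 0 := by
    simp only [ht, Equiv.symm_apply_apply, sub_self]
    exact indFun_zero (Subgroup.normalizer (K : Set G))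
  obtain ⟨ε, hε, μ, hμ, hμi, hμe⟩ := exists_exceptional (Fintype.card T) (e χ₀) t h0
    (fun i => hiso.2.2.2 _ (hd _ _)) (fun i => h1 _ (hd _ _)) (fun i j hi hj => by
      have hi' : e.symm i ≠ χ₀ := fun h => hi (by rw [← h, Equiv.apply_symm_apply])
      have hj' : e.symm j ≠ χ₀ := fun h => hj (by rw [← h, Equiv.apply_symm_apply])
      show classInner (indFun (Subgroup.normalizer (K : Set G)) _) (indFun (Subgroup.normalizer (K : Set G)) _) = _
      rw [hiso.2.2.1 _ (hd _ _) _ (hd _ _)]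
      simp only [classInner_sub_left, classInner_sub_right, irrC_orth]
      have hinj : ∀ a b : T, a.1 = b.1 → a = b := fun a b h => Subtype.ext h
      have hji : ¬ χ₀.1 = (e.symm j).1 := fun h => hj' (hinj _ _ h).symm
      have hij : ¬ (e.symm i).1 = χ₀.1 := fun h => hi' (hinj _ _ h)
      rw [if_neg hji, if_neg hij, if_true]
      by_cases h : i = j
      · rw [if_pos h, if_pos (by rw [h])]; norm_num
      · rw [if_neg h, if_neg (fun h' => h (e.symm.injective (hinj _ _ h')))]; norm_num)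
  refine ⟨ε, fun χ => ⟨μ (e χ), hμ _⟩, hε, fun a b h => e.injective (hμi (congrArg Subtype.val h)),
    fun χ ξ => ?_⟩
  have hχ := hμe (e χ)
  have hξ := hμe (e ξ)
  simp only [ht, Equiv.symm_apply_apply] at hχ hξ
  have e3 : indFun (Subgroup.normalizer (K : Set G)) ((χ.1 : ↥(Subgroup.normalizer (K : Set G)) → ℂ) - (ξ.1 : ↥(Subgroup.normalizer (K : Set G)) → ℂ)) =
      indFun (Subgroup.normalizer (K : Set G)) ((χ.1 : ↥(Subgroup.normalizer (K : Set G)) → ℂ) - (χ₀.1 : ↥(Subgroup.normalizer (K : Set G)) → ℂ)) - indFun (Subgroup.normalizer (K : Set G)) ((ξ.1 : ↥(Subgroup.normalizer (K : Set G)) → ℂ) - (χ₀.1 : ↥(Subgroup.normalizer (K : Set G)) → ℂ)) := by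
    rw [← indFun_sub, sub_sub_sub_cancel_right]
  rw [e3, hχ, hξ, ← smul_sub, sub_sub_sub_cancel_right]

end TI

end Cfsg.Agent.Char
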