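import Cfsg.Agent.Lib.Char.TIFNValues
import Cfsg.Agent.Lib.Char.IndValue

/-!
# The exceptional family of an abelian TI subgroup and its column sums
-/

set_option autoImplicit false
set_option linter.unusedSectionVars false
set_option linter.style.haveILetI false

namespace Cfsg.Agent.Char

open Cfsg
open scoped ComplexConjugate

universe u

variable {G : Type u} [Group G] [Fintype G]

/-- A class function supported on the conjugates of a TI set is summed on the set. -/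
theorem sum_ti_support (A : Subgroup G)
    (hTI : ∀ g : G, g ∉ Subgroup.normalizer (A : Set G) → ∀ k ∈ A, g * k * g⁻¹ ∈ A → k = 1)
    [Fintype A] [DecidableEq A] {f : G → ℂ} (hf : IsClassFunction G f)
    (hsupp : ∀ g : G, f g ≠ 0 → ∃ x : G, x * g * x⁻¹ ∈ A ∧ x * g * x⁻¹ ≠ 1) :
    ∑ g : G, f g = ((Subgroup.normalizer (A : Set G)).index : ℂ) *
      ∑ k ∈ (Finset.univ : Finset A).erase 1, f k := by
  classical
  set N := Subgroup.normalizer (A : Set G) with hN
  haveI := Fintype.ofFinite N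
  let φ : N → ℂ := fun n => if (n : G) ∈ A ∧ (n : G) ≠ 1 then f n else 0
  have hφT : ∀ x : N, (x : G) ∉ (A : Set G) → φ x = 0 := fun x hx => if_neg fun h => hx h.1
  have hφc : IsClassFunction N φ := by
    intro x y
    have h1 : ((y * x * y⁻¹ : N) : G) = (y : G) * x * (y : G)⁻¹ := rfl
    have h2 : (y : G) * x * (y : G)⁻¹ ∈ A ↔ (x : G) ∈ A := (Subgroup.mem_set_normalizer_iff.1 y.2 x).symm
    simp only [φ, h1, h2, ne_eq, conj_eq_one_iff]
    split_ifs
    · exact hf _ _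
    · rfl
  have he : indFun N φ = f := by
    have hcl := isClassFunction_indFun N φ
    funext g
    by_cases hg : ∃ x : G, x * g * x⁻¹ ∈ A ∧ x * g * x⁻¹ ≠ 1
    · obtain ⟨x, hx, hx1⟩ := hg
      have hxN : x * g * x⁻¹ ∈ N := Subgroup.le_normalizer hx
      rw [← hcl g x, ← hf g x]
      have h := indFun_ti (A : Set G) hTI φ hφc hφT ⟨_, hxN⟩ hx
        (fun e => hx1 (congrArg Subtype.val e))
      exact h.trans (if_pos ⟨hx, hx1⟩)
    · have h0 : f g = 0 := by
        by_contra h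
        exact hg (hsupp g h)
      rw [h0, indFun, Finset.sum_eq_zero fun x _ => ?_, mul_zero]
      by_cases hm : x⁻¹ * g * x ∈ N
      · rw [extendByZero_mem N φ hm]
        refine if_neg fun h => hg ⟨x⁻¹, ?_, ?_⟩
        · simpa using h.1
        · simpa using h.2
      · exact extendByZero_not_mem N φ hm
  have h := frobenius N φ (χ := fun _ : G => (1 : ℂ)) (fun _ _ => rfl)
  simp only [he, classInner, map_one, mul_one] at h
  have hs : ∑ n : N, φ n = ∑ k ∈ (Finset.univ : Finset A).erase 1, f k := by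
    simp only [φ]
    rw [← Finset.sum_filter]
    refine Finset.sum_bij' (fun n hn => (⟨(n : G), (Finset.mem_filter.1 hn).2.1⟩ : A))
      (fun k _ => (⟨(k : G), Subgroup.le_normalizer k.2⟩ : N)) ?_ ?_ (fun _ _ => rfl) (fun _ _ => rfl)
      (fun _ _ => rfl)
    · intro n hn
      exact Finset.mem_erase.2 ⟨fun e => (Finset.mem_filter.1 hn).2.2 (congrArg Subtype.val e),
        Finset.mem_univ _⟩
    · intro k hk
      exact Finset.mem_filter.2 ⟨Finset.mem_univ _, k.2,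
        fun e => (Finset.mem_erase.1 hk).1 (Subtype.ext e)⟩
  rw [hs] at h
  have hG : (Nat.card G : ℂ) = (N.index : ℂ) * (Nat.card N : ℂ) := by
    exact_mod_cast (Subgroup.index_mul_card N).symm
  rw [hG] at h
  have hi : (N.index : ℂ) ≠ 0 := Nat.cast_ne_zero.2 Subgroup.index_ne_zero_of_finite
  have hc : (Nat.card N : ℂ) ≠ 0 := Nat.cast_ne_zero.2 Nat.card_pos.ne'
  field_simp at h
  linear_combination h

open scoped Classical in
/-- The exceptional family of an abelian TI subgroup `A` of order `a` whose index in its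
normalizer is `e`: its size, column sums and behaviour away from `A`. -/
theorem exists_ti_family (A : Subgroup G)
    (hTI : ∀ g : G, g ∉ Subgroup.normalizer (A : Set G) → ∀ k ∈ A, g * k * g⁻¹ ∈ A → k = 1)
    (hC : ∀ k ∈ A, k ≠ 1 → Subgroup.centralizer ({k} : Set G) ≤ A)
    (hab : ∀ x ∈ A, ∀ y ∈ A, x * y = y * x) (e : ℕ)
    (hN : Nat.card (Subgroup.normalizer (A : Set G)) = e * Nat.card A)
    (hbig : 2 * e + 1 ≤ Nat.card A) [Fintype A] :
    ∃ (S : Finset (IrrCharacter G)) (ε : ℤ) (c : ℤ), (ε = 1 ∨ ε = -1) ∧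
      e * S.card + 1 = Nat.card A ∧
      (∀ k ∈ A, k ≠ 1 → ∑ χ ∈ S, (χ : G → ℂ) k = -(ε : ℂ) + (S.card : ℂ) * c) ∧
      (∀ k ∈ A, k ≠ 1 → ∑ χ ∈ S, (χ : G → ℂ) k * conj ((χ : G → ℂ) k) =
        (Nat.card A : ℂ) - e - 2 * ε * c + (S.card : ℂ) * c * c) ∧
      (∀ χ ∈ S, ∑ k ∈ (Finset.univ : Finset A).erase 1, (χ : G → ℂ) k =
        -(ε : ℂ) * e + ((Nat.card A : ℂ) - 1) * c) ∧
      (∀ χ ∈ S, ∀ ψ ∈ S, ∀ g : G, (∀ x : G, x * g * x⁻¹ ∈ A → g = 1) →
        (χ : G → ℂ) g = (ψ : G → ℂ) g) ∧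
      (∀ χ ∈ S, ∀ ψ ∈ S, (∀ k ∈ A, k ≠ 1 → (χ : G → ℂ) k = (ψ : G → ℂ) k) → χ = ψ) ∧
      (∀ χ : IrrCharacter G, χ ∉ S → ∃ z : ℤ, ∀ k ∈ A, k ≠ 1 → (χ : G → ℂ) k = z) ∧
      (∀ χ ∈ S, ∃ a ∈ A, ∃ b ∈ A, a ≠ 1 ∧ b ≠ 1 ∧ (χ : G → ℂ) a ≠ (χ : G → ℂ) b) := by
  set N := Subgroup.normalizer (A : Set G) with hNdef
  haveI : Fintype N := Fintype.ofFinite _
  haveI hn0 : (A.subgroupOf N).Normal := Subgroup.normal_in_normalizer
  set K0 := A.subgroupOf N with hK0
  haveI : Fintype K0 := Fintype.ofFinite _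
  have hC0 : ∀ n ∈ K0, n ≠ 1 → Subgroup.centralizer ({n} : Set N) ≤ K0 := tifn_centralizer A hC
  have hcK0 : Nat.card K0 = Nat.card A :=
    Nat.card_congr (Subgroup.subgroupOfEquivOfLe Subgroup.le_normalizer).toEquiv
  have hidx : K0.index = e := by
    have h := K0.index_mul_card
    rw [hcK0, hN] at h
    exact Nat.eq_of_mul_eq_mul_right Nat.card_pos h
  have he0 : 0 < e := hidx ▸ Nat.pos_of_ne_zero Subgroup.index_ne_zero_of_finite
  set T := {χ : IrrCharacter N // ∃ k : N, (k : G) ∈ A ∧ (χ : N → ℂ) k ≠ (χ : N → ℂ) 1} with hT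
  obtain ⟨ε', f, hε', hfinj, hf⟩ := tifn_exceptional A hTI hC hab
  obtain ⟨ε, hε, rfl⟩ : ∃ ε : ℤ, (ε = 1 ∨ ε = -1) ∧ (ε : ℂ) = ε' := by
    rcases hε' with rfl | rfl
    · exact ⟨1, Or.inl rfl, by norm_num⟩
    · exact ⟨-1, Or.inr rfl, by norm_num⟩
  have hεε : (ε : ℂ) * ε = 1 := by rcases hε with rfl | rfl <;> norm_num
  have hmem : ∀ χ : T, (χ.1 : N → ℂ) ∈ tifnSet A := fun χ => ⟨χ.1.2, χ.2⟩
  have hnc : ∀ χ : T, χ.1 ∈ ncChars K0 := fun χ => by
    rw [mem_ncChars]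
    obtain ⟨k, hk, hne⟩ := χ.2
    exact ⟨k, Subgroup.mem_subgroupOf.2 hk, hne⟩
  have hncT : ∀ χ ∈ ncChars K0, ∃ k : N, (k : G) ∈ A ∧ (χ : N → ℂ) k ≠ (χ : N → ℂ) 1 := by
    intro χ hχ
    rw [mem_ncChars] at hχ
    obtain ⟨k, hk, hne⟩ := hχ
    exact ⟨k, Subgroup.mem_subgroupOf.1 hk, hne⟩
  haveI : Fintype T := Fintype.ofFinite _
  have hdeg : ∀ χ : T, (χ.1 : N → ℂ) 1 = (e : ℂ) := fun χ => by
    have h := tifn_degree A hC hab (hmem χ)
    rwa [hidx] at h
  -- sums over the members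
  have hsumT : ∀ F : IrrCharacter N → ℂ, ∑ χ ∈ ncChars K0, F χ = ∑ χ : T, F χ.1 := fun F =>
    Finset.sum_bij' (fun χ hχ => (⟨χ, hncT χ hχ⟩ : T)) (fun χ _ => χ.1)
      (fun _ _ => Finset.mem_univ _) (fun χ _ => hnc χ) (fun _ _ => rfl) (fun _ _ => rfl) (fun _ _ => rfl)
  have hrest : ∀ k : N, k ∈ K0 → ∑ χ : IrrCharacter N with χ ∉ ncChars K0,
      (χ : N → ℂ) 1 * (χ : N → ℂ) k = (e : ℂ) := by
    intro k hk
    rw [← hidx, ← sum_sq_const K0 hC0]
    refine Finset.sum_congr rfl fun χ hχ => ?_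
    have h2 := (Finset.mem_filter.1 hχ).2
    rw [mem_ncChars] at h2
    push Not at h2
    rw [h2 k hk, sq]
  have hsplit : ∀ F : IrrCharacter N → ℂ, ∑ χ, F χ = (∑ χ : T, F χ.1) +
      ∑ χ : IrrCharacter N with χ ∉ ncChars K0, F χ := fun F => by
    rw [← hsumT, ← Finset.sum_filter_add_sum_filter_not Finset.univ (fun χ => χ ∈ ncChars K0),
      Finset.filter_univ_mem]
  have hcol1 : ∀ k ∈ K0, k ≠ 1 → ∑ χ : T, (χ.1 : N → ℂ) k = -1 := by
    intro k hk hk1
    have h := regular_sum (G := N) k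
    rw [if_neg hk1, hsplit, hrest k hk, Finset.sum_congr rfl fun χ _ => by rw [hdeg χ],
      ← Finset.mul_sum] at h
    have hec : (e : ℂ) ≠ 0 := Nat.cast_ne_zero.2 he0.ne'
    refine mul_left_cancel₀ hec ?_
    linear_combination h
  have hcard : e * Fintype.card T + 1 = Nat.card A := by
    have h := sum_sq_deg (G := N)
    rw [hsplit, Finset.sum_congr rfl fun χ _ => by rw [hdeg χ], Finset.sum_const, Finset.card_univ,
      nsmul_eq_mul, show (∑ χ : IrrCharacter N with χ ∉ ncChars K0, (χ : N → ℂ) 1 ^ 2) = (e : ℂ) by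
        rw [sum_sq_const K0 hC0, hidx], hN] at h
    have h' : Fintype.card T * e ^ 2 + e = e * Nat.card A := by exact_mod_cast h
    refine Nat.eq_of_mul_eq_mul_left he0 ?_
    linear_combination h'
  have hcent : ∀ k ∈ K0, k ≠ 1 → Subgroup.centralizer ({k} : Set N) = K0 := by
    intro k hk hk1
    refine le_antisymm (hC0 k hk hk1) fun x hx => Subgroup.mem_centralizer_singleton_iff.2 ?_
    exact Subtype.ext (hab _ (Subgroup.mem_subgroupOf.1 hx) _ (Subgroup.mem_subgroupOf.1 hk))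
  have hcol2 : ∀ k ∈ K0, k ≠ 1 → ∑ χ : T, (χ.1 : N → ℂ) k * conj ((χ.1 : N → ℂ) k) =
      (Nat.card A : ℂ) - e := by
    intro k hk hk1
    have h := second_orth (G := N) k k
    rw [if_pos (IsConj.refl k), hsplit] at h
    have h1 : (∑ χ : IrrCharacter N with χ ∉ ncChars K0, (χ : N → ℂ) k * conj ((χ : N → ℂ) k)) =
        (e : ℂ) := by
      rw [← hrest k hk]
      refine Finset.sum_congr rfl fun χ hχ => ?_
      have h2 := (Finset.mem_filter.1 hχ).2
      rw [mem_ncChars] at h2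
      push Not at h2
      rw [h2 k hk, conj_char_one (irr_isCharacter χ.2)]
    have h3 : (Nat.card N : ℂ) / (Nat.card {x : N // IsConj k x} : ℂ) = (Nat.card A : ℂ) := by
      rw [div_eq_iff (Nat.cast_ne_zero.2 (card_conjClass_ne_zero k)), ← hcK0, ← hcent k hk hk1,
        ← Nat.cast_mul, mul_comm, card_conjClass_mul_centralizer]
    rw [h1, h3] at h
    linear_combination h
  -- restriction of an irreducible character
  have hres : ∀ ψ : IrrCharacter G, ∃ z : ℤ, ∀ k : N, k ∈ K0 → k ≠ 1 →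
      (ψ : G → ℂ) k = (ε : ℂ) * (∑ χ : T, (if f χ = ψ then 1 else 0) * (χ.1 : N → ℂ) k) + z := by
    intro ψ
    set F : N → ℂ := fun x => (ψ : G → ℂ) x with hF
    have hFc : IsCharacter N F := isCharacter_comp N.subtype (irr_isCharacter ψ.2)
    have hFgen : IsGeneralizedCharacter N F := ⟨F, 0, hFc, isCharacter_zero, (sub_zero F).symm⟩
    obtain ⟨w, -, hw⟩ := exists_int_coords hFgen
    rcases isEmpty_or_nonempty T with hem | ⟨⟨χ₀⟩⟩
    · rw [Fintype.card_eq_zero, mul_zero] at hcard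
      omega
    let η : IrrCharacter N → ℂ := fun χ =>
      if h : ∃ k : N, (k : G) ∈ A ∧ (χ : N → ℂ) k ≠ (χ : N → ℂ) 1 then
        (ε : ℂ) * (if f ⟨χ, h⟩ = ψ then 1 else 0) else 0
    let ind : T → ℂ := fun χ => (ε : ℂ) * (if f χ = ψ then 1 else 0)
    have hkey : ∀ χ : T, classInner F (χ.1 : N → ℂ) - ind χ = classInner F (χ₀.1 : N → ℂ) - ind χ₀ := by
      intro χ
      have h := congrArg (classInner (ψ : G → ℂ)) (hf χ χ₀)
      rw [frobenius_right _ _ (isClassFunction_character (irr_isCharacter ψ.2)),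
        classInner_smul_right, classInner_sub_right, classInner_sub_right, irrC_orth, irrC_orth,
        map_intCast] at h
      have e1 : ∀ φ : T, (if ψ = f φ then (1 : ℂ) else 0) = if f φ = ψ then 1 else 0 := fun φ =>
        if_congr eq_comm rfl rfl
      rw [e1, e1] at h
      simp only [ind]
      linear_combination h
    set B : ℂ := classInner F (χ₀.1 : N → ℂ) - ind χ₀ with hB
    have hec : (e : ℂ) ≠ 0 := Nat.cast_ne_zero.2 he0.ne'
    obtain ⟨c, hc⟩ := value_on_kernel K0 hC0 hFgen η (B / e) fun χ hχ => by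
      obtain ⟨k, hk, hne⟩ := hχ
      have hχ' : ∃ k : N, (k : G) ∈ A ∧ (χ : N → ℂ) k ≠ (χ : N → ℂ) 1 :=
        ⟨k, Subgroup.mem_subgroupOf.1 hk, hne⟩
      have h1 := hkey ⟨χ, hχ'⟩
      have h2 : (χ : N → ℂ) 1 = (e : ℂ) := hdeg ⟨χ, hχ'⟩
      simp only [η, dif_pos hχ', h2, div_mul_cancel₀ B hec]
      simp only [ind] at h1
      linear_combination h1
    obtain ⟨z₀, hz₀⟩ : ∃ z₀ : ℤ, B = z₀ := by
      refine ⟨w χ₀.1 - ε * (if f χ₀ = ψ then 1 else 0), ?_⟩
      rw [hB, hw]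
      simp only [ind]
      push_cast
      rfl
    refine ⟨c - z₀, fun k hk hk1 => ?_⟩
    have h := hc k hk hk1
    rw [hidx, div_mul_cancel₀ B hec, hz₀, hsumT] at h
    show F k = _
    rw [h, Finset.mul_sum]
    push_cast
    have e2 : ∀ χ : T, η χ.1 * (χ.1 : N → ℂ) k =
        (ε : ℂ) * ((if f χ = ψ then 1 else 0) * (χ.1 : N → ℂ) k) := fun χ => by
      simp only [η, dif_pos χ.2]
      ring
    rw [Finset.sum_congr rfl fun χ _ => e2 χ]
    ring
  -- differences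
  have hdiff : ∀ χ ξ : T, ∀ k : N, k ∈ K0 → k ≠ 1 →
      (f χ : G → ℂ) k - (f ξ : G → ℂ) k = (ε : ℂ) * ((χ.1 : N → ℂ) k - (ξ.1 : N → ℂ) k) := by
    intro χ ξ k hk hk1
    have h := indFun_ti (A : Set G) hTI ((χ.1 : N → ℂ) - (ξ.1 : N → ℂ)) (fun x y => by
        simp only [Pi.sub_apply, isClassFunction_character (irr_isCharacter χ.1.2) x y,
          isClassFunction_character (irr_isCharacter ξ.1.2) x y])
      (fun x hx => by
        rw [Pi.sub_apply, tifn_vanish A hC (hmem χ) hx, tifn_vanish A hC (hmem ξ) hx, sub_zero])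
      k (Subgroup.mem_subgroupOf.1 hk) hk1
    rw [hf χ ξ, Pi.smul_apply, smul_eq_mul, Pi.sub_apply, Pi.sub_apply] at h
    linear_combination (ε : ℂ) * h - ((f χ : G → ℂ) k - (f ξ : G → ℂ) k) * hεε
  choose z hz using hres
  have hval : ∀ χ : T, ∀ k : N, k ∈ K0 → k ≠ 1 →
      (f χ : G → ℂ) k = (ε : ℂ) * (χ.1 : N → ℂ) k + z (f χ) := by
    intro χ k hk hk1
    rw [hz (f χ) k hk hk1, Finset.sum_eq_single χ (fun φ _ hne => by
      rw [if_neg fun h => hne (hfinj h), zero_mul]) (fun h => absurd (Finset.mem_univ _) h), if_pos rfl,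
      one_mul]
  obtain ⟨k₁, hk₁, hk₁1⟩ : ∃ k : N, k ∈ K0 ∧ k ≠ 1 := by
    haveI : Nontrivial A := Finite.one_lt_card_iff_nontrivial.1 (by omega)
    obtain ⟨k, hk⟩ := exists_ne (1 : A)
    exact ⟨⟨k, Subgroup.le_normalizer k.2⟩, Subgroup.mem_subgroupOf.2 k.2, fun h => hk (Subtype.ext
      (show (k : G) = 1 from congrArg Subtype.val h))⟩
  have hT2 : 2 ≤ Fintype.card T := by
    by_contra h
    have h1 : e * Fintype.card T ≤ e * 1 := Nat.mul_le_mul_left e (by omega)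
    omega
  obtain ⟨χ₀⟩ : Nonempty T := Fintype.card_pos_iff.1 (by omega)
  set c₀ := z (f χ₀) with hc₀
  have hzc : ∀ χ : T, z (f χ) = c₀ := fun χ => by
    have h := hdiff χ χ₀ k₁ hk₁ hk₁1
    rw [hval χ k₁ hk₁ hk₁1, hval χ₀ k₁ hk₁ hk₁1] at h
    have h' : (z (f χ) : ℂ) = (c₀ : ℂ) := by linear_combination h
    exact_mod_cast h'
  have hNk : ∀ k ∈ A, k ≠ 1 → ∃ n : N, (n : G) = k ∧ n ∈ K0 ∧ n ≠ 1 := fun k hk hk1 =>
    ⟨⟨k, Subgroup.le_normalizer hk⟩, rfl, Subgroup.mem_subgroupOf.2 hk,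
      fun h => hk1 (congrArg Subtype.val h)⟩
  let S : Finset (IrrCharacter G) := Finset.univ.image f
  have hScard : S.card = Fintype.card T := by
    rw [Finset.card_image_of_injective _ hfinj, Finset.card_univ]
  have hSsum : ∀ F : IrrCharacter G → ℂ, ∑ χ ∈ S, F χ = ∑ χ : T, F (f χ) := fun F =>
    Finset.sum_image (fun a _ b _ h => hfinj h)
  refine ⟨S, ε, c₀, hε, by rw [hScard]; exact hcard, ?_, ?_, ?_, ?_, ?_, ?_, ?_⟩
  · intro k hk hk1
    obtain ⟨n, rfl, hn, hn1⟩ := hNk k hk hk1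
    rw [hSsum, Finset.sum_congr rfl fun χ _ => (hval χ n hn hn1).trans (by rw [hzc χ]),
      Finset.sum_add_distrib, ← Finset.mul_sum, hcol1 n hn hn1, Finset.sum_const, Finset.card_univ,
      nsmul_eq_mul, hScard]
    ring
  · intro k hk hk1
    obtain ⟨n, rfl, hn, hn1⟩ := hNk k hk hk1
    rw [hSsum, Finset.sum_congr rfl (g := fun χ : T => (χ.1 : N → ℂ) n * conj ((χ.1 : N → ℂ) n) +
      (ε : ℂ) * c₀ * ((χ.1 : N → ℂ) n + conj ((χ.1 : N → ℂ) n)) + (c₀ : ℂ) * c₀) fun χ _ => ?_]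
    · rw [Finset.sum_add_distrib, Finset.sum_add_distrib, ← Finset.mul_sum, Finset.sum_add_distrib,
        ← map_sum, hcol1 n hn hn1, hcol2 n hn hn1, map_neg, map_one, Finset.sum_const, Finset.card_univ,
        nsmul_eq_mul, hScard]
      ring
    · rw [hval χ n hn hn1, hzc χ, map_add, map_mul, map_intCast, map_intCast]
      linear_combination ((χ.1 : N → ℂ) n * conj ((χ.1 : N → ℂ) n)) * hεε
  · intro χ hχ
    obtain ⟨t, -, rfl⟩ := Finset.mem_image.1 hχ
    have h0 := sum_K_eq_zero K0 hC0 t.1 ((mem_ncChars K0).1 (hnc t))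
    rw [← Finset.add_sum_erase _ _ (Finset.mem_univ (1 : K0)), OneMemClass.coe_one, hdeg t] at h0
    have h1 : ∑ k ∈ (Finset.univ : Finset A).erase 1, (f t : G → ℂ) k =
        ∑ k ∈ (Finset.univ : Finset K0).erase 1, ((ε : ℂ) * (t.1 : N → ℂ) k + c₀) := by
      refine Finset.sum_bij' (fun k _ => (⟨⟨k, Subgroup.le_normalizer k.2⟩, Subgroup.mem_subgroupOf.2 k.2⟩ : K0))
        (fun k _ => (⟨((k : N) : G), Subgroup.mem_subgroupOf.1 k.2⟩ : A)) ?_ ?_ (fun _ _ => rfl)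
        (fun _ _ => rfl) ?_
      · intro k hk
        exact Finset.mem_erase.2 ⟨fun h => (Finset.mem_erase.1 hk).1 (Subtype.ext
          (show (k : G) = 1 from congrArg (fun j : K0 => ((j : N) : G)) h)), Finset.mem_univ _⟩
      · intro k hk
        exact Finset.mem_erase.2 ⟨fun h => (Finset.mem_erase.1 hk).1 (Subtype.ext (Subtype.ext
          (show ((k : N) : G) = 1 from congrArg Subtype.val h))), Finset.mem_univ _⟩
      · intro k hk
        have hk1 : (⟨k, Subgroup.le_normalizer k.2⟩ : N) ≠ 1 := fun h => (Finset.mem_erase.1 hk).1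
          (Subtype.ext (show (k : G) = 1 from congrArg Subtype.val h))
        rw [← hzc t]
        exact hval t _ (Subgroup.mem_subgroupOf.2 k.2) hk1
    rw [h1, Finset.sum_add_distrib, ← Finset.mul_sum, Finset.sum_const,
      Finset.card_erase_of_mem (Finset.mem_univ _), Finset.card_univ, nsmul_eq_mul,
      ← Nat.card_eq_fintype_card, hcK0, Nat.cast_sub Nat.card_pos, Nat.cast_one]
    linear_combination (ε : ℂ) * h0
  · intro χ hχ ψ hψ g hg
    obtain ⟨t, -, rfl⟩ := Finset.mem_image.1 hχ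
    obtain ⟨s, -, rfl⟩ := Finset.mem_image.1 hψ
    have h0 : indFun N ((t.1 : N → ℂ) - (s.1 : N → ℂ)) g = 0 := by
      by_cases hg1 : g = 1
      · rw [hg1, indFun_one, Pi.sub_apply, hdeg, hdeg, sub_self, mul_zero]
      rw [indFun, Finset.sum_eq_zero fun x _ => ?_, mul_zero]
      by_cases hm : x⁻¹ * g * x ∈ N
      · have hnA : x⁻¹ * g * x ∉ A := fun h => hg1 (hg x⁻¹ (by rwa [inv_inv]))
        rw [extendByZero_mem N _ hm, Pi.sub_apply, tifn_vanish A hC (hmem t) hnA,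
          tifn_vanish A hC (hmem s) hnA, sub_zero]
      · exact extendByZero_not_mem N _ hm
    rw [hf t s, Pi.smul_apply, smul_eq_mul, Pi.sub_apply, mul_eq_zero, sub_eq_zero] at h0
    exact h0.resolve_left fun h => by rw [h, zero_mul] at hεε; exact zero_ne_one hεε
  · intro χ hχ ψ hψ heq
    obtain ⟨t, -, rfl⟩ := Finset.mem_image.1 hχ
    obtain ⟨s, -, rfl⟩ := Finset.mem_image.1 hψ
    have hts : t = s := Subtype.ext (Subtype.ext (funext fun x => by
      by_cases hx : (x : G) ∈ A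
      · by_cases hx1 : x = 1
        · rw [hx1, hdeg, hdeg]
        · have h := hdiff t s x (Subgroup.mem_subgroupOf.2 hx) hx1
          rw [heq _ hx (fun h' => hx1 (Subtype.ext h')), sub_self] at h
          rcases mul_eq_zero.1 h.symm with h' | h'
          · rw [h', zero_mul] at hεε
            exact absurd hεε zero_ne_one
          · exact sub_eq_zero.1 h'
      · rw [tifn_vanish A hC (hmem t) hx, tifn_vanish A hC (hmem s) hx]))
    rw [hts]
  · intro χ hχ
    refine ⟨z χ, fun k hk hk1 => ?_⟩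
    obtain ⟨n, rfl, hn, hn1⟩ := hNk k hk hk1
    rw [hz χ n hn hn1, Finset.sum_eq_zero fun t _ => ?_, mul_zero, zero_add]
    rw [if_neg fun h => hχ (Finset.mem_image.2 ⟨t, Finset.mem_univ _, h⟩), zero_mul]
  · intro χ hχ
    obtain ⟨t, -, rfl⟩ := Finset.mem_image.1 hχ
    haveI : Nontrivial T := Fintype.one_lt_card_iff_nontrivial.1 hT2
    obtain ⟨s, hs⟩ := exists_ne t
    obtain ⟨a, ha, b, hb, ha1, hb1, hne⟩ := exists_two_values K0 hC0 t.1 s.1
      (fun h => hs (Subtype.ext h).symm) ((mem_ncChars K0).1 (hnc t)) ((mem_ncChars K0).1 (hnc s))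
    refine ⟨a, Subgroup.mem_subgroupOf.1 ha, b, Subgroup.mem_subgroupOf.1 hb,
      fun h => ha1 (Subtype.ext h), fun h => hb1 (Subtype.ext h), fun h => hne ?_⟩
    rw [hval t a ha ha1, hval t b hb hb1] at h
    linear_combination (ε : ℂ) * h - ((t.1 : N → ℂ) a - (t.1 : N → ℂ) b) * hεε

end Cfsg.Agent.Char
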