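import Cfsg.Agent.Lib.Solv.Cores
import Cfsg.Agent.Lib.Solv.Basic
import Mathlib

/-!
# TI Sylow subgroups and the socle
-/

set_option autoImplicit false
set_option linter.unusedSectionVars false

namespace Cfsg.Agent.Char.TISocle

open Cfsg
open scoped Pointwise

universe u

variable {G : Type u} [Group G] [Finite G] {p : ℕ} [hp : Fact p.Prime]

theorem pCore_characteristic : (pCore p G).Characteristic := by
  haveI : (pCore p G).Normal := Solv.pCore_normal (G := G) p
  refine Subgroup.characteristic_iff_map_le.2 fun φ => ?_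
  haveI : ((pCore p G).map φ.toMonoidHom).Normal :=
    Subgroup.Normal.map ‹_› _ φ.surjective
  exact Solv.normal_le_pCore ((Solv.pCore_isPGroup (G := G) p).map _)

theorem pPrimeCore_characteristic : (pPrimeCore p G).Characteristic := by
  haveI : (pPrimeCore p G).Normal := Solv.pPrimeCore_normal (G := G) p
  refine Subgroup.characteristic_iff_map_le.2 fun φ => ?_
  haveI : ((pPrimeCore p G).map φ.toMonoidHom).Normal :=
    Subgroup.Normal.map ‹_› _ φ.surjective
  refine Solv.normal_le_pPrimeCore ?_
  rw [Subgroup.card_map_of_injective φ.injective]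
  exact Solv.pPrimeCore_coprime (G := G) p

theorem pCore_eq_bot_of_normal (h : pCore p G = ⊥) (N : Subgroup G) [N.Normal] :
    pCore p N = ⊥ := by
  haveI := pCore_characteristic (p := p) (G := N)
  have h1 := Solv.normal_le_pCore (G := G) (N := (pCore p N).map N.subtype)
    ((Solv.pCore_isPGroup (G := N) p).map _)
  rw [h, le_bot_iff, Subgroup.map_eq_bot_iff_of_injective _ N.subtype_injective] at h1
  exact h1

theorem dvd_card_of_normal (h : pPrimeCore p G = ⊥) (N : Subgroup G) [N.Normal] (hN : N ≠ ⊥) :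
    p ∣ Nat.card N := by
  by_contra hd
  have h1 := Solv.normal_le_pPrimeCore (N := N) (Nat.Coprime.symm (hp.out.coprime_iff_not_dvd.2 hd))
  rw [h, le_bot_iff] at h1
  exact hN h1

theorem pPrimeCore_eq_bot_of_normal (h : pPrimeCore p G = ⊥) (N : Subgroup G) [N.Normal] :
    pPrimeCore p N = ⊥ := by
  haveI := pPrimeCore_characteristic (p := p) (G := N)
  have h1 := Solv.normal_le_pPrimeCore (p := p) (G := G) (N := (pPrimeCore p N).map N.subtype)
    (by
      rw [Subgroup.card_map_of_injective N.subtype_injective]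
      exact Solv.pPrimeCore_coprime (G := N) p)
  rw [h, le_bot_iff, Subgroup.map_eq_bot_iff_of_injective _ N.subtype_injective] at h1
  exact h1

omit [Finite G] in
theorem conj'_eq_one {g a : G} : g⁻¹ * a * g = 1 ↔ a = 1 := by
  have := conj_eq_one_iff (a := g⁻¹) (b := a)
  simpa using this

variable (P : Sylow p G)
  (hTI : ∀ g : G, g ∉ Subgroup.normalizer ((P : Subgroup G) : Set G) →
    (P : Subgroup G) ⊓ (MulAut.conj g • (P : Subgroup G)) = ⊥)

include hTI

/-- Two commuting subgroups of order divisible by `p` force a normal `p`-subgroup. -/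
theorem exists_normal_p_of_commute (A B : Subgroup G) (hA : p ∣ Nat.card A) (hB : p ∣ Nat.card B)
    (hcomm : ∀ a ∈ A, ∀ b ∈ B, a * b = b * a) : pCore p B ≠ ⊥ := by
  obtain ⟨a, ha⟩ := exists_prime_orderOf_dvd_card' (G := A) p hA
  obtain ⟨b, hb⟩ := exists_prime_orderOf_dvd_card' (G := B) p hB
  rw [← Subgroup.orderOf_coe] at ha hb
  have hpz : ∀ {x : G}, orderOf x = p → IsPGroup p (Subgroup.zpowers x) := fun {x} hx =>
    IsPGroup.of_card (n := 1) (by rw [Nat.card_zpowers, hx, pow_one])
  obtain ⟨Q, hQ⟩ := (hpz ha).exists_le_sylow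
  obtain ⟨g, rfl⟩ := MulAction.exists_smul_eq G P Q
  -- everything is read in the conjugate of `P` by `g`
  have hxP : g⁻¹ * a * g ∈ (P : Subgroup G) := by
    have := hQ (Subgroup.mem_zpowers (a : G))
    rw [Sylow.coe_subgroup_smul, Subgroup.mem_pointwise_smul_iff_inv_smul_mem] at this
    simpa using this
  have hnorm : ∀ c ∈ B, g⁻¹ * c * g ∈ Subgroup.normalizer ((P : Subgroup G) : Set G) := by
    intro c hc
    by_contra hno
    have hmem : g⁻¹ * a * g ∈
        (P : Subgroup G) ⊓ MulAut.conj (g⁻¹ * c * g) • (P : Subgroup G) := by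
      refine Subgroup.mem_inf.2 ⟨hxP, ?_⟩
      rw [Subgroup.mem_pointwise_smul_iff_inv_smul_mem]
      convert hxP using 1
      simp only [MulAut.smul_def, MulAut.inv_def, MulAut.conj_symm_apply]
      calc (g⁻¹ * c * g)⁻¹ * (g⁻¹ * a * g) * (g⁻¹ * c * g) = g⁻¹ * (c⁻¹ * (a * c)) * g := by group
        _ = g⁻¹ * a * g := by rw [hcomm a a.2 c hc]; group
    rw [hTI _ hno, Subgroup.mem_bot, conj'_eq_one ] at hmem
    rw [hmem, orderOf_one] at ha
    exact hp.out.ne_one ha.symm
  let B' : Subgroup G := B.map (MulAut.conj g⁻¹).toMonoidHom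
  have hB'N : B' ≤ Subgroup.normalizer ((P : Subgroup G) : Set G) := by
    rintro _ ⟨c, hc, rfl⟩
    simpa using hnorm c hc
  have hyB : g⁻¹ * b * g ∈ B' := ⟨b, b.2, by simp⟩
  have hyP : g⁻¹ * b * g ∈ (P : Subgroup G) := by
    have hy : orderOf (g⁻¹ * b * g) = p := by
      rw [← hb]
      conv_rhs => rw [← (MulAut.conj g⁻¹).orderOf_eq]
      simp
    have hle : Subgroup.zpowers (g⁻¹ * b * g) ≤
        Subgroup.normalizer ((P : Subgroup G) : Set G) := by
      rw [Subgroup.zpowers_le]
      exact hB'N hyB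
    exact sup_eq_right.mp (P.is_maximal' ((hpz hy).to_sup_of_normal_right' P.isPGroup' hle)
      le_sup_right) (Subgroup.mem_zpowers _)
  let e : B ≃* B' := B.equivMapOfInjective _ (MulAut.conj g⁻¹).injective
  let K : Subgroup B' := (P : Subgroup G).subgroupOf B'
  haveI : K.Normal := ⟨fun k hk c => by
    rw [Subgroup.mem_subgroupOf] at hk ⊢
    simpa using (Subgroup.mem_normalizer_iff.1 (hB'N c.2) _).1 hk⟩
  have hK : IsPGroup p K := P.isPGroup'.comap_subtype
  intro h0
  haveI : (K.map e.symm.toMonoidHom).Normal := Subgroup.Normal.map ‹_› _ e.symm.surjective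
  have h1 := Solv.normal_le_pCore (hK.map e.symm.toMonoidHom)
  rw [h0, le_bot_iff, Subgroup.map_eq_bot_iff_of_injective _ e.symm.injective] at h1
  have h2 : (⟨g⁻¹ * b * g, hyB⟩ : B') ∈ K := Subgroup.mem_subgroupOf.2 hyP
  rw [h1, Subgroup.mem_bot, Subtype.ext_iff, OneMemClass.coe_one, conj'_eq_one] at h2
  rw [h2, orderOf_one] at hb
  exact hp.out.ne_one hb.symm

theorem socle_simple (hP1 : (P : Subgroup G) ≠ ⊥) (hOp : pCore p G = ⊥)
    (hOp' : pPrimeCore p G = ⊥) :
    ∃ N : Subgroup G, N.Normal ∧ N ≠ ⊥ ∧ (∀ K : Subgroup G, K.Normal → K ≠ ⊥ → N ≤ K) ∧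
      IsSimpleGroup N ∧ ¬ IsMulCommutative N ∧ Subgroup.centralizer (N : Set G) = ⊥ ∧
      ∀ Q : Sylow p N, (Q : Subgroup N) ≠ ⊥ ∧
        ∀ n : N, n ∉ Subgroup.normalizer ((Q : Subgroup N) : Set N) →
          (Q : Subgroup N) ⊓ (MulAut.conj n • (Q : Subgroup N)) = ⊥ := by
  haveI : Nontrivial G := by
    haveI := (Subgroup.nontrivial_iff_ne_bot _).2 hP1
    exact Function.Injective.nontrivial (P : Subgroup G).subtype_injective
  obtain ⟨N, hN, hNb, hmin⟩ := Solv.exists_minimal_normal (G := G)
  haveI := hN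
  have hNp := dvd_card_of_normal hOp' N hNb
  have hdisj : ∀ K : Subgroup G, K.Normal → K ⊓ N = ⊥ → K = ⊥ := by
    intro K hK hKN
    haveI := hK
    by_contra hKb
    exact exists_normal_p_of_commute P hTI N K hNp (dvd_card_of_normal hOp' K hKb)
      (fun a ha b hb => (Subgroup.commute_of_normal_of_disjoint K N hK hN
        (disjoint_iff.2 hKN) b a hb ha).symm) (pCore_eq_bot_of_normal hOp K)
  have huniq : ∀ K : Subgroup G, K.Normal → K ≠ ⊥ → N ≤ K := by
    intro K hK hKb
    haveI := hK
    rcases hmin (K ⊓ N) inferInstance inf_le_right with h | h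
    · exact absurd (hdisj K hK h) hKb
    · exact h ▸ inf_le_left
  have hnab : ¬ IsMulCommutative N := by
    intro hc
    obtain ⟨S⟩ : Nonempty (Sylow p N) := inferInstance
    haveI : (S : Subgroup N).Normal := ⟨fun a ha b => by
      rwa [hc.is_comm.comm b a, mul_inv_cancel_right]⟩
    have h := Solv.normal_le_pCore S.isPGroup'
    rw [pCore_eq_bot_of_normal hOp N, le_bot_iff] at h
    have h2 := S.card_eq_multiplicity
    rw [h, Subgroup.card_bot] at h2
    have := hp.out.factorization_pos_of_dvd Nat.card_pos.ne' hNp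
    exact (Nat.one_lt_pow this.ne' hp.out.one_lt).ne h2
  have hcent : Subgroup.centralizer (N : Set G) = ⊥ := by
    refine hdisj _ inferInstance ?_
    rcases hmin (Subgroup.centralizer (N : Set G) ⊓ N) inferInstance inf_le_right with h | h
    · exact h
    · exact absurd ⟨⟨fun a b => Subtype.ext
        ((Subgroup.mem_centralizer_iff.1 ((h.ge b.2).1)) a a.2)⟩⟩ hnab
  haveI : Nontrivial N := (Subgroup.nontrivial_iff_ne_bot N).2 hNb
  have hsimple : IsSimpleGroup N := by
    obtain ⟨S, hS, hSb, hSmin⟩ := Solv.exists_minimal_normal (G := N)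
    haveI := hS
    have hcomm : ∀ φ : MulAut N, S.map φ.toMonoidHom = S := by
      intro φ
      by_contra hne
      set S' := S.map φ.toMonoidHom
      haveI : S'.Normal := Subgroup.Normal.map hS _ φ.surjective
      have hS'b : S' ≠ ⊥ := fun h => hSb
        ((Subgroup.map_eq_bot_iff_of_injective _ φ.injective).1 h)
      have hint : S' ⊓ S = ⊥ := by
        rcases hSmin (S' ⊓ S) inferInstance inf_le_right with h | h
        · exact h
        · refine absurd (Subgroup.eq_of_le_of_card_ge (h ▸ inf_le_left : S ≤ S') ?_).symm hne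
          exact (Subgroup.card_map_of_injective φ.injective).le
      have hO := pPrimeCore_eq_bot_of_normal hOp' N
      have hTS : p ∣ Nat.card (S.map N.subtype) := by
        rw [Subgroup.card_map_of_injective N.subtype_injective]
        exact dvd_card_of_normal hO S hSb
      have hTS' : p ∣ Nat.card (S'.map N.subtype) := by
        rw [Subgroup.card_map_of_injective N.subtype_injective]
        exact dvd_card_of_normal hO S' hS'b
      refine exists_normal_p_of_commute P hTI (S.map N.subtype) (S'.map N.subtype) hTS hTS' ?_ ?_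
      · rintro _ ⟨a, ha, rfl⟩ _ ⟨b, hb, rfl⟩
        exact congrArg Subtype.val
          (Subgroup.commute_of_normal_of_disjoint S' S inferInstance hS (disjoint_iff.2 hint)
            b a hb ha).symm
      · have h0 := pCore_eq_bot_of_normal (pCore_eq_bot_of_normal hOp N) S'
        let e := S'.equivMapOfInjective _ N.subtype_injective
        haveI := Solv.pCore_normal (G := (S'.map N.subtype : Subgroup G)) p
        haveI : ((pCore p (S'.map N.subtype : Subgroup G)).map e.symm.toMonoidHom).Normal :=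
          Subgroup.Normal.map ‹_› _ e.symm.surjective
        have h1 := Solv.normal_le_pCore
          ((Solv.pCore_isPGroup (G := (S'.map N.subtype : Subgroup G)) p).map e.symm.toMonoidHom)
        rwa [h0, le_bot_iff, Subgroup.map_eq_bot_iff_of_injective _ e.symm.injective] at h1
    haveI : S.Characteristic := Subgroup.characteristic_iff_map_eq.2 hcomm
    have hStop : S = ⊤ := by
      rcases hmin (S.map N.subtype) inferInstance (Subgroup.map_subtype_le S) with h | h
      · exact absurd ((Subgroup.map_eq_bot_iff_of_injective _ N.subtype_injective).1 h) hSb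
      · exact Subgroup.map_injective N.subtype_injective
          (by rw [h, ← MonoidHom.range_eq_map, Subgroup.range_subtype])
    refine ⟨fun K hK => ?_⟩
    rcases hSmin K hK (hStop ▸ le_top) with h | h
    · exact Or.inl h
    · exact Or.inr (h.trans hStop)
  refine ⟨N, hN, hNb, huniq, hsimple, hnab, hcent, fun Q => ⟨fun h => ?_, fun n hn => ?_⟩⟩
  · have h2 := Q.card_eq_multiplicity
    rw [h, Subgroup.card_bot] at h2
    exact (Nat.one_lt_pow (hp.out.factorization_pos_of_dvd Nat.card_pos.ne' hNp).ne' hp.out.one_lt).ne h2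
  · obtain ⟨R, hR⟩ := Sylow.exists_comap_subtype_eq Q
    obtain ⟨g, rfl⟩ := MulAction.exists_smul_eq G P R
    have hQ : ∀ x : N, x ∈ (Q : Subgroup N) ↔ g⁻¹ * (x : G) * g ∈ (P : Subgroup G) := by
      intro x
      rw [← hR, Subgroup.mem_comap, Sylow.coe_subgroup_smul,
        Subgroup.mem_pointwise_smul_iff_inv_smul_mem]
      simp
    rw [Subgroup.eq_bot_iff_forall]
    intro x hx
    rw [Subgroup.mem_inf, Subgroup.mem_pointwise_smul_iff_inv_smul_mem, hQ, hQ] at hx
    by_cases hc : g⁻¹ * (n : G) * g ∈ Subgroup.normalizer ((P : Subgroup G) : Set G)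
    · refine absurd ?_ hn
      refine Subgroup.mem_normalizer_iff.2 fun y => ?_
      rw [hQ, hQ, Subgroup.mem_normalizer_iff.1 hc (g⁻¹ * (y : G) * g)]
      simp [mul_assoc]
    · have hmem : g⁻¹ * (x : G) * g ∈
          (P : Subgroup G) ⊓ MulAut.conj (g⁻¹ * (n : G) * g) • (P : Subgroup G) := by
        refine Subgroup.mem_inf.2 ⟨hx.1, ?_⟩
        rw [Subgroup.mem_pointwise_smul_iff_inv_smul_mem]
        simpa [mul_assoc] using hx.2
      rw [hTI _ hc, Subgroup.mem_bot, conj'_eq_one] at hmem
      exact Subtype.ext hmem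

end Cfsg.Agent.Char.TISocle
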