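import Cfsg.Agent.Lib.Char.Ortho
import Cfsg.Agent.Lib.Char.Linear
import Cfsg.Agent.Lib.Char.Central
import Cfsg.Agent.Lib.Char.BlockBasic
import Cfsg.Agent.Lib.Solv.Cores
import Cfsg.Agent.Lib.Solv.HallHigman
import Cfsg.Agent.Lib.Fusion.Cores
import Mathlib

/-!
# Faithful characters of small degree and TI Sylow subgroups
-/

set_option autoImplicit false
set_option linter.unusedSectionVars false

namespace Cfsg.Agent.Char

open Cfsg Module
open scoped ComplexConjugate Pointwise

universe u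

variable {G : Type u} [Group G] [Fintype G] {p : ℕ}

theorem semiprime_coset_sum {N C : Subgroup G} [N.Normal] [Fintype N] [Fintype C] {x : G}
    (hC : ∀ c, c ∈ C ↔ c ∈ N ∧ x * c = c * x) (hco : (orderOf x).Coprime (Nat.card N))
    {f : G → ℂ} (hf : IsClassFunction G f) :
    (Nat.card C : ℂ) * ∑ n : N, f (n * x) = (Nat.card N : ℂ) * ∑ c : C, f (c * x) := by
  classical
  let C' := C.subgroupOf N
  haveI := Fintype.ofFinite (N ⧸ C')
  have hmem : ∀ (m : N) (c : C), (m : G) * c * x * (m : G)⁻¹ * x⁻¹ ∈ N := fun m c => by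
    have h1 : x * (m : G)⁻¹ * x⁻¹ ∈ N := Subgroup.Normal.conj_mem ‹_› _ (inv_mem m.2) x
    have := mul_mem (mul_mem m.2 ((hC c).1 c.2).1) h1
    convert this using 1
    group
  let Φ : (N ⧸ C') × C → N := fun q => ⟨_, hmem q.1.out q.2⟩
  have hΦ : ∀ q, (Φ q : G) * x = (q.1.out : G) * ((q.2 : G) * x) * (q.1.out : G)⁻¹ := fun q => by
    show (q.1.out : G) * q.2 * x * (q.1.out : G)⁻¹ * x⁻¹ * x = _
    group
  obtain ⟨k, hk, hk0⟩ : ∃ k : ℕ, k ≡ 1 [MOD orderOf x] ∧ k ≡ 0 [MOD Nat.card N] :=
    ⟨_, (Nat.chineseRemainder hco 1 0).2⟩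
  have hpow : ∀ c : C, ((c : G) * x) ^ k = x := fun c => by
    have hcx : Commute (c : G) x := ((hC c).1 c.2).2.symm
    have h1 : (c : G) ^ k = 1 := by
      have h := pow_card_eq_one' (x := (⟨(c : G), ((hC c).1 c.2).1⟩ : N))
      obtain ⟨j, hj⟩ := (Nat.modEq_zero_iff_dvd).1 hk0
      rw [hj, pow_mul, show (c : G) ^ Nat.card N = 1 from congrArg Subtype.val h, one_pow]
    rw [hcx.mul_pow, h1, one_mul, pow_eq_pow_iff_modEq.2 hk |>.trans (pow_one x)]
  have hinj : Function.Injective Φ := by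
    rintro ⟨q, c⟩ ⟨q', c'⟩ e
    have e' := congrArg (fun n : N => (n : G) * x) e
    simp only [hΦ] at e'
    have e2 := congrArg (fun g : G => g ^ k) e'
    simp only [conj_pow, hpow] at e2
    have hm : (q.out⁻¹ * q'.out : N) ∈ C' := by
      rw [Subgroup.mem_subgroupOf, hC]
      refine ⟨(q.out⁻¹ * q'.out : N).2, ?_⟩
      simp only [Subgroup.coe_mul, InvMemClass.coe_inv]
      calc x * ((q.out : G)⁻¹ * q'.out) = (q.out : G)⁻¹ * ((q.out : G) * x * (q.out : G)⁻¹) * q'.out := by
            group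
        _ = _ := by rw [e2]; group
    have hqq : q = q' := by
      rw [← q.out_eq, ← q'.out_eq]
      exact QuotientGroup.eq.2 hm
    subst hqq
    exact Prod.ext rfl (Subtype.ext (mul_right_cancel (mul_left_cancel (mul_right_cancel e'))))
  have hle : C ≤ N := fun c hc => ((hC c).1 hc).1
  have hCC : Nat.card C' = Nat.card C := Nat.card_congr (Subgroup.subgroupOfEquivOfLe hle).toEquiv
  have hcard : Fintype.card ((N ⧸ C') × C) = Fintype.card N := by
    rw [Fintype.card_prod, ← Nat.card_eq_fintype_card, ← Nat.card_eq_fintype_card,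
      ← Nat.card_eq_fintype_card, ← hCC, ← Subgroup.card_eq_card_quotient_mul_card_subgroup]
  have hbij := (Fintype.bijective_iff_injective_and_card Φ).2 ⟨hinj, hcard⟩
  rw [← hbij.sum_comp (fun n : N => f (n * x))]
  simp only [hΦ, fun a b : G => hf b a, Fintype.sum_prod_type, Finset.sum_const, Finset.card_univ,
    ← Nat.card_eq_fintype_card, nsmul_eq_mul]
  rw [← mul_assoc, ← Nat.cast_mul]
  congr 1
  rw [← hCC, mul_comm, ← Subgroup.card_eq_card_quotient_mul_card_subgroup]

theorem classInner_self_le {H : Type u} [Group H] [Fintype H] {ψ : H → ℂ} (h : IsCharacter H ψ) :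
    (classInner ψ ψ).re ≤ (ψ 1).re ^ 2 := by
  have h1 : classInner ψ ψ = (((Nat.card H : ℝ)⁻¹ * ∑ g : H, ‖ψ g‖ ^ 2 : ℝ) : ℂ) := by
    rw [classInner]
    push_cast
    congr 1
    exact Finset.sum_congr rfl fun g _ => Complex.mul_conj' _
  rw [h1, Complex.ofReal_re, inv_mul_le_iff₀ (by exact_mod_cast Nat.card_pos)]
  calc ∑ g : H, ‖ψ g‖ ^ 2 ≤ ∑ _g : H, (ψ 1).re ^ 2 :=
        Finset.sum_le_sum fun g _ => pow_le_pow_left₀ (norm_nonneg _) (char_norm_le h g) 2
    _ = _ := by rw [Finset.sum_const, Finset.card_univ, nsmul_eq_mul, Nat.card_eq_fintype_card]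

/-- A `p`-group acting semiregularly modulo its fixed points centralizes under a faithful character
of degree at most the square root of its order. -/
theorem centralizes_of_small_degree {N P : Subgroup G} [N.Normal]
    (hco : (Nat.card P).Coprime (Nat.card N))
    (hsemi : ∀ x ∈ P, x ≠ 1 → ∀ n ∈ N, x * n = n * x → ∀ y ∈ P, y * n = n * y)
    {n : ℕ} (ρ : Representation ℂ G (Fin n → ℂ)) (hfaith : Function.Injective ρ)
    (hn0 : 0 < n) (hn : n ^ 2 ≤ Nat.card P) {x : G} (hx : x ∈ P) :
    x ∈ Subgroup.centralizer (N : Set G) := by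
  classical
  haveI := Fintype.ofFinite N
  haveI := Fintype.ofFinite P
  set C : Subgroup G := N ⊓ Subgroup.centralizer (P : Set G) with hCdef
  haveI := Fintype.ofFinite C
  have hCN : C ≤ N := inf_le_left
  let ρN : Representation ℂ N (Fin n → ℂ) := ρ.comp N.subtype
  let ρC : Representation ℂ C (Fin n → ℂ) := ρ.comp C.subtype
  set χ := ρ.character with hχ
  have hχc : IsClassFunction G χ := isClassFunction_character (isCharacter_character ρ)
  set s := finrank ℂ (ρN.IntertwiningMap ρN) with hs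
  set R := finrank ℂ (ρC.IntertwiningMap ρC) with hR
  have hfc : IsClassFunction G (fun g => χ g * conj (χ g)) := fun a b => by simp [hχc a b]
  have hsN : (Nat.card N : ℂ) * s = ∑ m : N, χ m * conj (χ m) := by
    rw [hs, ← classInner_rep, classInner, ← mul_assoc,
      mul_inv_cancel₀ (Nat.cast_ne_zero.2 Nat.card_pos.ne'), one_mul]
    rfl
  have hRC : (Nat.card C : ℂ) * R = ∑ c : C, χ c * conj (χ c) := by
    rw [hR, ← classInner_rep, classInner, ← mul_assoc,
      mul_inv_cancel₀ (Nat.cast_ne_zero.2 Nat.card_pos.ne'), one_mul]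
    rfl
  -- the two products
  let φ : P →* MulAut N := (MulAut.conjNormal (H := N)).comp P.subtype
  let H₁ := N ⋊[φ] P
  letI : Fintype H₁ := Fintype.ofEquiv _ SemidirectProduct.equivProd.symm
  let f₁ : H₁ →* G := SemidirectProduct.lift N.subtype P.subtype fun y => by
    ext m
    simp [φ, MulAut.conjNormal_apply]
  obtain ⟨U, hU⟩ := classInner_natCast (isCharacter_comp f₁ (isCharacter_character ρ))
    (isCharacter_comp f₁ (isCharacter_character ρ))
  have hcomm : ∀ (c : C) (y : P), Commute (C.subtype c) (P.subtype y) := fun c y =>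
    (Subgroup.mem_centralizer_iff.1 c.2.2 y y.2).symm
  let f₂ : C × P →* G := MonoidHom.noncommCoprod C.subtype P.subtype hcomm
  obtain ⟨T, hT⟩ := classInner_natCast (isCharacter_comp f₂ (isCharacter_character ρ))
    (isCharacter_comp f₂ (isCharacter_character ρ))
  have hUs : ∑ y : P, ∑ m : N, χ (m * y) * conj (χ (m * y)) =
      (Nat.card N : ℂ) * Nat.card P * U := by
    rw [← hU, classInner, ← mul_assoc, show Nat.card H₁ = Nat.card N * Nat.card P from
      SemidirectProduct.card, Nat.cast_mul, mul_inv_cancel₀ (mul_ne_zero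
        (Nat.cast_ne_zero.2 Nat.card_pos.ne') (Nat.cast_ne_zero.2 Nat.card_pos.ne')), one_mul,
      Finset.sum_comm, ← Fintype.sum_prod_type (fun q : N × P => χ (q.1 * q.2) * conj (χ (q.1 * q.2)))]
    exact (Fintype.sum_equiv SemidirectProduct.equivProd _ _ fun q => rfl).symm
  have hTs : ∑ y : P, ∑ c : C, χ (c * y) * conj (χ (c * y)) =
      (Nat.card C : ℂ) * Nat.card P * T := by
    rw [← hT, classInner, ← mul_assoc, Nat.card_prod, Nat.cast_mul, mul_inv_cancel₀ (mul_ne_zero
        (Nat.cast_ne_zero.2 Nat.card_pos.ne') (Nat.cast_ne_zero.2 Nat.card_pos.ne')), one_mul,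
      Finset.sum_comm, ← Fintype.sum_prod_type (fun q : C × P => χ (q.1 * q.2) * conj (χ (q.1 * q.2)))]
    rfl
  have hkey : ∀ y : P, y ≠ 1 → (Nat.card C : ℂ) * ∑ m : N, χ (m * y) * conj (χ (m * y)) =
      (Nat.card N : ℂ) * ∑ c : C, χ (c * y) * conj (χ (c * y)) := by
    intro y hy
    refine semiprime_coset_sum (fun c => ?_) ?_ hfc
    · refine ⟨fun hc => ⟨hc.1, Subgroup.mem_centralizer_iff.1 hc.2 y y.2⟩, fun hc => ⟨hc.1, ?_⟩⟩
      exact Subgroup.mem_centralizer_iff.2 fun z hz =>
        hsemi y y.2 (fun h => hy (Subtype.ext h)) c hc.1 hc.2 z hz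
    · exact Nat.Coprime.coprime_dvd_left (by
        rw [Subgroup.orderOf_coe]
        exact orderOf_dvd_natCard y) hco
  have hrel : (s : ℂ) + (Nat.card P : ℂ) * T = (R : ℂ) + (Nat.card P : ℂ) * U := by
    have h1 : (Nat.card C : ℂ) * ((Nat.card N : ℂ) * Nat.card P * U) -
        (Nat.card N : ℂ) * ((Nat.card C : ℂ) * Nat.card P * T) =
        (Nat.card C : ℂ) * ((Nat.card N : ℂ) * s) - (Nat.card N : ℂ) * ((Nat.card C : ℂ) * R) := by
      rw [← hUs, ← hTs, hsN, hRC, Finset.mul_sum, Finset.mul_sum, ← Finset.sum_sub_distrib,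
        Finset.sum_eq_single (1 : P) (fun y _ hy => by rw [hkey y hy, sub_self])
          (fun h => absurd (Finset.mem_univ _) h)]
      simp
    have hNC : (Nat.card N : ℂ) * Nat.card C ≠ 0 :=
      mul_ne_zero (Nat.cast_ne_zero.2 Nat.card_pos.ne') (Nat.cast_ne_zero.2 Nat.card_pos.ne')
    refine mul_left_cancel₀ hNC ?_
    linear_combination -h1
  have hbound : ∀ (K : Subgroup G) [Fintype K],
      1 ≤ finrank ℂ (Representation.IntertwiningMap (ρ.comp K.subtype) (ρ.comp K.subtype)) ∧
      finrank ℂ (Representation.IntertwiningMap (ρ.comp K.subtype) (ρ.comp K.subtype)) ≤ n ^ 2 := by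
    intro K _
    have h := classInner_self_le (isCharacter_character (ρ.comp K.subtype : Representation ℂ K _))
    have h1 : (Representation.character (ρ.comp K.subtype : Representation ℂ K _)) 1 = (n : ℂ) := by
      rw [Representation.char_one]
      simp
    rw [classInner_rep, h1, Complex.natCast_re, Complex.natCast_re] at h
    refine ⟨Nat.one_le_iff_ne_zero.2 fun h0 => ?_, by exact_mod_cast h⟩
    have h2 := classInner_rep (ρ.comp K.subtype : Representation ℂ K _) (ρ.comp K.subtype)
    rw [h0, Nat.cast_zero] at h2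
    have h3 := congrFun (classInner_self_eq_zero h2) 1
    rw [h1, Pi.zero_apply, Nat.cast_eq_zero] at h3
    omega
  obtain ⟨hs1, hs2⟩ := hbound N
  obtain ⟨hR1, hR2⟩ := hbound C
  have heq : s = R := by
    have h : s + Nat.card P * T = R + Nat.card P * U := by exact_mod_cast hrel
    rcases Nat.lt_trichotomy U T with hlt | he | hgt
    · have := Nat.mul_le_mul_left (Nat.card P) hlt
      rw [Nat.mul_succ] at this
      change 1 ≤ s at hs1; change R ≤ n ^ 2 at hR2
      omega
    · subst he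
      omega
    · have := Nat.mul_le_mul_left (Nat.card P) hgt
      rw [Nat.mul_succ] at this
      change 1 ≤ R at hR1; change s ≤ n ^ 2 at hs2
      omega
  let L : ρN.IntertwiningMap ρN →ₗ[ℂ] ρC.IntertwiningMap ρC :=
    { toFun := fun f => f.toLinearMap.intertwiningMap_of_isIntertwiningMap ρC ρC fun c v =>
        LinearMap.congr_fun (f.isIntertwining' (⟨c, hCN c.2⟩ : N)) v
      map_add' := fun f g => by ext1; rfl
      map_smul' := fun a f => by ext1; rfl }
  have hLinj : Function.Injective L := fun f g e =>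
    Representation.IntertwiningMap.ext (congrArg (fun h => h.toLinearMap) e)
  have hLsurj := (LinearMap.injective_iff_surjective_of_finrank_eq_finrank (f := L) heq).1 hLinj
  obtain ⟨f, hf⟩ := hLsurj ((ρ x).intertwiningMap_of_isIntertwiningMap ρC ρC fun c v => by
    show ρ x (ρ c v) = ρ c (ρ x v)
    rw [← Module.End.mul_apply, ← Module.End.mul_apply, ← map_mul, ← map_mul,
      Subgroup.mem_centralizer_iff.1 c.2.2 x hx])
  refine Subgroup.mem_centralizer_iff.2 fun m hm => hfaith (LinearMap.ext fun v => ?_)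
  have hfv : ∀ w, f w = ρ x w := fun w =>
    congrFun (congrArg (fun h : ρC.IntertwiningMap ρC => (h : (Fin n → ℂ) → Fin n → ℂ)) hf) w
  have h1 : f (ρ m v) = ρ m (f v) := LinearMap.congr_fun (f.isIntertwining' (⟨m, hm⟩ : N)) v
  rw [map_mul, map_mul, Module.End.mul_apply, Module.End.mul_apply]
  rw [hfv, hfv] at h1
  exact h1.symm

theorem sylow_normal_of_ti_small_degree [hp : Fact p.Prime] (hsolv : IsPSolvable p G) (P : Sylow p G)
    (hTI : ∀ g : G, g ∉ Subgroup.normalizer ((P : Subgroup G) : Set G) →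
      (P : Subgroup G) ⊓ (MulAut.conj g • (P : Subgroup G)) = ⊥)
    {χ : G → ℂ} (hχ : IsCharacter G χ) (hfaith : ∀ g : G, χ g = χ 1 → g = 1)
    (hdeg : charDegree χ ^ 2 ≤ Nat.card ↥(P : Subgroup G)) : (P : Subgroup G).Normal := by
  classical
  by_contra hnn
  obtain ⟨g₀, hg₀⟩ : ∃ g, g ∉ Subgroup.normalizer ((P : Subgroup G) : Set G) := by
    by_contra hno
    push Not at hno
    exact hnn (Subgroup.normalizer_eq_top_iff.1 (eq_top_iff.2 fun g _ => hno g))
  obtain ⟨n, ρ, rfl⟩ := hχ
  have hinj : Function.Injective ρ := by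
    intro a b e
    have : ρ (a⁻¹ * b) = 1 := by rw [map_mul, ← e, ← map_mul, inv_mul_cancel, map_one]
    exact (inv_mul_eq_one.1 (hfaith _ (by simp [Representation.character, this])))
  have hdn : charDegree ρ.character = n := by
    rw [charDegree_eq_deg]
    apply Nat.cast_injective (R := ℂ)
    rw [← char_one_eq_deg (isCharacter_character ρ), Representation.char_one]
    simp
  rw [hdn] at hdeg
  have hn0 : 0 < n := by
    refine Nat.pos_of_ne_zero fun h => hnn ?_
    subst h
    have hone : ∀ g : G, g = 1 := fun g => hinj (LinearMap.ext fun v => Subsingleton.elim _ _)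
    exact ⟨fun a ha b => by rw [hone b]; simpa using ha⟩
  have hcore : pCore p G = ⊥ := by
    have hC := Solv.pCore_normal (G := G) p
    have hle : pCore p G ≤ (P : Subgroup G) := sup_eq_right.mp
      (P.is_maximal' ((Fusion.isPGroup_pCore p G).to_sup_of_normal_left P.isPGroup') le_sup_right)
    refine le_bot_iff.1 ((le_inf hle ?_).trans (hTI g₀ hg₀).le)
    intro a ha
    rw [Subgroup.mem_pointwise_smul_iff_inv_smul_mem]
    exact hle (by simpa using hC.conj_mem a ha g₀⁻¹)
  set N := pPrimeCore p G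
  haveI : N.Normal := Solv.pPrimeCore_normal p
  have hNp : (Nat.card N).Coprime p := Fusion.card_pPrimeCore_coprime p G
  obtain ⟨k, hk⟩ := IsPGroup.iff_card.1 P.isPGroup'
  have hco : (Nat.card (P : Subgroup G)).Coprime (Nat.card N) := hk ▸ (hNp.symm.pow_left k)
  have hdisj : (P : Subgroup G) ⊓ N = ⊥ := Subgroup.inf_eq_bot_of_coprime hco
  have hsemi : ∀ x ∈ (P : Subgroup G), x ≠ 1 → ∀ m ∈ N, x * m = m * x →
      ∀ y ∈ (P : Subgroup G), y * m = m * y := by
    intro x hx hx1 m hm hxm y hy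
    have hnorm : m ∈ Subgroup.normalizer ((P : Subgroup G) : Set G) := by
      by_contra h
      have hmem : x ∈ (P : Subgroup G) ⊓ MulAut.conj m • (P : Subgroup G) := by
        refine Subgroup.mem_inf.2 ⟨hx, ?_⟩
        rw [Subgroup.mem_pointwise_smul_iff_inv_smul_mem]
        simp [mul_assoc, hxm, hx]
      rw [hTI m h] at hmem
      exact hx1 (Subgroup.mem_bot.1 hmem)
    have h1 : y * m * y⁻¹ * m⁻¹ ∈ (P : Subgroup G) ⊓ N := by
      refine Subgroup.mem_inf.2 ⟨?_, mul_mem (Subgroup.Normal.conj_mem ‹_› m hm y) (inv_mem hm)⟩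
      rw [show y * m * y⁻¹ * m⁻¹ = y * (m * y⁻¹ * m⁻¹) by group]
      exact mul_mem hy ((Subgroup.mem_normalizer_iff.1 hnorm _).1 (inv_mem hy))
    rw [hdisj, Subgroup.mem_bot] at h1
    calc y * m = y * m * y⁻¹ * m⁻¹ * (m * y) := by group
      _ = m * y := by rw [h1, one_mul]
  have hPN : (P : Subgroup G) ≤ N := fun x hx =>
    Solv.centralizer_pPrimeCore_le hsolv hcore
      (centralizes_of_small_degree hco hsemi ρ hinj hn0 hdeg hx)
  rw [inf_eq_left.2 hPN] at hdisj
  exact hnn (hdisj ▸ inferInstance)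

end Cfsg.Agent.Char
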