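import Cfsg.Agent.Lib.Char.Knorr
import Cfsg.Agent.Lib.Char.Basic
import Cfsg.Agent.Lib.Char.LocalRing
import Cfsg.Agent.Lib.Char.Indicator
import Mathlib

/-!
# Small characters of groups with a trivial-intersection Sylow subgroup

If the square of the degree is at most the order of a Sylow `p`-subgroup meeting its
conjugates trivially, the endomorphisms fixed by an overgroup of the normalizer are fixed by
the whole group.
-/

set_option autoImplicit false
set_option linter.unusedSectionVars false
set_option linter.style.haveILetI false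

namespace Cfsg.Agent.Char.TISmall

open Cfsg Module Matrix
open scoped Pointwise ComplexConjugate

universe u

section Translates

variable {k : Type*} [Field k] {p : ℕ} [Fact p.Prime] {Q : Type*} [Group Q] [Fintype Q] {s : ℕ}
  (R : Q →* Matrix (Fin s) (Fin s) k)

theorem conj_conj {G : Type*} [Group G] {S : Type*} [CommRing S] (T : G →* Matrix (Fin s) (Fin s) S)
    (a b : G) (X : Matrix (Fin s) (Fin s) S) :
    T (a * b) * X * T (a * b)⁻¹ = T a * (T b * X * T b⁻¹) * T a⁻¹ := by
  rw [_root_.mul_inv_rev, map_mul, map_mul]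
  simp only [Matrix.mul_assoc]

/-- Shifting the coefficients is conjugation. -/
theorem sum_shift (X : Matrix (Fin s) (Fin s) k) (v : Q) (a : Q → k) :
    ∑ w, a (v⁻¹ * w) • (R w * X * R w⁻¹) = R v * (∑ w, a w • (R w * X * R w⁻¹)) * R v⁻¹ := by
  rw [Finset.mul_sum, Finset.sum_mul]
  refine (Fintype.sum_equiv (Equiv.mulLeft v) _ _ fun w => ?_).symm
  rw [Equiv.coe_mulLeft, inv_mul_cancel_left, conj_conj R v w, Matrix.mul_smul, Matrix.smul_mul]

/-- When `p` kills the field, the sum of the conjugates under a `p`-group of order at least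
`s * s` is a scalar matrix. -/
theorem trace_scalar (hpk : (p : k) = 0) (hQ : IsPGroup p Q) (hs : s * s ≤ Fintype.card Q)
    (X : Matrix (Fin s) (Fin s) k) :
    ∃ c : k, ∑ u, R u * X * R u⁻¹ = c • (1 : Matrix (Fin s) (Fin s) k) := by
  classical
  haveI : CharP k p := (CharP.charP_iff_prime_eq_zero Fact.out).mpr hpk
  set z : Q → Matrix (Fin s) (Fin s) k := fun u => R u * X * R u⁻¹ with hz
  by_cases hli : LinearIndependent k z
  · have hfin : Module.finrank k (Matrix (Fin s) (Fin s) k) = s * s := by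
      rw [Module.finrank_matrix]; simp
    have hcard : Fintype.card Q = Module.finrank k (Matrix (Fin s) (Fin s) k) :=
      le_antisymm hli.fintype_card_le_finrank (hfin ▸ hs)
    have htop := hli.span_eq_top_of_card_eq_finrank hcard
    obtain ⟨a, ha⟩ := Submodule.mem_span_range_iff_exists_fun k |>.mp
      (show (1 : Matrix (Fin s) (Fin s) k) ∈ Submodule.span k (Set.range z) by
        rw [htop]; trivial)
    have hconst : ∀ u, a u = a 1 := by
      intro u
      have h0 : ∑ w, (a (u⁻¹ * w) - a w) • z w = 0 := by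
        simp only [sub_smul, Finset.sum_sub_distrib, hz] at ha ⊢
        rw [sum_shift, ha, Matrix.mul_one, ← map_mul, mul_inv_cancel, map_one, sub_self]
      have := Fintype.linearIndependent_iff.mp hli _ h0 u
      rw [inv_mul_cancel, sub_eq_zero] at this
      exact this.symm
    have h1 : (1 : Matrix (Fin s) (Fin s) k) = a 1 • ∑ u, z u := by
      rw [← ha, Finset.smul_sum]
      exact Finset.sum_congr rfl fun u _ => by rw [hconst u]
    rcases eq_or_ne (a 1) 0 with h | h
    · rw [h, zero_smul] at h1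
      refine ⟨0, ?_⟩
      rw [← mul_one (∑ u, R u * X * R u⁻¹), h1]
      simp
    · exact ⟨(a 1)⁻¹, by rw [h1, smul_smul, inv_mul_cancel₀ h, one_smul]⟩
  · obtain ⟨a, ha, i, hi⟩ := Fintype.not_linearIndependent_iff.mp hli
    let cast : ZMod p →+* k := ZMod.castHom dvd_rfl k
    let Φ : (Q → ZMod p) →+ (Q → k) :=
      { toFun := fun c w => ∑ v, cast (c v) * a (v⁻¹ * w)
        map_zero' := by funext w; simp
        map_add' := fun c d => by funext w; simp [add_mul, Finset.sum_add_distrib] }
    have hΦrel : ∀ c, ∑ w, Φ c w • z w = 0 := by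
      intro c
      show ∑ w, (∑ v, cast (c v) * a (v⁻¹ * w)) • z w = 0
      simp only [Finset.sum_smul, mul_smul]
      rw [Finset.sum_comm]
      refine Finset.sum_eq_zero fun v _ => ?_
      rw [← Finset.smul_sum]
      simp only [hz] at ha ⊢
      rw [sum_shift, ha]
      simp
    have hshift : ∀ (v : Q) c, (fun w => Φ c (v⁻¹ * w)) = Φ fun u => c (v⁻¹ * u) := by
      intro v c
      funext w
      show ∑ u, cast (c u) * a (u⁻¹ * (v⁻¹ * w)) = ∑ u, cast (c (v⁻¹ * u)) * a (u⁻¹ * w)
      refine Fintype.sum_equiv (Equiv.mulLeft v) _ _ fun u => ?_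
      simp [mul_assoc]
    letI : MulAction Q Φ.range :=
      { smul := fun v x => ⟨fun w => x.1 (v⁻¹ * w), by
          obtain ⟨c, hc⟩ := x.2
          exact ⟨fun u => c (v⁻¹ * u), by rw [← hshift, hc]⟩⟩
        one_smul := fun x => Subtype.ext (funext fun w => show x.1 (1⁻¹ * w) = x.1 w by simp)
        mul_smul := fun v v' x => Subtype.ext (funext fun w =>
          show x.1 ((v * v')⁻¹ * w) = x.1 (v'⁻¹ * (v⁻¹ * w)) by simp [mul_assoc]) }
    haveI : Finite Φ.range := Finite.of_surjective _ Φ.rangeRestrict_surjective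
    have haA : a ∈ Φ.range := ⟨Pi.single 1 1, by
      funext w
      show ∑ v, cast ((Pi.single 1 1 : Q → ZMod p) v) * a (v⁻¹ * w) = a w
      rw [Finset.sum_eq_single (1 : Q)] <;> simp +contextual [Pi.single_apply]⟩
    have hord : addOrderOf (⟨a, haA⟩ : Φ.range) = p := by
      refine addOrderOf_eq_prime (Subtype.ext (funext fun w => ?_)) fun e => ?_
      · show p • a w = 0
        rw [nsmul_eq_mul, hpk, zero_mul]
      · exact hi (congrFun (congrArg Subtype.val e) i)
    have hdvd : p ∣ Nat.card Φ.range := by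
      have h := addOrderOf_dvd_natCard (⟨a, haA⟩ : Φ.range)
      rwa [hord] at h
    obtain ⟨b, hb, hb0⟩ := hQ.exists_fixed_point_of_prime_dvd_card_of_fixed_point Φ.range hdvd
      (a := 0) (fun v => Subtype.ext (funext fun w => rfl))
    have hconst : ∀ u, b.1 u = b.1 1 := by
      intro u
      have := congrFun (congrArg Subtype.val (hb u)) u
      change b.1 (u⁻¹ * u) = b.1 u at this
      rw [inv_mul_cancel] at this
      exact this.symm
    have hb1 : b.1 1 ≠ 0 := fun e => hb0 (Subtype.ext (funext fun u => by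
      rw [hconst u, e]; rfl))
    obtain ⟨c, hc⟩ := b.2
    have h := hΦrel c
    rw [hc] at h
    simp only [hconst, ← Finset.smul_sum] at h
    exact ⟨0, by rw [zero_smul]; exact (smul_eq_zero.mp h).resolve_left hb1⟩

/-- An equivariant family over a set on which the group has one fixed point and is otherwise
free sums to the value at the fixed point plus a scalar. -/
theorem sum_eq_fixed_add_scalar (hpk : (p : k) = 0) (hQ : IsPGroup p Q)
    (hs : s * s ≤ Fintype.card Q) {X : Type*} [Fintype X] [MulAction Q X] (x0 : X)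
    (hx0 : ∀ u : Q, u • x0 = x0) (hfree : ∀ (u : Q) x, x ≠ x0 → u • x = x → u = 1)
    (f : X → Matrix (Fin s) (Fin s) k) (hf : ∀ (u : Q) x, f (u • x) = R u * f x * R u⁻¹) :
    ∃ c : k, ∑ x, f x = f x0 + c • (1 : Matrix (Fin s) (Fin s) k) := by
  classical
  set S : Finset X := Finset.univ.erase x0 with hS
  have key : ∀ a ∈ S.image (fun x => MulAction.orbit Q x),
      ∃ c : k, ∑ x ∈ S.filter (fun x => MulAction.orbit Q x = a), f x =
        c • (1 : Matrix (Fin s) (Fin s) k) := by
    intro a ha
    obtain ⟨x, hx, rfl⟩ := Finset.mem_image.1 ha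
    have hx' : x ≠ x0 := (Finset.mem_erase.1 hx).1
    obtain ⟨c, hc⟩ := trace_scalar R hpk hQ hs (f x)
    refine ⟨c, ?_⟩
    rw [← hc]
    symm
    refine Finset.sum_bij (fun u _ => u • x) (fun u _ => ?_) (fun u _ v _ h => ?_)
      (fun y hy => ?_) (fun u _ => (hf u x).symm)
    · refine Finset.mem_filter.2 ⟨Finset.mem_erase.2 ⟨fun e => hx' ?_, Finset.mem_univ _⟩,
        MulAction.orbit_smul u x⟩
      rw [← inv_smul_smul u x, e, hx0]
    · have := hfree (v⁻¹ * u) x hx' (by rw [mul_smul, h, inv_smul_smul])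
      exact (inv_mul_eq_one.mp this).symm
    · obtain ⟨u, hu⟩ : y ∈ MulAction.orbit Q x := by
        rw [← (Finset.mem_filter.1 hy).2]; exact MulAction.mem_orbit_self y
      exact ⟨u, Finset.mem_univ _, hu⟩
  choose! c hc using key
  refine ⟨∑ a ∈ S.image (fun x => MulAction.orbit Q x), c a, ?_⟩
  rw [← Finset.add_sum_erase _ _ (Finset.mem_univ x0), Finset.sum_smul]
  congr 1
  rw [← Finset.sum_fiberwise_of_maps_to (t := S.image (fun x => MulAction.orbit Q x))
    (g := fun x => MulAction.orbit Q x) (fun x hx => Finset.mem_image_of_mem _ hx) f]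
  exact Finset.sum_congr rfl hc

end Translates

section Cosets

variable {G : Type u} [Group G] [Fintype G] {s : ℕ} {S : Type*} [CommRing S]
  (R : G →* Matrix (Fin s) (Fin s) S) (H : Subgroup G)

/-- The conjugate of a fixed matrix belonging to a coset. -/
noncomputable def cosetConj (y : Matrix (Fin s) (Fin s) S) (x : G ⧸ H) :
    Matrix (Fin s) (Fin s) S :=
  R x.out * y * R x.out⁻¹

/-- The sum of the conjugates over the cosets. -/
noncomputable def cosetSum (y : Matrix (Fin s) (Fin s) S) : Matrix (Fin s) (Fin s) S :=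
  haveI := Fintype.ofFinite (G ⧸ H)
  ∑ x : G ⧸ H, cosetConj R H y x

theorem conj_eq_of_commute {y : Matrix (Fin s) (Fin s) S} {g : G} (h : R g * y = y * R g) :
    R g * y * R g⁻¹ = y := by
  rw [h, Matrix.mul_assoc, ← map_mul, mul_inv_cancel, map_one, Matrix.mul_one]

theorem commute_of_conj_eq {y : Matrix (Fin s) (Fin s) S} {g : G} (h : R g * y * R g⁻¹ = y) :
    R g * y = y * R g := by
  nth_rewrite 2 [← h]
  rw [Matrix.mul_assoc _ (R g⁻¹), ← map_mul, inv_mul_cancel, map_one, Matrix.mul_one]

variable {H} {y : Matrix (Fin s) (Fin s) S}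

theorem cosetConj_mk (hy : ∀ h ∈ H, R h * y = y * R h) (g : G) :
    cosetConj R H y (g : G ⧸ H) = R g * y * R g⁻¹ := by
  obtain ⟨h, hh⟩ := QuotientGroup.mk_out_eq_mul H g
  rw [cosetConj, hh, conj_conj, conj_eq_of_commute R (hy h h.2)]

theorem cosetConj_smul (hy : ∀ h ∈ H, R h * y = y * R h) (g : G) (x : G ⧸ H) :
    cosetConj R H y (g • x) = R g * cosetConj R H y x * R g⁻¹ := by
  induction x using QuotientGroup.induction_on with
  | H a => rw [MulAction.Quotient.smul_mk, smul_eq_mul, cosetConj_mk R hy, cosetConj_mk R hy,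
      conj_conj]

theorem cosetSum_commute (hy : ∀ h ∈ H, R h * y = y * R h) (g : G) :
    R g * cosetSum R H y = cosetSum R H y * R g := by
  letI := Fintype.ofFinite (G ⧸ H)
  refine commute_of_conj_eq R ?_
  show R g * (∑ x : G ⧸ H, cosetConj R H y x) * R g⁻¹ = ∑ x : G ⧸ H, cosetConj R H y x
  rw [Finset.mul_sum, Finset.sum_mul]
  exact Fintype.sum_equiv (MulAction.toPerm g) _ _ fun x => (cosetConj_smul R hy g x).symm

theorem cosetSum_of_commute (hy : ∀ g, R g * y = y * R g) :
    cosetSum R H y = (H.index : S) • y := by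
  letI := Fintype.ofFinite (G ⧸ H)
  show ∑ x : G ⧸ H, cosetConj R H y x = _
  simp only [cosetConj, conj_eq_of_commute R (hy _)]
  rw [Finset.sum_const, Finset.card_univ, ← Nat.card_eq_fintype_card, Nat.cast_smul_eq_nsmul]
  rfl

theorem cosetSum_sub (y y' : Matrix (Fin s) (Fin s) S) :
    cosetSum R H (y - y') = cosetSum R H y - cosetSum R H y' := by
  simp [cosetSum, cosetConj, Matrix.mul_sub, Matrix.sub_mul, Finset.sum_sub_distrib]

theorem cosetSum_smul (c : S) (y : Matrix (Fin s) (Fin s) S) :
    cosetSum R H (c • y) = c • cosetSum R H y := by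
  simp [cosetSum, cosetConj, Finset.smul_sum]

theorem cosetSum_map {T : Type*} [CommRing T] (φ : S →+* T) (y : Matrix (Fin s) (Fin s) S) :
    cosetSum (φ.mapMatrix.toMonoidHom.comp R) H (φ.mapMatrix y) =
      φ.mapMatrix (cosetSum R H y) := by
  simp only [cosetSum, cosetConj, MonoidHom.comp_apply, RingHom.toMonoidHom_eq_coe,
    MonoidHom.coe_coe, map_sum, map_mul]

end Cosets

section TI

variable {G : Type u} [Group G] [Fintype G] {p : ℕ} [Fact p.Prime] (P : Sylow p G)
  (hTI : ∀ g : G, g ∉ Subgroup.normalizer ((P : Subgroup G) : Set G) →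
    (P : Subgroup G) ⊓ (MulAut.conj g • (P : Subgroup G)) = ⊥)
  (H : Subgroup G) (hH : Subgroup.normalizer ((P : Subgroup G) : Set G) ≤ H)

include hH in
theorem index_not_dvd : ¬ p ∣ H.index := fun h =>
  P.not_dvd_index (h.trans (Subgroup.index_dvd_of_le (Subgroup.le_normalizer.trans hH)))

include hTI hH in
/-- A trivial-intersection Sylow subgroup acts freely on the non-trivial cosets of an overgroup
of its normalizer. -/
theorem free_on_cosets (u : (P : Subgroup G)) (x : G ⧸ H) (hx : x ≠ ((1 : G) : G ⧸ H))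
    (hux : u • x = x) : u = 1 := by
  induction x using QuotientGroup.induction_on with
  | H a =>
    have hPH : (P : Subgroup G) ≤ H := Subgroup.le_normalizer.trans hH
    have ha : a ∉ H := fun h => hx (QuotientGroup.eq.mpr (by simpa using h))
    have hw : a⁻¹ * (u : G) * a ∈ H := by
      have e : (((u : G) * a : G) : G ⧸ H) = (a : G ⧸ H) := hux
      have := H.inv_mem (QuotientGroup.eq.mp e)
      simpa [mul_assoc] using this
    set w : H := ⟨_, hw⟩ with hwdef
    have hwp : IsPGroup p (Subgroup.zpowers w) := by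
      obtain ⟨n, hn⟩ := P.isPGroup' u
      refine IsPGroup.of_card (n := (orderOf w).factorization p) ?_
      rw [Nat.card_zpowers]
      obtain ⟨i, -, hi⟩ := (Nat.dvd_prime_pow (Fact.out : p.Prime)).mp
        (show orderOf w ∣ p ^ n by
          rw [← Subgroup.orderOf_coe w, orderOf_dvd_iff_pow_eq_one]
          have hu : (u : G) ^ p ^ n = 1 := by
            rw [← SubmonoidClass.coe_pow, hn]; rfl
          show (a⁻¹ * (u : G) * a) ^ p ^ n = 1
          have := conj_pow (i := p ^ n) (a := a⁻¹) (b := (u : G))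
          rw [inv_inv] at this
          rw [this, hu]
          group)
      rw [hi, (Fact.out : p.Prime).factorization_pow, Finsupp.single_eq_same]
    obtain ⟨T, hT⟩ := hwp.exists_le_sylow
    obtain ⟨h, hh⟩ := MulAction.exists_smul_eq H (P.subtype hPH) T
    have hwT : w ∈ (T : Subgroup H) := hT (Subgroup.mem_zpowers w)
    rw [← hh, Sylow.coe_subgroup_smul, Subgroup.mem_smul_pointwise_iff_exists] at hwT
    obtain ⟨v, hv, hvw⟩ := hwT
    have hv' : (v : G) ∈ (P : Subgroup G) := hv
    have hvw' : (h : G) * (v : G) * (h : G)⁻¹ = a⁻¹ * (u : G) * a :=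
      congrArg Subtype.val hvw
    have hbot := hTI (a * h) fun hn => ha (by
      have := H.mul_mem (hH hn) (H.inv_mem h.2)
      simpa using this)
    refine Subtype.ext ?_
    have hmem : (u : G) ∈ (P : Subgroup G) ⊓ (MulAut.conj (a * (h : G)) • (P : Subgroup G)) := by
      refine ⟨u.2, ?_⟩
      show (u : G) ∈ MulAut.conj (a * (h : G)) • (P : Subgroup G)
      rw [Subgroup.mem_smul_pointwise_iff_exists]
      refine ⟨v, hv', ?_⟩
      rw [MulAut.smul_def, MulAut.conj_apply, _root_.mul_inv_rev,
        show a * (h : G) * (v : G) * ((h : G)⁻¹ * a⁻¹) = a * ((h : G) * (v : G) * (h : G)⁻¹) * a⁻¹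
          by group, hvw']
      group
    rw [hbot] at hmem
    simpa using hmem

variable {k : Type*} [Field k] {s : ℕ} (R : G →* Matrix (Fin s) (Fin s) k)

include hTI hH in
theorem eq_zero_of_cosetSum_eq_zero (hpk : (p : k) = 0)
    (hs : s * s ≤ Nat.card (P : Subgroup G)) {y : Matrix (Fin s) (Fin s) k}
    (hy : ∀ h ∈ H, R h * y = y * R h) (h0 : cosetSum R H y = 0) : y = 0 := by
  classical
  letI := Fintype.ofFinite (G ⧸ H)
  haveI := Fintype.ofFinite (P : Subgroup G)
  obtain ⟨c, hc⟩ := sum_eq_fixed_add_scalar (R.comp (P : Subgroup G).subtype) hpk P.isPGroup'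
    (by rwa [← Nat.card_eq_fintype_card]) ((1 : G) : G ⧸ H)
    (fun u => by
      show (((u : G) * 1 : G) : G ⧸ H) = _
      exact QuotientGroup.eq.mpr (by
        simpa using H.inv_mem (Subgroup.le_normalizer.trans hH u.2)))
    (free_on_cosets P hTI H hH) (cosetConj R H y) (fun u x => cosetConj_smul R hy (u : G) x)
  have hsum : cosetSum R H y = ∑ x : G ⧸ H, cosetConj R H y x := rfl
  rw [← hsum, h0, cosetConj_mk R hy] at hc
  simp only [inv_one, map_one, Matrix.one_mul, Matrix.mul_one] at hc
  have hyc : y = (-c) • (1 : Matrix (Fin s) (Fin s) k) := by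
    rw [neg_smul]; exact eq_neg_of_add_eq_zero_left hc.symm
  have hfix : ∀ g, R g * y = y * R g := fun g => by rw [hyc]; simp
  have hidx : (H.index : k) ≠ 0 := by
    haveI : CharP k p := (CharP.charP_iff_prime_eq_zero Fact.out).mpr hpk
    rw [Ne, CharP.cast_eq_zero_iff k p]
    exact index_not_dvd P H hH
  rw [cosetSum_of_commute R hfix] at h0
  exact (smul_eq_zero.mp h0).resolve_left hidx

end TI

section Complex

variable {G : Type u} [Group G] [Fintype G] {s : ℕ} (A : G →* Matrix (Fin s) (Fin s) ℂ)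

/-- Conjugation by `g`, as a linear map. -/
noncomputable def conjMap (g : G) :
    Matrix (Fin s) (Fin s) ℂ →ₗ[ℂ] Matrix (Fin s) (Fin s) ℂ where
  toFun M := A g * M * A g⁻¹
  map_add' M M' := by rw [mul_add, add_mul]
  map_smul' c M := by simp

theorem trace_conjMap (g : G) :
    LinearMap.trace ℂ _ (conjMap A g) = (A g).trace * (A g⁻¹).trace := by
  rw [trace_matrix_end, Matrix.trace, Matrix.trace, Finset.sum_mul_sum]
  refine Finset.sum_congr rfl fun k _ => Finset.sum_congr rfl fun l _ => ?_
  show (A g * Matrix.single k l (1 : ℂ) * A g⁻¹ : Matrix (Fin s) (Fin s) ℂ) k l = _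
  simp [Matrix.mul_apply, Matrix.single_apply, ite_and]

/-- If the matrices fixed by `H` are fixed by `G`, the norms agree. -/
theorem classInner_eq {χ : G → ℂ} (hA : ∀ g, (A g).trace = χ g) (hχ : IsCharacter G χ)
    (H : Subgroup G) [Fintype H]
    (hfix : ∀ Y : Matrix (Fin s) (Fin s) ℂ, (∀ h ∈ H, A h * Y = Y * A h) →
      ∀ g, A g * Y = Y * A g) :
    classInner χ χ = classInner (fun h : H => χ h) (fun h : H => χ h) := by
  have hmap : (Nat.card G : ℂ)⁻¹ • ∑ g : G, conjMap A g =
      (Nat.card H : ℂ)⁻¹ • ∑ h : H, conjMap A (h : G) := by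
    refine LinearMap.ext fun X => ?_
    simp only [LinearMap.smul_apply, LinearMap.sum_apply]
    show (Nat.card G : ℂ)⁻¹ • ∑ g : G, A g * X * A g⁻¹ =
      (Nat.card H : ℂ)⁻¹ • ∑ h : H, A h * X * A (h : G)⁻¹
    set Z := (Nat.card H : ℂ)⁻¹ • ∑ h : H, A h * X * A (h : G)⁻¹ with hZ
    have hG : (Nat.card G : ℂ) ≠ 0 := Nat.cast_ne_zero.mpr Nat.card_pos.ne'
    have hHc : (Nat.card H : ℂ) ≠ 0 := Nat.cast_ne_zero.mpr Nat.card_pos.ne'
    have hZH : ∀ h ∈ H, A h * Z = Z * A h := fun a ha => by
      refine commute_of_conj_eq A ?_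
      rw [hZ, Matrix.mul_smul, Matrix.smul_mul, Finset.mul_sum, Finset.sum_mul]
      congr 1
      refine Fintype.sum_equiv (Equiv.mulLeft (⟨a, ha⟩ : H)) _ _ fun h => ?_
      exact (conj_conj A a (h : G) X).symm
    have e : ∑ g : G, A g * Z * A g⁻¹ = (Nat.card G : ℂ) • Z := by
      simp only [conj_eq_of_commute A (hfix Z hZH _)]
      rw [Finset.sum_const, Finset.card_univ, Nat.card_eq_fintype_card, Nat.cast_smul_eq_nsmul]
    have e' : ∑ g : G, A g * Z * A g⁻¹ = ∑ g : G, A g * X * A g⁻¹ := by
      simp only [hZ, Matrix.mul_smul, Matrix.smul_mul, Finset.mul_sum, Finset.sum_mul,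
        ← conj_conj A]
      rw [← Finset.smul_sum, Finset.sum_comm]
      have hin : ∀ h : H, ∑ g : G, A (g * h) * X * A (g * h)⁻¹ = ∑ g : G, A g * X * A g⁻¹ :=
        fun h => Fintype.sum_equiv (Equiv.mulRight (h : G)) _ _ fun g => rfl
      simp only [hin]
      rw [Finset.sum_const, Finset.card_univ, ← Nat.card_eq_fintype_card,
        ← Nat.cast_smul_eq_nsmul ℂ, smul_smul, inv_mul_cancel₀ hHc, one_smul]
    rw [← e', e, smul_smul, inv_mul_cancel₀ hG, one_smul]
  have := congrArg (LinearMap.trace ℂ _) hmap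
  simp only [map_smul, map_sum, trace_conjMap, hA, char_inv hχ, smul_eq_mul] at this
  exact this

end Complex

/-- **Restriction of a small character to an overgroup of the normalizer of a
trivial-intersection Sylow subgroup preserves its norm.** -/
theorem classInner_restrict {G : Type u} [Group G] [Fintype G] {p : ℕ} [Fact p.Prime]
    (P : Sylow p G)
    (hTI : ∀ g : G, g ∉ Subgroup.normalizer ((P : Subgroup G) : Set G) →
      (P : Subgroup G) ⊓ (MulAut.conj g • (P : Subgroup G)) = ⊥)
    {χ : G → ℂ} (hχ : IsCharacter G χ) (hdeg : charDegree χ ^ 2 ≤ Nat.card (P : Subgroup G))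
    (H : Subgroup G) [Fintype H] (hH : Subgroup.normalizer ((P : Subgroup G) : Set G) ≤ H) :
    classInner χ χ = classInner (fun h : H => χ h) (fun h : H => χ h) := by
  classical
  obtain ⟨M, hM⟩ := exists_pModular (Fact.out : p.Prime)
  obtain ⟨V, -, hpV⟩ := exists_valuation hM
  obtain ⟨n, ρ, hρ⟩ := id hχ
  obtain ⟨s, R, htr, -⟩ := exists_matrix_form V ρ
  set A : G →* Matrix (Fin s) (Fin s) ℂ := V.subtype.mapMatrix.toMonoidHom.comp R with hAdef
  have hA : ∀ g, (A g).trace = χ g := fun g => by
    rw [← hρ]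
    show _ = LinearMap.trace ℂ _ (ρ g)
    rw [htr g]
    exact (AddMonoidHom.map_trace V.subtype.toAddMonoidHom (R g)).symm
  have hs : s * s ≤ Nat.card (P : Subgroup G) := by
    have h1 : charDegree χ = s := by
      rw [charDegree, ← hA 1, map_one, Matrix.trace_one]; simp
    rwa [h1, sq] at hdeg
  refine classInner_eq A hA hχ H fun Y hY => ?_
  set T := (H.index : ℂ)⁻¹ • cosetSum A H Y with hT
  have hTfix : ∀ g, A g * T = T * A g := fun g => by
    rw [hT, Matrix.mul_smul, Matrix.smul_mul, cosetSum_commute A hY]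
  have hidx : (H.index : ℂ) ≠ 0 := Nat.cast_ne_zero.mpr Subgroup.index_ne_zero_of_finite
  have h0 : cosetSum A H (Y - T) = 0 := by
    rw [cosetSum_sub, cosetSum_of_commute A hTfix, hT, smul_smul, mul_inv_cancel₀ hidx, one_smul,
      sub_self]
  suffices hz : Y - T = 0 by
    intro g
    rw [sub_eq_zero.mp hz]
    exact hTfix g
  by_contra hne
  set Z := Y - T with hZ
  obtain ⟨i0, j0, hij⟩ : ∃ i j, Z i j ≠ 0 := by
    by_contra hcon
    push Not at hcon
    exact hne (by ext i j; simpa using hcon i j)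
  obtain ⟨⟨i, j⟩, -, hmax⟩ := Finset.univ.exists_max_image
    (fun x : Fin s × Fin s => V.valuation (Z x.1 x.2)) ⟨(i0, j0), Finset.mem_univ _⟩
  have hzij : Z i j ≠ 0 := fun e => by
    have := hmax (i0, j0) (Finset.mem_univ _)
    simp only [e, map_zero, le_zero_iff, map_eq_zero] at this
    exact hij this
  have hmem : ∀ a b, (Z i j)⁻¹ * Z a b ∈ V := fun a b => by
    rw [← V.valuation_le_one_iff, map_mul, map_inv₀]
    exact (inv_mul_le_one₀ (zero_lt_iff.mpr (by simpa using hzij))).mpr
      (hmax (a, b) (Finset.mem_univ _))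
  set y : Matrix (Fin s) (Fin s) V := Matrix.of fun a b => ⟨_, hmem a b⟩ with hy
  have hyZ : V.subtype.mapMatrix y = (Z i j)⁻¹ • Z := by
    ext a b; rfl
  have hinj : Function.Injective (V.subtype.mapMatrix :
      Matrix (Fin s) (Fin s) V → Matrix (Fin s) (Fin s) ℂ) :=
    Matrix.map_injective Subtype.val_injective
  have hyH : ∀ h ∈ H, R h * y = y * R h := fun h hh => hinj (by
    rw [map_mul, map_mul, hyZ, Matrix.mul_smul, Matrix.smul_mul]
    congr 1
    show A h * (Y - T) = (Y - T) * A h
    rw [Matrix.mul_sub, Matrix.sub_mul, hY h hh, hTfix h])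
  have hy0 : cosetSum R H y = 0 := hinj (by
    rw [← cosetSum_map, hyZ, map_zero, ← hAdef, cosetSum_smul, h0, smul_zero])
  set res := IsLocalRing.residue V with hres
  have hpk : (p : IsLocalRing.ResidueField V) = 0 := by
    rw [← map_natCast res]
    exact (IsLocalRing.residue_eq_zero_iff _).mpr hpV
  have hzero := eq_zero_of_cosetSum_eq_zero P hTI H hH (res.mapMatrix.toMonoidHom.comp R) hpk hs
    (y := res.mapMatrix y)
    (fun h hh => by
      show res.mapMatrix (R h) * res.mapMatrix y = res.mapMatrix y * res.mapMatrix (R h)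
      rw [← map_mul, ← map_mul, hyH h hh])
    (by rw [cosetSum_map, hy0, map_zero])
  have h1 : res (y i j) = 0 := congrFun (congrFun hzero i) j
  have h2 : y i j = 1 := Subtype.ext (inv_mul_cancel₀ hzij)
  rw [h2, map_one] at h1
  exact one_ne_zero h1

end Cfsg.Agent.Char.TISmall
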