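import Cfsg.Agent.Lib.Small.SLnBlocks
import Cfsg.Agent.Lib.Char.Osima
import Cfsg.Agent.Lib.Char.Q8Columns
import Cfsg.Agent.Lib.Char.ThirdMain
import Cfsg.Agent.Lib.Char.LocalRing

/-!
# Simple groups of order `p^a q^b r`: no element of order `p r`

The weak orthogonality relation of the principal `p`-block at such an element would express `1` as
a multiple of `q` in the algebraic integers: characters of degree divisible by `r` vanish there,
and characters of `p`-power degree are outside the principal block.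
-/

set_option autoImplicit false
set_option linter.unusedSectionVars false

namespace Cfsg.Agent.Char.ThreePrimeCentral

open Cfsg Cfsg.Agent.Char Module
open scoped ComplexConjugate

universe u

variable {G : Type u} [Group G] [Finite G]

/-- In a simple non-abelian group a nonprincipal irreducible character vanishes at a nontrivial
element whose class size is coprime to the degree. -/
theorem eq_zero_of_coprime [IsSimpleGroup G] (hnc : ¬ ∀ a b : G, a * b = b * a) (χ : IrrCharacter G)
    (hne : (χ : G → ℂ) ≠ fun _ => 1) {g : G} (hg : g ≠ 1)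
    (hcop : (deg (χ : G → ℂ)).Coprime (Subgroup.centralizer ({g} : Set G)).index) :
    (χ : G → ℂ) g = 0 := by
  obtain ⟨f, n, ρ, hρ, rfl⟩ := χ
  change ρ.character g = 0
  change ρ.character ≠ _ at hne
  change (deg ρ.character).Coprime _ at hcop
  rw [deg_character] at hcop
  rcases vanish_or_full ρ hρ g hcop with h | h
  · exact h
  exfalso
  obtain ⟨ω, hω⟩ := (eq_scalar_iff ρ g).mp h
  let Z : Subgroup G :=
    { carrier := {x | ∀ y, Commute (ρ x) (ρ y)}
      one_mem' := fun y => by rw [map_one]; exact Commute.one_left _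
      mul_mem' := fun {a b} ha hb y => by rw [map_mul]; exact (ha y).mul_left (hb y)
      inv_mem' := fun {a} ha y => by
        have hu : Commute (ρ a) (ρ y) := ha y
        have e1 : ρ a⁻¹ * ρ a = 1 := by rw [← map_mul, inv_mul_cancel, map_one]
        have e2 : ρ a * ρ a⁻¹ = 1 := by rw [← map_mul, mul_inv_cancel, map_one]
        calc ρ a⁻¹ * ρ y = ρ a⁻¹ * (ρ y * ρ a) * ρ a⁻¹ := by
              rw [mul_assoc, mul_assoc, e2, mul_one]
          _ = ρ y * ρ a⁻¹ := by rw [← hu.eq, ← mul_assoc, e1, one_mul] }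
  have hgZ : g ∈ Z := fun y => by
    rw [hω, ← Module.End.one_eq_id]; exact (Commute.one_left _).smul_left ω
  have hZn : Z.Normal := ⟨fun a ha b y => by
    have h1 : Commute (ρ a) (ρ b⁻¹) := ha b⁻¹
    have e : ρ (b * a * b⁻¹) = ρ a := by
      rw [map_mul, map_mul, mul_assoc, h1.eq, ← mul_assoc, ← map_mul, mul_inv_cancel, map_one,
        one_mul]
    rw [e]; exact ha y⟩
  rcases hZn.eq_bot_or_eq_top with hb | ht
  · exact hg (by simpa [hb] using hgZ)
  rcases (inferInstance : ρ.ker.Normal).eq_bot_or_eq_top with hb | htk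
  · refine hnc fun a b => ?_
    have hcomm : Commute (ρ a) (ρ b) := (ht ▸ Subgroup.mem_top a : a ∈ Z) b
    exact (MonoidHom.ker_eq_bot_iff ρ).mp hb (by rw [map_mul, map_mul, hcomm.eq])
  · have htriv : ∀ x, ρ x = LinearMap.id := fun x =>
      MonoidHom.mem_ker.mp (htk ▸ Subgroup.mem_top x : x ∈ ρ.ker)
    refine hne (funext fun x => ?_)
    rw [(eq_id_iff ρ x).mpr (htriv x), finrank_eq_one_of_trivial hρ htriv, Nat.cast_one]

theorem primes_of_dvd {p q r a b : ℕ} (hp : p.Prime) (hq : q.Prime) (hr : r.Prime)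
    (hG : Nat.card G = p ^ a * q ^ b * r) {s : ℕ} (hs : s.Prime) (hd : s ∣ Nat.card G) :
    s = p ∨ s = q ∨ s = r := by
  rw [hG] at hd
  rcases (Nat.Prime.dvd_mul hs).mp hd with h | h
  · rcases (Nat.Prime.dvd_mul hs).mp h with h | h
    · exact .inl ((Nat.prime_dvd_prime_iff_eq hs hp).mp (hs.dvd_of_dvd_pow h))
    · exact .inr (.inl ((Nat.prime_dvd_prime_iff_eq hs hq).mp (hs.dvd_of_dvd_pow h)))
  · exact .inr (.inr ((Nat.prime_dvd_prime_iff_eq hs hr).mp h))

/-- There is no element whose order is divisible by `p r`. -/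
theorem not_dvd_order [IsSimpleGroup G] (hnc : ¬ ∀ a b : G, a * b = b * a) {p q r a b : ℕ}
    (hp : p.Prime) (hq : q.Prime) (hr : r.Prime) (hpr : p ≠ r) (hqr : q ≠ r)
    (hG : Nat.card G = p ^ a * q ^ b * r) {w : G} (hwp : p ∣ orderOf w) : ¬ r ∣ orderOf w := by
  classical
  intro hwr
  haveI := Fintype.ofFinite G
  haveI := Fact.mk hp
  haveI := Fact.mk hr
  obtain ⟨M, hM⟩ := exists_pModular hp
  have hP := pmod_prime hM
  obtain ⟨P⟩ := (inferInstance : Nonempty (Sylow p G))
  have hpG : p ∣ Nat.card G := hwp.trans (orderOf_dvd_natCard w)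
  haveI : Nontrivial (P : Subgroup G) :=
    (Subgroup.nontrivial_iff_ne_bot _).mpr (P.ne_bot_of_dvd_card hpG)
  haveI := P.isPGroup'.center_nontrivial
  obtain ⟨⟨z, hz⟩, hz1⟩ := exists_ne (1 : Subgroup.center (P : Subgroup G))
  have hzne : (z : G) ≠ 1 := fun h => hz1 (Subtype.ext (Subtype.ext h))
  have hPz : (P : Subgroup G) ≤ Subgroup.centralizer ({(z : G)} : Set G) := fun x hx =>
    Subgroup.mem_centralizer_singleton_iff.mpr
      (congrArg Subtype.val (Subgroup.mem_center_iff.mp hz ⟨x, hx⟩))
  have hidx : ¬ p ∣ (Subgroup.centralizer ({(z : G)} : Set G)).index := fun h =>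
    P.not_dvd_index (h.trans (Subgroup.index_dvd_of_le hPz))
  set B := principalBlock M G
  have h1B : (irrOne : IrrCharacter G) ∈ B := irrOne_mem hP
  have hB : IsPBlock M B := isPBlock_principalBlock M
  have hrfac : (Nat.card G).factorization r = 1 := by
    rw [hG, Nat.factorization_mul (mul_ne_zero (pow_ne_zero _ hp.ne_zero) (pow_ne_zero _ hq.ne_zero))
      hr.ne_zero, Nat.factorization_mul (pow_ne_zero _ hp.ne_zero) (pow_ne_zero _ hq.ne_zero),
      Nat.Prime.factorization_pow hp, Nat.Prime.factorization_pow hq, hr.factorization]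
    simp [hpr, hqr]
  have hterm : ∀ χ ∈ (Finset.univ.filter (fun χ : IrrCharacter G => χ ∈ B)).erase irrOne,
      IsIntegral ℤ ((χ : G → ℂ) 1 * conj ((χ : G → ℂ) w) / (q : ℂ)) := by
    intro χ hχ
    obtain ⟨hne, hmem⟩ := Finset.mem_erase.mp hχ
    have hχB : χ ∈ B := (Finset.mem_filter.mp hmem).2
    have hne' : (χ : G → ℂ) ≠ fun _ => 1 := fun h => hne (Subtype.ext h)
    have hd := deg_dvd_card χ.2
    by_cases hrd : r ∣ deg (χ : G → ℂ)
    · have hfull : dexp r (χ : G → ℂ) = (Nat.card G).factorization r := by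
        refine le_antisymm ((Nat.factorization_le_iff_dvd (deg_pos χ.2).ne'
          Nat.card_pos.ne').mpr hd r) ?_
        rw [hrfac]
        exact (hr.dvd_iff_one_le_factorization (deg_pos χ.2).ne').mp hrd
      rw [Small.SLnSt.vanish_singular χ hfull hwr, map_zero, mul_zero, zero_div]
      exact isIntegral_zero
    by_cases hqd : q ∣ deg (χ : G → ℂ)
    · obtain ⟨c, hc⟩ := hqd
      rw [char_one_eq_deg (irr_isCharacter χ.2), hc, Nat.cast_mul, mul_assoc,
        mul_div_cancel_left₀ _ (Nat.cast_ne_zero.mpr hq.ne_zero)]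
      exact (isIntegral_natCast _).mul ((char_isIntegral (irr_isCharacter χ.2) w).map
        ((starRingEnd ℂ).toIntAlgHom))
    -- a `p`-power degree: outside the principal block
    exfalso
    have hcop : (deg (χ : G → ℂ)).Coprime (Subgroup.centralizer ({(z : G)} : Set G)).index := by
      refine Nat.coprime_of_dvd fun s hs h1 h2 => ?_
      rcases primes_of_dvd hp hq hr hG hs (h1.trans hd) with rfl | rfl | rfl
      · exact hidx h2
      · exact hqd h1
      · exact hrd h1
    have h0 := eq_zero_of_coprime hnc χ hne' hzne hcop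
    have hsb := hχB (z : G)
    simp only [centralChar, h0, mul_zero, zero_div, sub_zero, mul_one, div_one] at hsb
    exact hidx ((memLI_natCast_iff hM _).mp hsb)
  have h := weak_orthogonality hM hB (x := 1) (y := w) (by simp [hp.ne_one]) hwp
  rw [finsum_mem_irr, ← Finset.add_sum_erase _ _ (show irrOne ∈ Finset.univ.filter
    (fun χ : IrrCharacter G => χ ∈ B) by simp [h1B])] at h
  simp only [irrOne_apply, map_one, one_mul] at h
  have hint := IsIntegral.sum _ hterm
  rw [← Finset.sum_div, eq_neg_of_add_eq_zero_right h, neg_div] at hint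
  have hint' : IsIntegral ℤ (((1 / q : ℚ)) : ℂ) := by simpa using hint.neg
  obtain ⟨m, hm⟩ := isIntegral_rat_cast_imp hint'
  have hmq : (m : ℚ) * q = 1 := by rw [hm]; simp [hq.ne_zero]
  have hmq' : m * (q : ℤ) = 1 := by exact_mod_cast hmq
  exact hq.ne_one (by simpa using Int.eq_one_of_mul_eq_one_left (by omega) hmq')

/-- A Sylow `r`-subgroup is its own centralizer. -/
theorem centralizer_eq [IsSimpleGroup G] {p q r a b : ℕ} (hp : p.Prime) (hq : q.Prime)
    [hr : Fact r.Prime] (hpr : p ≠ r) (hqr : q ≠ r) (hG : Nat.card G = p ^ a * q ^ b * r)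
    (S : Sylow r G) : Subgroup.centralizer (S : Set G) = (S : Subgroup G) := by
  by_cases hnc : ∀ a b : G, a * b = b * a
  · letI : CommGroup G := { ‹Group G› with mul_comm := hnc }
    have hprime : (Nat.card G).Prime := IsSimpleGroup.prime_card
    have hS : (S : Subgroup G) = ⊤ := by
      rcases ((Subgroup.normal_of_comm (S : Subgroup G))).eq_bot_or_eq_top with h | h
      · exact absurd h (S.ne_bot_of_dvd_card (hG ▸ dvd_mul_left r _))
      · exact h
    rw [hS]
    exact top_le_iff.mp fun x _ => Subgroup.mem_centralizer_iff.mpr fun y _ => hnc y x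
  have hcard : Nat.card (S : Subgroup G) = r := by
    rw [Sylow.card_eq_multiplicity, hG, Nat.factorization_mul (mul_ne_zero (pow_ne_zero _ hp.ne_zero)
      (pow_ne_zero _ hq.ne_zero)) hr.out.ne_zero, Nat.factorization_mul (pow_ne_zero _ hp.ne_zero)
      (pow_ne_zero _ hq.ne_zero), Nat.Prime.factorization_pow hp, Nat.Prime.factorization_pow hq,
      hr.out.factorization]
    simp [hpr, hqr]
  haveI : IsCyclic (S : Subgroup G) := isCyclic_of_prime_card hcard
  have hle : (S : Subgroup G) ≤ Subgroup.centralizer (S : Set G) := fun x hx =>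
    Subgroup.mem_centralizer_iff.mpr fun y hy => congrArg Subtype.val
      (IsMulCommutative.is_comm.comm (⟨y, hy⟩ : (S : Subgroup G)) ⟨x, hx⟩)
  obtain ⟨⟨x, hxS⟩, hx⟩ := exists_prime_orderOf_dvd_card' (G := (S : Subgroup G)) r
    (by rw [hcard])
  rw [Subgroup.orderOf_mk] at hx
  have hgr : IsPGroup r (Subgroup.centralizer (S : Set G)) := by
    refine IsPGroup.iff_card.mpr ?_
    refine ⟨_, Nat.eq_prime_pow_of_unique_prime_dvd Nat.card_pos.ne' fun {s} hs hd => ?_⟩
    by_contra hsr
    haveI := Fact.mk hs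
    obtain ⟨⟨y, hy⟩, hyo⟩ :=
      exists_prime_orderOf_dvd_card' (G := Subgroup.centralizer (S : Set G)) s hd
    rw [Subgroup.orderOf_mk] at hyo
    have hcom : Commute x y := Subgroup.mem_centralizer_iff.mp hy x hxS
    have hxy : orderOf (x * y) = r * s := by
      rw [hcom.orderOf_mul_eq_mul_orderOf_of_coprime, hx, hyo]
      rw [hx, hyo]; exact (Nat.coprime_primes hr.out hs).mpr (Ne.symm hsr)
    have hr' : r ∣ orderOf (x * y) := hxy ▸ dvd_mul_right r s
    have hs' : s ∣ orderOf (x * y) := hxy ▸ dvd_mul_left s r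
    rcases primes_of_dvd hp hq hr.out hG hs (hd.trans (Subgroup.card_subgroup_dvd_card _))
      with rfl | rfl | rfl
    · exact not_dvd_order hnc hp hq hr.out hpr hqr hG hs' hr'
    · exact not_dvd_order hnc hq hp hr.out hqr hpr (b := a) (a := b)
        (by rw [hG, mul_comm (p ^ a)]) hs' hr'
    · exact hsr rfl
  exact S.is_maximal' hgr hle

end Cfsg.Agent.Char.ThreePrimeCentral
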