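import Cfsg.Prelude.Def_DegreeGraph
import Cfsg.Agent.Lib.Char.AbelianIndexBase
import Cfsg.Agent.Lib.Char.ThreePrimeCentral
import Cfsg.Agent.Lib.Char.Inflate
import Cfsg.Agent.Lib.Char.BlockBasic

/-!
# A non-solvable group has at least three degree primes

Elementary: in a simple group with degrees supported on `{q, r}`, Burnside's vanishing at a
central element of a Sylow `r`-subgroup and column orthogonality make `1 / q` integral.
-/

set_option autoImplicit false

namespace Cfsg.Agent.Char.ThreeDegreePrimes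

open Cfsg Cfsg.Agent.Char

universe u

variable {G : Type u} [Group G] [Finite G]

theorem mem_degreePrimes_of {p : ℕ} (hp : p.Prime) {χ : G → ℂ} (hχ : IsIrrCharacter G χ)
    (hd : p ∣ deg χ) : p ∈ degreePrimes G :=
  ⟨hp, deg χ, ⟨⟨χ, hχ⟩, rfl⟩, hd⟩

theorem degreePrimes_quotient (N : Subgroup G) [N.Normal] {p : ℕ}
    (h : p ∈ degreePrimes (G ⧸ N)) : p ∈ degreePrimes G := by
  have := Fintype.ofFinite G
  have := Fintype.ofFinite (G ⧸ N)
  obtain ⟨hp, d, ⟨χ, rfl⟩, hd⟩ := h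
  refine mem_degreePrimes_of hp (isIrr_inflate N χ.2) ?_
  simpa [deg, charDegree_eq_deg, QuotientGroup.mk_one] using hd

theorem degreePrimes_normal (N : Subgroup G) [N.Normal] {p : ℕ}
    (h : p ∈ degreePrimes N) : p ∈ degreePrimes G := by
  classical
  have := Fintype.ofFinite G
  have := Fintype.ofFinite N
  obtain ⟨hp, d, ⟨θ, rfl⟩, hd⟩ := h
  rw [charDegree_eq_deg] at hd
  obtain ⟨χ, hχ⟩ := AbelianIndex.exists_constituent N θ.2
  have hne := AbelianIndex.inner_restrict_ne N _ χ hχ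
  have hcl := clifford_restrict χ θ hne
  obtain ⟨e, he⟩ := classInner_natCast
    (isCharacter_comp N.subtype (irr_isCharacter χ.2)) (irr_isCharacter θ.2)
  have he' : classInner (fun n : N => (χ : G → ℂ) n) (θ : N → ℂ) = (e : ℂ) := he
  have hsum1 : (∑ φ ∈ cliffOrbit N θ, (φ : N → ℂ)) (1 : N)
      = (((cliffOrbit N θ).card * deg (θ : N → ℂ) : ℕ) : ℂ) := by
    rw [Finset.sum_apply, Nat.cast_mul, ← nsmul_eq_mul, ← Finset.sum_const]
    refine Finset.sum_congr rfl fun φ hφ => ?_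
    obtain ⟨g, rfl⟩ := mem_cliffOrbit.1 hφ
    rw [irrComp_apply, map_one]
    exact char_one_eq_deg (irr_isCharacter θ.2)
  refine mem_degreePrimes_of hp χ.2 (hd.trans ⟨e * (cliffOrbit N θ).card, ?_⟩)
  have h1 := congrFun hcl 1
  rw [Pi.smul_apply, smul_eq_mul, hsum1, he', Subgroup.coe_one,
    char_one_eq_deg (irr_isCharacter χ.2), ← Nat.cast_mul, Nat.cast_inj] at h1
  rw [h1]
  ring

/-- A simple non-abelian group has a degree prime outside any two given primes. -/
theorem exists_degreePrime_simple [IsSimpleGroup G] (hnc : ¬ ∀ a b : G, a * b = b * a) {q r : ℕ}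
    (hq : q.Prime) (hr : r.Prime) : ∃ s ∈ degreePrimes G, s ≠ q ∧ s ≠ r := by
  classical
  have := Fintype.ofFinite G
  have : Fact r.Prime := ⟨hr⟩
  by_contra hcon
  push Not at hcon
  obtain ⟨g, hg, hidx⟩ : ∃ g : G, g ≠ 1 ∧
      (r ∣ Nat.card G → ¬ r ∣ (Subgroup.centralizer ({g} : Set G)).index) := by
    by_cases hrG : r ∣ Nat.card G
    · obtain ⟨P⟩ := (inferInstance : Nonempty (Sylow r G))
      have : Nontrivial (P : Subgroup G) :=
        (Subgroup.nontrivial_iff_ne_bot _).mpr (P.ne_bot_of_dvd_card hrG)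
      have := P.isPGroup'.center_nontrivial
      obtain ⟨⟨z, hz⟩, hz1⟩ := exists_ne (1 : Subgroup.center (P : Subgroup G))
      have hzne : (z : G) ≠ 1 := fun h => hz1 (Subtype.ext (Subtype.ext h))
      have hPz : (P : Subgroup G) ≤ Subgroup.centralizer ({(z : G)} : Set G) := fun x hx =>
        Subgroup.mem_centralizer_singleton_iff.mpr
          (congrArg Subtype.val (Subgroup.mem_center_iff.mp hz ⟨x, hx⟩))
      exact ⟨z, hzne, fun _ h => P.not_dvd_index (h.trans (Subgroup.index_dvd_of_le hPz))⟩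
    · obtain ⟨g, hg⟩ := exists_ne (1 : G)
      exact ⟨g, hg, fun h => absurd h hrG⟩
  have hzero : ∀ χ : IrrCharacter G, (χ : G → ℂ) ≠ (fun _ => 1) → ¬ q ∣ deg (χ : G → ℂ) →
      (χ : G → ℂ) g = 0 := by
    intro χ hne hqd
    refine ThreePrimeCentral.eq_zero_of_coprime hnc χ hne hg
      (Nat.coprime_of_dvd fun s hs hsd hsi => ?_)
    obtain rfl : s = r := hcon s (mem_degreePrimes_of hs χ.2 hsd) fun h => hqd (h ▸ hsd)
    exact hidx (hsd.trans (deg_dvd_card χ.2)) hsi
  have hreg := regular_sum g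
  rw [if_neg hg] at hreg
  set e1 : IrrCharacter G := ⟨fun _ => 1, isIrrCharacter_one⟩
  rw [← Finset.add_sum_erase _ _ (Finset.mem_univ e1)] at hreg
  simp only [e1, one_mul] at hreg
  have hdiv : ∀ χ : IrrCharacter G, χ ≠ e1 →
      IsIntegral ℤ ((χ : G → ℂ) 1 * (χ : G → ℂ) g / (q : ℂ)) := by
    intro χ hχ
    by_cases hqd : q ∣ deg (χ : G → ℂ)
    · obtain ⟨c, hc⟩ := hqd
      rw [char_one_eq_deg (irr_isCharacter χ.2), hc, Nat.cast_mul, mul_assoc,
        mul_div_cancel_left₀ _ (Nat.cast_ne_zero.mpr hq.ne_zero)]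
      exact (isIntegral_natCast _).mul (char_isIntegral (irr_isCharacter χ.2) g)
    · rw [hzero χ (fun h => hχ (Subtype.ext h)) hqd, mul_zero, zero_div]
      exact isIntegral_zero
  have hint : IsIntegral ℤ (((1 / q : ℚ)) : ℂ) := by
    have : IsIntegral ℤ (∑ χ ∈ Finset.univ.erase e1,
        (χ : G → ℂ) 1 * (χ : G → ℂ) g / (q : ℂ)) :=
      IsIntegral.sum _ fun χ hχ => hdiv χ (Finset.ne_of_mem_erase hχ)
    rw [← Finset.sum_div, eq_neg_of_add_eq_zero_right hreg, neg_div] at this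
    simpa using this.neg
  obtain ⟨m, hm⟩ := isIntegral_rat_cast_imp hint
  have hp0 : (q : ℚ) ≠ 0 := Nat.cast_ne_zero.mpr hq.ne_zero
  have hmp : (m : ℚ) * q = 1 := by rw [hm]; simp [hp0]
  have : (q : ℤ) ∣ 1 := ⟨m, by rw [mul_comm]; exact_mod_cast hmp.symm⟩
  exact hq.ne_one (by exact_mod_cast Int.eq_one_of_dvd_one (by positivity) this)

theorem exists_degreePrime (n : ℕ) : ∀ {G : Type u} [Group G] [Finite G], Nat.card G = n →
    ¬ Group.IsSolvable G → ∀ {q r : ℕ}, q.Prime → r.Prime →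
      ∃ s ∈ degreePrimes G, s ≠ q ∧ s ≠ r := by
  induction n using Nat.strong_induction_on with
  | _ n ih =>
  intro G _ _ hn hns q r hq hr
  have : Nontrivial G := by
    by_contra h
    rw [not_nontrivial_iff_subsingleton] at h
    exact hns inferInstance
  by_cases hs : IsSimpleGroup G
  · exact exists_degreePrime_simple (fun h => hns (Group.isSolvable_of_comm h)) hq hr
  obtain ⟨N, hN, hNb, hNt⟩ : ∃ N : Subgroup G, N.Normal ∧ N ≠ ⊥ ∧ N ≠ ⊤ := by
    by_contra hne
    push Not at hne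
    exact hs ⟨fun H hH => or_iff_not_imp_left.mpr (hne H hH)⟩
  have hmul := Subgroup.card_eq_card_quotient_mul_card_subgroup N
  by_cases hQ : Group.IsSolvable (G ⧸ N)
  · have hNs : ¬ Group.IsSolvable N := fun h =>
      hns ((Group.isSolvable_iff_subgroup_quotient N).mpr ⟨h, hQ⟩)
    have hlt : Nat.card N < n := by
      rw [← hn, ← Subgroup.card_top (G := G)]
      exact lt_of_le_of_ne (Subgroup.card_le_of_le le_top)
        fun h => hNt (Subgroup.eq_top_of_card_eq N (by rw [h, Subgroup.card_top]))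
    obtain ⟨s, hs, h1, h2⟩ := ih _ hlt rfl hNs hq hr
    exact ⟨s, degreePrimes_normal N hs, h1, h2⟩
  · have hlt : Nat.card (G ⧸ N) < n := by
      rw [← hn, hmul]
      have : 1 < Nat.card N := (Subgroup.one_lt_card_iff_ne_bot N).mpr hNb
      exact lt_mul_of_one_lt_right Nat.card_pos this
    obtain ⟨s, hs, h1, h2⟩ := ih _ hlt rfl hQ hq hr
    exact ⟨s, degreePrimes_quotient N hs, h1, h2⟩

/-- Three distinct degree primes in a non-solvable group. -/
theorem three_degreePrimes (hns : ¬ Group.IsSolvable G) : ∃ p q r : ℕ, p ≠ q ∧ q ≠ r ∧ p ≠ r ∧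
    p ∈ degreePrimes G ∧ q ∈ degreePrimes G ∧ r ∈ degreePrimes G := by
  obtain ⟨a, ha, -, -⟩ := exists_degreePrime _ rfl hns Nat.prime_two Nat.prime_two
  obtain ⟨b, hb, hba, -⟩ := exists_degreePrime _ rfl hns ha.1 ha.1
  obtain ⟨c, hc, hca, hcb⟩ := exists_degreePrime _ rfl hns ha.1 hb.1
  exact ⟨a, b, c, hba.symm, hcb.symm, hca.symm, ha, hb, hc⟩

end Cfsg.Agent.Char.ThreeDegreePrimes
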