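import Cfsg.Agent.Lib.Char.FixedClass
import Cfsg.Agent.Lib.Char.PrimeSylowRank

/-!
# Fixed classes of a subgroup of prime order in irreducible representations

In an irreducible representation the fixed vectors of a subgroup `P` of order `p` modulo traces form, as soon as a
relative trace acts as the identity on some of them, an irreducible representation of the normalizer.
-/

set_option autoImplicit false
set_option linter.unusedSectionVars false
set_option linter.style.haveILetI false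

namespace Cfsg.Agent.Char.TransferLine

open Cfsg Module

universe u v w

variable {k : Type v} [Field k] {G : Type u} [Group G] [Fintype G] {p : ℕ}

/-- The operator with the given coefficients. -/
noncomputable def zOp {W : Type w} [AddCommGroup W] [Module k W] (ρ : G →* Module.End k W) (z : G → k) :
    Module.End k W := ∑ g, z g • ρ g

/-- The sum over the cosets of `P` in its normalizer of the values at representatives. -/
noncomputable def cosetSum {A : Type*} [AddCommMonoid A] (P : Subgroup G)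
    (H : Subgroup.normalizer (P : Set G) → A) : A :=
  letI := Fintype.ofFinite (Subgroup.normalizer (P : Set G) ⧸ P.subgroupOf (Subgroup.normalizer (P : Set G)))
  ∑ q : Subgroup.normalizer (P : Set G) ⧸ P.subgroupOf (Subgroup.normalizer (P : Set G)), H q.out

variable (P : Subgroup G)

theorem out_eq {A : Type*} (H : Subgroup.normalizer (P : Set G) → A)
    (hH : ∀ n y : Subgroup.normalizer (P : Set G), (y : G) ∈ P → H (n * y) = H n) (n : Subgroup.normalizer (P : Set G)) :
    H (n : Subgroup.normalizer (P : Set G) ⧸ P.subgroupOf (Subgroup.normalizer (P : Set G))).out = H n := by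
  obtain ⟨y, hy⟩ := QuotientGroup.mk_out_eq_mul (P.subgroupOf (Subgroup.normalizer (P : Set G))) n
  rw [hy]
  exact hH n _ (Subgroup.mem_subgroupOf.mp y.2)

theorem cosetSum_mul {A : Type*} [AddCommMonoid A] (H : Subgroup.normalizer (P : Set G) → A)
    (hH : ∀ n y : Subgroup.normalizer (P : Set G), (y : G) ∈ P → H (n * y) = H n) (a : Subgroup.normalizer (P : Set G)) :
    cosetSum P (fun n => H (a * n)) = cosetSum P H := by
  letI := Fintype.ofFinite (Subgroup.normalizer (P : Set G) ⧸ P.subgroupOf (Subgroup.normalizer (P : Set G)))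
  show ∑ q : Subgroup.normalizer (P : Set G) ⧸ P.subgroupOf (Subgroup.normalizer (P : Set G)), H (a * q.out) =
    ∑ q : Subgroup.normalizer (P : Set G) ⧸ P.subgroupOf (Subgroup.normalizer (P : Set G)), H q.out
  refine Fintype.sum_equiv (MulAction.toPerm a) _ _ fun q => ?_
  induction q using QuotientGroup.induction_on with
  | H b =>
    rw [MulAction.toPerm_apply, MulAction.Quotient.smul_coe, smul_eq_mul, out_eq P H hH,
      out_eq P (fun n => H (a * n)) (fun n y hy => by rw [← mul_assoc]; exact hH _ y hy)]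

theorem cosetSum_congr {A : Type*} [AddCommMonoid A] {H H' : Subgroup.normalizer (P : Set G) → A}
    (h : ∀ n, H n = H' n) : cosetSum P H = cosetSum P H' := by rw [show H = H' from funext h]

variable {W : Type w} [AddCommGroup W] [Module k W] (ρ : G →* Module.End k W)

theorem zOp_comm {z : G → k} (hz : ∀ g, z g ≠ 0 → g ∈ Subgroup.centralizer (P : Set G)) {y : G} (hy : y ∈ P) :
    Commute (ρ y) (zOp ρ z) := by
  refine Commute.sum_right _ _ _ fun g _ => ?_
  by_cases h : z g = 0
  · rw [h, zero_smul]; exact Commute.zero_right _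
  · refine Commute.smul_right ?_ _
    show ρ y * ρ g = ρ g * ρ y
    rw [← map_mul, ← map_mul, (hz g h) y hy]

theorem zOp_mem {z : G → k} (hz : ∀ g, z g ≠ 0 → g ∈ Subgroup.centralizer (P : Set G)) {Y : Submodule k W}
    (hY : ∀ n ∈ Subgroup.normalizer (P : Set G), ∀ x ∈ Y, ρ n x ∈ Y) {x : W} (hx : x ∈ Y) : zOp ρ z x ∈ Y := by
  rw [zOp, LinearMap.sum_apply]
  refine Submodule.sum_mem _ fun g _ => ?_
  by_cases h : z g = 0
  · rw [h, zero_smul]; exact Y.zero_mem
  · exact Submodule.smul_mem _ _ (hY g (Subgroup.centralizer_le_normalizer _ (hz g h)) x hx)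

theorem norm_conj_mem {n y : G} (hn : n ∈ Subgroup.normalizer (P : Set G)) (hy : y ∈ P) : n⁻¹ * y * n ∈ P := by
  have := (Subgroup.mem_normalizer_iff.mp (inv_mem hn) y).mp hy
  simpa using this

variable [Fintype P]

theorem trEnd_norm {n : G} (hn : n ∈ Subgroup.normalizer (P : Set G)) :
    ρ n * trEnd ρ P = trEnd ρ P * ρ n := by
  simp only [trEnd, Finset.mul_sum, Finset.sum_mul]
  let f : P → P := fun y => ⟨(n⁻¹)⁻¹ * (y : G) * n⁻¹, norm_conj_mem P (inv_mem hn) y.2⟩
  have hf : Function.Bijective f := Finite.injective_iff_bijective.mp fun a b e => by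
    have := congrArg Subtype.val e
    simp only [f, mul_left_inj, mul_right_inj] at this
    exact Subtype.ext this
  refine Fintype.sum_bijective f hf _ _ fun y => ?_
  rw [← map_mul, ← map_mul]
  congr 1
  show n * (y : G) = n⁻¹⁻¹ * (y : G) * n⁻¹ * n
  group

theorem fixed_norm {n : G} (hn : n ∈ Subgroup.normalizer (P : Set G)) {x : W}
    (hx : ∀ y : P, ρ (y : G) x = x) (y : P) : ρ (y : G) (ρ n x) = ρ n x := by
  rw [← Module.End.mul_apply, ← map_mul, show (y : G) * n = n * (n⁻¹ * (y : G) * n) by group, map_mul,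
    Module.End.mul_apply]
  exact congrArg _ (hx ⟨_, norm_conj_mem P hn y.2⟩)

variable [CharP k p]

theorem trEnd_eq_pow (hp : p.Prime) (hP : Nat.card P = p) {y₀ : G} (hy₀ : Subgroup.zpowers y₀ = P) :
    trEnd ρ P = (ρ y₀ - 1) ^ (p - 1) := by
  classical
  have hord : orderOf y₀ = p := by rw [← Nat.card_zpowers, hy₀, hP]
  rw [← geom_sum_eq_sub_one_pow (k := k) hp, trEnd]
  symm
  refine Finset.sum_bij (fun i _ => (⟨y₀ ^ i, hy₀ ▸ Subgroup.pow_mem _ (Subgroup.mem_zpowers _) i⟩ : P))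
    (fun i _ => Finset.mem_univ _) (fun i hi j hj e => ?_) (fun y _ => ?_) (fun i _ => (map_pow ρ y₀ i).symm)
  · have e' := congrArg Subtype.val e
    exact pow_injOn_Iio_orderOf (by simpa [hord] using hi) (by simpa [hord] using hj) e'
  · have hy : (y : G) ∈ Submonoid.powers y₀ := mem_powers_iff_mem_zpowers.mpr (hy₀.symm ▸ y.2)
    obtain ⟨i, hi⟩ := hy
    exact ⟨i % p, Finset.mem_range.mpr (Nat.mod_lt _ hp.pos), Subtype.ext (by
      show y₀ ^ (i % p) = (y : G)
      rw [← hord, pow_mod_orderOf]; exact hi)⟩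

theorem range_pow_inv {y₀ : G} (hy₀ : Subgroup.zpowers y₀ = P) (j : ℕ) {n : G}
    (hn : n ∈ Subgroup.normalizer (P : Set G)) {x : W} (hx : x ∈ LinearMap.range ((ρ y₀ - 1) ^ j)) :
    ρ n x ∈ LinearMap.range ((ρ y₀ - 1) ^ j) := by
  obtain ⟨t, rfl⟩ := hx
  have hmem : n * y₀ * n⁻¹ ∈ P := by
    have := norm_conj_mem P (inv_mem hn) (hy₀ ▸ Subgroup.mem_zpowers y₀ : y₀ ∈ P)
    simpa using this
  obtain ⟨i, hi⟩ : n * y₀ * n⁻¹ ∈ Submonoid.powers y₀ :=
    mem_powers_iff_mem_zpowers.mpr (hy₀.symm ▸ hmem)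
  have h1 : ρ n * (ρ y₀ - 1) = (ρ y₀ ^ i - 1) * ρ n := by
    rw [mul_sub, sub_mul, mul_one, one_mul, ← map_pow, ← map_mul, ← map_mul]
    congr 2
    rw [show y₀ ^ i = n * y₀ * n⁻¹ from hi]
    group
  have h2 : ρ n * (ρ y₀ - 1) ^ j = (ρ y₀ ^ i - 1) ^ j * ρ n :=
    (SemiconjBy.pow_right (show SemiconjBy (ρ n) (ρ y₀ - 1) (ρ y₀ ^ i - 1) from h1) j).eq
  refine ⟨((∑ l ∈ Finset.range i, ρ y₀ ^ l) ^ j) (ρ n t), ?_⟩
  have hc : Commute (ρ y₀ - 1) (∑ l ∈ Finset.range i, ρ y₀ ^ l) :=
    Commute.sum_right _ _ _ fun l _ =>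
      ((Commute.refl (ρ y₀)).pow_right l).sub_left (Commute.one_left _)
  have h3 : (ρ y₀ ^ i - 1) ^ j = (ρ y₀ - 1) ^ j * (∑ l ∈ Finset.range i, ρ y₀ ^ l) ^ j := by
    rw [← mul_geom_sum, hc.mul_pow]
  rw [← Module.End.mul_apply (ρ n), h2, h3]
  rfl

variable [FiniteDimensional k W]

open scoped Classical in
set_option maxHeartbeats 1000000 in
/-- An invariant space of fixed vectors on which a relative trace is the identity modulo traces holds all. -/
theorem fixed_le (hp : p.Prime) (hP : Nat.card P = p) (hρ : SimpleRep ρ) {z : G → k}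
    (hz : ∀ g, z g ≠ 0 → g ∈ Subgroup.centralizer (P : Set G)) (Y : Submodule k W)
    (hYfix : ∀ x ∈ Y, ∀ y : P, ρ (y : G) x = x)
    (hYinv : ∀ n ∈ Subgroup.normalizer (P : Set G), ∀ x ∈ Y, ρ n x ∈ Y)
    (hRY : LinearMap.range (trEnd ρ P) ≤ Y) (hYne : ∃ x ∈ Y, x ∉ LinearMap.range (trEnd ρ P))
    (hE : ∀ x ∈ Y, cosetSum P (fun n => ρ (n : G) (zOp ρ z (ρ (n : G)⁻¹ x))) - x ∈ LinearMap.range (trEnd ρ P))
    {x : W} (hx : ∀ y : P, ρ (y : G) x = x) : x ∈ Y := by
  haveI := Fact.mk hp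
  obtain ⟨g, hg⟩ : ∃ g : P, g ≠ 1 := by
    haveI : Nontrivial P := Finite.one_lt_card_iff_nontrivial.mp (hP ▸ hp.one_lt)
    exact exists_ne 1
  have hy₀ : Subgroup.zpowers (g : G) = P := by
    have h1 := congrArg (Subgroup.map P.subtype) (zpowers_eq_top_of_prime_card hP hg)
    rwa [MonoidHom.map_zpowers, ← MonoidHom.range_eq_map, Subgroup.range_subtype] at h1
  set y₀ : G := (g : G)
  set X := ρ y₀ - 1 with hX
  set R := LinearMap.range (trEnd ρ P) with hR
  have hRpow : R = LinearMap.range (X ^ (p - 1)) := by rw [hR, trEnd_eq_pow P ρ hp hP hy₀]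
  have hmono : ∀ {a b : ℕ}, a ≤ b → LinearMap.range (X ^ b) ≤ LinearMap.range (X ^ a) := by
    rintro a b hab _ ⟨t, rfl⟩
    exact ⟨(X ^ (b - a)) t, by rw [← Module.End.mul_apply, ← pow_add, Nat.add_sub_cancel' hab]⟩
  -- the level of `Y`
  obtain ⟨j, hj, hjY, hjn⟩ : ∃ j, j + 1 ≤ p - 1 ∧ (∃ a ∈ Y, a ∈ LinearMap.range (X ^ j) ∧ a ∉ R) ∧
      ∀ a ∈ Y, a ∈ LinearMap.range (X ^ (j + 1)) → a ∈ R := by
    obtain ⟨a, haY, haR⟩ := hYne
    have hex : ∃ i, ∀ a ∈ Y, a ∈ LinearMap.range (X ^ i) → a ∈ R := ⟨p - 1, fun _ _ h => hRpow ▸ h⟩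
    set i := Nat.find hex with hi
    have hi0 : i ≠ 0 := fun e => haR (Nat.find_spec hex a haY (by rw [← hi, e, pow_zero]; exact ⟨a, rfl⟩))
    refine ⟨i - 1, ?_, ?_, ?_⟩
    · rw [Nat.sub_add_cancel (Nat.pos_of_ne_zero hi0)]
      exact Nat.find_le fun _ _ h => hRpow ▸ h
    · have := Nat.find_min hex (show i - 1 < i by omega)
      push Not at this
      exact this
    · rw [Nat.sub_add_cancel (Nat.pos_of_ne_zero hi0)]
      exact Nat.find_spec hex
  set Y' := Y ⊓ LinearMap.range (X ^ j) with hY'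
  have hRY' : R ≤ Y' := le_inf hRY (hRpow ▸ hmono (by omega))
  suffices hxY : x ∈ Y' from hxY.1
  have hY'inv : ∀ n ∈ Subgroup.normalizer (P : Set G), ∀ a ∈ Y', ρ n a ∈ Y' := fun n hn a ha =>
    ⟨hYinv n hn a ha.1, range_pow_inv P ρ hy₀ j hn ha.2⟩
  -- a projection on a complement of the traces in `Y'`
  obtain ⟨c, hc⟩ := Submodule.exists_isCompl R
  set Y0 := Y' ⊓ c with hY0
  set U := LinearMap.range (X ^ (j + 1)) with hU
  have hRU : R ≤ U := hRpow ▸ hmono hj
  have hdisj : Disjoint Y0 U := by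
    rw [Submodule.disjoint_def]
    intro a ha haU
    exact Submodule.disjoint_def.mp hc.disjoint a (hjn a ha.1.1 haU) ha.2
  obtain ⟨c', hc'⟩ := Submodule.exists_isCompl (Y0 ⊔ U)
  have hQ : IsCompl Y0 (U ⊔ c') := by
    refine ⟨?_, ?_⟩
    · rw [Submodule.disjoint_def]
      intro a ha haQ
      obtain ⟨u, hu, b, hb, rfl⟩ := Submodule.mem_sup.mp haQ
      have hb0 : b = 0 := Submodule.disjoint_def.mp hc'.disjoint b (by
        have : b = (u + b) - u := by abel
        rw [this]
        exact Submodule.sub_mem _ (Submodule.mem_sup_left ha) (Submodule.mem_sup_right hu)) hb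
      rw [hb0, add_zero] at ha ⊢
      exact Submodule.disjoint_def.mp hdisj u ha hu
    · rw [codisjoint_iff, ← sup_assoc]
      exact codisjoint_iff.mp hc'.codisjoint
  set π0 : Module.End k W := Y0.subtype ∘ₗ Y0.projectionOnto (U ⊔ c') hQ with hπ0
  have hπY : ∀ a, π0 a ∈ Y0 := fun a => Submodule.coe_mem _
  have hπ1 : ∀ a ∈ Y0, π0 a = a := fun a ha => by
    rw [hπ0, LinearMap.comp_apply, Submodule.projectionOnto_apply_left hQ ⟨a, ha⟩]
    rfl
  have hπ2 : ∀ a ∈ U, π0 a = 0 := fun a ha => by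
    rw [hπ0, LinearMap.comp_apply,
      Submodule.projectionOnto_apply_right hQ ⟨a, Submodule.mem_sup_left ha⟩]
    rfl
  have hπcongr : ∀ a ∈ Y', π0 a - a ∈ R := by
    intro a ha
    obtain ⟨r, hr, b, hb, rfl⟩ := Submodule.mem_sup.mp
      ((codisjoint_iff.mp hc.codisjoint).symm ▸ Submodule.mem_top : a ∈ R ⊔ c)
    have hbY : b ∈ Y0 := ⟨by
      have : b = (r + b) - r := by abel
      rw [this]
      exact Submodule.sub_mem _ ha (hRY' hr), hb⟩
    rw [map_add, hπ1 b hbY, hπ2 r (hRU hr), zero_add]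
    simpa using R.neg_mem hr
  set α : Module.End k W := zOp ρ z * π0 with hα
  have hαY : ∀ a, α a ∈ Y' := fun a => zOp_mem P ρ hz hY'inv ((hπY a).1)
  -- the endomorphism
  obtain ⟨L, hL⟩ : ∃ L : Module.End k W, ∀ a ∈ LinearMap.range (X ^ j), (X ^ j) (L a) = a := by
    obtain ⟨s, hs⟩ := (X ^ j).rangeRestrict.exists_rightInverse_of_surjective (LinearMap.range_rangeRestrict _)
    obtain ⟨d, hd⟩ := Submodule.exists_isCompl (LinearMap.range (X ^ j))
    refine ⟨s ∘ₗ (LinearMap.range (X ^ j)).projectionOnto d hd, fun a ha => ?_⟩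
    have h1 := congrArg Subtype.val (LinearMap.congr_fun hs ⟨a, ha⟩)
    rw [LinearMap.comp_apply, Submodule.projectionOnto_apply_left hd ⟨a, ha⟩]
    exact h1
  let φ : Module.End k W := ∑ i ∈ Finset.range (j + 1), X ^ i * L * α * X ^ (j - i)
  have hXα : ∀ a, X (α a) = 0 := fun a => by
    have := hYfix _ (hαY a).1 g
    simp only [hX, LinearMap.sub_apply, Module.End.one_apply]
    rw [this, sub_self]
  have hαU : ∀ a, α ((X ^ (j + 1)) a) = 0 := fun a => by
    rw [hα, Module.End.mul_apply, hπ2 _ ⟨a, rfl⟩, map_zero]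
  have hφX : Commute X φ := by
    set F : ℕ → Module.End k W := fun i => X ^ i * L * α * X ^ (j + 1 - i) with hF
    have e1 : X * φ = ∑ i ∈ Finset.range (j + 1), F (i + 1) := by
      simp only [φ, Finset.mul_sum]
      refine Finset.sum_congr rfl fun i hi => ?_
      simp only [hF, Nat.add_sub_add_right, pow_succ', mul_assoc]
    have e2 : φ * X = ∑ i ∈ Finset.range (j + 1), F i := by
      simp only [φ, Finset.sum_mul]
      refine Finset.sum_congr rfl fun i hi => ?_
      rw [Finset.mem_range] at hi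
      simp only [hF, show j + 1 - i = j - i + 1 by omega, pow_succ, mul_assoc]
    have hF0 : F 0 = 0 := by
      refine LinearMap.ext fun a => ?_
      simp only [hF, pow_zero, one_mul, Nat.sub_zero, Module.End.mul_apply, hαU, map_zero, LinearMap.zero_apply]
    have hFj : F (j + 1) = 0 := by
      refine LinearMap.ext fun a => ?_
      simp only [hF, Nat.sub_self, pow_zero, mul_one, Module.End.mul_apply, pow_succ', LinearMap.zero_apply]
      rw [hL _ (hαY a).2, hXα]
    show X * φ = φ * X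
    have s1 := Finset.sum_range_succ' F (j + 1)
    have s2 := Finset.sum_range_succ F (j + 1)
    rw [hF0, add_zero] at s1
    rw [hFj, add_zero] at s2
    rw [e1, e2, ← s1, s2]
  have hXfix : ∀ a : W, (∀ y : P, ρ (y : G) a = a) → X a = 0 := fun a ha => by
    simp only [hX, LinearMap.sub_apply, Module.End.one_apply]
    rw [ha g, sub_self]
  have hφfix : ∀ a : W, (∀ y : P, ρ (y : G) a = a) → φ a = α a := by
    intro a ha
    simp only [φ, LinearMap.sum_apply, Module.End.mul_apply]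
    rw [Finset.sum_eq_single j]
    · rw [Nat.sub_self, pow_zero, Module.End.one_apply, hL _ (hαY a).2]
    · intro i hi hij
      rw [Finset.mem_range] at hi
      obtain ⟨l, hl⟩ : ∃ l, j - i = l + 1 := ⟨j - i - 1, by omega⟩
      simp only [hl, pow_succ, Module.End.mul_apply, hXfix a ha, map_zero]
    · intro hn
      exact absurd (Finset.mem_range.mpr (Nat.lt_succ_self j)) hn
  have hφP : ∀ y ∈ P, Commute (ρ y) φ := by
    intro y hy
    obtain ⟨i, hi⟩ : y ∈ Submonoid.powers y₀ := mem_powers_iff_mem_zpowers.mpr (hy₀.symm ▸ hy)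
    have : Commute (ρ y₀) φ := by
      have h2 := hφX.add_left (Commute.one_left φ)
      rwa [hX, sub_add_cancel] at h2
    rw [← show y₀ ^ i = y from hi, map_pow]
    exact this.pow_left i
  -- the transfer to the whole group
  haveI := Fintype.ofFinite (G ⧸ P)
  let Fq : G ⧸ P → Module.End k W := fun q => ρ q.out * φ * ρ q.out⁻¹
  have hFq : ∀ a : G, Fq (a : G ⧸ P) = ρ a * φ * ρ a⁻¹ := by
    intro a
    obtain ⟨y, hy⟩ := QuotientGroup.mk_out_eq_mul P a
    show ρ _ * φ * ρ _ = _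
    rw [hy, mul_inv_rev, map_mul, map_mul]
    calc ρ a * ρ (y : G) * φ * (ρ (y : G)⁻¹ * ρ a⁻¹)
        = ρ a * (ρ (y : G) * φ * ρ (y : G)⁻¹) * ρ a⁻¹ := by simp only [mul_assoc]
      _ = ρ a * φ * ρ a⁻¹ := by
          rw [(hφP y y.2).eq, mul_assoc φ, ← map_mul, mul_inv_cancel, map_one, mul_one]
  have hFsmul : ∀ (a : G) (q : G ⧸ P), Fq (a • q) = ρ a * Fq q * ρ a⁻¹ := by
    intro a q
    induction q using QuotientGroup.induction_on with
    | H b =>
      rw [MulAction.Quotient.smul_coe, smul_eq_mul, hFq, hFq, mul_inv_rev, map_mul, map_mul]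
      simp only [mul_assoc]
  set Φ : Module.End k W := ∑ q, Fq q with hΦ
  have hΦG : EquivMap ρ ρ Φ := by
    intro a b
    simp only [hΦ, LinearMap.sum_apply, map_sum]
    refine (Fintype.sum_equiv (MulAction.toPerm a) _ _ fun q => ?_).symm
    rw [MulAction.toPerm_apply, hFsmul]
    show _ = ρ a (Fq q (ρ a⁻¹ (ρ a b)))
    rw [← Module.End.mul_apply (ρ a⁻¹) (ρ a), ← map_mul, inv_mul_cancel, map_one, Module.End.one_apply]
  set N := Subgroup.normalizer (P : Set G) with hN
  have hπfix : ∀ a : W, (∀ y : P, ρ (y : G) a = a) →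
      ∃ t, Φ a = cosetSum P (fun n => ρ (n : G) (α (ρ (n : G)⁻¹ a))) + trEnd ρ P t := by
    intro a ha
    obtain ⟨t, ht⟩ := sum_equivariant_fixed (Q := P) (α := G ⧸ P) (by rw [hP]; exact hp)
      (fun y q => (y : G) • q) (fun q => one_smul _ q) (fun y b q => mul_smul _ _ q)
      (fun y => (ρ (y : G)).toAddMonoidHom) (fun q => Fq q a) (fun y q => by
        rw [hFsmul, Module.End.mul_apply, Module.End.mul_apply,
          show ρ (y : G)⁻¹ a = a from ha y⁻¹]
        rfl)
    refine ⟨t, ?_⟩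
    rw [hΦ, LinearMap.sum_apply, ht]
    refine congrArg₂ (· + ·) ?_ (by simp [trEnd])
    letI := Fintype.ofFinite (N ⧸ P.subgroupOf N)
    show _ = ∑ q : N ⧸ P.subgroupOf N, ρ (q.out : G) (α (ρ (q.out : G)⁻¹ a))
    symm
    refine Finset.sum_bij (fun q _ => (((q.out : N) : G) : G ⧸ P)) (fun q _ => ?_) (fun q _ q' _ e => ?_)
      (fun b hb => ?_) (fun q _ => ?_)
    · simp only [Finset.mem_filter, Finset.mem_univ, true_and]
      intro y
      rw [MulAction.Quotient.smul_coe, smul_eq_mul, QuotientGroup.eq, mul_inv_rev,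
        show ((q.out : N) : G)⁻¹ * (y : G)⁻¹ * ((q.out : N) : G) = ((q.out : N) : G)⁻¹ * (y : G)⁻¹ * ((q.out : N) : G) from rfl]
      exact norm_conj_mem P (q.out : N).2 (P.inv_mem y.2)
    · rw [← Quotient.out_eq q, ← Quotient.out_eq q']
      exact QuotientGroup.eq.mpr (Subgroup.mem_subgroupOf.mpr (QuotientGroup.eq.mp e))
    · simp only [Finset.mem_filter, Finset.mem_univ, true_and] at hb
      induction b using QuotientGroup.induction_on with
      | H b =>
        have hbP : ∀ y ∈ P, b⁻¹ * y * b ∈ P := by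
          intro y hy
          have h3 := hb (⟨y, hy⟩⁻¹ : P)
          rw [MulAction.Quotient.smul_coe, smul_eq_mul, QuotientGroup.eq, mul_inv_rev,
            Subgroup.coe_inv, inv_inv] at h3
          exact h3
        have hbN : b ∈ N := by
          rw [← inv_mem_iff, hN, Subgroup.mem_normalizer_iff]
          intro y
          refine ⟨fun hy => by simpa using hbP y hy, fun hy => ?_⟩
          let f : P → P := fun w => ⟨_, hbP (w : G) w.2⟩
          have hf : Function.Surjective f := Finite.injective_iff_surjective.mp fun a b e => by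
            have := congrArg Subtype.val e
            simp only [f, mul_left_inj, mul_right_inj] at this
            exact Subtype.ext this
          obtain ⟨w, hw⟩ := hf ⟨_, hy⟩
          have := congrArg Subtype.val hw
          simp only [f, inv_inv, mul_left_inj, mul_right_inj] at this
          exact this ▸ w.2
        refine ⟨((⟨b, hbN⟩ : N) : N ⧸ P.subgroupOf N), Finset.mem_univ _, ?_⟩
        obtain ⟨y, hy⟩ := QuotientGroup.mk_out_eq_mul (P.subgroupOf N) (⟨b, hbN⟩ : N)
        rw [hy]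
        exact QuotientGroup.mk_mul_of_mem b (Subgroup.mem_subgroupOf.mp y.2)
    · rw [hFq]
      show _ = ρ _ (φ (ρ _ a))
      rw [hφfix _ (fixed_norm P ρ (inv_mem (q.out : N).2) ha)]
  set π : W → W := fun a => cosetSum P (fun n => ρ (n : G) (α (ρ (n : G)⁻¹ a))) with hπ
  have hπmem : ∀ a, π a ∈ Y' := fun a => by
    simp only [hπ, cosetSum]
    exact Submodule.sum_mem _ fun q _ => hY'inv _ (Subtype.prop _) _ (hαY _)
  have hπid : ∀ a ∈ Y', π a - a ∈ R := by
    intro a ha
    have h1 := hE a ha.1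
    have h2 : π a - cosetSum P (fun n => ρ (n : G) (zOp ρ z (ρ (n : G)⁻¹ a))) ∈ R := by
      simp only [hπ, cosetSum, ← Finset.sum_sub_distrib, ← map_sub]
      refine Submodule.sum_mem _ fun q _ => ?_
      obtain ⟨t, ht⟩ := hπcongr _ (hY'inv _ (inv_mem (Subtype.prop _)) a ha)
      rw [hα, Module.End.mul_apply, ← map_sub, ← ht]
      refine ⟨ρ ((q.out : N) : G) (zOp ρ z t), ?_⟩
      rw [← Module.End.mul_apply, ← trEnd_norm P ρ (q.out : N).2, Module.End.mul_apply]
      congr 1
      have hcm : Commute (zOp ρ z) (trEnd ρ P) :=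
        Commute.sum_right _ _ _ fun y _ => (zOp_comm P ρ hz y.2).symm
      exact (LinearMap.congr_fun hcm.eq t).symm
    have := R.add_mem h2 h1
    rwa [sub_add_sub_cancel] at this
  have hΦR : ∀ a : W, (∀ y : P, ρ (y : G) a = a) → Φ a - π a ∈ R := fun a ha => by
    obtain ⟨t, ht⟩ := hπfix a ha
    rw [ht, add_sub_cancel_left]
    exact ⟨t, rfl⟩
  have hY'fix : ∀ a ∈ Y', ∀ y : P, ρ (y : G) a = a := fun a ha => hYfix a ha.1
  obtain ⟨a0, ha0Y, ha0j, ha0R⟩ := hjY
  have hΦ0 : Φ ≠ 0 := by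
    intro h0
    refine ha0R ?_
    have h1 := R.sub_mem (hΦR a0 (hY'fix a0 ⟨ha0Y, ha0j⟩)) (R.neg_mem (hπid a0 ⟨ha0Y, ha0j⟩))
    rw [h0, LinearMap.zero_apply] at h1
    simpa using R.neg_mem h1
  obtain ⟨hinj, hsurj⟩ := bijective_of_equivMap hρ hρ hΦG hΦ0
  have hΦmem : Φ x ∈ Y' := by
    have := Y'.add_mem (hRY' (hΦR x hx)) (hπmem x)
    rwa [sub_add_cancel] at this
  set x' := x - Φ x
  have hx' : Φ x' ∈ R := by
    have h1 := R.add_mem (hΦR _ (hY'fix _ hΦmem)) (hπid _ hΦmem)
    rw [sub_add_sub_cancel] at h1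
    rw [map_sub]
    simpa using R.neg_mem h1
  obtain ⟨t, ht⟩ := hx'
  obtain ⟨s, hs⟩ := hsurj t
  have hx'R : x' ∈ R := by
    refine ⟨s, hinj ?_⟩
    rw [← ht, ← hs]
    simp only [trEnd, LinearMap.sum_apply, map_sum]
    exact Finset.sum_congr rfl fun y _ => hΦG _ _
  have := Y'.add_mem (hRY' hx'R) hΦmem
  rwa [sub_add_cancel] at this

end Cfsg.Agent.Char.TransferLine
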