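import Cfsg.Agent.Lib.Char.Clifford
import Cfsg.Agent.Lib.Char.CliffordCorr
import Cfsg.Agent.Lib.Char.ProjRep
import Cfsg.Agent.Lib.Char.Degree
import Cfsg.Agent.Lib.Solv.ArcScalar
import Cfsg.Agent.Lib.Fusion.Cores
import Mathlib

/-!
# Faithful characters of degree below `2p`

For `p ≥ 7` and a faithful irreducible character of degree `n < 2p`, `n ≠ p`, a non-abelian Sylow
`p`-subgroup has a central element with two eigenvalues in one short arc. By Blichfeldt its normal closure
is an abelian `p`-group, and Clifford theory over it bounds the `p`-part of the index of the `p`-core.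
-/

set_option autoImplicit false
set_option linter.style.haveILetI false

open Cfsg Module
open scoped ComplexConjugate InnerProductSpace commutatorElement

namespace Cfsg.Agent.Char.TwoArc

universe u

variable {G : Type u} [Group G] [Fintype G]

theorem faithful_inj {n : ℕ} {ρ : Representation ℂ G (Fin n → ℂ)}
    (hf : ∀ g : G, ρ.character g = ρ.character 1 → g = 1) {g : G} (hg : ρ g = 1) : g = 1 :=
  hf g (by simp [Representation.character, hg])

/-- A character whose linear constituents exhaust it is trivial on commutators. -/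
theorem comm_of_linear {H : Type u} [Group H] [Fintype H] (f : H →* G) (hf : Function.Injective f)
    {χ : G → ℂ} (hχ : IsCharacter G χ) (hfaith : ∀ g, χ g = χ 1 → g = 1) (m : IrrCharacter H → ℕ)
    (hm : χ ∘ f = ∑ ψ, m ψ • (ψ : H → ℂ)) (hlin : ∀ ψ, m ψ ≠ 0 → (ψ : H → ℂ) 1 = 1) (a b : H) :
    a * b = b * a := by
  have hab : a * b * a⁻¹ * b⁻¹ = 1 := by
    refine hf ?_
    rw [map_one]
    refine hfaith _ ?_
    have h1 := congrFun hm (a * b * a⁻¹ * b⁻¹)
    have h2 := congrFun hm 1
    simp only [Function.comp_apply, map_one] at h2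
    rw [Function.comp_apply] at h1
    rw [h1, h2, Finset.sum_apply, Finset.sum_apply]
    refine Finset.sum_congr rfl fun ψ _ => ?_
    by_cases h0 : m ψ = 0
    · simp [h0]
    obtain ⟨l, hl⟩ := exists_hom_of_degree_one (irr_isCharacter ψ.2) (hlin ψ h0)
    simp [hl, mul_comm (l a) (l b)]
  calc a * b = (a * b * a⁻¹ * b⁻¹) * (b * a) := by group
    _ = b * a := by rw [hab, one_mul]

/-- A central element acts as a scalar. -/
theorem central_value {H : Type u} [Group H] [Finite H] {χ : H → ℂ} (hχ : IsIrrCharacter H χ)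
    {z : H} (hz : ∀ a, z * a = a * z) :
    ∃ w : ℂ, (∀ a, χ (z * a) = w * χ a) ∧ w ^ orderOf z = 1 := by
  obtain ⟨n, ρ, hρ, rfl⟩ := id hχ
  haveI := hρ
  obtain ⟨w, hw⟩ := schur_scalar ρ (ρ z) fun k => by
    rw [← Module.End.mul_eq_comp, ← Module.End.mul_eq_comp, ← map_mul, hz, map_mul]
  have hmul : ∀ a, ρ.character (z * a) = w * ρ.character a := fun a => by
    show LinearMap.trace ℂ _ (ρ (z * a)) = w * LinearMap.trace ℂ _ (ρ a)
    rw [map_mul, hw, ← Module.End.one_eq_id, smul_one_mul, map_smul, smul_eq_mul]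
  have hpow : ∀ k : ℕ, ρ.character (z ^ k) = w ^ k * ρ.character 1 := by
    intro k
    induction k with
    | zero => rw [pow_zero, pow_zero, one_mul]
    | succ k ih => rw [pow_succ', hmul, ih]; ring
  refine ⟨w, hmul, mul_right_cancel₀ (irr_one_ne_zero hχ) ?_⟩
  rw [← hpow, pow_orderOf_eq_one, one_mul]

/-- The restriction to a Sylow subgroup: one constituent of degree `p`, and a central element with two
eigenvalues. -/
theorem exists_central {p : ℕ} [hp : Fact p.Prime] {χ : G → ℂ} (hχ : IsCharacter G χ)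
    (hfaith : ∀ g, χ g = χ 1 → g = 1) {n : ℕ} (hn : χ 1 = n) (hn2 : n < 2 * p) (P : Sylow p G)
    (hna : ∃ a ∈ (P : Subgroup G), ∃ b ∈ (P : Subgroup G), a * b ≠ b * a) [Fintype (P : Subgroup G)] :
    p ≤ n ∧ (∃ φ : IrrCharacter (P : Subgroup G), (φ : ↥(P : Subgroup G) → ℂ) 1 = p ∧
        classInner (fun a : (P : Subgroup G) => χ a) (φ : ↥(P : Subgroup G) → ℂ) ≠ 0) ∧
      ∃ (x : G) (w : ℂ), x ≠ 1 ∧ x ^ p = 1 ∧ w ^ p = 1 ∧ w ≠ 1 ∧
        ∀ j : ℕ, χ (x ^ j) = ((n - p : ℕ) : ℂ) + p * w ^ j := by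
  classical
  have hp2 := hp.out.two_le
  obtain ⟨m, hm⟩ := exists_decomposition (isCharacter_comp (P : Subgroup G).subtype hχ)
  have hd : ∀ ψ : IrrCharacter (P : Subgroup G), (ψ : ↥(P : Subgroup G) → ℂ) 1 = deg (ψ : ↥(P : Subgroup G) → ℂ) :=
    fun ψ => char_one_eq_deg (irr_isCharacter ψ.2)
  have hsum : n = ∑ ψ, m ψ * deg (ψ : ↥(P : Subgroup G) → ℂ) := by
    have h := congrFun hm 1
    simp only [Function.comp_apply, map_one, hn, Finset.sum_apply, Pi.smul_apply, hd, nsmul_eq_mul, Pi.mul_apply, Pi.natCast_apply] at h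
    exact_mod_cast h
  have hle : ∀ ψ, m ψ * deg (ψ : ↥(P : Subgroup G) → ℂ) ≤ n := fun ψ => by
    rw [hsum]
    exact Finset.single_le_sum (f := fun φ : IrrCharacter (P : Subgroup G) =>
      m φ * deg (φ : ↥(P : Subgroup G) → ℂ)) (fun φ _ => Nat.zero_le _) (Finset.mem_univ ψ)
  have hdeg : ∀ ψ, m ψ ≠ 0 → deg (ψ : ↥(P : Subgroup G) → ℂ) = 1 ∨ deg (ψ : ↥(P : Subgroup G) → ℂ) = p := by
    intro ψ h0
    obtain ⟨k, hk⟩ := IsPGroup.iff_card.mp P.2
    have h1 := deg_dvd_card (G := (P : Subgroup G)) ψ.2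
    rw [hk] at h1
    obtain ⟨i, -, hi⟩ := (Nat.dvd_prime_pow hp.out).mp h1
    rcases i with _ | _ | i
    · exact Or.inl (by simpa using hi)
    · exact Or.inr (by simpa using hi)
    · exfalso
      have h2 : p * p ≤ deg (ψ : ↥(P : Subgroup G) → ℂ) := by
        rw [hi, ← pow_two]
        exact Nat.pow_le_pow_right hp.out.pos (by omega)
      have h3 := hle ψ
      have h4 := Nat.le_mul_of_pos_left (deg (ψ : ↥(P : Subgroup G) → ℂ)) (Nat.pos_of_ne_zero h0)
      nlinarith
  obtain ⟨φ, hφ0, hφp⟩ : ∃ φ, m φ ≠ 0 ∧ deg (φ : ↥(P : Subgroup G) → ℂ) = p := by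
    by_contra hno
    push Not at hno
    obtain ⟨a, ha, b, hb, hab⟩ := hna
    refine hab (congrArg Subtype.val (comm_of_linear (P : Subgroup G).subtype
      (P : Subgroup G).subtype_injective hχ hfaith m hm (fun ψ h0 => ?_) ⟨a, ha⟩ ⟨b, hb⟩))
    rw [hd, (hdeg ψ h0).resolve_right (hno ψ h0), Nat.cast_one]
  have hpn : p ≤ n := by
    have h := hle φ
    rw [hφp] at h
    exact le_trans (Nat.le_mul_of_pos_left p (Nat.pos_of_ne_zero hφ0)) h
  have hrest : n = m φ * p + ∑ ψ ∈ Finset.univ.erase φ, m ψ * deg (ψ : ↥(P : Subgroup G) → ℂ) := by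
    rw [hsum, ← Finset.add_sum_erase _ _ (Finset.mem_univ φ), hφp]
  have hm1 : m φ = 1 := by
    have h1 : m φ * p < 2 * p := by omega
    have h2 := Nat.lt_of_mul_lt_mul_right h1
    omega
  have hlin : ∀ ψ, ψ ≠ φ → m ψ ≠ 0 → deg (ψ : ↥(P : Subgroup G) → ℂ) = 1 := by
    intro ψ hψ h0
    refine (hdeg ψ h0).resolve_right fun h => ?_
    have h1 := Finset.single_le_sum (f := fun θ : IrrCharacter (P : Subgroup G) =>
      m θ * deg (θ : ↥(P : Subgroup G) → ℂ)) (fun θ _ => Nat.zero_le _)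
      (Finset.mem_erase.mpr ⟨hψ, Finset.mem_univ ψ⟩)
    simp only [h] at h1
    have := Nat.le_mul_of_pos_left p (Nat.pos_of_ne_zero h0)
    rw [hm1, one_mul] at hrest
    omega
  refine ⟨hpn, ⟨φ, by rw [hd, hφp], ?_⟩, ?_⟩
  · rw [show (fun a : (P : Subgroup G) => χ a) = χ ∘ (P : Subgroup G).subtype from rfl,
      decomposition_coeff m hm φ, hm1, Nat.cast_one]
    exact one_ne_zero
  -- the central element of the derived subgroup
  have hc : commutator (P : Subgroup G) ≠ ⊥ := by
    intro h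
    obtain ⟨a, ha, b, hb, hab⟩ := hna
    have h1 : ⁅(⟨a, ha⟩ : (P : Subgroup G)), ⟨b, hb⟩⁆ ∈ commutator (P : Subgroup G) := by
      rw [commutator_def]
      exact Subgroup.commutator_mem_commutator (Subgroup.mem_top _) (Subgroup.mem_top _)
    rw [h, Subgroup.mem_bot] at h1
    exact hab (congrArg Subtype.val (commutatorElement_eq_one_iff_mul_comm.mp h1))
  have hinf : Subgroup.center ↥(P : Subgroup G) ⊓ commutator ↥(P : Subgroup G) ≠ ⊥ := by
    obtain ⟨k, hk⟩ := IsPGroup.iff_card.1 (P.2.to_subgroup (commutator ↥(P : Subgroup G)))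
    have hk0 : k ≠ 0 := fun h0 => hc (Subgroup.eq_bot_of_card_eq _ (by rw [hk, h0, pow_zero]))
    have hP' : IsPGroup p (ConjAct ↥(P : Subgroup G)) := P.2.of_equiv ConjAct.toConjAct
    obtain ⟨b, hb, hb1⟩ := hP'.exists_fixed_point_of_prime_dvd_card_of_fixed_point
      ↥(commutator ↥(P : Subgroup G)) (hk ▸ dvd_pow_self p hk0) (a := 1) (by intro g; exact smul_one g)
    intro h
    have h1 : (b : ↥(P : Subgroup G)) ∈ Subgroup.center ↥(P : Subgroup G) ⊓ commutator ↥(P : Subgroup G) :=
      Subgroup.mem_inf.2 ⟨Subgroup.mem_center_iff.2 fun g => by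
        have := congrArg Subtype.val (hb (ConjAct.toConjAct g))
        rw [ConjAct.Subgroup.val_conj_smul, ConjAct.toConjAct_smul] at this
        exact mul_inv_eq_iff_eq_mul.1 this, b.2⟩
    rw [h, Subgroup.mem_bot] at h1
    exact hb1 (Subtype.ext h1).symm
  obtain ⟨x, hxo⟩ := exists_prime_orderOf_dvd_card' (G := ↥(Subgroup.center (P : Subgroup G) ⊓
      commutator (P : Subgroup G))) p (by
    obtain ⟨k, hk⟩ := IsPGroup.iff_card.mp ((P.2.to_subgroup (Subgroup.center (P : Subgroup G) ⊓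
      commutator (P : Subgroup G))))
    rcases k with _ | k
    · exact absurd ((Subgroup.card_eq_one).mp (by simpa using hk)) hinf
    · rw [hk]; exact dvd_pow_self p (Nat.succ_ne_zero k))
  rw [← Subgroup.orderOf_coe] at hxo
  obtain ⟨hxZ, hxc⟩ := Subgroup.mem_inf.mp x.2
  set z : (P : Subgroup G) := (x : (P : Subgroup G)) with hz
  obtain ⟨w, hw, hwo⟩ := central_value φ.2 (z := z)
    fun a => (Subgroup.mem_center_iff.mp hxZ a).symm
  rw [hxo] at hwo
  have hφj : ∀ j : ℕ, (φ : ↥(P : Subgroup G) → ℂ) (z ^ j) = (p : ℂ) * w ^ j := by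
    intro j
    induction j with
    | zero => rw [pow_zero, pow_zero, mul_one, hd, hφp]
    | succ j ih => rw [pow_succ', hw, ih]; ring
  have hψj : ∀ ψ, ψ ≠ φ → m ψ ≠ 0 → ∀ j : ℕ, (ψ : ↥(P : Subgroup G) → ℂ) (z ^ j) = 1 := by
    intro ψ hψ h0 j
    obtain ⟨l, hl⟩ := exists_hom_of_degree_one (irr_isCharacter ψ.2) (by rw [hd, hlin ψ hψ h0, Nat.cast_one])
    have hz1 : l z = 1 := MonoidHom.mem_ker.mp (Abelianization.commutator_subset_ker l hxc)
    rw [hl]
    show ((l (z ^ j) : ℂˣ) : ℂ) = 1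
    rw [map_pow, hz1, one_pow, Units.val_one]
  have hrest' : n - p = ∑ ψ ∈ Finset.univ.erase φ, m ψ := by
    rw [hm1, one_mul] at hrest
    have : ∑ ψ ∈ Finset.univ.erase φ, m ψ * deg (ψ : ↥(P : Subgroup G) → ℂ) =
        ∑ ψ ∈ Finset.univ.erase φ, m ψ := by
      refine Finset.sum_congr rfl fun ψ hψ => ?_
      by_cases h0 : m ψ = 0
      · rw [h0, zero_mul]
      · rw [hlin ψ (Finset.ne_of_mem_erase hψ) h0, mul_one]
    omega
  have hval : ∀ j : ℕ, χ ((z : G) ^ j) = ((n - p : ℕ) : ℂ) + p * w ^ j := by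
    intro j
    have h := congrFun hm (z ^ j)
    simp only [Function.comp_apply, Subgroup.coe_subtype, Subgroup.coe_pow, Finset.sum_apply,
      Pi.smul_apply, nsmul_eq_mul, Pi.mul_apply, Pi.natCast_apply] at h
    rw [h, ← Finset.add_sum_erase _ _ (Finset.mem_univ φ), hm1, hφj, Nat.cast_one, one_mul, add_comm,
      hrest', Nat.cast_sum]
    congr 1
    refine Finset.sum_congr rfl fun ψ hψ => ?_
    by_cases h0 : m ψ = 0
    · simp [h0]
    · rw [hψj ψ (Finset.ne_of_mem_erase hψ) h0, mul_one]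
  have hzo : orderOf (z : G) = p := by rw [Subgroup.orderOf_coe]; exact hxo
  have hz1 : (z : G) ≠ 1 := fun e => hp.out.ne_one (by rw [← hzo, e, orderOf_one])
  refine ⟨z, w, hz1, orderOf_dvd_iff_pow_eq_one.mp hzo.dvd, hwo, fun h1 => hz1 (hfaith _ ?_), hval⟩
  have := hval 1
  rw [pow_one, h1, one_pow, mul_one] at this
  rw [this, hn, Nat.cast_sub hpn, sub_add_cancel]

/-- The element can be chosen with the two eigenvalues at distance less than one. -/
theorem exists_near {p : ℕ} [hp : Fact p.Prime] (h7 : 7 ≤ p) {χ : G → ℂ}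
    (hfaith : ∀ g, χ g = χ 1 → g = 1) {n : ℕ} (hn : χ 1 = n) (hpn : p ≤ n) {x : G} {w : ℂ}
    (hx : x ^ p = 1) (hw : w ^ p = 1) (hw1 : w ≠ 1)
    (hval : ∀ j : ℕ, χ (x ^ j) = ((n - p : ℕ) : ℂ) + p * w ^ j) :
    ∃ (y : G) (ζ : ℂ), y ≠ 1 ∧ y ^ p = 1 ∧ ζ ^ p = 1 ∧ ζ ≠ 1 ∧ ‖ζ - 1‖ < 1 ∧
      ∀ j : ℕ, χ (y ^ j) = ((n - p : ℕ) : ℂ) + p * ζ ^ j := by
  have hpne : p ≠ 0 := hp.out.ne_zero
  set ζ : ℂ := Complex.exp (2 * Real.pi * Complex.I / p) with hζ
  have hζprim : IsPrimitiveRoot ζ p := Complex.isPrimitiveRoot_exp p hpne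
  have hwprim : IsPrimitiveRoot w p := by
    rw [IsPrimitiveRoot.iff_orderOf]
    exact orderOf_eq_prime hw hw1
  haveI : NeZero p := ⟨hpne⟩
  obtain ⟨i, -, hi⟩ := hwprim.eq_pow_of_pow_eq_one hζprim.pow_eq_one
  have hζ1 : ζ ≠ 1 := hζprim.ne_one hp.out.one_lt
  have hvi : ∀ j : ℕ, χ ((x ^ i) ^ j) = ((n - p : ℕ) : ℂ) + p * ζ ^ j := fun j => by
    rw [← pow_mul, hval, pow_mul, hi]
  refine ⟨x ^ i, ζ, fun e => hζ1 ?_, ?_, hζprim.pow_eq_one, hζ1, ?_, hvi⟩
  · have h := hvi 1
    rw [pow_one, e, hn, pow_one, Nat.cast_sub hpn] at h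
    have h' : (p : ℂ) * ζ = p * 1 := by linear_combination -h
    exact mul_left_cancel₀ (Nat.cast_ne_zero.mpr hpne) h'
  · rw [← pow_mul, mul_comm, pow_mul, hx, one_pow]
  · have e : ζ = Complex.exp (Complex.I * ((2 * Real.pi / p : ℝ) : ℂ)) := by
      rw [hζ]; congr 1; push_cast; ring
    rw [e]
    refine lt_of_le_of_lt Real.norm_exp_I_mul_ofReal_sub_one_le ?_
    rw [Real.norm_eq_abs, abs_of_nonneg (by positivity), div_lt_one (by positivity)]
    have h7' : (7 : ℝ) ≤ p := by exact_mod_cast h7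
    linarith [Real.pi_lt_d2]

/-- The conjugates of an element with two close eigenvalues commute. -/
theorem commute_conj {p : ℕ} [hp : Fact p.Prime] {n : ℕ} (ρ : Representation ℂ G (Fin n → ℂ))
    (hinj : ∀ g, ρ g = 1 → g = 1) {c : ℕ} {y : G} {ζ : ℂ} (hy : y ^ p = 1) (hζ : ζ ^ p = 1)
    (hnear : ‖ζ - 1‖ < 1)
    (hval : ∀ j : ℕ, ρ.character (y ^ j) = (c : ℂ) + p * ζ ^ j) (g : G) :
    Commute y (g * y * g⁻¹) := by
  classical
  have hT : ρ y ^ p = 1 := by rw [← map_pow, hy, map_one]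
  obtain ⟨b, μ, hμ, hb⟩ := exists_eigenbasis_of_pow_eq_one (ρ y) p hp.out.ne_zero hT
  have htr : ∀ j : ℕ, ρ.character (y ^ j) = ∑ i, μ i ^ j := fun j =>
    trace_of_eigenbasis b _ (fun i => μ i ^ j)
      (fun i => by rw [map_pow]; exact eigenbasis_pow_apply b _ μ hb j i)
  have geom : ∀ ν : ℂ, ν ^ p = 1 → ∑ k ∈ Finset.range p, ν ^ k = if ν = 1 then (p : ℂ) else 0 := by
    intro ν hν
    split_ifs with h
    · simp [h]
    · rw [geom_sum_eq h, hν, sub_self, zero_div]
  have hμ01 : ∀ i, μ i = 1 ∨ μ i = ζ := by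
    intro i
    by_contra hcon
    push Not at hcon
    set a := (μ i)⁻¹ with ha
    have hμ0 : μ i ≠ 0 := fun e => by simpa [e, hp.out.ne_zero] using hμ i
    have hap : a ^ p = 1 := by rw [ha, inv_pow, hμ i, inv_one]
    have h1 : ∑ k ∈ Finset.range p, a ^ k * ρ.character (y ^ k) = 0 := by
      simp only [hval, mul_add, Finset.sum_add_distrib, ← Finset.sum_mul]
      rw [geom a hap, if_neg (fun e => hcon.1 (inv_eq_one.mp e)), zero_mul, zero_add]
      rw [show ∑ k ∈ Finset.range p, a ^ k * ((p : ℂ) * ζ ^ k) =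
          (p : ℂ) * ∑ k ∈ Finset.range p, (a * ζ) ^ k by
        rw [Finset.mul_sum]; exact Finset.sum_congr rfl fun k _ => by rw [mul_pow]; ring,
        geom _ (by rw [mul_pow, hap, hζ, one_mul]),
        if_neg (fun e => hcon.2 ((inv_mul_eq_one₀ hμ0).mp e)), mul_zero]
    simp only [htr, Finset.mul_sum, ← mul_pow] at h1
    rw [Finset.sum_comm] at h1
    simp only [fun j => geom (a * μ j) (by rw [mul_pow, hap, hμ j, one_mul]), Finset.sum_ite,
      Finset.sum_const_zero, add_zero, Finset.sum_const, nsmul_eq_mul] at h1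
    rcases mul_eq_zero.mp h1 with h | h
    · rw [Nat.cast_eq_zero, Finset.card_eq_zero, Finset.filter_eq_empty_iff] at h
      exact h (Finset.mem_univ i) (inv_mul_cancel₀ hμ0)
    · exact hp.out.ne_zero (by exact_mod_cast h)
  have heig : ∀ (ν : ℂ) (v : Fin n → ℂ), v ≠ 0 → ρ y v = ν • v → ν = 1 ∨ ν = ζ := by
    intro ν v hv hνv
    obtain ⟨i, hi⟩ : ∃ i, b.repr v i ≠ 0 := by
      by_contra hh
      push Not at hh
      exact hv (b.repr.map_eq_zero_iff.mp (Finsupp.ext hh))
    have h1 : b.repr (ρ y v) i = μ i * b.repr v i := by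
      conv_lhs => rw [← b.sum_repr v]
      simp only [map_sum, map_smul, hb, Finsupp.coe_finset_sum, Finset.sum_apply, Finsupp.coe_smul,
        Pi.smul_apply, smul_eq_mul, b.repr_self, Finsupp.single_apply]
      rw [Finset.sum_eq_single i (fun k _ hk => by simp [hk]) (fun h => absurd (Finset.mem_univ i) h)]
      rw [if_pos rfl]; ring
    rw [hνv, map_smul, Finsupp.smul_apply, smul_eq_mul] at h1
    rw [mul_right_cancel₀ hi h1]
    exact hμ01 i
  have hζn : ‖ζ‖ = 1 := root_of_unity_norm hp.out.ne_zero hζ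
  have hinv : ∀ ε : ℂ, (ε = 1 ∨ ε = ζ) → ∀ v, ρ y v = ε • v →
      ρ y (ρ (g * y * g⁻¹) v) = ε • ρ (g * y * g⁻¹) v := by
    intro ε hε v hv
    refine Cfsg.Agent.Solv.Arc.invariant_of_arc (V := LinearMap.range (unitEmb ρ)) ρ
      (LinearEquiv.ofInjective (unitEmb ρ) (unitEmb_injective ρ))
      (fun g v => by rw [Submodule.coe_norm, Submodule.coe_norm, LinearEquiv.ofInjective_apply,
        LinearEquiv.ofInjective_apply, norm_unitEmb]) (z := y) (ε := ε) ?_ ?_ g v hv
    · rcases hε with rfl | rfl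
      · exact norm_one
      · exact hζn
    · intro ν w hw hνw
      rcases hε with rfl | rfl <;> rcases heig ν w hw hνw with rfl | rfl
      · simp
      · exact hnear
      · rw [norm_sub_rev]; exact hnear
      · simp
  show y * (g * y * g⁻¹) = g * y * g⁻¹ * y
  have h : ρ (y * (g * y * g⁻¹)) = ρ (g * y * g⁻¹ * y) := by
    refine b.ext fun i => ?_
    rw [map_mul ρ y, map_mul ρ (g * y * g⁻¹) y, Module.End.mul_apply, Module.End.mul_apply,
      hinv (μ i) (hμ01 i) (b i) (hb i), hb i, map_smul]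
  exact (inv_mul_eq_one.mp (hinj _ (by rw [map_mul, h, ← map_mul, inv_mul_cancel, map_one]))).symm

/-- The abelian normal `p`-subgroup generated by the conjugates. -/
theorem exists_abelian_normal {p : ℕ} {y : G} (hy : y ^ p = 1)
    (hc : ∀ g : G, Commute y (g * y * g⁻¹)) :
    ∃ A : Subgroup G, A.Normal ∧ y ∈ A ∧ (∀ a b : A, a * b = b * a) := by
  refine ⟨Subgroup.normalClosure {y}, inferInstance, Subgroup.subset_normalClosure rfl, ?_⟩
  have hcomm : ∀ a ∈ Group.conjugatesOfSet ({y} : Set G), ∀ b ∈ Group.conjugatesOfSet ({y} : Set G),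
      a * b = b * a := by
    intro a ha b hb
    obtain ⟨_, rfl, ha'⟩ := Group.mem_conjugatesOfSet_iff.mp ha
    obtain ⟨_, rfl, hb'⟩ := Group.mem_conjugatesOfSet_iff.mp hb
    obtain ⟨u, rfl⟩ := isConj_iff.mp ha'
    obtain ⟨v, rfl⟩ := isConj_iff.mp hb'
    have h := (hc (u⁻¹ * v)).map (MulAut.conj u).toMonoidHom
    simpa [Commute, SemiconjBy, MulAut.conj_apply, mul_assoc] using h.eq
  haveI : IsMulCommutative (Subgroup.normalClosure ({y} : Set G)) := Subgroup.isMulCommutative_closure hcomm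
  exact fun a b => IsMulCommutative.is_comm.comm a b

/-- Over an abelian normal subgroup on which the character is not homogeneous. -/
theorem exists_centralizer_data {χ : IrrCharacter G}
    (hfaith : ∀ g : G, (χ : G → ℂ) g = (χ : G → ℂ) 1 → g = 1) {n : ℕ} (hn : (χ : G → ℂ) 1 = n)
    (A : Subgroup G) [A.Normal] (hab : ∀ a b : A, a * b = b * a)
    {y : G} (hyA : y ∈ A) (hy : ‖(χ : G → ℂ) y‖ ≠ n) :
    ∃ (r e : ℕ), n = r * e ∧ 2 ≤ r ∧ (Subgroup.centralizer (A : Set G)).index ∣ r.factorial ∧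
      ∀ [Fintype (Subgroup.centralizer (A : Set G))] (ψ : IrrCharacter (Subgroup.centralizer (A : Set G))),
        classInner (fun c : Subgroup.centralizer (A : Set G) => (χ : G → ℂ) c)
          (ψ : Subgroup.centralizer (A : Set G) → ℂ) ≠ 0 →
        deg (ψ : Subgroup.centralizer (A : Set G) → ℂ) ≤ e := by
  classical
  haveI := Fintype.ofFinite A
  have hχc := irr_isCharacter χ.2
  have hlin : ∀ θ : IrrCharacter A, (θ : A → ℂ) 1 = 1 := forall_linear_iff_comm.1 hab
  obtain ⟨m, hm⟩ := exists_decomposition (isCharacter_comp A.subtype hχc)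
  obtain ⟨θ, hθ⟩ : ∃ θ : IrrCharacter A, m θ ≠ 0 := by
    by_contra hcon
    simp only [not_exists, not_not] at hcon
    apply irr_one_ne_zero χ.2
    have := congrFun hm 1
    simpa [hcon] using this
  have hθc : classInner (fun a : A => (χ : G → ℂ) a) (θ : A → ℂ) = (m θ : ℂ) :=
    decomposition_coeff m hm θ
  have hcl := clifford_restrict χ θ (by rw [hθc]; exact_mod_cast hθ)
  rw [hθc] at hcl
  set O := cliffOrbit A θ with hO
  have hnre : n = O.card * m θ := by
    have h := congrFun hcl 1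
    simp only [Pi.smul_apply, smul_eq_mul, Finset.sum_apply, OneMemClass.coe_one, hlin, Finset.sum_const,
      nsmul_eq_mul, mul_one, hn] at h
    have h' : n = m θ * O.card := by exact_mod_cast h
    rw [h', mul_comm]
  have hsame : ∀ ψ ∈ O, m ψ = m θ := by
    intro ψ hψ
    obtain ⟨g, rfl⟩ := mem_cliffOrbit.mp hψ
    have h := classInner_restrict_conj (N := A) (isClassFunction_character hχc) (θ : A → ℂ) g
    rw [hθc] at h
    have h2 : classInner (fun a : A => (χ : G → ℂ) a) (irrComp (MulAut.conjNormal g) θ : A → ℂ) =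
        (m (irrComp (MulAut.conjNormal g) θ) : ℂ) := decomposition_coeff m hm _
    exact_mod_cast h2.symm.trans h
  have hout : ∀ ψ : IrrCharacter A, m ψ ≠ 0 → ψ ∈ O := fun ψ h0 =>
    mem_cliffOrbit_of_constituent (χ := χ) (θ := θ) (by rw [hθc]; exact_mod_cast hθ)
      (by rw [show classInner (fun a : A => (χ : G → ℂ) a) (ψ : A → ℂ) = (m ψ : ℂ) from
        decomposition_coeff m hm ψ]; exact_mod_cast h0)
  have hr2 : 2 ≤ O.card := by
    by_contra hlt
    have h1 : 1 ≤ O.card := Finset.card_pos.mpr ⟨θ, self_mem_cliffOrbit θ⟩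
    obtain ⟨ψ, hψ⟩ := Finset.card_eq_one.mp (show O.card = 1 by omega)
    refine hy ?_
    have h := congrFun hcl ⟨y, hyA⟩
    simp only [hψ, Finset.sum_singleton, Pi.smul_apply, smul_eq_mul] at h
    obtain ⟨l, hl⟩ := exists_hom_of_degree_one (irr_isCharacter ψ.2) (hlin ψ)
    rw [h, hnre, show O.card = 1 by omega, one_mul, hl, norm_mul, Complex.norm_natCast,
      Complex.norm_eq_one_of_pow_eq_one (linear_pow_card l _) (orderOf_pos _).ne', mul_one]
  refine ⟨O.card, m θ, hnre, hr2, ?_, ?_⟩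
  · -- the permutation action on the orbit
    have hmemO : ∀ (g : G) (ψ : IrrCharacter A), ψ ∈ O → irrComp (MulAut.conjNormal g) ψ ∈ O := by
      intro g ψ hψ
      obtain ⟨h, rfl⟩ := mem_cliffOrbit.mp hψ
      refine mem_cliffOrbit.mpr ⟨h * g, Subtype.ext (funext fun a => ?_)⟩
      simp [irrComp_apply, map_mul, MulAut.mul_apply]
    let act : G →* Equiv.Perm {ψ // ψ ∈ O} :=
      { toFun := fun g =>
          { toFun := fun ψ => ⟨irrComp (MulAut.conjNormal g⁻¹) ψ.1, hmemO _ _ ψ.2⟩
            invFun := fun ψ => ⟨irrComp (MulAut.conjNormal g) ψ.1, hmemO _ _ ψ.2⟩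
            left_inv := fun ψ => Subtype.ext (Subtype.ext (funext fun a => by
              simp [irrComp_apply, map_inv]))
            right_inv := fun ψ => Subtype.ext (Subtype.ext (funext fun a => by
              simp [irrComp_apply, map_inv])) }
        map_one' := Equiv.ext fun ψ => Subtype.ext (Subtype.ext (funext fun a => by
          simp [irrComp_apply]))
        map_mul' := fun g h => Equiv.ext fun ψ => Subtype.ext (Subtype.ext (funext fun a => by
          simp [irrComp_apply, map_mul, MulAut.mul_apply])) }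
    have hker : act.ker = Subgroup.centralizer (A : Set G) := by
      ext g
      rw [MonoidHom.mem_ker, Subgroup.mem_centralizer_iff]
      constructor
      · intro hg a ha
        set a' : A := ⟨a, ha⟩
        set c : A := (MulAut.conjNormal g⁻¹ a') * a'⁻¹ with hc
        have hc1 : (c : G) = 1 := by
          refine hfaith _ ?_
          have h1 := congrFun hcl c
          have h2 := congrFun hcl 1
          simp only [Pi.smul_apply, Finset.sum_apply, OneMemClass.coe_one] at h1 h2
          rw [h1, h2]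
          congr 1
          refine Finset.sum_congr rfl fun ψ hψ => ?_
          obtain ⟨l, hl⟩ := exists_hom_of_degree_one (irr_isCharacter ψ.2) (hlin ψ)
          have h3 := congrFun (congrArg Subtype.val (congrArg Subtype.val
            (Equiv.ext_iff.mp hg ⟨ψ, hψ⟩))) a'
          simp only [MonoidHom.coe_mk, OneHom.coe_mk, Equiv.coe_fn_mk, Equiv.Perm.one_apply, act,
            irrComp_apply, hl] at h3
          have h4 : l (MulAut.conjNormal g⁻¹ a') = l a' := Units.ext h3
          rw [hl, hc]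
          show ((l (MulAut.conjNormal g⁻¹ a' * a'⁻¹) : ℂˣ) : ℂ) = ((l 1 : ℂˣ) : ℂ)
          rw [map_mul l, map_inv l, h4, mul_inv_cancel, map_one]
        rw [hc, Subgroup.coe_mul, Subgroup.coe_inv, MulAut.conjNormal_apply, inv_inv,
          mul_inv_eq_one] at hc1
        change g⁻¹ * a * g = a at hc1
        calc a * g = g * (g⁻¹ * a * g) := by group
          _ = g * a := by rw [hc1]
      · intro hg
        refine Equiv.ext fun ψ => Subtype.ext (Subtype.ext (funext fun a => ?_))
        show ((irrComp (MulAut.conjNormal g⁻¹) ψ.1 : IrrCharacter A) : A → ℂ) a = _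
        rw [irrComp_apply, Equiv.Perm.one_apply]
        refine congrArg _ (Subtype.ext ?_)
        rw [MulAut.conjNormal_apply, inv_inv, mul_assoc, hg a a.2, inv_mul_cancel_left]
    rw [← hker, Subgroup.index_ker]
    refine (Subgroup.card_subgroup_dvd_card _).trans ?_
    rw [Nat.card_perm, Nat.card_eq_fintype_card, Fintype.card_coe]
  · set C := Subgroup.centralizer (A : Set G)
    intro _ ψ hψ
    have hAC : A ≤ C := fun a ha => Subgroup.mem_centralizer_iff.mpr fun b hb =>
      congrArg Subtype.val (hab ⟨b, hb⟩ ⟨a, ha⟩)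
    let inc : A →* C := Subgroup.inclusion hAC
    obtain ⟨mC, hmC⟩ := exists_decomposition (isCharacter_comp C.subtype hχc)
    have hψm : mC ψ ≠ 0 := fun h0 => hψ (by
      rw [show (fun c : C => (χ : G → ℂ) c) = (χ : G → ℂ) ∘ C.subtype from rfl,
        decomposition_coeff mC hmC ψ, h0, Nat.cast_zero])
    have hψc := irr_isCharacter ψ.2
    obtain ⟨mA, hmA⟩ := exists_decomposition (isCharacter_comp inc hψc)
    obtain ⟨d, hd⟩ := charOne_eq_natCast hψc
    -- the restriction to the central subgroup has a single constituent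
    have hcent : ∀ (a : A) (c : C), inc a * c = c * inc a := fun a c =>
      Subtype.ext ((Subgroup.mem_centralizer_iff.mp c.2) a a.2)
    choose w hw _h1 using fun a : A => central_value ψ.2 (z := inc a) (hcent a)
    have hwmul : ∀ a b : A, w (a * b) = w a * w b := by
      intro a b
      have h1 := hw (a * b) 1
      rw [map_mul, mul_assoc, hw a, hw b, ← mul_assoc] at h1
      exact (mul_right_cancel₀ (irr_one_ne_zero ψ.2) h1).symm
    have hw1 : w 1 = 1 := by
      have h1 := hw 1 1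
      rw [map_one, one_mul] at h1
      exact mul_right_cancel₀ (irr_one_ne_zero ψ.2) (h1.symm.trans (one_mul _).symm)
    let l : A →* ℂˣ := (show A →* ℂ from ⟨⟨w, hw1⟩, hwmul⟩).toHomUnits
    let lam : IrrCharacter A := ⟨fun a => (l a : ℂ), isIrrCharacter_linear l⟩
    have hval : (ψ : C → ℂ) ∘ inc = (d : ℂ) • (lam : A → ℂ) := funext fun a => by
      have h1 := hw a 1
      rw [mul_one, hd] at h1
      show (ψ : C → ℂ) (inc a) = (d : ℂ) * (l a : ℂ)
      rw [h1, mul_comm]
      rfl
    have hlam : d ≤ m lam := by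
      have h2 : (m lam : ℂ) = ∑ φ : IrrCharacter C, (mC φ : ℂ) *
          classInner ((φ : C → ℂ) ∘ inc) (lam : A → ℂ) := by
        rw [← decomposition_coeff m hm lam, show (χ : G → ℂ) ∘ A.subtype =
          ∑ φ : IrrCharacter C, mC φ • ((φ : C → ℂ) ∘ inc) from funext fun a => by
            have := congrFun hmC (inc a)
            simp only [Finset.sum_apply, Pi.smul_apply] at this ⊢
            exact this, classInner_sum_left]
        simp only [← Nat.cast_smul_eq_nsmul ℂ, classInner_smul_left]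
      choose k hk using fun φ : IrrCharacter C =>
        classInner_natCast (isCharacter_comp inc (irr_isCharacter φ.2)) (irr_isCharacter lam.2)
      simp only [hk] at h2
      have h3 : m lam = ∑ φ : IrrCharacter C, mC φ * k φ := by exact_mod_cast h2
      have hkψ : k ψ = d := by
        have := hk ψ
        rw [hval, classInner_smul_left, irr_self lam.2, mul_one] at this
        exact_mod_cast this.symm
      rw [h3]
      refine le_trans ?_ (Finset.single_le_sum (f := fun φ => mC φ * k φ) (fun φ _ => Nat.zero_le _)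
        (Finset.mem_univ ψ))
      rw [hkψ]
      exact Nat.le_mul_of_pos_left d (Nat.pos_of_ne_zero hψm)
    have hdd : deg (ψ : C → ℂ) = d := by
      exact_mod_cast (char_one_eq_deg hψc).symm.trans hd
    rw [hdd]
    rcases Nat.eq_zero_or_pos d with h0 | h0
    · omega
    · exact hlam.trans (hsame lam (hout lam (by omega))).le

/-- The bound on the `p`-part. -/
theorem not_sq_dvd {p : ℕ} [hp : Fact p.Prime] (h7 : 7 ≤ p) {χ : IrrCharacter G}
    (hfaith : ∀ g : G, (χ : G → ℂ) g = (χ : G → ℂ) 1 → g = 1) {n : ℕ} (hn : (χ : G → ℂ) 1 = n)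
    (hn2 : n < 2 * p) (hnp : n ≠ p)
    (hna : ∃ P : Sylow p G, ∃ a ∈ (P : Subgroup G), ∃ b ∈ (P : Subgroup G), a * b ≠ b * a) :
    ¬ p ^ 2 ∣ (Cfsg.pCore p G).index := by
  classical
  obtain ⟨P, hP⟩ := hna
  haveI := Fintype.ofFinite (P : Subgroup G)
  obtain ⟨hpn, ⟨φ, hφ1, hφ⟩, x, w, -, hx, hw, hw1, hval⟩ :=
    exists_central (irr_isCharacter χ.2) hfaith hn hn2 P hP
  obtain ⟨y, ζ, hy1, hy, hζ, hζ1, hnear, hvy⟩ := exists_near h7 hfaith hn hpn hx hw hw1 hval
  obtain ⟨d, ρ, -, hρχ⟩ := id χ.2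
  have hcomm : ∀ g : G, Commute y (g * y * g⁻¹) := by
    refine commute_conj ρ (fun g hg => ?_) hy hζ hnear (c := n - p) (fun j => by rw [hρχ]; exact hvy j)
    exact faithful_inj (fun g hg => hfaith g (by rw [← hρχ]; exact hg)) hg
  obtain ⟨A, hA, hyA, hab⟩ := exists_abelian_normal hy hcomm
  haveI := hA
  have hyn : ‖(χ : G → ℂ) y‖ ≠ n := by
    intro hnorm
    have h := hvy 1
    rw [pow_one, pow_one] at h
    rw [h] at hnorm
    have hsr : SameRay ℝ ((n - p : ℕ) : ℂ) ((p : ℂ) * ζ) := by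
      rw [sameRay_iff_norm_add, hnorm, norm_mul, Complex.norm_natCast, Complex.norm_natCast,
        root_of_unity_norm hp.out.ne_zero hζ, mul_one, Nat.cast_sub hpn, sub_add_cancel]
    rw [sameRay_iff_norm_smul_eq] at hsr
    simp only [Complex.norm_natCast, norm_mul, root_of_unity_norm hp.out.ne_zero hζ, mul_one,
      Complex.real_smul, Complex.ofReal_natCast] at hsr
    have hne : ((n - p : ℕ) : ℂ) * p ≠ 0 := mul_ne_zero (Nat.cast_ne_zero.mpr (by omega))
      (Nat.cast_ne_zero.mpr hp.out.ne_zero)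
    refine hζ1 (mul_left_cancel₀ hne ?_)
    linear_combination hsr
  obtain ⟨r, e, hre, hr2, hidx, hdeg⟩ := exists_centralizer_data hfaith hn A hab hyA hyn
  set C := Subgroup.centralizer (A : Set G) with hC
  haveI : C.Normal := Subgroup.normal_centralizer
  haveI := Fintype.ofFinite C
  obtain ⟨mC, hmC⟩ := exists_decomposition (isCharacter_comp C.subtype (irr_isCharacter χ.2))
  have hne : ∀ ψ, mC ψ ≠ 0 → deg (ψ : C → ℂ) ≤ e := fun ψ h0 => hdeg ψ (by
    rw [show (fun c : C => (χ : G → ℂ) c) = (χ : G → ℂ) ∘ C.subtype from rfl, decomposition_coeff mC hmC ψ]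
    exact_mod_cast h0)
  have hrn : r < 2 * p := by
    rcases Nat.eq_zero_or_pos e with h | h
    · rw [h, mul_zero] at hre; omega
    · exact lt_of_le_of_lt (by rw [hre]; exact Nat.le_mul_of_pos_right r h) hn2
  by_cases he : e ≤ 1
  · -- the centralizer is abelian
    have hCab : ∀ a b : C, a * b = b * a := comm_of_linear C.subtype C.subtype_injective
      (irr_isCharacter χ.2) hfaith mC hmC fun ψ h0 => by
        have h1 := hne ψ h0
        have h2 := deg_pos ψ.2
        rw [char_one_eq_deg (irr_isCharacter ψ.2), show deg (ψ : C → ℂ) = 1 by omega, Nat.cast_one]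
    obtain ⟨S⟩ : Nonempty (Sylow p C) := inferInstance
    haveI : (S : Subgroup C).Normal := ⟨fun a ha b => by rw [hCab b a, mul_inv_cancel_right]; exact ha⟩
    haveI := Sylow.characteristic_of_normal S inferInstance
    have hle : (S : Subgroup C).map C.subtype ≤ Cfsg.pCore p G := Fusion.le_pCore (S.2.map _)
    intro hd
    have h1 := hd.trans (Subgroup.index_dvd_of_le hle)
    rw [Subgroup.index_map_subtype] at h1
    have h2 : p ^ 2 ∣ C.index := ((hp.out.coprime_iff_not_dvd.mpr S.not_dvd_index).pow_left 2).dvd_of_dvd_mul_left h1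
    have h3 := h2.trans hidx
    rw [Nat.Prime.pow_dvd_factorial_iff hp.out (b := 2)
      (Nat.log_lt_of_lt_pow' (by omega) (by nlinarith))] at h3
    simp only [show Finset.Ico 1 2 = {1} from rfl, Finset.sum_singleton, pow_one] at h3
    have := (Nat.le_div_iff_mul_le hp.out.pos).mp h3
    omega
  · -- otherwise the Sylow subgroup centralizes
    exfalso
    have hrp : r < p := by
      by_contra hge
      have : p * 2 ≤ r * e := Nat.mul_le_mul (by omega) (by omega)
      omega
    have hep : e < p := by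
      have := Nat.mul_le_mul_right e hr2
      omega
    have hPC : (P : Subgroup G) ≤ C := by
      obtain ⟨k, hk⟩ := IsPGroup.iff_card.mp P.2
      rw [← Subgroup.relIndex_eq_one]
      refine Nat.eq_one_of_dvd_coprimes ?_ ((Subgroup.relIndex_dvd_card C (P : Subgroup G)).trans hk.dvd)
        ((Subgroup.relIndex_dvd_index_of_normal C (P : Subgroup G)).trans hidx)
      exact (hp.out.coprime_iff_not_dvd.mpr fun h =>
        absurd ((hp.out.dvd_factorial).mp h) (by omega)).pow_left k
    let inc : ↥(P : Subgroup G) →* C := Subgroup.inclusion hPC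
    apply hφ
    rw [show (fun a : (P : Subgroup G) => (χ : G → ℂ) a) =
        ∑ ψ : IrrCharacter C, mC ψ • ((ψ : C → ℂ) ∘ inc) from funext fun a => by
      have := congrFun hmC (inc a)
      simp only [Finset.sum_apply, Pi.smul_apply] at this ⊢
      exact this, classInner_sum_left]
    refine Finset.sum_eq_zero fun ψ _ => ?_
    rw [← Nat.cast_smul_eq_nsmul ℂ, classInner_smul_left]
    by_cases h0 : mC ψ = 0
    · simp [h0]
    by_contra hne'
    have h := degree_le_of_classInner_ne_zero (isCharacter_comp inc (irr_isCharacter ψ.2)) φ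
      (right_ne_zero_of_mul hne')
    have hbound := hne ψ h0
    simp only [Function.comp_apply, map_one, hφ1, char_one_eq_deg (irr_isCharacter ψ.2),
      Complex.natCast_re] at h
    have : p ≤ deg (ψ : C → ℂ) := by exact_mod_cast h
    omega

end Cfsg.Agent.Char.TwoArc
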