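import Cfsg.Agent.Lib.Char.Central
import Cfsg.Agent.Lib.Char.Inflate
import Cfsg.Agent.Lib.Char.Codegree
import Cfsg.Agent.Lib.Char.Convolution
import Cfsg.Agent.Lib.Char.Linear
import Cfsg.Prelude.Def_Transfer
import Mathlib

/-!
# Characters not vanishing on exactly two classes
-/

set_option autoImplicit false
set_option linter.unusedSectionVars false

namespace Cfsg.Agent.Char

open Cfsg
open scoped ComplexConjugate

universe u

variable {G : Type u} [Group G] [Fintype G]

/-- The number of classes on which a function is nonzero. -/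
def HasTwoClassSupport (χ : IrrCharacter G) : Prop :=
  Nat.card {C : ConjClasses G // ∃ g ∈ C.carrier, (χ : G → ℂ) g ≠ 0} = 2

theorem exists_support_class {χ : IrrCharacter G} (h : HasTwoClassSupport χ) :
    ∃ c : G, c ≠ 1 ∧ (χ : G → ℂ) c ≠ 0 ∧
      ∀ g : G, (χ : G → ℂ) g ≠ 0 → g = 1 ∨ IsConj c g := by
  classical
  let one : {C : ConjClasses G // ∃ g ∈ C.carrier, (χ : G → ℂ) g ≠ 0} :=
    ⟨ConjClasses.mk 1, 1, ConjClasses.mem_carrier_mk, irr_one_ne_zero χ.2⟩
  obtain ⟨x, y, hxy, hall⟩ := Nat.card_eq_two_iff.1 h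
  have hmem : ∀ z, z = x ∨ z = y := fun z => by
    have : z ∈ ({x, y} : Set _) := hall ▸ Set.mem_univ z
    simpa using this
  obtain ⟨z, hz⟩ : ∃ z, z ≠ one := by
    rcases hmem one with e | e
    · exact ⟨y, e ▸ hxy.symm⟩
    · exact ⟨x, e ▸ hxy⟩
  obtain ⟨c, hc, hc0⟩ := z.2
  have hcz : ConjClasses.mk c = z.1 := ConjClasses.mem_carrier_iff_mk_eq.1 hc
  refine ⟨c, fun e => hz (Subtype.ext (hcz.symm.trans (by rw [e]))), hc0, fun g hg => ?_⟩
  let w : {C : ConjClasses G // ∃ g ∈ C.carrier, (χ : G → ℂ) g ≠ 0} :=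
    ⟨ConjClasses.mk g, g, ConjClasses.mem_carrier_mk, hg⟩
  by_cases hw : w = one
  · exact Or.inl (isConj_one_left.1
      (ConjClasses.mk_eq_mk_iff_isConj.1 (congrArg Subtype.val hw)))
  · refine Or.inr (ConjClasses.mk_eq_mk_iff_isConj.1 ?_)
    rw [hcz]
    have : z = w := by
      rcases hmem z with e1 | e1 <;> rcases hmem w with e2 | e2 <;>
        rcases hmem one with e3 | e3 <;> first | exact e1.trans e2.symm | skip
      all_goals first | exact absurd (e1.trans e3.symm) hz | exact absurd (e2.trans e3.symm) hw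
    exact congrArg Subtype.val this

theorem sum_mul_eq_of_support {χ : IrrCharacter G} {c : G} (hc1 : c ≠ 1)
    (hsupp : ∀ g : G, (χ : G → ℂ) g ≠ 0 → g = 1 ∨ IsConj c g) (f : G → ℂ)
    (hf : IsClassFunction G f) :
    ∑ g : G, (χ : G → ℂ) g * f g =
      (χ : G → ℂ) 1 * f 1 + Nat.card {g : G // IsConj c g} * ((χ : G → ℂ) c * f c) := by
  classical
  rw [← Finset.add_sum_erase _ _ (Finset.mem_univ (1 : G))]
  congr 1
  rw [← Finset.sum_subset (s₁ := Finset.univ.filter fun g => IsConj c g)]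
  · rw [Finset.sum_congr rfl (g := fun _ => (χ : G → ℂ) c * f c), Finset.sum_const, nsmul_eq_mul,
      Nat.card_eq_fintype_card, Fintype.card_subtype]
    intro g hg
    obtain ⟨k, hk⟩ := isConj_iff.1 (Finset.mem_filter.1 hg).2
    rw [← hk, isClassFunction_character (irr_isCharacter χ.2), hf]
  · intro g hg
    refine Finset.mem_erase.2 ⟨fun e => hc1 ?_, Finset.mem_univ _⟩
    rw [e] at hg
    exact isConj_one_left.1 (Finset.mem_filter.1 hg).2
  · intro g hg hng
    by_contra hne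
    rcases hsupp g (left_ne_zero_of_mul hne) with e | e
    · exact Finset.ne_of_mem_erase hg e
    · exact hng (Finset.mem_filter.2 ⟨Finset.mem_univ _, e⟩)

/-- The structural consequences. -/
theorem two_class_data (hG : 2 < Nat.card G) {χ : IrrCharacter G} (h : HasTwoClassSupport χ) :
    ∃ c : G, c ≠ 1 ∧ (χ : G → ℂ) c ≠ (χ : G → ℂ) 1 ∧
      (χ : G → ℂ) 1 = -((Nat.card {g : G // IsConj c g} : ℂ) * (χ : G → ℂ) c) ∧
      (∀ g : G, (χ : G → ℂ) g ≠ 0 ↔ g = 1 ∨ IsConj c g) ∧
      ∀ ψ : IrrCharacter G, ψ ≠ χ → (ψ : G → ℂ) c = (ψ : G → ℂ) 1 := by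
  classical
  obtain ⟨c, hc1, hc0, hsupp⟩ := exists_support_class h
  set m : ℕ := Nat.card {g : G // IsConj c g} with hm
  have hm0 : (m : ℂ) ≠ 0 := by
    have : Nonempty {g : G // IsConj c g} := ⟨⟨c, IsConj.refl c⟩⟩
    exact Nat.cast_ne_zero.2 Nat.card_pos.ne'
  have hχ1 : (χ : G → ℂ) ≠ fun _ => 1 := by
    intro e
    have hall : ∀ g : G, g = 1 ∨ IsConj c g := fun g => hsupp g (by rw [e]; exact one_ne_zero)
    have hcent : ∀ g : G, g ∈ ({1, c} : Set G) := by
      -- all nontrivial elements are conjugate, so the group has order two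
      have hcl : ∀ g : G, g ≠ 1 → IsConj c g := fun g hg => (hall g).resolve_left hg
      have hm' : m = Nat.card G - 1 := by
        rw [hm, Nat.card_eq_fintype_card, Fintype.card_subtype, Nat.card_eq_fintype_card,
          ← Finset.card_univ, ← Finset.card_erase_of_mem (Finset.mem_univ (1 : G))]
        congr 1
        ext g
        simp only [Finset.mem_filter, Finset.mem_univ, true_and, Finset.mem_erase, and_true]
        exact ⟨fun hg e1 => hc1 (isConj_one_left.1 (e1 ▸ hg)), hcl g⟩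
      exfalso
      have hdvd : m ∣ Nat.card G := by
        exact ⟨Nat.card (Subgroup.centralizer ({c} : Set G)), (card_conjClass_mul_centralizer c).symm⟩
      obtain ⟨k, hk⟩ := hdvd
      rcases Nat.lt_or_ge k 2 with h2 | h2
      · interval_cases k <;> omega
      · have := Nat.mul_le_mul_left m h2
        omega
    have hle : Nat.card G ≤ 2 := by
      rw [Nat.card_eq_fintype_card, ← Finset.card_univ]
      exact (Finset.card_le_card (fun g _ => by
        simpa using hcent g : (Finset.univ : Finset G) ⊆ {1, c})).trans Finset.card_le_two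
    omega
  have hrel : (χ : G → ℂ) 1 = -((m : ℂ) * (χ : G → ℂ) c) := by
    have h1 := irrC_orth χ (⟨_, isIrrCharacter_one⟩ : IrrCharacter G)
    rw [if_neg fun e => hχ1 (congrArg Subtype.val e), classInner] at h1
    simp only [map_one, mul_one] at h1
    have h2 := sum_mul_eq_of_support hc1 hsupp (fun _ => (1 : ℂ)) (fun _ _ => rfl)
    simp only [mul_one] at h2
    rw [h2, mul_eq_zero] at h1
    exact eq_neg_of_add_eq_zero_left
      (h1.resolve_left (inv_ne_zero (Nat.cast_ne_zero.2 Nat.card_pos.ne')))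
  have hother : ∀ ψ : IrrCharacter G, ψ ≠ χ → (ψ : G → ℂ) c = (ψ : G → ℂ) 1 := by
    intro ψ hψ
    have h1 := irrC_orth χ ψ
    rw [if_neg (Ne.symm hψ), classInner] at h1
    rw [sum_mul_eq_of_support hc1 hsupp (fun g => conj ((ψ : G → ℂ) g)) (fun a k => by
      simp [isClassFunction_character (irr_isCharacter ψ.2) a k]), mul_eq_zero] at h1
    have h2 := h1.resolve_left (inv_ne_zero (Nat.cast_ne_zero.2 Nat.card_pos.ne'))
    rw [hrel, ← hm] at h2
    have h3 : conj ((ψ : G → ℂ) c) = conj ((ψ : G → ℂ) 1) := by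
      refine mul_left_cancel₀ (mul_ne_zero hm0 hc0) ?_
      linear_combination h2
    exact (starRingEnd ℂ).injective h3
  refine ⟨c, hc1, fun e => ?_, hrel, fun g => ⟨hsupp g, ?_⟩, hother⟩
  · obtain ⟨d, hd⟩ := charOne_eq_natCast (irr_isCharacter χ.2)
    rw [e] at hrel
    have : ((1 : ℂ) + m) * (χ : G → ℂ) 1 = 0 := by linear_combination hrel
    rcases mul_eq_zero.1 this with h1 | h1
    · exact (Nat.cast_ne_zero.2 (Nat.succ_ne_zero m)) (by push_cast; linear_combination h1)
    · exact irr_one_ne_zero χ.2 h1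
  · rintro (rfl | hg)
    · exact irr_one_ne_zero χ.2
    · obtain ⟨k, hk⟩ := isConj_iff.1 hg
      rw [← hk, isClassFunction_character (irr_isCharacter χ.2)]
      exact hc0

theorem two_class_conclusions (hG : 2 < Nat.card G) {χ : IrrCharacter G} (h : HasTwoClassSupport χ) :
    (∀ g : G, (χ : G → ℂ) g = (χ : G → ℂ) 1 → g = 1) ∧
      (∀ ψ : IrrCharacter G, (∀ g : G, (ψ : G → ℂ) g = (ψ : G → ℂ) 1 → g = 1) → ψ = χ) ∧
      ∀ ψ : IrrCharacter G, HasTwoClassSupport ψ → ψ = χ := by
  obtain ⟨c, hc1, hcd, hrel, hiff, hother⟩ := two_class_data hG h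
  refine ⟨fun g hg => ?_, fun ψ hψ => ?_, fun ψ hψ => ?_⟩
  · rcases (hiff g).1 (by rw [hg]; exact irr_one_ne_zero χ.2) with e | e
    · exact e
    · obtain ⟨k, hk⟩ := isConj_iff.1 e
      rw [← hk, isClassFunction_character (irr_isCharacter χ.2)] at hg
      exact absurd hg hcd
  · by_contra hne
    exact hc1 (hψ c (hother ψ hne))
  · by_contra hne
    obtain ⟨c', hc', hcd', -, hiff', -⟩ := two_class_data hG hψ
    rcases (hiff' c).1 (by rw [hother ψ hne]; exact irr_one_ne_zero ψ.2) with e | e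
    · exact hc1 e
    · obtain ⟨k, hk⟩ := isConj_iff.1 e
      refine hcd' ?_
      rw [← isClassFunction_character (irr_isCharacter ψ.2) c' k, hk, hother ψ hne]

theorem two_class_minimal (hG : 2 < Nat.card G) {χ : IrrCharacter G} (h : HasTwoClassSupport χ) :
    ∃ N : Subgroup G, N.Normal ∧ N ≠ ⊥ ∧ (∀ K : Subgroup G, K.Normal → K ≠ ⊥ → N ≤ K) ∧
      (∃ p : ℕ, p.Prime ∧ Cfsg.IsElementaryAbelian p N) ∧
      (∀ g : G, (χ : G → ℂ) g ≠ 0 ↔ g ∈ N) ∧
      ∀ x ∈ N, ∀ y ∈ N, x ≠ 1 → y ≠ 1 → ∃ g : G, g * x * g⁻¹ = y := by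
  classical
  obtain ⟨c, hc1, hcd, hrel, hiff, hother⟩ := two_class_data hG h
  have hfaith := (two_class_conclusions hG h).1
  choose Ker hKn hKer using fun ψ : IrrCharacter G => exists_charKernel (irr_isCharacter ψ.2)
  haveI := hKn
  set N : Subgroup G := ⨅ ψ ∈ {ψ : IrrCharacter G | ψ ≠ χ}, Ker ψ with hNdef
  have hmemN : ∀ g, g ∈ N ↔ ∀ ψ : IrrCharacter G, ψ ≠ χ → (ψ : G → ℂ) g = (ψ : G → ℂ) 1 := fun g => by
    simp [hNdef, Subgroup.mem_iInf, hKer]
  have hN : ∀ g, g ∈ N ↔ g = 1 ∨ IsConj c g := by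
    intro g
    constructor
    · intro hg
      by_contra hno
      have hg0 : (χ : G → ℂ) g = 0 := by_contra fun h0 => hno ((hiff g).1 h0)
      push Not at hno
      have h1 := second_orth g (1 : G)
      rw [if_neg fun e => hno.1 (isConj_one_left.1 e),
        ← Finset.add_sum_erase _ _ (Finset.mem_univ χ), hg0, zero_mul, zero_add] at h1
      have hid : ∑ ψ ∈ Finset.univ.erase χ, (ψ : G → ℂ) g * conj ((ψ : G → ℂ) 1) =
          ∑ ψ ∈ Finset.univ.erase χ, ((((charDegree (ψ : G → ℂ)) ^ 2 : ℕ)) : ℂ) := by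
        refine Finset.sum_congr rfl fun ψ hψ => ?_
        rw [(hmemN g).1 hg ψ (Finset.ne_of_mem_erase hψ)]
        obtain ⟨d, hd⟩ := charOne_eq_natCast (irr_isCharacter ψ.2)
        rw [charDegree, hd, map_natCast, Complex.natCast_re, Nat.floor_natCast]
        push_cast
        ring
      rw [hid, ← Nat.cast_sum, Nat.cast_eq_zero, Finset.sum_eq_zero_iff] at h1
      have hne1 : (⟨_, isIrrCharacter_one⟩ : IrrCharacter G) ≠ χ := fun e => by
        have := congrArg Subtype.val e
        exact hc1 (hfaith c (by rw [← this]))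
      have h2 := h1 _ (Finset.mem_erase.2 ⟨hne1, Finset.mem_univ _⟩)
      simp [charDegree] at h2
    · intro hg
      refine (hmemN g).2 fun ψ hψ => ?_
      rcases hg with rfl | hg
      · rfl
      · obtain ⟨k, hk⟩ := isConj_iff.1 hg
        rw [← hk, isClassFunction_character (irr_isCharacter ψ.2)]
        exact hother ψ hψ
  haveI hNn : N.Normal := ⟨fun a ha k => (hN _).2 (((hN a).1 ha).imp (fun e => by rw [e]; group)
    fun e => e.trans (isConj_iff.2 ⟨k, rfl⟩))⟩
  have hcN : c ∈ N := (hN c).2 (Or.inr (IsConj.refl c))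
  have hNb : N ≠ ⊥ := fun e => hc1 (Subgroup.mem_bot.1 (e ▸ hcN))
  have hconj : ∀ x ∈ N, ∀ y ∈ N, x ≠ 1 → y ≠ 1 → ∃ g : G, g * x * g⁻¹ = y := fun x hx y hy hx1 hy1 =>
    isConj_iff.1 ((((hN x).1 hx).resolve_left hx1).symm.trans (((hN y).1 hy).resolve_left hy1))
  have hmin : ∀ K : Subgroup G, K.Normal → K ≠ ⊥ → N ≤ K := by
    intro K hK hKb
    haveI := hK
    intro g hg
    haveI := Fintype.ofFinite (G ⧸ K)
    have hsep : IsConj (QuotientGroup.mk g : G ⧸ K) (1 : G ⧸ K) := by
      refine isConj_of_forall_irr_eq fun η => ?_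
      let ψ : IrrCharacter G := ⟨_, isIrr_inflate K η.2⟩
      have hψ : ψ ≠ χ := fun e => hKb ((Subgroup.eq_bot_iff_forall K).2 fun k hk => hfaith k (by
        rw [← e]
        show (η : G ⧸ K → ℂ) (QuotientGroup.mk k) = (η : G ⧸ K → ℂ) (QuotientGroup.mk 1)
        rw [(QuotientGroup.eq_one_iff k).2 hk, QuotientGroup.mk_one]))
      have := (hmemN g).1 hg ψ hψ
      show (η : G ⧸ K → ℂ) (QuotientGroup.mk g) = (η : G ⧸ K → ℂ) 1
      rw [← QuotientGroup.mk_one K]
      exact this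
    exact (QuotientGroup.eq_one_iff g).1 (isConj_one_left.1 hsep)
  refine ⟨N, hNn, hNb, hmin, ?_, fun g => (hiff g).trans (hN g).symm, hconj⟩
  -- all nontrivial elements of `N` have one prime order
  obtain ⟨p, hp, hdvd⟩ := Nat.exists_prime_and_dvd (n := orderOf c)
    (fun e => hc1 (orderOf_eq_one_iff.1 e))
  haveI := Fact.mk hp
  have hord : ∀ x ∈ N, x ^ p = 1 := by
    intro x hx
    by_cases hx1 : x = 1
    · rw [hx1, one_pow]
    have hy : orderOf (c ^ (orderOf c / p)) = p :=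
      orderOf_pow_orderOf_div (orderOf_pos c).ne' hdvd
    obtain ⟨g, hg⟩ := hconj _ (pow_mem hcN _) x hx (fun e => hp.ne_one (by rw [← hy, e, orderOf_one])) hx1
    rw [← hg, conj_pow, orderOf_dvd_iff_pow_eq_one.1 (dvd_of_eq hy)]
    group
  refine ⟨p, hp, ⟨⟨fun a b => ?_⟩⟩, hord⟩
  have hpg : IsPGroup p N := fun x => ⟨1, Subtype.ext (by simpa using hord x x.2)⟩
  haveI : Nontrivial N := (Subgroup.nontrivial_iff_ne_bot N).2 hNb
  haveI := hpg.center_nontrivial
  have hZn : ((Subgroup.center N).map N.subtype).Normal :=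
    ConjAct.normal_of_characteristic_of_normal
  have hle := hmin _ hZn fun e => by
    rw [Subgroup.map_eq_bot_iff_of_injective _ N.subtype_injective] at e
    exact (Subgroup.nontrivial_iff_ne_bot (Subgroup.center N)).1 inferInstance e
  obtain ⟨z, hz, hza⟩ := hle a.2
  obtain rfl : z = a := Subtype.ext hza
  exact (Subgroup.mem_center_iff.1 hz b).symm

end Cfsg.Agent.Char
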