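import Cfsg.Agent.Lib.Char.TwoClasses
import Cfsg.Agent.Lib.Char.Knorr
import Cfsg.Agent.Lib.Char.FongReynolds
import Mathlib

/-!
# The local structure for characters not vanishing on exactly two classes
-/

set_option autoImplicit false
set_option linter.unusedSectionVars false

namespace Cfsg.Agent.Char

open Cfsg
open scoped ComplexConjugate

universe u

variable {G : Type u} [Group G] [Fintype G] {χ : IrrCharacter G} {N : Subgroup G}

theorem two_class_class (hG : 2 < Nat.card G) (h : HasTwoClassSupport χ)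
    (hN : ∀ g : G, g ∈ N ↔ (χ : G → ℂ) g ≠ 0) {x : G} (hx : x ∈ N) (hx1 : x ≠ 1) :
    (∀ g : G, (χ : G → ℂ) g ≠ 0 ↔ g = 1 ∨ IsConj x g) ∧
      Nat.card {g : G // IsConj x g} + 1 = Nat.card N ∧
      (χ : G → ℂ) 1 = -((Nat.card {g : G // IsConj x g} : ℂ) * (χ : G → ℂ) x) ∧
      (χ : G → ℂ) x ≠ (χ : G → ℂ) 1 := by
  classical
  obtain ⟨c, hc1, hcd, hrel, hiff, -⟩ := two_class_data hG h
  have hcx : IsConj c x := ((hiff x).1 ((hN x).1 hx)).resolve_left hx1
  obtain ⟨k, hk⟩ := isConj_iff.1 hcx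
  have hval : (χ : G → ℂ) x = (χ : G → ℂ) c := by
    rw [← hk, isClassFunction_character (irr_isCharacter χ.2)]
  have hsame : ∀ g : G, IsConj x g ↔ IsConj c g := fun g =>
    ⟨fun e => hcx.trans e, fun e => hcx.symm.trans e⟩
  have hiff' : ∀ g : G, (χ : G → ℂ) g ≠ 0 ↔ g = 1 ∨ IsConj x g := fun g => by
    rw [hiff g, hsame g]
  refine ⟨hiff', ?_, ?_, hval ▸ hcd⟩
  · rw [Nat.card_eq_fintype_card, Nat.card_eq_fintype_card, Fintype.card_subtype,
      Fintype.card_subtype]
    have : (Finset.univ.filter fun g => g ∈ N) =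
        insert 1 (Finset.univ.filter fun g => IsConj x g) := by
      ext g
      simp [hN g, hiff' g]
    rw [this, Finset.card_insert_of_notMem]
    simpa using fun e : IsConj x 1 => hx1 (isConj_one_left.1 e)
  · rw [hval, Nat.card_congr (Equiv.subtypeEquivRight hsame)]
    exact hrel

/-- The centralizers of the nontrivial elements of the support are Sylow subgroups. -/
theorem two_class_sylow {p : ℕ} [hp : Fact p.Prime] (hG : 2 < Nat.card G) (h : HasTwoClassSupport χ)
    (hN : ∀ g : G, g ∈ N ↔ (χ : G → ℂ) g ≠ 0) (hNp : IsPGroup p N) {x : G} (hx : x ∈ N)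
    (hx1 : x ≠ 1) :
    IsPGroup p (Subgroup.centralizer ({x} : Set G)) ∧
      ¬ p ∣ (Subgroup.centralizer ({x} : Set G)).index := by
  classical
  obtain ⟨hiff, hq, hrel, -⟩ := two_class_class hG h hN hx hx1
  obtain ⟨k, hk⟩ := IsPGroup.iff_card.1 hNp
  set m := Nat.card {g : G // IsConj x g} with hm
  have hm0 : m ≠ 0 := card_conjClass_ne_zero x
  have hk0 : k ≠ 0 := by
    rintro rfl
    rw [pow_zero] at hk
    omega
  have hpm : ¬ p ∣ m := fun hd => by
    have h1 : p ∣ Nat.card N := hk ▸ dvd_pow_self p hk0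
    exact hp.1.not_dvd_one ((Nat.dvd_add_right hd).1 (hq ▸ h1))
  set d := deg (χ : G → ℂ) with hd
  have hd1 : (χ : G → ℂ) 1 = (d : ℂ) := char_one_eq_deg (irr_isCharacter χ.2)
  have horth : d ^ 2 * Nat.card N = m * Nat.card G := by
    have h1 := irrC_orth χ χ
    rw [if_pos rfl, classInner] at h1
    have h2 := sum_mul_eq_of_support hx1 (fun g hg => (hiff g).1 hg)
      (fun g => conj ((χ : G → ℂ) g)) (fun a b => by
        simp [isClassFunction_character (irr_isCharacter χ.2) a b])
    rw [h2, inv_mul_eq_iff_eq_mul₀ (Nat.cast_ne_zero.2 Nat.card_pos.ne'), ← hm, hd1,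
      map_natCast] at h1
    rw [hd1] at hrel
    have h3 : (d : ℂ) = -((m : ℂ) * conj ((χ : G → ℂ) x)) := by
      conv_lhs => rw [← map_natCast (starRingEnd ℂ) d, hrel]
      simp
    apply Nat.cast_injective (R := ℂ)
    rw [← hq]
    push_cast
    linear_combination (m : ℂ) * h1 - (m : ℂ) * conj ((χ : G → ℂ) x) * hrel + (d : ℂ) * h3
  have hdeg0 : d ≠ 0 := (deg_pos χ.2).ne'
  have hC0 : Nat.card (Subgroup.centralizer ({x} : Set G)) ≠ 0 := Nat.card_pos.ne'
  refine ⟨IsPGroup.iff_card.2 ⟨_, Nat.eq_prime_pow_of_unique_prime_dvd hC0 fun {r} hr hrd => ?_⟩, ?_⟩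
  · by_contra hne
    have hvan : ∀ g : G, orderOf g = r → (χ : G → ℂ) g = 0 := by
      intro g hg
      by_contra hg0
      obtain ⟨j, hj⟩ := hNp ⟨g, (hN g).2 hg0⟩
      have h1 : orderOf g ∣ p ^ j :=
        orderOf_dvd_of_pow_eq_one (by simpa using congrArg Subtype.val hj)
      rw [hg] at h1
      exact hne ((Nat.prime_dvd_prime_iff_eq hr hp.1).1 (hr.dvd_of_dvd_pow h1))
    have hkn := knorr_defect_zero hr χ hvan
    rw [charDegree_eq_deg, ← hd] at hkn
    have h1 := congrArg (fun n => n.factorization r) horth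
    simp only [Nat.factorization_mul (pow_ne_zero 2 hdeg0) Nat.card_pos.ne',
      Nat.factorization_mul hm0 (Nat.card_pos (α := G)).ne', Finsupp.add_apply, Nat.factorization_pow,
      Finsupp.smul_apply, smul_eq_mul, hkn] at h1
    have hN0 : (Nat.card N).factorization r = 0 :=
      Nat.factorization_eq_zero_of_not_dvd fun hd => by
        rw [hk] at hd
        exact hne ((Nat.prime_dvd_prime_iff_eq hr hp.1).1 (hr.dvd_of_dvd_pow hd))
    have h2 := congrArg (fun n => n.factorization r) (card_conjClass_mul_centralizer x)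
    simp only [← hm, Nat.factorization_mul hm0 hC0, Finsupp.add_apply] at h2
    have := hr.factorization_pos_of_dvd hC0 hrd
    omega
  · rw [← card_conjClass_eq_index]
    exact hpm

/-- The inertia groups of the nontrivial characters of the support are Sylow subgroups. -/
theorem two_class_inertia {p : ℕ} [hp : Fact p.Prime] [N.Normal] [Fintype N] (hG : 2 < Nat.card G)
    (h : HasTwoClassSupport χ) (hN : ∀ g : G, g ∈ N ↔ (χ : G → ℂ) g ≠ 0) (hNp : IsPGroup p N)
    (hN1 : N ≠ ⊥) {μ : IrrCharacter N} (hμ : (μ : N → ℂ) ≠ fun _ => 1) :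
    ∃ P : Sylow p G, ∀ g : G, g ∈ (P : Subgroup G) ↔ irrComp (MulAut.conjNormal g) μ = μ := by
  classical
  obtain ⟨x, hx, hx1⟩ := (Subgroup.nontrivial_iff_exists_ne_one N).1
    ((Subgroup.nontrivial_iff_ne_bot N).2 hN1)
  obtain ⟨hiff, hq, hrel, hxd⟩ := two_class_class hG h hN hx hx1
  obtain ⟨hCp, hCi⟩ := two_class_sylow hG h hN hNp hx hx1
  obtain ⟨N', -, -, -, ⟨p', -, hel⟩, hN', -⟩ := two_class_minimal hG h
  obtain rfl : N' = N := by
    ext g
    rw [← hN', hN]
  have hcomm : ∀ a b : N', a * b = b * a := fun a b => hel.1.is_comm.comm a b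
  have hval : ∀ n : N', n ≠ 1 → (χ : G → ℂ) n = (χ : G → ℂ) x := fun n hn => by
    obtain ⟨k, hk⟩ := isConj_iff.1 (((hiff n).1 ((hN n).1 n.2)).resolve_left fun e => hn (Subtype.ext e))
    rw [← hk, isClassFunction_character (irr_isCharacter χ.2)]
  let one : IrrCharacter N' := ⟨_, isIrrCharacter_one⟩
  -- every nontrivial character occurs in the restriction
  have hocc : ∀ ψ : IrrCharacter N', ψ ≠ one →
      classInner (fun n : N' => (χ : G → ℂ) n) (ψ : N' → ℂ) ≠ 0 := by
    intro ψ hψ
    have h1 := irrC_orth ψ one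
    rw [if_neg hψ, classInner] at h1
    simp only [one, map_one, mul_one] at h1
    have hs : ∑ n : N', conj ((ψ : N' → ℂ) n) = 0 := by
      rw [← map_sum, (mul_eq_zero.1 h1).resolve_left
        (inv_ne_zero (Nat.cast_ne_zero.2 Nat.card_pos.ne')), map_zero]
    have hsum : ∑ n : N', (χ : G → ℂ) n * conj ((ψ : N' → ℂ) n) =
        ((χ : G → ℂ) 1 - (χ : G → ℂ) x) * conj ((ψ : N' → ℂ) 1) := by
      have h2 : ∀ n : N', (χ : G → ℂ) n * conj ((ψ : N' → ℂ) n) =
          (χ : G → ℂ) x * conj ((ψ : N' → ℂ) n) +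
            if n = 1 then ((χ : G → ℂ) 1 - (χ : G → ℂ) x) * conj ((ψ : N' → ℂ) 1) else 0 := by
        intro n
        split_ifs with e
        · subst e
          simp only [OneMemClass.coe_one]
          ring
        · rw [hval n e, add_zero]
      rw [Finset.sum_congr rfl fun n _ => h2 n, Finset.sum_add_distrib, ← Finset.mul_sum, hs,
        mul_zero, zero_add, Finset.sum_ite_eq' Finset.univ (1 : N'), if_pos (Finset.mem_univ _)]
    rw [classInner, hsum]
    refine mul_ne_zero (inv_ne_zero (Nat.cast_ne_zero.2 Nat.card_pos.ne'))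
      (mul_ne_zero (sub_ne_zero.2 (Ne.symm hxd)) ?_)
    rw [conj_char_one (irr_isCharacter ψ.2)]
    exact irr_one_ne_zero ψ.2
  have hμ' : μ ≠ one := fun e => hμ (congrArg Subtype.val e)
  have horbit : cliffOrbit N' μ = Finset.univ.erase one := by
    ext ψ
    simp only [Finset.mem_erase, Finset.mem_univ, and_true]
    refine ⟨fun hψ e => ?_, fun hψ => mem_cliffOrbit_of_constituent (hocc μ hμ') (hocc ψ hψ)⟩
    obtain ⟨g, hg⟩ := mem_cliffOrbit.1 hψ
    refine hμ' (Subtype.ext (funext fun n => ?_))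
    have h2 := congrFun (congrArg Subtype.val (hg.trans e)) ((MulAut.conjNormal g).symm n)
    rw [irrComp_apply, MulEquiv.apply_symm_apply] at h2
    exact h2
  have hirr : Nat.card (IrrCharacter N') = Nat.card N' := by
    rw [card_irr]
    refine (Nat.card_eq_of_bijective ConjClasses.mk ⟨fun a b e => ?_, ConjClasses.mk_surjective⟩).symm
    obtain ⟨k, hk⟩ := isConj_iff.1 (ConjClasses.mk_eq_mk_iff_isConj.1 e)
    rw [← hk, hcomm k a, mul_inv_cancel_right]
  set m := Nat.card {g : G // IsConj x g} with hm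
  have hocard : (cliffOrbit N' μ).card = m := by
    rw [horbit, Finset.card_erase_of_mem (Finset.mem_univ _), Finset.card_univ,
      ← Nat.card_eq_fintype_card, hirr]
    omega
  let H : Subgroup G :=
    { carrier := {g | irrComp (MulAut.conjNormal g) μ = μ}
      one_mem' := irrComp_conj_one μ
      mul_mem' := fun {a b} ha hb => by
        simp only [Set.mem_setOf_eq] at ha hb ⊢
        rw [← irrComp_conj_mul, ha, hb]
      inv_mem' := fun {a} ha => by
        simp only [Set.mem_setOf_eq] at ha ⊢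
        conv_lhs => rw [← ha, irrComp_conj_mul, mul_inv_cancel, irrComp_conj_one] }
  have hH : m * Nat.card H = Nat.card G := by
    rw [← hocard]
    exact card_cliffOrbit_mul μ
  have hm0 : 0 < m := Nat.pos_of_ne_zero (card_conjClass_ne_zero x)
  have hHC : Nat.card H = Nat.card (Subgroup.centralizer ({x} : Set G)) :=
    Nat.eq_of_mul_eq_mul_left hm0 (hH.trans (card_conjClass_mul_centralizer x).symm)
  obtain ⟨j, hj⟩ := IsPGroup.iff_card.1 hCp
  have hHi : ¬ p ∣ H.index := by
    have h1 := H.index_mul_card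
    rw [← hH] at h1
    rw [Nat.eq_of_mul_eq_mul_right Nat.card_pos h1]
    rwa [← card_conjClass_eq_index] at hCi
  exact ⟨(IsPGroup.of_card (hHC.trans hj)).toSylow hHi, fun g => Iff.rfl⟩

end Cfsg.Agent.Char
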