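import Cfsg.Agent.Lib.Char.TwoClassesLocal
import Cfsg.Agent.Lib.Char.Inflate
import Mathlib

/-!
# Centralizers outside the support of a character not vanishing on exactly two classes
-/

set_option autoImplicit false
set_option linter.unusedSectionVars false

namespace Cfsg.Agent.Char

open Cfsg
open scoped ComplexConjugate commutatorElement

universe u

variable {G : Type u} [Group G] [Fintype G] {χ : IrrCharacter G} {N : Subgroup G}

theorem two_class_trivial_on (hG : 2 < Nat.card G) (h : HasTwoClassSupport χ)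
    (hN : ∀ g : G, g ∈ N ↔ (χ : G → ℂ) g ≠ 0) {ψ : IrrCharacter G} :
    (∀ n ∈ N, (ψ : G → ℂ) n = (ψ : G → ℂ) 1) ↔ ψ ≠ χ ∨ N = ⊥ := by
  classical
  obtain ⟨c, hc1, hcd, -, hiff, hother⟩ := two_class_data hG h
  have hcN : c ∈ N := (hN c).2 ((hiff c).2 (Or.inr (IsConj.refl c)))
  refine ⟨fun hψ => Or.inl fun e => hcd ?_, fun hψ n hn => ?_⟩
  · subst e
    exact hψ c hcN
  · rcases hψ with hψ | hb
    · rcases (hiff n).1 ((hN n).1 hn) with rfl | e
      · rfl
      · obtain ⟨k, hk⟩ := isConj_iff.1 e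
        rw [← hk, isClassFunction_character (irr_isCharacter ψ.2)]
        exact hother ψ hψ
    · exact absurd (Subgroup.mem_bot.1 (hb ▸ hcN)) hc1

theorem two_class_centralizer_card [N.Normal] (hG : 2 < Nat.card G) (h : HasTwoClassSupport χ)
    (hN : ∀ g : G, g ∈ N ↔ (χ : G → ℂ) g ≠ 0) (hN1 : N ≠ ⊥) {x : G} (hx : x ∉ N) :
    Nat.card (Subgroup.centralizer ({x} : Set G)) =
      Nat.card (Subgroup.centralizer ({(x : G ⧸ N)} : Set (G ⧸ N))) := by
  classical
  haveI := Fintype.ofFinite (G ⧸ N)
  have hx0 : (χ : G → ℂ) x = 0 := by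
    by_contra hne
    exact hx ((hN x).2 hne)
  have key : ∀ (K : Type u) [Group K] [Fintype K] (a : K),
      ∑ ψ : IrrCharacter K, (ψ : K → ℂ) a * conj ((ψ : K → ℂ) a) =
        (Nat.card (Subgroup.centralizer ({a} : Set K)) : ℂ) := fun K _ _ a => by
    rw [second_orth a a, if_pos (IsConj.refl a), ← card_conjClass_mul_centralizer a, Nat.cast_mul,
      mul_div_cancel_left₀ _ (Nat.cast_ne_zero.2 (card_conjClass_ne_zero a))]
  apply Nat.cast_injective (R := ℂ)
  rw [← key G x, ← key (G ⧸ N) (x : G ⧸ N),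
    ← Equiv.sum_comp (inflateEquiv N).symm,
    ← Finset.add_sum_erase _ _ (Finset.mem_univ χ), hx0, zero_mul, zero_add]
  refine (Finset.sum_subtype (Finset.univ.erase χ)
    (p := fun ψ : IrrCharacter G => ∀ n ∈ N, (ψ : G → ℂ) n = (ψ : G → ℂ) 1) (fun ψ => ?_)
    (fun ψ : IrrCharacter G => (ψ : G → ℂ) x * conj ((ψ : G → ℂ) x))).trans
      (Finset.sum_congr rfl fun ψ _ => ?_)
  · simp [two_class_trivial_on hG h hN, hN1]
  · rw [← inflateEquiv_apply N, Equiv.apply_symm_apply]

/-- The centers of the Sylow subgroups. -/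
theorem two_class_upper_central {p : ℕ} [hp : Fact p.Prime] [N.Normal] (hG : 2 < Nat.card G)
    (h : HasTwoClassSupport χ) (hN : ∀ g : G, g ∈ N ↔ (χ : G → ℂ) g ≠ 0) (hNp : IsPGroup p N)
    (hN1 : N ≠ ⊥) (P : Sylow p G) :
    (N ≤ (P : Subgroup G)) ∧
      ∃ i : ℕ, Subgroup.upperCentralSeries ↥(P : Subgroup G) i = N.subgroupOf (P : Subgroup G) := by
  classical
  have hle : N ≤ (P : Subgroup G) :=
    sup_eq_right.mp (P.is_maximal' (hNp.to_sup_of_normal_left P.isPGroup') le_sup_right)
  refine ⟨hle, ?_⟩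
  set N' := N.subgroupOf (P : Subgroup G) with hN'
  have hq : Nat.card N' = Nat.card N := Nat.card_congr (Subgroup.subgroupOfEquivOfLe hle).toEquiv
  have hbig : ∀ x : ↥(P : Subgroup G), x ∉ N' →
      Nat.card N ≤ Nat.card {z : ↥(P : Subgroup G) // IsConj x z} := by
    intro x hx
    have hx' : (x : G) ∉ N := fun e => hx (Subgroup.mem_subgroupOf.2 e)
    have hdvd : Nat.card (Subgroup.centralizer ({x} : Set ↥(P : Subgroup G))) ∣
        Nat.card (Subgroup.centralizer ({(x : G)} : Set G)) := by
      rw [← Subgroup.card_map_of_injective (K := Subgroup.centralizer ({x} : Set ↥(P : Subgroup G)))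
        (f := (P : Subgroup G).subtype) Subtype.coe_injective]
      refine Subgroup.card_dvd_of_le ?_
      rintro _ ⟨k, hk, rfl⟩
      exact Subgroup.mem_centralizer_singleton_iff.2
        (by simpa using congrArg Subtype.val (Subgroup.mem_centralizer_singleton_iff.1 hk))
    rw [two_class_centralizer_card hG h hN hN1 hx'] at hdvd
    have hdvd' := mul_dvd_mul (hdvd.trans (Subgroup.card_subgroup_dvd_card _)) (dvd_refl (Nat.card N))
    rw [← Subgroup.card_eq_card_quotient_mul_card_subgroup N] at hdvd'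
    obtain ⟨a, ha⟩ := IsPGroup.iff_card.1
      (P.isPGroup'.to_subgroup (Subgroup.centralizer ({x} : Set ↥(P : Subgroup G))))
    obtain ⟨k, hk⟩ := IsPGroup.iff_card.1 hNp
    have hclass := card_conjClass_mul_centralizer x
    rw [P.card_eq_multiplicity] at hclass
    rw [ha, hk, ← pow_add] at hdvd'
    have h1 : p ^ (a + k) ≤ Nat.card {z : ↥(P : Subgroup G) // IsConj x z} * p ^ a := by
      rw [← ha, hclass]
      exact Nat.pow_le_pow_right hp.1.pos ((hp.1.pow_dvd_iff_le_factorization Nat.card_pos.ne').1 hdvd')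
    rw [hk]
    rw [pow_add, mul_comm] at h1
    exact Nat.le_of_mul_le_mul_right h1 (pow_pos hp.1.pos a)
  by_contra hne
  push Not at hne
  have hall : ∀ i, Subgroup.upperCentralSeries ↥(P : Subgroup G) i ≤ N' := by
    intro i
    induction i with
    | zero => rw [Subgroup.upperCentralSeries_zero]; exact bot_le
    | succ i ih =>
      intro x hx
      by_contra hxN
      have hlt : Nat.card (Subgroup.upperCentralSeries ↥(P : Subgroup G) i) < Nat.card N := by
        rw [← hq]
        exact lt_of_le_of_ne (Subgroup.card_le_of_le ih)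
          fun e => hne i (Subgroup.eq_of_le_of_card_ge ih e.ge)
      rw [Subgroup.mem_upperCentralSeries_succ_iff] at hx
      have hmem : ∀ z : {z : ↥(P : Subgroup G) // IsConj x z},
          x * z.1⁻¹ ∈ Subgroup.upperCentralSeries ↥(P : Subgroup G) i := fun z => by
        obtain ⟨y, hy⟩ := isConj_iff.1 z.2
        rw [← hy, show x * (y * x * y⁻¹)⁻¹ = ⁅x, y⁆ by rw [commutatorElement_def]; group]
        exact hx y
      have hcard := Nat.card_le_card_of_injective
        (fun z => (⟨_, hmem z⟩ : Subgroup.upperCentralSeries ↥(P : Subgroup G) i))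
        (fun z w e => Subtype.ext (inv_injective (mul_left_cancel (congrArg Subtype.val e))))
      exact absurd (hbig x hxN) (by omega)
  haveI : Group.IsNilpotent ↥(P : Subgroup G) := P.isPGroup'.isNilpotent
  obtain ⟨n, hn⟩ := Group.IsNilpotent.nilpotent (G := ↥(P : Subgroup G))
  exact hne n (le_antisymm (hall n) (hn ▸ le_top))

theorem two_class_center {p : ℕ} [hp : Fact p.Prime] [N.Normal] (hG : 2 < Nat.card G)
    (h : HasTwoClassSupport χ) (hN : ∀ g : G, g ∈ N ↔ (χ : G → ℂ) g ≠ 0) (hNp : IsPGroup p N)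
    (hN1 : N ≠ ⊥) (P : Sylow p G) :
    (Subgroup.center ↥(P : Subgroup G)).map (P : Subgroup G).subtype ≤ N ∧
      ((Subgroup.center ↥(P : Subgroup G)).map (P : Subgroup G).subtype = N ↔
        (P : Subgroup G).Normal) := by
  classical
  obtain ⟨hle, i, hi⟩ := two_class_upper_central hG h hN hNp hN1 P
  have hi0 : 1 ≤ i := by
    rcases Nat.eq_zero_or_pos i with rfl | h0
    · rw [Subgroup.upperCentralSeries_zero, eq_comm, Subgroup.subgroupOf_eq_bot] at hi
      exact absurd (hi.eq_bot_of_le hle) hN1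
    · exact h0
  have hZ : (Subgroup.center ↥(P : Subgroup G)).map (P : Subgroup G).subtype ≤ N := by
    rintro _ ⟨z, hz, rfl⟩
    have := Subgroup.upperCentralSeries_mono ↥(P : Subgroup G) hi0
      ((Subgroup.upperCentralSeries_one ↥(P : Subgroup G)).symm ▸ hz)
    rw [hi] at this
    exact this
  refine ⟨hZ, fun he => ?_, fun hPn => ?_⟩
  · obtain ⟨x, hx, hx1⟩ := (Subgroup.nontrivial_iff_exists_ne_one N).1
      ((Subgroup.nontrivial_iff_ne_bot N).2 hN1)
    obtain ⟨hCp, -⟩ := two_class_sylow hG h hN hNp hx hx1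
    have hPC : (P : Subgroup G) ≤ Subgroup.centralizer (N : Set G) := by
      intro g hg
      refine Subgroup.mem_centralizer_iff.2 fun n hn => ?_
      rw [SetLike.mem_coe, ← he] at hn
      obtain ⟨z, hz, rfl⟩ := hn
      exact (congrArg Subtype.val (Subgroup.mem_center_iff.1 hz ⟨g, hg⟩)).symm
    have hCC : Subgroup.centralizer (N : Set G) ≤ Subgroup.centralizer ({x} : Set G) :=
      Subgroup.centralizer_le (Set.singleton_subset_iff.2 hx)
    rw [← P.is_maximal' (hCp.to_le hCC) hPC]
    infer_instance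
  · haveI := hPn
    obtain ⟨N', -, -, hmin, -, hN', -⟩ := two_class_minimal hG h
    obtain rfl : N' = N := by
      ext g
      rw [← hN', hN]
    refine le_antisymm hZ (hmin _ ConjAct.normal_of_characteristic_of_normal fun e => ?_)
    rw [Subgroup.map_eq_bot_iff_of_injective _ (P : Subgroup G).subtype_injective] at e
    have hnt : Nontrivial ↥(P : Subgroup G) := by
      haveI := (Subgroup.nontrivial_iff_ne_bot N').2 hN1
      exact Function.Injective.nontrivial (Subgroup.inclusion_injective hle)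
    haveI := P.isPGroup'.center_nontrivial
    exact (Subgroup.nontrivial_iff_ne_bot _).1 this e

end Cfsg.Agent.Char
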