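import Cfsg.Agent.Lib.Fusion.FixedPointFormula
import Cfsg.Agent.Lib.Fusion.Cores
import Cfsg.Agent.Lib.Char.JordanIndex
import Cfsg.Agent.Lib.Char.Landau
import Cfsg.Agent.Lib.Char.QuotientBlocks
import Cfsg.Agent.Lib.Char.Height
import Cfsg.Agent.S4717
import Cfsg.Agent.S4494

/-!
# Bounding the order by the deficiency of the 2-blocks
-/

set_option autoImplicit false
set_option linter.unusedSectionVars false
set_option linter.style.haveILetI false

namespace Cfsg.Agent.Char

open Cfsg

universe u

section Group

variable {G : Type u} [Group G] [Finite G]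

/-- The centralizer of an image is not bigger. -/
theorem card_centralizer_quotient_le (N : Subgroup G) [N.Normal] (v : G) :
    Nat.card (Subgroup.centralizer ({(v : G ⧸ N)} : Set (G ⧸ N))) ≤
      Nat.card (Subgroup.centralizer ({v} : Set G)) := by
  classical
  set C := Subgroup.centralizer ({(v : G ⧸ N)} : Set (G ⧸ N))
  set H := C.comap (QuotientGroup.mk' N) with hH
  have hNH : N ≤ H := fun n hn => by
    rw [hH, Subgroup.mem_comap, QuotientGroup.mk'_apply, (QuotientGroup.eq_one_iff n).2 hn]
    exact C.one_mem
  have hHcard : Nat.card H = Nat.card C * Nat.card N := by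
    have h1 := H.card_mul_index
    rw [hH, Subgroup.index_comap_of_surjective _ (QuotientGroup.mk'_surjective N), ← hH] at h1
    have h2 : Nat.card G = Nat.card (G ⧸ N) * Nat.card N := Subgroup.card_eq_card_quotient_mul_card_subgroup N
    have h3 := C.card_mul_index
    rw [h2, ← h3, mul_right_comm] at h1
    exact Nat.eq_of_mul_eq_mul_right (Nat.pos_of_ne_zero Subgroup.index_ne_zero_of_finite) h1
  haveI := Fintype.ofFinite H
  haveI := Fintype.ofFinite N
  have hmap : ∀ g : H, v⁻¹ * ((g : G) * v * (g : G)⁻¹) ∈ N := fun g => by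
    rw [← QuotientGroup.eq_one_iff, QuotientGroup.mk_mul, QuotientGroup.mk_mul, QuotientGroup.mk_mul,
      QuotientGroup.mk_inv, QuotientGroup.mk_inv]
    have := Subgroup.mem_centralizer_singleton_iff.1 g.2
    simp only [QuotientGroup.mk'_apply] at this
    rw [this, mul_inv_cancel_right, inv_mul_cancel]
  have hfib : ∀ w : N, (Finset.univ.filter fun g : H =>
      (⟨v⁻¹ * ((g : G) * v * (g : G)⁻¹), hmap g⟩ : N) = w).card ≤
      Nat.card (Subgroup.centralizer ({v} : Set G)) := by
    intro w
    by_cases hne : (Finset.univ.filter fun g : H =>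
        (⟨v⁻¹ * ((g : G) * v * (g : G)⁻¹), hmap g⟩ : N) = w).Nonempty
    · obtain ⟨s, hs⟩ := hne
      haveI := Fintype.ofFinite (Subgroup.centralizer ({v} : Set G))
      rw [Nat.card_eq_fintype_card, ← Finset.card_univ]
      have key : ∀ g ∈ Finset.univ.filter (fun g : H =>
          (⟨v⁻¹ * ((g : G) * v * (g : G)⁻¹), hmap g⟩ : N) = w),
          ((s : G))⁻¹ * (g : G) ∈ Subgroup.centralizer ({v} : Set G) := by
        intro g hg
        have e1 := (Finset.mem_filter.1 hg).2
        rw [← (Finset.mem_filter.1 hs).2, Subtype.ext_iff] at e1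
        have e2 := mul_left_cancel e1
        rw [Subgroup.mem_centralizer_singleton_iff]
        calc (s : G)⁻¹ * (g : G) * v = (s : G)⁻¹ * ((g : G) * v * (g : G)⁻¹) * g := by group
          _ = (s : G)⁻¹ * ((s : G) * v * (s : G)⁻¹) * g := by rw [e2]
          _ = v * ((s : G)⁻¹ * (g : G)) := by group
      refine Finset.card_le_card_of_injOn (fun g => if h : (s : G)⁻¹ * (g : G) ∈
        Subgroup.centralizer ({v} : Set G) then ⟨_, h⟩ else 1) (fun g _ => Finset.mem_univ _) ?_
      intro g hg g' hg' he
      simp only [dif_pos (key g hg), dif_pos (key g' hg'), Subtype.mk.injEq] at he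
      exact Subtype.ext (mul_left_cancel he)
    · rw [Finset.not_nonempty_iff_eq_empty.1 hne, Finset.card_empty]
      exact Nat.zero_le _
  haveI := Fintype.ofFinite (Subgroup.centralizer ({v} : Set G))
  have h1 : Nat.card H ≤ Nat.card N * Nat.card (Subgroup.centralizer ({v} : Set G)) := by
    rw [Nat.card_eq_fintype_card, ← Finset.card_univ, Finset.card_eq_sum_card_fiberwise
      (f := fun g : H => (⟨v⁻¹ * ((g : G) * v * (g : G)⁻¹), hmap g⟩ : N)) (t := Finset.univ)
      (fun g _ => Finset.mem_univ _)]
    refine (Finset.sum_le_card_nsmul _ _ _ fun w _ => hfib w).trans ?_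
    simp only [Finset.card_univ, smul_eq_mul, Nat.card_eq_fintype_card, le_refl]
  rw [hHcard, mul_comm] at h1
  exact Nat.le_of_mul_le_mul_left h1 Nat.card_pos

/-- An element of bounded class size when an involution has a small centralizer. -/
theorem exists_small_class {v : G} (hv : orderOf v = 2) {n : ℕ}
    (hn : Nat.card (Subgroup.centralizer ({v} : Set G)) ≤ n) (hG : 2 * n ^ 2 < Nat.card G) :
    ∃ x : G, x ≠ 1 ∧ (Subgroup.centralizer ({x} : Set G)).index ≤ 2 * n ^ 2 := by
  classical
  haveI := Fintype.ofFinite G
  set K : Finset G := Finset.univ.filter fun u => IsConj v u with hK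
  set m := K.card with hm
  have hidx : m = (Subgroup.centralizer ({v} : Set G)).index := by
    rw [← card_conjClass_eq_index, Nat.card_eq_fintype_card, Fintype.card_subtype]
  have hGm : Nat.card G ≤ n * m := by
    rw [hidx, ← (Subgroup.centralizer ({v} : Set G)).card_mul_index]
    exact Nat.mul_le_mul_right _ hn
  have hinv : ∀ u ∈ K, u * u = 1 := by
    intro u hu
    obtain ⟨c, rfl⟩ := isConj_iff.1 (Finset.mem_filter.1 hu).2
    rw [show c * v * c⁻¹ * (c * v * c⁻¹) = c * (v * v) * c⁻¹ by group, ← pow_two, ← hv,
      pow_orderOf_eq_one, mul_one, mul_inv_cancel]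
  have hfib : ∀ x : G, ((K ×ˢ K).filter fun p => p.1 * p.2 = x).card ≤
      Nat.card (Subgroup.centralizer ({x} : Set G)) := by
    intro x
    by_cases hne : ((K ×ˢ K).filter fun p => p.1 * p.2 = x).Nonempty
    · obtain ⟨q, hq⟩ := hne
      haveI := Fintype.ofFinite (Subgroup.centralizer ({x} : Set G))
      rw [Nat.card_eq_fintype_card, ← Finset.card_univ]
      have hconj : ∀ p ∈ (K ×ˢ K).filter (fun p => p.1 * p.2 = x), p.1 * x * p.1 = x⁻¹ := by
        intro p hp
        obtain ⟨hp1, hp2⟩ := Finset.mem_filter.1 hp
        obtain ⟨h1, h2⟩ := Finset.mem_product.1 hp1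
        rw [← hp2, ← mul_assoc, hinv _ h1, one_mul, mul_inv_rev,
          inv_eq_of_mul_eq_one_left (hinv _ h1), inv_eq_of_mul_eq_one_left (hinv _ h2)]
      have key : ∀ p ∈ (K ×ˢ K).filter (fun p => p.1 * p.2 = x),
          p.1 * q.1 ∈ Subgroup.centralizer ({x} : Set G) := by
        intro p hp
        have hq1 := hinv _ (Finset.mem_product.1 (Finset.mem_filter.1 hq).1).1
        have hp1 := hinv _ (Finset.mem_product.1 (Finset.mem_filter.1 hp).1).1
        rw [Subgroup.mem_centralizer_singleton_iff]
        calc p.1 * q.1 * x = p.1 * (q.1 * x * q.1) * q.1 := by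
              simp only [mul_assoc, hq1, mul_one]
          _ = p.1 * (p.1 * x * p.1) * q.1 := by rw [hconj q hq, hconj p hp]
          _ = x * (p.1 * q.1) := by simp only [← mul_assoc, hp1, one_mul]
      refine Finset.card_le_card_of_injOn (fun p => if h : p.1 * q.1 ∈
        Subgroup.centralizer ({x} : Set G) then ⟨_, h⟩ else 1) (fun g _ => Finset.mem_univ _) ?_
      intro p hp p' hp' he
      simp only [dif_pos (key p hp), dif_pos (key p' hp'), Subtype.mk.injEq] at he
      have e1 := mul_right_cancel he
      have hx := (Finset.mem_filter.1 hp).2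
      rw [← (Finset.mem_filter.1 hp').2, e1] at hx
      exact Prod.ext e1 (mul_left_cancel hx)
    · rw [Finset.not_nonempty_iff_eq_empty.1 hne, Finset.card_empty]
      exact Nat.zero_le _
  have htot : m * m = ∑ x : G, ((K ×ˢ K).filter fun p => p.1 * p.2 = x).card := by
    rw [hm, ← Finset.card_product]
    exact Finset.card_eq_sum_card_fiberwise (fun p _ => Finset.mem_univ _)
  have hone : ((K ×ˢ K).filter fun p => p.1 * p.2 = 1).card ≤ m := by
    refine Finset.card_le_card_of_injOn (fun p => p.1)
      (fun p hp => (Finset.mem_product.1 (Finset.mem_filter.1 hp).1).1) ?_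
    intro p hp p' hp' he
    simp only at he
    refine Prod.ext he (mul_left_cancel (a := p.1) ?_)
    rw [(Finset.mem_filter.1 hp).2, he, (Finset.mem_filter.1 hp').2]
  have h1G : 1 < Nat.card G := by
    rcases Nat.eq_zero_or_pos n with rfl | hn0
    · exact absurd (hn.trans_lt' Nat.card_pos) (lt_irrefl 0)
    · nlinarith
  haveI : Nontrivial G := Finite.one_lt_card_iff_nontrivial.1 h1G
  obtain ⟨y, hy⟩ := exists_ne (1 : G)
  obtain ⟨x, hx, hmax⟩ := Finset.exists_max_image (Finset.univ.erase (1 : G))
    (fun x => Nat.card (Subgroup.centralizer ({x} : Set G))) ⟨y, Finset.mem_erase.2 ⟨hy, Finset.mem_univ _⟩⟩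
  refine ⟨x, (Finset.mem_erase.1 hx).1, ?_⟩
  set c := Nat.card (Subgroup.centralizer ({x} : Set G)) with hc
  have hsum : m * m ≤ m + Nat.card G * c := by
    rw [htot, ← Finset.add_sum_erase _ _ (Finset.mem_univ (1 : G))]
    refine Nat.add_le_add hone ?_
    refine (Finset.sum_le_card_nsmul _ _ c fun z hz => (hfib z).trans (hmax z hz)).trans ?_
    rw [smul_eq_mul, Nat.card_eq_fintype_card, ← Finset.card_univ]
    exact Nat.mul_le_mul_right _ (Finset.card_le_card (Finset.subset_univ _))
  have hcG := (Subgroup.centralizer ({x} : Set G)).card_mul_index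
  rw [← hc] at hcG
  have hm2 : 2 * n < m := by
    by_contra hle
    push Not at hle
    have : Nat.card G ≤ 2 * n ^ 2 := hGm.trans (by nlinarith)
    omega
  -- `m ≤ (n + 1/2) c` gives the bound
  by_contra hbig
  push Not at hbig
  have h2 : 2 * n ^ 2 * c < Nat.card G := by
    rw [← hcG, mul_comm c]
    exact Nat.mul_lt_mul_of_pos_right hbig Nat.card_pos
  have h3 : m * m ≤ m + n * m * c :=
    hsum.trans (Nat.add_le_add_left (Nat.mul_le_mul_right _ hGm) _)
  have h4 : m ≤ 1 + n * c := by
    have : m * m ≤ m * (1 + n * c) := by linarith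
    exact Nat.le_of_mul_le_mul_left this (by omega)
  have h5 : n * (2 * (n * c)) < n * m := by
    calc n * (2 * (n * c)) = 2 * n ^ 2 * c := by ring
      _ < Nat.card G := h2
      _ ≤ n * m := hGm
  have h6 : 2 * (n * c) < m := Nat.lt_of_mul_lt_mul_left h5
  have hn0 : 0 < n := Nat.lt_of_lt_of_le Nat.card_pos hn
  omega

/-- Order bound for groups with a four group of small centralizers and trivial odd core. -/
theorem four_group_bound (n : ℕ) : ∀ a : ℕ, ∃ F : ℕ, ∀ (G : Type u) [Group G] [Finite G],
    (Nat.card G).factorization 2 ≤ a → ∀ V : Subgroup G, Nat.card V = 4 → (∀ v ∈ V, v * v = 1) →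
    (∀ v ∈ V, v ≠ 1 → Nat.card (Subgroup.centralizer ({v} : Set G)) ≤ n) → Nat.card G ≤ F := by
  intro a
  induction a with
  | zero =>
    refine ⟨0, fun G _ _ hfac V hV _ _ => ?_⟩
    exfalso
    have h4 : 2 ^ 2 ∣ Nat.card G := by
      have := V.card_subgroup_dvd_card
      rw [hV] at this
      exact this
    have := (Nat.prime_two.pow_dvd_iff_le_factorization Nat.card_pos.ne').1 h4
    omega
  | succ a ih =>
    obtain ⟨F, hF⟩ := ih
    set B := n + 2 * n ^ 2 + n * (2 * n ^ 2).factorial + (2 * n ^ 2).factorial * 2 ^ (a + 1) * F with hB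
    refine ⟨n ^ 3 * B, fun G _ _ hfac V hV hexp hn => ?_⟩
    classical
    haveI : Fact (Nat.Prime 2) := ⟨Nat.prime_two⟩
    -- the reduced statement
    have red : ∀ (G : Type u) [Group G] [Finite G], (Nat.card G).factorization 2 ≤ a + 1 →
        ∀ V : Subgroup G, Nat.card V = 4 → (∀ v ∈ V, v * v = 1) →
        (∀ v ∈ V, v ≠ 1 → Nat.card (Subgroup.centralizer ({v} : Set G)) ≤ n) →
        pPrimeCore 2 G = ⊥ → Nat.card G ≤ B := by
      intro G _ _ hfac V hV hexp hn hO
      have hV1 : V ≠ ⊥ := fun e => by rw [e, Subgroup.card_bot] at hV; omega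
      obtain ⟨v, hv, hv1⟩ := (Subgroup.bot_or_exists_ne_one V).resolve_left hV1
      have hvo : orderOf v = 2 := orderOf_eq_prime (by rw [pow_two]; exact hexp v hv) hv1
      by_cases hsmall : Nat.card G ≤ 2 * n ^ 2
      · omega
      obtain ⟨x, hx1, hx⟩ := exists_small_class hvo (hn v hv hv1) (by omega)
      set N := Subgroup.normalClosure ({x} : Set G) with hN
      set D := Subgroup.centralizer (N : Set G) with hD
      have hcore : (Subgroup.centralizer ({x} : Set G)).normalCore ≤ D := by
        have h0 : N ≤ Subgroup.centralizer ((Subgroup.centralizer ({x} : Set G)).normalCore : Set G) := by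
          refine Subgroup.normalClosure_le_normal ?_
          rintro y rfl c hc
          exact Subgroup.mem_centralizer_singleton_iff.1 (Subgroup.normalCore_le _ hc)
        exact Subgroup.le_centralizer_iff.1 h0
      have hDidx : D.index ≤ (2 * n ^ 2).factorial := by
        refine le_trans ?_ (Nat.factorial_le hx)
        refine Nat.le_of_dvd (Nat.factorial_pos _) ?_
        refine (Subgroup.index_dvd_of_le hcore).trans ?_
        rw [Subgroup.normalCore_eq_ker, Subgroup.index_ker]
        refine (Subgroup.card_subgroup_dvd_card _).trans (dvd_of_eq ?_)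
        rw [Nat.card_perm, Subgroup.index_eq_card]
      haveI hNn : N.Normal := Subgroup.normalClosure_normal
      haveI hDn : D.Normal := inferInstance
      -- the centre of the normal closure is a 2-group
      set Z := N ⊓ D with hZ
      have hZcomm : ∀ z ∈ Z, ∀ w ∈ Z, z * w = w * z := fun z hz w hw =>
        Subgroup.mem_centralizer_iff.1 hw.2 z hz.1
      have hZp : IsPGroup 2 Z := by
        let W : Subgroup G :=
          { carrier := {z | z ∈ Z ∧ Odd (orderOf z)}
            one_mem' := ⟨Z.one_mem, by simp⟩
            mul_mem' := fun {z w} hz hw => ⟨Z.mul_mem hz.1 hw.1, by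
              refine Odd.of_dvd_nat (hz.2.mul hw.2) ?_
              exact (Commute.orderOf_mul_dvd_mul_orderOf (hZcomm z hz.1 w hw.1))⟩
            inv_mem' := fun {z} hz => ⟨Z.inv_mem hz.1, by rw [orderOf_inv]; exact hz.2⟩ }
        haveI : Z.Normal := inferInstance
        haveI : W.Normal := ⟨fun z hz g => ⟨‹Z.Normal›.conj_mem z hz.1 g, by
          rw [show g * z * g⁻¹ = MulAut.conj g z from rfl, MulEquiv.orderOf_eq]; exact hz.2⟩⟩
        have hW : W = ⊥ := by
          refine le_bot_iff.1 (hO ▸ Fusion.le_pPrimeCore ?_)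
          rw [Nat.coprime_comm, Nat.prime_two.coprime_iff_not_dvd]
          intro hd
          obtain ⟨z, hz⟩ := exists_prime_orderOf_dvd_card' 2 hd
          have := z.2.2
          rw [Subgroup.orderOf_coe, hz] at this
          exact absurd this (by decide)
        intro z
        obtain ⟨k, b, hb, hzk⟩ := Nat.exists_eq_two_pow_mul_odd (orderOf_pos (z : G)).ne'
        refine ⟨k, ?_⟩
        have hmem : (z : G) ^ (2 ^ k) ∈ W := by
          refine ⟨Z.pow_mem z.2 _, ?_⟩
          rw [orderOf_pow, hzk, Nat.gcd_eq_right (dvd_mul_right _ _),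
            Nat.mul_div_cancel_left _ (by positivity)]
          exact hb
        rw [hW, Subgroup.mem_bot] at hmem
        exact Subtype.ext (by simpa using hmem)
      have hZcard : Nat.card Z ≤ 2 ^ (a + 1) := by
        obtain ⟨j, hj⟩ := IsPGroup.iff_card.1 hZp
        rw [hj]
        refine Nat.pow_le_pow_right two_pos ?_
        have h1 := Z.card_subgroup_dvd_card
        rw [hj] at h1
        exact ((Nat.prime_two.pow_dvd_iff_le_factorization Nat.card_pos.ne').1 h1).trans hfac
      have hNcard : Nat.card N ≤ (2 * n ^ 2).factorial * 2 ^ (a + 1) := by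
        have h1 : Z.relIndex N ≤ (2 * n ^ 2).factorial := by
          rw [hZ, Subgroup.inf_relIndex_left]
          exact (Nat.le_of_dvd (Nat.pos_of_ne_zero Subgroup.index_ne_zero_of_finite)
            (Subgroup.relIndex_dvd_index_of_normal D N)).trans hDidx
        have h2 : Nat.card Z * Z.relIndex N = Nat.card N := by
          have := Subgroup.relIndex_mul_relIndex ⊥ Z N bot_le inf_le_left
          simpa only [Subgroup.relIndex_bot_left] using this
        rw [← h2, mul_comm]
        exact Nat.mul_le_mul h1 hZcard
      have hxN : x ∈ N := Subgroup.subset_normalClosure rfl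
      by_cases hVN : ∃ w ∈ V, w ≠ 1 ∧ w ∈ N
      · obtain ⟨w, hwV, hw1, hwN⟩ := hVN
        have hDle : Nat.card D ≤ n := (Subgroup.card_le_of_le
          (Subgroup.centralizer_le (Set.singleton_subset_iff.2 hwN))).trans (hn w hwV hw1)
        have := Nat.mul_le_mul hDle hDidx
        rw [D.card_mul_index] at this
        omega
      · push Not at hVN
        set W := V.map (QuotientGroup.mk' N) with hW
        have hinj : Function.Injective ((QuotientGroup.mk' N).comp V.subtype) := by
          rw [injective_iff_map_eq_one]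
          intro w hw
          by_contra hw1
          exact hVN w w.2 (fun e => hw1 (Subtype.ext e)) ((QuotientGroup.eq_one_iff _).1 hw)
        have hWcard : Nat.card W = 4 := by
          rw [hW, ← hV, show V.map (QuotientGroup.mk' N) = ((QuotientGroup.mk' N).comp V.subtype).range by
            rw [MonoidHom.range_eq_map, ← Subgroup.map_map, ← MonoidHom.range_eq_map,
              Subgroup.range_subtype]]
          exact (Nat.card_congr (MonoidHom.ofInjective hinj).toEquiv).symm
        have hNeven : 2 ∣ Nat.card N := by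
          by_contra hodd
          have : N ≤ pPrimeCore 2 G :=
            Fusion.le_pPrimeCore (Nat.coprime_comm.1 (Nat.prime_two.coprime_iff_not_dvd.2 hodd))
          rw [hO] at this
          exact hx1 (Subgroup.mem_bot.1 (this hxN))
        have hfacQ : (Nat.card (G ⧸ N)).factorization 2 ≤ a := by
          have h2 : Nat.card G = Nat.card (G ⧸ N) * Nat.card N :=
            Subgroup.card_eq_card_quotient_mul_card_subgroup N
          rw [h2, Nat.factorization_mul Nat.card_pos.ne' Nat.card_pos.ne', Finsupp.add_apply] at hfac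
          have := (Nat.prime_two.dvd_iff_one_le_factorization Nat.card_pos.ne').1 hNeven
          omega
        have hq := hF (G ⧸ N) hfacQ W hWcard
          (by rintro _ ⟨w, hw, rfl⟩; rw [← map_mul, hexp w hw, map_one])
          (by
            rintro _ ⟨w, hw, rfl⟩ hne
            exact (card_centralizer_quotient_le N w).trans
              (hn w hw fun e => hne (by rw [e, map_one])))
        rw [Subgroup.card_eq_card_quotient_mul_card_subgroup N]
        have := Nat.mul_le_mul hq hNcard
        rw [mul_comm F] at this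
        omega
    -- removing the odd core
    set O := pPrimeCore 2 G with hOdef
    haveI : O.Normal := inferInstance
    have hOodd : (Nat.card O).Coprime 2 := Fusion.card_pPrimeCore_coprime 2 G
    have hVcomm : IsMulCommutative V := ⟨⟨fun z w => Subtype.ext (by
      show (z : G) * w = w * z
      have h1 := hexp _ (mul_mem z.2 w.2)
      have h2 := hexp _ z.2
      have h3 := hexp _ w.2
      calc (z : G) * w = ((z : G) * w)⁻¹ := (inv_eq_of_mul_eq_one_left h1).symm
        _ = (w : G)⁻¹ * (z : G)⁻¹ := mul_inv_rev _ _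
        _ = w * z := by rw [inv_eq_of_mul_eq_one_left h2, inv_eq_of_mul_eq_one_left h3])⟩⟩
    have hOn : Nat.card O ≤ n ^ 3 := by
      have hform := Fusion.fixed_formula (p := 2) hVcomm hV (fun z hz => by rw [pow_two, hexp z hz])
        (show V ≤ Subgroup.normalizer (O : Set G) by rw [Subgroup.normalizer_eq_top]; exact le_top)
        (by rw [hV, show (4 : ℕ) = 2 ^ 2 from rfl]; exact (Nat.Coprime.pow_left 2 hOodd.symm))
      have h1 : ∏ z ∈ Fusion.nonId V, Nat.card (O ⊓ Subgroup.centralizer {z} : Subgroup G) ≤ n ^ 3 := by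
        refine (Finset.prod_le_pow_card _ _ n fun z hz => ?_).trans (le_of_eq ?_)
        · exact (Subgroup.card_le_of_le inf_le_right).trans
            (hn z (Fusion.mem_nonId.1 hz).1 (Fusion.mem_nonId.1 hz).2)
        · rw [Fusion.card_nonId, hV]
      rw [hform, show 2 - 1 = 1 from rfl, pow_one] at h1
      exact (Nat.le_mul_of_pos_right _ (pow_pos Nat.card_pos _)).trans h1
    have hVO : V ⊓ O = ⊥ := by
      refine Subgroup.inf_eq_bot_of_coprime ?_
      rw [hV, show (4 : ℕ) = 2 ^ 2 from rfl]
      exact Nat.Coprime.pow_left 2 hOodd.symm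
    have hWcard : Nat.card (V.map (QuotientGroup.mk' O)) = 4 := by
      have hinj : Function.Injective ((QuotientGroup.mk' O).comp V.subtype) := by
        rw [injective_iff_map_eq_one]
        intro w hw
        have : (w : G) ∈ V ⊓ O := ⟨w.2, (QuotientGroup.eq_one_iff _).1 hw⟩
        rw [hVO, Subgroup.mem_bot] at this
        exact Subtype.ext this
      rw [← hV, show V.map (QuotientGroup.mk' O) = ((QuotientGroup.mk' O).comp V.subtype).range by
        rw [MonoidHom.range_eq_map, ← Subgroup.map_map, ← MonoidHom.range_eq_map, Subgroup.range_subtype]]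
      exact (Nat.card_congr (MonoidHom.ofInjective hinj).toEquiv).symm
    have hbot : pPrimeCore 2 (G ⧸ O) = ⊥ := by
      set K := pPrimeCore 2 (G ⧸ O)
      have hle : K.comap (QuotientGroup.mk' O) ≤ O := by
        refine Fusion.le_pPrimeCore ?_
        have h1 : Nat.card (K.comap (QuotientGroup.mk' O)) = Nat.card K * Nat.card O := by
          have h1 := (K.comap (QuotientGroup.mk' O)).card_mul_index
          rw [Subgroup.index_comap_of_surjective _ (QuotientGroup.mk'_surjective O),
            Subgroup.card_eq_card_quotient_mul_card_subgroup O, ← K.card_mul_index,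
            mul_right_comm (Nat.card K)] at h1
          exact Nat.eq_of_mul_eq_mul_right (Nat.pos_of_ne_zero Subgroup.index_ne_zero_of_finite) h1
        rw [h1]
        exact (Fusion.card_pPrimeCore_coprime 2 _).mul_left hOodd
      rw [← Subgroup.map_comap_eq_self_of_surjective (QuotientGroup.mk'_surjective O) K, eq_bot_iff]
      refine (Subgroup.map_mono hle).trans ?_
      rw [QuotientGroup.map_mk'_self]
    have hq := red (G ⧸ O)
      (by
        refine le_trans ?_ hfac
        rw [Subgroup.card_eq_card_quotient_mul_card_subgroup O,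
          Nat.factorization_mul Nat.card_pos.ne' Nat.card_pos.ne', Finsupp.add_apply]
        exact Nat.le_add_right _ _)
      _ hWcard (by rintro _ ⟨w, hw, rfl⟩; rw [← map_mul, hexp w hw, map_one])
      (by
        rintro _ ⟨w, hw, rfl⟩ hne
        exact (card_centralizer_quotient_le O w).trans (hn w hw fun e => hne (by rw [e, map_one])))
      hbot
    rw [Subgroup.card_eq_card_quotient_mul_card_subgroup O, mul_comm (n ^ 3)]
    exact Nat.mul_le_mul hq hOn

end Group

/-- The main bound. -/
theorem deficiency_bound : ∀ a : ℕ, ∃ N : ℕ, ∀ (G : Type u) [Group G] [Finite G] (M : Ideal AlgInt)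
    (r : ℕ), IsPModular 2 M → (Nat.card G).factorization 2 ≤ a →
    (∀ B : Set (IrrCharacter G), IsPBlock M B → B ≠ principalBlock M G → blockDefect 2 B < r) →
    (∃ E : Subgroup G, IsMulCommutative E ∧ (∀ x ∈ E, x * x = 1) ∧ Nat.card E = 2 ^ (r + 1)) →
    Nat.card G ≤ N := by
  intro a
  induction a with
  | zero =>
    refine ⟨0, fun G _ _ M r _ hfac _ hE => ?_⟩
    exfalso
    obtain ⟨E, -, -, hE⟩ := hE
    have h1 : 2 ^ (r + 1) ∣ Nat.card G := hE ▸ E.card_subgroup_dvd_card
    have := (Nat.prime_two.pow_dvd_iff_le_factorization Nat.card_pos.ne').1 h1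
    omega
  | succ a ih =>
    obtain ⟨N, hN⟩ := ih
    obtain ⟨F, hF⟩ := four_group_bound.{u} (2 * N) (a + 1)
    obtain ⟨L, hL⟩ := exists_card_bound_of_classes.{u} (2 ^ (2 * (a + 1)) + 4)
    refine ⟨L + F, fun G _ _ M r hM hfac hB hE => ?_⟩
    classical
    haveI : Fact (Nat.Prime 2) := ⟨Nat.prime_two⟩
    haveI := Fintype.ofFinite G
    have hP := pmod_prime hM
    obtain ⟨E, hEc, hE2, hEcard⟩ := hE
    by_cases hr : r = 0
    · subst hr
      refine le_add_right (hL G ?_)
      rw [← card_irr]
      have hall : ∀ χ : IrrCharacter G, χ ∈ principalBlock M G := fun χ => by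
        by_contra hne
        have := hB (blockOf M (χ : G → ℂ)) (isPBlock_blockOf M χ)
          (fun e => hne (e ▸ self_mem_blockOf hP χ))
        omega
      have hbf := S4494.result 2 M hM (principalBlock M G) (isPBlock_principalBlock M)
      rw [show Nat.card (principalBlock M G) = Nat.card (IrrCharacter G) from
        Nat.card_congr (Equiv.subtypeUnivEquiv hall)] at hbf
      have hd : blockDefect 2 (principalBlock M G) ≤ a + 1 := (Nat.sub_le _ _).trans hfac
      have := Nat.pow_le_pow_right two_pos (Nat.mul_le_mul_left 2 hd)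
      omega
    refine le_add_left ?_
    -- centralizers of the involutions in `E`
    have hcent : ∀ e ∈ E, e ≠ 1 → Nat.card (Subgroup.centralizer ({e} : Set G)) ≤ 2 * N := by
      intro e he he1
      have heo : orderOf e = 2 := orderOf_eq_prime (by rw [pow_two]; exact hE2 e he) he1
      set C := Subgroup.centralizer ({e} : Set G) with hC
      haveI := Fintype.ofFinite C
      have hCB := (S4717.result 2 M hM r).1 hB e ⟨1, by rw [heo, pow_one]⟩
      set e' : C := ⟨e, Subgroup.mem_centralizer_singleton_iff.2 rfl⟩
      set Z : Subgroup C := Subgroup.zpowers e' with hZ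
      have hZc : ∀ z ∈ Z, ∀ g : C, g * z = z * g := by
        intro z hz g
        obtain ⟨i, rfl⟩ := Subgroup.mem_zpowers_iff.1 hz
        have : Commute g e' := Subtype.ext (Subgroup.mem_centralizer_singleton_iff.1 g.2)
        exact this.zpow_right i
      haveI : Z.Normal := ⟨fun z hz g => by rwa [hZc z hz g, mul_inv_cancel_right]⟩
      have hZcard : Nat.card Z = 2 := by rw [hZ, Nat.card_zpowers, Subgroup.orderOf_mk, heo]
      have hZp : IsPGroup 2 Z := IsPGroup.of_card (n := 1) (by rw [hZcard, pow_one])
      haveI := Fintype.ofFinite (C ⧸ Z)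
      have hCcard : Nat.card C = Nat.card (C ⧸ Z) * 2 := by
        rw [Subgroup.card_eq_card_quotient_mul_card_subgroup Z, hZcard]
      have hCfac : (Nat.card (C ⧸ Z)).factorization 2 + 1 = (Nat.card C).factorization 2 := by
        rw [hCcard, Nat.factorization_mul Nat.card_pos.ne' two_ne_zero, Finsupp.add_apply,
          Nat.prime_two.factorization_self]
      have hCle : (Nat.card C).factorization 2 ≤ a + 1 :=
        ((Nat.factorization_le_iff_dvd Nat.card_pos.ne' Nat.card_pos.ne').2
          C.card_subgroup_dvd_card 2).trans hfac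
      have hblocks : ∀ Bb : Set (IrrCharacter (C ⧸ Z)), IsPBlock M Bb →
          Bb ≠ principalBlock M (C ⧸ Z) → blockDefect 2 Bb < r - 1 := by
        intro Bb hBb hne
        obtain ⟨χ, hχ⟩ := block_nonempty hP hBb
        obtain ⟨χm, hχm, hmin⟩ := exists_dexp_eq_dmin (p := 2) (B := Bb) ⟨χ, hχ⟩
        set Bc := blockOf M (inflChar Z χm : C → ℂ) with hBc
        have hBcP : IsPBlock M Bc := isPBlock_blockOf M _
        have hBcne : Bc ≠ principalBlock M C := by
          intro heq
          refine hne ?_
          have h1 : SameBlock M (fun _ : C => (1 : ℂ)) (inflChar Z χm : C → ℂ) := by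
            have : inflChar Z χm ∈ principalBlock M C := heq ▸ self_mem_blockOf hP _
            exact this
          have h2 : SameBlock M (fun _ : C ⧸ Z => (1 : ℂ)) (χm : C ⧸ Z → ℂ) :=
            sameBlock_of_inflate hM (fun g hg => Or.inl (by
              rw [clsRatio_eq_one Nat.prime_two hZp hg
                (Subgroup.mem_centralizer_iff.2 fun z hz => (hZc z hz g).symm)]
              norm_num)) (χ := ⟨fun _ => 1, isIrrCharacter_one⟩) h1
          rw [block_eq_blockOf hP hBb hχm,
            block_eq_blockOf hP (isPBlock_principalBlock M) (show χm ∈ principalBlock M (C ⧸ Z) from h2)]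
        have hlt := hCB Bc hBcP hBcne
        have hd : dexp 2 (inflChar Z χm : C → ℂ) = dexp 2 (χm : C ⧸ Z → ℂ) := by
          unfold dexp deg
          simp [inflChar]
        have h3 : dexp 2 (χm : C ⧸ Z → ℂ) ≤ (Nat.card (C ⧸ Z)).factorization 2 := dexp_le χm.2
        have h4 := dmin_le (p := 2) (self_mem_blockOf hP (inflChar Z χm))
        have h5 := dmin_add_defect (p := 2) (B := Bc) ⟨_, self_mem_blockOf hP _⟩
        have h6 := dmin_add_defect (p := 2) (B := Bb) ⟨χ, hχ⟩
        rw [hd, hmin, ← hBc] at h4
        rw [hmin] at h3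
        omega
      have hEC : E ≤ C := fun x hx =>
        Subgroup.mem_centralizer_singleton_iff.2 (congrArg Subtype.val (hEc.is_comm.comm ⟨x, hx⟩ ⟨e, he⟩))
      set E' := (E.subgroupOf C).map (QuotientGroup.mk' Z) with hE'
      have hZE : Z ≤ E.subgroupOf C := by
        rw [hZ, Subgroup.zpowers_le, Subgroup.mem_subgroupOf]
        exact he
      have hE'card : Nat.card E' = 2 ^ (r - 1 + 1) := by
        have h1 : Nat.card (E.subgroupOf C) = 2 ^ (r + 1) := by
          rw [Nat.card_congr (Subgroup.subgroupOfEquivOfLe hEC).toEquiv, hEcard]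
        have h2 : Nat.card Z * Nat.card E' = Nat.card (E.subgroupOf C) := by
          have := Subgroup.card_mul_index (Z.subgroupOf (E.subgroupOf C))
          rw [Nat.card_congr (Subgroup.subgroupOfEquivOfLe hZE).toEquiv] at this
          rw [← this]
          congr 1
          have hker : ((QuotientGroup.mk' Z).comp (E.subgroupOf C).subtype).ker =
              Z.subgroupOf (E.subgroupOf C) := by
            rw [← MonoidHom.comap_ker, QuotientGroup.ker_mk']
            rfl
          rw [← hker, Subgroup.index_ker, hE', MonoidHom.range_eq_map ((QuotientGroup.mk' Z).comp _),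
            ← Subgroup.map_map, ← MonoidHom.range_eq_map, Subgroup.range_subtype]
        rw [hZcard, h1, pow_succ'] at h2
        rw [show r - 1 + 1 = r by omega]
        omega
      have hq := hN (C ⧸ Z) M (r - 1) hM (by omega) hblocks
        ⟨E', ⟨⟨by
          rintro ⟨_, x, hx, rfl⟩ ⟨_, y, hy, rfl⟩
          refine Subtype.ext ?_
          show QuotientGroup.mk' Z x * QuotientGroup.mk' Z y = QuotientGroup.mk' Z y * QuotientGroup.mk' Z x
          rw [← map_mul, ← map_mul]
          exact congrArg _ (Subtype.ext (congrArg Subtype.val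
            (hEc.is_comm.comm ⟨(x : G), hx⟩ ⟨(y : G), hy⟩) :))⟩⟩,
          (by
            rintro _ ⟨x, hx, rfl⟩
            rw [← map_mul, show x * x = 1 from Subtype.ext (hE2 _ hx), map_one]), hE'card⟩
      rw [hCcard]
      omega
    obtain ⟨V, hV⟩ := Sylow.exists_subgroup_card_pow_prime (G := E) 2 (n := 2)
      (by rw [hEcard]; exact pow_dvd_pow 2 (by omega))
    refine hF G hfac (V.map E.subtype)
      (by rw [Subgroup.card_map_of_injective E.subtype_injective, hV]; rfl)
      (by rintro _ ⟨w, -, rfl⟩; exact hE2 _ w.2) ?_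
    rintro _ ⟨w, -, rfl⟩ hne
    exact hcent _ w.2 hne

end Cfsg.Agent.Char
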