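import Cfsg.Agent.Lib.Char.TwoDegreesPrime
import Cfsg.Agent.Lib.Char.CliffordGen
import Cfsg.Agent.Lib.Char.LinearExt
import Cfsg.Agent.Lib.Char.MonomialNilp
import Cfsg.Agent.S4456

/-!
# Groups with two irreducible character degrees
-/

set_option autoImplicit false
open Cfsg
open scoped ComplexConjugate commutatorElement

namespace Cfsg.Agent.Char.TwoDeg2

open TwoDeg

universe u

section Abstract

variable {Q V : Type*} [Group Q] [Fintype Q] [CommGroup V] [MulDistribMulAction Q V]

/-- Coprime action with equal normal stabilizers of equal index. -/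
theorem stabilizer_eq {m N : ℕ} (hm : m ≠ 1) (hN : ∀ v : V, v ^ N = 1) (hcop : Nat.Coprime (Nat.card Q) N)
    (hidx : ∀ v : V, MulAction.stabilizer Q v ≠ ⊤ → (MulAction.stabilizer Q v).index = m)
    (hnorm : ∀ v : V, MulAction.stabilizer Q v ≠ ⊤ → (MulAction.stabilizer Q v).Normal)
    (x y : V) (hx : MulAction.stabilizer Q x ≠ ⊤) (hy : MulAction.stabilizer Q y ≠ ⊤) :
    MulAction.stabilizer Q x = MulAction.stabilizer Q y := by
  classical
  set A := MulAction.stabilizer Q x with hA
  set B := MulAction.stabilizer Q y with hB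
  haveI := hnorm x hx
  haveI : A.Normal := this
  haveI := Fintype.ofFinite A
  have heq : ∀ S T : Subgroup Q, S ≤ T → S.index = m → T.index = m → S = T := fun S T hST hS hT => by
    refine le_antisymm hST (Subgroup.relIndex_eq_one.1 ?_)
    have := Subgroup.relIndex_mul_index hST
    rw [hS, hT] at this
    exact Nat.eq_of_mul_eq_mul_right (by
      rw [← hT]; exact Nat.pos_of_ne_zero Subgroup.index_ne_zero_of_finite) (this.trans (one_mul m).symm)
  let e : V → V := fun v => ∏ a : A, (a : Q) • v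
  have hefix : ∀ (v : V) (a : Q), a ∈ A → a • e v = e v := fun v a ha => by
    simp only [e, Finset.smul_prod', smul_smul]
    exact Fintype.prod_equiv (Equiv.mulLeft (⟨a, ha⟩ : A)) _ _ fun b => rfl
  have heq' : ∀ (v : V) (c : Q), c • e v = e (c • v) := fun v c => by
    simp only [e, Finset.smul_prod', smul_smul]
    refine Fintype.prod_equiv
      { toFun := fun b : A => (⟨c * b * c⁻¹, Subgroup.Normal.conj_mem ‹A.Normal› _ b.2 c⟩ : A)
        invFun := fun b : A => ⟨c⁻¹ * b * c, by
          simpa using Subgroup.Normal.conj_mem ‹A.Normal› _ b.2 c⁻¹⟩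
        left_inv := fun b => Subtype.ext (by show c⁻¹ * (c * b * c⁻¹) * c = b; group)
        right_inv := fun b => Subtype.ext (by show c * (c⁻¹ * b * c) * c⁻¹ = b; group) } _ _ fun b => ?_
    simp
  have hemul : ∀ v w : V, e (v * w) = e v * e w := fun v w => by
    simp only [e, smul_mul', Finset.prod_mul_distrib]
  have hex : e x = x ^ Nat.card A := by
    simp only [e]
    rw [Finset.prod_congr rfl (g := fun _ => x) (fun a _ => MulAction.mem_stabilizer_iff.1 a.2),
      Finset.prod_const, Finset.card_univ, Nat.card_eq_fintype_card]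
  by_cases hey : MulAction.stabilizer Q (e y) = ⊤
  · by_cases hxy : MulAction.stabilizer Q (x * y) = ⊤
    · ext c
      rw [hA, hB, MulAction.mem_stabilizer_iff, MulAction.mem_stabilizer_iff]
      have hc : c • (x * y) = x * y := MulAction.mem_stabilizer_iff.1 (hxy.symm ▸ Subgroup.mem_top c)
      rw [smul_mul'] at hc
      constructor
      · intro h
        rwa [h, mul_left_cancel_iff] at hc
      · intro h
        rwa [h, mul_right_cancel_iff] at hc
    set C := MulAction.stabilizer Q (x * y) with hC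
    have hCA : C ≤ A := fun c hc => by
      rw [hA, MulAction.mem_stabilizer_iff]
      have h1 : c • e (x * y) = e (x * y) := by rw [heq', MulAction.mem_stabilizer_iff.1 hc]
      have h2 : c • e y = e y := MulAction.mem_stabilizer_iff.1 (hey.symm ▸ Subgroup.mem_top c)
      rw [hemul, smul_mul', h2, mul_right_cancel_iff, hex, smul_pow'] at h1
      have hcA : (Nat.card A).Coprime N := hcop.coprime_dvd_left (Subgroup.card_subgroup_dvd_card A)
      have h3 : (c • x * x⁻¹) ^ Nat.card A = 1 := by rw [mul_pow, h1, inv_pow, mul_inv_cancel]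
      have h4 : (c • x * x⁻¹) = 1 := by
        rw [← orderOf_eq_one_iff]
        exact Nat.eq_one_of_dvd_coprimes hcA (orderOf_dvd_of_pow_eq_one h3) (orderOf_dvd_of_pow_eq_one (hN _))
      exact mul_inv_eq_one.1 h4
    have hCB : C ≤ B := fun c hc => by
      rw [hB, MulAction.mem_stabilizer_iff]
      have h1 : c • (x * y) = x * y := MulAction.mem_stabilizer_iff.1 hc
      rwa [smul_mul', MulAction.mem_stabilizer_iff.1 (hCA hc), mul_left_cancel_iff] at h1
    rw [← heq C A hCA (hidx _ hxy) (hidx x hx), ← heq C B hCB (hidx _ hxy) (hidx y hy)]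
  · have hAE : A ≤ MulAction.stabilizer Q (e y) := fun a ha => MulAction.mem_stabilizer_iff.2 (hefix y a ha)
    have hBE : B ≤ MulAction.stabilizer Q (e y) := fun c hc => by
      rw [MulAction.mem_stabilizer_iff, heq', MulAction.mem_stabilizer_iff.1 hc]
    rw [heq A _ hAE (hidx x hx) (hidx _ hey), heq B _ hBE (hidx y hy) (hidx _ hey)]

end Abstract

variable {G : Type u} [Group G] [Fintype G] {m : ℕ}

/-- A subgroup whose index is the nonlinear degree contains the derived subgroup. -/
theorem commutator_le_of_index (hcd : ∀ χ : IrrCharacter G, deg (χ : G → ℂ) = 1 ∨ deg (χ : G → ℂ) = m)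
    (T : Subgroup G) (hT : T.index = m) : commutator G ≤ T := by
  classical
  haveI := Fintype.ofFinite T
  set F := indFun T (fun _ => (1 : ℂ)) with hF
  have hFc : IsCharacter G F := isCharacter_indFun T (irr_isCharacter isIrrCharacter_one)
  obtain ⟨c, hc⟩ := exists_decomposition hFc
  set e : IrrCharacter G := ⟨_, isIrrCharacter_one⟩ with he
  have hce : c e = 1 := by
    have h1 := decomposition_coeff c hc e
    rw [hF, frobenius T _ (isClassFunction_character (irr_isCharacter e.2))] at h1
    have h2 : classInner (fun _ : T => (1 : ℂ)) (fun x : T => (e : G → ℂ) x) = 1 := irr_self isIrrCharacter_one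
    rw [h2] at h1
    exact_mod_cast h1.symm
  have h1 := congrFun hc 1
  rw [hF, indFun_one, mul_one, hT, Finset.sum_apply] at h1
  simp only [Pi.smul_apply, nsmul_eq_mul, fun ψ : IrrCharacter G => char_one_eq_deg (irr_isCharacter ψ.2)] at h1
  have h2 : m = ∑ ψ, c ψ * deg (ψ : G → ℂ) := by exact_mod_cast h1
  have hde : deg (e : G → ℂ) = 1 := by simp [he, deg]
  have hlin : ∀ ψ : IrrCharacter G, c ψ ≠ 0 → deg (ψ : G → ℂ) = 1 := by
    intro ψ hψ
    rcases hcd ψ with h | h
    · exact h
    by_contra hne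
    have hψe : ψ ≠ e := fun hpe => hne (hpe ▸ hde)
    have h3 : c e * deg (e : G → ℂ) + c ψ * deg (ψ : G → ℂ) ≤ m := by
      rw [h2, ← Finset.sum_pair hψe.symm (f := fun ξ => c ξ * deg (ξ : G → ℂ))]
      exact Finset.sum_le_sum_of_subset (Finset.subset_univ _)
    rw [hce, hde, h] at h3
    have : m ≤ c ψ * m := Nat.le_mul_of_pos_left m (Nat.pos_of_ne_zero hψ)
    omega
  intro g hg
  have hFg : F g = (m : ℂ) := by
    rw [congrFun hc g, Finset.sum_apply, h1]
    refine Finset.sum_congr rfl fun ψ _ => ?_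
    rcases eq_or_ne (c ψ) 0 with h0 | h0
    · simp [h0]
    have hk : g ∈ kerC ψ := by
      revert hg g
      rw [← SetLike.le_def, commutator_def, Subgroup.commutator_le]
      intro a _ b _
      rw [commutatorElement_def]
      exact kerC_top_of_linear ψ (hlin ψ h0) a b
    have h4 := hk 1
    rw [mul_one, char_one_eq_deg (irr_isCharacter ψ.2)] at h4
    rw [Pi.smul_apply, nsmul_eq_mul, h4]
  rw [hF, indFun] at hFg
  have hterm : ∀ x : G, extendByZero T (fun _ => (1 : ℂ)) (x⁻¹ * g * x) = if x⁻¹ * g * x ∈ T then 1 else 0 :=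
    fun x => by
      by_cases hx : x⁻¹ * g * x ∈ T
      · rw [extendByZero_mem T _ hx, if_pos hx]
      · rw [extendByZero_not_mem T _ hx, if_neg hx]
  rw [Finset.sum_congr rfl (fun x _ => hterm x), Finset.sum_boole,
    inv_mul_eq_iff_eq_mul₀ (Nat.cast_ne_zero.2 Nat.card_pos.ne'), ← hT, ← Nat.cast_mul,
    Subgroup.card_mul_index, Nat.cast_inj] at hFg
  have h5 : (Finset.univ.filter fun x : G => x⁻¹ * g * x ∈ T) = Finset.univ :=
    Finset.eq_univ_of_card _ (by rw [hFg, Nat.card_eq_fintype_card])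
  have h6 : (1 : G) ∈ Finset.univ.filter fun x : G => x⁻¹ * g * x ∈ T := h5.symm ▸ Finset.mem_univ 1
  simpa using (Finset.mem_filter.1 h6).2

section Split

variable (K : Subgroup G) [K.Normal]

/-- The action by conjugation on the linear characters of a normal subgroup. -/
def conjChar : G →* MulAut (K →* ℂˣ) where
  toFun g :=
    { toFun := fun l => l.comp (MulAut.conjNormal g⁻¹ : MulAut K).toMonoidHom
      invFun := fun l => l.comp (MulAut.conjNormal g : MulAut K).toMonoidHom
      left_inv := fun l => MonoidHom.ext fun k => by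
        show l (MulAut.conjNormal g⁻¹ (MulAut.conjNormal g k)) = l k
        rw [map_inv, MulAut.inv_apply_self]
      right_inv := fun l => MonoidHom.ext fun k => by
        show l (MulAut.conjNormal g (MulAut.conjNormal g⁻¹ k)) = l k
        rw [map_inv, MulAut.apply_inv_self]
      map_mul' := fun a b => MonoidHom.ext fun k => rfl }
  map_one' := MulEquiv.ext fun l => MonoidHom.ext fun k => by
    show l (MulAut.conjNormal (1 : G)⁻¹ k) = l k
    rw [inv_one, map_one]; rfl
  map_mul' a b := MulEquiv.ext fun l => MonoidHom.ext fun k => by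
    show l (MulAut.conjNormal (a * b)⁻¹ k) = l (MulAut.conjNormal b⁻¹ (MulAut.conjNormal a⁻¹ k))
    rw [mul_inv_rev, map_mul]; rfl

theorem le_ker_conjChar (hKab : ∀ a b : K, a * b = b * a) : K ≤ (conjChar K).ker := fun g hg => by
  refine MulEquiv.ext fun l => MonoidHom.ext fun k => ?_
  show l (MulAut.conjNormal g⁻¹ k) = l k
  congr 1
  refine Subtype.ext ?_
  rw [MulAut.conjNormal_apply, inv_inv]
  have := congrArg Subtype.val (hKab k ⟨g, hg⟩)
  simp only [Subgroup.coe_mul] at this
  rw [mul_assoc, this, inv_mul_cancel_left]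

/-- Two degrees and an abelian normal noncentral Hall subgroup give an abelian subgroup of index `m`. -/
theorem exists_abelian_index (hcd : ∀ χ : IrrCharacter G, deg (χ : G → ℂ) = 1 ∨ deg (χ : G → ℂ) = m)
    (hm1 : m ≠ 1) (hKab : ∀ a b : K, a * b = b * a) (hcop : (Nat.card K).Coprime K.index)
    (hnc : ¬ K ≤ Subgroup.center G) :
    ∃ A : Subgroup G, A.Normal ∧ (∀ a ∈ A, ∀ b ∈ A, a * b = b * a) ∧ A.index = m ∧ commutator G ≤ A := by
  classical
  haveI := Fintype.ofFinite K
  let φ : G ⧸ K →* MulAut (K →* ℂˣ) := QuotientGroup.lift K (conjChar K) (le_ker_conjChar K hKab)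
  letI : MulDistribMulAction (G ⧸ K) (K →* ℂˣ) :=
    { smul := fun q l => φ q l
      one_smul := fun l => by show φ 1 l = l; rw [map_one]; rfl
      mul_smul := fun a b l => by show φ (a * b) l = φ a (φ b l); rw [map_mul]; rfl
      smul_mul := fun q a b => map_mul (φ q) a b
      smul_one := fun q => map_one (φ q) }
  have hsmul : ∀ (g : G) (l : K →* ℂˣ) (k : K),
      ((QuotientGroup.mk g : G ⧸ K) • l) k = l (MulAut.conjNormal g⁻¹ k) := fun g l k => rfl
  let T : (K →* ℂˣ) → Subgroup G := fun l =>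
    (MulAction.stabilizer (G ⧸ K) l).comap (QuotientGroup.mk' K)
  have hsurj := QuotientGroup.mk'_surjective K
  have hTidx : ∀ l, (T l).index = (MulAction.stabilizer (G ⧸ K) l).index := fun l =>
    Subgroup.index_comap_of_surjective _ hsurj
  have hTmem : ∀ (l : K →* ℂˣ) (g : G), g ∈ T l ↔ ∀ k : K, l (MulAut.conjNormal g k) = l k := by
    intro l g
    rw [Subgroup.mem_comap, MulAction.mem_stabilizer_iff, QuotientGroup.mk'_apply]
    constructor
    · intro h k
      have := DFunLike.congr_fun h (MulAut.conjNormal g k)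
      rw [hsmul] at this
      rw [← this, map_inv, MulAut.inv_apply_self]
    · intro h
      refine MonoidHom.ext fun k => ?_
      rw [hsmul, ← h (MulAut.conjNormal g⁻¹ k), map_inv, MulAut.apply_inv_self]
  have hKT : ∀ l, K ≤ T l := fun l x hx => by
    rw [Subgroup.mem_comap, QuotientGroup.mk'_apply, (QuotientGroup.eq_one_iff x).2 hx]
    exact one_mem _
  have htop : ∀ l, MulAction.stabilizer (G ⧸ K) l = ⊤ ↔ T l = ⊤ := fun l => by
    constructor
    · intro h; simp only [T, h, Subgroup.comap_top]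
    · intro h
      have := congrArg (Subgroup.map (QuotientGroup.mk' K)) h
      rwa [Subgroup.map_comap_eq_self_of_surjective hsurj, Subgroup.map_top_of_surjective _ hsurj] at this
  -- extensions to the stabilizer
  have hext : ∀ l : K →* ℂˣ, ∃ μ : T l →* ℂˣ, ∀ k : K, μ ⟨(k : G), hKT l k.2⟩ = l k := by
    intro l
    haveI : (K.subgroupOf (T l)).Normal := Subgroup.Normal.comap inferInstance _
    let c : K.subgroupOf (T l) →* ℂˣ := l.comp (Subgroup.subgroupOfEquivOfLe (hKT l)).toMonoidHom
    obtain ⟨μ, hμ⟩ := exists_linear_extension_local (K.subgroupOf (T l)) c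
      (fun h z => by
        have h1 := (hTmem l (h : G)).1 h.2 (Subgroup.subgroupOfEquivOfLe (hKT l) z)
        refine Eq.trans ?_ h1
        show l _ = l _
        congr 1
        )
      (fun z q hq hd => by
        refine ⟨K.subgroupOf (T l), c, le_rfl, ?_, fun _ => rfl⟩
        have hqK : q ∣ Nat.card K := by
          refine hd.trans ((orderOf_map_dvd c z).trans ?_)
          rw [← Nat.card_congr (Subgroup.subgroupOfEquivOfLe (hKT l)).toEquiv]
          exact orderOf_dvd_natCard z
        refine Nat.Coprime.symm ((hcop.coprime_dvd_left hqK).coprime_dvd_right ?_)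
        exact Subgroup.relIndex_dvd_index_of_normal K (T l))
    refine ⟨μ, fun k => ?_⟩
    exact hμ ⟨⟨(k : G), hKT l k.2⟩, k.2⟩
  let irrL : (K →* ℂˣ) → IrrCharacter K := fun l => ⟨fun k => (l k : ℂ), isIrrCharacter_linear l⟩
  -- the orbit of a linear character
  have horb : ∀ l, (cliffOrbit K (irrL l)).card = (T l).index := by
    intro l
    rw [Subgroup.index_eq_card, ← Nat.card_eq_finsetCard]
    symm
    have hinvEq : ∀ a b : G, irrComp (MulAut.conjNormal a⁻¹) (irrL l) = irrComp (MulAut.conjNormal b⁻¹) (irrL l) ↔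
        a⁻¹ * b ∈ T l := by
      intro a b
      rw [hTmem]
      constructor
      · intro h k
        have h1 := congrFun (congrArg Subtype.val h) (MulAut.conjNormal b k)
        rw [irrComp_apply, irrComp_apply] at h1
        have h2 : l (MulAut.conjNormal a⁻¹ (MulAut.conjNormal b k)) = l (MulAut.conjNormal b⁻¹ (MulAut.conjNormal b k)) :=
          Units.ext h1
        rw [map_inv MulAut.conjNormal b, MulAut.inv_apply_self] at h2
        rw [map_mul, MulAut.mul_apply]
        exact h2
      · intro h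
        refine Subtype.ext (funext fun k => ?_)
        rw [irrComp_apply, irrComp_apply]
        show ((l _ : ℂˣ) : ℂ) = (l _ : ℂˣ)
        rw [← h (MulAut.conjNormal b⁻¹ k), ← MulAut.mul_apply, ← map_mul]
        congr 3
        simp [mul_assoc]
    refine Nat.card_eq_of_bijective (fun q : G ⧸ T l => Quotient.liftOn q
      (fun g => (⟨irrComp (MulAut.conjNormal g⁻¹) (irrL l), mem_cliffOrbit.2 ⟨g⁻¹, rfl⟩⟩ : cliffOrbit K (irrL l)))
      (fun a b hab => Subtype.ext ((hinvEq a b).2 (QuotientGroup.leftRel_apply.1 hab)))) ⟨?_, ?_⟩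
    · intro a b
      induction a using Quotient.inductionOn with
      | _ a =>
      induction b using Quotient.inductionOn with
      | _ b =>
      intro h
      exact Quotient.sound (QuotientGroup.leftRel_apply.2 ((hinvEq a b).1 (congrArg Subtype.val h)))
    · rintro ⟨ψ, hψ⟩
      obtain ⟨g, rfl⟩ := mem_cliffOrbit.1 hψ
      exact ⟨QuotientGroup.mk g⁻¹, Subtype.ext (by
        show irrComp (MulAut.conjNormal g⁻¹⁻¹) (irrL l) = _
        rw [inv_inv])⟩
  have hidx : ∀ l, T l ≠ ⊤ → (T l).index = m := by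
    intro l hl
    haveI := Fintype.ofFinite (T l)
    obtain ⟨μ, hμ⟩ := hext l
    obtain ⟨χ, hχ⟩ := exists_constituent_over (T l) (⟨fun x => (μ x : ℂ), isIrrCharacter_linear μ⟩ : IrrCharacter (T l))
    set F := indFun (T l) (fun x => (μ x : ℂ)) with hF
    have hFc : IsCharacter G F := isCharacter_indFun (T l) (irr_isCharacter (isIrrCharacter_linear μ))
    have hcf := isClassFunction_character (irr_isCharacter χ.2)
    have hne : classInner F (χ : G → ℂ) ≠ 0 := by
      rw [hF, frobenius _ _ hcf, ← classInner_symm]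
      exact fun h0 => hχ (by simpa using h0)
    have hle : deg (χ : G → ℂ) ≤ (T l).index := by
      have h1 := degree_le_of_classInner_ne_zero hFc χ hne
      rw [hF, indFun_one, map_one, Units.val_one, mul_one, char_one_eq_deg (irr_isCharacter χ.2),
        Complex.natCast_re, Complex.natCast_re] at h1
      exact_mod_cast h1
    -- `χ` lies over `l`
    have hover : classInner (fun k : K => (χ : G → ℂ) k) (irrL l : K → ℂ) ≠ 0 := by
      obtain ⟨c, hc⟩ := exists_decomposition (isCharacter_comp (T l).subtype (irr_isCharacter χ.2))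
      set ν : IrrCharacter (T l) := ⟨fun x => (μ x : ℂ), isIrrCharacter_linear μ⟩
      have hcν : c ν ≠ 0 := fun h0 => hχ (by
        show classInner ((χ : G → ℂ) ∘ (T l).subtype) (ν : T l → ℂ) = 0
        rw [decomposition_coeff c hc ν, h0, Nat.cast_zero])
      let ι : K →* T l := Subgroup.inclusion (hKT l)
      have hres : (fun k : K => (χ : G → ℂ) k) = ∑ ψ : IrrCharacter (T l), c ψ • ((ψ : T l → ℂ) ∘ ι) := by
        funext k
        have := congrFun hc (ι k)
        simp only [Finset.sum_apply, Pi.smul_apply] at this ⊢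
        exact this
      choose d hd using fun ψ : IrrCharacter (T l) =>
        classInner_natCast (isCharacter_comp ι (irr_isCharacter ψ.2)) (irr_isCharacter (irrL l).2)
      have hdν : d ν = 1 := by
        have h1 := hd ν
        have h2 : (ν : T l → ℂ) ∘ ι = (irrL l : K → ℂ) := funext fun k => by
          show ((μ (ι k) : ℂˣ) : ℂ) = (l k : ℂ)
          rw [← hμ k]; rfl
        rw [h2, irr_self (irrL l).2] at h1
        exact_mod_cast h1.symm
      have h1 : classInner (fun k : K => (χ : G → ℂ) k) (irrL l : K → ℂ) = ((∑ ψ, c ψ * d ψ : ℕ) : ℂ) := by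
        rw [hres, classInner_sum_left, Nat.cast_sum]
        refine Finset.sum_congr rfl fun ψ _ => ?_
        rw [← Nat.cast_smul_eq_nsmul ℂ, classInner_smul_left, hd, Nat.cast_mul]
      rw [h1, Nat.cast_ne_zero]
      intro h0
      exact hcν (by simpa [hdν] using Finset.sum_eq_zero_iff.1 h0 ν (Finset.mem_univ _))
    have h2 := orbit_mul_deg_dvd K χ (irrL l) hover
    rw [horb, show deg (irrL l : K → ℂ) = 1 by simp [irrL, deg], mul_one] at h2
    have h3 := Nat.le_of_dvd (Nat.pos_of_ne_zero (cast_ne_zero_deg χ)) h2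
    rcases hcd χ with h | h
    · exfalso
      rw [h] at h3
      have h4 := Nat.pos_of_ne_zero ((T l).index_ne_zero_of_finite)
      exact hl (Subgroup.index_eq_one.1 (by omega))
    · omega
  have hnormal : ∀ l, T l ≠ ⊤ → (T l).Normal := fun l hl => by
    have := commutator_le_of_index hcd (T l) (hidx l hl)
    exact Subgroup.Normal.of_commutator_le _ (by rwa [commutator_def] at this)
  -- a noninvariant character exists
  obtain ⟨l₀, hl₀⟩ : ∃ l, T l ≠ ⊤ := by
    by_contra hcon
    push Not at hcon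
    refine hnc fun k hk => Subgroup.mem_center_iff.2 fun g => ?_
    have h1 : MulAut.conjNormal g (⟨k, hk⟩ : K) * (⟨k, hk⟩ : K)⁻¹ = 1 := by
      refine eq_one_of_mem_all fun θ => mem_kerC_of_eq θ ?_
      obtain ⟨l, hl⟩ := exists_hom_of_degree_one (irr_isCharacter θ.2) (forall_linear_iff_comm.1 hKab θ)
      rw [congrFun hl, congrFun hl, map_mul, (hTmem l g).1 (hcon l ▸ Subgroup.mem_top g), ← map_mul,
        mul_inv_cancel]
    have h2 := congrArg Subtype.val h1
    rw [Subgroup.coe_mul, MulAut.conjNormal_apply, Subgroup.coe_one, InvMemClass.coe_inv, mul_inv_eq_one] at h2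
    exact mul_inv_eq_iff_eq_mul.1 h2
  have hsame : ∀ l, T l ≠ ⊤ → T l = T l₀ := by
    intro l hl
    have h1 := stabilizer_eq (Q := G ⧸ K) (V := K →* ℂˣ) (m := m) (N := Nat.card K) hm1
      (fun v => MonoidHom.ext fun k => by rw [MonoidHom.pow_apply, ← map_pow, pow_card_eq_one', map_one]; rfl)
      (by rw [← Subgroup.index_eq_card]; exact hcop.symm)
      (fun v hv => by rw [← hTidx]; exact hidx v (fun h => hv ((htop v).2 h)))
      (fun v hv => by
        have h2 := (hnormal v (fun h => hv ((htop v).2 h))).map (QuotientGroup.mk' K) hsurj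
        rwa [Subgroup.map_comap_eq_self_of_surjective hsurj] at h2)
      l l₀ (fun h => hl ((htop l).1 h)) (fun h => hl₀ ((htop l₀).1 h))
    simp only [T, h1]
  set A := T l₀ with hA
  haveI hAn : A.Normal := hnormal l₀ hl₀
  haveI := Fintype.ofFinite A
  refine ⟨A, hAn, ?_, hidx l₀ hl₀, commutator_le_of_index hcd A (hidx l₀ hl₀)⟩
  haveI hKAn : (K.subgroupOf A).Normal := Subgroup.Normal.comap inferInstance _
  haveI := Fintype.ofFinite (K.subgroupOf A)
  -- characters of `A` over noninvariant characters are linear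
  have hover : ∀ (θ : IrrCharacter A) (l : K →* ℂˣ), T l ≠ ⊤ →
      (∀ k : K, (θ : A → ℂ) ⟨(k : G), hA ▸ hKT l₀ k.2⟩ = (deg (θ : A → ℂ) : ℂ) * (l k : ℂ)) →
      deg (θ : A → ℂ) = 1 := by
    intro θ l hl hval
    obtain ⟨χ, hχ⟩ := exists_constituent_over A θ
    have h1 := orbit_mul_deg_dvd A χ θ hχ
    have hle : (cliffOrbit K (irrL l)).card ≤ (cliffOrbit A θ).card := by
      refine (Finset.card_le_card ?_).trans (Finset.card_image_le (s := cliffOrbit A θ)
        (f := fun ψ : IrrCharacter A => (fun k : K => (ψ : A → ℂ) ⟨(k : G), hA ▸ hKT l₀ k.2⟩ / (deg (θ : A → ℂ) : ℂ))))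
        |> fun h => le_trans (le_of_eq (Finset.card_image_of_injective _ (f := fun ψ : IrrCharacter K => (ψ : K → ℂ))
          Subtype.val_injective).symm) h
      intro f hf
      obtain ⟨ψ, hψ, rfl⟩ := Finset.mem_image.1 hf
      obtain ⟨g, rfl⟩ := mem_cliffOrbit.1 hψ
      refine Finset.mem_image.2 ⟨_, mem_cliffOrbit.2 ⟨g, rfl⟩, funext fun k => ?_⟩
      rw [irrComp_apply, irrComp_apply]
      have h2 : MulAut.conjNormal g (⟨(k : G), hA ▸ hKT l₀ k.2⟩ : A) =
          ⟨((MulAut.conjNormal g k : K) : G), hA ▸ hKT l₀ (MulAut.conjNormal g k).2⟩ :=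
        Subtype.ext (by simp [MulAut.conjNormal_apply])
      rw [h2, hval, mul_div_cancel_left₀ _ (Nat.cast_ne_zero.2 (cast_ne_zero_deg θ))]
    rw [horb, hidx l hl] at hle
    have h3 := Nat.le_of_dvd (Nat.pos_of_ne_zero (cast_ne_zero_deg χ)) h1
    have h4 := Nat.pos_of_ne_zero (cast_ne_zero_deg θ)
    have h5 : m * deg (θ : A → ℂ) ≤ deg (χ : G → ℂ) := (Nat.mul_le_mul_right _ hle).trans h3
    have hm0 : 0 < m := by
      rw [← hidx l hl]; exact Nat.pos_of_ne_zero Subgroup.index_ne_zero_of_finite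
    rcases hcd χ with h | h <;> rw [h] at h5 <;> nlinarith
  have hAab : ∀ a b : A, a * b = b * a := by
    rw [forall_linear_iff_comm]
    intro θ
    rw [char_one_eq_deg (irr_isCharacter θ.2)]
    suffices deg (θ : A → ℂ) = 1 by rw [this, Nat.cast_one]
    -- the restriction of `θ` to `K`
    obtain ⟨c, hc⟩ := exists_decomposition (isCharacter_comp (Subgroup.inclusion (hKT l₀)) (irr_isCharacter θ.2))
    obtain ⟨ξ, hξ⟩ : ∃ ξ, c ξ ≠ 0 := by
      by_contra hcon
      push Not at hcon
      have h1 := congrFun hc 1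
      simp [hcon, Finset.sum_apply] at h1
      exact irr_one_ne_zero θ.2 h1
    obtain ⟨l, hl⟩ := exists_hom_of_degree_one (irr_isCharacter ξ.2) (forall_linear_iff_comm.1 hKab ξ)
    -- `A` fixes every linear character of `K`
    have hfix : ∀ (v : K →* ℂˣ) (a : A) (k : K), v (MulAut.conjNormal (a : G) k) = v k := fun v a k => by
      by_cases hv : T v = ⊤
      · exact (hTmem v _).1 (hv ▸ Subgroup.mem_top _) k
      · exact (hTmem v _).1 ((hsame v hv).symm ▸ a.2) k
    let eK : K.subgroupOf A ≃* K := Subgroup.subgroupOfEquivOfLe (hKT l₀)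
    let ξ' : IrrCharacter (K.subgroupOf A) := ⟨fun x => (ξ : K → ℂ) (eK x), isIrrCharacter_comp_equiv eK ξ.2⟩
    have hcons : classInner (fun x : K.subgroupOf A => (θ : A → ℂ) x) (ξ' : K.subgroupOf A → ℂ) ≠ 0 := by
      have h1 := decomposition_coeff c hc ξ
      simp only [classInner, Nat.card_congr eK.toEquiv]
      intro h0
      apply hξ
      rw [← Nat.cast_eq_zero (R := ℂ), ← h1, ← h0]
      simp only [classInner]
      congr 1
      exact (Fintype.sum_equiv eK.toEquiv _ _ fun x => rfl).symm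
    have horb1 : cliffOrbit (K.subgroupOf A) ξ' = {ξ'} := by
      refine Finset.eq_singleton_iff_unique_mem.2 ⟨self_mem_cliffOrbit ξ', fun φ hφ => ?_⟩
      obtain ⟨a, rfl⟩ := mem_cliffOrbit.1 hφ
      refine Subtype.ext (funext fun x => ?_)
      rw [irrComp_apply]
      show (ξ : K → ℂ) (eK _) = (ξ : K → ℂ) (eK x)
      rw [congrFun hl, congrFun hl, ← hfix l a (eK x)]
      congr 3

    have hcl := clifford_restrict θ ξ' hcons
    rw [horb1, Finset.sum_singleton] at hcl
    have h1 := congrFun hcl 1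
    have hval : ∀ k : K, (θ : A → ℂ) ⟨(k : G), hA ▸ hKT l₀ k.2⟩ = (deg (θ : A → ℂ) : ℂ) * (l k : ℂ) := fun k => by
      have h2 := congrFun hcl (eK.symm k)
      rw [Pi.smul_apply, smul_eq_mul] at h1 h2
      simp only [ξ', map_one, MulEquiv.apply_symm_apply, congrFun hl, Units.val_one, mul_one] at h1 h2
      rw [← h1, Subgroup.coe_one, char_one_eq_deg (irr_isCharacter θ.2)] at h2
      exact h2
    by_cases hlT : T l = ⊤
    · -- twist by an extension of a noninvariant character
      obtain ⟨μ, hμ⟩ := hext l₀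
      let tw : IrrCharacter A := ⟨fun x => (μ x : ℂ) * (θ : A → ℂ) x, isIrr_linear_mul θ.2 μ⟩
      have htw : deg (tw : A → ℂ) = deg (θ : A → ℂ) := by simp [tw, deg]
      rw [← htw]
      refine hover tw (l₀ * l) (fun htop' => hl₀ ?_) fun k => ?_
      · refine (htop l₀).1 (Subgroup.eq_top_iff' _ |>.2 fun q => ?_)
        have h3 : q • (l₀ * l) = l₀ * l := MulAction.mem_stabilizer_iff.1 (((htop _).2 htop').symm ▸ Subgroup.mem_top q)
        rw [show q • (l₀ * l) = q • l₀ * q • l from map_mul (φ q) l₀ l, show q • l = l from MulAction.mem_stabilizer_iff.1 (((htop _).2 hlT).symm ▸ Subgroup.mem_top q),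
          mul_right_cancel_iff] at h3
        exact MulAction.mem_stabilizer_iff.2 h3
      · show (μ ⟨(k : G), _⟩ : ℂ) * (θ : A → ℂ) _ = _
        rw [hμ k, hval k, htw, MonoidHom.mul_apply, Units.val_mul]
        ring
    · exact hover θ l hlT hval
  intro a ha b hb
  exact congrArg Subtype.val (hAab ⟨a, ha⟩ ⟨b, hb⟩)

end Split

/-- An abelian normal Hall subgroup for the primes not dividing `m`. -/
theorem exists_hall (hcd : ∀ χ : IrrCharacter G, deg (χ : G → ℂ) = 1 ∨ deg (χ : G → ℂ) = m)
    (hm0 : m ≠ 0) :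
    ∃ (K : Subgroup G) (_ : K.Normal), (∀ a b : K, a * b = b * a) ∧ (Nat.card K).Coprime K.index ∧
      Group.IsNilpotent (G ⧸ K) ∧ (∀ q : ℕ, q.Prime → q ∣ m → (Nat.card K).Coprime q) ∧
      ∀ q : ℕ, q.Prime → q ∣ K.index → q ∣ m := by
  classical
  let ι := {q : ℕ // q ∈ m.primeFactors}
  have hq : ∀ q : ι, (q.1).Prime ∧ q.1 ∣ m := fun q =>
    ⟨Nat.prime_of_mem_primeFactors q.2, Nat.dvd_of_mem_primeFactors q.2⟩
  choose N hNn hNc k hNk using fun q : ι => S4456.result (G := G) q.1 (hq q).1 fun χ hχ => by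
    rcases hcd χ with h | h
    · exact absurd h hχ
    · exact (show Cfsg.charDegree (χ : G → ℂ) = m from h) ▸ (hq q).2
  haveI : ∀ q, (N q).Normal := hNn
  let f : G →* (∀ q : ι, G ⧸ N q) := Pi.monoidHom fun q => QuotientGroup.mk' (N q)
  haveI : ∀ q : ι, Group.IsNilpotent (G ⧸ N q) := fun q => by
    haveI : Fact (q.1).Prime := ⟨(hq q).1⟩
    exact (IsPGroup.of_card (p := q.1) (n := k q) (by rw [← Subgroup.index_eq_card]; exact hNk q)).isNilpotent
  have hker : ∀ q : ι, f.ker ≤ N q := fun q x hx => by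
    have := congrFun (MonoidHom.mem_ker.1 hx) q
    exact (QuotientGroup.eq_one_iff x).1 this
  have hnil : Group.IsNilpotent (G ⧸ f.ker) :=
    Group.nilpotent_of_mulEquiv (QuotientGroup.quotientKerEquivRange f).symm
  have hK : ∀ q : ℕ, q.Prime → q ∣ m → (Nat.card f.ker).Coprime q := fun q hqp hqm => by
    let i : ι := ⟨q, Nat.mem_primeFactors.2 ⟨hqp, hqm, hm0⟩⟩
    exact (hNc i).coprime_dvd_left (Subgroup.card_dvd_of_le (hker i))
  have hidx : ∀ q : ℕ, q.Prime → q ∣ f.ker.index → q ∣ m := by
    intro q hqp hqd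
    rw [Subgroup.index_ker] at hqd
    have h1 : q ∣ Nat.card (∀ i : ι, G ⧸ N i) := hqd.trans (Subgroup.card_subgroup_dvd_card _)
    rw [Nat.card_pi] at h1
    obtain ⟨i, -, hi⟩ := (hqp.prime.dvd_finset_prod_iff _).1 h1
    rw [← Subgroup.index_eq_card, hNk] at hi
    rw [(Nat.prime_dvd_prime_iff_eq hqp (hq i).1).1 (hqp.dvd_of_dvd_pow hi)]
    exact (hq i).2
  refine ⟨f.ker, inferInstance, ?_, ?_, hnil, hK, hidx⟩
  · haveI := Fintype.ofFinite f.ker
    rw [forall_linear_iff_comm]
    intro θ
    rw [char_one_eq_deg (irr_isCharacter θ.2)]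
    suffices deg (θ : f.ker → ℂ) = 1 by rw [this, Nat.cast_one]
    obtain ⟨χ, hχ⟩ := exists_constituent_over f.ker θ
    have h1 := (dvd_mul_left _ _).trans (orbit_mul_deg_dvd f.ker χ θ hχ)
    rcases hcd χ with h | h <;> rw [h] at h1
    · exact Nat.dvd_one.1 h1
    · by_contra hne
      obtain ⟨q, hqp, hqd⟩ := Nat.exists_prime_and_dvd hne
      exact (hqp.coprime_iff_not_dvd.1 (hK q hqp (hqd.trans h1)).symm) (hqd.trans (deg_dvd_card θ.2))
  · refine Nat.coprime_of_dvd fun q hqp h1 h2 => ?_
    exact (hqp.coprime_iff_not_dvd.1 (hK q hqp (hidx q hqp h2)).symm) h1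

/-- In a nilpotent group with two degrees the derived subgroup is abelian. -/
theorem derived_abelian_of_nilpotent [Group.IsNilpotent G]
    (hcd : ∀ χ : IrrCharacter G, deg (χ : G → ℂ) = 1 ∨ deg (χ : G → ℂ) = m) :
    ∀ a ∈ commutator G, ∀ b ∈ commutator G, a * b = b * a := by
  classical
  intro a ha b hb
  rw [← commutatorElement_eq_one_iff_mul_comm, commutatorElement_def]
  refine eq_one_of_mem_all fun χ => ?_
  rcases hcd χ with h | h
  · exact kerC_top_of_linear χ h a b
  obtain ⟨H, l, hχ⟩ := monomial_of_nilpotent _ G rfl (χ : G → ℂ) χ.2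
  have hidx : H.index = m := by
    have h1 := congrFun hχ 1
    rw [indFun_one, map_one, Units.val_one, mul_one, char_one_eq_deg (irr_isCharacter χ.2), h, Nat.cast_inj] at h1
    exact h1.symm
  have hle := commutator_le_of_index hcd H hidx
  refine mem_kerC_of_eq χ ?_
  rw [hχ]
  simp only [indFun]
  congr 1
  refine Finset.sum_congr rfl fun x _ => ?_
  have hn : ∀ y ∈ commutator G, x⁻¹ * y * x ∈ H := fun y hy => hle (by
    simpa using (inferInstance : (commutator G).Normal).conj_mem y hy x⁻¹)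
  set a' : H := ⟨x⁻¹ * a * x, hn a ha⟩
  set b' : H := ⟨x⁻¹ * b * x, hn b hb⟩
  have he : x⁻¹ * (a * b * a⁻¹ * b⁻¹) * x = ((a' * b' * a'⁻¹ * b'⁻¹ : H) : G) := by
    simp only [Subgroup.coe_mul, InvMemClass.coe_inv, a', b']
    group
  rw [he, extendByZero_mem H _ (a' * b' * a'⁻¹ * b'⁻¹).2,
    show x⁻¹ * 1 * x = ((1 : H) : G) by simp, extendByZero_mem H _ (1 : H).2]
  show ((l (a' * b' * a'⁻¹ * b'⁻¹) : ℂˣ) : ℂ) = (l 1 : ℂˣ)
  congr 1
  simp only [map_mul, map_inv, map_one]
  rw [mul_comm (l a') (l b'), mul_inv_cancel_right, mul_inv_cancel]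

/-- The two cases. -/
theorem cases_two (hcd : ∀ χ : IrrCharacter G, deg (χ : G → ℂ) = 1 ∨ deg (χ : G → ℂ) = m) (hm0 : m ≠ 0)
    (hm1 : m ≠ 1) (hm : ∃ χ : IrrCharacter G, deg (χ : G → ℂ) = m) :
    (∃ A : Subgroup G, A.Normal ∧ (∀ a ∈ A, ∀ b ∈ A, a * b = b * a) ∧ A.index = m ∧ commutator G ≤ A) ∨
    (Group.IsNilpotent G ∧ ∃ p e : ℕ, p.Prime ∧ m = p ^ e ∧ ∃ P A : Subgroup G, P.Normal ∧ A.Normal ∧
      IsPGroup p P ∧ (∀ a ∈ A, ∀ b ∈ A, a * b = b * a) ∧ P ⊓ A = ⊥ ∧ P ⊔ A = ⊤) := by
  classical
  obtain ⟨K, hKn, hKab, hcop, hnil, hKm, hidx⟩ := exists_hall hcd hm0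
  haveI := hKn
  haveI := hnil
  by_cases hc : K ≤ Subgroup.center G
  swap
  · exact Or.inl (exists_abelian_index K hcd hm1 hKab hcop hc)
  haveI hG : Group.IsNilpotent G := Subgroup.isNilpotent_of_ker_le_center (QuotientGroup.mk' K)
    (by rw [QuotientGroup.ker_mk']; exact hc)
  obtain ⟨p, hp, hpm⟩ := Nat.exists_prime_and_dvd hm1
  haveI := Fact.mk hp
  have hmp : ∀ d : ℕ, d.Prime → d ∣ m → d = p := by
    by_contra hne
    -- another prime divides `m`
    obtain ⟨r, hr, hrm, hrp⟩ : ∃ r : ℕ, r.Prime ∧ r ∣ m ∧ r ≠ p := by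
      by_contra hcon
      push Not at hcon
      exact hne hcon
    haveI := Fact.mk hr
    -- all degrees of a `q`-quotient are linear
    have hab : ∀ (q q' : ℕ) (hqf : q.Prime) (hq'f : q'.Prime), q' ∣ m → q' ≠ q →
        ∀ (N : Subgroup G) (_ : N.Normal), (∃ j, N.index = q ^ j) → commutator G ≤ N := by
      intro q q' hqf hq'f hq'm hne' N hN hj
      obtain ⟨j, hj⟩ := hj
      haveI := hN
      haveI := Fintype.ofFinite (G ⧸ N)
      haveI := Fact.mk hqf
      have hcomm : ∀ x y : G ⧸ N, x * y = y * x := by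
        rw [forall_linear_iff_comm]
        intro φ
        rw [char_one_eq_deg (irr_isCharacter φ.2)]
        suffices deg (φ : G ⧸ N → ℂ) = 1 by rw [this, Nat.cast_one]
        have heq : deg (fun g : G => (φ : G ⧸ N → ℂ) (QuotientGroup.mk g)) = deg (φ : G ⧸ N → ℂ) := by simp [deg]
        rcases hcd ⟨_, isIrr_inflate N φ.2⟩ with h | h
        · rwa [heq] at h
        · exfalso
          rw [heq] at h
          have h1 := deg_dvd_card φ.2
          rw [h, ← Subgroup.index_eq_card, hj] at h1
          exact hne' ((Nat.prime_dvd_prime_iff_eq hq'f hqf).1 (hq'f.dvd_of_dvd_pow (hq'm.trans h1)))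
      rw [commutator_def, Subgroup.commutator_le]
      intro x _ y _
      rw [← QuotientGroup.eq_one_iff, ← QuotientGroup.mk'_apply, map_commutatorElement,
        commutatorElement_eq_one_iff_mul_comm]
      exact hcomm _ _
    -- hence the derived subgroup lies in `K` and the group is abelian
    have hGK : commutator G ≤ K := by
      intro g hg
      have hgc : ∀ q : ℕ, q.Prime → q ∣ m → (orderOf g).Coprime q := by
        intro q hq hqm
        haveI := Fact.mk hq
        obtain ⟨N, hN, hNc, hNk⟩ := S4456.result (G := G) q hq fun χ hχ => by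
          rcases hcd χ with h | h
          · exact absurd h hχ
          · exact (show Cfsg.charDegree (χ : G → ℂ) = m from h) ▸ hqm
        obtain ⟨q', hq', hq'm, hne'⟩ : ∃ q' : ℕ, q'.Prime ∧ q' ∣ m ∧ q' ≠ q := by
          rcases eq_or_ne q p with rfl | h
          · exact ⟨r, hr, hrm, hrp⟩
          · exact ⟨p, hp, hpm, h.symm⟩
        refine hNc.coprime_dvd_left ?_
        rw [← Nat.card_zpowers]
        exact Subgroup.card_dvd_of_le (Subgroup.zpowers_le.2 (hab q q' hq hq' hq'm hne' N hN hNk hg))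
      rw [← QuotientGroup.eq_one_iff, ← orderOf_eq_one_iff]
      by_contra h
      obtain ⟨q, hq, hqd⟩ := Nat.exists_prime_and_dvd h
      have h1 : q ∣ K.index := hqd.trans (by rw [Subgroup.index_eq_card]; exact orderOf_dvd_natCard _)
      have h2 : q ∣ orderOf g := hqd.trans (orderOf_map_dvd (QuotientGroup.mk' K) g)
      exact hq.ne_one (Nat.eq_one_of_dvd_coprimes (hgc q hq (hidx q hq h1)) h2 dvd_rfl)
    obtain ⟨χ, hχ⟩ := hm
    refine hm1 ?_
    have hcomm : ∀ x y : G, x * y = y * x := by
      intro x y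
      rw [← commutatorElement_eq_one_iff_mul_comm, ← orderOf_eq_one_iff]
      have hc' : ⁅x, y⁆ ∈ K := hGK (by
        rw [commutator_def]; exact Subgroup.commutator_mem_commutator (Subgroup.mem_top x) (Subgroup.mem_top y))
      have hcz := Subgroup.mem_center_iff.1 (hc hc')
      have h1 : ∀ i : ℕ, x ^ i * y = ⁅x, y⁆ ^ i * (y * x ^ i) := by
        intro i
        induction i with
        | zero => simp
        | succ i ih =>
          have e : x * y = ⁅x, y⁆ * (y * x) := by rw [commutatorElement_def]; group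
          calc x ^ (i + 1) * y = x ^ i * (x * y) := by rw [pow_succ, mul_assoc]
            _ = x ^ i * (⁅x, y⁆ * (y * x)) := by rw [← e]
            _ = ⁅x, y⁆ * (x ^ i * y) * x := by rw [← mul_assoc, hcz (x ^ i)]; group
            _ = ⁅x, y⁆ ^ (i + 1) * (y * x ^ (i + 1)) := by rw [ih, pow_succ' ⁅x, y⁆, pow_succ x]; group
      have hxn : x ^ K.index ∈ K := by
        rw [← QuotientGroup.eq_one_iff, QuotientGroup.mk_pow, Subgroup.index_eq_card]
        exact pow_card_eq_one'
      have h2 := h1 K.index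
      rw [← Subgroup.mem_center_iff.1 (hc hxn) y] at h2
      have h3 : ⁅x, y⁆ ^ K.index = 1 := mul_eq_right.1 h2.symm
      have h4 : orderOf ⁅x, y⁆ ∣ Nat.card K := by
        rw [← Nat.card_zpowers]; exact Subgroup.card_dvd_of_le (Subgroup.zpowers_le.2 hc')
      exact Nat.eq_one_of_dvd_coprimes hcop h4 (orderOf_dvd_of_pow_eq_one h3)
    have h1 := forall_linear_iff_comm.1 hcomm χ
    rw [char_one_eq_deg (irr_isCharacter χ.2), hχ] at h1
    exact_mod_cast h1
  refine Or.inr ⟨hG, p, _, hp, Nat.eq_prime_pow_of_unique_prime_dvd hm0 fun {d} hd hdm => hmp d hd hdm, ?_⟩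
  · obtain P : Sylow p G := default
    refine ⟨P, K, inferInstance, hKn, P.isPGroup', fun a ha b hb => congrArg Subtype.val (hKab ⟨a, ha⟩ ⟨b, hb⟩), ?_, ?_⟩
    · refine Solv.coprime_inf ?_
      obtain ⟨j, hj⟩ := IsPGroup.iff_card.1 P.isPGroup'
      rw [hj]
      exact ((hKm p hp hpm).symm).pow_left j
    · rw [← Subgroup.index_eq_one]
      by_contra h
      obtain ⟨q, hq, hqd⟩ := Nat.exists_prime_and_dvd h
      have h1 : q ∣ (P : Subgroup G).index := hqd.trans (Subgroup.index_dvd_of_le le_sup_left)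
      have h2 : q ∣ m := hidx q hq (hqd.trans (Subgroup.index_dvd_of_le le_sup_right))
      exact P.not_dvd_index ((hmp q hq h2) ▸ h1)

end Cfsg.Agent.Char.TwoDeg2
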