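import Cfsg.Agent.Lib.Char.MajorSubsection

/-!
# Averaged contributions of a subsection of a 2-block
-/

set_option autoImplicit false
set_option linter.unusedSectionVars false

open Cfsg Polynomial
open scoped ComplexConjugate

namespace Cfsg.Agent.Char.MajorSub

universe u

variable {G : Type u} [Group G] [Fintype G] {M : Ideal AlgInt}

theorem memLI_aeval_sub_eval_one (hP : M.IsPrime) {μ : ℂ} (hμ : MemLocalIdeal M (μ - 1))
    (hμR : MemLocalRing M μ) (R : ℤ[X]) : MemLocalIdeal M (aeval μ R - ((R.eval 1 : ℤ) : ℂ)) := by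
  obtain ⟨T, hT⟩ : (X - C 1) ∣ R - C (R.eval 1) := X_sub_C_dvd_sub_C_eval
  have h := congrArg (aeval μ) hT
  simp only [map_sub, map_mul, aeval_X, aeval_C, map_one, eq_intCast, map_intCast] at h
  rw [h]
  exact memLI_mul_right hP hμ (CycInt.memLR_aeval hP hμR T)

open scoped Classical in
/-- The averages over the conjugates of the contributions of a subsection of a 2-block. -/
theorem exists_two_data (hM : IsPModular 2 M) {x : G} {k : ℕ} (hk : orderOf x = 2 ^ k)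
    [Fintype (Subgroup.centralizer ({x} : Set G))]
    {B : Set (IrrCharacter G)} {e : Set (IrrCharacter (Subgroup.centralizer ({x} : Set G)))}
    (hind : IsInducedBlock M (Subgroup.centralizer ({x} : Set G)) e B) :
    ∃ (A : IrrCharacter G → ℤ) (W : IrrCharacter G → IrrCharacter G → ℝ) (W' : IrrCharacter G → ℝ),
      (∀ χ ψ, 0 ≤ W χ ψ) ∧ (∀ χ, 0 ≤ W' χ) ∧ (∀ χ ψ, W χ ψ = W ψ χ) ∧
      ∑ χ : IrrCharacter G with χ ∈ B, A χ = (2 : ℤ) ^ blockDefect 2 e * (blockRank 2 e : ℤ) ∧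
      (∀ χ ∈ B, ∑ ψ : IrrCharacter G with ψ ∈ B, W χ ψ = (2 : ℝ) ^ blockDefect 2 e * (A χ : ℝ)) ∧
      (∀ χ ∈ B, ∑ ψ : IrrCharacter G with ψ ∈ B, W χ ψ - W χ χ + W' χ =
        (2 : ℝ) ^ blockDefect 2 e * ((2 : ℝ) ^ blockDefect 2 e - (A χ : ℝ))) ∧
      (∀ χ ∈ B, blockHeight 2 B (χ : G → ℂ) = 0 → Odd (A χ) ∧
        (1 ≤ blockDefect 2 e → 1 ≤ W' χ) ∧
        ∀ ψ ∈ B, blockHeight 2 B (ψ : G → ℂ) = 0 → 1 ≤ W χ ψ) ∧
      (blockDefect 2 e = blockDefect 2 B → ∀ χ ∈ B,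
        (∀ ψ ∈ B, blockHeight 2 B (ψ : G → ℂ) = 0 →
          (4 : ℝ) ^ blockHeight 2 B (χ : G → ℂ) ≤ W χ ψ) ∧
        (blockHeight 2 B (χ : G → ℂ) ≠ 0 → (2 : ℤ) ^ (blockHeight 2 B (χ : G → ℂ) + 1) ∣ A χ)) := by
  have hP := pmod_prime hM
  have hp : Nat.Prime 2 := Nat.prime_two
  haveI hN0 : NeZero (2 ^ k) := ⟨pow_ne_zero k two_ne_zero⟩
  obtain ⟨ω, hω⟩ : ∃ ω : ℂ, IsPrimitiveRoot ω (2 ^ k) := ⟨_, Complex.isPrimitiveRoot_exp _ hN0.out⟩
  obtain ⟨j, hj, hz⟩ := exists_expo hk hω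
  set z := fun η => ω ^ j η with hzdef
  have hzk : ∀ η, z η ^ 2 ^ k = 1 := fun η => by
    rw [hzdef, ← pow_mul, mul_comm, pow_mul, hω.pow_eq_one, one_pow]
  have hzc : ∀ η, conj (z η) = (z η)⁻¹ := fun η =>
    (Complex.inv_eq_conj (Complex.norm_eq_one_of_pow_eq_one (hzk η) hN0.out)).symm
  set q : ℕ := 2 ^ blockDefect 2 e with hq
  set P := fun χ ψ : IrrCharacter G => pol 2 (2 ^ k) e j χ ψ with hPdef
  set μ : (ZMod (2 ^ k))ˣ → ℂ := fun u => ω ^ (u : ZMod (2 ^ k)).val with hμ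
  set n : ℝ := (Fintype.card (ZMod (2 ^ k))ˣ : ℝ) with hn
  have hn0 : 0 < n := by rw [hn]; exact_mod_cast Fintype.card_pos
  set R := fun χ ψ : IrrCharacter G => P χ ψ %ₘ cyclotomic (2 ^ k) ℤ with hR
  have hev : ∀ χ ψ, aeval ω (P χ ψ) = ctr 2 e z χ ψ := fun χ ψ => aeval_pol hj hω.pow_eq_one χ ψ
  have hμ1 : ∀ u, μ u ^ 2 ^ k = 1 := fun u => by
    rw [hμ, ← pow_mul, mul_comm, pow_mul, hω.pow_eq_one, one_pow]
  have hherm : ∀ u χ ψ, conj (aeval (μ u) (P χ ψ)) = aeval (μ u) (P ψ χ) := fun u χ ψ => by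
    rw [hPdef, aeval_pol hj (hμ1 u), aeval_pol hj (hμ1 u)]
    refine conj_ctr hM (fun η => ?_) χ ψ
    rw [map_pow, ← Complex.inv_eq_conj (Complex.norm_eq_one_of_pow_eq_one (hμ1 u) hN0.out), inv_pow]
  have hredu : ∀ u χ ψ, aeval (μ u) (R χ ψ) = aeval (μ u) (P χ ψ) := fun u χ ψ =>
    CycInt.aeval_red hω hp _ (ZMod.val_coe_unit_coprime u)
  have hred1 : ∀ χ ψ, aeval ω (R χ ψ) = ctr 2 e z χ ψ := fun χ ψ => by
    have := CycInt.aeval_red hω hp (P χ ψ) (u := 1) (Nat.coprime_one_left _)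
    rw [pow_one] at this
    rw [hR, this, hev]
  have hdeg : ∀ χ ψ, (R χ ψ).natDegree < Nat.totient (2 ^ k) := fun χ ψ =>
    CycInt.natDegree_red_lt hω hp _
  have hreal : ∀ χ, conj (aeval ω (R χ χ)) = aeval ω (R χ χ) := fun χ => by
    rw [hred1, conj_ctr hM hzc]
  have havg := fun χ => CycInt.real_average hω (hdeg χ χ) (hreal χ)
  set A := fun χ : IrrCharacter G => (R χ χ).coeff 0 with hA
  have hsum : ∀ χ, ∑ u, aeval (μ u) (P χ χ) = ((n * (A χ : ℝ) : ℝ) : ℂ) := fun χ => by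
    rw [← Finset.sum_congr rfl fun u _ => hredu u χ χ, (havg χ).1, hn, hA]
    push_cast
    rfl
  have hone : ∀ {T : ℤ[X]}, aeval ω T = 0 → ∀ u, aeval (μ u) T = 0 := fun h u =>
    CycInt.root_pow hω hp h (ZMod.val_coe_unit_coprime u)
  have hrow : ∀ u χ φ, ∑ ψ : IrrCharacter G with ψ ∈ B, aeval (μ u) (P χ ψ) * aeval (μ u) (P ψ φ) =
      (q : ℂ) * aeval (μ u) (P χ φ) := by
    intro u χ φ
    have h := hone (T := ∑ ψ : IrrCharacter G with ψ ∈ B, P χ ψ * P ψ φ - C (q : ℤ) * P χ φ) (by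
      simp only [map_sub, map_sum, map_mul, aeval_C, hev, hq]
      rw [sum_ctr_mul hz hM ⟨k, hk⟩ hind hzc, sub_eq_zero]
      simp [hzdef]) u
    simpa [sub_eq_zero] using h
  have htrace : ∀ u, ∑ χ : IrrCharacter G with χ ∈ B, aeval (μ u) (P χ χ) =
      (q : ℂ) * (blockRank 2 e : ℂ) := by
    intro u
    have h := hone (T := ∑ χ : IrrCharacter G with χ ∈ B, P χ χ - C ((q : ℤ) * (blockRank 2 e : ℤ))) (by
      simp only [map_sub, map_sum, aeval_C, hev, hq]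
      rw [sum_ctr_self hz hM ⟨k, hk⟩ hind hzc, sub_eq_zero]
      simp) u
    simpa [sub_eq_zero] using h
  have hsq : ∀ u χ, ∑ ψ : IrrCharacter G with ψ ∈ B, ((Complex.normSq (aeval (μ u) (P χ ψ)) : ℝ) : ℂ) =
      (q : ℂ) * aeval (μ u) (P χ χ) := by
    intro u χ
    rw [← hrow u χ χ]
    refine Finset.sum_congr rfl fun ψ _ => ?_
    rw [← hherm u χ ψ, Complex.mul_conj]
  set W := fun χ ψ : IrrCharacter G => (∑ u, Complex.normSq (aeval (μ u) (P χ ψ))) / n with hW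
  set W' := fun χ : IrrCharacter G =>
    (∑ u, Complex.normSq (aeval (μ u) (C (q : ℤ) - P χ χ))) / n with hW'
  have hbound : ∀ (T : ℤ[X]), aeval ω T ≠ 0 → 1 ≤ (∑ u, Complex.normSq (aeval (μ u) T)) / n := by
    intro T hT
    rw [le_div_iff₀ hn0, one_mul]
    exact CycInt.totient_le_sum_normSq hω hp hT
  have hωI : MemLocalIdeal M (ω - 1) := root_congr_one hM hω.pow_eq_one
  have hωR : MemLocalRing M ω :=
    memLocalRing_of_isIntegral hP.ne_top (hω.isIntegral (Nat.pos_of_ne_zero hN0.out))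
  have hA1 : ∀ χ, MemLocalIdeal M (ctr 2 e z χ χ - (A χ : ℂ)) := fun χ => by
    have h := memLI_aeval_sub_eval_one hP hωI hωR (R χ χ)
    rwa [(havg χ).2, hred1] at h
  have hunit0 : ∀ χ ∈ B, ∀ ψ ∈ B, blockHeight 2 B (χ : G → ℂ) = 0 → blockHeight 2 B (ψ : G → ℂ) = 0 →
      ¬ MemLocalIdeal M (ctr 2 e z χ ψ) := fun χ hχ ψ hψ h1 h2 h =>
    ctr_one_unit hM hind hχ hψ h1 h2 (memLI_congr hP (memLI_symm hP (ctr_congr_one hM hzk χ ψ)) h)
  refine ⟨A, W, W', fun χ ψ => div_nonneg (Finset.sum_nonneg fun u _ => Complex.normSq_nonneg _) hn0.le,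
    fun χ => div_nonneg (Finset.sum_nonneg fun u _ => Complex.normSq_nonneg _) hn0.le,
    fun χ ψ => ?_, ?_, fun χ _ => ?_, fun χ hχ => ?_, fun χ hχ h0 => ⟨?_, fun hd => ?_, fun ψ hψ hψ0 => ?_⟩,
    fun hd χ hχ => ?_⟩
  · simp only [hW]
    refine congrArg (· / n) (Finset.sum_congr rfl fun u _ => ?_)
    rw [← Complex.normSq_conj, hherm]
  · have h : ∑ u, ∑ χ : IrrCharacter G with χ ∈ B, aeval (μ u) (P χ χ) =
        ∑ _u : (ZMod (2 ^ k))ˣ, (q : ℂ) * (blockRank 2 e : ℂ) := Finset.sum_congr rfl fun u _ => htrace u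
    rw [Finset.sum_comm, Finset.sum_congr rfl fun χ _ => hsum χ, Finset.sum_const, Finset.card_univ,
      nsmul_eq_mul, ← Complex.ofReal_sum, ← Finset.mul_sum, hn] at h
    push_cast at h
    have h' := mul_left_cancel₀ (Nat.cast_ne_zero.mpr Fintype.card_ne_zero) h
    rw [hq] at h'
    push_cast at h'
    exact_mod_cast h'
  · apply Complex.ofReal_injective
    simp only [hW, ← Finset.sum_div]
    push_cast
    rw [Finset.sum_comm, Finset.sum_congr rfl fun u _ => hsq u χ, ← Finset.mul_sum, hsum, hq]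
    have : (n : ℂ) ≠ 0 := Complex.ofReal_ne_zero.mpr hn0.ne'
    push_cast
    field_simp
  · apply Complex.ofReal_injective
    simp only [hW, hW', ← Finset.sum_div, ← sub_div, ← add_div]
    push_cast
    rw [Finset.sum_comm, ← Finset.sum_sub_distrib, ← Finset.sum_add_distrib,
      Finset.sum_congr rfl (g := fun u => (q : ℂ) ^ 2 - (q : ℂ) * aeval (μ u) (P χ χ)) fun u _ => by
        rw [hsq u χ, ← Complex.mul_conj, ← Complex.mul_conj, map_sub, map_sub, hherm u χ χ]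
        simp only [aeval_C, eq_intCast, Int.cast_natCast, map_natCast]
        ring]
    rw [Finset.sum_sub_distrib, ← Finset.mul_sum, hsum, Finset.sum_const, Finset.card_univ, nsmul_eq_mul,
      hq, hn]
    have : ((Fintype.card (ZMod (2 ^ k))ˣ : ℕ) : ℂ) ≠ 0 := Nat.cast_ne_zero.mpr Fintype.card_ne_zero
    push_cast
    field_simp
  · rw [← Int.not_even_iff_odd, even_iff_two_dvd]
    intro h
    refine hunit0 χ hχ χ hχ h0 h0 (memLI_congr hP (hA1 χ) ?_)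
    exact (memLI_intCast_iff hM _).mpr h
  · refine hbound _ fun h => hunit0 χ hχ χ hχ h0 h0 ?_
    rw [map_sub, aeval_C, hev, sub_eq_zero] at h
    rw [← h, hq]
    simp only [eq_intCast]
    refine (memLI_intCast_iff hM _).mpr ?_
    push_cast
    exact dvd_pow_self _ (by omega)
  · exact hbound _ fun h => hunit0 χ hχ ψ hψ h0 hψ0 (by rw [← hev, h]; exact memLI_zero hP)
  set h := blockHeight 2 B (χ : G → ℂ) with hh
  have hsplit : ∀ ψ ∈ B, ∃ (w : ℂ) (T : ℤ[X]), R χ ψ = C ((2 : ℤ) ^ h) * T ∧ aeval ω T = w ∧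
      (MemLocalIdeal M w ↔ blockHeight 2 B (ψ : G → ℂ) ≠ 0) := by
    intro ψ hψ
    obtain ⟨w, hwR, hw, hwiff⟩ := major_unit hz hzk hM hk hind hd hχ hψ
    obtain ⟨T, hT⟩ := CycInt.dvd_of_local hω hM (hdeg χ ψ) hwR ((hred1 χ ψ).trans hw)
    refine ⟨w, T, hT, ?_, hwiff⟩
    have h2 := (hred1 χ ψ).trans hw
    rw [hT, map_mul, aeval_C] at h2
    exact mul_left_cancel₀ (pow_ne_zero h two_ne_zero : (2 : ℂ) ^ h ≠ 0) (by simpa [hh] using h2)
  refine ⟨fun ψ hψ hψ0 => ?_, fun hne => ?_⟩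
  · obtain ⟨w, T, hT, hTw, hwiff⟩ := hsplit ψ hψ
    have h1 := hbound T (fun e0 => by
      rw [e0] at hTw
      exact hwiff.mp (hTw ▸ memLI_zero hP) hψ0)
    have e : ∀ u, Complex.normSq (aeval (μ u) (P χ ψ)) = 4 ^ h * Complex.normSq (aeval (μ u) T) := by
      intro u
      rw [← hredu, hT, map_mul, aeval_C, map_mul, eq_intCast, Int.cast_pow, map_pow]
      norm_num [Complex.normSq_ofNat]
    calc (4 : ℝ) ^ h = 4 ^ h * 1 := (mul_one _).symm
      _ ≤ 4 ^ h * ((∑ u, Complex.normSq (aeval (μ u) T)) / n) := by gcongr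
      _ = W χ ψ := by simp only [hW, e, ← Finset.mul_sum]; ring
  · obtain ⟨w, T, hT, hTw, hwiff⟩ := hsplit χ hχ
    have h1 := memLI_aeval_sub_eval_one hP hωI hωR T
    rw [hTw] at h1
    have h2 : (2 : ℤ) ∣ T.eval 1 :=
      (memLI_intCast_iff hM _).mp (memLI_congr hP (memLI_symm hP h1) (hwiff.mpr hne))
    have e : A χ = (2 : ℤ) ^ h * T.eval 1 := by
      rw [hA]
      simp only
      rw [← (havg χ).2, hT, eval_mul, eval_C]
    rw [e, pow_succ]
    exact mul_dvd_mul_left _ h2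

end Cfsg.Agent.Char.MajorSub
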