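import Cfsg.Agent.Lib.Char.TwoSubsection

/-!
# Bounds for 2-blocks from a subsection
-/

set_option autoImplicit false
set_option linter.unusedSectionVars false

open Cfsg

namespace Cfsg.Agent.Char.MajorSub

universe u

variable {G : Type u} [Group G] [Finite G] {M : Ideal AlgInt} {B : Set (IrrCharacter G)} {x : G}
  {e : Set (IrrCharacter (Subgroup.centralizer ({x} : Set G)))}

/-- In a major subsection the two defects agree. -/
theorem major_facts {p : ℕ} (hM : IsPModular p M) (hB : IsPBlock M B) {D : Subgroup G}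
    (hD : IsDefectGroup p M B D) (hzD : x ∈ D) (hzc : ∀ d ∈ D, d * x = x * d)
    (hind : IsInducedBlock M (Subgroup.centralizer ({x} : Set G)) e B)
    (heD : IsDefectGroup p M e (D.subgroupOf (Subgroup.centralizer ({x} : Set G)))) :
    blockDefect p e = blockDefect p B ∧ ∃ k : ℕ, orderOf x = p ^ k := by
  classical
  haveI := Fintype.ofFinite G
  have h1 := card_defectGroup hM hB hD
  refine ⟨?_, ?_⟩
  · have h2 := card_defectGroup hM hind.1 heD
    have hle : D ≤ Subgroup.centralizer ({x} : Set G) := fun d hd =>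
      Subgroup.mem_centralizer_singleton_iff.mpr (hzc d hd)
    rw [Nat.card_congr (Subgroup.subgroupOfEquivOfLe hle).toEquiv, h1] at h2
    exact (Nat.pow_right_injective hM.1.two_le h2).symm
  · have h2 : orderOf x ∣ p ^ blockDefect p B := h1 ▸ Subgroup.orderOf_dvd_natCard D hzD
    obtain ⟨k, -, hk⟩ := (Nat.dvd_prime_pow hM.1).mp h2
    exact ⟨k, hk⟩

theorem natCard_heightZero (p : ℕ) [Fintype G] [DecidablePred fun χ : IrrCharacter G =>
      χ ∈ B ∧ blockHeight p B (χ : G → ℂ) = 0] :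
    Nat.card {χ : IrrCharacter G // χ ∈ B ∧ blockHeight p B (χ : G → ℂ) = 0} =
      (Finset.univ.filter fun χ : IrrCharacter G => χ ∈ B ∧ blockHeight p B (χ : G → ℂ) = 0).card := by
  rw [Nat.card_eq_fintype_card, Fintype.card_subtype]

/-- The bounds on the number of height zero characters. -/
theorem heightZero_le (hM : IsPModular 2 M) (hx : ∃ k : ℕ, orderOf x = 2 ^ k)
    (hind : IsInducedBlock M (Subgroup.centralizer ({x} : Set G)) e B) :
    (∃ a : ℕ, Odd a ∧ a ≤ Nat.sqrt (blockRank 2 e) ∧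
      Nat.card {χ : IrrCharacter G // χ ∈ B ∧ blockHeight 2 B (χ : G → ℂ) = 0} ≤ a * 2 ^ blockDefect 2 e) ∨
    ∃ a : ℕ, Odd a ∧ Nat.sqrt (blockRank 2 e) < a ∧
      a * Nat.card {χ : IrrCharacter G // χ ∈ B ∧ blockHeight 2 B (χ : G → ℂ) = 0} ≤
        blockRank 2 e * 2 ^ blockDefect 2 e := by
  classical
  haveI := Fintype.ofFinite G
  obtain ⟨k, hk⟩ := hx
  obtain ⟨A, W, W', hW0, -, -, htr, hrow, -, hzero, -⟩ := exists_two_data hM hk hind
  rw [natCard_heightZero]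
  set T := Finset.univ.filter fun χ : IrrCharacter G => χ ∈ B ∧ blockHeight 2 B (χ : G → ℂ) = 0 with hT
  set S := Finset.univ.filter fun χ : IrrCharacter G => χ ∈ B with hS
  set s := Nat.sqrt (blockRank 2 e)
  have hTS : T ⊆ S := fun χ hχ => Finset.mem_filter.mpr ⟨Finset.mem_univ _, (Finset.mem_filter.mp hχ).2.1⟩
  have hTA : ∀ χ ∈ T, (T.card : ℝ) ≤ (2 : ℝ) ^ blockDefect 2 e * (A χ : ℝ) := by
    intro χ hχ
    obtain ⟨hχB, h0⟩ := (Finset.mem_filter.mp hχ).2
    rw [← hrow χ hχB]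
    refine le_trans ?_ (Finset.sum_le_sum_of_subset_of_nonneg hTS fun ψ _ _ => hW0 χ ψ)
    rw [Finset.cast_card]
    exact Finset.sum_le_sum fun ψ hψ =>
      (hzero χ hχB h0).2.2 ψ (Finset.mem_filter.mp hψ).2.1 (Finset.mem_filter.mp hψ).2.2
  have hnn : ∀ χ ∈ S, 0 ≤ A χ := by
    intro χ hχ
    have h := hrow χ (Finset.mem_filter.mp hχ).2
    have h1 : 0 ≤ (2 : ℝ) ^ blockDefect 2 e * (A χ : ℝ) := h ▸ Finset.sum_nonneg fun ψ _ => hW0 χ ψ
    exact_mod_cast nonneg_of_mul_nonneg_right h1 (by positivity)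
  by_cases hsmall : ∃ χ ∈ T, A χ ≤ (s : ℤ)
  · obtain ⟨χ, hχ, hAs⟩ := hsmall
    obtain ⟨hχB, h0⟩ := (Finset.mem_filter.mp hχ).2
    obtain ⟨a, ha⟩ := Int.eq_ofNat_of_zero_le (hnn χ (hTS hχ))
    have hodd := (hzero χ hχB h0).1
    have h := hTA χ hχ
    rw [ha] at h hodd hAs
    refine Or.inl ⟨a, by exact_mod_cast hodd, by exact_mod_cast hAs, ?_⟩
    rw [mul_comm]
    exact_mod_cast h
  · push Not at hsmall
    obtain ⟨a, ha, hsa, hlow⟩ : ∃ a : ℕ, Odd a ∧ s < a ∧ ∀ χ ∈ T, (a : ℤ) ≤ A χ := by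
      rcases Nat.even_or_odd s with hs | hs
      · exact ⟨s + 1, hs.add_one, by omega, fun χ hχ => by have := hsmall χ hχ; push_cast; omega⟩
      · refine ⟨s + 2, hs.add_even even_two, by omega, fun χ hχ => ?_⟩
        have h1 := hsmall χ hχ
        obtain ⟨m, hm⟩ := (hzero χ (Finset.mem_filter.mp hχ).2.1 (Finset.mem_filter.mp hχ).2.2).1
        obtain ⟨m', hm'⟩ := hs
        push_cast
        omega
    refine Or.inr ⟨a, ha, hsa, ?_⟩
    have h : (a : ℤ) * (T.card : ℤ) ≤ (2 : ℤ) ^ blockDefect 2 e * (blockRank 2 e : ℤ) := by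
      rw [← htr]
      refine le_trans ?_ (Finset.sum_le_sum_of_subset_of_nonneg hTS fun χ hχ _ => hnn χ hχ)
      have := Finset.sum_le_sum hlow
      rw [Finset.sum_const, nsmul_eq_mul, mul_comm] at this
      exact this
    rw [mul_comm (blockRank 2 e)]
    exact_mod_cast h

open scoped Classical in
/-- The weighted count in a major subsection of rank at most three. -/
theorem major_rank_three [Fintype G] (hM : IsPModular 2 M) (hx : ∃ k : ℕ, orderOf x = 2 ^ k)
    (hind : IsInducedBlock M (Subgroup.centralizer ({x} : Set G)) e B)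
    (hd : blockDefect 2 e = blockDefect 2 B) (hl : blockRank 2 e ≤ 3) :
    ∑ χ : IrrCharacter G with χ ∈ B, (if blockHeight 2 B (χ : G → ℂ) = 0 then 3
      else 2 * 2 ^ blockHeight 2 B (χ : G → ℂ)) ≤ 3 * 2 ^ blockDefect 2 B := by
  obtain ⟨k, hk⟩ := hx
  obtain ⟨A, W, W', hW0, -, hsymm, htr, hrow, -, hzero, hmaj⟩ := exists_two_data hM hk hind
  rw [hd] at htr hrow
  by_cases hone : ∃ χ ∈ B, blockHeight 2 B (χ : G → ℂ) = 0 ∧ A χ = 1
  · obtain ⟨χ, hχ, h0, hA⟩ := hone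
    have h1 := hrow χ hχ
    rw [hA, Int.cast_one, mul_one] at h1
    have h2 : ∑ ψ : IrrCharacter G with ψ ∈ B, (4 : ℝ) ^ blockHeight 2 B (ψ : G → ℂ) ≤
        (2 : ℝ) ^ blockDefect 2 B := by
      rw [← h1]
      refine Finset.sum_le_sum fun ψ hψ => ?_
      rw [hsymm]
      exact (hmaj hd ψ (Finset.mem_filter.mp hψ).2).1 χ hχ h0
    have h3 : ∑ ψ : IrrCharacter G with ψ ∈ B, 4 ^ blockHeight 2 B (ψ : G → ℂ) ≤ 2 ^ blockDefect 2 B := by
      exact_mod_cast h2
    refine le_trans ?_ (Nat.mul_le_mul_left 3 h3)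
    rw [Finset.mul_sum]
    refine Finset.sum_le_sum fun ψ _ => ?_
    split_ifs with h
    · simp [h]
    · calc 2 * 2 ^ blockHeight 2 B (ψ : G → ℂ) ≤ 3 * 2 ^ blockHeight 2 B (ψ : G → ℂ) := by
            exact Nat.mul_le_mul_right _ (by norm_num)
        _ ≤ _ := Nat.mul_le_mul_left 3 (Nat.pow_le_pow_left (by norm_num) _)
  · push Not at hone
    obtain ⟨χ0, hχ0, h00⟩ := exists_height_zero (p := 2) (block_nonempty (pmod_prime hM) hind.2.1)
    have key : ∀ χ ∈ B, ((if blockHeight 2 B (χ : G → ℂ) = 0 then 3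
        else 2 * 2 ^ blockHeight 2 B (χ : G → ℂ) : ℕ) : ℤ) ≤ A χ := by
      intro χ hχ
      have hpos : 0 < A χ := by
        have h1 := hrow χ hχ
        have h2 : (0 : ℝ) < ∑ ψ : IrrCharacter G with ψ ∈ B, W χ ψ :=
          lt_of_lt_of_le (by positivity) (((hmaj hd χ hχ).1 χ0 hχ0 h00).trans
            (Finset.single_le_sum (fun ψ _ => hW0 χ ψ) (Finset.mem_filter.mpr ⟨Finset.mem_univ _, hχ0⟩)))
        rw [h1] at h2
        exact_mod_cast pos_of_mul_pos_right h2 (by positivity)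
      split_ifs with h
      · have h1 := (hzero χ hχ h).1
        have h2 := hone χ hχ h
        obtain ⟨m, hm⟩ := h1
        push_cast
        omega
      · have := Int.le_of_dvd hpos ((hmaj hd χ hχ).2 h)
        rw [pow_succ'] at this
        exact_mod_cast this
    have h := (Finset.sum_le_sum fun χ (hχ : χ ∈ Finset.univ.filter fun χ : IrrCharacter G => χ ∈ B) =>
      key χ (Finset.mem_filter.mp hχ).2).trans_eq htr
    rw [← Nat.cast_sum] at h
    have h' : (2 : ℤ) ^ blockDefect 2 B * (blockRank 2 e : ℤ) ≤ (2 : ℤ) ^ blockDefect 2 B * 3 :=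
      mul_le_mul_of_nonneg_left (by exact_mod_cast hl) (by positivity)
    have := h.trans h'
    rw [mul_comm _ (3 : ℤ)] at this
    exact_mod_cast this

/-- Few ordinary characters beyond the rank of a major subsection. -/
theorem major_card_sub_rank (hM : IsPModular 2 M) (hx : ∃ k : ℕ, orderOf x = 2 ^ k)
    (hind : IsInducedBlock M (Subgroup.centralizer ({x} : Set G)) e B)
    (hd : blockDefect 2 e = blockDefect 2 B) (hkl : Nat.card B ≤ blockRank 2 e + 3) :
    Nat.card B ≤ 2 ^ blockDefect 2 B := by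
  classical
  haveI := Fintype.ofFinite G
  obtain ⟨k, hk⟩ := hx
  have hP := pmod_prime hM
  obtain ⟨A, W, W', hW0, hW'0, hsymm, htr, hrow, hrow', hzero, hmaj⟩ := exists_two_data hM hk hind
  rw [hd] at htr hrow hrow' hzero
  set d := blockDefect 2 B with hdd
  set S := Finset.univ.filter fun χ : IrrCharacter G => χ ∈ B with hS
  have hcard : Nat.card B = S.card := by rw [Nat.card_eq_fintype_card]; simp [hS, Fintype.card_subtype]
  rw [hcard] at hkl ⊢
  obtain ⟨χ0, hχ0, h00⟩ := exists_height_zero (p := 2) (block_nonempty hP hind.2.1)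
  have hone : ∀ χ ∈ B, ∀ ψ ∈ B, blockHeight 2 B (ψ : G → ℂ) = 0 → (1 : ℝ) ≤ W χ ψ := fun χ hχ ψ hψ h =>
    (one_le_pow₀ (by norm_num)).trans ((hmaj hd χ hχ).1 ψ hψ h)
  suffices h : (S.card : ℝ) ≤ (2 : ℝ) ^ d by exact_mod_cast h
  rcases Nat.eq_zero_or_pos d with hd0 | hd0
  · -- defect zero
    have h1 : (S.card : ℝ) ≤ ∑ ψ ∈ S, W χ0 ψ := by
      rw [Finset.cast_card]
      exact Finset.sum_le_sum fun ψ hψ => by
        rw [hsymm]; exact hone ψ (Finset.mem_filter.mp hψ).2 χ0 hχ0 h00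
    have h2 := hrow' χ0 hχ0
    have h3 : W χ0 χ0 ≤ ∑ ψ ∈ S, W χ0 ψ :=
      Finset.single_le_sum (fun ψ _ => hW0 χ0 ψ) (Finset.mem_filter.mpr ⟨Finset.mem_univ _, hχ0⟩)
    rw [hrow χ0 hχ0] at h1 h2 h3
    rw [hd0] at h1 h2 h3 ⊢
    have := hW'0 χ0
    nlinarith [hone χ0 hχ0 χ0 hχ0 h00]
  have hq2 : (2 : ℤ) ∣ (2 : ℤ) ^ d := dvd_pow_self _ (by omega)
  by_cases hex : ∃ χ ∈ B, blockHeight 2 B (χ : G → ℂ) = 0 ∧ (2 : ℤ) ^ d - A χ = 1
  · obtain ⟨χ, hχ, h0, hA⟩ := hex
    have h2 := hrow' χ hχ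
    have hAR : (2 : ℝ) ^ d - (A χ : ℝ) = 1 := by exact_mod_cast hA
    rw [hAR, mul_one] at h2
    rw [← h2, Finset.cast_card, ← Finset.add_sum_erase S (W χ)
      (Finset.mem_filter.mpr ⟨Finset.mem_univ _, hχ⟩),
      ← Finset.add_sum_erase S (fun _ => (1 : ℝ)) (Finset.mem_filter.mpr ⟨Finset.mem_univ _, hχ⟩)]
    have h4 := Finset.sum_le_sum (s := S.erase χ) (f := fun _ => (1 : ℝ)) (g := W χ) fun ψ hψ => by
      rw [hsymm]; exact hone ψ (Finset.mem_filter.mp (Finset.mem_of_mem_erase hψ)).2 χ hχ h0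
    have := (hzero χ hχ h0).2.1 hd0
    linarith
  push Not at hex
  have key : ∀ χ ∈ S, (3 : ℤ) ≤ (2 : ℤ) ^ d - A χ := by
    intro χ hχ
    have hχB := (Finset.mem_filter.mp hχ).2
    have hsplit := Finset.add_sum_erase S (W χ) hχ
    have hnn : 0 ≤ (2 : ℤ) ^ d - A χ := by
      have h1 := hrow' χ hχB
      have h2 : 0 ≤ ∑ ψ ∈ S.erase χ, W χ ψ := Finset.sum_nonneg fun ψ _ => hW0 χ ψ
      have h3 : 0 ≤ (2 : ℝ) ^ d * ((2 : ℝ) ^ d - (A χ : ℝ)) := by
        rw [← h1, ← hsplit]; linarith [hW'0 χ]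
      have h4 := nonneg_of_mul_nonneg_right h3 (by positivity)
      exact_mod_cast h4
    by_cases h0 : blockHeight 2 B (χ : G → ℂ) = 0
    · have h1 := hex χ hχB h0
      obtain ⟨m, hm⟩ := (hzero χ hχB h0).1
      obtain ⟨c, hc⟩ := hq2
      omega
    · have hh := height_add_two_le hM hind.2.1 hχB h0
      have h4 : (4 : ℤ) ∣ (2 : ℤ) ^ d - A χ := by
        refine dvd_sub ?_ ?_
        · rw [show (4 : ℤ) = 2 ^ 2 by norm_num]; exact pow_dvd_pow _ (by omega)
        · rw [show (4 : ℤ) = 2 ^ 2 by norm_num]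
          exact (pow_dvd_pow _ (by omega)).trans ((hmaj hd χ hχB).2 h0)
      have hne : (2 : ℤ) ^ d - A χ ≠ 0 := by
        intro he
        have h1 := hrow' χ hχB
        have hAR : (2 : ℝ) ^ d - (A χ : ℝ) = 0 := by exact_mod_cast he
        rw [hAR, mul_zero, ← hsplit] at h1
        have hmem : χ0 ∈ S.erase χ :=
          Finset.mem_erase.mpr ⟨fun e => h0 (e ▸ h00), Finset.mem_filter.mpr ⟨Finset.mem_univ _, hχ0⟩⟩
        have := Finset.single_le_sum (fun ψ _ => hW0 χ ψ) hmem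
        linarith [hone χ hχB χ0 hχ0 h00, hW'0 χ]
      obtain ⟨c, hc⟩ := h4
      omega
  have h := Finset.sum_le_sum key
  rw [Finset.sum_sub_distrib, htr, Finset.sum_const, Finset.sum_const, nsmul_eq_mul, nsmul_eq_mul] at h
  have h' : (S.card : ℤ) - (blockRank 2 e : ℤ) ≤ 3 := by omega
  have h'' : (S.card : ℤ) ≤ (2 : ℤ) ^ d := by nlinarith [pow_pos (show (0 : ℤ) < 2 by norm_num) d]
  exact_mod_cast h''

end Cfsg.Agent.Char.MajorSub
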