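import Cfsg.Agent.S1512
import Cfsg.Agent.Lib.Char.CyclicExt
import Cfsg.Agent.Lib.Char.CliffordInd
import Cfsg.Agent.Lib.Char.Gallagher
import Cfsg.Agent.Lib.Char.PermLemma

/-!
# Characters of a group with a cyclic Hall complement having constant fixed points
-/

set_option autoImplicit false
set_option linter.unusedSectionVars false
set_option linter.style.haveILetI false

namespace Cfsg.Agent.Char

open Cfsg

universe u

variable {L : Type u} [Group L] [Fintype L] {K W₁ W₂ : Subgroup L}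

theorem typeP_ctx [hK : K.Normal] (hKW₁ : K ⊓ W₁ = ⊥) (hKW₁' : K ⊔ W₁ = ⊤) (hW₁ : W₁ ≠ ⊥)
    (hW₁c : IsCyclic W₁) (hHall : Nat.Coprime (Nat.card W₁) W₁.index)
    (hC : ∀ x ∈ W₁, x ≠ 1 → K ⊓ Subgroup.centralizer ({x} : Set L) = W₂) : CycCtx K W₁ W₂ := by
  have hcompl : W₁.IsComplement' K := by
    refine Subgroup.isComplement'_of_disjoint_and_mul_eq_univ (disjoint_iff.2 (by rw [inf_comm, hKW₁])) ?_
    rw [← Subgroup.mul_normal, sup_comm, hKW₁', Subgroup.coe_top]
  refine ⟨fun s _ g hg => hK.conj_mem g hg s, ?_, hKW₁', hW₁c, le_antisymm (fun b hb => ?_) (fun b hb => ?_)⟩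
  · rw [← hcompl.symm.index_eq_card]
    exact hHall.symm
  · obtain ⟨z, hz, hz1⟩ := W₁.bot_or_exists_ne_one.resolve_left hW₁
    have hb' : b ∈ K ⊓ Subgroup.centralizer ({z} : Set L) := (hC z hz hz1).symm ▸ hb
    refine ⟨hb'.1, Subgroup.mem_centralizer_iff.2 fun a ha => ?_⟩
    by_cases h1 : a = 1
    · simp [h1]
    · have hba : b ∈ K ⊓ Subgroup.centralizer ({a} : Set L) := (hC a ha h1).symm ▸ hb
      exact (Subgroup.mem_centralizer_singleton_iff.1 hba.2).symm
  · obtain ⟨z, hz, hz1⟩ := W₁.bot_or_exists_ne_one.resolve_left hW₁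
    rw [← hC z hz hz1]
    exact ⟨hb.1, Subgroup.mem_centralizer_singleton_iff.2 (Subgroup.mem_centralizer_iff.1 hb.2 z hz).symm⟩

theorem card_irr_of_isCyclic (H : Subgroup L) (hH : IsCyclic H) :
    Nat.card (IrrCharacter H) = Nat.card H := by
  classical
  haveI := Fintype.ofFinite H
  letI := IsCyclic.commGroup (α := H)
  rw [card_irr]
  exact (Nat.card_congr (ConjClasses.mkEquiv (α := H))).symm

/-- The invariant characters are as many as the fixed points. -/
theorem typeP_card_invariant [hK : K.Normal] (h : CycCtx K W₁ W₂) (hW₂c : IsCyclic W₂) :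
    Nat.card {θ : IrrCharacter K // ∀ x ∈ W₁, (fun k : K => (θ : K → ℂ) ⟨x * k * x⁻¹, hK.conj_mem (k : L) k.2 x⟩) = θ} =
      Nat.card W₂ := by
  classical
  haveI := Fintype.ofFinite K
  haveI := h.cyc
  let φ : W₁ →* MulAut K := conjActHom K W₁ h.norm
  have hsolv : Group.IsSolvable W₁ := by
    letI := IsCyclic.commGroup (α := W₁)
    infer_instance
  have e1 : Nat.card {θ : IrrCharacter K // ∀ x ∈ W₁, (fun k : K => (θ : K → ℂ) ⟨x * k * x⁻¹, hK.conj_mem (k : L) k.2 x⟩) = θ} =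
      Nat.card {χ : IrrCharacter K // ∀ (s : W₁) (g : K), (χ : K → ℂ) (φ s g) = (χ : K → ℂ) g} :=
    Nat.card_congr (Equiv.subtypeEquivRight fun θ =>
      ⟨fun hθ s g => congrFun (hθ s s.2) g, fun hθ x hx => funext fun g => hθ ⟨x, hx⟩ g⟩)
  rw [e1, card_invariant_fixed _ W₁ K φ rfl hsolv h.cop, ← card_irr_of_isCyclic W₂ hW₂c]
  exact card_irr_congr
    { toFun := fun g => ⟨((g : K) : L), h.cent.symm ▸ ⟨(g : K).2, Subgroup.mem_centralizer_iff.2
        fun s hs => mul_inv_eq_iff_eq_mul.1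
          (congrArg Subtype.val (g.2 ⟨s, hs⟩ (Subgroup.mem_top _)))⟩⟩
      invFun := fun c => ⟨⟨(c : L), h.le c.2⟩, fun s _ => Subtype.ext
        (mul_inv_eq_iff_eq_mul.2 (h.comm c.2 s.2).eq.symm)⟩
      left_inv := fun g => rfl
      right_inv := fun c => rfl
      map_mul' := fun a b => rfl }

/-- A character fixed by one nontrivial element of the complement is fixed by all. -/
theorem typeP_invariant_of_fixed [hK : K.Normal] [Fintype K] (h : CycCtx K W₁ W₂) (hW₂c : IsCyclic W₂)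
    (hC : ∀ x ∈ W₁, x ≠ 1 → K ⊓ Subgroup.centralizer ({x} : Set L) = W₂)
    (θ : IrrCharacter K) {v : L} (hv : v ∈ W₁) (hv1 : v ≠ 1)
    (hθ : irrComp (MulAut.conjNormal v) θ = θ) :
    ∀ x ∈ W₁, (fun k : K => (θ : K → ℂ) ⟨x * k * x⁻¹, hK.conj_mem (k : L) k.2 x⟩) = θ := by
  classical
  let A : Set (IrrCharacter K) :=
    {θ | ∀ x ∈ W₁, (fun k : K => (θ : K → ℂ) ⟨x * k * x⁻¹, hK.conj_mem (k : L) k.2 x⟩) = θ}
  let B : Set (IrrCharacter K) := {θ | irrComp (MulAut.conjNormal v) θ = θ}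
  have hAB : A ⊆ B := fun ψ hψ => Subtype.ext (funext fun k => by
    rw [irrComp_apply]
    exact (congrArg (ψ : K → ℂ) (Subtype.ext (MulAut.conjNormal_apply v k))).trans (congrFun (hψ v hv) k))
  have hco : Nat.Coprime (orderOf v) (Nat.card K) :=
    h.cop.symm.coprime_dvd_left (Subgroup.orderOf_dvd_natCard W₁ hv)
  have hle : Nat.card B ≤ Nat.card A := by
    have h1 : Nat.card B = Nat.card {C : ConjClasses K //
        ConjClasses.map (MulEquiv.toMonoidHom ((MulAut.conjNormal v : MulAut K))) C = C} :=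
      card_fixed_irr_eq_card_fixed_classes (MulAut.conjNormal v : MulAut K)
    rw [h1, show Nat.card A = Nat.card W₂ from typeP_card_invariant h hW₂c]
    exact S1512.result K W₂ v hv1 hco fun y hy hy1 => hC y ((Subgroup.zpowers_le.2 hv) hy) hy1
  have heq : A = B := Set.eq_of_subset_of_ncard_le hAB (by rwa [← Nat.card_coe_set_eq, ← Nat.card_coe_set_eq])
    (Set.toFinite _)
  have : θ ∈ B := hθ
  rw [← heq] at this
  exact this

/-- The characters which are moved induce irreducibly. -/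
theorem typeP_irr_indFun [hK : K.Normal] (h : CycCtx K W₁ W₂) (hW₂c : IsCyclic W₂)
    (hC : ∀ x ∈ W₁, x ≠ 1 → K ⊓ Subgroup.centralizer ({x} : Set L) = W₂)
    (θ : IrrCharacter K) (hθ : ∃ x ∈ W₁,
      (fun k : K => (θ : K → ℂ) ⟨x * k * x⁻¹, hK.conj_mem (k : L) k.2 x⟩) ≠ θ) :
    IsIrrCharacter L (indFun K (θ : K → ℂ)) := by
  classical
  haveI := Fintype.ofFinite K
  refine isIrr_indFun_of_inertia K θ fun g hg => ?_
  obtain ⟨⟨s, k⟩, rfl⟩ := h.compl.2 g
  show (s : L) * (k : L) ∈ K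
  by_cases hs : (s : L) = 1
  · rw [hs, one_mul]; exact k.2
  exfalso
  obtain ⟨x, hx, hne⟩ := hθ
  refine hne (typeP_invariant_of_fixed h hW₂c hC θ s.2 hs (Subtype.ext (funext fun n => ?_)) x hx)
  have h1 := congrFun (congrArg Subtype.val hg) (MulAut.conjNormal ((k : L)⁻¹) n)
  simp only [irrComp_apply] at h1 ⊢
  rw [show MulAut.conjNormal ((s : L) * (k : L)) (MulAut.conjNormal ((k : L)⁻¹) n) = MulAut.conjNormal (s : L) n
    from Subtype.ext (by simp only [MulAut.conjNormal_apply]; group)] at h1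
  rw [h1, show MulAut.conjNormal ((k : L)⁻¹) n = (k : K)⁻¹ * n * ((k : K)⁻¹)⁻¹ from Subtype.ext (by simp),
    isClassFunction_character (irr_isCharacter θ.2)]

/-- An extendable character induces to a sum of as many irreducible characters as the index. -/
theorem indFun_of_ext_cyclic [Fintype K] (h : CycCtx K W₁ W₂) (θ : IrrCharacter K) (f : IrrCharacter L)
    (hr : ∀ k : K, (f : L → ℂ) k = (θ : K → ℂ) k) :
    ∃ C : Finset (L → ℂ), C.card = Nat.card W₁ ∧ (∀ μ ∈ C, IsIrrCharacter L μ) ∧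
      indFun K (θ : K → ℂ) = ∑ μ ∈ C, μ := by
  classical
  haveI := h.normal
  haveI := h.cyc
  haveI := finite_hom_units W₁
  haveI := Fintype.ofFinite (W₁ →* ℂˣ)
  have hScomm : ∀ a b : W₁, a * b = b * a := fun a b => (IsCyclic.commGroup (α := W₁)).mul_comm a b
  have hn : Fintype.card (W₁ →* ℂˣ) = Nat.card W₁ := by
    have h1 := Finset.sum_congr (s₁ := (Finset.univ : Finset (W₁ →* ℂˣ))) rfl
      (g := fun θ : W₁ →* ℂˣ => ((θ (1 : W₁) : ℂˣ) : ℂ)) (f := fun _ => (1 : ℂ)) fun θ _ => by simp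
    rw [sum_hom_apply hScomm, if_pos rfl, Finset.sum_const, Finset.card_univ, nsmul_one] at h1
    exact_mod_cast h1
  let pr : L →* W₁ := h.compl.QuotientMulEquiv.toMonoidHom.comp (QuotientGroup.mk' K)
  have hker : ∀ x : L, pr x = 1 ↔ x ∈ K := fun x => by
    show h.compl.QuotientMulEquiv _ = 1 ↔ _
    rw [MulEquiv.map_eq_one_iff, QuotientGroup.mk'_apply, QuotientGroup.eq_one_iff]
  let v : (W₁ →* ℂˣ) → (L → ℂ) := fun l g => (l (pr g) : ℂ) * (f : L → ℂ) g
  have hv : ∀ l, IsIrrCharacter L (v l) := fun l => isIrr_linear_mul f.2 (l.comp pr)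
  have hinv : ∀ (g : L) (k : K), (θ : K → ℂ) (MulAut.conjNormal g k) = (θ : K → ℂ) k := fun g k => by
    rw [← hr, ← hr, MulAut.conjNormal_apply]
    exact isClassFunction_character (irr_isCharacter f.2) _ _
  have hind : indFun K (θ : K → ℂ) = ∑ l : W₁ →* ℂˣ, v l := by
    funext g
    rw [Finset.sum_apply]
    show _ = ∑ l : W₁ →* ℂˣ, (l (pr g) : ℂ) * (f : L → ℂ) g
    rw [← Finset.sum_mul, sum_hom_apply hScomm]
    by_cases hg : g ∈ K
    · rw [if_pos ((hker g).2 hg), show indFun K (θ : K → ℂ) g = _ from indFun_invariant K _ hinv ⟨g, hg⟩,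
        ← hr, h.compl.index_eq_card]
    · rw [if_neg fun e => hg ((hker g).1 e), indFun_normal_not_mem K _ hg, zero_mul]
  have hnorm : ∑ l : W₁ →* ℂˣ, ∑ l' : W₁ →* ℂˣ, (if v l = v l' then (1 : ℕ) else 0) = Nat.card W₁ := by
    have h1 := norm_indFun_invariant K θ.2 hinv
    rw [hind, classInner_sum_left, h.compl.index_eq_card] at h1
    simp only [classInner_sum_right, irr_orth (hv _) (hv _)] at h1
    exact_mod_cast h1
  have hinj : Function.Injective v := by
    intro a b hab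
    by_contra hne
    have hlt : ∑ _l : W₁ →* ℂˣ, 1 < ∑ l : W₁ →* ℂˣ, ∑ l' : W₁ →* ℂˣ, (if v l = v l' then (1 : ℕ) else 0) := by
      refine Finset.sum_lt_sum (fun l _ => ?_) ⟨a, Finset.mem_univ _, ?_⟩
      · exact le_trans (by rw [if_pos rfl]) (Finset.single_le_sum
          (f := fun l' => if v l = v l' then (1 : ℕ) else 0) (fun _ _ => Nat.zero_le _) (Finset.mem_univ l))
      · refine lt_of_lt_of_le (show 1 < ∑ l' ∈ ({a, b} : Finset _), (if v a = v l' then (1 : ℕ) else 0) from ?_)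
          (Finset.sum_le_univ_sum_of_nonneg fun _ => Nat.zero_le _)
        rw [Finset.sum_pair hne, if_pos rfl, if_pos hab]
        norm_num
    rw [hnorm, Finset.sum_const, Finset.card_univ, smul_eq_mul, mul_one, hn] at hlt
    exact lt_irrefl _ hlt
  refine ⟨Finset.univ.image v, ?_, ?_, ?_⟩
  · rw [Finset.card_image_of_injective _ hinj, Finset.card_univ, hn]
  · intro μ hμ
    obtain ⟨l, -, rfl⟩ := Finset.mem_image.1 hμ
    exact hv l
  · rw [hind, Finset.sum_image fun a _ b _ e => hinj e]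

end Cfsg.Agent.Char
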