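import Cfsg.Agent.Lib.Char.TypePLike
import Cfsg.Agent.Lib.Char.CyclicExtSigns
import Cfsg.Agent.Lib.Char.CyclicTIExist
import Cfsg.Agent.Lib.Char.CoverBlocks

/-!
# The exceptional characters of a group with a cyclic Hall complement having constant fixed points
-/

set_option autoImplicit false
set_option linter.unusedSectionVars false
set_option linter.style.haveILetI false
set_option maxHeartbeats 1000000

namespace Cfsg.Agent.Char

open Cfsg
open scoped ComplexConjugate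

universe u

variable {L : Type u} [Group L] [Fintype L] {K W₁ W₂ : Subgroup L}

/-- A linear character with given restrictions to both factors. -/
theorem ti_exists_hom (hdisj : W₁ ⊓ W₂ = ⊥) (hcomm : ∀ a ∈ W₁, ∀ b ∈ W₂, a * b = b * a)
    (l : W₁ →* ℂˣ) (m : W₂ →* ℂˣ) : ∃ ω : ↥(W₁ ⊔ W₂) →* ℂˣ,
      (∀ a : W₁, ω (Subgroup.inclusion le_sup_left a) = l a) ∧
      (∀ b : W₂, ω (Subgroup.inclusion le_sup_right b) = m b) := by
  let Φ : W₁ × W₂ →* ↥(W₁ ⊔ W₂) := MonoidHom.noncommCoprod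
    (Subgroup.inclusion le_sup_left) (Subgroup.inclusion le_sup_right)
    (fun a b => Subtype.ext (hcomm a a.2 b b.2))
  have hinj : Function.Injective Φ := by
    rw [injective_iff_map_eq_one]
    rintro ⟨a, b⟩ h
    have h' : (a : L) * b = 1 := congrArg Subtype.val h
    have ha : (a : L) ∈ W₁ ⊓ W₂ := ⟨a.2, by
      rw [eq_inv_of_mul_eq_one_left h']; exact W₂.inv_mem b.2⟩
    rw [hdisj, Subgroup.mem_bot] at ha
    rw [ha, one_mul] at h'
    exact Prod.ext (Subtype.ext ha) (Subtype.ext h')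
  have hsurj : Function.Surjective Φ := fun w => by
    obtain ⟨a, ha, b, hb, e⟩ := ti_exists_mul hcomm w.2
    exact ⟨(⟨a, ha⟩, ⟨b, hb⟩), Subtype.ext e.symm⟩
  let e := MulEquiv.ofBijective Φ ⟨hinj, hsurj⟩
  refine ⟨((l.comp (MonoidHom.fst W₁ W₂)) * (m.comp (MonoidHom.snd W₁ W₂))).comp e.symm.toMonoidHom,
    fun a => ?_, fun b => ?_⟩
  · have h1 : e.symm (Subgroup.inclusion le_sup_left a) = (a, 1) := by
      rw [MulEquiv.symm_apply_eq]
      exact Subtype.ext (mul_one (a : L)).symm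
    simp [h1]
  · have h1 : e.symm (Subgroup.inclusion le_sup_right b) = (1, b) := by
      rw [MulEquiv.symm_apply_eq]
      exact Subtype.ext (one_mul (b : L)).symm
    simp [h1]

/-- The canonical extension belonging to a character of the fixed points. -/
theorem typeP_exists_data [Fintype K] [Fintype W₂] (h : CycCtx K W₁ W₂)
    (hC : ∀ x ∈ W₁, x ≠ 1 → K ⊓ Subgroup.centralizer ({x} : Set L) = W₂) (hW₁ : W₁ ≠ ⊥)
    (hW₂c : IsCyclic W₂) (hodd : Odd (Nat.card W₁)) (β : IrrCharacter W₂) :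
    ∃ (χ : IrrCharacter K) (f : IrrCharacter L) (e : ℤ), (e = 1 ∨ e = -1) ∧
      (∀ s ∈ W₁, ∀ g g' : K, (g' : L) = s * g * s⁻¹ → (χ : K → ℂ) g' = (χ : K → ℂ) g) ∧
      (∀ g : K, (f : L → ℂ) g = (χ : K → ℂ) g) ∧
      (detOrder (f : L → ℂ)).Coprime (Nat.card W₁) ∧
      (∀ c : W₂, ∀ a ∈ W₁, a ≠ 1 → (f : L → ℂ) ((c : L) * a) = (e : ℂ) * (β : W₂ → ℂ) c) ∧
      ∃ n : ℤ, (f : L → ℂ) 1 - (e : ℂ) = n * (Nat.card W₁ : ℂ) := by
  classical
  obtain ⟨χ, f, ε₀, hI, hr, hd, hε₀, hβ⟩ := h.surjective β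
  obtain ⟨e, μ₀, t, he, hμ2, hval, hsum⟩ :=
    h.exists_mu hC ((Subgroup.one_lt_card_iff_ne_bot W₁).2 hW₁) χ f hr hd β hε₀ hβ
  have hμ : ∀ x : W₁, μ₀ x = 1 := fun x => by
    have h2 : μ₀ x ^ 2 = 1 := Units.ext (by rw [pow_two, Units.val_mul, hμ2, Units.val_one])
    have hn : μ₀ x ^ Nat.card W₁ = 1 := by rw [← map_pow, pow_card_eq_one', map_one]
    have h3 : μ₀ x ^ Nat.gcd 2 (Nat.card W₁) = 1 := pow_gcd_eq_one.2 ⟨h2, hn⟩
    rwa [Nat.coprime_iff_gcd_eq_one.1 (Nat.coprime_two_left.2 hodd), pow_one] at h3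
  refine ⟨χ, f, e, he, hI, hr, hd, fun c a ha ha1 => ?_, ∑ ψ, (t ψ : ℤ), ?_⟩
  · rw [hval c ⟨a, ha⟩ fun e => ha1 (congrArg Subtype.val e), hμ, Units.val_one, mul_one]
  · haveI := hW₂c
    letI := IsCyclic.commGroup (α := W₂)
    have hlin : ∀ ψ : IrrCharacter W₂, (ψ : W₂ → ℂ) 1 = 1 := forall_linear_iff_comm.1 mul_comm
    have h1 := hsum 1
    rw [← hr] at h1
    simp only [hlin, mul_one, OneMemClass.coe_one] at h1
    rw [h1]
    push_cast
    ring

/-- Inducing an extendable character. -/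
theorem indFun_ext_eq_sum [Fintype K] (h : CycCtx K W₁ W₂) [Fintype (W₁ →* ℂˣ)] (θ : IrrCharacter K)
    (f : IrrCharacter L) (hr : ∀ k : K, (f : L → ℂ) k = (θ : K → ℂ) k) (pr : L →* W₁)
    (hker : ∀ x : L, pr x = 1 ↔ x ∈ K) :
    indFun K (θ : K → ℂ) = ∑ l : W₁ →* ℂˣ, fun g => (l (pr g) : ℂ) * (f : L → ℂ) g := by
  classical
  haveI := h.normal
  haveI := h.cyc
  have hScomm : ∀ a b : W₁, a * b = b * a := fun a b => (IsCyclic.commGroup (α := W₁)).mul_comm a b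
  have hinv : ∀ (g : L) (k : K), (θ : K → ℂ) (MulAut.conjNormal g k) = (θ : K → ℂ) k := fun g k => by
    rw [← hr, ← hr, MulAut.conjNormal_apply]
    exact isClassFunction_character (irr_isCharacter f.2) _ _
  funext g
  rw [Finset.sum_apply, ← Finset.sum_mul, sum_hom_apply hScomm]
  by_cases hg : g ∈ K
  · rw [if_pos ((hker g).2 hg), show indFun K (θ : K → ℂ) g = _ from indFun_invariant K _ hinv ⟨g, hg⟩,
      ← hr, h.compl.index_eq_card]
  · rw [if_neg fun e => hg ((hker g).1 e), indFun_normal_not_mem K _ hg, zero_mul]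

theorem exists_typeP_mu [hK : K.Normal] (h : CycCtx K W₁ W₂) (hW₁ : W₁ ≠ ⊥) (hW₂c : IsCyclic W₂)
    (hC : ∀ x ∈ W₁, x ≠ 1 → K ⊓ Subgroup.centralizer ({x} : Set L) = W₂)
    (hodd : Odd (Nat.card ↥(W₁ ⊔ W₂))) :
    ∃ (μ : (↥(W₁ ⊔ W₂) →* ℂˣ) → (L → ℂ)) (δ : (↥(W₁ ⊔ W₂) →* ℂˣ) → ℂ), Function.Injective μ ∧
      (∀ ω, IsIrrCharacter L (μ ω)) ∧ (∀ ω, δ ω = 1 ∨ δ ω = -1) ∧
      (∀ ω ω' : ↥(W₁ ⊔ W₂) →* ℂˣ, (∀ w : ↥(W₁ ⊔ W₂), (w : L) ∈ W₂ → ω w = ω' w) →
        δ ω = δ ω' ∧ indFun (W₁ ⊔ W₂) (fun w => (ω w : ℂ) - (ω' w : ℂ)) = δ ω • (μ ω - μ ω')) ∧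
      (∀ ω, ∀ w : ↥(W₁ ⊔ W₂), (w : L) ∉ W₂ → μ ω w = δ ω * (ω w : ℂ)) ∧
      (∀ θ : L → ℂ, IsIrrCharacter L θ → (∀ ω, θ ≠ μ ω) →
        ∀ w : ↥(W₁ ⊔ W₂), (w : L) ∉ W₂ → θ w = 0) ∧
      (∀ ω, ∃ n : ℤ, μ ω 1 - δ ω = n * (Nat.card W₁ : ℂ)) := by
  classical
  haveI := Fintype.ofFinite K
  haveI := Fintype.ofFinite W₂
  haveI := h.cyc
  haveI := finite_hom_units W₁
  haveI := Fintype.ofFinite (W₁ →* ℂˣ)
  have hcomm : ∀ a ∈ W₁, ∀ b ∈ W₂, a * b = b * a := fun a ha b hb => ((h.comm hb ha).eq).symm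
  have hKW₁ : ∀ a ∈ W₁, a ∈ K → a = 1 := fun a ha haK => by
    have h1 : a ∈ W₁ ⊓ K := ⟨ha, haK⟩
    rwa [Subgroup.inf_eq_bot_of_coprime h.cop.symm, Subgroup.mem_bot] at h1
  have hdisj : W₁ ⊓ W₂ = ⊥ := (Subgroup.eq_bot_iff_forall _).2 fun x hx => hKW₁ x hx.1 (h.le hx.2)
  have hodd₁ : Odd (Nat.card W₁) := hodd.of_dvd_nat (Subgroup.card_dvd_of_le le_sup_left)
  choose χ f e he hI hr hd hval hcong using typeP_exists_data h hC hW₁ hW₂c hodd₁
  obtain ⟨a₀, ha₀, ha₀1⟩ := W₁.bot_or_exists_ne_one.resolve_left hW₁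
  have hχinj : Function.Injective χ := by
    intro β β' hb
    have hf : f β = f β' := Subtype.ext (h.ext_unique (χ β) (f β).2 (f β').2 (hr β)
      (hb ▸ hr β') (hd β) (hd β'))
    have h1 : ∀ c : W₂, (e β : ℂ) * (β : W₂ → ℂ) c = (e β' : ℂ) * (β' : W₂ → ℂ) c := fun c => by
      rw [← hval β c a₀ ha₀ ha₀1, ← hval β' c a₀ ha₀ ha₀1, hf]
    apply Subtype.ext
    rcases he β with h2 | h2 <;> rcases he β' with h3 | h3
    · funext c
      have := h1 c
      simp only [h2, h3, Int.cast_one, one_mul] at this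
      exact this
    · exact absurd (funext fun c => by
        have := h1 c
        simp only [h2, h3, Int.cast_one, Int.cast_neg, one_mul, neg_mul] at this
        exact this) (irr_ne_neg_irr β.2 β'.2)
    · exact absurd (funext fun c => by
        have := h1 c
        simp only [h2, h3, Int.cast_one, Int.cast_neg, one_mul, neg_mul] at this
        show _ = -((β' : W₂ → ℂ) c)
        rw [← this, neg_neg]) (irr_ne_neg_irr β.2 β'.2)
    · funext c
      have := h1 c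
      simp only [h2, h3, Int.cast_one, Int.cast_neg, one_mul, neg_mul, neg_inj] at this
      exact this
  have hsurj : ∀ θ : IrrCharacter K,
      (∀ x ∈ W₁, (fun k : K => (θ : K → ℂ) ⟨x * k * x⁻¹, hK.conj_mem (k : L) k.2 x⟩) = θ) → ∃ β, χ β = θ := by
    intro θ hθ
    let χ' : IrrCharacter W₂ → {θ : IrrCharacter K //
        ∀ x ∈ W₁, (fun k : K => (θ : K → ℂ) ⟨x * k * x⁻¹, hK.conj_mem (k : L) k.2 x⟩) = θ} :=
      fun β => ⟨χ β, fun x hx => funext fun k => hI β x hx k _ rfl⟩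
    have hb : Function.Bijective χ' := (Nat.bijective_iff_injective_and_card χ').2
      ⟨fun a b e => hχinj (congrArg Subtype.val e), by
        rw [typeP_card_invariant h hW₂c, card_irr_of_isCyclic W₂ hW₂c]⟩
    obtain ⟨β, hβ⟩ := hb.2 ⟨θ, hθ⟩
    exact ⟨β, congrArg Subtype.val hβ⟩
  let pr : L →* W₁ := h.compl.QuotientMulEquiv.toMonoidHom.comp (QuotientGroup.mk' K)
  have hker : ∀ x : L, pr x = 1 ↔ x ∈ K := fun x => by
    show h.compl.QuotientMulEquiv _ = 1 ↔ _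
    rw [MulEquiv.map_eq_one_iff, QuotientGroup.mk'_apply, QuotientGroup.eq_one_iff]
  have hprW : ∀ a : W₁, pr (a : L) = a := fun a => by
    show h.compl.QuotientMulEquiv (QuotientGroup.mk (a : L)) = a
    rw [show (QuotientGroup.mk (a : L) : L ⧸ K) = h.compl.QuotientMulEquiv.symm a from rfl,
      MulEquiv.apply_symm_apply]
  let lW : (↥(W₁ ⊔ W₂) →* ℂˣ) → (W₁ →* ℂˣ) := fun ω => ω.comp (Subgroup.inclusion le_sup_left)
  let bW : (↥(W₁ ⊔ W₂) →* ℂˣ) → IrrCharacter W₂ := fun ω =>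
    ⟨fun c => ((ω.comp (Subgroup.inclusion le_sup_right)) c : ℂ), isIrrCharacter_linear _⟩
  let μ : (↥(W₁ ⊔ W₂) →* ℂˣ) → (L → ℂ) := fun ω g => (lW ω (pr g) : ℂ) * (f (bW ω) : L → ℂ) g
  let δ : (↥(W₁ ⊔ W₂) →* ℂˣ) → ℂ := fun ω => (e (bW ω) : ℂ)
  have hμirr : ∀ ω, IsIrrCharacter L (μ ω) := fun ω => isIrr_linear_mul (f (bW ω)).2 ((lW ω).comp pr)
  have hδ : ∀ ω, δ ω = 1 ∨ δ ω = -1 := fun ω =>
    (he (bW ω)).imp (fun e1 => by simp only [δ, e1, Int.cast_one])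
      (fun e1 => by simp only [δ, e1, Int.cast_neg, Int.cast_one])
  have hδ0 : ∀ ω, δ ω ≠ 0 := fun ω => by rcases hδ ω with e1 | e1 <;> rw [e1] <;> norm_num
  have hμval : ∀ ω, ∀ w : ↥(W₁ ⊔ W₂), (w : L) ∉ W₂ → μ ω w = δ ω * (ω w : ℂ) := by
    intro ω w hw
    obtain ⟨a, ha, b, hb, hwe⟩ := ti_exists_mul hcomm w.2
    have ha1 : a ≠ 1 := fun e1 => hw (by rw [hwe, e1, one_mul]; exact hb)
    have hw' : w = Subgroup.inclusion le_sup_left (⟨a, ha⟩ : W₁) *
        Subgroup.inclusion le_sup_right (⟨b, hb⟩ : W₂) := Subtype.ext hwe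
    have hpw : pr (w : L) = ⟨a, ha⟩ := by
      rw [hwe, map_mul, (hker b).2 (h.le hb), mul_one]
      exact hprW ⟨a, ha⟩
    show (lW ω (pr (w : L)) : ℂ) * (f (bW ω) : L → ℂ) (w : L) = _
    rw [hpw, hwe, hcomm a ha b hb]
    rw [show (f (bW ω) : L → ℂ) (b * a) = _ from hval (bW ω) ⟨b, hb⟩ a ha ha1]
    conv_rhs => rw [hw', map_mul, Units.val_mul]
    simp only [lW, bW, δ, MonoidHom.comp_apply]
    ring
  have hinj : Function.Injective μ := by
    intro ω ω' he'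
    have h1 : ∀ b : W₂, δ ω * (ω (Subgroup.inclusion le_sup_left (⟨a₀, ha₀⟩ : W₁) * Subgroup.inclusion le_sup_right b) : ℂ) =
        δ ω' * (ω' (Subgroup.inclusion le_sup_left (⟨a₀, ha₀⟩ : W₁) * Subgroup.inclusion le_sup_right b) : ℂ) := by
      intro b
      have hn : ((Subgroup.inclusion le_sup_left (⟨a₀, ha₀⟩ : W₁) * Subgroup.inclusion le_sup_right b :
          ↥(W₁ ⊔ W₂)) : L) ∉ W₂ := fun hm =>
        ha₀1 (Subgroup.mem_bot.1 (hdisj ▸ ⟨ha₀, (W₂.mul_mem_cancel_right b.2).1 hm⟩ : a₀ ∈ (⊥ : Subgroup L)))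
      rw [← hμval ω _ hn, ← hμval ω' _ hn, he']
    have h2 : ∀ b : W₂, ω (Subgroup.inclusion le_sup_right b) = ω' (Subgroup.inclusion le_sup_right b) := by
      intro b
      have e1 := h1 b
      have e0 := h1 1
      simp only [map_one, mul_one, map_mul, Units.val_mul] at e0 e1
      refine Units.ext (mul_left_cancel₀ (mul_ne_zero (hδ0 ω) (ω (Subgroup.inclusion le_sup_left (⟨a₀, ha₀⟩ : W₁))).ne_zero) ?_)
      rw [mul_assoc, e1, ← mul_assoc, ← e0]
    have hb : bW ω = bW ω' := Subtype.ext (funext fun c => congrArg Units.val (h2 c))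
    refine ti_hom_ext hcomm (fun w hw => ?_) (fun w hw => h2 ⟨w, hw⟩)
    by_cases hw1 : (w : L) ∈ W₂
    · exact h2 ⟨w, hw1⟩
    · have e1 := hμval ω w hw1
      rw [he', hμval ω' w hw1] at e1
      rw [show δ ω' = δ ω from by simp only [δ, hb]] at e1
      exact (Units.ext (mul_left_cancel₀ (hδ0 ω) e1)).symm
  have hzero : ∀ θ : L → ℂ, IsIrrCharacter L θ → (∀ ω, θ ≠ μ ω) →
      ∀ w : ↥(W₁ ⊔ W₂), (w : L) ∉ W₂ → θ w = 0 := by
    intro θ hθ hne w hw
    obtain ⟨ψ, hψ⟩ := exists_constituent (N := K) ⟨θ, hθ⟩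
    have hψ' : classInner (indFun K (ψ : K → ℂ)) θ ≠ 0 := by
      rw [frobenius K _ (isClassFunction_character (irr_isCharacter hθ)), ← classInner_symm]
      exact fun e1 => hψ ((map_eq_zero _).1 e1)
    by_cases hfix : ∀ x ∈ W₁, (fun k : K => (ψ : K → ℂ) ⟨x * k * x⁻¹, hK.conj_mem (k : L) k.2 x⟩) = ψ
    · exfalso
      obtain ⟨β, rfl⟩ := hsurj ψ hfix
      rw [indFun_ext_eq_sum h (χ β) (f β) (hr β) pr hker, classInner_sum_left] at hψ'
      obtain ⟨l, -, hl⟩ := Finset.exists_ne_zero_of_sum_ne_zero hψ'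
      have hvl : IsIrrCharacter L (fun g => (l (pr g) : ℂ) * (f β : L → ℂ) g) := isIrr_linear_mul (f β).2 (l.comp pr)
      rw [irr_orth hvl hθ] at hl
      haveI := hW₂c
      letI := IsCyclic.commGroup (α := W₂)
      obtain ⟨m, hm⟩ := exists_hom_of_degree_one (irr_isCharacter β.2) (forall_linear_iff_comm.1 mul_comm β)
      obtain ⟨ω, hω1, hω2⟩ := ti_exists_hom hdisj hcomm l m
      have hb : bW ω = β := Subtype.ext (funext fun c => by
        rw [hm]; exact congrArg Units.val (hω2 c))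
      refine hne ω ?_
      have hμe : μ ω = fun g => (l (pr g) : ℂ) * (f β : L → ℂ) g := funext fun g => by
        simp only [μ, hb, lW, MonoidHom.comp_apply, hω1]
      rw [hμe]
      by_contra hc
      exact hl (if_neg fun e1 => hc e1.symm)
    · push Not at hfix
      have hirr := typeP_irr_indFun h hW₂c hC ψ hfix
      rw [irr_orth hirr hθ] at hψ'
      have e1 : indFun K (ψ : K → ℂ) = θ := by
        by_contra hc
        exact hψ' (if_neg hc)
      rw [← e1]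
      refine indFun_normal_not_mem K _ fun hwK => hw ?_
      obtain ⟨a, ha, b, hb, hwe⟩ := ti_exists_mul hcomm w.2
      have : a ∈ K := (K.mul_mem_cancel_right (h.le hb)).1 (hwe ▸ hwK)
      rw [hwe, hKW₁ a ha this, one_mul]
      exact hb
  refine ⟨μ, δ, hinj, hμirr, hδ, fun ω ω' hagree => ?_, hμval, hzero, fun ω => ?_⟩
  · have hb : bW ω = bW ω' := Subtype.ext (funext fun c =>
      congrArg Units.val (hagree (Subgroup.inclusion le_sup_right c) c.2))
    have hδe : δ ω = δ ω' := by simp only [δ, hb]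
    refine ⟨hδe, classFun_ext (isClassFunction_indFun _ _) (fun g k => ?_) fun θ => ?_⟩
    · simp only [Pi.smul_apply, Pi.sub_apply, isClassFunction_character (irr_isCharacter (hμirr ω)) g k,
        isClassFunction_character (irr_isCharacter (hμirr ω')) g k]
    rw [frobenius _ _ (isClassFunction_character (irr_isCharacter θ.2)), classInner_smul_left,
      classInner_sub_left, irr_orth (hμirr ω) θ.2, irr_orth (hμirr ω') θ.2]
    have hvan : ∀ (F F' : ↥(W₁ ⊔ W₂) → ℂ), (∀ w : ↥(W₁ ⊔ W₂), (w : L) ∉ W₂ → F w = F' w) →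
        classInner (fun w => (ω w : ℂ) - (ω' w : ℂ)) F = classInner (fun w => (ω w : ℂ) - (ω' w : ℂ)) F' := by
      intro F F' hF
      simp only [classInner]
      congr 1
      refine Finset.sum_congr rfl fun w _ => ?_
      by_cases hw : (w : L) ∈ W₂
      · rw [hagree w hw, sub_self, zero_mul, zero_mul]
      · rw [hF w hw]
    by_cases hθ : ∃ ω'', (θ : L → ℂ) = μ ω''
    · obtain ⟨ω'', hθe⟩ := hθ
      rw [hθe, hvan (fun w => μ ω'' w) (δ ω'' • fun w => (ω'' w : ℂ)) (fun w hw => hμval ω'' w hw),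
        classInner_smul_right, show (fun w => (ω w : ℂ) - (ω' w : ℂ)) = (fun w => (ω w : ℂ)) - fun w => (ω' w : ℂ)
        from rfl, classInner_sub_left, ti_linear_inner, ti_linear_inner,
        show conj (δ ω'') = δ ω'' from map_intCast (starRingEnd ℂ) _]
      simp only [hinj.eq_iff]
      by_cases e1 : ω = ω''
      · rw [e1]
      · by_cases e2 : ω' = ω''
        · rw [hδe, e2]
        · simp only [if_neg e1, if_neg e2]; ring
    · push Not at hθ
      rw [hvan (fun w => (θ : L → ℂ) w) 0 (fun w hw => hzero _ θ.2 hθ w hw),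
        if_neg fun e1 => hθ ω e1.symm, if_neg fun e1 => hθ ω' e1.symm]
      simp [classInner]
  · obtain ⟨n, hn⟩ := hcong (bW ω)
    exact ⟨n, by simp only [μ, δ, map_one, Units.val_one, one_mul]; exact hn⟩

end Cfsg.Agent.Char
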