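import Cfsg.Agent.Lib.Char.MovingCharacter
import Cfsg.Agent.Lib.Char.MultiplicativeCoprime
import Cfsg.Agent.Lib.Char.Inflate
import Cfsg.Agent.Lib.Fusion.SolvableBalance
import Cfsg.Agent.Lib.Fusion.Cores

/-!
# Vanishing elements of order divisible by `p` in solvable groups

If the vanishing `p`-singular elements of a solvable group all have one order, the Sylow
`p`-subgroup has order at most `p` modulo the `p`-core.
-/

set_option autoImplicit false
set_option linter.style.haveILetI false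
set_option linter.unusedSectionVars false

namespace Cfsg.Agent.Char.VanishingSingular

open Cfsg Cfsg.Agent.Char
open scoped Classical commutatorElement

universe u

variable {G : Type u} [Group G] [Finite G]

/-- A vanishing element. -/
def Van (g : G) : Prop := ∃ χ : IrrCharacter G, (χ : G → ℂ) g = 0

theorem Van.lift (N : Subgroup G) [N.Normal] {g : G} (h : Van (QuotientGroup.mk' N g)) : Van g := by
  obtain ⟨χ, hχ⟩ := h
  haveI := Fintype.ofFinite G
  exact ⟨⟨_, isIrr_inflate N χ.2⟩, hχ⟩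

theorem exists_irr_ne [Fintype G] {z : G} (hz : z ≠ 1) :
    ∃ χ : IrrCharacter G, (χ : G → ℂ) z ≠ (χ : G → ℂ) 1 := by
  by_contra hno
  push Not at hno
  have h1 := second_orth z (1 : G)
  have h2 := second_orth (1 : G) (1 : G)
  rw [if_neg fun hc => hz (isConj_one_left.1 hc)] at h1
  rw [if_pos (IsConj.refl (1 : G))] at h2
  simp only [hno] at h1
  rw [h1] at h2
  exact div_ne_zero (Nat.cast_ne_zero.2 Nat.card_pos.ne')
    (Nat.cast_ne_zero.2 (card_conjClass_ne_zero (1 : G))) h2.symm

/-- If `u` is conjugate to `z u`, `z` generating a normal subgroup of prime order commuting with the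
conjugating element, then `u` vanishes. -/
theorem van_of_commutator [Fintype G] {p : ℕ} [Fact p.Prime] {u b z : G} (hz : z ≠ 1) (hzp : z ^ p = 1)
    [hN : (Subgroup.zpowers z).Normal] (hbz : b * z = z * b) (hb : b * u * b⁻¹ = z * u) : Van u := by
  obtain ⟨χ, hχ⟩ := exists_irr_ne hz
  refine ⟨χ, ?_⟩
  obtain ⟨f, n, ρ, hρ, hf⟩ := χ
  dsimp at hχ ⊢
  subst hf
  haveI := hρ
  have hu : ∀ i : ℕ, ρ.character (z ^ i * u) = ρ.character u := by
    intro i
    induction i with
    | zero => simp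
    | succ i ih =>
      rw [← ih]
      have h1 : z ^ (i + 1) * u = b * (z ^ i * u) * b⁻¹ := by
        rw [show b * (z ^ i * u) * b⁻¹ = (b * z ^ i) * u * b⁻¹ by group,
          ((show Commute b z from hbz).pow_right i).eq,
          show z ^ i * b * u * b⁻¹ = z ^ i * (b * u * b⁻¹) by group, hb, ← mul_assoc, pow_succ]
      rw [h1, Representation.char_conj]
  set M : (Fin n → ℂ) →ₗ[ℂ] (Fin n → ℂ) := ∑ i ∈ Finset.range p, ρ (z ^ i) with hM
  -- the fixed space of `z`
  let W : Subrepresentation ρ :=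
    ⟨{ carrier := {v | ∀ m ∈ Subgroup.zpowers z, ρ m v = v}
       add_mem' := fun {v w} hv hw m hm => by rw [map_add, hv m hm, hw m hm]
       zero_mem' := fun m _ => map_zero _
       smul_mem' := fun c v hv m hm => by rw [map_smul, hv m hm] },
      fun g v hv m hm => by
        have h2 := hv _ (hN.conj_mem m hm g⁻¹)
        conv_rhs => rw [← h2]
        rw [← Module.End.mul_apply, ← map_mul, ← Module.End.mul_apply, ← map_mul]
        congr 2
        group⟩
  have hW : W.toSubmodule = ⊥ := by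
    rcases hρ.eq_bot_or_eq_top W with h | h
    · rw [h]; rfl
    · refine absurd ?_ hχ
      have hid : ρ z = ρ 1 := LinearMap.ext fun v => by
        have hv : v ∈ W.toSubmodule := by rw [h]; exact Submodule.mem_top
        rw [map_one]
        exact hv z (Subgroup.mem_zpowers z)
      simp [Representation.character, hid]
  have hMz : ρ z * M = M := by
    have hs := geom_sum_mul (ρ z) p
    rw [← map_pow, hzp, map_one, sub_self] at hs
    have hM' : M = ∑ i ∈ Finset.range p, ρ z ^ i := by simp [hM, map_pow]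
    have hc : Commute (ρ z) M := by
      rw [hM']
      exact Commute.sum_right _ _ _ fun i _ => Commute.self_pow _ i
    rw [← hM', mul_sub, mul_one, sub_eq_zero] at hs
    rw [hc.eq, hs]
  have hM0 : M = 0 := LinearMap.ext fun v => by
    have hv : M v ∈ W.toSubmodule := fun m hm => by
      have hS : z ∈ ({ carrier := {m | ρ m (M v) = M v}
                       one_mem' := by simp
                       mul_mem' := fun {a c} ha hc => by
                         show ρ (a * c) (M v) = M v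
                         rw [map_mul, Module.End.mul_apply, show ρ c (M v) = M v from hc]
                         exact ha
                       inv_mem' := fun {a} ha => by
                         show ρ a⁻¹ (M v) = M v
                         conv_lhs => rw [← show ρ a (M v) = M v from ha, ← Module.End.mul_apply,
                           ← map_mul, inv_mul_cancel, map_one]
                         rfl } : Subgroup G) := by
        show (ρ z * M) v = M v
        rw [hMz]
      exact Subgroup.zpowers_le.2 hS hm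
    rw [hW, Submodule.mem_bot] at hv
    exact hv
  have h2 : ∑ i ∈ Finset.range p, ρ.character (z ^ i * u) = 0 := by
    simp only [Representation.character, map_mul, ← map_sum, ← Finset.sum_mul]
    rw [← hM, hM0, zero_mul, map_zero]
  rw [Finset.sum_congr rfl (fun i _ => hu i), Finset.sum_const, Finset.card_range, nsmul_eq_mul] at h2
  exact (mul_eq_zero.1 h2).resolve_left (Nat.cast_ne_zero.2 (Fact.out : p.Prime).ne_zero)

/-- No proper power of a vanishing element is vanishing and `p`-singular. -/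
def Rigid (p : ℕ) (G : Type u) [Group G] : Prop :=
  ∀ (u : G) (m : ℕ), Van u → Van (u ^ m) → p ∣ orderOf (u ^ m) → orderOf (u ^ m) = orderOf u

theorem not_sq_dvd {H : Type u} [Group H] [Finite H] {p : ℕ} [hp : Fact p.Prime]
    (hs : Group.IsSolvable H) (h0 : pCore p H = ⊥) (hR : Rigid p H) : ¬ p ^ 2 ∣ Nat.card H := by
  intro hdvd
  haveI := hs
  haveI := Fintype.ofFinite H
  obtain ⟨K, hKdef⟩ : ∃ K, K = pPrimeCore p H := ⟨_, rfl⟩
  haveI hKn : K.Normal := hKdef ▸ inferInstance
  have hK : (Nat.card K).Coprime p := hKdef ▸ Fusion.card_pPrimeCore_coprime p H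
  have hbar : pPrimeCore p (H ⧸ K) = ⊥ := by subst hKdef; exact Fusion.pPrimeCore_quotient_eq_bot
  haveI hsq : Group.IsSolvable (H ⧸ K) :=
    Group.isSolvable_of_surjective (QuotientGroup.mk'_surjective K)
  have hcen := Fusion.centralizer_pCore_le_of_solvable hsq hbar
  set π := QuotientGroup.mk' K with hπ
  obtain ⟨R, hRdef⟩ : ∃ R, R = pCore p (H ⧸ K) := ⟨_, rfl⟩
  rw [← hRdef] at hcen
  haveI : R.Normal := hRdef ▸ inferInstance
  have hRp : IsPGroup p R := hRdef ▸ Fusion.isPGroup_pCore p _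
  have hdK : p ^ 2 ∣ Nat.card (H ⧸ K) := by
    rw [K.card_eq_card_quotient_mul_card_subgroup] at hdvd
    exact (Nat.Coprime.pow_left 2 hK.symm).dvd_of_dvd_mul_right hdvd
  have hR0 : R ≠ ⊥ := fun h => by
    rw [h, Subgroup.coe_bot] at hcen
    have h2 : (⊤ : Subgroup (H ⧸ K)) ≤ ⊥ := fun a _ => hcen
      (Subgroup.mem_centralizer_iff.2 fun b hb => by
        rw [Set.mem_singleton_iff.1 hb, one_mul, mul_one])
    have h3 := Subgroup.card_le_of_le h2
    rw [Subgroup.card_top, Subgroup.card_bot] at h3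
    have h4 : 2 ^ 2 ≤ p ^ 2 := Nat.pow_le_pow_left hp.out.two_le 2
    have h5 := Nat.le_of_dvd Nat.card_pos hdK
    omega
  -- a Sylow subgroup of the preimage
  obtain ⟨M, hMdef⟩ : ∃ M, M = R.comap π := ⟨_, rfl⟩
  haveI : M.Normal := hMdef ▸ inferInstance
  have hKM : K ≤ M := fun k hk => by
    rw [hMdef, Subgroup.mem_comap, hπ, QuotientGroup.mk'_apply, (QuotientGroup.eq_one_iff k).2 hk]
    exact one_mem _
  obtain ⟨P⟩ : Nonempty (Sylow p M) := inferInstance
  obtain ⟨S, hSdef⟩ : ∃ S, S = (P : Subgroup M).map M.subtype := ⟨_, rfl⟩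
  have hSyl : Solv.IsSylIn p S M := hSdef ▸ Solv.IsSylIn.of_sylow P
  have hinj : ∀ a ∈ S, π a = 1 → a = 1 := fun a ha h => by
    have h1 : a ∈ K ⊓ S := ⟨(QuotientGroup.eq_one_iff a).1 h, ha⟩
    rwa [Solv.coprime_inf (by rw [hSyl.2]; exact hK.pow_right _), Subgroup.mem_bot] at h1
  have hMcard : Nat.card M = Nat.card K * Nat.card R := by
    have h2 := Subgroup.relIndex_ker (f := π) (K := M)
    rw [hπ, QuotientGroup.ker_mk', ← hπ, hMdef,
      Subgroup.map_comap_eq_self_of_surjective (QuotientGroup.mk'_surjective K), ← hMdef] at h2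
    have h3 := Subgroup.relIndex_mul_relIndex ⊥ K M bot_le hKM
    rw [Subgroup.relIndex_bot_left, Subgroup.relIndex_bot_left, h2] at h3
    exact h3.symm
  have hScard : Nat.card S = Nat.card R := by
    obtain ⟨j, hj⟩ := IsPGroup.iff_card.1 hRp
    rw [hSyl.2, hMcard, hj, Nat.factorization_mul Nat.card_pos.ne' (pow_ne_zero _ hp.out.ne_zero),
      Finsupp.add_apply, Nat.factorization_eq_zero_of_not_dvd
        (hp.out.coprime_iff_not_dvd.1 hK.symm), hp.out.factorization_pow, Finsupp.single_eq_same,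
      zero_add]
  have hπS : S.map π = R := by
    refine Subgroup.eq_of_le_of_card_ge ?_ (le_of_eq ?_)
    · rw [Subgroup.map_le_iff_le_comap, ← hMdef]; exact hSyl.1
    · rw [← hScard]
      refine Nat.card_congr (Equiv.ofBijective (fun a : S => (⟨π a, Subgroup.mem_map_of_mem π a.2⟩ : S.map π))
        ⟨fun a b hab => Subtype.ext ?_, ?_⟩)
      · have h1 : π ((a : H)⁻¹ * b) = 1 := by
          have := congrArg Subtype.val hab
          rw [map_mul, map_inv, show π a = π b from this, inv_mul_cancel]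
        exact inv_mul_eq_one.1 (hinj _ (mul_mem (inv_mem a.2) b.2) h1)
      · rintro ⟨_, a, ha, rfl⟩; exact ⟨⟨a, ha⟩, rfl⟩
  have htop : K ⊔ Subgroup.normalizer (S : Set H) = ⊤ := by
    rw [eq_top_iff, ← Sylow.normalizer_sup_eq_top P, ← hSdef]
    refine sup_le le_sup_right fun m hm => ?_
    rw [hMdef, Subgroup.mem_comap, ← hπS] at hm
    obtain ⟨a, ha, ham⟩ := hm
    have h1 : m * a⁻¹ ∈ K := (QuotientGroup.eq_one_iff _).1 (by
      show π (m * a⁻¹) = 1
      rw [map_mul, map_inv, ham, mul_inv_cancel])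
    have h2 := mul_mem (Subgroup.mem_sup_left (T := Subgroup.normalizer (S : Set H)) h1)
      (Subgroup.mem_sup_right (S := K) (Subgroup.le_normalizer ha))
    rwa [inv_mul_cancel_right] at h2
  -- the centre of `S`
  obtain ⟨Z, hZdef⟩ : ∃ Z, Z = S ⊓ Subgroup.centralizer (S : Set H) := ⟨_, rfl⟩
  have hZS : Z ≤ S := hZdef ▸ inf_le_left
  have hZab : ∀ a ∈ Z, ∀ b ∈ Z, a * b = b * a := fun a ha b hb =>
    (Subgroup.mem_centralizer_iff.1 (hZdef ▸ hb : b ∈ S ⊓ _).2 a (hZS ha))
  have hNZ : Subgroup.normalizer (S : Set H) ≤ Subgroup.normalizer (Z : Set H) := fun n hn => by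
    refine Solv.mem_normalizer_of_conj_smul ?_
    have key : ∀ m ∈ Subgroup.normalizer (S : Set H), ∀ a ∈ Z, m * a * m⁻¹ ∈ Z := by
      intro m hm a ha
      rw [hZdef] at ha ⊢
      refine ⟨Solv.conj_mem_of_mem_normalizer hm ha.1, Subgroup.mem_centralizer_iff.2 fun s hs => ?_⟩
      have h2 := Subgroup.mem_centralizer_iff.1 ha.2 (m⁻¹ * s * m) (by
        simpa using Solv.conj_mem_of_mem_normalizer (inv_mem hm) hs)
      calc s * (m * a * m⁻¹) = m * ((m⁻¹ * s * m) * a) * m⁻¹ := by group
        _ = m * (a * (m⁻¹ * s * m)) * m⁻¹ := by rw [h2]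
        _ = _ := by group
    refine Subgroup.eq_of_le_of_card_ge ?_ (Solv.card_conj_smul _ _).ge
    intro a ha
    rw [Solv.mem_conj_smul] at ha
    have h3 := key n hn _ ha
    rwa [show n * (n⁻¹ * a * n) * n⁻¹ = a by group] at h3
  have htopZ : K ⊔ Subgroup.normalizer (Z : Set H) = ⊤ :=
    eq_top_iff.2 (htop ▸ sup_le_sup_left hNZ K)
  have hfaZ : ∀ q ∈ Z, (∀ k ∈ K, q * k = k * q) → q = 1 := by
    obtain ⟨Z0, hZ0⟩ : ∃ Z0, Z0 = Z ⊓ Subgroup.centralizer (K : Set H) := ⟨_, rfl⟩
    haveI : Z0.Normal := by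
      rw [← Subgroup.normalizer_eq_top_iff, eq_top_iff, ← htopZ, hZ0]
      refine sup_le (fun k hk => ?_) (fun n hn => ?_)
      · refine Subgroup.mem_normalizer_iff.2 fun a => ⟨fun ha => ?_, fun ha => ?_⟩
        · rw [Subgroup.mem_centralizer_iff.1 ha.2 k hk, mul_inv_cancel_right]; exact ha
        · have h2 : k * a * k⁻¹ = a := by
            have h3 := Subgroup.mem_centralizer_iff.1 ha.2 k hk
            have h4 : k⁻¹ * (k * (k * a * k⁻¹)) = k⁻¹ * ((k * a * k⁻¹) * k) := by rw [h3]
            calc k * a * k⁻¹ = k⁻¹ * (k * (k * a * k⁻¹)) := by group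
              _ = k⁻¹ * ((k * a * k⁻¹) * k) := h4
              _ = a := by group
          rwa [h2] at ha
      · refine Solv.mem_normalizer_of_conj_smul ?_
        rw [Subgroup.smul_inf, Solv.conj_smul_of_mem_normalizer hn,
          Solv.conj_smul_of_mem_normalizer]
        simp [Subgroup.normalizer_eq_top]
    have hle : Z0 ≤ pCore p H := le_sSup ⟨inferInstance, hSyl.isPGroup.to_le
      ((hZ0 ▸ inf_le_left : Z0 ≤ Z).trans hZS)⟩
    rw [h0] at hle
    exact fun q hq hc => Subgroup.mem_bot.1 (hle (hZ0 ▸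
      ⟨hq, Subgroup.mem_centralizer_iff.2 fun k hk => (hc k hk).symm⟩))
  have hvan : ∀ z ∈ Z, z ≠ 1 → ∀ (g : H) (i : ℕ), IsConj z (g ^ i) → Van g := by
    intro z hz hz1 g i hgi
    obtain ⟨χ, hχ⟩ := MovingCharacter.exists_vanishing hs K hK Z (hSyl.isPGroup.to_le hZS) hZab
      hfaZ htopZ hz hz1
    exact ⟨χ, hχ g i hgi⟩
  have hsing : ∀ a ∈ S, a ≠ 1 → p ∣ orderOf a := fun a ha ha1 => by
    obtain ⟨k, hk⟩ := hSyl.isPGroup ⟨a, ha⟩
    have hk' : a ^ p ^ k = 1 := congrArg Subtype.val hk
    obtain ⟨i, -, hi⟩ := (Nat.dvd_prime_pow hp.out).1 (orderOf_dvd_of_pow_eq_one hk')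
    cases i with
    | zero => exact absurd (orderOf_eq_one_iff.1 (hi.trans (pow_zero p))) ha1
    | succ i => rw [hi]; exact dvd_pow_self p i.succ_ne_zero
  have hpow : ∀ a ∈ S, a ≠ 1 → Van a → a ^ p ≠ 1 → ¬ Van (a ^ p) := by
    intro a ha ha1 hva hap hvp
    have h1 := hR a p hva hvp (hsing _ (pow_mem ha p) hap)
    rw [orderOf_pow' a hp.out.ne_zero, Nat.gcd_eq_right (hsing a ha ha1)] at h1
    exact (Nat.div_lt_self (orderOf_pos a) hp.out.one_lt).ne h1
  have hcoS : (Nat.card S).Coprime (Nat.card K) := by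
    rw [hSyl.2]; exact (hK.pow_right _).symm
  -- centralisers in `K`
  have hfix : ∀ a ∈ S, a ≠ 1 → (∀ y ∈ K, a * y = y * a → Van (a * y)) →
      ∀ y ∈ K, a * y = y * a → y = 1 := by
    intro a ha ha1 hv y hy hc
    have hco : (orderOf a).Coprime (orderOf y) := by
      exact (hcoS.coprime_dvd_left (Subgroup.orderOf_dvd_natCard S ha)).coprime_dvd_right
        (Subgroup.orderOf_dvd_natCard K hy)
    obtain ⟨m, hm⟩ := exists_pow_eq_self_of_coprime hco.symm
    have hpw : (a * y) ^ (orderOf y * m) = a := by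
      rw [(show Commute a y from hc).mul_pow, pow_mul, hm, pow_mul, pow_orderOf_eq_one, one_pow,
        mul_one]
    have hva : Van a := by simpa using hv 1 (one_mem _) (by simp)
    have h1 := hR (a * y) (orderOf y * m) (hv y hy hc) (by rw [hpw]; exact hva)
      (by rw [hpw]; exact hsing a ha ha1)
    rw [hpw, (show Commute a y from hc).orderOf_mul_eq_mul_orderOf_of_coprime hco] at h1
    refine orderOf_eq_one_iff.1 ((Nat.eq_of_mul_eq_mul_left (orderOf_pos a) ?_).symm)
    rw [mul_one]; exact h1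
  have hvy : ∀ z ∈ Z, z ≠ 1 → ∀ y ∈ K, z * y = y * z → Van (z * y) := by
    intro z hz hz1 y hy hc
    have hco : (orderOf z).Coprime (orderOf y) := by
      exact (hcoS.coprime_dvd_left (Subgroup.orderOf_dvd_natCard S (hZS hz))).coprime_dvd_right
        (Subgroup.orderOf_dvd_natCard K hy)
    obtain ⟨m, hm⟩ := exists_pow_eq_self_of_coprime hco.symm
    refine hvan z hz hz1 _ (orderOf y * m) ?_
    rw [(show Commute z y from hc).mul_pow, pow_mul, hm, pow_mul, pow_orderOf_eq_one, one_pow,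
      mul_one]
  have hexpZ : ∀ z ∈ Z, z ^ p = 1 := fun z hz => by
    by_contra h
    have hz1 : z ≠ 1 := fun e => h (by rw [e, one_pow])
    exact hpow z (hZS hz) hz1 (hvan z hz hz1 z 1 (by rw [pow_one]))  h
      (hvan _ (pow_mem hz p) h _ 1 (by rw [pow_one]))
  haveI : Nontrivial S := by
    rw [← Finite.one_lt_card_iff_nontrivial, hScard]; exact (Subgroup.one_lt_card_iff_ne_bot R).2 hR0
  haveI := hSyl.isPGroup.center_nontrivial
  have hmemZ : ∀ s : S, s ∈ Subgroup.center S ↔ (s : H) ∈ Z := fun s => by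
    rw [hZdef, Subgroup.mem_center_iff]
    exact ⟨fun h => ⟨s.2, Subgroup.mem_centralizer_iff.2 fun t ht =>
        congrArg Subtype.val (h ⟨t, ht⟩)⟩,
      fun h t => Subtype.ext (Subgroup.mem_centralizer_iff.1 h.2 t t.2)⟩
  have hZ0' : Z ≠ ⊥ := fun e => by
    obtain ⟨c, hc⟩ := exists_ne (1 : Subgroup.center S)
    exact hc (Subtype.ext (Subtype.ext (Subgroup.mem_bot.1 (e ▸ (hmemZ _).1 c.2))))
  -- elementary abelian fixed point free subgroups have order `p`
  have hfpfA : ∀ A : Subgroup H, A ≤ S → A ≠ ⊥ → (∀ a ∈ A, ∀ b ∈ A, a * b = b * a) →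
      (∀ a ∈ A, a ^ p = 1) → (∀ a ∈ A, a ≠ 1 → ∀ y ∈ K, a * y = y * a → y = 1) →
      Nat.card A = p := by
    intro A hAS hA0 hAc hAe hAf
    have hK1 : K ≠ ⊥ := fun hb => hZ0' ((Subgroup.eq_bot_iff_forall _).2 fun z hz =>
      hfaZ z hz fun k hk => by
        rw [hb, Subgroup.mem_bot] at hk
        rw [hk, one_mul, mul_one])
    obtain ⟨q, hq, hqK⟩ := Nat.exists_prime_and_dvd (fun h => hK1 (Subgroup.eq_bot_of_card_eq _ h))
    haveI := Fact.mk hq
    obtain ⟨k, hk⟩ := IsPGroup.iff_card.1 (hSyl.isPGroup.to_le hAS)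
    have hcoA : (Nat.card A).Coprime (Nat.card K) := hk ▸ hK.symm.pow_left k
    obtain ⟨D, hD, hAD⟩ := Solv.exists_invariant_sylow (A := A) (K := K)
      (by simp [Subgroup.normalizer_eq_top]) hcoA (Or.inr (inferInstance : Group.IsSolvable K)) q
    have hD1 : D ≠ ⊥ := fun e => by
      have h2 := hD.2
      rw [e, Subgroup.card_bot] at h2
      have h3 : 0 < (Nat.card K).factorization q := hq.factorization_pos_of_dvd Nat.card_pos.ne' hqK
      exact (Nat.one_lt_pow h3.ne' hq.one_lt).ne h2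
    haveI : IsMulCommutative A := ⟨⟨fun a b => Subtype.ext (hAc a a.2 b b.2)⟩⟩
    haveI := MultCoprime.isCyclic_of_fpf (A := A) inferInstance hD.isPGroup hD1 hAD
      (hcoA.coprime_dvd_right (Subgroup.card_dvd_of_le hD.1))
      (fun a ha ha1 d hd => hAf a ha ha1 d (hD.1 hd))
    have hdv : Nat.card A ∣ p := by
      rw [← IsCyclic.exponent_eq_card]
      exact Monoid.exponent_dvd_of_forall_pow_eq_one fun a => Subtype.ext (hAe a a.2)
    exact (Nat.Prime.eq_one_or_self_of_dvd hp.out _ hdv).resolve_left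
      ((Subgroup.one_lt_card_iff_ne_bot A).2 hA0).ne'
  have hcardZ : Nat.card Z = p := hfpfA Z hZS hZ0' hZab hexpZ fun z hz hz1 =>
    hfix z (hZS hz) hz1 (hvy z hz hz1)
  -- the second centre adds nothing
  have hSZ : S = Z := by
    by_contra hne
    haveI : Nontrivial (S ⧸ Subgroup.center S) := by
      refine Finite.one_lt_card_iff_nontrivial.1 (Subgroup.one_lt_index_of_ne_top fun e => hne ?_)
      exact le_antisymm (fun s hs => (hmemZ ⟨s, hs⟩).1 (e ▸ Subgroup.mem_top _)) hZS
    haveI := (hSyl.isPGroup.to_quotient (Subgroup.center S)).center_nontrivial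
    obtain ⟨c, hc⟩ := exists_ne (1 : Subgroup.center (S ⧸ Subgroup.center S))
    obtain ⟨u, hu⟩ := QuotientGroup.mk'_surjective _ (c : S ⧸ Subgroup.center S)
    have huZ : (u : H) ∉ Z := fun h => hc (Subtype.ext (by
      rw [← hu, QuotientGroup.mk'_apply, (QuotientGroup.eq_one_iff u).2 ((hmemZ u).2 h)]; rfl))
    obtain ⟨U2, hU2⟩ : ∃ U2 : Subgroup H, ∀ a, a ∈ U2 ↔ a ∈ S ∧ ∀ s ∈ S, s * a * s⁻¹ * a⁻¹ ∈ Z := by
      refine ⟨((Subgroup.center (S ⧸ Subgroup.center S)).comap
        (QuotientGroup.mk' (Subgroup.center S))).map S.subtype, fun a => ?_⟩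
      have key : ∀ a s : S, s * a * s⁻¹ * a⁻¹ ∈ Subgroup.center S ↔
          (QuotientGroup.mk' (Subgroup.center S)) s * (QuotientGroup.mk' (Subgroup.center S)) a =
          (QuotientGroup.mk' (Subgroup.center S)) a * (QuotientGroup.mk' (Subgroup.center S)) s := by
        intro a s
        rw [← QuotientGroup.eq_one_iff, ← QuotientGroup.mk'_apply, map_mul, map_mul, map_mul,
          map_inv, map_inv, mul_inv_eq_one, mul_inv_eq_iff_eq_mul]
      constructor
      · rintro ⟨a, ha, rfl⟩
        refine ⟨a.2, fun s hs => ?_⟩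
        exact (hmemZ _).1 ((key a ⟨s, hs⟩).2 (Subgroup.mem_center_iff.1 ha _))
      · rintro ⟨haS, ha⟩
        refine ⟨⟨a, haS⟩, Subgroup.mem_center_iff.2 fun q => ?_, rfl⟩
        obtain ⟨s, rfl⟩ := QuotientGroup.mk'_surjective _ q
        exact (key ⟨a, haS⟩ s).1 ((hmemZ _).2 (ha s s.2))
    have huU : (u : H) ∈ U2 := (hU2 _).2 ⟨u.2, fun s hs => by
      have h1 := Subgroup.mem_center_iff.1 c.2 (QuotientGroup.mk' (Subgroup.center S) ⟨s, hs⟩)
      rw [← hu] at h1
      exact (hmemZ _).1 ((QuotientGroup.eq_one_iff _).1 (by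
        rw [← QuotientGroup.mk'_apply, map_mul, map_mul, map_mul, map_inv, map_inv,
          mul_inv_eq_one, mul_inv_eq_iff_eq_mul]
        exact h1 : ((⟨s, hs⟩ * u * ⟨s, hs⟩⁻¹ * u⁻¹ : S) : S ⧸ Subgroup.center S) = 1))⟩
    -- elements of `U2 \ Z` vanish, with their products by elements of `K`
    have hvU : ∀ a ∈ U2, a ∉ Z → ∀ y ∈ K, Van (a * y) := by
      intro a ha haZ y hy
      obtain ⟨haS, hac⟩ := (hU2 a).1 ha
      obtain ⟨s, hs, hsa⟩ : ∃ s ∈ S, s * a ≠ a * s := by
        by_contra hall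
        push Not at hall
        exact haZ (hZdef ▸ ⟨haS, Subgroup.mem_centralizer_iff.2 hall⟩)
      set z := s * a * s⁻¹ * a⁻¹ with hzdef
      have hz : z ∈ Z := hac s hs
      have hz1 : z ≠ 1 := fun e => hsa (mul_inv_eq_iff_eq_mul.1 (mul_inv_eq_one.1 e))
      refine Van.lift K ?_
      rw [map_mul, show QuotientGroup.mk' K y = 1 from (QuotientGroup.eq_one_iff y).2 hy, mul_one]
      have hzz : Subgroup.zpowers z = Z := by
        refine Subgroup.eq_of_le_of_card_ge (Subgroup.zpowers_le.2 hz) ?_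
        rw [hcardZ, Nat.card_zpowers, orderOf_eq_prime (hexpZ z hz) hz1]
      haveI : (Subgroup.zpowers (π z)).Normal := by
        rw [← MonoidHom.map_zpowers, hzz, ← Subgroup.normalizer_eq_top_iff, eq_top_iff]
        intro g _
        obtain ⟨h, rfl⟩ := QuotientGroup.mk'_surjective K g
        obtain ⟨k, hk, m, hm, rfl⟩ := Subgroup.mem_sup_of_normal_left.1
          (htopZ.symm ▸ Subgroup.mem_top h : h ∈ K ⊔ Subgroup.normalizer (Z : Set H))
        rw [map_mul, show QuotientGroup.mk' K k = 1 from (QuotientGroup.eq_one_iff k).2 hk, one_mul]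
        exact Subgroup.le_normalizer_map _ ⟨m, hm, rfl⟩
      refine van_of_commutator (p := p) (b := π s) (z := π z)
        (fun e => hz1 (hinj z (hZS hz) e)) (by rw [← map_pow, hexpZ z hz, map_one]) ?_ ?_
      · rw [← map_mul, ← map_mul,
          Subgroup.mem_centralizer_iff.1 (hZdef ▸ hz : z ∈ S ⊓ _).2 s hs]
      · rw [← map_inv, ← map_mul, ← map_mul, ← map_mul, hzdef, inv_mul_cancel_right]
    have hup : (u : H) ^ p = 1 := by
      by_contra h
      refine hpow u u.2 (fun e => h (by rw [e, one_pow])) (by simpa using hvU u huU huZ 1 (one_mem _))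
        h ?_
      by_cases hZp : (u : H) ^ p ∈ Z
      · exact hvan _ hZp h _ 1 (by rw [pow_one])
      · simpa using hvU _ (pow_mem huU p) hZp 1 (one_mem _)
    obtain ⟨A, hA⟩ : ∃ A, A = Subgroup.closure (insert (u : H) (Z : Set H)) := ⟨_, rfl⟩
    have hgen : ∀ a ∈ insert (u : H) (Z : Set H), a ∈ U2 := by
      rintro a (rfl | ha)
      · exact huU
      · refine (hU2 a).2 ⟨hZS ha, fun s hs => ?_⟩
        rw [Subgroup.mem_centralizer_iff.1 (hZdef ▸ ha : a ∈ S ⊓ _).2 s hs, mul_inv_cancel_right,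
          mul_inv_cancel]
        exact one_mem _
    have hcomm : ∀ a ∈ insert (u : H) (Z : Set H), ∀ b ∈ insert (u : H) (Z : Set H),
        a * b = b * a := by
      rintro a (rfl | ha) b (rfl | hb)
      · rfl
      · exact Subgroup.mem_centralizer_iff.1 (hZdef ▸ hb : b ∈ S ⊓ _).2 _ u.2
      · exact (Subgroup.mem_centralizer_iff.1 (hZdef ▸ ha : a ∈ S ⊓ _).2 _ u.2).symm
      · exact hZab a ha b hb
    haveI := Subgroup.isMulCommutative_closure hcomm
    have hAU : A ≤ U2 := hA ▸ (Subgroup.closure_le U2).2 hgen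
    have hZA : Z ≤ A := hA ▸ fun a ha => Subgroup.subset_closure (Or.inr ha)
    have huA : (u : H) ∈ A := hA ▸ Subgroup.subset_closure (Or.inl rfl)
    have hAc : ∀ a ∈ A, ∀ b ∈ A, a * b = b * a := fun a ha b hb =>
      congrArg Subtype.val (mul_comm' (⟨a, hA ▸ ha⟩ : Subgroup.closure _) ⟨b, hA ▸ hb⟩)
    have hAe : ∀ a ∈ A, a ^ p = 1 := fun a ha => by
      have ha' := ha
      rw [hA] at ha'
      induction ha' using Subgroup.closure_induction with
      | mem a hm =>
        rcases hm with rfl | hm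
        · exact hup
        · exact hexpZ a hm
      | one => exact one_pow p
      | mul a b h1 h2 e1 e2 =>
        rw [(show Commute a b from hAc a (hA ▸ h1) b (hA ▸ h2)).mul_pow, e1 (hA ▸ h1),
          e2 (hA ▸ h2), one_mul]
      | inv a h1 e1 => rw [inv_pow, e1 (hA ▸ h1), inv_one]
    have hcA := hfpfA A (fun a ha => ((hU2 a).1 (hAU ha)).1) (ne_bot_of_le_ne_bot hZ0' hZA) hAc hAe
      fun a ha ha1 => hfix a ((hU2 a).1 (hAU ha)).1 ha1 fun y hy hc => by
        by_cases haZ : a ∈ Z
        · exact hvy a haZ ha1 y hy hc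
        · exact hvU a (hAU ha) haZ y hy
    exact huZ (Subgroup.eq_of_le_of_card_ge hZA (by rw [hcA, hcardZ]) ▸ huA)
  -- the quotient by `R` embeds in the automorphism group of `R`
  have hcardR : Nat.card R = p := by rw [← hScard, hSZ, hcardZ]
  haveI : IsCyclic R := isCyclic_of_prime_card hcardR
  let φ : H ⧸ K →* MulAut R := MulAut.conjNormal
  have hker : φ.ker ≤ R := fun a ha => hcen (Subgroup.mem_centralizer_iff.2 fun r hr => by
    have h1 := congrArg Subtype.val (DFunLike.congr_fun (MonoidHom.mem_ker.1 ha) ⟨r, hr⟩)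
    simp only [φ, MulAut.conjNormal_apply, MulAut.one_apply] at h1
    exact (mul_inv_eq_iff_eq_mul.1 h1).symm)
  have hd2 : Nat.card (H ⧸ K) ∣ p * (p - 1) := by
    rw [← φ.ker.card_mul_index, Subgroup.index_ker]
    refine mul_dvd_mul (hcardR ▸ Subgroup.card_dvd_of_le hker) ?_
    refine (Subgroup.card_subgroup_dvd_card φ.range).trans ?_
    rw [IsCyclic.card_mulAut, hcardR, Nat.totient_prime hp.out]
  have h3 := hdK.trans hd2
  rw [pow_two] at h3
  have h4 := Nat.le_of_dvd (Nat.sub_pos_of_lt hp.out.one_lt) (Nat.dvd_of_mul_dvd_mul_left hp.out.pos h3)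
  have := hp.out.one_lt
  omega

/-- The main consequence, when the vanishing `p`-singular elements share one order. -/
theorem card_sylow_le {p : ℕ} [hp : Fact p.Prime] (hs : Group.IsSolvable G) {b : ℕ}
    (hb : ∀ g : G, Van g → p ∣ orderOf g → orderOf g = b) (P : Sylow p G) :
    Nat.card (P : Subgroup G) ≤ p * Nat.card (pCore p G) := by
  haveI := hs
  obtain ⟨N, hN⟩ : ∃ N, N = pCore p G := ⟨_, rfl⟩
  haveI : N.Normal := hN ▸ inferInstance
  have h0 : pCore p (G ⧸ N) = ⊥ := by subst hN; exact Fusion.pCore_quotient_eq_bot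
  have hsq : Group.IsSolvable (G ⧸ N) :=
    Group.isSolvable_of_surjective (QuotientGroup.mk'_surjective N)
  have hR : Rigid p (G ⧸ N) := by
    intro u m hu hum hdiv
    obtain ⟨g, rfl⟩ := QuotientGroup.mk'_surjective N u
    rw [← map_pow] at hum hdiv
    have h1 : orderOf g = b := hb g hu.lift (hdiv.trans ((orderOf_map_dvd _ _).trans
      (orderOf_pow_dvd m)))
    have h2 : orderOf (g ^ m) = b := hb _ hum.lift (hdiv.trans (orderOf_map_dvd _ _))
    have h3 : (orderOf g).gcd m = 1 := by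
      rcases Nat.eq_zero_or_pos m with rfl | hm
      · rw [pow_zero, map_one, orderOf_one] at hdiv
        exact absurd (Nat.dvd_one.1 hdiv) hp.out.ne_one
      · rw [orderOf_pow' g hm.ne', ← h1] at h2
        rcases Nat.div_eq_self.1 h2 with h | h
        · exact absurd h (orderOf_pos g).ne'
        · exact h
    exact Nat.Coprime.orderOf_pow (Nat.Coprime.coprime_dvd_left (orderOf_map_dvd _ _) h3)
  have h1 := not_sq_dvd hsq h0 hR
  have hG : Nat.card G ≠ 0 := Nat.card_pos.ne'
  rw [P.card_eq_multiplicity, ← hN, N.card_eq_card_quotient_mul_card_subgroup,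
    Nat.factorization_mul Nat.card_pos.ne' Nat.card_pos.ne', Finsupp.add_apply, pow_add]
  refine Nat.mul_le_mul ?_ (Nat.le_of_dvd Nat.card_pos (Nat.ordProj_dvd _ p))
  refine (Nat.pow_le_pow_right hp.out.pos (Nat.lt_succ_iff.1 ?_)).trans (pow_one p).le
  by_contra hlt
  exact h1 ((pow_dvd_pow p (not_lt.1 hlt)).trans (Nat.ordProj_dvd _ p))

end Cfsg.Agent.Char.VanishingSingular
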