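import Cfsg.Agent.Lib.Char.CentralDefect
import Cfsg.Agent.S0887
import Cfsg.Agent.Lib.Char.RestrictIrred
import Cfsg.Agent.Lib.Char.Inflate

/-!
# Weights: a defect zero character over a normal `p`-subgroup
-/

set_option autoImplicit false
set_option linter.unusedSectionVars false
set_option linter.style.haveILetI false

namespace Cfsg.Agent.Char.Weight

open Cfsg Cfsg.Agent.Char
open scoped ComplexConjugate

universe u

variable {G : Type u} [Group G] [Fintype G] {M : Ideal AlgInt} {p : ℕ} [Fact p.Prime]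
  {P : Subgroup G} {θ : IrrCharacter G}

theorem deg_le_index [P.Normal] (htriv : ∀ u ∈ P, (θ : G → ℂ) u = (θ : G → ℂ) 1) :
    deg (θ : G → ℂ) ∣ P.index := by
  haveI := Fintype.ofFinite (G ⧸ P)
  obtain ⟨φ, hφ⟩ := exists_quotient_char P θ htriv
  have e : deg (φ : G ⧸ P → ℂ) = deg (θ : G → ℂ) := by
    have h := hφ 1
    rw [QuotientGroup.mk_one, char_one_eq_deg (irr_isCharacter φ.2),
      char_one_eq_deg (irr_isCharacter θ.2)] at h
    exact_mod_cast h
  rw [← e, Subgroup.index_eq_card]
  exact deg_dvd_card φ.2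

theorem vanish_over [P.Normal] (hp : p.Prime)
    (htriv : ∀ u ∈ P, (θ : G → ℂ) u = (θ : G → ℂ) 1)
    (hdeg : (deg (θ : G → ℂ)).factorization p = P.index.factorization p)
    {g : G} (hg : pptElem p g ∉ P) : (θ : G → ℂ) g = 0 := by
  classical
  obtain ⟨φ, hφ⟩ := exists_quotient_char P θ htriv
  obtain ⟨k, ρ, hρ, hρc⟩ : IsIrrCharacter (G ⧸ P) (φ : G ⧸ P → ℂ) := φ.2
  haveI := hρ
  obtain ⟨⟨y, hxy, hcm, ⟨j, hj⟩, hy⟩, -, -⟩ := preg_spec hp g
  rw [← hφ g, ← hρc]
  have hk : Cfsg.Agent.Char.deg (θ : G → ℂ) = Module.finrank ℂ (Fin k → ℂ) := by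
    have h1 := char_one_eq_deg (irr_isCharacter θ.2)
    rw [← hφ 1, ← hρc, QuotientGroup.mk_one, Representation.char_one] at h1
    exact_mod_cast h1.symm
  have hcard : Nat.card (G ⧸ P) = P.index := (Subgroup.index_eq_card P).symm
  refine Cfsg.Agent.S0165.result ρ p (P.index.factorization p) hp ?_ ?_ ?_ _ ?_
  · rw [hcard]; exact Nat.ordProj_dvd _ _
  · rw [hcard]
    exact Nat.pow_succ_factorization_not_dvd Subgroup.index_ne_zero_of_finite hp
  · rw [← hk, ← hdeg]; exact Nat.ordProj_dvd _ _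
  · set x := pptElem p g with hx
    have hco : Commute (QuotientGroup.mk' P x) (QuotientGroup.mk' P y) := hcm.map _
    have hcop : (orderOf (QuotientGroup.mk' P x)).Coprime (orderOf (QuotientGroup.mk' P y)) := by
      refine Nat.Coprime.coprime_dvd_left (orderOf_map_dvd _ x) ?_
      refine Nat.Coprime.coprime_dvd_right (orderOf_map_dvd _ y) ?_
      rw [show x = g * (preg p g)⁻¹ from rfl, hj]
      exact Nat.Coprime.pow_left _ (hp.coprime_iff_not_dvd.mpr hy)
    have hg' : (g : G ⧸ P) = QuotientGroup.mk' P x * QuotientGroup.mk' P y := by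
      rw [← map_mul]; exact (congrArg (QuotientGroup.mk' P) hxy).symm
    rw [hg', hco.orderOf_mul_eq_mul_orderOf_of_coprime hcop]
    refine dvd_mul_of_dvd_left ?_ _
    have hd : orderOf (QuotientGroup.mk' P x) ∣ p ^ j := hj ▸ orderOf_map_dvd _ x
    obtain ⟨i, -, hi⟩ := (Nat.dvd_prime_pow hp).mp hd
    rw [hi]
    refine dvd_pow_self p fun h0 => hg ?_
    rw [h0, pow_zero, orderOf_eq_one_iff] at hi
    exact (QuotientGroup.eq_one_iff _).mp hi

/-- A normal `p`-subgroup carrying such a character is the largest one. -/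
theorem normal_pgroup_le [P.Normal] (hP : IsPGroup p P)
    (htriv : ∀ u ∈ P, (θ : G → ℂ) u = (θ : G → ℂ) 1)
    (hdeg : (deg (θ : G → ℂ)).factorization p = P.index.factorization p)
    (R : Subgroup G) [R.Normal] (hR : IsPGroup p R) : R ≤ P := by
  classical
  have hp : p.Prime := Fact.out
  set N := P ⊔ R with hN
  haveI : Fintype N := Fintype.ofFinite N
  have hNp : IsPGroup p N := IsPGroup.to_sup_of_normal_left hP hR
  intro r hr
  by_contra hrP
  have hz : ∀ x ∈ N, x ∉ P → (θ : G → ℂ) x = 0 := fun x hx hxP => by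
    refine vanish_over hp htriv hdeg ?_
    obtain ⟨k, hk⟩ := ppow_of_mem hNp hx
    rwa [show pptElem p x = x by
      simpa using ppt_of_mul hp (Commute.one_right x) ⟨k, hk⟩
        (by rw [orderOf_one]; exact hp.not_dvd_one)]
  have hne : classInner (indFun N (fun _ => (1 : ℂ))) (θ : G → ℂ) ≠ 0 := by
    rw [frobenius N (fun _ => (1 : ℂ))
      (isClassFunction_character (irr_isCharacter θ.2))]
    rw [classInner, Finset.sum_congr rfl (g := fun x : N =>
      if (x : G) ∈ P then conj ((θ : G → ℂ) 1) else 0) fun x _ => ?_]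
    · rw [Finset.sum_ite, Finset.sum_const_zero, add_zero, Finset.sum_const, nsmul_eq_mul]
      refine mul_ne_zero (inv_ne_zero (Nat.cast_ne_zero.mpr Nat.card_pos.ne'))
        (mul_ne_zero (Nat.cast_ne_zero.mpr (Finset.card_ne_zero.mpr
          ⟨1, by simp [P.one_mem]⟩)) ((map_ne_zero _).mpr (irr_one_ne_zero θ.2)))
    · split_ifs with h
      · rw [htriv _ h, one_mul]
      · rw [hz _ x.2 h, map_zero, mul_zero]
  have h1 := constituent_trivial_on N θ hne (Subgroup.mem_sup_right hr : r ∈ N)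
  rw [hz r (Subgroup.mem_sup_right hr) hrP] at h1
  exact irr_one_ne_zero θ.2 h1.symm

/-- The defect group of the block of a character of defect zero modulo `P`. -/
theorem defect (h : CDData p P θ) (hM : IsPModular p M) {B : Set (IrrCharacter G)}
    (hB : IsPBlock M B) (hθ : θ ∈ B) : IsDefectGroup p M B P := by
  classical
  haveI := normal_of_sup h.sup
  haveI := Fintype.ofFinite (ConjClasses G)
  have hp := h.prime
  have hMp := pmod_prime hM
  obtain ⟨D, hD⟩ := exists_isDefectGroup hM hB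
  have hPD : P ≤ D := pCore_le_defectGroup hM hB hD P h.pgroup
  suffices hle : Nat.card D ≤ Nat.card P by
    exact (Subgroup.eq_of_le_of_card_ge hPD hle).symm ▸ hD
  set f : G → ℂ := fun g =>
    (Nat.card P : ℂ) * (θ : G → ℂ) 1 / (Nat.card G : ℂ) * (conj ((θ : G → ℂ) g) * regInd p g)
    with hf
  have hfc : IsClassFunction G f := fun g t => by
    simp only [hf, isClassFunction_character (irr_isCharacter θ.2) g t, isClassFunction_regInd p g t]
  have h1 : lam (θ : G → ℂ) f = 1 := by
    have hs := h.sum_norm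
    rw [Finset.sum_filter] at hs
    rw [lam, div_eq_one_iff_eq (irr_one_ne_zero θ.2)]
    calc ∑ x : G, f x * (θ : G → ℂ) x = (θ : G → ℂ) 1 / (Nat.card G : ℂ) * ((Nat.card P : ℂ) *
          ∑ x : G, if ¬ p ∣ orderOf x then (θ : G → ℂ) x * conj ((θ : G → ℂ) x) else 0) := by
            simp only [Finset.mul_sum]
            refine Finset.sum_congr rfl fun x _ => ?_
            simp only [hf, regInd]
            split_ifs <;> ring
      _ = _ := by
            rw [hs, div_mul_cancel₀ _ (Nat.cast_ne_zero.mpr Nat.card_pos.ne')]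
  rw [lam_eq_sum_omega (isClassFunction_character (irr_isCharacter θ.2)) hfc] at h1
  obtain ⟨C, hC⟩ : ∃ C : ConjClasses G,
      ¬ MemLocalIdeal M (f C.out * omega (θ : G → ℂ) C.out) := by
    by_contra hne
    push Not at hne
    exact memLI_one_iff hMp (h1 ▸ memLI_sum hMp _ _ fun C _ => hne C)
  set r := C.out
  have hint : IsIntegral ℤ (conj ((θ : G → ℂ) r)) :=
    (char_isIntegral (irr_isCharacter θ.2) r).map (starRingEnd ℂ).toIntAlgHom
  have hu := h.unit_ratio hM
  have hom : ¬ MemLocalIdeal M (omega (θ : G → ℂ) r) := fun hh => hC (by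
    refine memLI_mul_left hMp ?_ hh
    simp only [hf]
    refine memLR_mul hMp hu (memLR_mul hMp (memLocalRing_of_isIntegral hMp.ne_top hint) ?_)
    simp only [regInd]; split_ifs; exacts [memLR_zero hMp, memLR_one hMp])
  have hth : ¬ MemLocalIdeal M (conj ((θ : G → ℂ) r)) := fun hh => hC (by
    refine memLI_mul_right hMp ?_ (memLR_omega hMp θ.2 _)
    simp only [hf]
    refine memLI_mul_left hMp hu (memLI_mul_right hMp hh ?_)
    simp only [regInd]; split_ifs; exacts [memLR_zero hMp, memLR_one hMp])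
  obtain ⟨g, hg, hDg⟩ := (isDefectGroup_iff B D).mp hD
  obtain ⟨Q, hQ⟩ := exists_isSylCent p r
  obtain ⟨x, hx⟩ := defect_le_of_omega hM hB hg hDg hθ hom hQ
  refine (Subgroup.card_le_of_le hx).trans ?_
  rw [Subgroup.card_map_of_injective (MulEquiv.injective _), hQ.card hp]
  obtain ⟨n, hn⟩ := IsPGroup.iff_card.mp h.pgroup
  rw [hn]
  refine Nat.pow_le_pow_right hp.pos ?_
  by_contra hlt
  set c := (Nat.card (Subgroup.centralizer ({r} : Set G))).factorization p with hc
  set k := Nat.card {x : G // IsConj r x} with hk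
  have hk0 : k ≠ 0 := card_conjClass_ne_zero r
  have hsum : k.factorization p + c = n + (deg (θ : G → ℂ)).factorization p := by
    have e := congrArg (fun m => m.factorization p) (card_conjClass_mul_centralizer r)
    rw [Nat.factorization_mul hk0 Nat.card_pos.ne', Finsupp.add_apply,
      ← Subgroup.card_mul_index P, Nat.factorization_mul Nat.card_pos.ne'
        Subgroup.index_ne_zero_of_finite, Finsupp.add_apply, hn, hp.factorization_pow,
      Finsupp.single_eq_same, ← h.deg] at e
    exact e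
  set kf := k.factorization p with hkf
  have hkd : p ^ kf ∣ k := Nat.ordProj_dvd _ _
  have hksucc : ¬ p ^ (kf + 1) ∣ k := Nat.pow_succ_factorization_not_dvd hk0 hp
  obtain ⟨a, ha⟩ : p ^ (kf + 1) ∣ deg (θ : G → ℂ) :=
    (hp.pow_dvd_iff_le_factorization (deg_pos θ.2).ne').mpr (by omega)
  clear_value kf
  obtain ⟨b, hb⟩ := hkd
  have hbp : ¬ p ∣ b := fun hd => hksucc (by
    rw [hb, pow_succ]; exact mul_dvd_mul_left _ hd)
  refine hth ?_
  have e : conj ((θ : G → ℂ) r) =
      (p : ℂ) * ((a : ℂ) * (b : ℂ)⁻¹ * conj (omega (θ : G → ℂ) r)) := by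
    have hb0 : (b : ℂ) ≠ 0 := by rw [Nat.cast_ne_zero]; rintro rfl; exact hbp (dvd_zero p)
    have hp0 : (p : ℂ) ≠ 0 := Nat.cast_ne_zero.mpr hp.ne_zero
    have ha0 : (a : ℂ) ≠ 0 := by
      rw [Nat.cast_ne_zero]; rintro rfl; exact (deg_pos θ.2).ne' (by rw [ha, mul_zero])
    rw [omega, ← hk, map_div₀, map_mul, map_natCast, char_one_eq_deg (irr_isCharacter θ.2),
      map_natCast, ha, hb]
    push_cast
    rw [pow_succ]
    field_simp
  rw [e]
  refine memLI_mul_right hMp ((memLI_natCast_iff hM _).mpr dvd_rfl) ?_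
  refine memLR_mul hMp (memLR_mul hMp (memLR_natCast hMp a) (memLR_inv_natCast hM hbp)) ?_
  exact memLocalRing_of_isIntegral hMp.ne_top
    ((omega_isIntegral θ.2 r).map (starRingEnd ℂ).toIntAlgHom)

variable {C : Type u} [Group C] [Fintype C] {Q : Subgroup G} [Q.Normal]

/-- Below a character of defect zero modulo `Q` there is one on a commuting normal subgroup. -/
theorem exists_below (ι : C →* G) (hι : ι.range.Normal) (hQ : IsPGroup p Q)
    (hcom : ∀ q ∈ Q, ∀ c : C, q * ι c = ι c * q) (hinj : Function.Injective ι)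
    (htriv : ∀ u ∈ Q, (θ : G → ℂ) u = (θ : G → ℂ) 1)
    (hdeg : (deg (θ : G → ℂ)).factorization p = Q.index.factorization p) :
    ∃ ψ : IrrCharacter C, classInner (fun c => (θ : G → ℂ) (ι c)) (ψ : C → ℂ) ≠ 0 ∧
      CDData p (Q.comap ι) ψ := by
  classical
  have hp : p.Prime := Fact.out
  set N := Q ⊔ ι.range with hN
  haveI : Fintype N := Fintype.ofFinite N
  haveI : N.Normal := Subgroup.sup_normal _ _
  let Φ : Q × C →* N :=
    { toFun := fun x => ⟨(x.1 : G) * ι x.2,
        mul_mem (Subgroup.mem_sup_left x.1.2) (Subgroup.mem_sup_right ⟨x.2, rfl⟩)⟩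
      map_one' := by simp
      map_mul' := fun x y => Subtype.ext (by
        simp only [Prod.fst_mul, Prod.snd_mul, Subgroup.coe_mul, map_mul]
        exact Commute.mul_mul_mul_comm (hcom _ y.1.2 x.2) _ _) }
  have hΦ : Function.Surjective Φ := by
    rintro ⟨n, hn⟩
    obtain ⟨q, hq, -, ⟨c, rfl⟩, rfl⟩ := Subgroup.mem_sup_of_normal_left.mp hn
    exact ⟨(⟨q, hq⟩, c), rfl⟩
  have hres : IsCharacter N (fun n : N => (θ : G → ℂ) n) :=
    isCharacter_comp N.subtype (irr_isCharacter θ.2)
  obtain ⟨η, hη⟩ : ∃ η : IrrCharacter N,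
      classInner (fun n : N => (θ : G → ℂ) n) (η : N → ℂ) ≠ 0 := by
    by_contra h
    push Not at h
    have h1 := congrFun (classFun_expansion (isClassFunction_character hres)) 1
    simp only [h, zero_smul, Finset.sum_const_zero, Pi.zero_apply, Subgroup.coe_one] at h1
    exact irr_one_ne_zero θ.2 h1
  have htη : ∀ (q : G) (hq : q ∈ Q),
      (η : N → ℂ) ⟨q, Subgroup.mem_sup_left hq⟩ = (η : N → ℂ) 1 := by
    intro q hq
    obtain ⟨g, hg⟩ := (irr_isCharacter η.2)
    obtain ⟨m, hm⟩ := exists_decomposition hres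
    have hmη : m η ≠ 0 := fun h0 => hη (by rw [decomposition_coeff m hm η, h0, Nat.cast_zero])
    set x : N := ⟨q, Subgroup.mem_sup_left hq⟩
    have h1 : ∑ ψ : IrrCharacter N, (m ψ : ℂ) * ((ψ : N → ℂ) 1 - (ψ : N → ℂ) x) = 0 := by
      have e1 := congrFun hm x
      have e2 := congrFun hm 1
      simp only [nsmul_eq_mul, Finset.sum_apply, Pi.mul_apply, Pi.natCast_apply] at e1 e2
      simp only [mul_sub, Finset.sum_sub_distrib]
      rw [← e1, ← e2]
      simp only [Subgroup.coe_one]
      exact sub_eq_zero.mpr (htriv q hq).symm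
    have h2 : ∑ ψ : IrrCharacter N,
        (m ψ : ℝ) * (((ψ : N → ℂ) 1).re - ((ψ : N → ℂ) x).re) = 0 := by
      simpa using congrArg Complex.re h1
    have h3 := (Finset.sum_eq_zero_iff_of_nonneg fun ψ _ => mul_nonneg (Nat.cast_nonneg _)
      (sub_nonneg.mpr ((Complex.re_le_norm _).trans (char_norm_le (irr_isCharacter ψ.2) x)))).mp h2
      η (Finset.mem_univ _)
    have h4 := (sub_eq_zero.mp ((mul_eq_zero.mp h3).resolve_left
      (Nat.cast_ne_zero.mpr hmη))).symm
    have h5 := char_norm_le (irr_isCharacter η.2) x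
    have h6 : ‖(η : N → ℂ) x‖ ^ 2 ≤ ((η : N → ℂ) 1).re ^ 2 :=
      pow_le_pow_left₀ (norm_nonneg _) h5 2
    rw [Complex.sq_norm, Complex.normSq_apply, h4] at h6
    have h7 : ((η : N → ℂ) x).im = 0 :=
      mul_self_eq_zero.mp (le_antisymm (by nlinarith) (mul_self_nonneg _))
    refine Complex.ext h4 ?_
    rw [h7, char_one_eq_deg (irr_isCharacter η.2), Complex.natCast_im]
  set κ : C →* N := ι.codRestrict N (fun c => Subgroup.mem_sup_right ⟨c, rfl⟩) with hκ
  have hψc : IsCharacter C (fun c => (η : N → ℂ) (κ c)) := isCharacter_comp κ (irr_isCharacter η.2)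
  have hψ : IsIrrCharacter C (fun c => (η : N → ℂ) (κ c)) := by
    haveI : Fintype (Q × C) := Fintype.ofFinite _
    refine isIrr_of_comp_irr (MonoidHom.snd Q C) hψc ?_
    have e : (fun x : Q × C => (η : N → ℂ) (κ x.2)) = fun x => (η : N → ℂ) (Φ x) := by
      funext x
      rw [show Φ x = (⟨x.1, Subgroup.mem_sup_left x.1.2⟩ : N) * κ x.2 from Subtype.ext rfl,
        char_mul_of_ker (irr_isCharacter η.2) (htη _ x.1.2)]
    haveI := Fintype.ofFinite ((Q × C) ⧸ Φ.ker)
    exact e ▸ isIrr_inflate (N := Φ.ker)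
      (isIrrCharacter_comp_equiv (QuotientGroup.quotientKerEquivOfSurjective Φ hΦ) η.2)
  refine ⟨⟨_, hψ⟩, ?_, hp, hQ.comap_of_injective ι hinj, ?_, ?_, ?_⟩
  · obtain ⟨m, hm⟩ := exists_decomposition hres
    have e : (fun c => (θ : G → ℂ) (ι c)) =
        ∑ ζ : IrrCharacter N, (m ζ : ℂ) • (fun c => (ζ : N → ℂ) (κ c)) := by
      funext c
      have := congrFun hm (κ c)
      simp only [Finset.sum_apply, Pi.smul_apply, nsmul_eq_mul] at this
      simp only [Finset.sum_apply, Pi.smul_apply, smul_eq_mul]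
      exact this
    have hk : ∀ ζ : IrrCharacter N, ∃ k : ℕ, classInner (fun c => (ζ : N → ℂ) (κ c))
        (fun c => (η : N → ℂ) (κ c)) = k := fun ζ =>
      classInner_natCast (isCharacter_comp κ (irr_isCharacter ζ.2)) hψc
    choose k hk using hk
    show classInner (fun c => (θ : G → ℂ) (ι c)) (fun c => (η : N → ℂ) (κ c)) ≠ 0
    rw [e, classInner_sum_left]
    simp only [classInner_smul_left, hk]
    rw [← Finset.sum_congr rfl fun ζ _ => Nat.cast_mul (m ζ) (k ζ), ← Nat.cast_sum,
      Nat.cast_ne_zero]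
    intro h0
    have h1 := Finset.sum_eq_zero_iff.mp h0 η (Finset.mem_univ _)
    have hk1 : k η = 1 := Nat.cast_injective (R := ℂ) (by rw [← hk, irr_self hψ, Nat.cast_one])
    rw [hk1, mul_one] at h1
    exact hη (by rw [decomposition_coeff m hm η, h1, Nat.cast_zero])
  · refine sup_eq_right.mpr ?_ |>.trans ?_
    · exact le_top.trans (le_of_eq (top_le_iff.mp (fun c _ => Subgroup.mem_centralizer_iff.mpr
        fun z hz => hinj (by rw [map_mul, map_mul]; exact hcom _ hz c))).symm)
    · exact top_le_iff.mp fun c _ => Subgroup.mem_centralizer_iff.mpr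
        fun z hz => hinj (by rw [map_mul, map_mul]; exact hcom _ hz c)
  · intro z hz
    show (η : N → ℂ) (κ z) = (η : N → ℂ) (κ 1)
    rw [map_one, ← htη _ hz]
    rfl
  · haveI : Fintype (C ⧸ Q.comap ι) := Fintype.ofFinite _
    have hz : ∀ z ∈ Q.comap ι, (η : N → ℂ) (κ z) = (η : N → ℂ) (κ 1) := fun z hz => by
      rw [map_one, ← htη _ hz]; rfl
    refine le_antisymm ((Nat.factorization_le_iff_dvd (deg_pos hψ).ne'
      Subgroup.index_ne_zero_of_finite).mpr (deg_le_index (θ := ⟨_, hψ⟩) hz) p) ?_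
    have hd := Cfsg.Agent.S0887.result N (θ : G → ℂ) θ.2 (η : N → ℂ) η.2 hη
      (deg (θ : G → ℂ)) (deg (η : N → ℂ)) (char_one_eq_deg (irr_isCharacter θ.2))
      (char_one_eq_deg (irr_isCharacter η.2))
    obtain ⟨⟨w, hw⟩, hd⟩ := hd
    rw [hw, Nat.mul_div_cancel_left _ (deg_pos η.2)] at hd
    have hw0 : w ≠ 0 := fun h0 => (deg_pos θ.2).ne' (by rw [hw, h0, mul_zero])
    have h2 := (Nat.factorization_le_iff_dvd hw0 Subgroup.index_ne_zero_of_finite).mpr hd p
    have h3 : (deg (θ : G → ℂ)).factorization p =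
        (deg (η : N → ℂ)).factorization p + w.factorization p := by
      rw [hw, Nat.factorization_mul (deg_pos η.2).ne' hw0, Finsupp.add_apply]
    have hQN : Q ≤ N := le_sup_left
    have hrel : Q.relIndex N ≠ 0 := Subgroup.index_ne_zero_of_finite
    have h4 : Q.index.factorization p =
        (Q.relIndex N).factorization p + N.index.factorization p := by
      rw [← Subgroup.relIndex_mul_index hQN, Nat.factorization_mul hrel
        Subgroup.index_ne_zero_of_finite, Finsupp.add_apply]
    have h5 : (Q.comap ι).index ∣ Q.relIndex N := by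
      rw [Subgroup.index_comap, hN, sup_comm, Subgroup.relIndex_sup_right]
    have h6 := (Nat.factorization_le_iff_dvd Subgroup.index_ne_zero_of_finite
      hrel).mpr h5 p
    have h7 : deg (fun c => (η : N → ℂ) (κ c)) = deg (η : N → ℂ) := by
      have e := char_one_eq_deg hψc
      simp only [map_one, char_one_eq_deg (irr_isCharacter η.2)] at e
      exact_mod_cast e.symm
    show _ ≤ (deg (fun c => (η : N → ℂ) (κ c))).factorization p
    rw [h7]
    omega

end Cfsg.Agent.Char.Weight
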