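import Cfsg.Agent.Lib.Char.Zeros
import Cfsg.Agent.Lib.Char.Burnside
import Cfsg.Agent.Lib.Char.BlockBasic

/-!
# Many zeros of a character
-/

set_option autoImplicit false
set_option linter.unusedSectionVars false

namespace Cfsg.Agent.Char

open Cfsg
open scoped ComplexConjugate

universe u

variable {G : Type u} [Group G] [Fintype G]

/-- The modulus of a scalar value is inherited by powers. -/
theorem norm_full_pow {χ : G → ℂ} (h : IsCharacter G χ) {g : G}
    (hg : ‖χ g‖ = (charDegree χ : ℝ)) (k : ℕ) : ‖χ (g ^ k)‖ = (charDegree χ : ℝ) := by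
  obtain ⟨n, ρ, rfl⟩ := h
  rw [charDegree_eq_deg, deg_character] at hg ⊢
  obtain ⟨ω, hω⟩ := (eq_scalar_iff ρ g).mp hg
  refine (eq_scalar_iff ρ _).mpr ⟨ω ^ k, ?_⟩
  rw [map_pow, hω, ← Module.End.one_eq_id, smul_pow, one_pow]

open scoped Classical in
theorem zeros_lower_bound [DecidableEq G] (χ : G → ℂ) (hχ : IsIrrCharacter G χ) :
    (charDegree χ ^ 2 - 1) *
        (Finset.univ.filter (fun g : G => ‖χ g‖ = (charDegree χ : ℝ))).card ≤
      (Finset.univ.filter (fun g : G => χ g = 0)).card ∧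
    ((∀ g : G, ‖χ g‖ = 0 ∨ ‖χ g‖ = 1 ∨ ‖χ g‖ = (charDegree χ : ℝ)) →
      (charDegree χ ^ 2 - 1) *
        (Finset.univ.filter (fun g : G => ‖χ g‖ = (charDegree χ : ℝ))).card =
      (Finset.univ.filter (fun g : G => χ g = 0)).card) := by
  classical
  have hc := irr_isCharacter hχ
  set d := charDegree χ with hd
  have hd0 : 0 < d := deg_pos hχ
  set A := Finset.univ.filter (fun g : G => ‖χ g‖ = (d : ℝ)) with hA
  set Z := Finset.univ.filter (fun g : G => χ g = 0) with hZ
  set S := Finset.univ.filter (fun g : G => ¬ ‖χ g‖ = (d : ℝ) ∧ ¬ χ g = 0) with hS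
  have hAZ : Disjoint A Z := Finset.disjoint_filter.mpr fun g _ h1 h2 => by
    rw [h2, norm_zero] at h1
    exact hd0.ne' (by exact_mod_cast h1.symm)
  have hsplit : ∀ f : G → ℝ, ∑ g, f g = ∑ g ∈ A, f g + ∑ g ∈ Z, f g + ∑ g ∈ S, f g := fun f => by
    rw [← Finset.sum_union hAZ, ← Finset.sum_union]
    · refine (Finset.sum_congr ?_ fun _ _ => rfl).symm
      ext g
      simp only [hA, hZ, hS, Finset.mem_union, Finset.mem_filter, Finset.mem_univ, true_and]
      tauto
    · rw [Finset.disjoint_left]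
      intro g hg hg'
      simp only [hA, hZ, hS, Finset.mem_union, Finset.mem_filter, Finset.mem_univ, true_and] at hg hg'
      tauto
  have hN : ∑ g : G, ‖χ g‖ ^ 2 = (Fintype.card G : ℝ) := by
    have h := irr_self hχ
    rw [classInner, inv_mul_eq_one₀ (Nat.cast_ne_zero.mpr Nat.card_pos.ne')] at h
    apply Complex.ofReal_injective
    rw [Complex.ofReal_sum, Complex.ofReal_natCast, ← Nat.card_eq_fintype_card, h]
    exact Finset.sum_congr rfl fun g _ => by rw [Complex.mul_conj']; push_cast; rfl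
  have hcard := hsplit fun _ => 1
  simp only [Finset.sum_const, Finset.card_univ, nsmul_eq_mul, mul_one] at hcard
  rw [hsplit] at hN
  have hA2 : ∑ g ∈ A, ‖χ g‖ ^ 2 = (A.card : ℝ) * (d : ℝ) ^ 2 := by
    rw [Finset.sum_congr rfl fun g hg => by rw [(Finset.mem_filter.mp hg).2],
      Finset.sum_const, nsmul_eq_mul]
  have hZ2 : ∑ g ∈ Z, ‖χ g‖ ^ 2 = 0 := Finset.sum_eq_zero fun g hg => by
    rw [(Finset.mem_filter.mp hg).2, norm_zero, zero_pow two_ne_zero]
  rw [hA2, hZ2, add_zero] at hN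
  have hS2 : (S.card : ℝ) ≤ ∑ g ∈ S, ‖χ g‖ ^ 2 := by
    refine card_le_sum_norm_sq (galEquiv_char hc) (char_isIntegral hc) (char_inv hc) S
      (fun k hk x hx => ?_) fun x hx => (Finset.mem_filter.mp hx).2.2
    obtain ⟨-, h1, h2⟩ := Finset.mem_filter.mp hx
    refine Finset.mem_filter.mpr ⟨Finset.mem_univ _, fun hfull => h1 ?_,
      ne_zero_pow_of_galEquiv (galEquiv_char hc) hk h2⟩
    obtain ⟨m, hm⟩ := exists_pow_eq_self_of_coprime (x := x) (n := k)
      (hk.coprime_dvd_right (orderOf_dvd_natCard x))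
    rw [← hm]
    exact norm_full_pow hc hfull m
  have hcast : (((d ^ 2 - 1) * A.card : ℕ) : ℝ) = ((d : ℝ) ^ 2 - 1) * A.card := by
    rw [Nat.cast_mul, Nat.cast_sub (Nat.one_le_pow _ _ hd0), Nat.cast_pow, Nat.cast_one]
  refine ⟨?_, fun hall => ?_⟩
  · rw [← Nat.cast_le (α := ℝ), hcast]
    nlinarith
  · have hS1 : ∑ g ∈ S, ‖χ g‖ ^ 2 = (S.card : ℝ) := by
      rw [Finset.sum_congr rfl (g := fun _ => (1 : ℝ)) fun g hg => ?_, Finset.sum_const, nsmul_one]
      obtain ⟨-, h1, h2⟩ := Finset.mem_filter.mp hg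
      rw [((hall g).resolve_left fun h => h2 (norm_eq_zero.mp h)).resolve_right h1, one_pow]
    rw [← Nat.cast_inj (R := ℝ), hcast]
    nlinarith

end Cfsg.Agent.Char
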